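import Groth.Agent.Lib.Helper2.HLesLin

set_option backward.isDefEq.respectTransparency.types false
set_option autoImplicit false
universe u
open CategoryTheory CategoryTheory.Limits AlgebraicGeometry Opposite TopologicalSpace Abelian

noncomputable section

namespace Groth.Agent.Lib.Helper4.HLesFin1

open Groth.Agent.Lib.Helper2.HLes Groth.Agent.Lib.Helper2.HLesLin

variable {X : Scheme.{u}} (S : ShortComplex (SheafOfModules.{u} X.ringCatSheaf)) (hS : S.ShortExact)
  (A : Type u) [CommRing A] [X.Over (Spec (CommRingCat.of A))]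

theorem map_f_δ (p : ℕ) (x : Coh.HH X S.X₃ p) :
    Sheaf.H.map ((SheafOfModules.toSheaf X.ringCatSheaf).map S.f) (p + 1) (δ (shortExact_Sab S hS) p x) = 0 := by
  have h := ShortComplex.ShortExact.extClass_comp (shortExact_Sab S hS)
  change ((x.comp (shortExact_Sab S hS).extClass rfl).comp (Ext.mk₀ (Sab S).f) (add_zero (p + 1))) = 0
  rw [Ext.comp_assoc_of_third_deg_zero]
  exact (congrArg (fun e => x.comp e rfl) h).trans (Ext.comp_zero _ _ _ _ _)

theorem range_eq_ker₁ (p : ℕ) :
    LinearMap.range (δLin S hS A p) = LinearMap.ker (Canon.HHlin A S.f (p + 1)) := by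
  ext x
  constructor
  · rintro ⟨y, rfl⟩
    rw [LinearMap.mem_ker]
    exact map_f_δ S hS p y
  · intro hx
    rw [LinearMap.mem_ker] at hx
    obtain ⟨y, hy⟩ := exact₁ (shortExact_Sab S hS) p x hx
    exact ⟨y, hy⟩

include hS in
theorem injective_zero : Function.Injective (Canon.HHlin A S.f 0) := by
  haveI : Mono (Sab S).f := (shortExact_Sab S hS).mono_f
  exact Ext.postcomp_mk₀_injective_of_mono _ (Sab S).f

variable [IsNoetherianRing A]

include hS in
/-- finiteness of the first term in positive degrees -/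
theorem finite₁_succ (p : ℕ) (h₃ : Module.Finite A (Coh.HH X S.X₃ p))
    (h₂ : Module.Finite A (Coh.HH X S.X₂ (p + 1))) : Module.Finite A (Coh.HH X S.X₁ (p + 1)) := by
  have : IsNoetherian A (Coh.HH X S.X₃ p) := isNoetherian_of_isNoetherianRing_of_finite A _
  have : IsNoetherian A (Coh.HH X S.X₂ (p + 1)) := isNoetherian_of_isNoetherianRing_of_finite A _
  have h := isNoetherian_of_range_eq_ker (δLin S hS A p) (Canon.HHlin A S.f (p + 1))
    (range_eq_ker₁ S hS A p)
  exact @Module.IsNoetherian.finite A _ _ _ _ h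

include hS in
/-- finiteness of the first term in degree zero -/
theorem finite₁_zero (h₂ : Module.Finite A (Coh.HH X S.X₂ 0)) : Module.Finite A (Coh.HH X S.X₁ 0) := by
  have : IsNoetherian A (Coh.HH X S.X₂ 0) := isNoetherian_of_isNoetherianRing_of_finite A _
  exact Module.Finite.of_injective (Canon.HHlin A S.f 0) (injective_zero S hS A)

include hS in
/-- finiteness of the first term -/
theorem finite₁ (h₂ : ∀ p, Module.Finite A (Coh.HH X S.X₂ p)) (h₃ : ∀ p, Module.Finite A (Coh.HH X S.X₃ p))
    (p : ℕ) : Module.Finite A (Coh.HH X S.X₁ p) := by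
  cases p with
  | zero => exact finite₁_zero S hS A (h₂ 0)
  | succ p => exact finite₁_succ S hS A p (h₃ p) (h₂ (p + 1))

end Groth.Agent.Lib.Helper4.HLesFin1
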