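import Mathlib.Tactic
import Mathlib.AlgebraicGeometry.Morphisms.FlatDescent
import Mathlib.AlgebraicGeometry.Morphisms.Finite
import Mathlib.RingTheory.Finiteness.Descent

set_option autoImplicit false
universe u
open CategoryTheory AlgebraicGeometry Limits MorphismProperty

namespace Groth.Agent.Lib.Helper4.AffineDescent

section key
variable {X Y S T : Scheme.{u}} {f : T ⟶ S} {g : Y ⟶ X} {iX : X ⟶ S} {iY : Y ⟶ T}
  (H : IsPullback g iY iX f)
include H

theorem surjective_g [Surjective f] : Surjective g :=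
  MorphismProperty.of_isPullback (P := @Surjective) H.flip inferInstance

theorem compactSpace [Surjective f] [CompactSpace Y] : CompactSpace X := by
  have := surjective_g H
  constructor
  rw [← Set.range_eq_univ.mpr g.surjective]
  exact isCompact_range g.continuous

theorem isAffineHom_g [IsAffineHom f] : IsAffineHom g :=
  MorphismProperty.of_isPullback (P := @IsAffineHom) H.flip inferInstance

theorem quasiSeparatedSpace [Surjective f] [IsAffineHom f] [QuasiSeparatedSpace Y] :
    QuasiSeparatedSpace X := by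
  have := surjective_g H
  have := isAffineHom_g H
  rw [quasiSeparatedSpace_iff_forall_affineOpens]
  intro U V
  have hU : IsAffineOpen (g ⁻¹ᵁ U.1) := U.2.preimage g
  have hV : IsAffineOpen (g ⁻¹ᵁ V.1) := V.2.preimage g
  have hc : IsCompact ((g ⁻¹ᵁ U.1 : Set Y) ∩ (g ⁻¹ᵁ V.1 : Set Y)) :=
    QuasiSeparatedSpace.inter_isCompact _ _ (g ⁻¹ᵁ U.1).2 hU.isCompact (g ⁻¹ᵁ V.1).2 hV.isCompact
  have himg : (U.1 : Set X) ∩ (V.1 : Set X) =
      g '' ((g ⁻¹ᵁ U.1 : Set Y) ∩ (g ⁻¹ᵁ V.1 : Set Y)) := by
    ext x
    constructor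
    · rintro ⟨hxU, hxV⟩
      obtain ⟨y, rfl⟩ := g.surjective x
      exact ⟨y, ⟨hxU, hxV⟩, rfl⟩
    · rintro ⟨y, ⟨hyU, hyV⟩, rfl⟩
      exact ⟨hyU, hyV⟩
  rw [himg]
  exact hc.image g.continuous

theorem isPushout_appTop [Flat f] [IsAffine S] [IsAffine T] [CompactSpace X]
    [QuasiSeparatedSpace X] :
    IsPushout iX.appTop f.appTop g.appTop iY.appTop := by
  have h1 : IsIso (pushoutSection H (US := ⊤) (UT := ⊤) (UX := ⊤) le_top le_top
      (UY := ⊤) (by simp)) :=
    isIso_pushoutSection_of_isQuasiSeparated_of_flat_right H _ _ _ (isAffineOpen_top S)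
      (isAffineOpen_top T) isCompact_univ isQuasiSeparated_univ
  have h2 := (isIso_pushoutSection_iff H (US := ⊤) (UT := ⊤) (UX := ⊤) le_top le_top
      (UY := ⊤) (by simp)).mp h1
  convert h2 using 1 <;> simp [Scheme.Hom.appTop, Scheme.Hom.app_eq_appLE]

theorem isPullback_Spec [Flat f] [IsAffine S] [IsAffine T] [CompactSpace X]
    [QuasiSeparatedSpace X] :
    IsPullback (Spec.map iY.appTop) (Spec.map g.appTop) (Spec.map f.appTop) (Spec.map iX.appTop) :=
  (isPushout_appTop H).op.map Scheme.Spec

theorem isPullback_toSpecΓ [Flat f] [IsAffine S] [IsAffine T] [CompactSpace X]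
    [QuasiSeparatedSpace X] :
    IsPullback Y.toSpecΓ g (Spec.map g.appTop) X.toSpecΓ := by
  have sq2 : IsPullback T.toSpecΓ f (Spec.map f.appTop) S.toSpecΓ :=
    IsPullback.of_horiz_isIso ⟨(Scheme.toSpecΓ_naturality f).symm⟩
  have outer := H.flip.paste_horiz sq2
  rw [Scheme.toSpecΓ_naturality, Scheme.toSpecΓ_naturality] at outer
  exact IsPullback.of_right outer (Scheme.toSpecΓ_naturality g).symm (isPullback_Spec H)

set_option backward.isDefEq.respectTransparency false in
theorem isAffine_of_isPullback [Flat f] [Surjective f] [IsAffine S] [IsAffine T] [IsAffine Y] :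
    IsAffine X := by
  have : IsAffineHom f := inferInstance
  have := compactSpace H
  have := quasiSeparatedSpace H
  have sq := isPullback_toSpecΓ H
  have hq : (@Surjective ⊓ @Flat ⊓ @QuasiCompact : MorphismProperty Scheme.{u})
      (Spec.map g.appTop) := by
    have h1 : Surjective (Spec.map f.appTop) :=
      (MorphismProperty.arrow_mk_iso_iff @Surjective (arrowIsoSpecΓOfIsAffine f)).mp inferInstance
    have h1' : Flat (Spec.map f.appTop) :=
      (MorphismProperty.arrow_mk_iso_iff @Flat (arrowIsoSpecΓOfIsAffine f)).mp inferInstance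
    have h2 : Surjective (Spec.map g.appTop) :=
      MorphismProperty.of_isPullback (P := @Surjective) (isPullback_Spec H) h1
    have h2' : Flat (Spec.map g.appTop) :=
      MorphismProperty.of_isPullback (P := @Flat) (isPullback_Spec H) h1'
    exact ⟨⟨h2, h2'⟩, inferInstance⟩
  have hiso : (isomorphisms Scheme.{u}) X.toSpecΓ :=
    MorphismProperty.of_isPullback_of_descendsAlong sq hq
      (inferInstanceAs (IsIso Y.toSpecΓ))
  have : IsIso X.toSpecΓ := hiso
  exact ⟨this⟩

end key

set_option backward.isDefEq.respectTransparency false in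
/-- Affine morphisms satisfy fpqc descent. -/
instance descendsAlong_isAffineHom :
    DescendsAlong @IsAffineHom.{u} (@Surjective ⊓ @Flat ⊓ @QuasiCompact) := by
  refine IsZariskiLocalAtTarget.descendsAlong_inf_quasiCompact _ _ ?_ ?_
  · rw [inf_comm]
    exact inf_le_inf le_rfl (IsLocalIso.le_of_isZariskiLocalAtSource _)
  intro R S Y φ g ⟨_, _⟩ hfst
  have : IsAffineHom (pullback.fst (Spec.map φ) g) := hfst
  have : IsAffine (pullback (Spec.map φ) g) := isAffine_of_isAffineHom (pullback.fst _ _)
  have : IsAffine Y := isAffine_of_isPullback (IsPullback.of_hasPullback (Spec.map φ) g).flip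
  infer_instance

theorem isAffineHom_of_isPullback {A X Y Z : Scheme.{u}} {fst : A ⟶ X} {snd : A ⟶ Y}
    {f : X ⟶ Z} {g : Y ⟶ Z} (h : IsPullback fst snd f g) [Surjective f] [Flat f] [QuasiCompact f]
    [IsAffineHom fst] : IsAffineHom g :=
  MorphismProperty.of_isPullback_of_descendsAlong (P := @IsAffineHom)
    (Q := (@Surjective ⊓ @Flat ⊓ @QuasiCompact : MorphismProperty Scheme.{u})) h
    ⟨⟨inferInstance, inferInstance⟩, inferInstance⟩ inferInstance

set_option backward.isDefEq.respectTransparency false in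
/-- general version of Mathlib's `HasAffineProperty.descendsAlong_of_affineAnd` for fpqc. -/
theorem descendsAlong_of_affineAnd {P : MorphismProperty Scheme.{u}}
    {Q : ∀ {R S : Type u} [CommRing R] [CommRing S], (R →+* S) → Prop}
    [P.IsStableUnderBaseChange]
    (hP : HasAffineProperty P (affineAnd Q))
    (hQ : RingHom.RespectsIso Q) (hQQ' : RingHom.CodescendsAlong Q RingHom.FaithfullyFlat) :
    P.DescendsAlong (@Surjective ⊓ @Flat ⊓ @QuasiCompact) := by
  have H₁ : (@IsLocalIso ⊓ @Surjective : MorphismProperty Scheme.{u}) ≤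
      (@Surjective ⊓ @Flat : MorphismProperty Scheme.{u}) := by
    rw [inf_comm]
    exact inf_le_inf le_rfl (IsLocalIso.le_of_isZariskiLocalAtSource _)
  apply IsZariskiLocalAtTarget.descendsAlong_inf_quasiCompact _ _ H₁
  introv h hf
  have : IsAffine Y := by
    have h1 : IsAffineHom (pullback.fst (Spec.map φ) g) :=
      AlgebraicGeometry.HasAffineProperty.affineAnd_le_isAffineHom P inferInstance _ hf
    have : IsAffine (pullback (Spec.map φ) g) := isAffine_of_isAffineHom (pullback.fst _ _)
    have := h.1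
    have := h.2
    exact isAffine_of_isPullback (IsPullback.of_hasPullback (Spec.map φ) g).flip
  wlog hY : ∃ S, Y = Spec S generalizing Y
  · rw [← P.cancel_left_of_respectsIso Y.isoSpec.inv]
    have heq : pullback.fst (Spec.map φ) (Y.isoSpec.inv ≫ g) =
        pullback.map _ _ _ _ (𝟙 _) (Y.isoSpec.inv) (𝟙 _) (by simp) (by simp) ≫
          pullback.fst (Spec.map φ) g := (pullback.lift_fst _ _ _).symm
    refine this _ ?_ inferInstance ⟨_, rfl⟩
    rwa [heq, P.cancel_left_of_respectsIso]
  obtain ⟨Y, rfl⟩ := hY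
  apply of_pullback_fst_Spec_of_codescendsAlong (P := P)
    (P' := (@Surjective ⊓ @Flat : MorphismProperty Scheme.{u})) hQQ' ?_ ?_ h hf
  · intro _ _ f hf
    rwa [← flat_and_surjective_SpecMap_iff, and_comm]
  · intro R S f
    exact HasAffineProperty.SpecMap_iff_of_affineAnd hP hQ f

set_option backward.isDefEq.respectTransparency false in
/-- Finite morphisms satisfy fpqc descent. -/
instance descendsAlong_isFinite :
    DescendsAlong @IsFinite.{u} (@Surjective ⊓ @Flat ⊓ @QuasiCompact) :=
  descendsAlong_of_affineAnd (Q := RingHom.Finite) inferInstance RingHom.finite_respectsIso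
    RingHom.Finite.codescendsAlong_faithfullyFlat

theorem isFinite_of_isPullback {A X Y Z : Scheme.{u}} {fst : A ⟶ X} {snd : A ⟶ Y}
    {f : X ⟶ Z} {g : Y ⟶ Z} (h : IsPullback fst snd f g) [Surjective f] [Flat f] [QuasiCompact f]
    [IsFinite fst] : IsFinite g :=
  MorphismProperty.of_isPullback_of_descendsAlong (P := @IsFinite)
    (Q := (@Surjective ⊓ @Flat ⊓ @QuasiCompact : MorphismProperty Scheme.{u})) h
    ⟨⟨inferInstance, inferInstance⟩, inferInstance⟩ inferInstance

end Groth.Agent.Lib.Helper4.AffineDescent
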