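import Mathlib

set_option autoImplicit false
universe u
open CategoryTheory CategoryTheory.Limits AlgebraicGeometry Opposite TopologicalSpace

namespace Groth.Agent.Lib.Helper4.ChowCover

variable {X : Scheme.{u}}

/-- the open complement of the other irreducible components -/
def N (Z : Set X) : Set X := (⋃₀ (irreducibleComponents X \ {Z}))ᶜ

variable [IsNoetherian X]

variable (X) in
theorem finC : (irreducibleComponents X).Finite :=
  TopologicalSpace.NoetherianSpace.finite_irreducibleComponents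

theorem isOpen_N (Z : Set X) : IsOpen (N Z) := by
  rw [N, isOpen_compl_iff, Set.sUnion_eq_biUnion]
  exact (finC X).sdiff.isClosed_biUnion fun W hW ↦ isClosed_of_mem_irreducibleComponents W hW.1

theorem N_subset (Z : Set X) (hZ : Z ∈ irreducibleComponents X) : N Z ⊆ Z := by
  have h := closure_sUnion_irreducibleComponents_sdiff_singleton (finC X) Z hZ
  intro y hy
  rw [← h]
  exact subset_closure hy

theorem N_nonempty (Z : Set X) (hZ : Z ∈ irreducibleComponents X) : (N Z).Nonempty := by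
  by_contra h
  rw [Set.not_nonempty_iff_eq_empty] at h
  have h1 := closure_sUnion_irreducibleComponents_sdiff_singleton (finC X) Z hZ
  rw [show (⋃₀ (irreducibleComponents X \ {Z}))ᶜ = N Z from rfl, h, closure_empty] at h1
  exact hZ.1.nonempty.ne_empty h1.symm

theorem N_disjoint (Z Z' : Set X) (hZ : Z ∈ irreducibleComponents X) (hne : Z ≠ Z') :
    Disjoint Z (N Z') := by
  rw [Set.disjoint_left]
  intro x hx hx'
  exact hx' (Set.mem_sUnion.mpr ⟨Z, ⟨hZ, hne⟩, hx⟩)

/-- every point has an affine open neighbourhood meeting all irreducible components -/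
theorem exists_affine_meeting (x : X) : ∃ V : X.Opens, IsAffineOpen V ∧ x ∈ V ∧
    ∀ Z ∈ irreducibleComponents X, (Z ∩ (V : Set X)).Nonempty := by
  classical
  obtain ⟨V₀, hV₀, hxV₀, -⟩ :=
    Opens.isBasis_iff_nbhd.1 X.isBasis_affineOpens (U := ⊤) (x := x) trivial
  -- choose affine opens in each N Z
  have hD : ∀ Z : Set X, ∃ D : X.Opens, Z ∈ irreducibleComponents X →
      IsAffineOpen D ∧ (D : Set X) ⊆ N Z ∧ (D : Set X).Nonempty := by
    intro Z
    by_cases hZ : Z ∈ irreducibleComponents X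
    · obtain ⟨y, hy⟩ := N_nonempty Z hZ
      obtain ⟨D, hD, hyD, hDN⟩ :=
        Opens.isBasis_iff_nbhd.1 X.isBasis_affineOpens (U := ⟨N Z, isOpen_N Z⟩) (x := y) hy
      exact ⟨D, fun _ => ⟨hD, hDN, ⟨y, hyD⟩⟩⟩
    · exact ⟨⊥, fun h => absurd h hZ⟩
  choose D hD using hD
  let C₂ : Set (Set X) := {Z | Z ∈ irreducibleComponents X ∧ Z ∩ (V₀ : Set X) = ∅}
  have hC₂fin : C₂.Finite := (finC X).subset fun Z hZ => hZ.1
  have hdis : C₂.Pairwise (Function.onFun Disjoint D) := by
    intro Z hZ Z' hZ' hne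
    show Disjoint (D Z) (D Z')
    rw [← TopologicalSpace.Opens.coe_disjoint]
    exact ((N_disjoint Z Z' hZ.1 hne).mono_left
      ((hD Z hZ.1).2.1.trans (N_subset Z hZ.1))).mono_right (hD Z' hZ'.1).2.1
  have haff : IsAffineOpen (⨆ Z ∈ C₂, D Z) :=
    IsAffineOpen.biSup_of_disjoint hC₂fin (fun Z hZ => (hD Z hZ.1).1) hdis
  have hdis0 : Disjoint V₀ (⨆ Z ∈ C₂, D Z) := by
    rw [← TopologicalSpace.Opens.coe_disjoint, Set.disjoint_left]
    intro y hy hy'
    simp only [TopologicalSpace.Opens.coe_iSup, Set.mem_iUnion] at hy'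
    obtain ⟨Z, hZ, hyZ⟩ := hy'
    have : y ∈ Z ∩ (V₀ : Set X) := ⟨N_subset Z hZ.1 ((hD Z hZ.1).2.1 hyZ), hy⟩
    rw [hZ.2] at this
    exact this
  refine ⟨V₀ ⊔ ⨆ Z ∈ C₂, D Z, hV₀.sup_of_disjoint haff hdis0, Or.inl hxV₀, ?_⟩
  intro Z hZ
  by_cases h : Z ∩ (V₀ : Set X) = ∅
  · obtain ⟨y, hy⟩ := (hD Z hZ).2.2
    refine ⟨y, N_subset Z hZ ((hD Z hZ).2.1 hy), Or.inr ?_⟩
    simp only [TopologicalSpace.Opens.coe_iSup, Set.mem_iUnion]
    exact ⟨Z, ⟨hZ, h⟩, hy⟩
  · obtain ⟨y, hy⟩ := Set.nonempty_iff_ne_empty.mpr h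
    exact ⟨y, hy.1, Or.inl hy.2⟩


/-- an open meeting all irreducible components is dense -/
theorem dense_of_meeting (U : Set X) (hU : IsOpen U)
    (h : ∀ Z ∈ irreducibleComponents X, (Z ∩ U).Nonempty) : Dense U := by
  rw [dense_iff_inter_open]
  intro O hO ⟨o, ho⟩
  have hZ := irreducibleComponent_mem_irreducibleComponents o
  have h1 : (irreducibleComponent o ∩ O).Nonempty := ⟨o, mem_irreducibleComponent, ho⟩
  obtain ⟨y, hy, hyO, hyU⟩ := hZ.1.2 O U hO hU h1 (h _ hZ)
  exact ⟨y, hyO, hyU⟩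

/-- a finite affine open cover all of whose members contain a common dense open -/
theorem exists_cover : ∃ (t : Finset X.Opens) (U : X.Opens),
    (∀ W ∈ t, IsAffineOpen W ∧ U ≤ W) ∧ (∀ x : X, ∃ W ∈ t, x ∈ W) ∧ Dense (U : Set X) := by
  classical
  choose V hVaff hxV hVmeet using exists_affine_meeting (X := X)
  obtain ⟨t₀, ht₀⟩ := CompactSpace.elim_nhds_subcover (fun x => (V x : Set X))
    (fun x => (V x).isOpen.mem_nhds (hxV x))
  refine ⟨t₀.image V, t₀.inf V, ?_, ?_, ?_⟩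
  · intro W hW
    obtain ⟨x, hx, rfl⟩ := Finset.mem_image.mp hW
    exact ⟨hVaff x, Finset.inf_le hx⟩
  · intro x
    have : x ∈ ⋃ y ∈ t₀, (V y : Set X) := by rw [ht₀]; trivial
    simp only [Set.mem_iUnion] at this
    obtain ⟨y, hy, hxy⟩ := this
    exact ⟨V y, Finset.mem_image_of_mem V hy, hxy⟩
  · refine dense_of_meeting _ (t₀.inf V).isOpen ?_
    intro Z hZ
    have h := isIrreducible_iff_sInter.mp hZ.1 (t₀.image fun x => (V x : Set X))
      (by
        intro u hu
        obtain ⟨x, -, rfl⟩ := Finset.mem_image.mp hu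
        exact (V x).isOpen)
      (by
        intro u hu
        obtain ⟨x, -, rfl⟩ := Finset.mem_image.mp hu
        exact hVmeet x Z hZ)
    obtain ⟨y, hyZ, hy⟩ := h
    refine ⟨y, hyZ, ?_⟩
    rw [TopologicalSpace.Opens.coe_finset_inf, Finset.inf_eq_iInf]
    simp only [Set.iInf_eq_iInter, Set.mem_iInter, Function.comp_apply]
    intro x hx
    exact Set.mem_sInter.mp hy (V x : Set X)
      (Finset.mem_coe.mpr (Finset.mem_image.mpr ⟨x, hx, rfl⟩))

end Groth.Agent.Lib.Helper4.ChowCover
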