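import Mathlib

set_option autoImplicit false
universe u
open CategoryTheory CategoryTheory.Limits AlgebraicGeometry Opposite TopologicalSpace

namespace Groth.Agent.Lib.Helper4.ChowPre

variable {X Y Z S T : Scheme.{u}}

/-- the map to the scheme theoretic image is scheme theoretically dominant -/
instance isSchDominant_toImage (f : X ⟶ Y) [QuasiCompact f] :
    IsSchemeTheoreticallyDominant f.toImage := by
  rw [isSchemeTheoreticallyDominant_iff]
  let V : Y.affineOpens → f.image.affineOpens := fun U =>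
    ⟨f.imageι ⁻¹ᵁ U.1, U.2.preimage f.imageι⟩
  refine Scheme.IdealSheafData.ext_of_iSup_eq_top V ?_ ?_
  · have h : ⨆ U : Y.affineOpens, f.imageι ⁻¹ᵁ U.1 = f.imageι ⁻¹ᵁ (⨆ U : Y.affineOpens, U.1) := by
      ext x
      simp
    change ⨆ U : Y.affineOpens, f.imageι ⁻¹ᵁ U.1 = ⊤
    rw [h, iSup_affineOpens_eq_top]
    rfl
  · intro U
    rw [Scheme.Hom.ker_apply]
    simp only [Scheme.IdealSheafData.ideal_bot, Pi.bot_apply]
    rw [← RingHom.injective_iff_ker_eq_bot]
    exact f.toImage_app_injective U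


/-- if `l ≫ e` is scheme theoretically dominant then so is `e` -/
theorem schDominant_of_comp {W X Y : Scheme.{u}} (l : W ⟶ X) (e : X ⟶ Y)
    [IsSchemeTheoreticallyDominant (l ≫ e)] : IsSchemeTheoreticallyDominant e := by
  rw [isSchemeTheoreticallyDominant_iff]
  have h1 : (l ≫ e).ker = ⊥ := (l ≫ e).ker_eq_bot
  rw [Scheme.Hom.ker_comp] at h1
  have h2 : e.ker ≤ l.ker.map e := by
    rw [← Scheme.IdealSheafData.map_bot]
    exact Scheme.IdealSheafData.map_mono e bot_le
  rw [h1] at h2
  exact le_bot_iff.mp h2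

/-- the kernel of `g ≫ p` equals the kernel of `p` if `g` is scheme theoretically dominant -/
theorem ker_comp_of_schDominant {W X Y : Scheme.{u}} (g : W ⟶ X) (p : X ⟶ Y)
    [IsSchemeTheoreticallyDominant g] : (g ≫ p).ker = p.ker := by
  rw [Scheme.Hom.ker_comp, g.ker_eq_bot, Scheme.IdealSheafData.map_bot]

theorem ker_le_ker_comp {W X Y : Scheme.{u}} (t : W ⟶ X) (c : X ⟶ Y) : c.ker ≤ (t ≫ c).ker := by
  rw [Scheme.Hom.ker_comp, ← Scheme.IdealSheafData.map_bot]
  exact Scheme.IdealSheafData.map_mono c bot_le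

/-- two morphisms into a separated `Z`-scheme agreeing on a scheme theoretically dominant
morphism are equal -/
theorem ext_of_schDominant {W X Y Z : Scheme.{u}} {f g : X ⟶ Y} (s : Y ⟶ Z) [IsSeparated s]
    (h : f ≫ s = g ≫ s) (ι : W ⟶ X) [IsSchemeTheoreticallyDominant ι] (hU : ι ≫ f = ι ≫ g) :
    f = g := by
  let X' : Over Z := Over.mk (f ≫ s)
  let Y' : Over Z := Over.mk s
  let U' : Over Z := Over.mk (ι ≫ f ≫ s)
  let f' : X' ⟶ Y' := Over.homMk f
  let g' : X' ⟶ Y' := Over.homMk g
  let ι' : U' ⟶ X' := Over.homMk ι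
  have : IsSeparated Y'.hom := ‹_›
  have hl : (equalizer.lift ι' (show ι' ≫ f' = ι' ≫ g' by ext1; exact hU)).left ≫
      (equalizer.ι f' g').left = ι := by
    rw [← Over.comp_left, equalizer.lift_ι]
    rfl
  have : IsSchemeTheoreticallyDominant (equalizer.ι f' g').left := by
    haveI : IsSchemeTheoreticallyDominant
        ((equalizer.lift ι' (show ι' ≫ f' = ι' ≫ g' by ext1; exact hU)).left ≫
          (equalizer.ι f' g').left) := by rw [hl]; infer_instance
    exact schDominant_of_comp
      (equalizer.lift ι' (show ι' ≫ f' = ι' ≫ g' by ext1; exact hU)).left (equalizer.ι f' g').left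
  have : IsIso (equalizer.ι f' g').left :=
    IsClosedImmersion.isIso_iff_ker_eq_bot.mpr (equalizer.ι f' g').left.ker_eq_bot
  rw [← cancel_epi (equalizer.ι f' g').left]
  exact congr($(equalizer.condition f' g').left)

/-- lifting through a closed immersion along a scheme theoretically dominant morphism -/
theorem exists_lift_of_schDominant {W Z P Za : Scheme.{u}} (g : W ⟶ Z) [IsSchemeTheoreticallyDominant g]
    (p : Z ⟶ P) (c : Za ⟶ P) [IsClosedImmersion c] (t : W ⟶ Za) (ht : t ≫ c = g ≫ p) :
    ∃ q : Z ⟶ Za, q ≫ c = p ∧ g ≫ q = t := by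
  have H : c.ker ≤ p.ker := by
    rw [← ker_comp_of_schDominant g p, ← ht]
    exact ker_le_ker_comp t c
  refine ⟨IsClosedImmersion.lift c p H, IsClosedImmersion.lift_fac c p H, ?_⟩
  rw [← cancel_mono c, Category.assoc, IsClosedImmersion.lift_fac, ht]

/-- restriction of a scheme theoretically dominant quasi-compact morphism to an open -/
theorem schDominant_restrict {W Z : Scheme.{u}} (g : W ⟶ Z) [IsSchemeTheoreticallyDominant g]
    [QuasiCompact g] (V : Z.Opens) : IsSchemeTheoreticallyDominant (g ∣_ V) :=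
  IsSchemeTheoreticallyDominant.of_isPullback (isPullback_morphismRestrict g V).flip

end Groth.Agent.Lib.Helper4.ChowPre
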