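import Mathlib
import Groth.Agent.Lib.Helper4.ChowPre
import Groth.Agent.S1616
import Groth.Agent.Lib.Helper28.ProjSpaceBasic

set_option autoImplicit false
universe u
open CategoryTheory CategoryTheory.Limits AlgebraicGeometry Opposite TopologicalSpace

namespace Groth.Agent.Lib.Helper4.ChowStep

open Groth.Agent.Lib.Helper4.ChowPre

variable {X S : Scheme.{u}}

/-- a "Chow piece" over the open `W`, relative to the open `U ≤ W` -/
def HasPiece (f : X ⟶ S) (U W : X.Opens) : Prop :=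
  ∃ (n : ℕ) (Y : Scheme.{u}) (π : Y ⟶ X) (j : Y ⟶ CohB1.ProjSpaceOver n S),
    IsImmersion j ∧ j ≫ CohB1.ProjSpaceOver.toBase n S = π ≫ f ∧
    π ⁻¹ᵁ W = ⊤ ∧ IsProper (π ∣_ W) ∧ IsIso (π ∣_ U)

/-- an open immersion with dense range whose composition with a separated morphism is proper
is an isomorphism -/
theorem isIso_of_dense_of_proper_comp {A B C : Scheme.{u}} (i : A ⟶ B) [IsOpenImmersion i]
    (hd : DenseRange i) (r : B ⟶ C) [IsSeparated r] [IsProper (i ≫ r)] : IsIso i := by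
  have : IsProper i := IsProper.of_comp i r
  have hc : IsClosed (Set.range i) := i.isClosedMap.isClosed_range
  have hs : Set.range i = Set.univ := by
    rw [← hc.closure_eq]
    exact hd.closure_range
  exact isIso_of_isOpenImmersion_of_opensRange_eq_top i (TopologicalSpace.Opens.ext hs)


/-- properness of restrictions over two opens gives properness over the union -/
theorem isProper_restrict_sup {Y : Scheme.{u}} (π : Y ⟶ X) (W₁ W₂ : X.Opens)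
    (h₁ : IsProper (π ∣_ W₁)) (h₂ : IsProper (π ∣_ W₂)) : IsProper (π ∣_ (W₁ ⊔ W₂)) := by
  let W := W₁ ⊔ W₂
  let O : Bool → (W : Scheme.{u}).Opens := fun b => W.ι ⁻¹ᵁ (if b then W₁ else W₂)
  have hO : iSup O = ⊤ := by
    rw [eq_top_iff]
    rintro ⟨x, hx⟩ -
    rcases hx with hx | hx
    · exact TopologicalSpace.Opens.mem_iSup.mpr ⟨true, hx⟩
    · exact TopologicalSpace.Opens.mem_iSup.mpr ⟨false, hx⟩
  refine IsZariskiLocalAtTarget.of_iSup_eq_top (P := @IsProper) O hO ?_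
  intro b
  rw [(MorphismProperty.arrow_mk_iso_iff @IsProper (morphismRestrictRestrict π W (O b)))]
  have hle : (if b then W₁ else W₂) ≤ W := by
    cases b
    · exact le_sup_right
    · exact le_sup_left
  have he : W.ι ''ᵁ (O b) = (if b then W₁ else W₂) := by
    show W.ι ''ᵁ (W.ι ⁻¹ᵁ (if b then W₁ else W₂)) = _
    rw [Scheme.Hom.image_preimage_eq_opensRange_inf, Scheme.Opens.opensRange_ι]
    exact inf_eq_right.mpr hle
  rw [(MorphismProperty.arrow_mk_iso_iff @IsProper (morphismRestrictEq π he))]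
  cases b
  · exact h₂
  · exact h₁


/-- the data of a Chow piece -/
structure PieceData (f : X ⟶ S) (U W : X.Opens) where
  n : ℕ
  Y : Scheme.{u}
  π : Y ⟶ X
  j : Y ⟶ CohB1.ProjSpaceOver n S
  imm : IsImmersion j
  comm : j ≫ CohB1.ProjSpaceOver.toBase n S = π ≫ f
  top : π ⁻¹ᵁ W = ⊤
  proper : IsProper (π ∣_ W)
  iso : IsIso (π ∣_ U)

theorem HasPiece.nonempty_data {f : X ⟶ S} {U W : X.Opens} (h : HasPiece f U W) :
    Nonempty (PieceData f U W) := by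
  obtain ⟨n, Y, π, j, h1, h2, h3, h4, h5⟩ := h
  exact ⟨⟨n, Y, π, j, h1, h2, h3, h4, h5⟩⟩

namespace PieceData

variable {f : X ⟶ S} {U W : X.Opens} (D : PieceData f U W)

instance : IsImmersion D.j := D.imm
instance : IsProper (D.π ∣_ W) := D.proper
instance : IsIso (D.π ∣_ U) := D.iso

/-- the section over `U` -/
noncomputable def u : (U : Scheme.{u}) ⟶ D.Y := inv (D.π ∣_ U) ≫ (D.π ⁻¹ᵁ U).ι

instance : IsOpenImmersion D.u := by
  unfold u; infer_instance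

theorem u_π : D.u ≫ D.π = U.ι := by
  unfold u
  rw [Category.assoc, ← morphismRestrict_ι, IsIso.inv_hom_id_assoc]

/-- the open of the projective space in which `Y` is closed -/
noncomputable def Ω : (CohB1.ProjSpaceOver D.n S).Opens := D.j.coborderRange

noncomputable def c : D.Y ⟶ (D.Ω : Scheme.{u}) := D.j.liftCoborder

instance : IsClosedImmersion D.c := by
  unfold c
  exact inferInstanceAs (IsClosedImmersion D.j.liftCoborder)

theorem c_ι : D.c ≫ D.Ω.ι = D.j := D.j.liftCoborder_ι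

/-- the lift of `Y ⟶ X` to `W` -/
noncomputable def πW : D.Y ⟶ (W : Scheme.{u}) :=
  IsOpenImmersion.lift W.ι D.π (by
    rw [Scheme.Opens.range_ι]
    rintro _ ⟨y, rfl⟩
    have : y ∈ D.π ⁻¹ᵁ W := by rw [D.top]; trivial
    exact this)

theorem πW_ι : D.πW ≫ W.ι = D.π := IsOpenImmersion.lift_fac _ _ _

instance : IsProper D.πW := by
  have hι : IsIso (D.π ⁻¹ᵁ W).ι := by
    rw [D.top]; exact (Scheme.topIso D.Y).isIso_hom
  have h : D.πW = inv (D.π ⁻¹ᵁ W).ι ≫ (D.π ∣_ W) := by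
    rw [← cancel_mono W.ι, Category.assoc, morphismRestrict_ι, IsIso.inv_hom_id_assoc, πW_ι]
  rw [h]
  infer_instance

end PieceData


section Local

variable {f : X ⟶ S} {U W : X.Opens} (D : PieceData f U W)

/-- the local construction: over the preimage of `Ω`, the ambient maps to `Y` -/
theorem exists_q {Z : Scheme.{u}} (g : (U : Scheme.{u}) ⟶ Z)
    [IsSchemeTheoreticallyDominant g] [QuasiCompact g]
    (p : Z ⟶ CohB1.ProjSpaceOver D.n S) [IsProper p] (hgp : g ≫ p = D.u ≫ D.j) :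
    ∃ (gV : (U : Scheme.{u}) ⟶ (p ⁻¹ᵁ D.Ω : Scheme.{u})) (q : (p ⁻¹ᵁ D.Ω : Scheme.{u}) ⟶ D.Y),
      gV ≫ (p ⁻¹ᵁ D.Ω).ι = g ∧ IsProper q ∧ gV ≫ q = D.u ∧ q ≫ D.j = (p ⁻¹ᵁ D.Ω).ι ≫ p ∧
        IsSchemeTheoreticallyDominant gV := by
  have hpre : g ⁻¹ᵁ (p ⁻¹ᵁ D.Ω) = ⊤ := by
    rw [eq_top_iff]
    intro x _
    show p (g x) ∈ D.Ω
    rw [← Scheme.Hom.comp_apply, hgp, ← D.c_ι, ← Category.assoc, Scheme.Hom.comp_apply]
    exact ((D.u ≫ D.c) x).2
  have hι : IsIso (g ⁻¹ᵁ (p ⁻¹ᵁ D.Ω)).ι := by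
    rw [hpre]; exact (Scheme.topIso _).isIso_hom
  let gV : (U : Scheme.{u}) ⟶ (p ⁻¹ᵁ D.Ω : Scheme.{u}) :=
    inv (g ⁻¹ᵁ (p ⁻¹ᵁ D.Ω)).ι ≫ (g ∣_ (p ⁻¹ᵁ D.Ω))
  have hgV : gV ≫ (p ⁻¹ᵁ D.Ω).ι = g := by
    show (inv (g ⁻¹ᵁ (p ⁻¹ᵁ D.Ω)).ι ≫ (g ∣_ (p ⁻¹ᵁ D.Ω))) ≫ _ = g
    rw [Category.assoc, morphismRestrict_ι, IsIso.inv_hom_id_assoc]
  have hsd : IsSchemeTheoreticallyDominant gV := by
    haveI := schDominant_restrict g (p ⁻¹ᵁ D.Ω)
    show IsSchemeTheoreticallyDominant (inv (g ⁻¹ᵁ (p ⁻¹ᵁ D.Ω)).ι ≫ (g ∣_ (p ⁻¹ᵁ D.Ω)))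
    infer_instance
  have ht : D.u ≫ D.c = gV ≫ (p ∣_ D.Ω) := by
    rw [← cancel_mono D.Ω.ι, Category.assoc, Category.assoc, D.c_ι, morphismRestrict_ι,
      ← Category.assoc, hgV, hgp]
  obtain ⟨q, hq1, hq2⟩ := exists_lift_of_schDominant gV (p ∣_ D.Ω) D.c D.u ht
  have hpr : IsProper (p ∣_ D.Ω) := IsZariskiLocalAtTarget.restrict ‹IsProper p› _
  have hqp : IsProper q := by
    haveI : IsProper (q ≫ D.c) := by rw [hq1]; exact hpr
    exact IsProper.of_comp q D.c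
  refine ⟨gV, q, hgV, hqp, hq2, ?_, hsd⟩
  rw [← D.c_ι, ← Category.assoc, hq1, morphismRestrict_ι]

end Local


/-- a lift through an open immersion of a scheme theoretically dominant quasi-compact morphism
is scheme theoretically dominant -/
theorem schDominant_lift {A T Z : Scheme.{u}} (g : A ⟶ Z) [IsSchemeTheoreticallyDominant g]
    [QuasiCompact g] (o : T ⟶ Z) [IsOpenImmersion o] (l : A ⟶ T) (h : l ≫ o = g) :
    IsSchemeTheoreticallyDominant l := by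
  have hr : Set.range g ⊆ Set.range o := by
    rw [← h, Scheme.Hom.comp_base, TopCat.coe_comp]
    exact Set.range_comp_subset_range _ _
  have hl : l = IsOpenImmersion.lift o g hr := by
    rw [← cancel_mono o, IsOpenImmersion.lift_fac, h]
  have hp := (IsOpenImmersion.isPullback_lift_id g o hr).flip
  rw [← hl] at hp
  exact IsSchemeTheoreticallyDominant.of_isPullback hp

/-- Key lemma: if an open piece `A` of `X'` containing a dense subset maps properly to `W`,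
then it is the whole preimage of `W`. -/
theorem exists_iso_preimage {X' A U₀ : Scheme.{u}} (π : X' ⟶ X) [IsSeparated π] (W : X.Opens)
    (k : A ⟶ X') [IsOpenImmersion k] (r : A ⟶ (W : Scheme.{u})) [IsProper r]
    (hr : r ≫ W.ι = k ≫ π) (gX : U₀ ⟶ X') (hd : DenseRange gX)
    (hsub : Set.range gX ⊆ Set.range k) :
    ∃ i : A ⟶ (π ⁻¹ᵁ W : Scheme.{u}), IsIso i ∧ i ≫ (π ∣_ W) = r := by
  have hrange : Set.range k ⊆ Set.range (π ⁻¹ᵁ W).ι := by
    rw [Scheme.Opens.range_ι]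
    rintro _ ⟨a, rfl⟩
    show π (k a) ∈ W
    rw [← Scheme.Hom.comp_apply, ← hr, Scheme.Hom.comp_apply]
    exact (r a).2
  let i : A ⟶ (π ⁻¹ᵁ W : Scheme.{u}) := IsOpenImmersion.lift (π ⁻¹ᵁ W).ι k hrange
  have hi : i ≫ (π ⁻¹ᵁ W).ι = k := IsOpenImmersion.lift_fac _ _ _
  have hoi : IsOpenImmersion i := by
    haveI : IsOpenImmersion (i ≫ (π ⁻¹ᵁ W).ι) := by rw [hi]; infer_instance
    exact IsOpenImmersion.of_comp i (π ⁻¹ᵁ W).ι
  have hir : i ≫ (π ∣_ W) = r := by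
    rw [← cancel_mono W.ι, Category.assoc, morphismRestrict_ι, ← Category.assoc, hi, hr]
  have hsep : IsSeparated (π ∣_ W) := IsZariskiLocalAtTarget.restrict ‹IsSeparated π› _
  have hprop : IsProper (i ≫ (π ∣_ W)) := by rw [hir]; infer_instance
  have hdense : DenseRange i := by
    have h1 : Dense ((π ⁻¹ᵁ W).ι ⁻¹' Set.range gX) :=
      hd.preimage (π ⁻¹ᵁ W).ι.isOpenEmbedding.isOpenMap
    refine h1.mono ?_
    intro t ht
    obtain ⟨a, ha⟩ := hsub ht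
    refine ⟨a, (π ⁻¹ᵁ W).ι.isOpenEmbedding.injective ?_⟩
    rw [← Scheme.Hom.comp_apply, hi, ha]
  exact ⟨i, isIso_of_dense_of_proper_comp i hdense (π ∣_ W), hir⟩


section GlueOpens

variable {Z Y : Scheme.{u}} {J : Type} (Vf : J → Z.Opens)

theorem exists_glue (ρ : ∀ b, ((Vf b : Z.Opens) : Scheme.{u}) ⟶ Y)
    (h : ∀ x y, pullback.fst (Z.homOfLE (le_iSup Vf x)) (Z.homOfLE (le_iSup Vf y)) ≫ ρ x =
      pullback.snd (Z.homOfLE (le_iSup Vf x)) (Z.homOfLE (le_iSup Vf y)) ≫ ρ y) :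
    ∃ π : ((⨆ b, Vf b : Z.Opens) : Scheme.{u}) ⟶ Y, ∀ b, Z.homOfLE (le_iSup Vf b) ≫ π = ρ b :=
  ⟨(Scheme.Opens.iSupOpenCover Vf).glueMorphisms ρ h,
    fun b => (Scheme.Opens.iSupOpenCover Vf).ι_glueMorphisms ρ h b⟩

theorem hom_ext_iSup (a b : ((⨆ b, Vf b : Z.Opens) : Scheme.{u}) ⟶ Y)
    (h : ∀ j, Z.homOfLE (le_iSup Vf j) ≫ a = Z.homOfLE (le_iSup Vf j) ≫ b) : a = b :=
  (Scheme.Opens.iSupOpenCover Vf).hom_ext a b h

theorem exists_eq_iSup (x : ((⨆ b, Vf b : Z.Opens) : Scheme.{u})) :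
    ∃ (j : J) (y : ((Vf j : Z.Opens) : Scheme.{u})), Z.homOfLE (le_iSup Vf j) y = x :=
  (Scheme.Opens.iSupOpenCover Vf).exists_eq x

end GlueOpens

section Glue

variable (f : X ⟶ S) [IsSeparated f] {U W₁ W₂ : X.Opens}
  (D₁ : PieceData f U W₁) (D₂ : PieceData f U W₂)
  {Z : Scheme.{u}} (g : (U : Scheme.{u}) ⟶ Z) [IsSchemeTheoreticallyDominant g] [QuasiCompact g]
  [IsOpenImmersion g] (s : Z ⟶ S) [IsSeparated s]
  (p₁ : Z ⟶ CohB1.ProjSpaceOver D₁.n S) (p₂ : Z ⟶ CohB1.ProjSpaceOver D₂.n S)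
  [IsProper p₁] [IsProper p₂]
  (hs₁ : p₁ ≫ CohB1.ProjSpaceOver.toBase D₁.n S = s) (hs₂ : p₂ ≫ CohB1.ProjSpaceOver.toBase D₂.n S = s)
  (hg₁ : g ≫ p₁ = D₁.u ≫ D₁.j) (hg₂ : g ≫ p₂ = D₂.u ≫ D₂.j)

include hs₁ hs₂ hg₁ hg₂ in
theorem glue : ∃ (V : Z.Opens) (π : (V : Scheme.{u}) ⟶ X), π ≫ f = V.ι ≫ s ∧
    π ⁻¹ᵁ (W₁ ⊔ W₂) = ⊤ ∧ IsProper (π ∣_ (W₁ ⊔ W₂)) ∧ IsIso (π ∣_ U) := by
  obtain ⟨g₁, q₁, hg₁ι, hq₁p, hgq₁, hqj₁, hsd₁⟩ := exists_q D₁ g p₁ hg₁
  obtain ⟨g₂, q₂, hg₂ι, hq₂p, hgq₂, hqj₂, hsd₂⟩ := exists_q D₂ g p₂ hg₂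
  let V₁ : Z.Opens := p₁ ⁻¹ᵁ D₁.Ω
  let V₂ : Z.Opens := p₂ ⁻¹ᵁ D₂.Ω
  let ρ₁ : (V₁ : Scheme.{u}) ⟶ X := q₁ ≫ D₁.π
  let ρ₂ : (V₂ : Scheme.{u}) ⟶ X := q₂ ≫ D₂.π
  let Vf : Bool → Z.Opens := fun b => bif b then V₁ else V₂
  let ιb : ∀ b : Bool, ((Vf b : Z.Opens) : Scheme.{u}) ⟶ ((⨆ b, Vf b : Z.Opens) : Scheme.{u}) :=
    fun b => Z.homOfLE (le_iSup Vf b)
  let ρ : ∀ b : Bool, ((Vf b : Z.Opens) : Scheme.{u}) ⟶ X := fun b =>
    match b with
    | true => ρ₁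
    | false => ρ₂
  let gb : ∀ b : Bool, (U : Scheme.{u}) ⟶ ((Vf b : Z.Opens) : Scheme.{u}) := fun b =>
    match b with
    | true => g₁
    | false => g₂
  have hgbι : ∀ b, gb b ≫ (Vf b).ι = g := by
    intro b; cases b
    · exact hg₂ι
    · exact hg₁ι
  have hρf : ∀ b, ρ b ≫ f = (Vf b).ι ≫ s := by
    intro b; cases b
    · show (q₂ ≫ D₂.π) ≫ f = V₂.ι ≫ s
      rw [Category.assoc, ← D₂.comm, ← Category.assoc, hqj₂, Category.assoc, hs₂]
    · show (q₁ ≫ D₁.π) ≫ f = V₁.ι ≫ s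
      rw [Category.assoc, ← D₁.comm, ← Category.assoc, hqj₁, Category.assoc, hs₁]
  have hgρ : ∀ b, gb b ≫ ρ b = U.ι := by
    intro b; cases b
    · show g₂ ≫ q₂ ≫ D₂.π = U.ι
      rw [← Category.assoc, hgq₂, D₂.u_π]
    · show g₁ ≫ q₁ ≫ D₁.π = U.ι
      rw [← Category.assoc, hgq₁, D₁.u_π]
  have hfι : ∀ b, ιb b ≫ (⨆ b, Vf b).ι = (Vf b).ι := fun b => Scheme.homOfLE_ι Z (le_iSup Vf b)
  have hcompat : ∀ x y : Bool, pullback.fst (ιb x) (ιb y) ≫ ρ x =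
      pullback.snd (ιb x) (ιb y) ≫ ρ y := by
    intro x y
    have hxy : gb x ≫ ιb x = gb y ≫ ιb y := by
      rw [← cancel_mono (⨆ b, Vf b).ι, Category.assoc, Category.assoc, hfι, hfι, hgbι, hgbι]
    let ι₀ : (U : Scheme.{u}) ⟶ pullback (ιb x) (ιb y) := pullback.lift (gb x) (gb y) hxy
    have hι₀ : IsSchemeTheoreticallyDominant ι₀ := by
      refine schDominant_lift g (pullback.fst (ιb x) (ιb y) ≫ ιb x ≫ (⨆ b, Vf b).ι) ι₀ ?_
      rw [pullback.lift_fst_assoc, hfι, hgbι]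
    refine ext_of_schDominant f ?_ ι₀ ?_
    · rw [Category.assoc, Category.assoc, hρf, hρf, ← hfι x, ← hfι y, Category.assoc,
        Category.assoc, pullback.condition_assoc]
    · rw [pullback.lift_fst_assoc, pullback.lift_snd_assoc, hgρ, hgρ]
  obtain ⟨π, hπ⟩ : ∃ π : ((⨆ b, Vf b : Z.Opens) : Scheme.{u}) ⟶ X, ∀ b, ιb b ≫ π = ρ b :=
    exists_glue Vf ρ hcompat
  have hπf : π ≫ f = (⨆ b, Vf b).ι ≫ s := by
    refine hom_ext_iSup Vf _ _ fun b => ?_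
    show ιb b ≫ π ≫ f = ιb b ≫ (⨆ b, Vf b).ι ≫ s
    rw [← Category.assoc, hπ, hρf, ← Category.assoc, hfι]
  -- π is separated
  have hπsep : IsSeparated π := by
    haveI : IsSeparated (π ≫ f) := by rw [hπf]; infer_instance
    exact IsSeparated.of_comp π f
  -- the dense open
  let gX : (U : Scheme.{u}) ⟶ ((⨆ b, Vf b : Z.Opens) : Scheme.{u}) := gb true ≫ ιb true
  have hgXb : ∀ b, gX = gb b ≫ ιb b := by
    intro b
    rw [← cancel_mono (⨆ b, Vf b).ι, Category.assoc, Category.assoc, hfι, hfι, hgbι b]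
    exact hgbι true
  have hgXι : gX ≫ (⨆ b, Vf b).ι = g := by
    rw [Category.assoc, hfι]
    exact hgbι true
  have hgXsd : IsSchemeTheoreticallyDominant gX := schDominant_lift g (⨆ b, Vf b).ι gX hgXι
  have hgXqc : QuasiCompact gX := by
    haveI : QuasiCompact (gX ≫ (⨆ b, Vf b).ι) := by rw [hgXι]; infer_instance
    exact QuasiCompact.of_comp gX (⨆ b, Vf b).ι
  have hgXd : DenseRange gX := (inferInstance : IsDominant gX).denseRange
  have hgXsub : ∀ b, Set.range gX ⊆ Set.range (ιb b) := by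
    intro b
    rw [hgXb b, Scheme.Hom.comp_base, TopCat.coe_comp]
    exact Set.range_comp_subset_range _ _
  have hgXπ : gX ≫ π = U.ι := by
    rw [Category.assoc, hπ]
    exact hgρ true
  -- properness over W₁ and W₂
  have hP₁ : IsProper (π ∣_ W₁) := by
    have hr : (q₁ ≫ D₁.πW) ≫ W₁.ι = ιb true ≫ π := by
      rw [Category.assoc, D₁.πW_ι, hπ]
    obtain ⟨i, hi, hir⟩ := exists_iso_preimage π W₁ (ιb true) (q₁ ≫ D₁.πW) hr gX hgXd
      (hgXsub true)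
    have : π ∣_ W₁ = inv i ≫ (q₁ ≫ D₁.πW) := by rw [IsIso.eq_inv_comp, hir]
    rw [this]; infer_instance
  have hP₂ : IsProper (π ∣_ W₂) := by
    have hr : (q₂ ≫ D₂.πW) ≫ W₂.ι = ιb false ≫ π := by
      rw [Category.assoc, D₂.πW_ι, hπ]
    obtain ⟨i, hi, hir⟩ := exists_iso_preimage π W₂ (ιb false) (q₂ ≫ D₂.πW) hr gX hgXd
      (hgXsub false)
    have : π ∣_ W₂ = inv i ≫ (q₂ ≫ D₂.πW) := by rw [IsIso.eq_inv_comp, hir]
    rw [this]; infer_instance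
  refine ⟨⨆ b, Vf b, π, hπf, ?_, isProper_restrict_sup π W₁ W₂ hP₁ hP₂, ?_⟩
  · rw [eq_top_iff]
    intro x' _
    obtain ⟨b, y, rfl⟩ := exists_eq_iSup Vf x'
    show π (ιb b y) ∈ W₁ ⊔ W₂
    rw [← Scheme.Hom.comp_apply, hπ]
    cases b
    · right
      show D₂.π (q₂ y) ∈ W₂
      have : q₂ y ∈ D₂.π ⁻¹ᵁ W₂ := by rw [D₂.top]; trivial
      exact this
    · left
      show D₁.π (q₁ y) ∈ W₁
      have : q₁ y ∈ D₁.π ⁻¹ᵁ W₁ := by rw [D₁.top]; trivial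
      exact this
  · have hr : (𝟙 (U : Scheme.{u})) ≫ U.ι = gX ≫ π := by rw [Category.id_comp, hgXπ]
    haveI : IsOpenImmersion gX := by
      haveI : IsOpenImmersion (gX ≫ (⨆ b, Vf b).ι) := by
        rw [hgXι]
        infer_instance
      exact IsOpenImmersion.of_comp gX (⨆ b, Vf b).ι
    obtain ⟨i, hi, hir⟩ := exists_iso_preimage π U gX (𝟙 _) hr gX hgXd subset_rfl
    have : π ∣_ U = inv i := (IsIso.inv_eq_of_hom_inv_id hir).symm
    rw [this]; infer_instance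

end Glue


instance isProper_toBase' (n : ℕ) (S : Scheme.{u}) : IsProper (CohB1.ProjSpaceOver.toBase n S) :=
  Groth.Agent.Lib.Helper28.ProjSpaceBasic.isProper_toBase n S

/-- **The binary step of Chow's lemma.** -/
theorem step (f : X ⟶ S) [IsSeparated f] [QuasiSeparatedSpace S] {U W₁ W₂ : X.Opens}
    [CompactSpace (U : Scheme.{u})]
    (h₁ : HasPiece f U W₁) (h₂ : HasPiece f U W₂) : HasPiece f U (W₁ ⊔ W₂) := by
  obtain ⟨D₁⟩ := h₁.nonempty_data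
  obtain ⟨D₂⟩ := h₂.nonempty_data
  have hcond : (D₁.u ≫ D₁.j) ≫ CohB1.ProjSpaceOver.toBase D₁.n S =
      (D₂.u ≫ D₂.j) ≫ CohB1.ProjSpaceOver.toBase D₂.n S := by
    rw [Category.assoc, Category.assoc, D₁.comm, D₂.comm, ← Category.assoc, ← Category.assoc,
      D₁.u_π, D₂.u_π]
  let h : (U : Scheme.{u}) ⟶ pullback (CohB1.ProjSpaceOver.toBase D₁.n S)
      (CohB1.ProjSpaceOver.toBase D₂.n S) := pullback.lift (D₁.u ≫ D₁.j) (D₂.u ≫ D₂.j) hcond
  haveI : IsImmersion h := by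
    haveI : IsImmersion (h ≫ pullback.fst _ _) := by
      rw [pullback.lift_fst]; infer_instance
    exact IsImmersion.of_comp h (pullback.fst _ _)
  haveI : QuasiSeparatedSpace ↑(pullback (CohB1.ProjSpaceOver.toBase D₁.n S)
      (CohB1.ProjSpaceOver.toBase D₂.n S)) :=
    quasiSeparatedSpace_of_quasiSeparated
      (pullback.fst (CohB1.ProjSpaceOver.toBase D₁.n S) (CohB1.ProjSpaceOver.toBase D₂.n S) ≫
        CohB1.ProjSpaceOver.toBase D₁.n S)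
  haveI : QuasiCompact h := inferInstance
  let g : (U : Scheme.{u}) ⟶ h.image := h.toImage
  let s : h.image ⟶ S := h.imageι ≫ pullback.fst _ _ ≫ CohB1.ProjSpaceOver.toBase D₁.n S
  let p₁ : h.image ⟶ CohB1.ProjSpaceOver D₁.n S := h.imageι ≫ pullback.fst _ _
  let p₂ : h.image ⟶ CohB1.ProjSpaceOver D₂.n S := h.imageι ≫ pullback.snd _ _
  have hs₁ : p₁ ≫ CohB1.ProjSpaceOver.toBase D₁.n S = s := Category.assoc _ _ _
  have hs₂ : p₂ ≫ CohB1.ProjSpaceOver.toBase D₂.n S = s := by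
    show (h.imageι ≫ pullback.snd _ _) ≫ _ = h.imageι ≫ pullback.fst _ _ ≫ _
    rw [Category.assoc, pullback.condition]
  have hg₁ : g ≫ p₁ = D₁.u ≫ D₁.j := by
    show h.toImage ≫ h.imageι ≫ pullback.fst _ _ = _
    rw [← Category.assoc, h.toImage_imageι, pullback.lift_fst]
  have hg₂ : g ≫ p₂ = D₂.u ≫ D₂.j := by
    show h.toImage ≫ h.imageι ≫ pullback.snd _ _ = _
    rw [← Category.assoc, h.toImage_imageι, pullback.lift_snd]
  haveI : IsSeparated s := by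
    show IsSeparated (h.imageι ≫ pullback.fst _ _ ≫ CohB1.ProjSpaceOver.toBase D₁.n S)
    infer_instance
  haveI : IsProper p₁ := by
    show IsProper (h.imageι ≫ pullback.fst _ _); infer_instance
  haveI : IsProper p₂ := by
    show IsProper (h.imageι ≫ pullback.snd _ _); infer_instance
  haveI : IsOpenImmersion g := inferInstanceAs (IsOpenImmersion h.toImage)
  haveI : IsSchemeTheoreticallyDominant g := inferInstanceAs (IsSchemeTheoreticallyDominant h.toImage)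
  haveI : QuasiCompact g := inferInstanceAs (QuasiCompact h.toImage)
  obtain ⟨V, π, hπf, htop, hprop, hiso⟩ := glue f D₁ D₂ g s p₁ p₂ hs₁ hs₂ hg₁ hg₂
  obtain ⟨σ, hσ, hσb⟩ := Groth.Agent.S1616.result S D₁.n D₂.n
  refine ⟨D₁.n * D₂.n + D₁.n + D₂.n, V, π, V.ι ≫ h.imageι ≫ σ, inferInstance, ?_, htop, hprop, hiso⟩
  rw [hπf, Category.assoc, Category.assoc, hσb]

end Groth.Agent.Lib.Helper4.ChowStep
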