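import Mathlib
import Groth.Agent.Lib.Helper4.ChowStep
import Groth.Agent.Lib.Helper4.ChowCover
import Groth.Agent.Lib.Helper28.VeryAmpleQP
import Groth.Agent.Lib.Helper28.AmpleUnit

set_option autoImplicit false
universe u
open CategoryTheory CategoryTheory.Limits AlgebraicGeometry Opposite TopologicalSpace

namespace Groth.Agent.Lib.Helper4.ChowMain

open Groth.Agent.Lib.Helper4.ChowStep Groth.Agent.Lib.Helper4.ChowCover

variable {X S : Scheme.{u}}

/-- the base case: an affine open has a Chow piece -/
theorem base (f : X ⟶ S) [LocallyOfFiniteType f] [QuasiSeparatedSpace S] {U W : X.Opens}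
    (hW : IsAffineOpen W) (hUW : U ≤ W) : HasPiece f U W := by
  haveI : IsAffine (W : Scheme.{u}) := hW
  have hL : CohB1.IsAmple (Coh.structureModule (W : Scheme.{u})) :=
    (Groth.Agent.Lib.Helper28.AmpleUnit.isQuasiAffine_iff_isAmple_unit (W : Scheme.{u})).mp
      inferInstance
  obtain ⟨n, i, hi, -, hcomp⟩ :=
    Groth.Agent.Lib.Helper28.VeryAmpleQP.isHQuasiProjective_of_isAmple (W.ι ≫ f) hL
  have h1 : W.ι ∣_ W = (W.ι ⁻¹ᵁ W).ι := by
    rw [← cancel_mono W.ι, morphismRestrict_ι]
  have hι : IsIso (W.ι ⁻¹ᵁ W).ι := by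
    rw [Scheme.Opens.ι_preimage_self]; exact (Scheme.topIso _).isIso_hom
  refine ⟨n, W, W.ι, i, hi, hcomp, Scheme.Opens.ι_preimage_self W, ?_, ?_⟩
  · rw [h1]; infer_instance
  · haveI : IsOpenImmersion (W.ι ∣_ U) := inferInstance
    refine isIso_of_isOpenImmersion_of_opensRange_eq_top _ ?_
    rw [eq_top_iff]
    rintro ⟨y, hy⟩ -
    let w : (W : Scheme.{u}) := ⟨y, hUW hy⟩
    have hw : w ∈ W.ι ⁻¹ᵁ U := hy
    let w' : ((W.ι ⁻¹ᵁ U : (W : Scheme.{u}).Opens) : Scheme.{u}) := ⟨w, hw⟩
    refine ⟨w', ?_⟩
    apply U.ι.isOpenEmbedding.injective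
    have := congrArg (fun φ : _ ⟶ X => φ w') (morphismRestrict_ι W.ι U)
    simp only [Scheme.Hom.comp_apply] at this
    exact this


/-- **Chow's lemma** -/
theorem chow (f : X ⟶ S) [IsNoetherian S] [IsSeparated f] [LocallyOfFiniteType f] [QuasiCompact f] :
    ∃ (n : ℕ) (X' : Scheme.{u}) (π : X' ⟶ X) (j : X' ⟶ CohB1.ProjSpaceOver n S),
      IsImmersion j ∧ j ≫ CohB1.ProjSpaceOver.toBase n S = π ≫ f ∧ IsProper π ∧ Surjective π ∧
      ∃ U : X.Opens, Dense (U : Set X) ∧ IsIso (π ∣_ U) := by
  haveI : CompactSpace X := QuasiCompact.compactSpace_of_compactSpace f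
  haveI : IsNoetherian X := { __ := LocallyOfFiniteType.isLocallyNoetherian f }
  obtain ⟨t, U, ht, hcov, hdense⟩ := exists_cover (X := X)
  -- the piece over the whole of X
  have hmain : HasPiece f U ⊤ := by
    rcases isEmpty_or_nonempty X with hX | hX
    · haveI : IsAffine X := inferInstance
      exact base f (isAffineOpen_top X) le_top
    · obtain ⟨x⟩ := hX
      have htne : t.Nonempty := by
        obtain ⟨W, hW, -⟩ := hcov x
        exact ⟨W, hW⟩
      haveI : CompactSpace (U : Scheme.{u}) :=
        isCompact_iff_compactSpace.mp (TopologicalSpace.NoetherianSpace.isCompact (U : Set X))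
      have key : ∀ s : Finset X.Opens, s.Nonempty → s ⊆ t → HasPiece f U (s.sup id) := by
        intro s hs
        induction hs using Finset.Nonempty.cons_induction with
        | singleton a =>
          intro hst
          rw [Finset.sup_singleton]
          exact base f (ht a (hst (Finset.mem_singleton_self a))).1
            (ht a (hst (Finset.mem_singleton_self a))).2
        | cons a s ha hs ih =>
          intro hst
          rw [Finset.sup_cons]
          have ha' := ht a (hst (Finset.mem_cons_self a s))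
          exact step f (base f ha'.1 ha'.2)
            (ih fun b hb => hst (Finset.mem_cons.mpr (Or.inr hb)))
      have htop : t.sup id = ⊤ := by
        rw [eq_top_iff]
        intro y _
        obtain ⟨W, hW, hyW⟩ := hcov y
        exact (Finset.le_sup (f := id) hW) hyW
      rw [← htop]
      exact key t htne subset_rfl
  obtain ⟨n, Y, π, j, himm, hcomm, -, hprop, hiso⟩ := hmain
  have hπ : IsProper π :=
    IsZariskiLocalAtTarget.of_iSup_eq_top (P := @IsProper) (fun _ : Unit => (⊤ : X.Opens))
      (by simp) (fun _ => hprop)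
  refine ⟨n, Y, π, j, himm, hcomm, hπ, ?_, U, hdense, hiso⟩
  -- surjectivity
  have hc : IsClosed (Set.range π) := π.isClosedMap.isClosed_range
  have hsub : (U : Set X) ⊆ Set.range π := by
    intro y hy
    have hs : Function.Surjective (π ∣_ U) := (inferInstance : Surjective (π ∣_ U)).surj
    obtain ⟨z, hz⟩ := hs ⟨y, hy⟩
    refine ⟨(π ⁻¹ᵁ U).ι z, ?_⟩
    have := congrArg (fun φ : _ ⟶ X => φ z) (morphismRestrict_ι π U)
    simp only [Scheme.Hom.comp_apply] at this
    rw [← this, hz]
    rfl
  refine ⟨fun y => ?_⟩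
  have : y ∈ closure (U : Set X) := hdense y
  exact (hc.closure_subset_iff.mpr hsub) this

end Groth.Agent.Lib.Helper4.ChowMain
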