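import Groth.Agent.Lib.Helper4.PushGeneric
import Groth.Agent.Lib.Helper4.HLesFin1
import Groth.Agent.Lib.Helper4.ChowMain
import Groth.Agent.S0818

set_option autoImplicit false
universe u
open CategoryTheory CategoryTheory.Limits Opposite TopologicalSpace AlgebraicGeometry

noncomputable section

namespace Groth.Agent.Lib.Helper4.ProperFinal

theorem isZero_toAb_of_isEmpty {X : Scheme.{u}} [IsEmpty X] (M : X.Modules) : IsZero (Coh.toAb M) := by
  have hsub : ∀ U : (Opens X)ᵒᵖ, Subsingleton ((Coh.toAb M).obj.obj U) := by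
    intro U
    have hU : U = op ⊥ := by
      rw [← op_unop U]
      congr 1
      ext x
      exact isEmptyElim x
    rw [hU]
    have hT := TopCat.Sheaf.isTerminalOfEmpty (Coh.toAb M)
    have hZ : IsZero ((Coh.toAb M).obj.obj (op (⊥ : Opens X))) :=
      (isZero_zero _).of_iso (hT.uniqueUpToIso HasZeroObject.zeroIsTerminal)
    exact AddCommGrpCat.subsingleton_of_isZero hZ
  rw [IsZero.iff_id_eq_zero]
  apply Sheaf.hom_ext
  ext U x
  exact (hsub U).elim _ _

theorem subsingleton_HH_of_isEmpty {X : Scheme.{u}} [IsEmpty X] (M : X.Modules) (n : ℕ) :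
    Subsingleton (Coh.HH X M n) :=
  Sheaf.subsingleton_H_of_isZero (isZero_toAb_of_isEmpty M) n

open Groth.Agent.Lib.Helper4.PushCoh Groth.Agent.Lib.Helper4.ProperFin Groth.Agent.Lib.Helper4.PushGeneric in
/-- **Finiteness of coherent cohomology** for proper schemes over a Noetherian ring -/
theorem finite_HH (A : Type u) [CommRing A] [IsNoetherianRing A] (X : Scheme.{u})
    [X.Over (Spec (CommRingCat.of A))] [IsProper (X ↘ Spec (CommRingCat.of A))]
    (M : X.Modules) (hM : Coh.IsCoh M) (n : ℕ) : Module.Finite A (Coh.HH X M n) := by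
  rcases isEmpty_or_nonempty X with hX | hX
  · haveI := subsingleton_HH_of_isEmpty M n
    infer_instance
  haveI : IsLocallyNoetherian X :=
    LocallyOfFiniteType.isLocallyNoetherian (X ↘ Spec (CommRingCat.of A))
  haveI : CompactSpace X := QuasiCompact.compactSpace_of_compactSpace (X ↘ Spec (CommRingCat.of A))
  haveI : IsNoetherian X := { }
  refine Groth.Agent.S0818.result X (fun M => ∀ n, Module.Finite A (Coh.HH X M n)) ?_ ?_ ?_ M hM n
  · rintro M N ⟨e⟩ h n
    exact Groth.Agent.Lib.Helper2.SerreFin1.finite_of_iso A e n (h n)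
  · intro S hS _ _ _
    exact ⟨fun h1 h2 n => Groth.Agent.Lib.Helper2.HLesLin.finite₃ S hS A n (h2 n) (h1 (n + 1)),
      fun h1 h3 n => Groth.Agent.Lib.Helper2.HLesLin.finite₂ S hS A n (h1 n) (h3 n),
      fun h2 h3 n => Groth.Agent.Lib.Helper4.HLesFin1.finite₁ S hS A h2 h3 n⟩
  · intro Z i _ _
    obtain ⟨N, Z', π, j, hjimm, hj, hπ, hsurj, U₀, hU₀, hiso⟩ :=
      Groth.Agent.Lib.Helper4.ChowMain.chow (i ≫ (X ↘ Spec (CommRingCat.of A)))
    haveI : Mono j := inferInstance
    haveI : IsProper (π ≫ i) := inferInstance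
    have hj' : j ≫ CohB1.ProjSpaceOver.toBase N _ = (π ≫ i) ≫ (X ↘ Spec (CommRingCat.of A)) := by
      rw [hj, Category.assoc]
    obtain ⟨d₀, hd₀⟩ := exists_finite_HH_push A (π ≫ i) N j hj'
    have hcoh := isCoh_push (X ↘ Spec (CommRingCat.of A)) (π ≫ i) N j hj' d₀
    obtain ⟨hsupp, hstalk⟩ := support_and_stalk i π U₀ hU₀ (FF N j d₀) (isInvertible_FF N j d₀) hcoh
    exact ⟨_, hcoh, hsupp, hstalk, hd₀ d₀ le_rfl⟩

end Groth.Agent.Lib.Helper4.ProperFinal
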