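import Groth.Agent.Lib.Helper4.LesLength
import Groth.Agent.Lib.Helper4.HLesFin1
import Groth.Agent.S0002

set_option autoImplicit false
universe u
open CategoryTheory AlgebraicGeometry

namespace Groth.Agent.Lib.Helper4.EulerAdd

open Groth.Agent.Lib.Helper4.LesLength Groth.Agent.Lib.Helper2.HLesLin Groth.Agent.Lib.Helper4.HLesFin1

theorem euler_add (A : Type u) [CommRing A] [IsArtinianRing A]
    (X : Scheme.{u}) [X.Over (Spec (CommRingCat.of A))] [IsProper (X ↘ Spec (CommRingCat.of A))]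
    (S : ShortComplex X.Modules) (hS : S.ShortExact) (h1 : Coh.IsCoh S.X₁) (h2 : Coh.IsCoh S.X₂)
    (h3 : Coh.IsCoh S.X₃) (N : ℕ)
    (hN : ∀ i : ℕ, N < i → Subsingleton (Coh.HH X S.X₁ i) ∧ Subsingleton (Coh.HH X S.X₂ i) ∧
      Subsingleton (Coh.HH X S.X₃ i)) :
    ((Finset.range (N + 1)).sum fun i => (-1 : ℤ) ^ i * ((Module.length A (Coh.HH X S.X₂ i)).toNat : ℤ)) =
      ((Finset.range (N + 1)).sum fun i => (-1 : ℤ) ^ i * ((Module.length A (Coh.HH X S.X₁ i)).toNat : ℤ)) +
      ((Finset.range (N + 1)).sum fun i => (-1 : ℤ) ^ i * ((Module.length A (Coh.HH X S.X₃ i)).toNat : ℤ)) := by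
  haveI : IsNoetherianRing A := inferInstance
  have hfin : ∀ (M : X.Modules), Coh.IsCoh M → ∀ i, Module.length A (Coh.HH X M i) ≠ ⊤ := by
    intro M hM i
    haveI : Module.Finite A (Coh.HH X M i) := Groth.Agent.S0002.result A X M hM i
    haveI : IsNoetherian A (Coh.HH X M i) := isNoetherian_of_isNoetherianRing_of_finite A _
    haveI : IsArtinian A (Coh.HH X M i) := isArtinian_of_fg_of_artinian' (R := A)
    exact Module.length_ne_top
  exact alt_sum_eq (R := A) (fun i => Coh.HH X S.X₁ i) (fun i => Coh.HH X S.X₂ i) (fun i => Coh.HH X S.X₃ i)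
    (fun i => Canon.HHlin A S.f i) (fun i => Canon.HHlin A S.g i) (fun i => δLin S hS A i)
    (injective_zero S hS A) (fun i => range_eq_ker₁ S hS A i) (fun i => range_eq_ker₂ S hS A i)
    (fun i => range_eq_ker₃ S hS A i) (hfin _ h1) (hfin _ h2) (hfin _ h3) N (hN (N + 1) (Nat.lt_succ_self N)).1

end Groth.Agent.Lib.Helper4.EulerAdd
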