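import Mathlib.AlgebraicGeometry.Limits
import Mathlib.AlgebraicGeometry.Properties
import Mathlib.AlgebraicGeometry.Morphisms.QuasiSeparated
import Mathlib.Tactic

set_option autoImplicit false
universe u
open CategoryTheory AlgebraicGeometry TopologicalSpace

namespace Groth.Agent.Lib.Helper4.GenericNhds

/-- an element of a minimal prime is killed, up to nilpotents, by something outside the prime -/
theorem ring_lemma {A : Type*} [CommRing A] (p : Ideal A) [hp : p.IsPrime]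
    (hmin : ∀ P : Ideal A, P.IsPrime → P ≤ p → P = p) (f : A) (hf : f ∈ p) :
    ∃ s : A, s ∉ p ∧ IsNilpotent (s * f) := by
  let S : Submonoid A := p.primeCompl ⊔ Submonoid.powers f
  have h0 : (0 : A) ∈ S := by
    by_contra h0
    have hdisj : Disjoint ((⊥ : Ideal A) : Set A) S := by
      rw [Set.disjoint_left]
      intro x hx hxS
      rw [SetLike.mem_coe, Ideal.mem_bot] at hx
      exact h0 (hx ▸ hxS)
    obtain ⟨P, hP, -, hPS⟩ := Ideal.exists_le_prime_disjoint ⊥ S hdisj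
    have hPp : P ≤ p := by
      intro x hx
      by_contra hxp
      exact Set.disjoint_left.mp hPS hx ((le_sup_left : _ ≤ S) hxp)
    have hPeq : P = p := hmin P hP hPp
    have hfS : f ∈ S := (le_sup_right : _ ≤ S) (Submonoid.mem_powers f)
    exact Set.disjoint_left.mp hPS (hPeq ▸ hf) hfS
  obtain ⟨s, hs, t, ht, hst⟩ := Submonoid.mem_sup.mp h0
  obtain ⟨n, rfl⟩ := ht
  refine ⟨s, hs, n + 1, ?_⟩
  have hst' : s * f ^ n = 0 := hst
  calc (s * f) ^ (n + 1) = (s * f ^ n) * (s ^ n * f) := by ring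
    _ = 0 := by rw [hst', zero_mul]

variable {X : Scheme.{u}}

/-- generization-maximal points -/
def GenMax (η : X) : Prop := ∀ y : X, y ⤳ η → y = η

theorem genMax_of_component (η : X) (h : closure ({η} : Set X) ∈ irreducibleComponents (X : Type u)) :
    GenMax η := by
  intro y hy
  have h1 : closure ({η} : Set X) ⊆ closure {y} :=
    closure_minimal (Set.singleton_subset_iff.mpr (specializes_iff_mem_closure.mp hy)) isClosed_closure
  have h2 : closure ({y} : Set X) ⊆ closure {η} := h.2 isIrreducible_singleton.closure h1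
  exact (inseparable_iff_closure_eq.mpr (Set.Subset.antisymm h2 h1)).eq

theorem single (V : X.Opens) (hV : IsAffineOpen V) (η : X) (hη : GenMax η) (hηV : η ∈ V)
    (f : Γ(X, V)) (hf : η ∉ X.basicOpen f) :
    ∃ s : Γ(X, V), η ∈ X.basicOpen s ∧ X.basicOpen s ⊓ X.basicOpen f = ⊥ := by
  let p := hV.primeIdealOf ⟨η, hηV⟩
  have hp : hV.fromSpec p = η := hV.fromSpec_primeIdealOf ⟨η, hηV⟩
  have hmem : ∀ g : Γ(X, V), η ∈ X.basicOpen g ↔ g ∉ p.asIdeal := by
    intro g
    rw [← hp]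
    change p ∈ hV.fromSpec ⁻¹ᵁ X.basicOpen g ↔ _
    rw [hV.fromSpec_preimage_basicOpen]
    rfl
  have hmin : ∀ P : Ideal Γ(X, V), P.IsPrime → P ≤ p.asIdeal → P = p.asIdeal := by
    intro P hP hle
    let P' : PrimeSpectrum Γ(X, V) := ⟨P, hP⟩
    have hsp : @Specializes (PrimeSpectrum Γ(X, V)) _ P' p :=
      (PrimeSpectrum.le_iff_specializes P' p).mp hle
    have hsp' : hV.fromSpec P' ⤳ hV.fromSpec p := hsp.map hV.fromSpec.continuous
    rw [hp] at hsp'
    have := hη _ hsp'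
    rw [← hp] at this
    have := hV.fromSpec.isOpenEmbedding.injective this
    exact congrArg PrimeSpectrum.asIdeal this
  have hfp : f ∈ p.asIdeal := by
    by_contra h
    exact hf ((hmem f).mpr h)
  obtain ⟨s, hs, hnil⟩ := ring_lemma p.asIdeal hmin f hfp
  refine ⟨s, (hmem s).mpr hs, ?_⟩
  rw [← Scheme.basicOpen_mul]
  exact X.toLocallyRingedSpace.basicOpen_eq_bot_of_isNilpotent V (s * f) hnil

theorem finset_avoid (V : X.Opens) (hV : IsAffineOpen V) (η : X) (hη : GenMax η) (hηV : η ∈ V)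
    (t : Finset Γ(X, V)) (ht : ∀ f ∈ t, η ∉ X.basicOpen f) :
    ∃ s : Γ(X, V), η ∈ X.basicOpen s ∧ ∀ f ∈ t, X.basicOpen s ⊓ X.basicOpen f = ⊥ := by
  classical
  induction t using Finset.induction_on with
  | empty =>
    refine ⟨1, ?_, by simp⟩
    rw [Scheme.basicOpen_of_isUnit _ isUnit_one]
    exact hηV
  | insert f t hft ih =>
    obtain ⟨s, hs, hst⟩ := ih (fun g hg => ht g (Finset.mem_insert_of_mem hg))
    obtain ⟨s', hs', hs'f⟩ := single V hV η hη hηV f (ht f (Finset.mem_insert_self _ _))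
    refine ⟨s * s', ?_, ?_⟩
    · rw [Scheme.basicOpen_mul]; exact ⟨hs, hs'⟩
    · intro g hg
      rw [Scheme.basicOpen_mul]
      rcases Finset.mem_insert.mp hg with rfl | hg
      · rw [inf_assoc, hs'f, inf_bot_eq]
      · rw [inf_right_comm, hst g hg, bot_inf_eq]

theorem avoid_compact (V : X.Opens) (hV : IsAffineOpen V) (η : X) (hη : GenMax η) (hηV : η ∈ V)
    (K : X.Opens) (hKV : K ≤ V) (hK : IsCompact (K : Set X)) (hηK : η ∉ K) :
    ∃ s : Γ(X, V), η ∈ X.basicOpen s ∧ Disjoint (X.basicOpen s) K := by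
  classical
  have hex : ∀ x : K, ∃ f : Γ(X, V), X.basicOpen f ≤ K ∧ (x : X) ∈ X.basicOpen f :=
    fun x => hV.exists_basicOpen_le x (hKV x.2)
  choose F hFK hFx using hex
  obtain ⟨T, hT⟩ := hK.elim_finite_subcover (fun x : K => ((X.basicOpen (F x) : X.Opens) : Set X))
    (fun x => (X.basicOpen (F x)).isOpen)
    (fun x hx => Set.mem_iUnion.mpr ⟨⟨x, hx⟩, hFx ⟨x, hx⟩⟩)
  obtain ⟨s, hs, hst⟩ := finset_avoid V hV η hη hηV (T.image F) (by
    intro f hf
    obtain ⟨x, -, rfl⟩ := Finset.mem_image.mp hf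
    exact fun h => hηK (hFK x h))
  refine ⟨s, hs, ?_⟩
  rw [← Opens.coe_disjoint, Set.disjoint_left]
  intro y hys hyK
  obtain ⟨x, hxT, hyx⟩ := Set.mem_iUnion₂.mp (hT hyK)
  have : y ∈ X.basicOpen s ⊓ X.basicOpen (F x) := ⟨hys, hyx⟩
  rw [hst (F x) (Finset.mem_image_of_mem F hxT)] at this
  exact this

/-- two distinct generization-maximal points of a quasi-separated scheme have disjoint
neighbourhoods -/
theorem sep_two [QuasiSeparatedSpace X] (η η' : X) (hη : GenMax η) (hη' : GenMax η') (hne : η ≠ η') :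
    ∃ O O' : X.Opens, η ∈ O ∧ η' ∈ O' ∧ Disjoint O O' := by
  obtain ⟨V, hV, hηV, -⟩ := exists_isAffineOpen_mem_and_subset (U := ⊤) (x := η) (by simp)
  obtain ⟨V', hV', hηV', -⟩ := exists_isAffineOpen_mem_and_subset (U := ⊤) (x := η') (by simp)
  by_cases h : η ∈ V'
  · -- both in V'
    have hns : ¬ η ⤳ η' := fun hs => hne (hη' η hs)
    rw [specializes_iff_forall_open] at hns
    push Not at hns
    obtain ⟨O, hO, hη'O, hηO⟩ := hns
    obtain ⟨a, haO, hη'a⟩ := hV'.exists_basicOpen_le (V := ⟨O, hO⟩) ⟨η', hη'O⟩ hηV'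
    have hηa : η ∉ X.basicOpen a := fun hh => hηO (haO hh)
    obtain ⟨s, hs, hsa⟩ := single V' hV' η hη h a hηa
    exact ⟨X.basicOpen s, X.basicOpen a, hs, hη'a, disjoint_iff.mpr hsa⟩
  · have hK : IsCompact (((V ⊓ V' : X.Opens)) : Set X) :=
      QuasiSeparatedSpace.inter_isCompact _ _ V.isOpen hV.isCompact V'.isOpen hV'.isCompact
    obtain ⟨s, hs, hsK⟩ := avoid_compact V hV η hη hηV (V ⊓ V') inf_le_left hK (fun hh => h hh.2)
    refine ⟨X.basicOpen s, V', hs, hηV', ?_⟩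
    rw [← Opens.coe_disjoint, Set.disjoint_left] at hsK ⊢
    intro y hys hyV'
    exact hsK hys ⟨X.basicOpen_le s hys, hyV'⟩

theorem family [QuasiSeparatedSpace X] {ι : Type*} [Finite ι] (η : ι → X)
    (hinj : Function.Injective η) (hmax : ∀ i, GenMax (η i)) (N : ι → X.Opens)
    (hN : ∀ i, η i ∈ N i) :
    ∃ U : ι → X.Opens, (∀ i, IsAffineOpen (U i) ∧ η i ∈ U i ∧ U i ≤ N i) ∧
      Pairwise (Function.onFun Disjoint U) := by
  classical
  have := Fintype.ofFinite ι
  have hpair : ∀ i j : ι, ∃ A B : X.Opens, i ≠ j → (η i ∈ A ∧ η j ∈ B ∧ Disjoint A B) := by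
    intro i j
    by_cases hij : i = j
    · exact ⟨⊤, ⊤, fun h => absurd hij h⟩
    · obtain ⟨A, B, hA, hB, hAB⟩ := sep_two (η i) (η j) (hmax i) (hmax j) (fun e => hij (hinj e))
      exact ⟨A, B, fun _ => ⟨hA, hB, hAB⟩⟩
  choose A B hAB using hpair
  let Oset : ι → Set X := fun i => (N i : Set X) ∩ ⋂ j, (if i = j then Set.univ else (A i j : Set X) ∩ B j i)
  have hOopen : ∀ i, IsOpen (Oset i) := by
    intro i
    refine (N i).isOpen.inter (isOpen_iInter_of_finite fun j => ?_)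
    split_ifs
    · exact isOpen_univ
    · exact (A i j).isOpen.inter (B j i).isOpen
  have hηO : ∀ i, η i ∈ Oset i := by
    intro i
    refine ⟨hN i, Set.mem_iInter.mpr fun j => ?_⟩
    split_ifs with hij
    · exact Set.mem_univ _
    · exact ⟨(hAB i j hij).1, (hAB j i (Ne.symm hij)).2.1⟩
  have hex : ∀ i, ∃ U : X.Opens, IsAffineOpen U ∧ η i ∈ U ∧ (U : Set X) ⊆ Oset i := by
    intro i
    obtain ⟨U, hU, h1, h2⟩ := exists_isAffineOpen_mem_and_subset (U := ⟨Oset i, hOopen i⟩)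
      (x := η i) (hηO i)
    exact ⟨U, hU, h1, h2⟩
  choose U hU hηU hUO using hex
  refine ⟨U, fun i => ⟨hU i, hηU i, fun x hx => (hUO i hx).1⟩, ?_⟩
  intro i j hij
  change Disjoint (U i) (U j)
  rw [← Opens.coe_disjoint, Set.disjoint_left]
  intro x hxi hxj
  have h1 := Set.mem_iInter.mp (hUO i hxi).2 j
  have h2 := Set.mem_iInter.mp (hUO j hxj).2 i
  rw [if_neg hij] at h1
  rw [if_neg (Ne.symm hij)] at h2
  have hd := (hAB i j hij).2.2
  rw [← Opens.coe_disjoint, Set.disjoint_left] at hd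
  exact hd h1.1 h2.2

theorem main1 (X : Scheme.{u}) [QuasiSeparatedSpace X] {n : ℕ}
    (η : Fin n → X) (hη : ∀ i, closure ({η i} : Set X) ∈ irreducibleComponents (X : Type u))
    (hinj : Function.Injective η) :
    ∃ U : Fin n → X.Opens, (∀ i, IsAffineOpen (U i) ∧ η i ∈ U i) ∧
      (∀ i j, i ≠ j → Disjoint (U i) (U j)) ∧ IsAffineOpen (⨆ i, U i) := by
  obtain ⟨U, hU, hdisj⟩ := family η hinj (fun i => genMax_of_component _ (hη i)) (fun _ => ⊤)
    (fun _ => trivial)
  exact ⟨U, fun i => ⟨(hU i).1, (hU i).2.1⟩, fun i j hij => hdisj hij,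
    IsAffineOpen.iSup_of_disjoint (fun i => (hU i).1) hdisj⟩

theorem main2 (X : Scheme.{u}) [QuasiSeparatedSpace X] {n : ℕ}
    (η : Fin n → X) (hη : ∀ i, closure ({η i} : Set X) ∈ irreducibleComponents (X : Type u)) (x : X) :
    ∃ U : X.Opens, IsAffineOpen U ∧ x ∈ U ∧ ∀ i, η i ∈ U := by
  obtain ⟨V, hV, hxV, -⟩ := exists_isAffineOpen_mem_and_subset (U := ⊤) (x := x) (by simp)
  let T : Set X := Set.range η \ V
  have hTfin : T.Finite := (Set.finite_range η).subset Set.sdiff_subset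
  have : Finite T := hTfin.to_subtype
  have hTmax : ∀ t : T, GenMax (t : X) := by
    rintro ⟨t, ⟨i, rfl⟩, -⟩
    exact genMax_of_component _ (hη i)
  -- neighbourhoods disjoint from V
  have hN : ∀ t : T, ∃ N : X.Opens, (t : X) ∈ N ∧ Disjoint N V := by
    intro t
    obtain ⟨V', hV', htV', -⟩ := exists_isAffineOpen_mem_and_subset (U := ⊤) (x := (t : X)) (by simp)
    have hK : IsCompact (((V' ⊓ V : X.Opens)) : Set X) :=
      QuasiSeparatedSpace.inter_isCompact _ _ V'.isOpen hV'.isCompact V.isOpen hV.isCompact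
    obtain ⟨s, hs, hsK⟩ := avoid_compact V' hV' t (hTmax t) htV' (V' ⊓ V) inf_le_left hK
      (fun hh => t.2.2 hh.2)
    refine ⟨X.basicOpen s, hs, ?_⟩
    rw [← Opens.coe_disjoint, Set.disjoint_left] at hsK ⊢
    intro y hys hyV
    exact hsK hys ⟨X.basicOpen_le s hys, hyV⟩
  choose N hNt hNV using hN
  obtain ⟨U, hU, hdisj⟩ := family (fun t : T => (t : X)) Subtype.val_injective hTmax N hNt
  have hsup : IsAffineOpen (⨆ t, U t) := IsAffineOpen.iSup_of_disjoint (fun t => (hU t).1) hdisj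
  have hdV : Disjoint V (⨆ t, U t) := by
    rw [disjoint_iSup_iff]
    intro t
    exact ((hNV t).mono_left (hU t).2.2).symm
  refine ⟨V ⊔ ⨆ t, U t, hV.sup_of_disjoint hsup hdV, Or.inl hxV, fun i => ?_⟩
  by_cases hi : η i ∈ V
  · exact Or.inl hi
  · right
    have ht : η i ∈ T := ⟨⟨i, rfl⟩, hi⟩
    exact Opens.mem_iSup.mpr ⟨⟨η i, ht⟩, (hU ⟨η i, ht⟩).2.1⟩

end Groth.Agent.Lib.Helper4.GenericNhds
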