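import Mathlib.Topology.KrullDimension
import Mathlib.Topology.Constructible
import Mathlib.Topology.NoetherianSpace
import Mathlib.Topology.Sober
import Mathlib.Tactic

set_option autoImplicit false
universe u
open TopologicalSpace Topology

namespace Groth.Agent.Lib.Helper4.DimOneConstructible

variable {X : Type*} [TopologicalSpace X]

/-- in an irreducible T0 space of dimension ≤ 1, a proper irreducible closed subset is a closed
singleton -/
theorem irred_proper_singleton [IrreducibleSpace X] [T0Space X] (hX : topologicalKrullDim X ≤ 1)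
    (t : Set X) (htc : IsClosed t) (hti : IsIrreducible t) (hne : t ≠ Set.univ) :
    ∃ z, t = {z} := by
  have hdim := (Order.krullDim_le_one_iff (α := IrreducibleCloseds X)).mp hX
  let k : IrreducibleCloseds X := ⟨t, hti, htc⟩
  let top : IrreducibleCloseds X := ⟨Set.univ, IrreducibleSpace.isIrreducible_univ X, isClosed_univ⟩
  have hlt : k < top := by
    rw [lt_iff_le_and_ne]
    refine ⟨fun x _ => Set.mem_univ x, fun e => hne ?_⟩
    exact congrArg (fun a : IrreducibleCloseds X => (a : Set X)) e
  have hmin : IsMin k := by
    rcases hdim k with h | h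
    · exact h
    · exact absurd hlt h.not_lt
  have hgen : ∀ y ∈ t, closure ({y} : Set X) = t := by
    intro y hy
    let c : IrreducibleCloseds X := ⟨closure {y}, isIrreducible_singleton.closure, isClosed_closure⟩
    have hck : c ≤ k := by
      intro x hx
      exact closure_minimal (Set.singleton_subset_iff.mpr hy) htc hx
    have hkc : k ≤ c := hmin hck
    exact Set.Subset.antisymm hck hkc
  obtain ⟨z, hz⟩ := hti.nonempty
  refine ⟨z, ?_⟩
  ext y
  simp only [Set.mem_singleton_iff]
  constructor
  · intro hy
    have : closure ({y} : Set X) = closure {z} := by rw [hgen y hy, hgen z hz]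
    exact ((inseparable_iff_closure_eq.mpr this)).eq
  · rintro rfl; exact hz

theorem closed_proper_finite [IrreducibleSpace X] [T0Space X] [NoetherianSpace X]
    (hX : topologicalKrullDim X ≤ 1) (Z : Set X) (hZ : IsClosed Z) (hne : Z ≠ Set.univ) :
    Z.Finite ∧ ∀ x ∈ Z, IsClosed ({x} : Set X) := by
  obtain ⟨S, hSf, hSc, hSi, rfl⟩ := NoetherianSpace.exists_finite_set_isClosed_irreducible hZ
  have key : ∀ t ∈ S, ∃ z, t = {z} := by
    intro t ht
    apply irred_proper_singleton hX t (hSc t ht) (hSi t ht)
    intro e
    apply hne
    rw [Set.eq_univ_iff_forall]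
    intro x
    exact ⟨t, ht, e ▸ Set.mem_univ x⟩
  constructor
  · apply Set.Finite.sUnion hSf
    intro t ht
    obtain ⟨z, rfl⟩ := key t ht
    exact Set.finite_singleton z
  · rintro x ⟨t, ht, hxt⟩
    obtain ⟨z, rfl⟩ := key t ht
    rw [Set.mem_singleton_iff] at hxt
    rw [hxt]
    exact hSc _ ht

theorem main [IrreducibleSpace X] [T0Space X] [NoetherianSpace X]
    (hX : topologicalKrullDim X ≤ 1) (s : Set X) (hs : IsConstructible s) :
    (s.Finite ∧ (∀ x ∈ s, IsClosed ({x} : Set X))) ∨
      (sᶜ.Finite ∧ ∀ x ∈ sᶜ, IsClosed ({x} : Set X)) := by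
  induction hs using IsConstructible.empty_union_induction with
  | open_retrocompact U hUopen hUcomp =>
    by_cases hU : U = ∅
    · left; subst hU; simp
    · right
      apply closed_proper_finite hX _ hUopen.isClosed_compl
      intro e
      apply hU
      exact Set.compl_univ_iff.mp e
  | union s hs t ht hs' ht' =>
    rcases hs' with ⟨h1, h2⟩ | ⟨h1, h2⟩
    · rcases ht' with ⟨h3, h4⟩ | ⟨h3, h4⟩
      · left
        refine ⟨h1.union h3, ?_⟩
        rintro x (hx | hx)
        · exact h2 x hx
        · exact h4 x hx
      · right
        refine ⟨h3.subset (Set.compl_subset_compl.mpr Set.subset_union_right), ?_⟩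
        intro x hx
        exact h4 x (Set.compl_subset_compl.mpr Set.subset_union_right hx)
    · right
      refine ⟨h1.subset (Set.compl_subset_compl.mpr Set.subset_union_left), ?_⟩
      intro x hx
      exact h2 x (Set.compl_subset_compl.mpr Set.subset_union_left hx)
  | compl s hs hs' =>
    rcases hs' with h | h
    · right; rw [compl_compl]; exact h
    · left; exact h

end Groth.Agent.Lib.Helper4.DimOneConstructible
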