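import Groth.Agent.Lib.Helper4.ProjFormula
import Groth.Agent.Lib.Helper2.SerreVan
import Groth.Agent.Lib.Helper28.TwistCov
import Groth.Agent.Lib.Helper28.VeryAmpleImm
import Groth.Agent.Lib.Helper28.InvQC
import Groth.Agent.Lib.Helper6.DevRed
import Groth.Agent.S0019
import Groth.Agent.S0012
import Groth.Agent.S2357

set_option autoImplicit false
universe u
open CategoryTheory CategoryTheory.Limits Opposite TopologicalSpace AlgebraicGeometry

noncomputable section

namespace Groth.Agent.Lib.Helper4.ProjVanish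

open Groth.Agent.Lib.Helper28 Groth.Agent.Lib.Helper28.QCohLoc Groth.Agent.Lib.Helper28.GenLocus
  Groth.Agent.Lib.Helper28.PullbackInv

variable (N : ℕ) (B : Type u) [CommRing B]

theorem isInvertible_twistProjSpace (d : ℤ) : PicF.IsInvertible (Twist.twistProjSpace N B d) :=
  TwistCov.isInvertible_twist (CohB1.polyGrading N B) (VeryAmpleImm.projSpace_cover N B) d

variable [IsNoetherianRing B]

instance : IsNoetherian (CohB1.ProjSpace N B) :=
  Groth.Agent.S2357.result (CohB1.polyGrading N B)

variable {N B} {W : Scheme.{u}} (k : W ⟶ CohB1.ProjSpace N B) [IsClosedImmersion k]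

/-- the inverse image of `O(1)` on a closed subscheme of projective space -/
abbrev O1 : W.Modules := (Scheme.Modules.pullback k).obj (Twist.twistProjSpace N B 1)

theorem isInvertible_O1 : PicF.IsInvertible (O1 k) :=
  isInvertible_pullback k (isInvertible_twistProjSpace N B 1)

theorem isCoh_push_structure : Coh.IsCoh ((Scheme.Modules.pushforward k).obj (Coh.structureModule W)) :=
  Groth.Agent.S0019.result k _ Groth.Agent.Lib.Helper6.DevRed.isCoh_structureModule

/-- `k_* (O_W(d)) ≅ (k_* O_W)(d)` -/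
theorem nonempty_push_iso (d : ℕ) :
    Nonempty ((Scheme.Modules.pushforward k).obj (CohB1.tensorPow (O1 k) d) ≅
      CohB1.tensorMod ((Scheme.Modules.pushforward k).obj (Coh.structureModule W))
        (Twist.twistProjSpace N B (d : ℤ))) := by
  obtain ⟨e₁⟩ := ProjFormula.nonempty_push_tensorPow_iso k (Twist.twistProjSpace N B 1) d
    (isInvertible_twistProjSpace N B 1)
  obtain ⟨e₂⟩ := TwistCov.nonempty_twist_iso_tensorPow (CohB1.polyGrading N B) (VeryAmpleImm.projSpace_cover N B) d
  exact ⟨e₁ ≪≫ PicGrp.tensorModIso (Iso.refl _) e₂.symm⟩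

/-- **Serre vanishing on a closed subscheme of projective space over a Noetherian ring** -/
theorem exists_vanishing :
    ∃ d₀ : ℕ, ∀ d : ℕ, d₀ ≤ d → ∀ q : ℕ, 0 < q →
      Subsingleton (Coh.HH W (CohB1.tensorPow (O1 k) d) q) := by
  obtain ⟨d₀, h⟩ := Groth.Agent.Lib.Helper2.SerreVan.serre_vanishing N B _ (isCoh_push_structure k)
  refine ⟨d₀.toNat, fun d hd q hq => ?_⟩
  have hd' : d₀ ≤ (d : ℤ) := by omega
  have h1 := h d hd' q hq
  obtain ⟨e⟩ := nonempty_push_iso k d
  have h2 : Subsingleton (Coh.HH (CohB1.ProjSpace N B)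
      ((Scheme.Modules.pushforward k).obj (CohB1.tensorPow (O1 k) d)) q) :=
    Groth.Agent.Lib.Helper2.DualE2.subsingleton_HH_of_iso B e.symm q h1
  haveI : Coh.IsQCoh (CohB1.tensorPow (O1 k) d) :=
    InvQC.isQuasicoherent_of_isInvertible _ (isInvertible_tensorPow (isInvertible_O1 k) d)
  obtain ⟨φ⟩ := Groth.Agent.S0012.result k (CohB1.tensorPow (O1 k) d) q
  exact φ.toEquiv.subsingleton

end Groth.Agent.Lib.Helper4.ProjVanish
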