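import Groth.Agent.Lib.Helper2.Bridge5
import Groth.Agent.Lib.Helper2.SerreVan
import Groth.Agent.Lib.Helper2.DualE2
import Groth.Agent.Lib.Helper6.K0Op2
import Groth.Agent.Lib.Helper28.AmpleIso
import Groth.Agent.Lib.Helper28.PullbackInv2
import Groth.Agent.Lib.Helper28.TwistCov
import Groth.Agent.Lib.Helper28.VeryAmpleImm
import Groth.Agent.Lib.Helper4.ProjVanish
import Groth.Agent.S0019

set_option autoImplicit false
universe u
open CategoryTheory CategoryTheory.Limits Opposite TopologicalSpace AlgebraicGeometry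

noncomputable section

namespace Groth.Agent.Lib.Helper4.AmpleVan

open Groth.Agent.Lib.Helper28 Groth.Agent.Lib.Helper28.GenLocus

variable (R : Type u) [CommRing R] [IsNoetherianRing R] (m : ℕ) {X : Scheme.{u}}
  [X.Over (Spec (CommRingCat.of R))] (k : X ⟶ CohB1.ProjSpace m R) [IsClosedImmersion k]
  (hk : k ≫ CohB1.ProjSpace.toSpec m R = X ↘ Spec (CommRingCat.of R))

include hk in
/-- **Serre vanishing for a coherent module on a closed subscheme of projective space over a Noetherian ring** -/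
theorem exists_vanishing (M : X.Modules) (hM : Coh.IsCoh M) :
    ∃ d₀ : ℕ, ∀ d : ℕ, d₀ ≤ d → ∀ q : ℕ, 0 < q →
      Subsingleton (Coh.HH X (CohB1.tensorMod M
        (CohB1.tensorPow ((Scheme.Modules.pullback k).obj (Twist.twistProjSpace m R 1)) d)) q) := by
  haveI : IsNoetherian (CohB1.ProjSpace m R) := Groth.Agent.S2357.result (CohB1.polyGrading m R)
  obtain ⟨d₀, h⟩ := Groth.Agent.Lib.Helper2.SerreVan.serre_vanishing m R _
    (Groth.Agent.S0019.result k M hM)
  refine ⟨d₀.toNat, fun d hd q hq => ?_⟩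
  have hd' : d₀ ≤ (d : ℤ) := by omega
  have h1 := h d hd' q hq
  haveI : M.IsQuasicoherent := hM.1
  obtain ⟨φ⟩ := Groth.Agent.Lib.Helper2.Bridge5.nonempty_twist_linearEquiv R m k hk M (d : ℤ) q
  have h2 : Subsingleton (Coh.HH X (CohB1.tensorMod M ((Scheme.Modules.pullback k).obj
      (Twist.twistProjSpace m R (d : ℤ)))) q) := φ.toEquiv.subsingleton
  obtain ⟨e₂⟩ := TwistCov.nonempty_twist_iso_tensorPow (CohB1.polyGrading m R)
    (VeryAmpleImm.projSpace_cover m R) d
  obtain ⟨e₃, -⟩ := PullbackInv.exists_pullback_tensorPow_iso k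
    (Groth.Agent.Lib.Helper4.ProjVanish.isInvertible_twistProjSpace m R 1) d
  have e : CohB1.tensorMod M ((Scheme.Modules.pullback k).obj (Twist.twistProjSpace m R (d : ℤ))) ≅
      CohB1.tensorMod M
        (CohB1.tensorPow ((Scheme.Modules.pullback k).obj (Twist.twistProjSpace m R 1)) d) :=
    PicGrp.tensorModIso (Iso.refl M) ((Scheme.Modules.pullback k).mapIso e₂ ≪≫ e₃)
  exact Groth.Agent.Lib.Helper2.DualE2.subsingleton_HH_of_iso R e q h2

end Groth.Agent.Lib.Helper4.AmpleVan
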