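import Groth.Agent.Lib.Helper4.AmpleEmb
import Groth.Agent.Lib.Helper4.AmpleVan
import Groth.Agent.S0050
import Groth.Agent.S0046

set_option autoImplicit false
universe u
open CategoryTheory CategoryTheory.Limits Opposite TopologicalSpace AlgebraicGeometry

noncomputable section

namespace Groth.Agent.Lib.Helper4.AmpleSerre

open Groth.Agent.Lib.Helper28 Groth.Agent.Lib.Helper28.GenLocus

/-- **Serre vanishing for an ample invertible module on a scheme proper over a Noetherian ring** -/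
theorem vanishing_of_isAmple (R : Type u) [CommRing R] [IsNoetherianRing R]
    (X : Scheme.{u}) (f : X ⟶ Spec (CommRingCat.of R)) [IsProper f] (L : X.Modules)
    (hL : CohB1.IsAmple L) (M : X.Modules) (hM : Coh.IsCoh M) :
    ∃ n₀ : ℕ, ∀ n : ℕ, n₀ ≤ n → ∀ p : ℕ, 0 < p →
      Subsingleton (Coh.HH X (CohB1.tensorMod M (CohB1.tensorPow L n)) p) := by
  classical
  obtain ⟨N, m, k, hN, hk, hkf, ⟨e⟩⟩ := AmpleEmb.exists_closedImmersion R X f L hL
  letI : X.Over (Spec (CommRingCat.of R)) := ⟨f⟩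
  have hinv := hL.1
  -- the bounds for the residues
  have hr : ∀ r : ℕ, ∃ d₀ : ℕ, ∀ d : ℕ, d₀ ≤ d → ∀ q : ℕ, 0 < q →
      Subsingleton (Coh.HH X (CohB1.tensorMod (CohB1.tensorMod M (CohB1.tensorPow L r))
        (CohB1.tensorPow ((Scheme.Modules.pullback k).obj (Twist.twistProjSpace m R 1)) d)) q) :=
    fun r => AmpleVan.exists_vanishing R m k hkf _
      (Groth.Agent.Lib.Helper6.K0Op.isCoh_tensorMod _ _ hM
        (Groth.Agent.Lib.Helper6.K0Op.isCoh_of_isInvertible _ (isInvertible_tensorPow hinv r)))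
  choose d₀ hd₀ using hr
  refine ⟨N * (Finset.range N).sup d₀, fun n hn p hp => ?_⟩
  set d := n / N with hd
  set r := n % N with hr'
  have hrN : r < N := Nat.mod_lt n hN
  have hnd : n = r + N * d := by rw [hd, hr', Nat.mod_add_div]
  have hdr : d₀ r ≤ d := by
    have h1 : d₀ r ≤ (Finset.range N).sup d₀ := Finset.le_sup (Finset.mem_range.2 hrN)
    have h2 : (Finset.range N).sup d₀ ≤ d := by
      rw [hd, Nat.le_div_iff_mul_le hN, Nat.mul_comm]
      exact hn
    exact h1.trans h2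
  have h1 := hd₀ r d hdr p hp
  obtain ⟨e₁, -⟩ := exists_tensorPow_add_iso (L := L) hinv r (N * d) n hnd
  obtain ⟨e₂, -⟩ := exists_tensorPow_tensorPow_iso (L := L) hinv N d (N * d) rfl
  have e₃ := AmpleIso.tensorPowIso e d
  have ι : CohB1.tensorMod (CohB1.tensorMod M (CohB1.tensorPow L r))
        (CohB1.tensorPow ((Scheme.Modules.pullback k).obj (Twist.twistProjSpace m R 1)) d) ≅
      CohB1.tensorMod M (CohB1.tensorPow L n) :=
    Groth.Agent.Lib.Helper16.TA.assocIso _ _ _ ≪≫
      PicGrp.tensorModIso (Iso.refl M)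
        (PicGrp.tensorModIso (Iso.refl _) (e₃.symm ≪≫ e₂) ≪≫ e₁)
  exact Groth.Agent.Lib.Helper2.DualE2.subsingleton_HH_of_iso R ι p h1

/-- **Serre's cohomological criterion of ampleness** on a scheme proper over a Noetherian ring -/
theorem isAmple_of_vanishing (R : Type u) [CommRing R] [IsNoetherianRing R]
    (X : Scheme.{u}) (f : X ⟶ Spec (CommRingCat.of R)) [IsProper f] (L : X.Modules)
    (hL : PicF.IsInvertible L)
    (h : ∀ (M : X.Modules), Coh.IsCoh M → ∃ n₀ : ℕ, ∀ n : ℕ, n₀ ≤ n → ∀ p : ℕ, 0 < p →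
      Subsingleton (Coh.HH X (CohB1.tensorMod M (CohB1.tensorPow L n)) p)) :
    CohB1.IsAmple L := by
  haveI : CompactSpace X := QuasiCompact.compactSpace_of_compactSpace f
  haveI : IsLocallyNoetherian X := LocallyOfFiniteType.isLocallyNoetherian f
  refine Groth.Agent.S0050.result X L hL (fun I i hi hI => ?_)
  have hcoh : Coh.IsCoh I := Groth.Agent.S0046.result X (Coh.structureModule X) I i
    Groth.Agent.Lib.Helper6.DevRed.isCoh_structureModule hI
  obtain ⟨n₀, hn₀⟩ := h I hcoh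
  exact ⟨n₀, hn₀ (n₀ + 1) (Nat.le_succ _) 1 one_pos⟩

end Groth.Agent.Lib.Helper4.AmpleSerre
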