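import Groth.Agent.Lib.Helper4.Snapper1
set_option backward.isDefEq.respectTransparency.types false
set_option autoImplicit false
set_option linter.style.haveILetI false

universe u
open CategoryTheory CategoryTheory.Limits AlgebraicGeometry Opposite TopologicalSpace

namespace Groth.Agent.Lib.Helper4.Snapper
open Groth.Agent.Lib.Helper6.K0Filt Groth.Agent.Lib.Helper6.K0Len Groth.Agent.Lib.Helper6.K0Op
  Groth.Agent.Lib.Helper6.K0Tensor Groth.Agent.Lib.Helper4.NumPoly

variable {X : Scheme.{u}}

/-- tensoring an isomorphism on the left -/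
noncomputable def tensorIsoLeft {A B : X.Modules} (e : A ≅ B) (G : X.Modules) :
    CohB1.tensorMod A G ≅ CohB1.tensorMod B G :=
  (DCoh.tensorBi.mapIso e).app G

theorem Top_congr {A B : X.Modules} (e : A ≅ B) (hA : PicF.IsInvertible A) (hB : PicF.IsInvertible B) :
    Top A = Top B := by
  apply end_ext
  intro G hG
  rw [Top_cls A hA G hG, Top_cls B hB G hG]
  exact cls_iso (tensorIsoLeft e G) (isCoh_tensorMod _ _ (isCoh_of_isInvertible A hA) hG)

theorem Top_comm (A B : X.Modules) (hA : PicF.IsInvertible A) (hB : PicF.IsInvertible B) :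
    Top A * Top B = Top B * Top A := by
  rw [← Top_tensorMod A B hA hB, ← Top_tensorMod B A hB hA]
  exact Top_congr (Groth.Agent.Lib.Helper6.K0Inv.braidIso A B)
    (Groth.Agent.Lib.Helper28.GenLocus.isInvertible_tensorMod hA hB)
    (Groth.Agent.Lib.Helper28.GenLocus.isInvertible_tensorMod hB hA)

theorem Top_structureModule : Top (Coh.structureModule X) = 1 := by
  apply end_ext
  intro G hG
  rw [Top_cls _ (Groth.Agent.Lib.Helper28.AmpleUnit.isInvertible_structureModule X) G hG]
  obtain ⟨e⟩ := Groth.Agent.Lib.Helper28.InvQC.nonempty_unit_tensor_iso G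
  exact cls_iso e (Groth.Agent.Lib.Helper6.DevCore.isCoh_of_iso e.symm hG)

theorem Top_tensorPow (M : X.Modules) (hM : PicF.IsInvertible M) (k : ℕ) :
    Top (CohB1.tensorPow M k) = Top M ^ k := by
  induction k with
  | zero => rw [pow_zero]; exact Top_structureModule
  | succ k ih =>
    have : CohB1.tensorPow M (k + 1) = CohB1.tensorMod (CohB1.tensorPow M k) M := rfl
    rw [this, Top_tensorMod _ _ (Groth.Agent.Lib.Helper28.GenLocus.isInvertible_tensorPow hM k) hM, ih, pow_succ]

/-- the operator `Π_i [L_i ⊗ -]^{n_i}` -/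
noncomputable def W : (r : ℕ) → (_root_.Fin r → X.Modules) → (_root_.Fin r → ℕ) → AddMonoid.End (K0 X)
  | 0, _, _ => 1
  | r + 1, L, n => Top (L (Fin.last r)) ^ n (Fin.last r) * W r (fun i => L i.castSucc) (fun i => n i.castSucc)

theorem isCoh_tensorPows (F : X.Modules) (hF : Coh.IsCoh F) : (r : ℕ) → (L : _root_.Fin r → X.Modules) →
    (∀ i, PicF.IsInvertible (L i)) → (n : _root_.Fin r → ℕ) → Coh.IsCoh (Curv2.tensorPows F r L n)
  | 0, _, _, _ => hF
  | r + 1, L, hL, n =>
    isCoh_tensorMod _ _ (isCoh_tensorPows F hF r _ (fun i => hL i.castSucc) _)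
      (isCoh_of_isInvertible _ (Groth.Agent.Lib.Helper28.GenLocus.isInvertible_tensorPow (hL (Fin.last r)) _))

theorem cls_tensorPows (F : X.Modules) (hF : Coh.IsCoh F) : (r : ℕ) → (L : _root_.Fin r → X.Modules) →
    (∀ i, PicF.IsInvertible (L i)) → (n : _root_.Fin r → ℕ) →
    cls (Curv2.tensorPows F r L n) = W r L n (cls F)
  | 0, _, _, _ => rfl
  | r + 1, L, hL, n => by
    have hA := isCoh_tensorPows F hF r _ (fun i => hL i.castSucc) (fun i => n i.castSucc)
    have hP := Groth.Agent.Lib.Helper28.GenLocus.isInvertible_tensorPow (hL (Fin.last r)) (n (Fin.last r))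
    have e := Groth.Agent.Lib.Helper6.K0Inv.braidIso
      (Curv2.tensorPows F r (fun i => L i.castSucc) (fun i => n i.castSucc))
      (CohB1.tensorPow (L (Fin.last r)) (n (Fin.last r)))
    have h1 : Curv2.tensorPows F (r + 1) L n = CohB1.tensorMod
      (Curv2.tensorPows F r (fun i => L i.castSucc) (fun i => n i.castSucc))
      (CohB1.tensorPow (L (Fin.last r)) (n (Fin.last r))) := rfl
    rw [h1, cls_iso e (isCoh_tensorMod _ _ hA (isCoh_of_isInvertible _ hP)), ← Top_cls _ hP _ hA,
      cls_tensorPows F hF r _ (fun i => hL i.castSucc), Top_tensorPow _ (hL (Fin.last r))]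
    rfl

theorem W_add_single : (r : ℕ) → (L : _root_.Fin r → X.Modules) → (∀ i, PicF.IsInvertible (L i)) →
    (n : _root_.Fin r → ℕ) → (i : _root_.Fin r) → W r L (n + Pi.single i 1) = Top (L i) * W r L n
  | 0, _, _, _, i => i.elim0
  | r + 1, L, hL, n, i => by
    induction i using Fin.lastCases with
    | last =>
      have h1 : (n + Pi.single (Fin.last r) 1 : _root_.Fin (r + 1) → ℕ) (Fin.last r) = n (Fin.last r) + 1 := by
        simp
      have h2 : (fun j : _root_.Fin r => (n + Pi.single (Fin.last r) 1 : _root_.Fin (r + 1) → ℕ) j.castSucc) =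
          fun j => n j.castSucc := by
        funext j
        simp [Pi.single_apply, Fin.castSucc_ne_last]
      show Top (L (Fin.last r)) ^ (n + Pi.single (Fin.last r) 1 : _root_.Fin (r + 1) → ℕ) (Fin.last r) *
        W r (fun i => L i.castSucc)
          (fun j => (n + Pi.single (Fin.last r) 1 : _root_.Fin (r + 1) → ℕ) j.castSucc) = _
      rw [h1, h2, pow_succ', mul_assoc]
      rfl
    | cast j =>
      have h1 : (n + Pi.single j.castSucc 1 : _root_.Fin (r + 1) → ℕ) (Fin.last r) = n (Fin.last r) := by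
        simp [Pi.single_apply, (Fin.castSucc_ne_last j).symm]
      have h2 : (fun t : _root_.Fin r => (n + Pi.single j.castSucc 1 : _root_.Fin (r + 1) → ℕ) t.castSucc) =
          (fun t => n t.castSucc) + Pi.single j 1 := by
        funext t
        simp [Pi.single_apply, Fin.castSucc_inj]
      show Top (L (Fin.last r)) ^ (n + Pi.single j.castSucc 1 : _root_.Fin (r + 1) → ℕ) (Fin.last r) *
        W r (fun i => L i.castSucc)
          (fun t => (n + Pi.single j.castSucc 1 : _root_.Fin (r + 1) → ℕ) t.castSucc) = _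
      rw [h1, h2, W_add_single r _ (fun i => hL i.castSucc) _ j]
      have hc : Commute (Top (L j.castSucc)) (Top (L (Fin.last r))) :=
        Top_comm _ _ (hL j.castSucc) (hL (Fin.last r))
      have hc' := (hc.pow_right (n (Fin.last r))).eq
      show Top (L (Fin.last r)) ^ n (Fin.last r) * (Top (L j.castSucc) *
        W r (fun i => L i.castSucc) (fun t => n t.castSucc)) =
        Top (L j.castSucc) * (Top (L (Fin.last r)) ^ n (Fin.last r) *
        W r (fun i => L i.castSucc) (fun t => n t.castSucc))
      rw [← mul_assoc, ← mul_assoc, hc']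

section main
variable [IsNoetherian X] {r : ℕ} (L : _root_.Fin r → X.Modules) (hL : ∀ i, PicF.IsInvertible (L i))

/-- functions `g : ℕ^r → K'_0` on which the shift in direction `i` acts as `[L_i ⊗ -]` -/
def IsEquivariant (g : (_root_.Fin r → ℕ) → K0 X) : Prop :=
  ∀ (i : Fin r) (n : _root_.Fin r → ℕ), g (n + Pi.single i 1) = Top (L i) (g n)

theorem IsEquivariant.Δ {g : (_root_.Fin r → ℕ) → K0 X} (hg : IsEquivariant L g) (j : _root_.Fin r) :
    IsEquivariant L (Δ j g) := by
  intro i n
  unfold NumPoly.Δ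
  rw [map_sub, ← hg i n, ← hg i (n + Pi.single j 1)]
  congr 2
  abel

include hL in
theorem isNumPolyLt_of_isEquivariant (e : ℕ) : ∀ (g : (_root_.Fin r → ℕ) → K0 X), IsEquivariant L g →
    (∀ n, g n ∈ Hlt X e) → IsNumPolyLt e g := by
  induction e with
  | zero =>
    intro g _ h
    rw [isNumPolyLt_zero_iff]
    funext n
    have := h n
    rw [Hlt_zero, AddSubgroup.mem_bot] at this
    exact this
  | succ e ih =>
    intro g hg h
    apply isNumPolyLt_succ_of_Δ
    intro i
    apply ih _ (hg.Δ L i)
    intro n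
    have h1 := sub_Top_mem_Hlt (L i) (hL i) e (g n) (h n)
    have h2 : NumPoly.Δ i g n = - ((1 - Top (L i)) (g n)) := by
      unfold NumPoly.Δ
      rw [hg i n]
      change _ = - (g n - Top (L i) (g n))
      abel
    rw [h2]
    exact AddSubgroup.neg_mem _ h1

end main

end Groth.Agent.Lib.Helper4.Snapper
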