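import Groth.Agent.Lib.Helper4.Snapper12
set_option backward.isDefEq.respectTransparency.types false
set_option autoImplicit false
set_option linter.style.haveILetI false

universe u
open CategoryTheory CategoryTheory.Limits AlgebraicGeometry Opposite TopologicalSpace

namespace Groth.Agent.Lib.Helper4.Snapper
open Groth.Agent.Lib.Helper6.K0Filt Groth.Agent.Lib.Helper6.K0Len Groth.Agent.Lib.Helper6.K0Op
  Groth.Agent.Lib.Helper6.K0Tensor Groth.Agent.Lib.Helper4.NumPoly

variable (k : Type u) [Field k] {X : Scheme.{u}} [X.Over (Spec (CommRingCat.of k))]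
    [IsProper (X ↘ (Spec (CommRingCat.of k)))]

/-- **nonnegativity of the `d`-th Hilbert coefficient** for an ample module and `dim Supp F ≤ d` -/
theorem hcoef_nonneg (L : X.Modules) (hL : CohB1.IsAmple L) (d : ℕ) (F : X.Modules) (hF : Coh.IsCoh F)
    (hsupp : topologicalKrullDim (CohB1.support F) ≤ (d : WithBot ℕ∞)) :
    0 ≤ hcoef k X L d (cls F) :=
  hcoef_nonneg_of_pos k L hL.1 d (fun ξ hξ => hcoef_pos_point k d X L hL ξ hξ) F hF hsupp

open Classical in
/-- **positivity of the top Hilbert coefficient** for an ample module and `dim Supp F = d` -/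
theorem hcoef_pos (L : X.Modules) (hL : CohB1.IsAmple L) (d : ℕ) (F : X.Modules) (hF : Coh.IsCoh F)
    (hsupp : topologicalKrullDim (CohB1.support F) = (d : WithBot ℕ∞)) :
    0 < hcoef k X L d (cls F) := by
  haveI : IsNoetherian X := isNoetherian_of_proper k
  have hcl := Groth.Agent.Lib.Helper6.DevCore.isClosed_support F hF
  obtain ⟨η, hηF, hη⟩ := Groth.Agent.Lib.Helper4.DimChain.exists_mem_dim_closure_eq _ hcl d hsupp
  obtain ⟨hfin, -⟩ := cycle_formula_dim d (CohB1.support F) hcl hsupp.le F hF le_rfl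
  rw [← inter_const k d L hL.1, inter_eq_cycle_sum k F hF d hsupp.le _ (fun _ => hL.1)]
  set f : X → ℤ := fun ξ => if Dn d ξ then ((len F ξ).toNat : ℤ) * inter k X d (fun _ => L) (cls (OZ ξ)) else 0
    with hf
  have hnn : ∀ ξ, 0 ≤ f ξ := by
    intro ξ
    simp only [hf]
    split_ifs with h
    · rw [inter_const k d L hL.1]
      exact mul_nonneg (Int.natCast_nonneg _) (hcoef_pos_point k d X L hL ξ h).le
    · exact le_rfl
  have hsub : Function.support f ⊆ {x : X | Dn d x ∧ x ∈ CohB1.support F} := by
    intro ξ hξ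
    rw [Function.mem_support] at hξ
    simp only [hf] at hξ
    by_cases hDn : Dn d ξ
    · refine ⟨hDn, ?_⟩
      by_contra hxs
      apply hξ
      rw [if_pos hDn, len_eq_zero_of_notMem_support _ ξ hxs]
      simp
    · exfalso
      apply hξ
      rw [if_neg hDn]
  have hfs : Function.HasFiniteSupport f := hfin.1.subset hsub
  refine lt_of_lt_of_le ?_ (single_le_finsum η hfs hnn)
  have hDη : Dn d η := hη
  show 0 < (if Dn d η then ((len F η).toNat : ℤ) * inter k X d (fun _ => L) (cls (OZ η)) else 0)
  rw [if_pos hDη, inter_const k d L hL.1]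
  apply mul_pos _ (hcoef_pos_point k d X L hL η hDη)
  have h1 : len F η ≠ 0 := by
    unfold len
    rw [Ne, Module.length_eq_zero_iff]
    exact hηF
  have h2 : len F η ≠ ⊤ := hfin.2 η hDη
  have : 0 < (len F η).toNat := by
    rw [Nat.pos_iff_ne_zero, Ne, ENat.toNat_eq_zero]
    tauto
  exact_mod_cast this

end Groth.Agent.Lib.Helper4.Snapper
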