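import Mathlib.Tactic
import Mathlib.AlgebraicGeometry.Properties

/-!
Connectedness of a scheme versus idempotents of its ring of global functions.
(The two main lemmas are adapted from helper18's `Lib/Helper18/ConnComp`.)
-/

set_option autoImplicit false

namespace Groth.Agent.Lib.Helper4.ConnIdem

open AlgebraicGeometry CategoryTheory TopologicalSpace Opposite

universe u v

/-- `A` has no nontrivial idempotents. -/
def NoIdem (A : Type v) [CommRing A] : Prop := ∀ e : A, e * e = e → e = 0 ∨ e = 1

lemma isUnit_of_basicOpen_eq_top (X : Scheme.{u}) (s : Γ(X, ⊤)) (h : X.basicOpen s = ⊤) :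
    IsUnit s := by
  apply X.toRingedSpace.isUnit_of_isUnit_germ ⊤ s
  intro x hx
  have : x ∈ X.basicOpen s := by rw [h]; trivial
  exact (X.mem_basicOpen_top s x).mp this

/-- A (pre)connected scheme has no nontrivial idempotent global functions. -/
lemma noIdem_Γ (X : Scheme.{u}) [PreconnectedSpace X] : NoIdem Γ(X, ⊤) := by
  intro e he
  have hmul : e * (1 - e) = 0 := by rw [mul_sub, mul_one, he, sub_self]
  have hdisj : X.basicOpen e ⊓ X.basicOpen (1 - e) = ⊥ := by
    rw [← Scheme.basicOpen_mul, hmul, Scheme.basicOpen_zero]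
  have hcov : X.basicOpen e ⊔ X.basicOpen (1 - e) = ⊤ := by
    rw [eq_top_iff]
    refine le_trans ?_ (X.basicOpen_add_le e (1 - e))
    rw [add_sub_cancel, Scheme.basicOpen_one]
  -- `basicOpen e` is clopen
  have hcl : IsClopen (X.basicOpen e : Set X) := by
    refine ⟨?_, (X.basicOpen e).isOpen⟩
    have : (X.basicOpen e : Set X) = (X.basicOpen (1 - e) : Set X)ᶜ := by
      ext x
      constructor
      · intro hx hx'
        have : x ∈ X.basicOpen e ⊓ X.basicOpen (1 - e) := ⟨hx, hx'⟩
        rw [hdisj] at this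
        exact this
      · intro hx
        have : x ∈ X.basicOpen e ⊔ X.basicOpen (1 - e) := by rw [hcov]; trivial
        rcases this with h | h
        · exact h
        · exact absurd h hx
    rw [this]
    exact (X.basicOpen (1 - e)).isOpen.isClosed_compl
  rcases isClopen_iff.mp hcl with h | h
  · -- `basicOpen e = ⊥`, so `basicOpen (1 - e) = ⊤`
    left
    have h1 : X.basicOpen (1 - e) = ⊤ := by
      have h0 : X.basicOpen e = ⊥ := by ext1; simpa using h
      rw [h0, bot_sup_eq] at hcov
      exact hcov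
    have hu := isUnit_of_basicOpen_eq_top X _ h1
    exact (hu.mul_left_eq_zero).mp hmul
  · right
    have h1 : X.basicOpen e = ⊤ := by ext1; simpa using h
    have hu := isUnit_of_basicOpen_eq_top X _ h1
    have : 1 - e = 0 := (hu.mul_right_eq_zero).mp hmul
    exact (sub_eq_zero.mp this).symm


lemma subsingleton_Γ_of_eq_bot (X : Scheme.{u}) : ∀ W : X.Opens, W = ⊥ → Subsingleton Γ(X, W) := by
  rintro _ rfl
  infer_instance

/-- A scheme whose ring of global functions has no nontrivial idempotents is preconnected. -/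
lemma preconnectedSpace_of_noIdem (X : Scheme.{u}) (h : NoIdem Γ(X, ⊤)) : PreconnectedSpace X := by
  rw [preconnectedSpace_iff_clopen]
  intro s hs
  by_contra hcon
  push_neg at hcon
  obtain ⟨hne, hnu⟩ := hcon
  let U : Bool → X.Opens := fun b => if b = true then ⟨s, hs.2⟩ else ⟨sᶜ, hs.1.isOpen_compl⟩
  have hUt : U true = ⟨s, hs.2⟩ := rfl
  have hUf : U false = ⟨sᶜ, hs.1.isOpen_compl⟩ := rfl
  let sf : ∀ b : Bool, Γ(X, U b) := fun b => if b = true then 1 else 0
  have hdisj : ∀ i j : Bool, i ≠ j → U i ⊓ U j = ⊥ := by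
    intro i j hij
    ext x
    simp only [Opens.coe_inf, Set.mem_inter_iff, SetLike.mem_coe, Opens.coe_bot,
      Set.mem_empty_iff_false, iff_false, not_and]
    cases i <;> cases j <;> simp_all [U]
  have ic : TopCat.Presheaf.IsCompatible X.presheaf U sf := by
    intro i j
    by_cases hij : i = j
    · subst hij
      rfl
    · haveI := subsingleton_Γ_of_eq_bot X _ (hdisj i j hij)
      exact Subsingleton.elim _ _
  have hcover : (⊤ : X.Opens) ≤ iSup U := by
    intro x _
    rw [Opens.mem_iSup]
    by_cases hx : x ∈ s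
    · exact ⟨true, hx⟩
    · exact ⟨false, hx⟩
  obtain ⟨e, he, huniq⟩ : ∃ e : Γ(X, ⊤),
      (∀ i, (X.presheaf.map (homOfLE le_top : U i ⟶ ⊤).op).hom e = sf i) ∧
      ∀ y : Γ(X, ⊤), (∀ i, (X.presheaf.map (homOfLE le_top : U i ⟶ ⊤).op).hom y = sf i) → y = e :=
    X.sheaf.existsUnique_gluing' U ⊤ (fun i => homOfLE le_top) hcover sf ic
  have hee : e * e = e := by
    apply huniq
    intro i
    rw [map_mul, he i]
    cases i <;> simp [sf]
  rcases h e hee with h0 | h1
  · -- then `1 = 0` on `U true = s`, so `s = ∅`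
    have h2 := he true
    rw [h0, map_zero] at h2
    obtain ⟨x, hx⟩ := hne
    haveI : Nonempty ↥(U true) := ⟨⟨x, hx⟩⟩
    haveI : Nontrivial Γ(X, U true) := inferInstance
    exact zero_ne_one (h2.trans (by simp [sf]))
  · apply hnu
    have h2 := he false
    rw [h1, map_one] at h2
    by_contra hs'
    obtain ⟨x, hx⟩ := (Set.ne_univ_iff_exists_notMem s).mp hs'
    haveI : Nonempty ↥(U false) := ⟨⟨x, hx⟩⟩
    haveI : Nontrivial Γ(X, U false) := inferInstance
    exact one_ne_zero (h2.trans (by simp [sf]))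


end Groth.Agent.Lib.Helper4.ConnIdem
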