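import Mathlib.Tactic
import Mathlib.RingTheory.Localization.Away.Basic
import Mathlib.RingTheory.Nilpotent.Defs
import Mathlib.RingTheory.Ideal.Quotient.Operations

namespace Groth.Agent.Lib.Helper4.IdemAway

/-- If `t` is a nonzerodivisor of `A` with `A/(t)` reduced, every idempotent of `A[1/t]` comes
from `A`. -/
lemma exists_algebraMap_eq_of_isIdempotentElem {A B : Type*} [CommRing A] [CommRing B] [Algebra A B]
    (t : A) [IsLocalization.Away t B] (ht : t ∈ nonZeroDivisors A)
    (hred : IsReduced (A ⧸ Ideal.span {t})) (e : B) (he : IsIdempotentElem e) :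
    ∃ a : A, algebraMap A B a = e := by
  have hinj : Function.Injective (algebraMap A B) :=
    IsLocalization.injective B (M := Submonoid.powers t)
      (Submonoid.powers_le.mpr ht)
  have hex : ∃ n : ℕ, ∃ a : A, e * algebraMap A B (t ^ n) = algebraMap A B a := by
    obtain ⟨n, a, h⟩ := IsLocalization.Away.surj t e
    exact ⟨n, a, by rw [map_pow]; exact h⟩
  classical
  have hmin : Nat.find hex = 0 := by
    by_contra hne
    obtain ⟨m, hm⟩ := Nat.exists_eq_succ_of_ne_zero hne
    obtain ⟨a, ha⟩ := Nat.find_spec hex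
    rw [hm] at ha
    -- a^2 = a * t^(m+1)
    have h1 : a * a = a * t ^ (m + 1) := by
      apply hinj
      rw [map_mul, map_mul, ← ha]
      calc e * algebraMap A B (t ^ (m + 1)) * (e * algebraMap A B (t ^ (m + 1)))
          = (e * e) * algebraMap A B (t ^ (m + 1)) * algebraMap A B (t ^ (m + 1)) := by ring
        _ = e * algebraMap A B (t ^ (m + 1)) * algebraMap A B (t ^ (m + 1)) := by rw [he.eq]
    have h2 : Ideal.Quotient.mk (Ideal.span {t}) a = 0 := by
      have : (Ideal.Quotient.mk (Ideal.span {t}) a) ^ 2 = 0 := by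
        rw [← map_pow, pow_two, h1, pow_succ, ← mul_assoc, Ideal.Quotient.eq_zero_iff_mem]
        exact Ideal.mul_mem_left _ _ (Ideal.mem_span_singleton_self t)
      exact IsReduced.eq_zero _ ⟨2, this⟩
    rw [Ideal.Quotient.eq_zero_iff_mem, Ideal.mem_span_singleton] at h2
    obtain ⟨a', rfl⟩ := h2
    have hunit : IsUnit (algebraMap A B t) := IsLocalization.Away.algebraMap_isUnit t
    have h3 : e * algebraMap A B (t ^ m) = algebraMap A B a' := by
      apply hunit.mul_left_cancel
      rw [← map_mul (algebraMap A B) t a', ← ha, pow_succ, map_mul]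
      ring
    have := Nat.find_min hex (m := m) (by omega)
    exact this ⟨a', h3⟩
  obtain ⟨a, ha⟩ := Nat.find_spec hex
  rw [hmin, pow_zero, map_one, mul_one] at ha
  exact ⟨a, ha.symm⟩

end Groth.Agent.Lib.Helper4.IdemAway
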