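import Mathlib.Tactic
import Mathlib.AlgebraicGeometry.AffineScheme

open CategoryTheory AlgebraicGeometry TopologicalSpace Opposite

namespace Groth.Agent.Lib.Helper4.IdemGlue

universe u

variable (X : Scheme.{u}) (D : X.Opens)

/-- restriction maps -/
abbrev res {V W : X.Opens} (h : V ≤ W) : Γ(X, W) →+* Γ(X, V) := (X.presheaf.map (homOfLE h).op).hom

lemma res_res {V W Z : X.Opens} (h : V ≤ W) (h' : W ≤ Z) (a : Γ(X, Z)) :
    res X h (res X h' a) = res X (h.trans h') a := by
  simp only [res]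
  rw [← CommRingCat.comp_apply, ← X.presheaf.map_comp]
  rfl

/-- injectivity of restriction to `V ⊓ D` on all opens, given on affine opens. -/
lemma res_inf_injective
    (Hinj : ∀ U : X.affineOpens, Function.Injective (res X (inf_le_left : U.1 ⊓ D ≤ U.1)))
    (V : X.Opens) : Function.Injective (res X (inf_le_left : V ⊓ D ≤ V)) := by
  intro a b hab
  refine X.sheaf.eq_of_locally_eq' (fun W : {W : X.affineOpens // W.1 ≤ V} => W.1.1) V
    (fun W => homOfLE W.2) ?_ a b ?_
  · intro x hx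
    obtain ⟨_, ⟨W, hW, rfl⟩, hxW, hWV⟩ :=
      X.isBasis_affineOpens.exists_subset_of_mem_open hx V.isOpen
    exact Opens.mem_iSup.mpr ⟨⟨⟨W, hW⟩, hWV⟩, hxW⟩
  · intro W
    apply Hinj W.1
    have h1 : W.1.1 ⊓ D ≤ V ⊓ D := inf_le_inf_right _ W.2
    change res X _ (res X W.2 a) = res X _ (res X W.2 b)
    rw [res_res, res_res]
    have e1 : res X (inf_le_left.trans W.2 : W.1.1 ⊓ D ≤ V) a = res X h1 (res X inf_le_left a) := by
      rw [res_res]
    have e2 : res X (inf_le_left.trans W.2 : W.1.1 ⊓ D ≤ V) b = res X h1 (res X inf_le_left b) := by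
      rw [res_res]
    rw [e1, e2, hab]

/-- idempotents of `Γ(X, D)` lift to idempotents of `Γ(X, ⊤)`, provided they do so on affines. -/
theorem exists_lift_idempotent
    (Hinj : ∀ U : X.affineOpens, Function.Injective (res X (inf_le_left : U.1 ⊓ D ≤ U.1)))
    (Hsurj : ∀ (U : X.affineOpens) (e : Γ(X, U.1 ⊓ D)), IsIdempotentElem e →
      ∃ a : Γ(X, U.1), res X inf_le_left a = e)
    (e : Γ(X, D)) (he : IsIdempotentElem e) :
    ∃ a : Γ(X, ⊤), IsIdempotentElem a ∧ res X le_top a = e := by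
  have hloc : ∀ U : X.affineOpens, ∃ a : Γ(X, U.1),
      res X inf_le_left a = res X (inf_le_right : U.1 ⊓ D ≤ D) e :=
    fun U => Hsurj U _ (he.map _)
  choose sf hsf using hloc
  have hcover : (⊤ : X.Opens) ≤ ⨆ U : X.affineOpens, U.1 := by
    rw [iSup_affineOpens_eq_top]
  have hcompat : TopCat.Presheaf.IsCompatible X.presheaf (fun U : X.affineOpens => U.1) sf := by
    intro U V
    apply res_inf_injective X D Hinj (U.1 ⊓ V.1)
    change res X _ (res X inf_le_left (sf U)) = res X _ (res X inf_le_right (sf V))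
    rw [res_res, res_res]
    have hU : (U.1 ⊓ V.1) ⊓ D ≤ U.1 ⊓ D := inf_le_inf_right _ inf_le_left
    have hV : (U.1 ⊓ V.1) ⊓ D ≤ V.1 ⊓ D := inf_le_inf_right _ inf_le_right
    have e1 : res X ((inf_le_left : (U.1 ⊓ V.1) ⊓ D ≤ U.1 ⊓ V.1).trans inf_le_left) (sf U)
        = res X hU (res X inf_le_left (sf U)) := by rw [res_res]
    have e2 : res X ((inf_le_left : (U.1 ⊓ V.1) ⊓ D ≤ U.1 ⊓ V.1).trans inf_le_right) (sf V)
        = res X hV (res X inf_le_left (sf V)) := by rw [res_res]
    rw [e1, e2, hsf, hsf, res_res, res_res]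
  obtain ⟨a, ha', -⟩ : ∃! a : Γ(X, ⊤), ∀ U : X.affineOpens,
      res X (le_top : U.1 ≤ ⊤) a = sf U :=
    X.sheaf.existsUnique_gluing' (fun U : X.affineOpens => U.1) ⊤
      (fun U => homOfLE le_top) hcover sf hcompat
  refine ⟨a, ?_, ?_⟩
  · refine X.sheaf.eq_of_locally_eq' (fun U : X.affineOpens => U.1) ⊤
      (fun U => homOfLE le_top) hcover _ _ ?_
    intro U
    change res X le_top (a * a) = res X le_top a
    rw [map_mul, ha' U]
    apply Hinj U
    rw [map_mul, hsf]
    exact (he.map _).eq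
  · refine X.sheaf.eq_of_locally_eq' (fun U : X.affineOpens => U.1 ⊓ D) D
      (fun U => homOfLE inf_le_right) ?_ _ _ ?_
    · intro x hx
      obtain ⟨_, ⟨W, hW, rfl⟩, hxW, -⟩ :=
        X.isBasis_affineOpens.exists_subset_of_mem_open (Set.mem_univ x) isOpen_univ
      exact Opens.mem_iSup.mpr ⟨⟨W, hW⟩, hxW, hx⟩
    · intro U
      change res X inf_le_right (res X le_top a) = res X inf_le_right e
      rw [res_res, ← hsf U, ← ha' U, res_res]

end Groth.Agent.Lib.Helper4.IdemGlue
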