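import Mathlib.Tactic
import Mathlib.AlgebraicGeometry.AffineScheme
import Groth.Agent.Lib.Helper4.IdemAway
import Groth.Agent.Lib.Helper4.IdemGlue

open CategoryTheory AlgebraicGeometry TopologicalSpace Opposite

namespace Groth.Agent.Lib.Helper4.IdemBasic

open Groth.Agent.Lib.Helper4.IdemGlue

universe u

theorem exists_lift_idempotent_basicOpen (X : Scheme.{u}) (s : Γ(X, ⊤))
    (H1 : ∀ U : X.affineOpens, (res X (le_top : U.1 ≤ ⊤) s) ∈ nonZeroDivisors Γ(X, U.1))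
    (H2 : ∀ U : X.affineOpens,
      IsReduced (Γ(X, U.1) ⧸ Ideal.span {(res X (le_top : U.1 ≤ ⊤) s)}))
    (e : Γ(X, X.basicOpen s)) (he : IsIdempotentElem e) :
    ∃ a : Γ(X, ⊤), IsIdempotentElem a ∧ res X le_top a = e := by
  have heq : ∀ U : X.affineOpens,
      U.1 ⊓ X.basicOpen s = X.basicOpen (res X (le_top : U.1 ≤ ⊤) s) := fun U =>
    (Scheme.basicOpen_res X s (homOfLE (le_top : U.1 ≤ ⊤)).op).symm
  refine exists_lift_idempotent X (X.basicOpen s) ?_ ?_ e he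
  · intro U
    letI : Algebra Γ(X, U.1) Γ(X, U.1 ⊓ X.basicOpen s) :=
      (X.presheaf.map (homOfLE (inf_le_left : U.1 ⊓ X.basicOpen s ≤ U.1)).op).hom.toAlgebra
    haveI : IsLocalization.Away (res X (le_top : U.1 ≤ ⊤) s) Γ(X, U.1 ⊓ X.basicOpen s) :=
      U.2.isLocalization_of_eq_basicOpen _ (homOfLE inf_le_left) (heq U)
    exact IsLocalization.injective Γ(X, U.1 ⊓ X.basicOpen s)
      (M := Submonoid.powers (res X (le_top : U.1 ≤ ⊤) s)) (Submonoid.powers_le.mpr (H1 U))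
  · intro U e he
    letI : Algebra Γ(X, U.1) Γ(X, U.1 ⊓ X.basicOpen s) :=
      (X.presheaf.map (homOfLE (inf_le_left : U.1 ⊓ X.basicOpen s ≤ U.1)).op).hom.toAlgebra
    haveI : IsLocalization.Away (res X (le_top : U.1 ≤ ⊤) s) Γ(X, U.1 ⊓ X.basicOpen s) :=
      U.2.isLocalization_of_eq_basicOpen _ (homOfLE inf_le_left) (heq U)
    exact IdemAway.exists_algebraMap_eq_of_isIdempotentElem _ (H1 U) (H2 U) e he

end Groth.Agent.Lib.Helper4.IdemBasic
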