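import Mathlib.Tactic
import Mathlib.AlgebraicGeometry.ResidueField
import Mathlib.AlgebraicGeometry.Pullbacks
import Mathlib.AlgebraicGeometry.Properties

open CategoryTheory AlgebraicGeometry Limits

namespace Groth.Agent.Lib.Helper4.RedFibre

universe u

/-- If the fibre of `Spec A ⟶ Spec R` over a maximal ideal `(π)` is reduced then `A/πA` is reduced. -/
theorem isReduced_quotient_of_isReduced_fibre {R : Type u} [CommRing R] (A : CommRingCat.{u})
    (ψ : CommRingCat.of R ⟶ A) (y : Spec (CommRingCat.of R)) [hy : y.asIdeal.IsMaximal] (π : R)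
    (hπ : y.asIdeal = Ideal.span {π})
    (hred : IsReduced (pullback (Spec.map ψ) ((Spec (CommRingCat.of R)).fromSpecResidueField y))) :
    _root_.IsReduced (A ⧸ Ideal.span {ψ.hom π}) := by
  let K := y.asIdeal.ResidueField
  let e := Scheme.Spec.residueFieldIso (CommRingCat.of R) y
  let g := (Spec (CommRingCat.of R)).fromSpecResidueField y
  let α : CommRingCat.of R ⟶ CommRingCat.of K := CommRingCat.ofHom (algebraMap R K)
  have hg : g = Spec.map e.inv ≫ Spec.map α :=
    (Scheme.Spec.map_residueFieldIso_inv_eq_fromSpecResidueField (CommRingCat.of R) y).symm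
  let B : CommRingCat.{u} := CommRingCat.of (A ⧸ Ideal.span {ψ.hom π})
  let q : A ⟶ B := CommRingCat.ofHom (Ideal.Quotient.mk _)
  have hαπ : algebraMap R K π = 0 := by
    rw [Ideal.algebraMap_residueField_eq_zero, hπ]
    exact Ideal.mem_span_singleton_self π
  -- θ : K → B
  have hker : RingHom.ker (algebraMap R K) ≤ RingHom.ker (ψ ≫ q).hom := by
    rw [Ideal.ker_algebraMap_residueField, hπ, Ideal.span_le, Set.singleton_subset_iff]
    change (ψ ≫ q).hom π = 0
    exact Ideal.Quotient.eq_zero_iff_mem.mpr (Ideal.mem_span_singleton_self _)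
  let θ : K →+* B := RingHom.liftOfSurjective (algebraMap R K)
    y.asIdeal.algebraMap_residueField_surjective ⟨(ψ ≫ q).hom, hker⟩
  have hθ : α ≫ CommRingCat.ofHom θ = ψ ≫ q := by
    refine CommRingCat.hom_ext (RingHom.ext fun r => ?_)
    exact RingHom.liftOfSurjective_comp_apply (algebraMap R K)
      y.asIdeal.algebraMap_residueField_surjective ⟨(ψ ≫ q).hom, hker⟩ r
  -- the section j
  let P := pullback (Spec.map ψ) g
  have hj : Spec.map q ≫ Spec.map ψ = (Spec.map (CommRingCat.ofHom θ) ≫ Spec.map e.hom) ≫ g := by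
    rw [hg, Category.assoc, ← Spec.map_comp_assoc e.inv, e.inv_hom_id, Spec.map_id,
      Category.id_comp, ← Spec.map_comp, ← Spec.map_comp, hθ]
  let j : Spec B ⟶ P := pullback.lift (Spec.map q)
    (Spec.map (CommRingCat.ofHom θ) ≫ Spec.map e.hom) hj
  have hj1 : j ≫ pullback.fst (Spec.map ψ) g = Spec.map q := pullback.lift_fst _ _ _
  -- the ring map φ : A → Γ(P, ⊤)
  let φ : A ⟶ Γ(P, ⊤) := (Scheme.ΓSpecIso A).inv ≫ (pullback.fst (Spec.map ψ) g).appTop
  have hφπ : φ.hom (ψ.hom π) = 0 := by
    have hgtop : (Scheme.ΓSpecIso (CommRingCat.of R)).inv ≫ g.appTop =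
        α ≫ e.inv ≫ (Scheme.ΓSpecIso _).inv := by
      have := congrArg Scheme.Hom.appTop hg
      rw [this, Scheme.Hom.comp_appTop, ← Scheme.ΓSpecIso_inv_naturality_assoc,
        ← Scheme.ΓSpecIso_inv_naturality]
    have h1 : ψ ≫ φ = α ≫ e.inv ≫ (Scheme.ΓSpecIso _).inv ≫
        (pullback.snd (Spec.map ψ) g).appTop := by
      simp only [φ]
      rw [Scheme.ΓSpecIso_inv_naturality_assoc, ← Scheme.Hom.comp_appTop, pullback.condition,
        Scheme.Hom.comp_appTop, ← Category.assoc, hgtop]
      simp only [Category.assoc]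
    have h2 := congrArg (fun t => t.hom π) h1
    simp only [CommRingCat.hom_comp, RingHom.comp_apply] at h2
    rw [h2]
    change _ = 0
    have : α.hom π = 0 := hαπ
    rw [this, map_zero, map_zero, map_zero]
  have hφq : φ ≫ j.appTop = q ≫ (Scheme.ΓSpecIso B).inv := by
    simp only [φ]
    rw [Category.assoc, ← Scheme.Hom.comp_appTop, hj1, Scheme.ΓSpecIso_inv_naturality]
  -- induced injective map
  have hle : Ideal.span {ψ.hom π} ≤ RingHom.ker φ.hom := by
    rw [Ideal.span_le, Set.singleton_subset_iff]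
    exact hφπ
  let φbar : (A ⧸ Ideal.span {ψ.hom π}) →+* Γ(P, ⊤) := Ideal.Quotient.lift _ φ.hom hle
  have hinj : Function.Injective φbar := by
    rw [injective_iff_map_eq_zero]
    intro b hb
    obtain ⟨a, rfl⟩ := Ideal.Quotient.mk_surjective b
    have h3 : φ.hom a = 0 := hb
    have h4 := congrArg (fun t => t.hom a) hφq
    simp only [CommRingCat.hom_comp, RingHom.comp_apply] at h4
    rw [h3, map_zero] at h4
    have h5 : Function.Injective (Scheme.ΓSpecIso B).inv.hom :=
      (Scheme.ΓSpecIso B).symm.commRingCatIsoToRingEquiv.injective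
    exact (h5 (h4.symm.trans (map_zero _).symm))
  have : _root_.IsReduced Γ(P, ⊤) := inferInstance
  exact isReduced_of_injective φbar hinj

end Groth.Agent.Lib.Helper4.RedFibre
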