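import Mathlib.Tactic
import Mathlib.AlgebraicGeometry.Fiber
import Mathlib.AlgebraicGeometry.Morphisms.Flat
import Groth.Agent.Lib.Helper4.IdemBasic
import Groth.Agent.Lib.Helper4.RedFibre

open CategoryTheory AlgebraicGeometry Limits TopologicalSpace

namespace Groth.Agent.Lib.Helper4.DvrFibre

open Groth.Agent.Lib.Helper4.IdemGlue

universe u

variable {R : Type u} [CommRing R] {X : Scheme.{u}} (f : X ⟶ Spec (CommRingCat.of R))

/-- structure map `R ⟶ Γ(X, U)` -/
noncomputable def strMap (U : X.Opens) : CommRingCat.of R ⟶ Γ(X, U) :=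
  (Scheme.ΓSpecIso (CommRingCat.of R)).inv ≫ f.appTop ≫ X.presheaf.map (homOfLE le_top).op

lemma fromSpec_comp {U : X.Opens} (hU : IsAffineOpen U) :
    hU.fromSpec ≫ f = Spec.map (strMap f U) := by
  rw [← cancel_mono (Spec (CommRingCat.of R)).toSpecΓ, Category.assoc, Scheme.toSpecΓ_naturality,
    hU.fromSpec_toSpecΓ_assoc, ← SpecMap_ΓSpecIso_hom, ← Spec.map_comp, ← Spec.map_comp, strMap]
  simp

lemma flat_strMap [Flat f] {U : X.Opens} (hU : IsAffineOpen U) : (strMap f U).hom.Flat := by
  have h1 : (f.appLE ⊤ U le_top).hom.Flat := f.flat_appLE (isAffineOpen_top _) hU _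
  have h2 : (strMap f U) = (Scheme.ΓSpecIso (CommRingCat.of R)).inv ≫ f.appLE ⊤ U le_top := by
    rfl
  rw [h2, CommRingCat.hom_comp]
  refine RingHom.Flat.comp ?_ h1
  exact RingHom.Flat.of_bijective
    (Scheme.ΓSpecIso (CommRingCat.of R)).symm.commRingCatIsoToRingEquiv.bijective

/-- reducedness of `Γ(X,U)/π` from reducedness of the fibre. -/
lemma isReduced_quotient [IsLocalRing R] {U : X.Opens} (hU : IsAffineOpen U) (π : R)
    (hπ : IsLocalRing.maximalIdeal R = Ideal.span {π})
    (hred : IsReduced (f.fiber (IsLocalRing.closedPoint R))) :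
    _root_.IsReduced (Γ(X, U) ⧸ Ideal.span {(strMap f U).hom π}) := by
  let y : Spec (CommRingCat.of R) := IsLocalRing.closedPoint R
  have : y.asIdeal.IsMaximal := IsLocalRing.maximalIdeal.isMaximal R
  refine RedFibre.isReduced_quotient_of_isReduced_fibre Γ(X, U) (strMap f U) y π hπ ?_
  let g := (Spec (CommRingCat.of R)).fromSpecResidueField y
  let i : pullback (Spec.map (strMap f U)) g ⟶ pullback f g :=
    pullback.map (Spec.map (strMap f U)) g f g hU.fromSpec (𝟙 _) (𝟙 _)
      (by rw [Category.comp_id, fromSpec_comp]) (by simp)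
  have : IsOpenImmersion i := inferInstance
  have : IsReduced (pullback f g) := hred
  exact isReduced_of_isOpenImmersion i

end Groth.Agent.Lib.Helper4.DvrFibre
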