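import Mathlib.Tactic
import Mathlib.AlgebraicGeometry.Morphisms.QuasiCompact
import Mathlib.RingTheory.DiscreteValuationRing.Basic
import Groth.Agent.Lib.Helper4.DvrFibre
import Groth.Agent.Lib.Helper4.ConnIdem

open CategoryTheory AlgebraicGeometry Limits TopologicalSpace

namespace Groth.Agent.Lib.Helper4.DvrConn

open Groth.Agent.Lib.Helper4.IdemGlue Groth.Agent.Lib.Helper4.DvrFibre
  Groth.Agent.Lib.Helper4.ConnIdem

universe u

variable {R : Type u} [CommRing R] {X : Scheme.{u}} (f : X ⟶ Spec (CommRingCat.of R))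

lemma res_strMap (U : X.Opens) (π : R) :
    res X (le_top : U ≤ ⊤) ((strMap f ⊤).hom π) = (strMap f U).hom π := by
  simp only [strMap, res, CommRingCat.hom_comp, RingHom.comp_apply]
  rw [← CommRingCat.comp_apply, ← X.presheaf.map_comp]
  rfl

lemma basicOpen_strMap (π : R) :
    (X.basicOpen ((strMap f ⊤).hom π) : Set X) =
      f ⁻¹' ((PrimeSpectrum.basicOpen π : Opens (PrimeSpectrum R)) : Set (PrimeSpectrum R)) := by
  have h1 := basicOpen_eq_of_affine (R := CommRingCat.of R) π
  have h2 := Scheme.preimage_basicOpen f ((Scheme.ΓSpecIso (CommRingCat.of R)).inv π)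
  have h3 : X.basicOpen ((strMap f ⊤).hom π) =
      X.basicOpen (f.app ⊤ ((Scheme.ΓSpecIso (CommRingCat.of R)).inv π)) := by
    simp only [strMap, CommRingCat.hom_comp, RingHom.comp_apply]
    rw [Scheme.basicOpen_res, top_inf_eq]
    rfl
  rw [h3, ← h2, h1]
  rfl

lemma mem_nonZeroDivisors_strMap [IsDomain R] [Flat f] {U : X.Opens} (hU : IsAffineOpen U)
    (π : R) (hπ : π ≠ 0) : (strMap f U).hom π ∈ nonZeroDivisors Γ(X, U) := by
  letI : Algebra R Γ(X, U) := (strMap f U).hom.toAlgebra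
  haveI : Module.Flat R Γ(X, U) := flat_strMap f hU
  have h1 : IsSMulRegular R π := by
    intro a b hab
    exact mul_left_cancel₀ hπ hab
  have h2 : IsSMulRegular Γ(X, U) (algebraMap R Γ(X, U) π) := IsSMulRegular.of_flat h1
  have h3 : algebraMap R Γ(X, U) π = (strMap f U).hom π := rfl
  rw [h3] at h2
  rw [mem_nonZeroDivisors_iff]
  refine ⟨fun a ha => h2 (by simpa [smul_eq_mul] using ha), fun a ha => h2 ?_⟩
  simp only [smul_eq_mul, mul_zero]
  rw [mul_comm]
  exact ha

end Groth.Agent.Lib.Helper4.DvrConn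

namespace Groth.Agent.Lib.Helper4.DvrConn

open Groth.Agent.Lib.Helper4.IdemGlue Groth.Agent.Lib.Helper4.DvrFibre
  Groth.Agent.Lib.Helper4.ConnIdem Groth.Agent.Lib.Helper4.IdemBasic

universe u

variable {R : Type u} [CommRing R] {X : Scheme.{u}} (f : X ⟶ Spec (CommRingCat.of R))

lemma basicOpen_eq_singleton [IsDomain R] [IsDiscreteValuationRing R] (π : R)
    (hπ : Irreducible π) :
    ((PrimeSpectrum.basicOpen π : Opens (PrimeSpectrum R)) : Set (PrimeSpectrum R)) =
      {(⟨⊥, Ideal.isPrime_bot⟩ : PrimeSpectrum R)} := by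
  ext p
  simp only [SetLike.mem_coe, PrimeSpectrum.mem_basicOpen, Set.mem_singleton_iff]
  constructor
  · intro hp
    by_contra hne
    have hne' : p.asIdeal ≠ ⊥ := by
      intro h
      apply hne
      ext1
      exact h
    have hmax : p.asIdeal.IsMaximal := p.2.isMaximal hne'
    have : p.asIdeal = IsLocalRing.maximalIdeal R := IsLocalRing.eq_maximalIdeal hmax
    rw [hπ.maximalIdeal_eq] at this
    apply hp
    rw [this]
    exact Ideal.mem_span_singleton_self π
  · rintro rfl
    simp only [Ideal.mem_bot]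
    exact hπ.ne_zero

theorem connectedSpace_generic_fibre [IsDomain R] [IsDiscreteValuationRing R] [Flat f]
    [ConnectedSpace X]
    (hred : IsReduced (f.fiber (IsLocalRing.closedPoint R))) :
    ConnectedSpace ↑(f.fiber (⟨⊥, Ideal.isPrime_bot⟩ : PrimeSpectrum R)) := by
  obtain ⟨π, hπ⟩ := IsDiscreteValuationRing.exists_irreducible R
  have hmax := hπ.maximalIdeal_eq
  have H1 : ∀ U : X.affineOpens,
      res X (le_top : U.1 ≤ ⊤) ((strMap f ⊤).hom π) ∈ nonZeroDivisors Γ(X, U.1) := by
    intro U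
    rw [res_strMap]
    exact mem_nonZeroDivisors_strMap f U.2 π hπ.ne_zero
  have H2 : ∀ U : X.affineOpens,
      _root_.IsReduced (Γ(X, U.1) ⧸ Ideal.span {res X (le_top : U.1 ≤ ⊤) ((strMap f ⊤).hom π)}) := by
    intro U
    rw [res_strMap]
    exact isReduced_quotient f U.2 π hmax hred
  have hno : NoIdem Γ(X, X.basicOpen ((strMap f ⊤).hom π)) := by
    intro e he
    obtain ⟨a, ha, rfl⟩ := exists_lift_idempotent_basicOpen X _ H1 H2 e he
    rcases noIdem_Γ X a ha with h | h
    · left; rw [h, map_zero]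
    · right; rw [h, map_one]
  have hno' : NoIdem Γ((X.basicOpen ((strMap f ⊤).hom π)).toScheme, ⊤) := by
    intro e he
    have hinj : Function.Injective (X.basicOpen ((strMap f ⊤).hom π)).topIso.hom.hom :=
      (X.basicOpen ((strMap f ⊤).hom π)).topIso.commRingCatIsoToRingEquiv.injective
    rcases hno ((X.basicOpen ((strMap f ⊤).hom π)).topIso.hom.hom e) (by rw [← map_mul, he])
      with h | h
    · left; apply hinj; rw [h, map_zero]
    · right; apply hinj; rw [h, map_one]
  have hpre : PreconnectedSpace (X.basicOpen ((strMap f ⊤).hom π)).toScheme :=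
    preconnectedSpace_of_noIdem _ hno'
  have hpre' : PreconnectedSpace ↥(X.basicOpen ((strMap f ⊤).hom π)) := hpre
  have hD : (X.basicOpen ((strMap f ⊤).hom π) : Set X) =
      f ⁻¹' {(⟨⊥, Ideal.isPrime_bot⟩ : PrimeSpectrum R)} := by
    rw [basicOpen_strMap, basicOpen_eq_singleton π hπ]
    rfl
  -- nonemptiness
  have hne : (X.basicOpen ((strMap f ⊤).hom π) : Set X).Nonempty := by
    by_contra hemp
    rw [Set.not_nonempty_iff_eq_empty] at hemp
    have hbot : X.basicOpen ((strMap f ⊤).hom π) = ⊥ := by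
      ext1; simpa using hemp
    obtain ⟨x⟩ : Nonempty X := inferInstance
    obtain ⟨_, ⟨U, hU, rfl⟩, hxU, -⟩ :=
      X.isBasis_affineOpens.exists_subset_of_mem_open (Set.mem_univ x) isOpen_univ
    have hb : X.basicOpen (res X (le_top : U ≤ ⊤) ((strMap f ⊤).hom π)) = ⊥ := by
      rw [res, Scheme.basicOpen_res, hbot, inf_bot_eq]
    have hnil : IsNilpotent (res X (le_top : U ≤ ⊤) ((strMap f ⊤).hom π)) :=
      (Scheme.isNilpotent_iff_basicOpen_eq_bot_of_isCompact hU.isCompact _).mpr hb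
    obtain ⟨n, hn⟩ := hnil
    have hmem := pow_mem (H1 ⟨U, hU⟩) n
    rw [hn] at hmem
    haveI : Nonempty ↥U := ⟨⟨x, hxU⟩⟩
    haveI : Nontrivial Γ(X, U) := inferInstance
    exact zero_notMem_nonZeroDivisors hmem
  have hconn : _root_.IsConnected (f ⁻¹' {(⟨⊥, Ideal.isPrime_bot⟩ : PrimeSpectrum R)}) := by
    rw [← hD]
    exact ⟨hne, isPreconnected_iff_preconnectedSpace.mpr hpre'⟩
  have hcs : ConnectedSpace ↥(f ⁻¹' {(⟨⊥, Ideal.isPrime_bot⟩ : PrimeSpectrum R)}) :=
    isConnected_iff_connectedSpace.mp hconn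
  exact (f.fiberHomeo _).symm.surjective.connectedSpace (f.fiberHomeo _).symm.continuous

end Groth.Agent.Lib.Helper4.DvrConn
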