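import Mathlib.Tactic
import Mathlib.RingTheory.Nakayama
import Mathlib.RingTheory.Localization.Away.Basic
import Mathlib.RingTheory.Nilpotent.Lemmas
import Mathlib.RingTheory.Noetherian.Basic

namespace Groth.Agent.Lib.Helper4.NakRed

theorem exists_annihilator_nilradical {A : Type*} [CommRing A] [IsNoetherianRing A] (t : A)
    (ht : t ∈ nonZeroDivisors A) (hred : IsReduced (A ⧸ Ideal.span {t})) :
    ∃ r : A, r - 1 ∈ Ideal.span {t} ∧ ∀ n ∈ nilradical A, r * n = 0 := by
  have hfg : (nilradical A).FG := IsNoetherian.noetherian _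
  have hle : nilradical A ≤ Ideal.span {t} • nilradical A := by
    intro n hn
    have h1 : Ideal.Quotient.mk (Ideal.span {t}) n = 0 := by
      have : IsNilpotent (Ideal.Quotient.mk (Ideal.span {t}) n) := (mem_nilradical.mp hn).map _
      exact this.eq_zero
    rw [Ideal.Quotient.eq_zero_iff_mem, Ideal.mem_span_singleton] at h1
    obtain ⟨a, rfl⟩ := h1
    obtain ⟨k, hk⟩ := mem_nilradical.mp hn
    rw [mul_pow] at hk
    have ha : a ^ k = 0 := by
      have h2 := pow_mem ht k
      rw [mul_comm] at hk
      exact (mem_nonZeroDivisors_iff.mp h2).2 _ hk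
    exact Submodule.smul_mem_smul (Ideal.mem_span_singleton_self t) (mem_nilradical.mpr ⟨k, ha⟩)
  obtain ⟨r, hr1, hr2⟩ :=
    Submodule.exists_sub_one_mem_and_smul_eq_zero_of_fg_of_le_smul _ _ hfg hle
  exact ⟨r, hr1, hr2⟩

theorem isReduced_of_isLocalization_away {A B : Type*} [CommRing A] [CommRing B] [Algebra A B]
    (r : A) [IsLocalization.Away r B] (h : ∀ n ∈ nilradical A, r * n = 0) : IsReduced B := by
  constructor
  intro x hx
  obtain ⟨⟨a, s⟩, rfl⟩ := IsLocalization.mk'_surjective (Submonoid.powers r) x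
  simp only at hx ⊢
  have hru : IsUnit (algebraMap A B r) := IsLocalization.Away.algebraMap_isUnit r
  have hsu : IsUnit (algebraMap A B s) := IsLocalization.map_units B s
  have h1 : IsLocalization.mk' B a s * algebraMap A B s = algebraMap A B a :=
    IsLocalization.mk'_spec B a s
  have hnil : IsNilpotent (algebraMap A B a) := by
    rw [← h1]
    exact (Commute.all _ _).isNilpotent_mul_right hx
  obtain ⟨k, hk⟩ := hnil
  rw [← map_pow, IsLocalization.map_eq_zero_iff (Submonoid.powers r)] at hk
  obtain ⟨⟨c, j, rfl⟩, hc⟩ := hk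
  have hra : r * a ∈ nilradical A := by
    rw [mem_nilradical]
    refine ⟨j + k, ?_⟩
    rw [mul_pow, pow_add, pow_add]
    have : r ^ j * r ^ k * (a ^ j * a ^ k) = r ^ k * a ^ j * (r ^ j * a ^ k) := by ring
    rw [this]
    simp only at hc
    rw [hc, mul_zero]
  have h2 := h _ hra
  have h3 : algebraMap A B r * algebraMap A B r * algebraMap A B a = 0 := by
    rw [← map_mul, ← map_mul, mul_assoc, h2, map_zero]
  have h4 : algebraMap A B a = 0 := by
    have := (hru.mul hru).mul_right_eq_zero.mp h3
    exact this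
  rw [h4] at h1
  exact hsu.mul_left_eq_zero.mp h1

end Groth.Agent.Lib.Helper4.NakRed
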