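import Mathlib.Tactic
import Mathlib.AlgebraicGeometry.Fiber
import Mathlib.RingTheory.DiscreteValuationRing.Basic
import Groth.Agent.Lib.Helper4.DvrConn
import Groth.Agent.Lib.Helper4.NakRed

open CategoryTheory AlgebraicGeometry Limits TopologicalSpace

namespace Groth.Agent.Lib.Helper4.DvrGen

universe u

variable {R : Type u} [CommRing R]

lemma isLocalization_away_of_isFractionRing [IsDomain R] [IsDiscreteValuationRing R] (π : R)
    (hπ : Irreducible π) (K : Type*) [CommRing K] [Algebra R K] [IsFractionRing R K] :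
    IsLocalization.Away π K := by
  refine (IsLocalization.iff_of_le_of_exists_dvd (Submonoid.powers π) (nonZeroDivisors R)
    ?_ ?_).mpr inferInstance
  · rw [Submonoid.powers_le]
    exact mem_nonZeroDivisors_of_ne_zero hπ.ne_zero
  · intro n hn
    obtain ⟨k, u, rfl⟩ := IsDiscreteValuationRing.eq_unit_mul_pow_irreducible
      (nonZeroDivisors.ne_zero hn) hπ
    refine ⟨π ^ k, ⟨k, rfl⟩, ?_⟩
    exact ⟨(u⁻¹ : Rˣ), by rw [mul_comm, ← mul_assoc, Units.inv_mul, one_mul]⟩

/-- the generic point of `Spec R` -/
def genPt (R : Type u) [CommRing R] [IsDomain R] : Spec (CommRingCat.of R) :=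
  (⟨⊥, Ideal.isPrime_bot⟩ : PrimeSpectrum R)

instance [IsDomain R] : (genPt R).asIdeal.IsPrime := (genPt R).isPrime

theorem isOpenImmersion_fromSpecResidueField_bot [IsDomain R] [IsDiscreteValuationRing R] :
    IsOpenImmersion ((Spec (CommRingCat.of R)).fromSpecResidueField (genPt R)) := by
  obtain ⟨π, hπ⟩ := IsDiscreteValuationRing.exists_irreducible R
  have key := Scheme.Spec.map_residueFieldIso_inv_eq_fromSpecResidueField (CommRingCat.of R)
    (genPt R)
  rw [← key]
  haveI h1 : IsLocalization.Away π (⊥ : Ideal R).ResidueField :=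
    isLocalization_away_of_isFractionRing π hπ (⊥ : Ideal R).ResidueField
  haveI h2 : IsOpenImmersion (Spec.map (CommRingCat.ofHom
      (algebraMap R (⊥ : Ideal R).ResidueField))) := IsOpenImmersion.of_isLocalization π
  haveI h3 : IsOpenImmersion (Spec.map
    (Scheme.Spec.residueFieldIso (CommRingCat.of R) (genPt R)).inv) := inferInstance
  exact @IsOpenImmersion.comp _ _ _ (Spec.map
    (Scheme.Spec.residueFieldIso (CommRingCat.of R) (genPt R)).inv) (Spec.map (CommRingCat.ofHom
      (algebraMap R (⊥ : Ideal R).ResidueField))) h3 h2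

theorem isReduced_generic_fibre [IsDomain R] [IsDiscreteValuationRing R] {X : Scheme.{u}}
    (f : X ⟶ Spec (CommRingCat.of R)) [IsReduced X] :
    IsReduced (f.fiber (⟨⊥, Ideal.isPrime_bot⟩ : PrimeSpectrum R)) := by
  haveI h0 := isOpenImmersion_fromSpecResidueField_bot (R := R)
  haveI : IsOpenImmersion (f.fiberι (genPt R)) := by
    unfold Scheme.Hom.fiberι
    exact @IsOpenImmersion.instFstScheme _ _ _ _ _ h0
  have key : IsReduced (f.fiber (genPt R)) := isReduced_of_isOpenImmersion (f.fiberι (genPt R))
  exact key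

end Groth.Agent.Lib.Helper4.DvrGen
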