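import Mathlib.Tactic
import Mathlib.AlgebraicGeometry.Morphisms.Smooth
import Mathlib.RingTheory.Smooth.IntegralClosure
import Mathlib.RingTheory.Unramified.LocalStructure
import Mathlib.RingTheory.Unramified.Field
import Mathlib.AlgebraicGeometry.Properties

/-!
Smooth schemes over a field are reduced (adapted from helper27's `Lib/Helper27/SchemeField`).
-/

open TensorProduct CategoryTheory AlgebraicGeometry

namespace Groth.Agent.Lib.Helper4.SmoothRed

universe u

theorem isReduced_of_etale_of_isDomain (A B : Type u) [CommRing A] [IsDomain A] [CommRing B]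
    [Algebra A B] [Algebra.Etale A B] : IsReduced B := by
  let K := FractionRing A
  have h1 : IsReduced (K ⊗[A] B) := Algebra.FormallyUnramified.isReduced_of_field K (K ⊗[A] B)
  have hinj : Function.Injective
      (Algebra.TensorProduct.includeRight : B →ₐ[A] K ⊗[A] B) :=
    Algebra.TensorProduct.includeRight_injective (IsFractionRing.injective A K)
  exact isReduced_of_injective _ hinj

theorem isReduced_of_smooth_field (k A : Type u) [Field k] [CommRing A] [Algebra k A]
    [Algebra.Smooth k A] : IsReduced A := by
  constructor
  intro x hx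
  by_contra hx0
  have hI : (Ideal.span {x}).annihilator ≠ ⊤ := by
    intro h
    have h1 : (1 : A) ∈ (Ideal.span {x}).annihilator := h ▸ Submodule.mem_top
    rw [Submodule.mem_annihilator_span_singleton] at h1
    exact hx0 (by simpa using h1)
  obtain ⟨p, hp, hIp⟩ := Ideal.exists_le_maximal _ hI
  have : p.IsPrime := hp.isPrime
  have hsm : Algebra.IsSmoothAt k p := inferInstance
  obtain ⟨f, hfp, n, _, _, _⟩ :=
    Algebra.IsSmoothAt.exists_isStandardEtale_mvPolynomial (R := k) (p := p)
  have hred : IsReduced (Localization.Away f) :=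
    isReduced_of_etale_of_isDomain (MvPolynomial (Fin n) k) (Localization.Away f)
  have h0 : algebraMap A (Localization.Away f) x = 0 :=
    (hx.map (algebraMap A (Localization.Away f))).eq_zero
  rw [IsLocalization.map_eq_zero_iff (Submonoid.powers f)] at h0
  obtain ⟨⟨_, m, rfl⟩, hm⟩ := h0
  have : f ^ m ∈ (Ideal.span {x}).annihilator := by
    rw [Submodule.mem_annihilator_span_singleton]
    simpa using hm
  exact hfp (hp.isPrime.mem_of_pow_mem m (hIp this))

theorem isReduced_of_smooth_spec {k : Type u} [Field k] {R : CommRingCat.{u}}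
    (g : Spec R ⟶ Spec (CommRingCat.of k)) [Smooth g] : _root_.IsReduced R := by
  obtain ⟨φ, hφ⟩ : ∃ φ : CommRingCat.of k ⟶ R, Spec.map φ = g :=
    ⟨Spec.preimage _, Spec.map_preimage _⟩
  have h1 : Smooth (Spec.map φ) := hφ ▸ inferInstance
  rw [HasRingHomProperty.Spec_iff (P := @Smooth)] at h1
  algebraize [φ.hom]
  exact isReduced_of_smooth_field k R

theorem isReduced_of_smooth_to_field {k : Type u} [Field k] {X : Scheme.{u}}
    (f : X ⟶ Spec (CommRingCat.of k)) [Smooth f] : AlgebraicGeometry.IsReduced X := by
  have : ∀ i, AlgebraicGeometry.IsReduced (X.affineOpenCover.openCover.X i) := by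
    intro i
    have hoi : IsOpenImmersion (X.affineOpenCover.f i) := X.affineOpenCover.map_prop i
    have : _root_.IsReduced (X.affineOpenCover.X i) :=
      isReduced_of_smooth_spec (X.affineOpenCover.f i ≫ f)
    change AlgebraicGeometry.IsReduced (Spec (X.affineOpenCover.X i))
    infer_instance
  exact AlgebraicGeometry.IsReduced.of_openCover X X.affineOpenCover.openCover

end Groth.Agent.Lib.Helper4.SmoothRed
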