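import Mathlib.Topology.KrullDimension
import Mathlib.Topology.Sober
import Mathlib.Tactic

set_option autoImplicit false
universe u
open TopologicalSpace Order

namespace Groth.Agent.Lib.Helper4.DimSurj

/-- lifting an infinite chain along a fibration -/
theorem lift_seq {X Y : Type*} (rX : X → X → Prop) (rY : Y → Y → Prop) (f : X → Y)
    (hf : Relation.Fibration rX rY f) (y : ℕ → Y) (hy : ∀ i, rY (y (i + 1)) (y i))
    (x0 : X) (hx0 : f x0 = y 0) :
    ∃ x : ℕ → X, x 0 = x0 ∧ (∀ i, f (x i) = y i) ∧ ∀ i, rX (x (i + 1)) (x i) := by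
  have step : ∀ (i : ℕ) (a : {a : X // f a = y i}), ∃ a' : X, rX a' a.1 ∧ f a' = y (i + 1) := by
    intro i a
    have : rY (y (i + 1)) (f a.1) := by rw [a.2]; exact hy i
    exact hf this
  let s : (i : ℕ) → {a : X // f a = y i} := fun i =>
    Nat.rec (motive := fun i => {a : X // f a = y i}) ⟨x0, hx0⟩
      (fun i a => ⟨(step i a).choose, (step i a).choose_spec.2⟩) i
  refine ⟨fun i => (s i).1, rfl, fun i => (s i).2, fun i => ?_⟩
  exact (step i (s i)).choose_spec.1

variable {X Y : Type u} [TopologicalSpace X] [TopologicalSpace Y]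

/-- the closure of a point as an irreducible closed set -/
def cl (x : X) : IrreducibleCloseds X :=
  ⟨closure {x}, isIrreducible_singleton.closure, isClosed_closure⟩

theorem cl_le_iff (a b : X) : cl a ≤ cl b ↔ b ⤳ a := by
  rw [specializes_iff_closure_subset]
  rfl

theorem cl_lt_of (a b : X) (h1 : b ⤳ a) (h2 : ¬ a ⤳ b) : cl a < cl b :=
  lt_of_le_not_ge ((cl_le_iff a b).mpr h1) (fun h => h2 ((cl_le_iff b a).mp h))

theorem main [QuasiSober Y]
    (f : X → Y) (hf : Continuous f) (hsurj : Function.Surjective f)
    (hlift : SpecializingMap f ∨ GeneralizingMap f) :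
    topologicalKrullDim Y ≤ topologicalKrullDim X := by
  unfold topologicalKrullDim
  rw [Order.krullDim, Order.krullDim]
  apply iSup_le
  intro p
  -- generic points
  let n := p.length
  let y : ℕ → Y := fun i => (p ⟨min i n, by omega⟩).isIrreducible'.genericPoint
  have hcl : ∀ i, closure {y i} = (p ⟨min i n, by omega⟩ : Set Y) := fun i =>
    (p ⟨min i n, by omega⟩).isIrreducible'.closure_genericPoint (p ⟨min i n, by omega⟩).isClosed'
  have hmono : ∀ i, y (i + 1) ⤳ y i := by
    intro i
    rw [specializes_iff_closure_subset, hcl, hcl]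
    have : p ⟨min i n, by omega⟩ ≤ p ⟨min (i + 1) n, by omega⟩ := by
      apply p.monotone
      show min i n ≤ min (i + 1) n
      omega
    exact this
  have hstrict : ∀ i < n, ¬ y i ⤳ y (i + 1) := by
    intro i hi h
    rw [specializes_iff_closure_subset, hcl, hcl] at h
    have h1 : p ⟨min i n, by omega⟩ < p ⟨min (i + 1) n, by omega⟩ := by
      apply p.strictMono
      show min i n < min (i + 1) n
      omega
    exact absurd (show p ⟨min (i + 1) n, by omega⟩ ≤ p ⟨min i n, by omega⟩ from h) h1.not_ge
  rcases hlift with hsp | hgen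
  · -- specializing: go down from the top; reversed sequence
    let y' : ℕ → Y := fun i => y (n - i)
    have hy' : ∀ i, flip (· ⤳ ·) (y' (i + 1)) (y' i) := by
      intro i
      show y (n - i) ⤳ y (n - (i + 1))
      rcases Nat.lt_or_ge i n with hi | hi
      · have : n - i = (n - (i + 1)) + 1 := by omega
        rw [this]
        exact hmono _
      · have h1 : n - i = 0 := by omega
        have h2 : n - (i + 1) = 0 := by omega
        rw [h1, h2]
    obtain ⟨x0, hx0⟩ := hsurj (y' 0)
    obtain ⟨x, -, hfx, hx⟩ := lift_seq (flip (· ⤳ ·)) (flip (· ⤳ ·)) f hsp y' hy' x0 hx0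
    -- chain in the dual order
    have hlt : ∀ i < n, cl (x (n - i)) < cl (x (n - (i + 1))) := by
      intro i hi
      have e : n - i = (n - (i + 1)) + 1 := by omega
      rw [e]
      apply cl_lt_of
      · exact hx (n - (i + 1))
      · intro hh
        have := hh.map hf
        rw [hfx, hfx] at this
        have h3 : y' (n - (i + 1)) = y (i + 1) := by
          show y (n - (n - (i + 1))) = y (i + 1)
          congr 1; omega
        have h4 : y' (n - (i + 1) + 1) = y i := by
          show y (n - (n - (i + 1) + 1)) = y i
          congr 1; omega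
        rw [h3, h4] at this
        exact hstrict i hi this
    let q : LTSeries (IrreducibleCloseds X) :=
      { length := n
        toFun := fun i => cl (x (n - i))
        step := fun i => hlt i i.2 }
    exact le_iSup_of_le q le_rfl
  · obtain ⟨x0, hx0⟩ := hsurj (y 0)
    obtain ⟨x, -, hfx, hx⟩ := lift_seq (· ⤳ ·) (· ⤳ ·) f hgen y hmono x0 hx0
    have hlt : ∀ i < n, cl (x i) < cl (x (i + 1)) := by
      intro i hi
      apply cl_lt_of
      · exact hx i
      · intro hh
        have := hh.map hf
        rw [hfx, hfx] at this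
        exact hstrict i hi this
    let q : LTSeries (IrreducibleCloseds X) :=
      { length := n
        toFun := fun i => cl (x i)
        step := fun i => hlt i i.2 }
    exact le_iSup_of_le q le_rfl

end Groth.Agent.Lib.Helper4.DimSurj
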