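import Mathlib.AlgebraicGeometry.Morphisms.Integral
import Mathlib.RingTheory.Ideal.GoingUp
import Mathlib.Tactic

set_option autoImplicit false
universe u
open CategoryTheory AlgebraicGeometry TopologicalSpace

namespace Groth.Agent.Lib.Helper4.IntegralFibre

theorem incomparable {R A : Type*} [CommRing R] [CommRing A] (φ : R →+* A) (hφ : φ.IsIntegral)
    (I J : Ideal A) [I.IsPrime] (hIJ : I ≤ J) (hc : I.comap φ = J.comap φ) : I = J := by
  by_contra hne
  have hlt : I < J := lt_of_le_of_ne hIJ hne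
  let _ : Algebra R A := φ.toAlgebra
  have : Algebra.IsIntegral R A := ⟨hφ⟩
  have h := Ideal.IsIntegral.comap_lt_comap (R := R) hlt
  change I.comap φ < J.comap φ at h
  rw [hc] at h
  exact lt_irrefl _ h

theorem main {X S : Scheme.{u}} (f : X ⟶ S) [IsIntegralHom f] (x : X) :
    closure {x} ∩ f.base ⁻¹' {f.base x} = {x} := by
  ext y
  simp only [Set.mem_inter_iff, Set.mem_preimage, Set.mem_singleton_iff]
  constructor
  · rintro ⟨hy, hfy⟩
    have hxy : x ⤳ y := specializes_iff_mem_closure.mpr hy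
    obtain ⟨V, hV, hsV, -⟩ := exists_isAffineOpen_mem_and_subset (U := ⊤) (x := f x) (by simp)
    have hU : IsAffineOpen (f ⁻¹ᵁ V) := hV.preimage f
    have hxU : x ∈ f ⁻¹ᵁ V := hsV
    have hyU : y ∈ f ⁻¹ᵁ V := by change f y ∈ V; rw [show f y = f x from hfy]; exact hsV
    have hint : (f.appLE V (f ⁻¹ᵁ V) le_rfl).hom.IsIntegral := by
      rw [Scheme.Hom.appLE_eq_app]
      exact f.isIntegral_app V hV
    have hcx := IsAffineOpen.comap_primeIdealOf_appLE V hV (f ⁻¹ᵁ V) hU le_rfl hxU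
    have hcy := IsAffineOpen.comap_primeIdealOf_appLE V hV (f ⁻¹ᵁ V) hU le_rfl hyU
    have hc : (hU.primeIdealOf ⟨x, hxU⟩).asIdeal.comap (f.appLE V (f ⁻¹ᵁ V) le_rfl).hom =
        (hU.primeIdealOf ⟨y, hyU⟩).asIdeal.comap (f.appLE V (f ⁻¹ᵁ V) le_rfl).hom := by
      have h1 := congrArg PrimeSpectrum.asIdeal hcx
      have h2 := congrArg PrimeSpectrum.asIdeal hcy
      simp only [PrimeSpectrum.comap_asIdeal] at h1 h2
      rw [h1, h2]
      congr 2
      exact Subtype.ext hfy.symm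
    have hle : (hU.primeIdealOf ⟨x, hxU⟩).asIdeal ≤ (hU.primeIdealOf ⟨y, hyU⟩).asIdeal := by
      have h1 : @Specializes (PrimeSpectrum Γ(X, f ⁻¹ᵁ V)) _ (hU.primeIdealOf ⟨x, hxU⟩)
          (hU.primeIdealOf ⟨y, hyU⟩) := by
        have h2 : hU.fromSpec (hU.primeIdealOf ⟨x, hxU⟩) ⤳ hU.fromSpec (hU.primeIdealOf ⟨y, hyU⟩) := by
          rw [hU.fromSpec_primeIdealOf, hU.fromSpec_primeIdealOf]
          exact hxy
        exact hU.fromSpec.isOpenEmbedding.isInducing.specializes_iff.mp h2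
      exact (PrimeSpectrum.le_iff_specializes _ _).mpr h1
    have heq := incomparable _ hint _ _ hle hc
    have : hU.primeIdealOf ⟨x, hxU⟩ = hU.primeIdealOf ⟨y, hyU⟩ := PrimeSpectrum.ext heq
    have := congrArg hU.fromSpec this
    rw [hU.fromSpec_primeIdealOf, hU.fromSpec_primeIdealOf] at this
    exact this.symm
  · rintro rfl
    exact ⟨subset_closure rfl, rfl⟩

end Groth.Agent.Lib.Helper4.IntegralFibre
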