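import Mathlib.AlgebraicGeometry.Morphisms.Integral
import Mathlib.AlgebraicGeometry.Morphisms.UniversallyClosed
import Mathlib.Tactic
import Groth.Agent.Lib.Helper4.DimSurj
import Groth.Agent.Lib.Helper4.IntegralFibre

set_option autoImplicit false
universe u
open CategoryTheory AlgebraicGeometry TopologicalSpace

namespace Groth.Agent.Lib.Helper4.IntegralDim

open Groth.Agent.Lib.Helper4.DimSurj

theorem dim_le_of_fibre_antichain {X Y : Type u} [TopologicalSpace X] [TopologicalSpace Y]
    [QuasiSober X] [T0Space Y] (f : X → Y) (hf : Continuous f)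
    (h : ∀ x x' : X, x ⤳ x' → f x = f x' → x = x') :
    topologicalKrullDim X ≤ topologicalKrullDim Y := by
  unfold topologicalKrullDim
  rw [Order.krullDim, Order.krullDim]
  apply iSup_le
  intro p
  let x : Fin (p.length + 1) → X := fun i => (p i).isIrreducible'.genericPoint
  have hcl : ∀ i, closure {x i} = (p i : Set X) := fun i =>
    (p i).isIrreducible'.closure_genericPoint (p i).isClosed'
  have hlt : ∀ i : Fin p.length, cl (f (x i.castSucc)) < cl (f (x i.succ)) := by
    intro i
    have hstep : p i.castSucc < p i.succ := p.step i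
    have hsp : x i.succ ⤳ x i.castSucc := by
      rw [specializes_iff_closure_subset, hcl, hcl]
      exact hstep.le
    apply cl_lt_of
    · exact hsp.map hf
    · intro hh
      have heq : f (x i.succ) = f (x i.castSucc) :=
        (Specializes.antisymm (hsp.map hf) hh).eq
      have := h _ _ hsp heq
      have h2 : (p i.succ : Set X) = p i.castSucc := by rw [← hcl, ← hcl, this]
      exact hstep.ne (SetLike.coe_injective h2.symm)
  let q : LTSeries (IrreducibleCloseds Y) :=
    { length := p.length
      toFun := fun i => cl (f (x i))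
      step := hlt }
  exact le_iSup_of_le q le_rfl

theorem main {X Y : Scheme.{u}} (f : X ⟶ Y) [IsIntegralHom f] :
    topologicalKrullDim ↥X ≤ topologicalKrullDim ↥Y ∧
      (Surjective f → topologicalKrullDim ↥X = topologicalKrullDim ↥Y) := by
  have h1 : topologicalKrullDim ↥X ≤ topologicalKrullDim ↥Y := by
    apply dim_le_of_fibre_antichain f f.continuous
    intro x x' hsp heq
    have hmem : x' ∈ closure {x} ∩ f.base ⁻¹' {f.base x} :=
      ⟨specializes_iff_mem_closure.mp hsp, heq.symm⟩
    rw [Groth.Agent.Lib.Helper4.IntegralFibre.main f x] at hmem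
    exact hmem.symm
  refine ⟨h1, fun hs => le_antisymm h1 ?_⟩
  exact Groth.Agent.Lib.Helper4.DimSurj.main f f.continuous f.surjective
    (Or.inl f.isClosedMap.specializingMap)

end Groth.Agent.Lib.Helper4.IntegralDim
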