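import Mathlib.AlgebraicGeometry.Morphisms.QuasiFinite
import Mathlib.Tactic
import Groth.Agent.Lib.Helper4.IntegralDim

set_option autoImplicit false
universe u
open CategoryTheory AlgebraicGeometry TopologicalSpace

namespace Groth.Agent.Lib.Helper4.QFinDim

theorem no_spec_in_fibre {X Y : Scheme.{u}} (f : X ⟶ Y) [LocallyQuasiFinite f] (x x' : X)
    (hsp : x ⤳ x') (heq : f x = f x') : x = x' := by
  have hd : DiscreteTopology (f ⁻¹' {f x'}) :=
    isDiscrete_iff_discreteTopology.mp (f.isDiscrete_preimage_singleton (f x'))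
  let a : f ⁻¹' {f x'} := ⟨x, heq⟩
  let b : f ⁻¹' {f x'} := ⟨x', rfl⟩
  have hab : a ⤳ b := Topology.IsInducing.subtypeVal.specializes_iff.mp hsp
  exact congrArg Subtype.val hab.eq

theorem main {X Y : Scheme.{u}} (f : X ⟶ Y) [LocallyQuasiFinite f] :
    topologicalKrullDim X ≤ topologicalKrullDim (closure (Set.range f.base)) ∧
      topologicalKrullDim (closure (Set.range f.base)) ≤ topologicalKrullDim Y := by
  refine ⟨?_, topologicalKrullDim_subspace_le _ _⟩
  let f' : X → closure (Set.range f.base) := fun x => ⟨f.base x, subset_closure ⟨x, rfl⟩⟩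
  have hf' : Continuous f' := f.continuous.subtype_mk _
  apply Groth.Agent.Lib.Helper4.IntegralDim.dim_le_of_fibre_antichain f' hf'
  intro x x' hsp heq
  exact no_spec_in_fibre f x x' hsp (congrArg Subtype.val heq)

end Groth.Agent.Lib.Helper4.QFinDim
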