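import Mathlib.AlgebraicGeometry.Morphisms.FlatDescent
import Mathlib.AlgebraicGeometry.Morphisms.LocalFlatDescent
import Mathlib.AlgebraicGeometry.Morphisms.QuasiSeparated
import Mathlib.Tactic

set_option autoImplicit false
universe u
open CategoryTheory AlgebraicGeometry TopologicalSpace Limits

namespace Groth.Agent.Lib.Helper4.MaxOpen

variable {X Y X' Y' : Scheme.{u}} {f : X ⟶ Y} {f' : X' ⟶ Y'} {p : X' ⟶ X} {g : Y' ⟶ Y}

/-- restriction of a pullback square to opens of the targets -/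
theorem isPullback_restrict (sq : IsPullback f' p g f) (U : Y.Opens) (U' : Y'.Opens)
    (hle : U' ≤ g ⁻¹ᵁ U) :
    ∃ k : (f' ⁻¹ᵁ U').toScheme ⟶ (f ⁻¹ᵁ U).toScheme,
      IsPullback (f' ∣_ U') k (g.resLE U U' hle) (f ∣_ U) := by
  have big : IsPullback (f' ∣_ U') ((f' ⁻¹ᵁ U').ι ≫ p) (U'.ι ≫ g) f :=
    (isPullback_morphismRestrict f' U').paste_vert sq
  have hC := isPullback_morphismRestrict f U
  have hcomm : (f' ∣_ U' ≫ g.resLE U U' hle) ≫ U.ι = ((f' ⁻¹ᵁ U').ι ≫ p) ≫ f := by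
    rw [Category.assoc, Scheme.Hom.resLE_comp_ι]
    exact big.w
  let k := hC.lift (f' ∣_ U' ≫ g.resLE U U' hle) ((f' ⁻¹ᵁ U').ι ≫ p) hcomm
  have hk1 : k ≫ f ∣_ U = f' ∣_ U' ≫ g.resLE U U' hle := hC.lift_fst _ _ _
  have hk2 : k ≫ (f ⁻¹ᵁ U).ι = (f' ⁻¹ᵁ U').ι ≫ p := hC.lift_snd _ _ _
  refine ⟨k, ?_⟩
  have big' : IsPullback (f' ∣_ U') (k ≫ (f ⁻¹ᵁ U).ι) (g.resLE U U' hle ≫ U.ι) f := by
    rw [hk2, Scheme.Hom.resLE_comp_ι]; exact big
  exact IsPullback.of_bot big' hk1.symm hC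

variable (P : MorphismProperty Scheme.{u}) [P.IsStableUnderBaseChange]

theorem P_restrict_of_isPullback (sq : IsPullback f' p g f) (U : Y.Opens) (U' : Y'.Opens)
    (hle : U' ≤ g ⁻¹ᵁ U) (h : P (f ∣_ U)) : P (f' ∣_ U') := by
  obtain ⟨k, hk⟩ := isPullback_restrict sq U U' hle
  exact MorphismProperty.of_isPullback (P := P) hk.flip h

theorem P_restrict_mono (A B : Y.Opens) (hle : B ≤ A) (h : P (f ∣_ A)) : P (f ∣_ B) :=
  P_restrict_of_isPullback P (IsPullback.id_vert f) A B (by simpa using hle) h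

/-- pointwise form of the descent: an open of `Y'` over which the base change has `P` maps into
the maximal open of `Y` over which `f` has `P`. -/
theorem image_le_maxOpen [P.DescendsAlong (@Flat ⊓ @Surjective ⊓ @QuasiCompact)]
    (sq : IsPullback f' p g f) [Flat g] (hg : IsOpenMap g.base)
    (W : Y.Opens) (hmax : ∀ W₀ : Y.Opens, P (f ∣_ W₀) → W₀ ≤ W)
    (U₁ : Y'.Opens) (hU₁ : P (f' ∣_ U₁)) (y' : Y') (hy' : y' ∈ U₁) : g y' ∈ W := by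
  -- affine opens
  obtain ⟨U, hU, hyU⟩ : ∃ U : Y.Opens, IsAffineOpen U ∧ g y' ∈ U := by
    obtain ⟨_, ⟨V, hV, rfl⟩, hxV, -⟩ :=
      Y.isBasis_affineOpens.exists_subset_of_mem_open (Set.mem_univ (g y')) isOpen_univ
    exact ⟨V, hV, hxV⟩
  obtain ⟨U', hU', hyU', hU'le⟩ : ∃ U' : Y'.Opens, IsAffineOpen U' ∧ y' ∈ U' ∧
      U' ≤ U₁ ⊓ g ⁻¹ᵁ U := by
    obtain ⟨_, ⟨V, hV, rfl⟩, hxV, hsub⟩ :=
      Y'.isBasis_affineOpens.exists_subset_of_mem_open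
        (show y' ∈ ((U₁ ⊓ g ⁻¹ᵁ U : Y'.Opens) : Set Y') from ⟨hy', hyU⟩) (U₁ ⊓ g ⁻¹ᵁ U).2
    exact ⟨V, hV, hxV, hsub⟩
  let U₀ : Y.Opens := ⟨g '' (U' : Set Y'), hg _ U'.2⟩
  have hU₀U : U₀ ≤ U := by
    rintro _ ⟨z, hz, rfl⟩
    exact (hU'le hz).2
  have hle : U' ≤ g ⁻¹ᵁ U₀ := fun z hz => ⟨z, hz, rfl⟩
  have hP' : P (f' ∣_ U') := P_restrict_mono P U₁ U' (fun z hz => (hU'le hz).1) hU₁
  obtain ⟨k, hk⟩ := isPullback_restrict sq U₀ U' hle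
  have hflat : Flat (g.resLE U₀ U' hle) := inferInstance
  have hsurj : Surjective (g.resLE U₀ U' hle) := by
    refine ⟨fun ⟨y, z, hz, hzy⟩ => ⟨⟨z, hz⟩, ?_⟩⟩
    apply Subtype.ext
    rw [Scheme.Hom.coe_resLE_apply]
    exact hzy
  have hU'c : CompactSpace U'.toScheme := isCompact_iff_compactSpace.mp hU'.isCompact
  have hUaff : IsAffine U.toScheme := hU
  have hqs : QuasiSeparatedSpace U₀.toScheme := by
    have : IsOpenImmersion (Y.homOfLE hU₀U) := inferInstance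
    exact QuasiSeparatedSpace.of_isOpenEmbedding (Y.homOfLE hU₀U).isOpenEmbedding
  have hqc : QuasiCompact (g.resLE U₀ U' hle) := inferInstance
  have hP₀ : P (f ∣_ U₀) :=
    MorphismProperty.DescendsAlong.of_isPullback (Q := @Flat ⊓ @Surjective ⊓ @QuasiCompact) hk
      ⟨⟨hflat, hsurj⟩, hqc⟩ hP'
  exact hmax U₀ hP₀ ⟨y', hyU', rfl⟩

theorem main5390 [IsZariskiLocalAtTarget P]
    [P.DescendsAlong (@Flat ⊓ @Surjective ⊓ @QuasiCompact)]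
    (X Y Y' : Scheme.{u}) (f : X ⟶ Y) (g : Y' ⟶ Y) [Flat g] (hg : IsOpenMap g.base)
    (W : Y.Opens) (hW : P (f ∣_ W)) (hmax : ∀ W₀ : Y.Opens, P (f ∣_ W₀) → W₀ ≤ W)
    (W₁ : Y'.Opens) (hW₁ : P (pullback.snd f g ∣_ W₁))
    (hmax₁ : ∀ W₀ : Y'.Opens, P (pullback.snd f g ∣_ W₀) → W₀ ≤ W₁) :
    W₁ = g ⁻¹ᵁ W := by
  have sq : IsPullback (pullback.snd f g) (pullback.fst f g) g f :=
    (IsPullback.of_hasPullback f g).flip
  apply le_antisymm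
  · intro y' hy'
    exact image_le_maxOpen P sq hg W hmax W₁ hW₁ y' hy'
  · exact hmax₁ _ (P_restrict_of_isPullback P sq W (g ⁻¹ᵁ W) le_rfl hW)

end Groth.Agent.Lib.Helper4.MaxOpen
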