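import Mathlib.Tactic
import Groth.Prelude.Def_BT

set_option autoImplicit false
universe u
open CategoryTheory MonoidalCategory CartesianMonoidalCategory MonObj GrpObj AlgebraicGeometry Limits

namespace Groth.Agent.Lib.Helper4.KerPts

variable {S : Scheme.{u}}

theorem isKernel_iff {N G Q : Over S} [GrpObj Q] (i : N ⟶ G) (q : G ⟶ Q) :
    AlgGrp.IsKernel i q ↔ (i ≫ q = 1) ∧
      ∀ (T : Over S) (x : T ⟶ G), x ≫ q = 1 → ∃! y : T ⟶ N, y ≫ i = x := by
  unfold AlgGrp.IsKernel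
  constructor
  · intro h
    refine ⟨h.w, fun T x hx => ?_⟩
    refine ⟨h.lift x (toUnit T) hx, h.lift_fst _ _ _, fun y hy => ?_⟩
    apply h.hom_ext
    · rw [hy, h.lift_fst]
    · exact toUnit_unique _ _
  · rintro ⟨hw, hT⟩
    have hc : ∀ s : PullbackCone q η[Q], s.fst ≫ q = 1 := fun s => by
      rw [s.condition, Hom.one_def]; congr 1; exact toUnit_unique _ _
    refine IsPullback.mk ⟨hw⟩ ⟨PullbackCone.IsLimit.mk _
      (fun s => (hT s.pt s.fst (hc s)).choose) ?_ ?_ ?_⟩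
    · intro s
      exact (hT s.pt s.fst (hc s)).choose_spec.1
    · intro s
      exact toUnit_unique _ _
    · intro s m hm1 hm2
      exact (hT s.pt s.fst (hc s)).choose_spec.2 m hm1

theorem main (ℓ h : ℕ) [Fact ℓ.Prime] (G : BTGrp.ProBT ℓ S h)
    (i : (t : ℕ) → (G.G 1 ⟶ G.G (t + 1))) (hi0 : i 0 = 𝟙 (G.G 1))
    (hi : ∀ t : ℕ, i (t + 1) = i t ≫ G.incl (t + 1)) (t : ℕ) :
    AlgGrp.IsKernel (i t) ((𝟙 (G.G (t + 1))) ^ ℓ) := by
  induction t with
  | zero =>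
    rw [hi0, isKernel_iff]
    have h0 : G.incl 0 = 1 := by
      have := ((isKernel_iff _ _).1 (G.isKernel 0)).1
      simpa using this
    have hℓ : (𝟙 (G.G (0 + 1))) ^ ℓ = 1 := by
      rw [← G.proj_incl 0, h0, MonObj.comp_one]
    refine ⟨?_, fun T x hx => ⟨x, Category.comp_id _, fun y hy => ?_⟩⟩
    · rw [hℓ]; exact MonObj.comp_one _
    · rw [← hy]; exact (Category.comp_id _).symm
  | succ t ih =>
    rw [isKernel_iff] at ih ⊢
    obtain ⟨ih1, ih2⟩ := ih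
    obtain ⟨k1, k2⟩ := (isKernel_iff _ _).1 (G.isKernel (t + 1))
    have hmono : ∀ (T : Over S) (y y' : T ⟶ G.G (t + 1)),
        y ≫ G.incl (t + 1) = y' ≫ G.incl (t + 1) → y = y' := by
      intro T y y' hyy
      have hx : (y ≫ G.incl (t + 1)) ≫ (𝟙 (G.G (t + 1 + 1))) ^ (ℓ ^ (t + 1)) = 1 := by
        rw [Category.assoc, k1, MonObj.comp_one]
      obtain ⟨z, hz1, hz2⟩ := k2 T _ hx
      rw [hz2 y rfl, hz2 y' hyy.symm]
    have hp : ∀ (n : ℕ) (A : Over S) [GrpObj A] (T : Over S) (x : T ⟶ A), x ≫ (𝟙 A) ^ n = x ^ n := by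
      intro n A _ T x
      rw [MonObj.comp_pow, Category.comp_id]
    simp only [hp] at ih1 ih2 k1 k2 ⊢
    refine ⟨?_, fun T x hx => ?_⟩
    · rw [hi, ← MonObj.pow_comp, ih1, MonObj.one_comp]
    · have hx2 : x ^ ℓ ^ (t + 1) = 1 := by
        rw [pow_succ', pow_mul, hx, one_pow]
      obtain ⟨y, hy1, hy2⟩ := k2 T x hx2
      have hy3 : y ^ ℓ = 1 := by
        apply hmono
        rw [MonObj.pow_comp, hy1, hx, MonObj.one_comp]
      obtain ⟨z, hz1, hz2⟩ := ih2 T y hy3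
      refine ⟨z, ?_, fun z' hz' => ?_⟩
      · show z ≫ i (t + 1) = x
        rw [hi, ← Category.assoc, hz1, hy1]
      · apply hz2
        show z' ≫ i t = y
        apply hmono
        rw [Category.assoc, ← hi, hy1]
        exact hz'

end Groth.Agent.Lib.Helper4.KerPts
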