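import Mathlib.Tactic
import Mathlib.AlgebraicGeometry.Sites.Fpqc
import Mathlib.AlgebraicGeometry.Noetherian
import Mathlib.AlgebraicGeometry.Morphisms.Smooth
import Groth.Prelude.Def_AlgGrp
import Groth.Agent.Lib.Helper4.KerPts

namespace Groth.Agent.Lib.Helper4.FpqcDesc

open CategoryTheory Limits AlgebraicGeometry MonoidalCategory CartesianMonoidalCategory MonObj

universe u
variable {S : Scheme.{u}}

theorem exists_desc {X Y Z : Over S} (q : X ⟶ Y) [EffectiveEpi q.left] (φ : X ⟶ Z)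
    (h : ∀ (W : Over S) (u v : W ⟶ X), u ≫ q = v ≫ q → u ≫ φ = v ≫ φ) :
    ∃ φ' : Y ⟶ Z, q ≫ φ' = φ := by
  have hc : ∀ {W : Scheme.{u}} (u v : W ⟶ X.left), u ≫ q.left = v ≫ q.left →
      u ≫ φ.left = v ≫ φ.left := by
    intro W u v huv
    have hv : v ≫ X.hom = u ≫ X.hom := by
      rw [← Over.w q, ← Category.assoc, ← huv, Category.assoc]
    have := h (Over.mk (u ≫ X.hom)) (Over.homMk u rfl) (Over.homMk v hv) (by ext; exact huv)
    exact congrArg CommaMorphism.left this
  have : Epi q.left := inferInstance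
  refine ⟨Over.homMk (EffectiveEpi.desc q.left φ.left hc) ?_, ?_⟩
  · rw [← cancel_epi q.left, EffectiveEpi.fac_assoc]; simp
  · ext; simp [EffectiveEpi.fac]

theorem epi_of_left {X Y : Over S} (q : X ⟶ Y) [Epi q.left] : Epi q := Over.epi_of_epi_left q

theorem surjective_tensorHom {A B A' B' : Over S} (f : A ⟶ A') (g : B ⟶ B') [hf : Surjective f.left]
    [hg : Surjective g.left] : Surjective (f ⊗ₘ g).left := by
  rw [Over.tensorHom_left]
  have : MorphismProperty.IsStableUnderComposition @Surjective.{u} :=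
    (inferInstance : MorphismProperty.IsMultiplicative @Surjective.{u}).toIsStableUnderComposition
  exact MorphismProperty.pullbackMap (P := @Surjective) hf hg (by simp) (by simp)

theorem flat_tensorHom {A B A' B' : Over S} (f : A ⟶ A') (g : B ⟶ B') [hf : Flat f.left]
    [hg : Flat g.left] : Flat (f ⊗ₘ g).left := by
  rw [Over.tensorHom_left]
  exact MorphismProperty.pullbackMap (P := @Flat) hf hg (by simp) (by simp)

theorem quasiCompact_tensorHom {A B A' B' : Over S} (f : A ⟶ A') (g : B ⟶ B')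
    [hf : QuasiCompact f.left] [hg : QuasiCompact g.left] : QuasiCompact (f ⊗ₘ g).left := by
  rw [Over.tensorHom_left]
  exact MorphismProperty.pullbackMap (P := @QuasiCompact) hf hg (by simp) (by simp)

theorem epi_tensorHom {A B A' B' : Over S} (f : A ⟶ A') (g : B ⟶ B')
    [Surjective f.left] [Flat f.left] [QuasiCompact f.left]
    [Surjective g.left] [Flat g.left] [QuasiCompact g.left] : Epi (f ⊗ₘ g) := by
  have := surjective_tensorHom f g
  have := flat_tensorHom f g
  have := quasiCompact_tensorHom f g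
  exact Over.epi_of_epi_left _

section quot
variable {G N Q H : Over S} [GrpObj G] [GrpObj Q] [GrpObj H]
  (q : G ⟶ Q) [IsMonHom q] (i : N ⟶ G) (hK : AlgGrp.IsKernel i q)
  (φ : G ⟶ H) [IsMonHom φ] (hφ : i ≫ φ = toUnit N ≫ η[H])
include hK hφ

theorem coeq (W : Over S) (u v : W ⟶ G) (huv : u ≫ q = v ≫ q) : u ≫ φ = v ≫ φ := by
  rw [KerPts.isKernel_iff] at hK
  have h1 : (u * v⁻¹) ≫ q = 1 := by
    rw [MonObj.mul_comp, GrpObj.inv_comp, huv, mul_inv_cancel]
  obtain ⟨y, hy, -⟩ := hK.2 W _ h1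
  have h2 : (u * v⁻¹) ≫ φ = 1 := by
    rw [← hy, Category.assoc, hφ, ← Category.assoc, MonObj.one_eq_one]
    simp [MonObj.comp_one]
  rw [MonObj.mul_comp, GrpObj.inv_comp, mul_inv_eq_one] at h2
  exact h2

theorem quotient_desc [Surjective q.left] [Flat q.left] [QuasiCompact q.left] :
    ∃ φ' : Q ⟶ H, IsMonHom φ' ∧ q ≫ φ' = φ ∧ ∀ φ'' : Q ⟶ H, q ≫ φ'' = φ → φ'' = φ' := by
  have hepi : Epi q := Over.epi_of_epi_left _
  have hepi2 : Epi (q ⊗ₘ q) := epi_tensorHom q q
  obtain ⟨φ', hφ'⟩ := exists_desc q φ (coeq q i hK φ hφ)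
  refine ⟨φ', ⟨?_, ?_⟩, hφ', fun φ'' h => ?_⟩
  · rw [← IsMonHom.one_hom (f := q), Category.assoc, hφ', IsMonHom.one_hom]
  · rw [← cancel_epi (q ⊗ₘ q), ← Category.assoc, ← IsMonHom.mul_hom, Category.assoc, hφ',
      ← Category.assoc, tensorHom_comp_tensorHom, hφ', IsMonHom.mul_hom]
  · rw [← cancel_epi q, h, hφ']

end quot

section five
variable {S : Scheme.{u}} {A B C C' : Over S} [GrpObj A] [GrpObj B] [GrpObj C] [GrpObj C']
  (i : B ⟶ C) [IsMonHom i] (α : C ⟶ A) [IsMonHom α] (hker : AlgGrp.IsKernel i α)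
  (i' : B ⟶ C') [IsMonHom i'] (α' : C' ⟶ A) [IsMonHom α'] (hker' : AlgGrp.IsKernel i' α')
  (f : C ⟶ C') [IsMonHom f] (hfi : i ≫ f = i') (hfα : f ≫ α' = α)
include hker hker' hfi hfα

theorem five_mono : Mono f := by
  rw [KerPts.isKernel_iff] at hker hker'
  constructor
  intro T x y hxy
  have h1 : (x * y⁻¹) ≫ f = 1 := by
    rw [MonObj.mul_comp, GrpObj.inv_comp, hxy, mul_inv_cancel]
  have h2 : (x * y⁻¹) ≫ α = 1 := by
    rw [← hfα, ← Category.assoc, h1, MonObj.one_comp]
  obtain ⟨b, hb, -⟩ := hker.2 T _ h2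
  have h3 : b ≫ i' = 1 := by rw [← hfi, ← Category.assoc, hb, h1]
  have hb1 : b = 1 := by
    obtain ⟨y0, -, huniq⟩ := hker'.2 T 1 (MonObj.one_comp α')
    rw [huniq b h3, huniq 1 (MonObj.one_comp i')]
  rw [hb1, MonObj.one_comp] at hb
  exact mul_inv_eq_one.mp hb.symm

theorem five_iso [Surjective α.left] [Flat α.left] [QuasiCompact α.left] : IsIso f := by
  have hmono : Mono f := five_mono i α hker i' α' hker' f hfi hfα
  rw [KerPts.isKernel_iff] at hker hker'
  let T : Over S := Over.mk (pullback.fst α'.left α.left ≫ C'.hom)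
  let p1 : T ⟶ C' := Over.homMk (pullback.fst α'.left α.left) rfl
  let p2 : T ⟶ C := Over.homMk (pullback.snd α'.left α.left) (by
    show pullback.snd α'.left α.left ≫ C.hom = pullback.fst α'.left α.left ≫ C'.hom
    rw [← Over.w α, ← Over.w α', pullback.condition_assoc])
  have hp : p1 ≫ α' = p2 ≫ α := by
    ext
    exact pullback.condition
  have hee : EffectiveEpi p1.left := by
    show EffectiveEpi (pullback.fst α'.left α.left)
    infer_instance
  have hepi : Epi p1 := Over.epi_of_epi_left _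
  have hd : (p1 * (p2 ≫ f)⁻¹) ≫ α' = 1 := by
    rw [MonObj.mul_comp, GrpObj.inv_comp, Category.assoc, hfα, hp, mul_inv_cancel]
  obtain ⟨b, hb, -⟩ := hker'.2 T _ hd
  have hc : ((b ≫ i) * p2) ≫ f = p1 := by
    rw [MonObj.mul_comp, Category.assoc, hfi, hb, inv_mul_cancel_right]
  obtain ⟨g, hg⟩ := exists_desc p1 ((b ≫ i) * p2) (fun W u v huv => by
    rw [← cancel_mono f, Category.assoc, Category.assoc, hc, huv])
  have hgf : g ≫ f = 𝟙 C' := by
    rw [← cancel_epi p1, ← Category.assoc, hg, hc, Category.comp_id]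
  have hfg : f ≫ g = 𝟙 C := by
    rw [← cancel_mono f, Category.assoc, hgf, Category.comp_id, Category.id_comp]
  exact ⟨g, hfg, hgf⟩

end five

theorem quasiSeparatedSpace_of_loft (k : Type u) [Field k] (Q : Over (Spec (CommRingCat.of k)))
    [LocallyOfFiniteType Q.hom] : QuasiSeparatedSpace Q.left := by
  have : IsLocallyNoetherian Q.left := LocallyOfFiniteType.isLocallyNoetherian Q.hom
  infer_instance

theorem quasiCompact_of_field (k : Type u) [Field k] (G Q : Over (Spec (CommRingCat.of k)))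
    [QuasiCompact G.hom] [LocallyOfFiniteType Q.hom] (q : G ⟶ Q) : QuasiCompact q.left := by
  have := quasiSeparatedSpace_of_loft k Q
  have h : QuasiCompact (q.left ≫ Q.hom) := by rw [Over.w]; infer_instance
  exact QuasiCompact.of_comp q.left Q.hom

theorem main3280 (k : Type u) [Field k]
    (G N Q H : Over (Spec (CommRingCat.of k))) [GrpObj G] [GrpObj Q] [GrpObj H]
    [LocallyOfFiniteType G.hom] [QuasiCompact G.hom] [LocallyOfFiniteType Q.hom] [QuasiCompact Q.hom]
    (q : G ⟶ Q) [IsMonHom q] [Flat q.left] [Surjective q.left] (i : N ⟶ G) (hK : AlgGrp.IsKernel i q)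
    (φ : G ⟶ H) [IsMonHom φ] (hφ : i ≫ φ = toUnit N ≫ η[H]) :
    ∃ φ' : Q ⟶ H, IsMonHom φ' ∧ q ≫ φ' = φ ∧ ∀ φ'' : Q ⟶ H, q ≫ φ'' = φ → φ'' = φ' := by
  have := quasiCompact_of_field k G Q q
  exact quotient_desc q i hK φ hφ

theorem main11899 (k : Type u) [Field k]
    (A B C C' : Over (Spec (CommRingCat.of k))) [GrpObj A] [GrpObj B] [GrpObj C] [GrpObj C']
    [Smooth A.hom] [QuasiCompact C.hom]
    (i : B ⟶ C) [IsMonHom i]
    (α : C ⟶ A) [IsMonHom α] [Surjective α.left] [Flat α.left] (hker : AlgGrp.IsKernel i α)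
    (i' : B ⟶ C') [IsMonHom i']
    (α' : C' ⟶ A) [IsMonHom α'] (hker' : AlgGrp.IsKernel i' α')
    (f : C ⟶ C') [IsMonHom f] (hfi : i ≫ f = i') (hfα : f ≫ α' = α) :
    IsIso f := by
  have := quasiCompact_of_field k C A α
  exact five_iso i α hker i' α' hker' f hfi hfα

end Groth.Agent.Lib.Helper4.FpqcDesc
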