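import Mathlib.AlgebraicGeometry.Sites.Fpqc
import Mathlib.AlgebraicGeometry.Sites.Etale
import Mathlib.AlgebraicGeometry.Morphisms.UniversallyOpen
import Mathlib.AlgebraicGeometry.Morphisms.Etale
import Mathlib.Tactic

set_option autoImplicit false
universe u
open CategoryTheory AlgebraicGeometry TopologicalSpace Limits MorphismProperty

namespace Groth.Agent.Lib.Helper4.LargestOpenTarget

variable (Q : MorphismProperty Scheme.{u}) [Q.IsMultiplicative] [Q.IsStableUnderBaseChange]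

/-- generic largest-open statement for a predicate on morphisms into a fixed scheme `Y` -/
theorem generic {Y : Scheme.{u}} (BC : ∀ ⦃T : Scheme.{u}⦄, (T ⟶ Y) → Prop)
    (hQimm : ∀ {A B : Scheme.{u}} (j : A ⟶ B) [IsOpenImmersion j], Q j)
    (hQopen : ∀ {A B : Scheme.{u}} (j : A ⟶ B), Q j → IsOpenMap j)
    (h1 : ∀ {T T' : Scheme.{u}} (h : T ⟶ Y) (u : T' ⟶ T), Q u → BC h → BC (u ≫ h))
    (h2 : ∀ {T T' : Scheme.{u}} (h : T ⟶ Y) (u : T' ⟶ T), Q u → Function.Surjective u.base →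
      BC (u ≫ h) → BC h)
    (h3 : ∀ {X : Scheme.{u}} (φ : X ⟶ Y) (S : Set X.Opens),
      (∀ W ∈ S, BC (W.ι ≫ φ)) → BC ((⨆ W : S, (W : X.Opens)).ι ≫ φ))
    {X : Scheme.{u}} (f : X ⟶ Y) :
    ∃ W : X.Opens, (BC (W.ι ≫ f) ∧ ∀ W' : X.Opens, BC (W'.ι ≫ f) → W' ≤ W) ∧
      ∀ (X' : Scheme.{u}) (g : X' ⟶ X), Q g → ∀ (V : X'.Opens),
        (BC (V.ι ≫ g ≫ f) ∧ ∀ V' : X'.Opens, BC (V'.ι ≫ g ≫ f) → V' ≤ V) → V = g ⁻¹ᵁ W := by
  let S : Set X.Opens := {W' | BC (W'.ι ≫ f)}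
  let W : X.Opens := ⨆ W' : S, (W' : X.Opens)
  have hW : BC (W.ι ≫ f) := h3 f S (fun W' hW' => hW')
  have hmax : ∀ W' : X.Opens, BC (W'.ι ≫ f) → W' ≤ W := fun W' hW' =>
    le_iSup (fun W' : S => (W' : X.Opens)) ⟨W', hW'⟩
  refine ⟨W, ⟨hW, hmax⟩, ?_⟩
  intro X' g hg V ⟨hV, hVmax⟩
  have hrestr : ∀ O : X.Opens, Q (g ∣_ O) := fun O =>
    Q.of_isPullback (isPullback_morphismRestrict g O).flip hg
  apply le_antisymm
  · let W'' : X.Opens := ⟨g '' V, hQopen g hg _ V.isOpen⟩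
    have hle : V ≤ g ⁻¹ᵁ W'' := fun v hv => ⟨v, hv, rfl⟩
    let u : (V : Scheme.{u}) ⟶ (W'' : Scheme.{u}) := X'.homOfLE hle ≫ (g ∣_ W'')
    have hu : Q u := Q.comp_mem _ _ (hQimm _) (hrestr W'')
    have huι : u ≫ W''.ι = V.ι ≫ g := by
      simp only [u, Category.assoc, morphismRestrict_ι, Scheme.homOfLE_ι_assoc]
    have husurj : Function.Surjective u.base := by
      rintro ⟨w, v, hv, rfl⟩
      obtain ⟨v', rfl⟩ : v ∈ Set.range V.ι := by rw [Scheme.Opens.range_ι]; exact hv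
      refine ⟨v', ?_⟩
      apply W''.ι.isOpenEmbedding.injective
      rw [← Scheme.Hom.comp_apply, huι, Scheme.Hom.comp_apply]
      rfl
    have hP'' : BC (W''.ι ≫ f) := by
      apply h2 (W''.ι ≫ f) u hu husurj
      rw [← Category.assoc, huι, Category.assoc]
      exact hV
    intro v hv
    exact hmax W'' hP'' ⟨v, hv, rfl⟩
  · apply hVmax
    have : (g ⁻¹ᵁ W).ι ≫ g ≫ f = (g ∣_ W) ≫ W.ι ≫ f := by
      rw [← Category.assoc, ← morphismRestrict_ι, Category.assoc]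
    rw [this]
    exact h1 (W.ι ≫ f) (g ∣_ W) (hrestr W) hW

/-- base change predicate -/
def BC (P : MorphismProperty Scheme.{u}) {X Y : Scheme.{u}} (f : X ⟶ Y) ⦃T : Scheme.{u}⦄ (h : T ⟶ Y) : Prop :=
  P (pullback.snd f h)

theorem bc_iff (P : MorphismProperty Scheme.{u}) [P.RespectsIso]
    {X Y : Scheme.{u}} (f : X ⟶ Y) {T A : Scheme.{u}} (h : T ⟶ Y) (fst' : A ⟶ X) (snd' : A ⟶ T)
    (hpb : IsPullback fst' snd' f h) : BC P f h ↔ P snd' := by
  unfold BC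
  rw [← hpb.isoPullback_hom_snd, P.cancel_left_of_respectsIso]

theorem bc_paste (P : MorphismProperty Scheme.{u}) [P.RespectsIso]
    {X Y : Scheme.{u}} (f : X ⟶ Y) {T T' : Scheme.{u}} (h : T ⟶ Y) (u : T' ⟶ T) :
    BC P f (u ≫ h) ↔ P (pullback.snd (pullback.snd f h) u) := by
  apply bc_iff P f (u ≫ h) (pullback.fst (pullback.snd f h) u ≫ pullback.fst f h)
  exact (IsPullback.of_hasPullback (pullback.snd f h) u).paste_horiz (IsPullback.of_hasPullback f h)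

include Q in
theorem bc_h1 (P : MorphismProperty Scheme.{u}) [hP : P.IsLocalAtTarget (Scheme.precoverage Q)]
    {X Y : Scheme.{u}} (f : X ⟶ Y) {T T' : Scheme.{u}} (h : T ⟶ Y) (u : T' ⟶ T)
    (hu : Q u) (hh : BC P f h) : BC P f (u ≫ h) := by
  have : P.RespectsIso := IsLocalAtTarget.toRespects (Scheme.precoverage Q)
  rw [bc_paste]
  let obj : Bool → Scheme.{u} := fun b => bif b then T' else T
  let map : ∀ b, obj b ⟶ T := fun b => match b with
    | true => u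
    | false => 𝟙 T
  have hR : Presieve.ofArrows obj map ∈ Scheme.precoverage Q T := by
    rw [Scheme.ofArrows_mem_precoverage_iff]
    refine ⟨fun x => ⟨false, x, rfl⟩, fun b => ?_⟩
    cases b
    · exact Q.id_mem T
    · exact hu
  exact IsLocalAtTarget.pullbackSnd (K := Scheme.precoverage Q) hR (Presieve.ofArrows.mk true) hh

include Q in
theorem bc_h2 (P : MorphismProperty Scheme.{u}) [hP : P.IsLocalAtTarget (Scheme.precoverage Q)]
    {X Y : Scheme.{u}} (f : X ⟶ Y) {T T' : Scheme.{u}} (h : T ⟶ Y) (u : T' ⟶ T)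
    (hu : Q u) (hsurj : Function.Surjective u.base) (hh : BC P f (u ≫ h)) : BC P f h := by
  have : P.RespectsIso := IsLocalAtTarget.toRespects (Scheme.precoverage Q)
  rw [bc_paste] at hh
  have hR : Presieve.singleton u ∈ Scheme.precoverage Q T := by
    rw [Scheme.singleton_mem_precoverage_iff]
    exact ⟨hsurj, hu⟩
  apply IsLocalAtTarget.of_forall_pullbackSnd (K := Scheme.precoverage Q) hR
  intro U g _ hg
  cases hg
  exact hh

include Q in
theorem bc_h3 (P : MorphismProperty Scheme.{u}) [hP : P.IsLocalAtTarget (Scheme.precoverage Q)]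
    (hQimm : ∀ {A B : Scheme.{u}} (j : A ⟶ B) [IsOpenImmersion j], Q j)
    {X Y : Scheme.{u}} (f : X ⟶ Y) {X₁ : Scheme.{u}} (φ : X₁ ⟶ Y) (S : Set X₁.Opens)
    (h : ∀ W ∈ S, BC P f (W.ι ≫ φ)) : BC P f ((⨆ W : S, (W : X₁.Opens)).ι ≫ φ) := by
  have : P.RespectsIso := IsLocalAtTarget.toRespects (Scheme.precoverage Q)
  have hR : Presieve.ofArrows (fun W : S => ((W : X₁.Opens) : Scheme.{u}))
      (fun W => X₁.homOfLE (le_iSup (fun W : S => (W : X₁.Opens)) W)) ∈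
        Scheme.precoverage Q (⨆ W : S, (W : X₁.Opens) : X₁.Opens) := by
    rw [Scheme.ofArrows_mem_precoverage_iff]
    refine ⟨fun x => ?_, fun i => hQimm _⟩
    obtain ⟨i, hi⟩ := Opens.mem_iSup.mp x.2
    exact ⟨i, ⟨x.1, hi⟩, X₁.homOfLE_apply' _ _ _⟩
  apply IsLocalAtTarget.of_forall_pullbackSnd (K := Scheme.precoverage Q) hR
  intro U g _ hg
  obtain ⟨W⟩ := hg
  rw [← bc_paste P f, Scheme.homOfLE_ι_assoc]
  exact h W W.2

theorem bc_restrict (P : MorphismProperty Scheme.{u}) [P.RespectsIso]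
    {X Y : Scheme.{u}} (f : X ⟶ Y) (U : Y.Opens) : BC P f U.ι ↔ P (f ∣_ U) :=
  bc_iff P f U.ι _ _ (isPullback_morphismRestrict f U).flip

theorem bc_restrict_snd (P : MorphismProperty Scheme.{u}) [P.RespectsIso]
    {X Y Y' : Scheme.{u}} (f : X ⟶ Y) (g : Y' ⟶ Y) (W' : Y'.Opens) :
    BC P f (W'.ι ≫ g) ↔ P (pullback.snd f g ∣_ W') :=
  bc_iff P f (W'.ι ≫ g) _ _
    ((isPullback_morphismRestrict (pullback.snd f g) W').flip.paste_horiz
      (IsPullback.of_hasPullback f g))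

include Q in
theorem target_main (P : MorphismProperty Scheme.{u}) [hP : P.IsLocalAtTarget (Scheme.precoverage Q)]
    (hQimm : ∀ {A B : Scheme.{u}} (j : A ⟶ B) [IsOpenImmersion j], Q j)
    (hQopen : ∀ {A B : Scheme.{u}} (j : A ⟶ B), Q j → IsOpenMap j)
    {X Y : Scheme.{u}} (f : X ⟶ Y) :
    ∃ W : Y.Opens, P (f ∣_ W) ∧ (∀ W₀ : Y.Opens, P (f ∣_ W₀) → W₀ ≤ W) ∧
      (∀ (Y' : Scheme.{u}) (g : Y' ⟶ Y), Q g →
        P (pullback.snd f g) → Set.range g.base ⊆ (W : Set Y)) ∧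
      (∀ (Y' : Scheme.{u}) (g : Y' ⟶ Y), Q g →
        ∀ W' : Y'.Opens, P (pullback.snd f g ∣_ W') →
          (∀ W₀ : Y'.Opens, P (pullback.snd f g ∣_ W₀) → W₀ ≤ W') → W' = g ⁻¹ᵁ W) := by
  have hresp : P.RespectsIso := IsLocalAtTarget.toRespects (Scheme.precoverage Q)
  obtain ⟨W, ⟨hW, hmax⟩, hfun⟩ := generic Q (BC P f) hQimm hQopen
    (fun h u hu hh => bc_h1 Q P f h u hu hh)
    (fun h u hu hs hh => bc_h2 Q P f h u hu hs hh)
    (fun φ S h => bc_h3 Q P hQimm f φ S h) (𝟙 Y)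
  simp only [Category.comp_id] at hW hmax hfun
  refine ⟨W, (bc_restrict P f W).mp hW, fun W₀ h => hmax W₀ ((bc_restrict P f W₀).mpr h), ?_, ?_⟩
  · intro Y' g hg hPg
    have htop : (⊤ : Y'.Opens) = g ⁻¹ᵁ W := by
      apply hfun Y' g hg ⊤
      refine ⟨bc_h1 Q P f g _ (hQimm _) hPg, fun _ _ => le_top⟩
    rintro _ ⟨y', rfl⟩
    have : y' ∈ (⊤ : Y'.Opens) := trivial
    rw [htop] at this
    exact this
  · intro Y' g hg W' hW' hW'max
    apply hfun Y' g hg W'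
    exact ⟨(bc_restrict_snd P f g W').mpr hW',
      fun V' hV' => hW'max V' ((bc_restrict_snd P f g V').mp hV')⟩

set_option backward.isDefEq.respectTransparency.types false in
theorem fppf (P : MorphismProperty Scheme.{u})
    [MorphismProperty.IsLocalAtTarget P Scheme.fppfPrecoverage] {X Y : Scheme.{u}} (f : X ⟶ Y) :
    ∃ W : Y.Opens, P (f ∣_ W) ∧ (∀ W₀ : Y.Opens, P (f ∣_ W₀) → W₀ ≤ W) ∧
      (∀ (Y' : Scheme.{u}) (g : Y' ⟶ Y), Flat g → LocallyOfFinitePresentation g →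
        P (pullback.snd f g) → Set.range g.base ⊆ (W : Set Y)) ∧
      (∀ (Y' : Scheme.{u}) (g : Y' ⟶ Y), Flat g → LocallyOfFinitePresentation g →
        ∀ W' : Y'.Opens, P (pullback.snd f g ∣_ W') → (∀ W₀ : Y'.Opens, P (pullback.snd f g ∣_ W₀) → W₀ ≤ W') →
          W' = g ⁻¹ᵁ W) := by
  have hinst : P.IsLocalAtTarget (Scheme.precoverage (@Flat ⊓ @LocallyOfFinitePresentation)) :=
    ‹P.IsLocalAtTarget Scheme.fppfPrecoverage›
  have hmul : (@Flat ⊓ @LocallyOfFinitePresentation : MorphismProperty Scheme.{u}).IsMultiplicative :=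
    { id_mem := fun X => ⟨inferInstance, inferInstance⟩
      comp_mem := fun f g hf hg => by
        have := hf.1
        have := hf.2
        have := hg.1
        have := hg.2
        exact ⟨inferInstance, inferInstance⟩ }
  obtain ⟨W, h1, h2, h3, h4⟩ := target_main (@Flat ⊓ @LocallyOfFinitePresentation) P
    (fun j _ => ⟨inferInstance, inferInstance⟩)
    (fun j hj => by
      have := hj.1
      have := hj.2
      exact j.isOpenMap) f
  exact ⟨W, h1, h2, fun Y' g hg1 hg2 => h3 Y' g ⟨hg1, hg2⟩, fun Y' g hg1 hg2 => h4 Y' g ⟨hg1, hg2⟩⟩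

end Groth.Agent.Lib.Helper4.LargestOpenTarget
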