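import Mathlib.AlgebraicGeometry.Morphisms.Smooth
import Mathlib.Tactic
import Groth.Prelude.Def_Grpd
import Groth.Agent.Lib.Helper4.LargestOpenTarget

set_option autoImplicit false
universe u
open CategoryTheory AlgebraicGeometry TopologicalSpace Limits MorphismProperty

namespace Groth.Agent.Lib.Helper4.GrpdInvariant

open Grpd

variable {S : Scheme.{u}} (G : GroupoidScheme S)

theorem lift_congr {T : Scheme.{u}} {a a' b b' : T ⟶ G.R} (ha : a = a') (hb : b = b')
    (h : a ≫ G.s = b ≫ G.t) :
    pullback.lift a b h = pullback.lift a' b' (by rw [← ha, ← hb]; exact h) := by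
  subst ha; subst hb; rfl

theorem c_s : G.c ≫ G.s = pullback.snd G.s G.t ≫ G.s := by
  have := G.comp_s (pullback.fst G.s G.t) (pullback.snd G.s G.t) pullback.condition
  have hid : pullback.lift (pullback.fst G.s G.t) (pullback.snd G.s G.t) pullback.condition = 𝟙 _ := by
    apply pullback.hom_ext <;> simp
  rw [hid, Category.id_comp] at this
  exact this

/-- `(α, β) ↦ (α ∘ β, β)` exhibits `R ×_{s,t} R` as the pullback of `s` along `s`. -/
theorem isPullback_c : IsPullback G.c (pullback.snd G.s G.t) G.s G.s := by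
  refine ⟨⟨c_s G⟩, ⟨PullbackCone.IsLimit.mk _
    (fun k => pullback.lift
      (pullback.lift k.fst (k.snd ≫ G.i) (by rw [Category.assoc, G.i_t]; exact k.condition) ≫ G.c)
      k.snd (by rw [G.comp_s, Category.assoc, G.i_s])) ?_ ?_ ?_⟩⟩
  · intro k
    -- (γ β⁻¹) β = γ
    have h1 := G.assoc k.fst (k.snd ≫ G.i) k.snd
      (by rw [Category.assoc, G.i_t]; exact k.condition) (by rw [Category.assoc, G.i_s])
    rw [h1]
    have h2 := G.i_comp k.snd
    rw [lift_congr G rfl h2]
    have h3 : k.snd ≫ G.s ≫ G.e = k.fst ≫ G.s ≫ G.e := by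
      rw [← Category.assoc, ← k.condition, Category.assoc]
    rw [lift_congr G rfl h3]
    exact G.comp_e k.fst
  · intro k
    exact pullback.lift_snd _ _ _
  · intro k m hm1 hm2
    apply pullback.hom_ext
    · rw [pullback.lift_fst]
      -- α = (α β) β⁻¹
      have hm : m = pullback.lift (m ≫ pullback.fst G.s G.t) (m ≫ pullback.snd G.s G.t)
          (by rw [Category.assoc, Category.assoc, pullback.condition]) := by
        apply pullback.hom_ext
        · rw [pullback.lift_fst]
        · rw [pullback.lift_snd]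
      have hγ : k.fst = pullback.lift (m ≫ pullback.fst G.s G.t) (m ≫ pullback.snd G.s G.t)
          (by rw [Category.assoc, Category.assoc, pullback.condition]) ≫ G.c := by
        rw [← hm, hm1]
      rw [lift_congr G hγ (by rw [← hm2] : k.snd ≫ G.i = (m ≫ pullback.snd G.s G.t) ≫ G.i)]
      have h1 := G.assoc (m ≫ pullback.fst G.s G.t) (m ≫ pullback.snd G.s G.t)
        ((m ≫ pullback.snd G.s G.t) ≫ G.i)
        (by rw [Category.assoc, Category.assoc, pullback.condition])
        (by simp only [Category.assoc]; rw [G.i_t])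
      rw [h1]
      have h2 := G.comp_i (m ≫ pullback.snd G.s G.t)
      rw [lift_congr G rfl h2]
      have h3 : (m ≫ pullback.snd G.s G.t) ≫ G.t ≫ G.e = (m ≫ pullback.fst G.s G.t) ≫ G.s ≫ G.e := by
        simp only [Category.assoc]
        rw [← pullback.condition_assoc]
      rw [lift_congr G rfl h3]
      exact (G.comp_e _).symm
    · rw [pullback.lift_snd]
      exact hm2

open Groth.Agent.Lib.Helper4.LargestOpenTarget in
theorem invariant (Q : MorphismProperty Scheme.{u}) [Q.IsMultiplicative] [Q.IsStableUnderBaseChange]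
    (hQimm : ∀ {A B : Scheme.{u}} (j : A ⟶ B) [IsOpenImmersion j], Q j)
    (hQopen : ∀ {A B : Scheme.{u}} (j : A ⟶ B), Q j → IsOpenMap j)
    (P : MorphismProperty Scheme.{u}) [hP : P.IsLocalAtTarget (Scheme.precoverage Q)]
    (hs : Q G.s) (ht : Q G.t) (W : G.U.Opens) (hW : P (G.s ∣_ W))
    (hmax : ∀ W' : G.U.Opens, P (G.s ∣_ W') → W' ≤ W) : G.s ⁻¹ᵁ W = G.t ⁻¹ᵁ W := by
  have hresp : P.RespectsIso := IsLocalAtTarget.toRespects (Scheme.precoverage Q)
  obtain ⟨W₀, hW₀, hW₀max, -, h4⟩ := target_main Q P hQimm hQopen G.s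
  obtain rfl : W₀ = W := le_antisymm (hmax W₀ hW₀) (hW₀max W hW)
  obtain ⟨W₁, hW₁, hW₁max, -, -⟩ := target_main Q P hQimm hQopen (pullback.snd G.s G.t)
  have e1 : W₁ = G.t ⁻¹ᵁ W₀ := h4 G.R G.t ht W₁ hW₁ hW₁max
  -- the same open is largest for the base change along s
  have hiff : ∀ O : G.R.Opens, P (pullback.snd G.s G.t ∣_ O) ↔ P (pullback.snd G.s G.s ∣_ O) := by
    intro O
    rw [← bc_restrict_snd P G.s G.s O]
    exact (bc_iff P G.s (O.ι ≫ G.s) _ _
      ((isPullback_morphismRestrict (pullback.snd G.s G.t) O).flip.paste_horiz (isPullback_c G))).symm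
  have e2 : W₁ = G.s ⁻¹ᵁ W₀ :=
    h4 G.R G.s hs W₁ ((hiff W₁).mp hW₁) (fun O hO => hW₁max O ((hiff O).mpr hO))
  rw [← e1, ← e2]

set_option backward.isDefEq.respectTransparency.types false in
theorem main (S : Scheme.{u}) (G : Grpd.GroupoidScheme S) (K : Precoverage Scheme.{u})
    (hK : K = Scheme.zariskiPrecoverage ∨ K = Scheme.etalePrecoverage ∨
      K = Scheme.precoverage @Smooth ∨ K = Scheme.fppfPrecoverage)
    (P : MorphismProperty Scheme.{u}) [P.IsLocalAtTarget K]
    (hs : Presieve.singleton G.s ∈ K G.U) (ht : Presieve.singleton G.t ∈ K G.U)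
    (W : G.U.Opens) (hW : P (G.s ∣_ W)) (hmax : ∀ W' : G.U.Opens, P (G.s ∣_ W') → W' ≤ W) :
    G.s ⁻¹ᵁ W = G.t ⁻¹ᵁ W := by
  rcases hK with rfl | rfl | rfl | rfl
  · rw [Scheme.singleton_mem_precoverage_iff] at hs ht
    exact invariant G @IsOpenImmersion (fun j _ => inferInstance)
      (fun j hj => by
        have : IsOpenImmersion j := hj
        exact j.isOpenEmbedding.isOpenMap) P hs.2 ht.2 W hW hmax
  · have hinst : P.IsLocalAtTarget (Scheme.precoverage @Etale) :=
      ‹P.IsLocalAtTarget Scheme.etalePrecoverage›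
    have hs' : Presieve.singleton G.s ∈ Scheme.precoverage @Etale G.U := hs
    have ht' : Presieve.singleton G.t ∈ Scheme.precoverage @Etale G.U := ht
    rw [Scheme.singleton_mem_precoverage_iff] at hs' ht'
    exact invariant G @Etale (fun j _ => inferInstance)
      (fun j hj => by
        have : Etale j := hj
        exact j.isOpenMap) P hs'.2 ht'.2 W hW hmax
  · rw [Scheme.singleton_mem_precoverage_iff] at hs ht
    have hmul : MorphismProperty.IsMultiplicative (@Smooth : MorphismProperty Scheme.{u}) :=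
      { id_mem := fun X => inferInstance
        comp_mem := fun f g hf hg => MorphismProperty.comp_mem _ f g hf hg }
    exact invariant G @Smooth (fun j _ => inferInstance)
      (fun j hj => by
        have : Smooth j := hj
        exact j.isOpenMap) P hs.2 ht.2 W hW hmax
  · have hinst : P.IsLocalAtTarget (Scheme.precoverage (@Flat ⊓ @LocallyOfFinitePresentation)) :=
      ‹P.IsLocalAtTarget Scheme.fppfPrecoverage›
    have hs' : Presieve.singleton G.s ∈ Scheme.precoverage (@Flat ⊓ @LocallyOfFinitePresentation) G.U := hs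
    have ht' : Presieve.singleton G.t ∈ Scheme.precoverage (@Flat ⊓ @LocallyOfFinitePresentation) G.U := ht
    rw [Scheme.singleton_mem_precoverage_iff] at hs' ht'
    have hmul : (@Flat ⊓ @LocallyOfFinitePresentation : MorphismProperty Scheme.{u}).IsMultiplicative :=
      { id_mem := fun X => ⟨inferInstance, inferInstance⟩
        comp_mem := fun f g hf hg => by
          have := hf.1
          have := hf.2
          have := hg.1
          have := hg.2
          exact ⟨inferInstance, inferInstance⟩ }
    exact invariant G (@Flat ⊓ @LocallyOfFinitePresentation)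
      (fun j _ => ⟨inferInstance, inferInstance⟩)
      (fun j hj => by
        have := hj.1
        have := hj.2
        exact j.isOpenMap) P hs'.2 ht'.2 W hW hmax

end Groth.Agent.Lib.Helper4.GrpdInvariant
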