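import Mathlib.Tactic
import Mathlib.RingTheory.Norm.Basic
import Mathlib.LinearAlgebra.Charpoly.BaseChange
import Mathlib.AlgebraicGeometry.Morphisms.Affine
import Groth.Prelude.Def_Grpd
import Groth.Agent.Lib.Helper4.GrpdInvariant

set_option linter.style.haveILetI false

namespace Groth.Agent.Lib.Helper4.NormBC

open TensorProduct CategoryTheory Limits AlgebraicGeometry

universe u

/-- Norm commutes with base change along a pushout square of algebras. -/
theorem norm_isPushout {R S R' S' : Type*} [CommRing R] [CommRing S] [CommRing R'] [CommRing S']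
    [Algebra R S] [Algebra R R'] [Algebra S S'] [Algebra R' S'] [Algebra R S']
    [IsScalarTower R S S'] [IsScalarTower R R' S'] [Algebra.IsPushout R S R' S']
    [Module.Free R R'] [Module.Finite R R'] (b : R') :
    Algebra.norm S (algebraMap R' S' b) = algebraMap R S (Algebra.norm R b) := by
  have h1 : algebraMap R' S' b = (Algebra.IsPushout.equiv R S R' S') (1 ⊗ₜ b) := by
    rw [Algebra.IsPushout.equiv_tmul]; simp
  rw [h1, Algebra.norm_eq_of_algEquiv, Algebra.norm_apply, ← Algebra.baseChange_lmul,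
    LinearMap.det_baseChange, Algebra.norm_apply]

/-- Categorical formulation. -/
theorem norm_of_isPushout {A B A' P : CommRingCat.{u}} (σ : A ⟶ B) (φ : A ⟶ A') (ψ : B ⟶ P)
    (ρ : A' ⟶ P) (h : IsPushout σ φ ψ ρ)
    (hfree : letI := σ.hom.toAlgebra; Module.Free A B)
    (hfin : letI := σ.hom.toAlgebra; Module.Finite A B) (b : B) :
    (letI := ρ.hom.toAlgebra; Algebra.norm A' (ψ.hom b)) =
      φ.hom (letI := σ.hom.toAlgebra; Algebra.norm A b) := by
  letI := σ.hom.toAlgebra; letI := φ.hom.toAlgebra; letI := ρ.hom.toAlgebra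
  letI := ψ.hom.toAlgebra
  letI := (ρ.hom.comp φ.hom).toAlgebra
  haveI : IsScalarTower A A' P := IsScalarTower.of_algebraMap_eq' rfl
  haveI : IsScalarTower A B P :=
    IsScalarTower.of_algebraMap_eq fun x ↦ (congr($(h.w).hom x)).symm
  haveI : Algebra.IsPushout A B A' P := CommRingCat.isPushout_iff_isPushout.mp h
  haveI : Algebra.IsPushout A A' B P := Algebra.IsPushout.symm ‹_›
  exact norm_isPushout (R := A) (S := A') (R' := B) (S' := P) b

variable {S : Scheme.{u}} (G : Grpd.GroupoidScheme S)

theorem c_t : G.c ≫ G.t = pullback.fst G.s G.t ≫ G.t := by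
  have := G.comp_t (pullback.fst G.s G.t) (pullback.snd G.s G.t) pullback.condition
  have h : pullback.lift (pullback.fst G.s G.t) (pullback.snd G.s G.t) pullback.condition =
      𝟙 _ := by
    apply pullback.hom_ext <;> simp
  rwa [h, Category.id_comp] at this

theorem main (S : Scheme.{u}) (G : Grpd.GroupoidScheme S) [IsAffine G.U] [IsAffine G.R]
    (f : Γ(G.U, ⊤)) : G.normST f ∈ G.invariants := by
  classical
  letI alg := G.s.appTop.hom.toAlgebra
  by_cases hb : ∃ s : Finset Γ(G.R, ⊤), Nonempty (Module.Basis s Γ(G.U, ⊤) Γ(G.R, ⊤))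
  · obtain ⟨s, ⟨bs⟩⟩ := hb
    haveI hfree : Module.Free Γ(G.U, ⊤) Γ(G.R, ⊤) := Module.Free.of_basis bs
    haveI hfin : Module.Finite Γ(G.U, ⊤) Γ(G.R, ⊤) := Module.Finite.of_basis bs
    have sq1 := isPushout_appTop_of_isPullback (IsPullback.of_hasPullback G.s G.t)
    have sq2 := isPushout_appTop_of_isPullback (GrpdInvariant.isPullback_c G)
    have e1 := norm_of_isPushout _ _ _ _ sq1 hfree hfin (G.t.appTop.hom f)
    have e2 := norm_of_isPushout _ _ _ _ sq2 hfree hfin (G.t.appTop.hom f)
    have e3 : (pullback.fst G.s G.t).appTop.hom (G.t.appTop.hom f) =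
        G.c.appTop.hom (G.t.appTop.hom f) := by
      have := congr($(congrArg Scheme.Hom.appTop (c_t G)).hom f)
      rw [Scheme.Hom.comp_appTop, Scheme.Hom.comp_appTop] at this
      exact this.symm
    show G.s.appTop.hom (G.normST f) = G.t.appTop.hom (G.normST f)
    unfold Grpd.GroupoidScheme.normST
    rw [← e1, ← e2, e3]
  · show G.s.appTop.hom (G.normST f) = G.t.appTop.hom (G.normST f)
    unfold Grpd.GroupoidScheme.normST
    rw [Algebra.norm_eq_one_of_not_exists_basis _ hb, map_one, map_one]

end Groth.Agent.Lib.Helper4.NormBC
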