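import Mathlib.Tactic
import Mathlib.LinearAlgebra.TensorProduct.Basis
import Mathlib.RingTheory.TensorProduct.Free
import Groth.Prelude.Def_Grpd
import Groth.Agent.Lib.Helper4.NormBC

set_option linter.style.haveILetI false

namespace Groth.Agent.Lib.Helper4.InvBasis

open TensorProduct CategoryTheory Limits AlgebraicGeometry

universe u

theorem li_isPushout {R S R' S' : Type*} [CommRing R] [CommRing S] [CommRing R'] [CommRing S']
    [Algebra R S] [Algebra R R'] [Algebra S S'] [Algebra R' S'] [Algebra R S']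
    [IsScalarTower R S S'] [IsScalarTower R R' S'] [Algebra.IsPushout R S R' S']
    {I : Type*} (b : Module.Basis I R R') :
    LinearIndependent S (fun i => algebraMap R' S' (b i)) := by
  classical
  let e := (Algebra.IsPushout.equiv R S R' S').toLinearEquiv
  have h := ((b.baseChange S).map e).linearIndependent
  convert h using 2 with i
  simp [e, Algebra.IsPushout.equiv_tmul]

/-- Categorical formulation, unbundled conclusion. -/
theorem li_of_isPushout {A B A' P : CommRingCat.{u}} (σ : A ⟶ B) (φ : A ⟶ A') (ψ : B ⟶ P)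
    (ρ : A' ⟶ P) (h : IsPushout σ φ ψ ρ) {I : Type*}
    (b : letI := σ.hom.toAlgebra; Module.Basis I A B) (c : I →₀ A')
    (hc : (c.sum fun i a => ρ.hom a * ψ.hom (b i)) = 0) : c = 0 := by
  letI := σ.hom.toAlgebra; letI := φ.hom.toAlgebra; letI := ρ.hom.toAlgebra
  letI := ψ.hom.toAlgebra
  letI := (ρ.hom.comp φ.hom).toAlgebra
  haveI : IsScalarTower A A' P := IsScalarTower.of_algebraMap_eq' rfl
  haveI : IsScalarTower A B P :=
    IsScalarTower.of_algebraMap_eq fun x ↦ (congr($(h.w).hom x)).symm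
  haveI : Algebra.IsPushout A B A' P := CommRingCat.isPushout_iff_isPushout.mp h
  haveI : Algebra.IsPushout A A' B P := Algebra.IsPushout.symm ‹_›
  have hli := li_isPushout (R := A) (S := A') (R' := B) (S' := P) b
  rw [linearIndependent_iff] at hli
  apply hli c
  rw [Finsupp.linearCombination_apply]
  simp only [Algebra.smul_def]
  exact hc

section alg
variable {A B P : Type u} [CommRing A] [CommRing B] [CommRing P]
  (σ τ : A →+* B) (ε : B →+* A) (p0 p1 γ : B →+* P)
  (hετ : ∀ a, ε (τ a) = a) (hεσ : ∀ a, ε (σ a) = a)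
  (H1 : ∀ a, p0 (σ a) = p1 (τ a)) (H2 : ∀ a, γ (σ a) = p1 (σ a)) (H3 : ∀ a, γ (τ a) = p0 (τ a))
  {I : Type u} (x : I → A)
  (b : letI := σ.toAlgebra; Module.Basis I A B) (hb : ∀ i, b i = τ (x i))
  (hLI : ∀ c : I →₀ B, (c.sum fun i a => p1 a * γ (b i)) = 0 → c = 0)

include H1 H2 H3 hb hLI in
theorem repr_mem (a : A) (i : I) :
    σ ((letI := σ.toAlgebra; b.repr (τ a)) i) = τ ((letI := σ.toAlgebra; b.repr (τ a)) i) := by
  letI := σ.toAlgebra
  obtain ⟨r, hr⟩ : ∃ r : I →₀ A, r = b.repr (τ a) := ⟨_, rfl⟩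
  rw [← hr]
  have hsum : τ a = r.sum fun i a => σ a * b i := by
    have := b.linearCombination_repr (τ a)
    rw [← hr, Finsupp.linearCombination_apply] at this
    rw [← this]
    simp only [Algebra.smul_def]
    rfl
  let c : I →₀ B := r.mapRange (fun a => σ a - τ a) (by simp)
  have hc : (c.sum fun i a => p1 a * γ (b i)) = 0 := by
    rw [Finsupp.sum_mapRange_index (by simp)]
    have e1 : (r.sum fun i a => p1 (σ a) * γ (b i)) = γ (τ a) := by
      rw [hsum, map_finsuppSum]
      simp only [map_mul, H2]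
    have e2 : (r.sum fun i a => p1 (τ a) * γ (b i)) = p0 (τ a) := by
      conv_rhs => rw [hsum, map_finsuppSum]
      simp only [map_mul, H1, hb, H3]
    have : (r.sum fun i a => p1 (σ a - τ a) * γ (b i)) =
        (r.sum fun i a => p1 (σ a) * γ (b i)) - (r.sum fun i a => p1 (τ a) * γ (b i)) := by
      simp only [Finsupp.sum, ← Finset.sum_sub_distrib, map_sub, sub_mul]
    rw [this, e1, e2, H3, sub_self]
  have h0 := hLI c hc
  have := DFunLike.congr_fun h0 i
  simp only [c, Finsupp.mapRange_apply, Finsupp.coe_zero, Pi.zero_apply] at this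
  exact sub_eq_zero.mp this

include H1 H2 H3 hb hLI hετ in
theorem exists_basis :
    ∃ b' : Module.Basis I (RingHom.eqLocus σ τ) A, ∀ i, b' i = x i := by
  letI := σ.toAlgebra
  have hli : LinearIndependent (RingHom.eqLocus σ τ) x := by
    rw [linearIndependent_iff]
    intro l hl
    rw [Finsupp.linearCombination_apply] at hl
    have h2 : Finsupp.linearCombination A b (l.mapRange (fun c : RingHom.eqLocus σ τ => (c : A)) rfl) = 0 := by
      rw [Finsupp.linearCombination_apply, Finsupp.sum_mapRange_index (by simp)]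
      have := congrArg τ hl
      rw [map_finsuppSum, map_zero] at this
      rw [← this]
      apply Finsupp.sum_congr
      intro i _
      rw [Algebra.smul_def, hb]
      show σ (l i : A) * τ (x i) = τ ((l i) • x i)
      rw [(l i).2]
      show _ = τ ((l i : A) * x i)
      rw [map_mul]
    have h3 := (linearIndependent_iff.mp b.linearIndependent) _ h2
    ext i
    have := DFunLike.congr_fun h3 i
    simpa using this
  have hsp : ⊤ ≤ Submodule.span (RingHom.eqLocus σ τ) (Set.range x) := by
    intro a _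
    obtain ⟨r, hr⟩ : ∃ r : I →₀ A, r = b.repr (τ a) := ⟨_, rfl⟩
    have hmem : ∀ i, σ (r i) = τ (r i) := fun i => by
      rw [hr]; exact repr_mem σ τ p0 p1 γ H1 H2 H3 x b hb hLI a i
    have hsum : τ a = r.sum fun i a => σ a * b i := by
      have := b.linearCombination_repr (τ a)
      rw [← hr, Finsupp.linearCombination_apply] at this
      rw [← this]
      simp only [Algebra.smul_def]
      rfl
    have ha : a = r.sum fun i c => c * x i := by
      have := congrArg ε hsum
      rw [hετ, map_finsuppSum] at this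
      rw [this]
      apply Finsupp.sum_congr
      intro i _
      rw [map_mul, hb, hετ, hmem, hετ]
    rw [ha]
    apply Submodule.sum_mem
    intro i _
    have : r i * x i = (⟨r i, hmem i⟩ : RingHom.eqLocus σ τ) • x i := rfl
    show r i * x i ∈ _
    rw [this]
    exact Submodule.smul_mem _ _ (Submodule.subset_span ⟨i, rfl⟩)
  exact ⟨Module.Basis.mk hli hsp, fun i => by simp⟩

include hb in
theorem bijective_phi (b' : Module.Basis I (RingHom.eqLocus σ τ) A) (hb' : ∀ i, b' i = x i) :
    letI := (σ.comp (RingHom.eqLocus σ τ).subtype).toAlgebra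
    ∀ φ : TensorProduct (RingHom.eqLocus σ τ) A A →ₗ[RingHom.eqLocus σ τ] B,
      (∀ a a' : A, φ (a ⊗ₜ[RingHom.eqLocus σ τ] a') = τ a * σ a') → Function.Bijective φ := by
  intro φ hφ
  classical
  letI := σ.toAlgebra
  let e := TensorProduct.equivFinsuppOfBasisLeft (N := A) b'
  have key : ∀ n : I →₀ A, φ (e.symm n) = b.repr.symm n := by
    intro n
    induction n using Finsupp.induction_linear with
    | zero => simp
    | add f g hf hg => rw [map_add, map_add, hf, hg, map_add]
    | single i a' =>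
      rw [TensorProduct.equivFinsuppOfBasisLeft_symm_apply, Finsupp.sum_single_index (by simp),
        hφ, hb', Module.Basis.repr_symm_single, Algebra.smul_def, hb, mul_comm]
      rfl
  have : (φ : _ → B) = (b.repr.symm : _ → B) ∘ e := by
    funext z
    obtain ⟨n, rfl⟩ := e.symm.surjective z
    simp [key]
  rw [this]
  exact b.repr.symm.bijective.comp e.bijective

end alg

theorem app_eq {X Y Z Z' : Scheme.{u}} {f : X ⟶ Z} {g : Z ⟶ Y} {f' : X ⟶ Z'} {g' : Z' ⟶ Y}
    (h : f ≫ g = f' ≫ g') (a : Γ(Y, ⊤)) :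
    f.appTop.hom (g.appTop.hom a) = f'.appTop.hom (g'.appTop.hom a) := by
  have := congr($(congrArg Scheme.Hom.appTop h).hom a)
  rw [Scheme.Hom.comp_appTop, Scheme.Hom.comp_appTop] at this
  exact this

theorem app_eq_id {X Y : Scheme.{u}} {f : X ⟶ Y} {g : Y ⟶ X}
    (h : f ≫ g = 𝟙 X) (a : Γ(X, ⊤)) :
    f.appTop.hom (g.appTop.hom a) = a := by
  have := congr($(congrArg Scheme.Hom.appTop h).hom a)
  rw [Scheme.Hom.comp_appTop, Scheme.Hom.id_appTop] at this
  exact this

theorem main (S : Scheme.{u}) (G : Grpd.GroupoidScheme S) [IsAffine G.U] [IsAffine G.R]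
    (I : Type u) (x : I → Γ(G.U, ⊤))
    (hB : letI := G.s.appTop.hom.toAlgebra
      ∃ b : Module.Basis I Γ(G.U, ⊤) Γ(G.R, ⊤), ∀ i, b i = G.t.appTop.hom (x i)) :
    (∃ b : Module.Basis I G.invariants Γ(G.U, ⊤), ∀ i, b i = x i) ∧
    (letI := (G.s.appTop.hom.comp G.invariants.subtype).toAlgebra
      ∀ φ : TensorProduct G.invariants Γ(G.U, ⊤) Γ(G.U, ⊤) →ₗ[G.invariants] Γ(G.R, ⊤),
        (∀ a a' : Γ(G.U, ⊤), φ (a ⊗ₜ[G.invariants] a') = G.t.appTop.hom a * G.s.appTop.hom a') →
        Function.Bijective φ) := by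
  obtain ⟨b, hb⟩ := hB
  have sq2 := isPushout_appTop_of_isPullback (GrpdInvariant.isPullback_c G)
  have hLI : ∀ c : I →₀ Γ(G.R, ⊤),
      (c.sum fun i a => (pullback.snd G.s G.t).appTop.hom a * G.c.appTop.hom (b i)) = 0 → c = 0 :=
    fun c hc => li_of_isPushout _ _ _ _ sq2 b c hc
  have H1 : ∀ a, (pullback.fst G.s G.t).appTop.hom (G.s.appTop.hom a) =
      (pullback.snd G.s G.t).appTop.hom (G.t.appTop.hom a) := app_eq pullback.condition
  have H2 : ∀ a, G.c.appTop.hom (G.s.appTop.hom a) =
      (pullback.snd G.s G.t).appTop.hom (G.s.appTop.hom a) := app_eq (GrpdInvariant.c_s G)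
  have H3 : ∀ a, G.c.appTop.hom (G.t.appTop.hom a) =
      (pullback.fst G.s G.t).appTop.hom (G.t.appTop.hom a) := app_eq (NormBC.c_t G)
  have hετ : ∀ a, G.e.appTop.hom (G.t.appTop.hom a) = a := app_eq_id G.e_t
  obtain ⟨b', hb'⟩ := exists_basis G.s.appTop.hom G.t.appTop.hom G.e.appTop.hom
    (pullback.fst G.s G.t).appTop.hom (pullback.snd G.s G.t).appTop.hom G.c.appTop.hom
    hετ H1 H2 H3 x b hb hLI
  exact ⟨⟨b', hb'⟩, bijective_phi G.s.appTop.hom G.t.appTop.hom x b hb b' hb'⟩

end Groth.Agent.Lib.Helper4.InvBasis
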