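import Mathlib.Tactic
import Mathlib.AlgebraicGeometry.GammaSpecAdjunction
import Groth.Prelude.Def_AlgGrp
import Groth.Agent.Lib.Helper4.FpqcDesc
import Groth.Agent.Lib.Helper4.InvBasis

namespace Groth.Agent.Lib.Helper4.GammaDesc

open CategoryTheory Limits AlgebraicGeometry Opposite

universe u

/-- the polynomial ring `ℤ[t]` in universe `u` -/
noncomputable abbrev ZT : CommRingCat.{u} := CommRingCat.of (Polynomial (ULift.{u} ℤ))

noncomputable def polyHom {A : Type u} [CommRing A] (a : A) : Polynomial (ULift.{u} ℤ) →+* A :=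
  Polynomial.eval₂RingHom ((Int.castRingHom A).comp ULift.ringEquiv.toRingHom) a

theorem polyHom_X {A : Type u} [CommRing A] (a : A) : polyHom a Polynomial.X = a := by
  simp [polyHom]

theorem ulift_hom_apply {A : Type u} [CommRing A] (θ : ULift.{u} ℤ →+* A) (z : ULift.{u} ℤ) :
    θ z = ((z.down : ℤ) : A) := by
  have := eq_intCast (θ.comp (ULift.ringEquiv.symm : ℤ ≃+* ULift.{u} ℤ).toRingHom) z.down
  rw [← this]
  rfl

theorem ringHom_eq_polyHom {A : Type u} [CommRing A] (ψ : Polynomial (ULift.{u} ℤ) →+* A) :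
    ψ = polyHom (ψ Polynomial.X) := by
  apply Polynomial.ringHom_ext
  · intro c
    have h1 := ulift_hom_apply (ψ.comp Polynomial.C) c
    have h2 := ulift_hom_apply ((polyHom (ψ Polynomial.X)).comp Polynomial.C) c
    simp only [RingHom.comp_apply] at h1 h2
    rw [h1, h2]
  · rw [polyHom_X]

/-- the morphism to the affine line attached to a global function -/
noncomputable def toA1 {X : Scheme.{u}} (s : Γ(X, ⊤)) : X ⟶ Spec ZT.{u} :=
  X.toSpecΓ ≫ Spec.map (CommRingCat.ofHom (polyHom s))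

theorem toA1_appTop {X : Scheme.{u}} (s : Γ(X, ⊤)) :
    (Scheme.ΓSpecIso ZT.{u}).inv ≫ (toA1 s).appTop = CommRingCat.ofHom (polyHom s) := by
  unfold toA1
  rw [Scheme.Hom.comp_appTop, Scheme.toSpecΓ_appTop, Scheme.ΓSpecIso_naturality,
    Iso.inv_hom_id_assoc]

theorem toA1_injective {X : Scheme.{u}} : Function.Injective (toA1 (X := X)) := by
  intro s s' h
  have h1 := toA1_appTop s
  rw [h, toA1_appTop] at h1
  have := congrArg (fun φ => φ.hom Polynomial.X) h1
  simpa [polyHom_X] using this.symm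

theorem toA1_surjective {X : Scheme.{u}} : Function.Surjective (toA1 (X := X)) := by
  intro g
  refine ⟨((Scheme.ΓSpecIso ZT.{u}).inv ≫ g.appTop).hom Polynomial.X, ?_⟩
  unfold toA1
  rw [← ringHom_eq_polyHom]
  have : CommRingCat.ofHom ((Scheme.ΓSpecIso ZT.{u}).inv ≫ g.appTop).hom =
      (Scheme.ΓSpecIso ZT.{u}).inv ≫ g.appTop := rfl
  rw [this, Spec.map_comp, ← Scheme.toSpecΓ_naturality_assoc, toSpecΓ_SpecMap_ΓSpecIso_inv,
    Category.comp_id]

theorem comp_toA1 {X Y : Scheme.{u}} (f : X ⟶ Y) (s : Γ(Y, ⊤)) :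
    f ≫ toA1 s = toA1 (f.appTop.hom s) := by
  unfold toA1
  rw [Scheme.toSpecΓ_naturality_assoc, ← Spec.map_comp]
  congr 2
  ext1
  show f.appTop.hom.comp (polyHom s) = _
  rw [ringHom_eq_polyHom (f.appTop.hom.comp (polyHom s))]
  simp [polyHom_X]

theorem appTop_injective_of_epi {X Y : Scheme.{u}} (f : X ⟶ Y) [Epi f] :
    Function.Injective f.appTop := by
  intro s s' h
  apply toA1_injective
  rw [← cancel_epi f, comp_toA1, comp_toA1]
  exact congrArg toA1 h

theorem mem_range_appTop {X Y : Scheme.{u}} (f : X ⟶ Y) [EffectiveEpi f] (s : Γ(X, ⊤))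
    (h : ∀ {W : Scheme.{u}} (u v : W ⟶ X), u ≫ f = v ≫ f → u.appTop.hom s = v.appTop.hom s) :
    s ∈ Set.range f.appTop := by
  let g := EffectiveEpi.desc f (toA1 s) (fun u v huv => by
    rw [comp_toA1, comp_toA1, h u v huv])
  have hg : f ≫ g = toA1 s := EffectiveEpi.fac _ _ _
  obtain ⟨s', hs'⟩ := toA1_surjective g
  refine ⟨s', ?_⟩
  apply toA1_injective
  rw [← hg, ← hs', comp_toA1]

open MonoidalCategory CartesianMonoidalCategory in
theorem main16127 (k : Type u) [Field k]
    (G X Y : Over (Spec (CommRingCat.of k))) [GrpObj G]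
    [QuasiCompact X.hom] [LocallyOfFiniteType Y.hom]
    (a : AlgGrp.Action G X) (f : X ⟶ Y) [Flat f.left] [Surjective f.left]
    (hsq : IsPullback a.act.left (snd G X).left f.left f.left) :
    Function.Injective (f.left.appTop) ∧
      Set.range (f.left.appTop) =
        {s : Γ(X.left, ⊤) | a.act.left.appTop s = (snd G X).left.appTop s} := by
  have hqc : QuasiCompact f.left := FpqcDesc.quasiCompact_of_field k X Y f
  have hee : EffectiveEpi f.left := inferInstance
  refine ⟨appTop_injective_of_epi f.left, ?_⟩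
  apply Set.eq_of_subset_of_subset
  · rintro _ ⟨s, rfl⟩
    exact InvBasis.app_eq hsq.w s
  · intro s hs
    apply mem_range_appTop
    intro W u v huv
    obtain ⟨w, hw⟩ : ∃ w, w = hsq.lift u v huv := ⟨_, rfl⟩
    have h1 : w ≫ a.act.left = u := by rw [hw]; exact hsq.lift_fst _ _ _
    have h2 : w ≫ (snd G X).left = v := by rw [hw]; exact hsq.lift_snd _ _ _
    rw [← h1, ← h2, Scheme.Hom.comp_appTop, Scheme.Hom.comp_appTop]
    show w.appTop.hom (a.act.left.appTop.hom s) = w.appTop.hom ((snd G X).left.appTop.hom s)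
    exact congrArg _ hs

end Groth.Agent.Lib.Helper4.GammaDesc
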