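import Mathlib.Tactic
import Groth.Prelude.Def_AlgGrp

set_option autoImplicit false
universe u
open CategoryTheory MonoidalCategory CartesianMonoidalCategory MonObj GrpObj AlgebraicGeometry Limits

namespace Groth.Agent.Lib.Helper4.ActShear

section general
variable {C : Type*} [Category C] [CartesianMonoidalCategory C]
end general

variable {S : Scheme.{u}} {G X : Over S} [GrpObj G] (a : AlgGrp.Action G X)

/-- action on generalized points -/
noncomputable def smul {T : Over S} (g : T ⟶ G) (x : T ⟶ X) : T ⟶ X := lift g x ≫ a.act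

theorem comp_smul {T T' : Over S} (f : T' ⟶ T) (g : T ⟶ G) (x : T ⟶ X) :
    f ≫ smul a g x = smul a (f ≫ g) (f ≫ x) := by
  unfold smul
  rw [← Category.assoc, comp_lift]

theorem one_smul' {T : Over S} (x : T ⟶ X) : smul a (toUnit T ≫ η[G]) x = x := by
  unfold smul
  have : lift (toUnit T ≫ η[G]) x = lift (toUnit T) x ≫ (η[G] ▷ X) := by
    simp
  rw [this, Category.assoc, a.one_act]
  simp

theorem mul_smul' {T : Over S} (g h : T ⟶ G) (x : T ⟶ X) :
    smul a (lift g h ≫ μ[G]) x = smul a g (smul a h x) := by
  unfold smul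
  have : lift (lift g h ≫ μ[G]) x = lift (lift g h) x ≫ (μ[G] ▷ X) := by
    simp
  rw [this, Category.assoc, a.mul_act]
  simp

/-- the shear map `(g, x) ↦ (g, g x)` -/
noncomputable def shear : G ⊗ X ⟶ G ⊗ X := lift (fst G X) a.act

noncomputable def shearInv : G ⊗ X ⟶ G ⊗ X :=
  lift (fst G X) (smul a (fst G X ≫ ι[G]) (snd G X))

theorem act_eq : a.act = smul a (fst G X) (snd G X) := by
  unfold smul; simp

theorem inv_smul_smul {T : Over S} (g : T ⟶ G) (x : T ⟶ X) :
    smul a (g ≫ ι[G]) (smul a g x) = x := by
  rw [← mul_smul', GrpObj.lift_comp_inv_left, one_smul']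

theorem smul_inv_smul {T : Over S} (g : T ⟶ G) (x : T ⟶ X) :
    smul a g (smul a (g ≫ ι[G]) x) = x := by
  rw [← mul_smul', GrpObj.lift_comp_inv_right, one_smul']

theorem shear_shearInv : shear a ≫ shearInv a = 𝟙 _ := by
  unfold shear shearInv
  apply CartesianMonoidalCategory.hom_ext
  · simp
  · rw [Category.assoc, lift_snd, comp_smul, Category.id_comp, lift_snd, ← Category.assoc, lift_fst]
    rw [act_eq a, inv_smul_smul]

theorem shearInv_shear : shearInv a ≫ shear a = 𝟙 _ := by
  unfold shear shearInv
  apply CartesianMonoidalCategory.hom_ext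
  · simp
  · rw [Category.assoc, lift_snd, Category.id_comp]
    rw [act_eq a, comp_smul, lift_fst, lift_snd, smul_inv_smul]

theorem shear_snd : shear a ≫ snd G X = a.act := by
  unfold shear; simp

instance : IsIso (shear a) := ⟨shearInv a, shear_shearInv a, shearInv_shear a⟩

theorem act_left : a.act.left = (shear a).left ≫ pullback.snd G.hom X.hom := by
  rw [← shear_snd a]
  rfl

instance : IsIso (shear a).left :=
  inferInstanceAs (IsIso ((Over.forget S).map (shear a)))

theorem of_base_change (P : MorphismProperty Scheme.{u}) [P.IsStableUnderBaseChange]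
    (h : P G.hom) : P a.act.left := by
  have : P.RespectsIso := MorphismProperty.IsStableUnderBaseChange.respectsIso
  rw [act_left a, P.cancel_left_of_respectsIso]
  exact MorphismProperty.of_isPullback (P := P) (IsPullback.of_hasPullback G.hom X.hom) h

theorem main18861 :
    (Surjective G.hom → Surjective a.act.left) ∧ (Flat G.hom → Flat a.act.left) ∧
      (IsAffineHom G.hom → IsAffineHom a.act.left) ∧ (IsProper G.hom → IsProper a.act.left) ∧
      (IsFinite G.hom → IsFinite a.act.left) ∧ (Smooth G.hom → Smooth a.act.left) :=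
  ⟨of_base_change a @Surjective, of_base_change a @Flat, of_base_change a @IsAffineHom,
    of_base_change a @IsProper, of_base_change a @IsFinite, of_base_change a @Smooth⟩

theorem surjective_hom : Surjective G.hom := by
  refine ⟨fun s => ⟨η[G].left s, ?_⟩⟩
  have h : η[G].left ≫ G.hom = 𝟙 S := Over.w η[G]
  rw [← Scheme.Hom.comp_apply, h]
  rfl

theorem main7994 (k : Type u) [Field k]
    (G X : Over (Spec (CommRingCat.of k))) [GrpObj G] (a : AlgGrp.Action G X) :
    Flat a.act.left ∧ Surjective a.act.left ∧ (Smooth G.hom → Smooth a.act.left) ∧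
      (IsFinite G.hom → IsFinite a.act.left) := by
  have : Subsingleton (Spec (CommRingCat.of k)) :=
    inferInstanceAs (Subsingleton (PrimeSpectrum k))
  have h1 : Flat G.hom := inferInstance
  exact ⟨of_base_change a @Flat h1, of_base_change a @Surjective surjective_hom,
    of_base_change a @Smooth, of_base_change a @IsFinite⟩

end Groth.Agent.Lib.Helper4.ActShear
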