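import Mathlib.Tactic
import Groth.Agent.Lib.Helper4.ActShear

set_option autoImplicit false
universe u
open CategoryTheory MonoidalCategory CartesianMonoidalCategory MonObj GrpObj AlgebraicGeometry Limits

namespace Groth.Agent.Lib.Helper4.ActShear2

open ActShear

variable {S : Scheme.{u}} {G X : Over S} [GrpObj G] (a : AlgGrp.Action G X) {T : Over S} (g : T ⟶ G)

/-- translation by a `T`-point of `G` -/
noncomputable def shearT : T ⊗ X ⟶ T ⊗ X := lift (fst T X) (smul a (fst T X ≫ g) (snd T X))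

noncomputable def shearTInv : T ⊗ X ⟶ T ⊗ X :=
  lift (fst T X) (smul a ((fst T X ≫ g) ≫ ι[G]) (snd T X))

theorem shearT_shearTInv : shearT a g ≫ shearTInv a g = 𝟙 _ := by
  unfold shearT shearTInv
  apply CartesianMonoidalCategory.hom_ext
  · simp
  · rw [Category.assoc, lift_snd, comp_smul, Category.id_comp, lift_snd, ← Category.assoc,
      ← Category.assoc, lift_fst, ActShear.inv_smul_smul]

theorem shearTInv_shearT : shearTInv a g ≫ shearT a g = 𝟙 _ := by
  unfold shearT shearTInv
  apply CartesianMonoidalCategory.hom_ext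
  · simp
  · rw [Category.assoc, lift_snd, comp_smul, Category.id_comp, lift_snd, ← Category.assoc,
      lift_fst, ActShear.smul_inv_smul]

instance : IsIso (shearT a g) := ⟨shearTInv a g, shearT_shearTInv a g, shearTInv_shearT a g⟩

theorem actT_eq : (g ⊗ₘ 𝟙 X) ≫ a.act = shearT a g ≫ snd T X := by
  unfold shearT
  rw [lift_snd]
  unfold smul
  congr 1

instance : IsIso (shearT a g).left :=
  inferInstanceAs (IsIso ((Over.forget S).map (shearT a g)))

theorem actT_left : ((g ⊗ₘ 𝟙 X) ≫ a.act).left = (shearT a g).left ≫ pullback.snd T.hom X.hom := by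
  rw [actT_eq]
  rfl

theorem of_base_change_T (P : MorphismProperty Scheme.{u}) [P.IsStableUnderBaseChange]
    (h : P T.hom) : P ((g ⊗ₘ 𝟙 X) ≫ a.act).left := by
  have : P.RespectsIso := MorphismProperty.IsStableUnderBaseChange.respectsIso
  rw [actT_left a g, P.cancel_left_of_respectsIso]
  exact MorphismProperty.of_isPullback (P := P) (IsPullback.of_hasPullback T.hom X.hom) h

/-- the action of a group on itself by left multiplication -/
noncomputable def selfAct (G : Over S) [GrpObj G] : AlgGrp.Action G G where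
  act := μ[G]
  one_act := MonObj.one_mul G
  mul_act := MonObj.mul_assoc G

theorem universallyOpen_of_comp_surjective {X Y Z : Scheme.{u}} (f : X ⟶ Y) (g : Y ⟶ Z)
    [UniversallyOpen (f ≫ g)] [Surjective f] : UniversallyOpen g := by
  constructor
  intro X' Y' i₁ i₂ f' H
  have h1 := UniversallyOpen.universally_isOpenMap (f := f ≫ g) _ _ _
    ((IsPullback.of_hasPullback i₁ f).paste_horiz H)
  have h2' : Surjective (pullback.fst i₁ f) :=
    MorphismProperty.of_isPullback (P := @Surjective) (IsPullback.of_hasPullback i₁ f).flip ‹_›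
  have h2 : Function.Surjective (pullback.fst i₁ f) := h2'.1
  intro A hA
  have : f' '' A = (pullback.fst i₁ f ≫ f') '' (pullback.fst i₁ f ⁻¹' A) := by
    rw [Scheme.Hom.comp_base, TopCat.coe_comp, Set.image_comp, Set.image_preimage_eq _ h2]
  rw [this]
  exact h1 _ (hA.preimage (pullback.fst i₁ f).continuous)

theorem universallyOpen_whiskerLeft {T A B : Over S} (f : A ⟶ B) (h : UniversallyOpen f.left) :
    UniversallyOpen (T ◁ f).left := by
  rw [Over.whiskerLeft_left]
  have h1 : UniversallyOpen (𝟙 T.left) := inferInstance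
  exact MorphismProperty.pullbackMap (P := @UniversallyOpen) h1 h (by simp) (by simp)

theorem range_tensorHom_left {A B A' B' : Over S} (f : A ⟶ A') (g : B ⟶ B') :
    Set.range (f ⊗ₘ g).left = (fst A' B').left ⁻¹' Set.range f.left ∩
      (snd A' B').left ⁻¹' Set.range g.left := by
  rw [Over.tensorHom_left]
  exact Scheme.Pullback.range_map _ _ _ _ _ _ _ _ _

section main
variable (G H : Over S) [GrpObj G] [GrpObj H] (u : G ⟶ H) [IsMonHom u]
  (V : G.left.Opens) (hV : UniversallyOpen (V.ι ≫ u.left))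
  (hVS : UniversallyOpen (V.ι ≫ G.hom))
  (hmax : ∀ W : G.left.Opens, UniversallyOpen (W.ι ≫ u.left) → W ≤ V)
include hV hVS hmax

omit hVS in
theorem inv_mem (g : G.left) (hg : g ∈ V) : ι[G].left g ∈ V := by
  have hii : ι[G].left ≫ ι[G].left = 𝟙 _ := by
    rw [← Over.comp_left, GrpObj.inv_comp_inv]; rfl
  have : IsIso ι[G].left := ⟨ι[G].left, hii, hii⟩
  have hii' : ι[H].left ≫ ι[H].left = 𝟙 _ := by
    rw [← Over.comp_left, GrpObj.inv_comp_inv]; rfl
  have : IsIso ι[H].left := ⟨ι[H].left, hii', hii'⟩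
  let W : G.left.Opens := ι[G].left ⁻¹ᵁ V
  have hW : W.ι ≫ u.left = (ι[G].left ∣_ V) ≫ (V.ι ≫ u.left) ≫ ι[H].left := by
    rw [← Category.assoc, ← Category.assoc, morphismRestrict_ι, Category.assoc, Category.assoc,
      ← Over.comp_left, ← Over.comp_left, ← GrpObj.inv_hom, Over.comp_left, Over.comp_left,
      ← Category.assoc ι[G].left, hii, Category.id_comp]
  have hWu : UniversallyOpen (W.ι ≫ u.left) := by
    rw [hW]; infer_instance
  have hle := hmax W hWu
  apply hle
  show ι[G].left (ι[G].left g) ∈ V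
  rw [← Scheme.Hom.comp_apply, hii]
  exact hg

theorem mul_mem (z : ↥(G ⊗ G).left) (h1 : (fst G G).left z ∈ V) (h2 : (snd G G).left z ∈ V) :
    μ[G].left z ∈ V := by
  let T : Over S := Over.mk (V.ι ≫ G.hom)
  let g : T ⟶ G := Over.homMk V.ι rfl
  have hT : UniversallyOpen T.hom := hVS
  have hrg : Set.range g.left = (V : Set G.left) := Scheme.Opens.range_ι V
  let m := ((g ⊗ₘ 𝟙 G) ≫ μ[G]).left
  have hm : UniversallyOpen m := of_base_change_T (selfAct G) g @UniversallyOpen hT
  let ψ := ((g ⊗ₘ g) ≫ μ[G]).left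
  have hψm : ψ = (T ◁ g).left ≫ m := by
    show ((g ⊗ₘ g) ≫ μ[G]).left = (T ◁ g).left ≫ ((g ⊗ₘ 𝟙 G) ≫ μ[G]).left
    rw [← Over.comp_left, ← Category.assoc]
    congr 2
    rw [tensorHom_def' g g, tensorHom_id]
  have hopen : IsOpen (Set.range ψ) := by
    rw [hψm, Scheme.Hom.comp_base, TopCat.coe_comp, Set.range_comp]
    apply m.isOpenMap
    have hgo : IsOpenImmersion g.left := inferInstanceAs (IsOpenImmersion V.ι)
    have : IsOpenImmersion (T ◁ g).left := by
      rw [Over.whiskerLeft_left]; infer_instance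
    exact (T ◁ g).left.isOpenEmbedding.isOpen_range
  let M : G.left.Opens := ⟨Set.range ψ, hopen⟩
  have hr : Set.range ψ ⊆ Set.range M.ι := by
    rw [Scheme.Opens.range_ι]; rfl
  let q : (T ⊗ T).left ⟶ M := IsOpenImmersion.lift M.ι ψ hr
  have hq : q ≫ M.ι = ψ := IsOpenImmersion.lift_fac _ _ _
  have hqs : Surjective q := by
    refine ⟨fun x => ?_⟩
    obtain ⟨y, hy⟩ : M.ι x ∈ Set.range ψ := x.2
    refine ⟨y, M.ι.isOpenEmbedding.injective ?_⟩
    rw [← Scheme.Hom.comp_apply, hq, hy]
  -- φ universally open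
  have hφ : UniversallyOpen (ψ ≫ u.left) := by
    have e1 : ψ ≫ u.left = (T ◁ (g ≫ u)).left ≫ (((g ≫ u) ⊗ₘ 𝟙 H) ≫ μ[H]).left := by
      show ((g ⊗ₘ g) ≫ μ[G]).left ≫ u.left = _
      rw [← Over.comp_left, ← Over.comp_left]
      congr 1
      rw [Category.assoc, IsMonHom.mul_hom, ← Category.assoc, ← Category.assoc]
      congr 1
      rw [tensorHom_comp_tensorHom, tensorHom_def' (g ≫ u) (g ≫ u), tensorHom_id]
    rw [e1]
    have h3 : UniversallyOpen (g ≫ u).left := hV
    have h4 := universallyOpen_whiskerLeft (T := T) (g ≫ u) h3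
    have h5 : UniversallyOpen (((g ≫ u) ⊗ₘ 𝟙 H) ≫ μ[H]).left :=
      of_base_change_T (selfAct H) (g ≫ u) @UniversallyOpen hT
    infer_instance
  have hMu : UniversallyOpen (q ≫ (M.ι ≫ u.left)) := by
    rw [← Category.assoc, hq]; exact hφ
  have hM : UniversallyOpen (M.ι ≫ u.left) := universallyOpen_of_comp_surjective q _
  have hle := hmax M hM
  apply hle
  show μ[G].left z ∈ Set.range ψ
  have hz : z ∈ Set.range (g ⊗ₘ g).left := by
    rw [range_tensorHom_left, hrg]
    exact ⟨h1, h2⟩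
  obtain ⟨z', rfl⟩ := hz
  refine ⟨z', ?_⟩
  show ((g ⊗ₘ g) ≫ μ[G]).left z' = _
  rw [Over.comp_left, Scheme.Hom.comp_apply]

end main

theorem main5311 (S : Scheme.{u}) (G H : Over S) [GrpObj G] [GrpObj H]
    (u : G ⟶ H) [IsMonHom u] (hG : UniversallyOpen G.hom ∨ UniversallyOpen H.hom)
    (V : G.left.Opens) (hV : UniversallyOpen (V.ι ≫ u.left))
    (hmax : ∀ W : G.left.Opens, UniversallyOpen (W.ι ≫ u.left) → W ≤ V) :
    IsOpen (G.hom.base '' (V : Set G.left)) ∧
    (∀ g ∈ V, ∀ p : ↥(𝟙_ (Over S)).left, (𝟙_ (Over S)).hom.base p = G.hom.base g →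
      η[G].left.base p ∈ V) ∧
    (∀ g ∈ V, ι[G].left.base g ∈ V) ∧
    (∀ z : ↥(G ⊗ G).left, (fst G G).left.base z ∈ V → (snd G G).left.base z ∈ V →
      μ[G].left.base z ∈ V) := by
  have hVS : UniversallyOpen (V.ι ≫ G.hom) := by
    rcases hG with h | h
    · infer_instance
    · have : V.ι ≫ G.hom = (V.ι ≫ u.left) ≫ H.hom := by
        rw [Category.assoc, Over.w u]
      rw [this]; infer_instance
  have hinv := inv_mem G H u V hV hmax
  have hmul := mul_mem G H u V hV hVS hmax
  refine ⟨?_, ?_, hinv, hmul⟩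
  · have : G.hom.base '' (V : Set G.left) = Set.range (V.ι ≫ G.hom) := by
      rw [Scheme.Hom.comp_base, TopCat.coe_comp, Set.range_comp, Scheme.Opens.range_ι]
    rw [this]
    exact (V.ι ≫ G.hom).isOpenMap.isOpen_range
  · intro g hg p hp
    have hz := hmul ((lift (𝟙 G) ι[G]).left g) (by
        show (fst G G).left ((lift (𝟙 G) ι[G]).left g) ∈ V
        rw [← Scheme.Hom.comp_apply, ← Over.comp_left, lift_fst]
        exact hg) (by
        show (snd G G).left ((lift (𝟙 G) ι[G]).left g) ∈ V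
        rw [← Scheme.Hom.comp_apply, ← Over.comp_left, lift_snd]
        exact hinv g hg)
    have h1 : μ[G].left ((lift (𝟙 G) ι[G]).left g) = η[G].left p := by
      rw [← Scheme.Hom.comp_apply, ← Over.comp_left, GrpObj.right_inv, Over.comp_left,
        Scheme.Hom.comp_apply]
      congr 1
      exact hp.symm
    rw [h1] at hz
    exact hz

end Groth.Agent.Lib.Helper4.ActShear2
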