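import Mathlib.Tactic
import Groth.Agent.Lib.Helper4.ActShear2
import Groth.Agent.Lib.Helper4.MaxOpen

set_option autoImplicit false
universe u
open CategoryTheory MonoidalCategory CartesianMonoidalCategory MonObj GrpObj AlgebraicGeometry Limits

namespace Groth.Agent.Lib.Helper4.MaxOpenGrp

open ActShear ActShear2 MaxOpen

variable {S : Scheme.{u}}

/-- base change square for `T ◁ u` -/
theorem isPullback_whiskerLeft (T G H : Over S) (u : G ⟶ H) :
    IsPullback (T ◁ u).left (snd T G).left (snd T H).left u.left := by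
  have A := IsPullback.of_hasPullback T.hom H.hom
  have B := IsPullback.of_hasPullback T.hom G.hom
  have hGH : G.hom = u.left ≫ H.hom := (Over.w u).symm
  refine IsPullback.of_right (h₁₂ := pullback.fst T.hom H.hom) (h₂₂ := H.hom) (v₁₃ := T.hom) ?_ ?_ A
  · rw [Over.whiskerLeft_left_fst, ← hGH]
    exact B
  · exact Over.whiskerLeft_left_snd u

variable {G H : Over S} [GrpObj G] [GrpObj H] (u : G ⟶ H) [IsMonHom u] {T : Over S} (g : T ⟶ G)

theorem compat : (T ◁ u) ≫ (((g ≫ u) ⊗ₘ 𝟙 H) ≫ μ[H]) = ((g ⊗ₘ 𝟙 G) ≫ μ[G]) ≫ u := by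
  rw [Category.assoc, IsMonHom.mul_hom, ← Category.assoc, ← Category.assoc]
  congr 1
  rw [tensorHom_comp_tensorHom, Category.id_comp, tensorHom_id, ← tensorHom_def']

theorem shear_compat : shearT (selfAct G) g ≫ (T ◁ u) = (T ◁ u) ≫ shearT (selfAct H) (g ≫ u) := by
  apply CartesianMonoidalCategory.hom_ext
  · simp [shearT]
  · rw [Category.assoc, Category.assoc, whiskerLeft_snd, ← Category.assoc, ← actT_eq,
      ← actT_eq]
    exact (compat u g).symm

theorem isPullback_act :
    IsPullback (T ◁ u).left ((g ⊗ₘ 𝟙 G) ≫ (selfAct G).act).left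
      (((g ≫ u) ⊗ₘ 𝟙 H) ≫ (selfAct H).act).left u.left := by
  rw [actT_left, actT_left]
  have h1 : IsPullback (T ◁ u).left (shearT (selfAct G) g).left
      (shearT (selfAct H) (g ≫ u)).left (T ◁ u).left :=
    IsPullback.of_vert_isIso ⟨by
      rw [← Over.comp_left, ← Over.comp_left, shear_compat]⟩
  exact h1.paste_vert (isPullback_whiskerLeft T G H u)

theorem main5389 (P : MorphismProperty Scheme.{u}) [P.IsStableUnderBaseChange]
    [IsZariskiLocalAtTarget P]
    [P.DescendsAlong (@Flat ⊓ @Surjective ⊓ @QuasiCompact)]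
    (S : Scheme.{u}) (G H : Over S) [GrpObj G] [GrpObj H] (u : G ⟶ H) [IsMonHom u] [Flat G.hom]
    [UniversallyOpen G.hom]
    (W : H.left.Opens) (hW : P (u.left ∣_ W))
    (hmax : ∀ W' : H.left.Opens, P (u.left ∣_ W') → W' ≤ W) :
    letI V : G.left.Opens := u.left ⁻¹ᵁ W
    IsOpen (G.hom.base '' (V : Set G.left)) ∧
    (∀ g ∈ V, ∀ p : ↥(𝟙_ (Over S)).left, (𝟙_ (Over S)).hom.base p = G.hom.base g →
      η[G].left.base p ∈ V) ∧
    (∀ g ∈ V, ι[G].left.base g ∈ V) ∧
    (∀ z : ↥(G ⊗ G).left, (fst G G).left.base z ∈ V → (snd G G).left.base z ∈ V →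
      μ[G].left.base z ∈ V) := by
  set V : G.left.Opens := u.left ⁻¹ᵁ W with hVdef
  -- inverse
  have hinv : ∀ g ∈ V, ι[G].left.base g ∈ V := by
    intro g hg
    have hii : ι[G].left ≫ ι[G].left = 𝟙 _ := by
      rw [← Over.comp_left, GrpObj.inv_comp_inv]; rfl
    have : IsIso ι[G].left := ⟨ι[G].left, hii, hii⟩
    have hii' : ι[H].left ≫ ι[H].left = 𝟙 _ := by
      rw [← Over.comp_left, GrpObj.inv_comp_inv]; rfl
    have : IsIso ι[H].left := ⟨ι[H].left, hii', hii'⟩
    have sq : IsPullback u.left ι[G].left ι[H].left u.left :=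
      IsPullback.of_vert_isIso ⟨by rw [← Over.comp_left, ← Over.comp_left, GrpObj.inv_hom]⟩
    have hP := P_restrict_of_isPullback P sq W (ι[H].left ⁻¹ᵁ W) le_rfl hW
    have hle := hmax _ hP
    show u.left (ι[G].left g) ∈ W
    rw [← Scheme.Hom.comp_apply, ← Over.comp_left, GrpObj.inv_hom, Over.comp_left,
      Scheme.Hom.comp_apply]
    apply hle
    show ι[H].left (ι[H].left (u.left g)) ∈ W
    rw [← Scheme.Hom.comp_apply, hii']
    exact hg
  -- multiplication
  have hmul : ∀ z : ↥(G ⊗ G).left, (fst G G).left.base z ∈ V → (snd G G).left.base z ∈ V →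
      μ[G].left.base z ∈ V := by
    intro z h1 h2
    let T : Over S := Over.mk (V.ι ≫ G.hom)
    let g : T ⟶ G := Over.homMk V.ι rfl
    have hTf : Flat T.hom := inferInstanceAs (Flat (V.ι ≫ G.hom))
    have hTo : UniversallyOpen T.hom := inferInstanceAs (UniversallyOpen (V.ι ≫ G.hom))
    have hrg : Set.range g.left = (V : Set G.left) := Scheme.Opens.range_ι V
    have haf : Flat (((g ≫ u) ⊗ₘ 𝟙 H) ≫ (selfAct H).act).left :=
      of_base_change_T (selfAct H) (g ≫ u) @Flat hTf
    have hao : UniversallyOpen (((g ≫ u) ⊗ₘ 𝟙 H) ≫ (selfAct H).act).left :=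
      of_base_change_T (selfAct H) (g ≫ u) @UniversallyOpen hTo
    let U₁ : (T ⊗ H).left.Opens := (snd T H).left ⁻¹ᵁ W
    have hU₁ : P ((T ◁ u).left ∣_ U₁) :=
      P_restrict_of_isPullback P (isPullback_whiskerLeft T G H u) W U₁ le_rfl hW
    have key := image_le_maxOpen P (isPullback_act u g)
      (((g ≫ u) ⊗ₘ 𝟙 H) ≫ (selfAct H).act).left.isOpenMap W hmax U₁ hU₁
    have hz : z ∈ Set.range (g ⊗ₘ 𝟙 G).left := by
      rw [range_tensorHom_left, hrg]
      refine ⟨h1, ?_⟩
      have : Set.range (𝟙 G : G ⟶ G).left = Set.univ := by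
        rw [Over.id_left]; exact Set.range_id
      rw [this]; trivial
    obtain ⟨z₁, rfl⟩ := hz
    have hy' : (T ◁ u).left z₁ ∈ U₁ := by
      show (snd T H).left ((T ◁ u).left z₁) ∈ W
      rw [← Scheme.Hom.comp_apply, ← Over.comp_left, whiskerLeft_snd, Over.comp_left,
        Scheme.Hom.comp_apply]
      have : (snd T G).left z₁ = (snd G G).left ((g ⊗ₘ 𝟙 G).left z₁) := by
        rw [← Scheme.Hom.comp_apply, ← Over.comp_left, tensorHom_snd, Category.comp_id]
      rw [this]
      exact h2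
    have h3 := key _ hy'
    rw [← Scheme.Hom.comp_apply, ← Over.comp_left] at h3
    have h4 : (T ◁ u) ≫ (((g ≫ u) ⊗ₘ 𝟙 H) ≫ (selfAct H).act) =
        ((g ⊗ₘ 𝟙 G) ≫ μ[G]) ≫ u := compat u g
    rw [h4, Over.comp_left, Over.comp_left, Scheme.Hom.comp_apply, Scheme.Hom.comp_apply] at h3
    exact h3
  refine ⟨?_, ?_, hinv, hmul⟩
  · exact G.hom.isOpenMap _ V.2
  · intro g hg p hp
    have hz := hmul ((lift (𝟙 G) ι[G]).left g) (by
        show (fst G G).left ((lift (𝟙 G) ι[G]).left g) ∈ V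
        rw [← Scheme.Hom.comp_apply, ← Over.comp_left, lift_fst]
        exact hg) (by
        show (snd G G).left ((lift (𝟙 G) ι[G]).left g) ∈ V
        rw [← Scheme.Hom.comp_apply, ← Over.comp_left, lift_snd]
        exact hinv g hg)
    have h1 : μ[G].left ((lift (𝟙 G) ι[G]).left g) = η[G].left p := by
      rw [← Scheme.Hom.comp_apply, ← Over.comp_left, GrpObj.right_inv, Over.comp_left,
        Scheme.Hom.comp_apply]
      congr 1
      exact hp.symm
    rw [h1] at hz
    exact hz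

end Groth.Agent.Lib.Helper4.MaxOpenGrp
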