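import Mathlib.Tactic
import Mathlib.AlgebraicGeometry.ZariskisMainTheorem
import Mathlib.AlgebraicGeometry.Sites.Fpqc
import Mathlib.AlgebraicGeometry.Morphisms.FlatDescent
import Mathlib.AlgebraicGeometry.Morphisms.LocalFlatDescent
import Mathlib.AlgebraicGeometry.Morphisms.Immersion
import Groth.Agent.Lib.Helper4.MaxOpenGrp

set_option backward.isDefEq.respectTransparency.types false

namespace Groth.Agent.Lib.Helper4.FpqcCov

open CategoryTheory Limits AlgebraicGeometry MorphismProperty

universe u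

/-- closed immersions descend along fpqc morphisms -/
instance descendsAlong_isClosedImmersion :
    DescendsAlong @IsClosedImmersion.{u} (@Surjective ⊓ @Flat ⊓ @QuasiCompact) where
  of_isPullback {A X Y Z fst snd f g} h hf hfst := by
    rw [IsClosedImmersion.iff_isProper_and_mono] at hfst ⊢
    obtain ⟨hprop, hmono⟩ := hfst
    have hm : (monomorphisms Scheme.{u}).DescendsAlong
        (@Surjective ⊓ @Flat ⊓ @QuasiCompact) := by
      rw [← diagonal_isomorphisms]
      infer_instance
    have hmono' : Mono g := hm.of_isPullback h hf hmono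
    have h1 : UniversallyClosed g :=
      DescendsAlong.of_isPullback (P := @UniversallyClosed) h hf inferInstance
    have h2 : LocallyOfFiniteType g :=
      DescendsAlong.of_isPullback (P := @LocallyOfFiniteType) h hf inferInstance
    have h3 : IsSeparated g := inferInstance
    exact ⟨{}, hmono'⟩

/-- the fpqc covering condition used in the quotient statements -/
def IsCov {Z Y : Scheme.{u}} (q : Z ⟶ Y) : Prop :=
  Surjective q ∧ Flat q ∧ ∀ V : Y.Opens, IsAffineOpen V →
    ∃ W : Z.Opens, IsCompact (W : Set Z) ∧ q.base '' (W : Set Z) = (V : Set Y)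

/-- descent along a covering in the above sense, for properties local on the target -/
theorem descends_of_isCov (P : MorphismProperty Scheme.{u}) [IsZariskiLocalAtTarget P]
    [P.IsStableUnderBaseChange]
    [P.DescendsAlong (@Surjective ⊓ @Flat ⊓ @QuasiCompact)]
    {Z Y T : Scheme.{u}} {q : Z ⟶ Y} (hq : IsCov q) (h : T ⟶ Y)
    (hP : P (pullback.snd h q)) : P h := by
  obtain ⟨hsurj, hflat, hcov⟩ := hq
  apply IsZariskiLocalAtTarget.of_iSup_eq_top (fun V : Y.affineOpens => (V : Y.Opens))
    (iSup_affineOpens_eq_top Y)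
  rintro ⟨V, hV⟩
  obtain ⟨W, hWc, hWV⟩ := hcov V hV
  -- the restricted cover W → V
  have hrange : Set.range (W.ι ≫ q).base ⊆ Set.range V.ι.base := by
    rintro _ ⟨w, rfl⟩
    have : q.base w.1 ∈ (V : Set Y) := hWV ▸ ⟨w.1, w.2, rfl⟩
    simpa using this
  let qW : W.toScheme ⟶ V.toScheme := IsOpenImmersion.lift V.ι (W.ι ≫ q) hrange
  have hqW : qW ≫ V.ι = W.ι ≫ q := IsOpenImmersion.lift_fac _ _ _
  have hfl : Flat qW := by
    have : Flat (qW ≫ V.ι) := by rw [hqW]; infer_instance
    exact MorphismProperty.of_postcomp (W := @Flat) (W' := @IsOpenImmersion) qW V.ι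
      inferInstance this
  have hsj : Surjective qW := by
    constructor
    rintro ⟨v, hv⟩
    have : v ∈ q.base '' (W : Set Z) := hWV ▸ hv
    obtain ⟨w, hw, rfl⟩ := this
    refine ⟨⟨w, hw⟩, ?_⟩
    apply V.ι.injective
    rw [← Scheme.Hom.comp_apply, hqW]
    rfl
  have hqc : QuasiCompact qW := by
    have : CompactSpace W.toScheme := isCompact_iff_compactSpace.mp hWc
    have : IsAffine V.toScheme := hV
    infer_instance
  -- the pullback square
  have hC := isPullback_morphismRestrict h V
  obtain ⟨a, ha⟩ : ∃ a, a = pullback.snd (pullback.snd h q) W.ι := ⟨_, rfl⟩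
  obtain ⟨pA, hpA⟩ : ∃ pA, pA = pullback.fst (pullback.snd h q) W.ι ≫ pullback.fst h q :=
    ⟨_, rfl⟩
  have hPa : P a := by
    rw [ha]
    exact MorphismProperty.pullback_snd _ _ hP
  have big : IsPullback pA a h (qW ≫ V.ι) := by
    rw [hqW, ha, hpA]
    exact ((IsPullback.of_hasPullback (pullback.snd h q) W.ι).flip.paste_vert
      (IsPullback.of_hasPullback h q).flip).flip
  obtain ⟨k, hk1, hk2⟩ : ∃ k, k ≫ (h ∣_ V) = a ≫ qW ∧ k ≫ (h ⁻¹ᵁ V).ι = pA :=
    ⟨hC.lift (a ≫ qW) pA (by rw [Category.assoc]; exact big.w.symm), hC.lift_fst _ _ _,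
      hC.lift_snd _ _ _⟩
  rw [← hk2] at big
  have left := IsPullback.of_right big hk1 hC.flip
  exact MorphismProperty.of_isPullback_of_descendsAlong
    (Q := @Surjective ⊓ @Flat ⊓ @QuasiCompact) left.flip ⟨⟨hsj, hfl⟩, hqc⟩ hPa

theorem qcc_of_cov {Z Y : Scheme.{u}} (q : Z ⟶ Y)
    (h : ∀ V : Y.Opens, IsAffineOpen V →
      ∃ W : Z.Opens, IsCompact (W : Set Z) ∧ q.base '' (W : Set Z) = (V : Set Y)) :
    QuasiCompactCover (PreZeroHypercover.singleton.{0} q) := by
  refine ⟨fun {U} hU => ?_⟩
  obtain ⟨W, hWc, hWU⟩ := h U hU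
  refine ⟨Set.univ, Set.finite_univ, fun _ _ => W, fun _ _ => hWc, ?_⟩
  ext y
  simp only [Set.mem_iUnion]
  constructor
  · rintro ⟨i, -, hy⟩
    exact hWU ▸ hy
  · intro hy
    exact ⟨PUnit.unit, trivial, hWU ▸ hy⟩

theorem cov_of_qcc {Y : Scheme.{u}} (E : PreZeroHypercover.{0} Y) [Unique E.I₀]
    [QuasiCompactCover E] (V : Y.Opens) (hV : IsAffineOpen V) :
    ∃ W : (E.X default).Opens, IsCompact (W : Set (E.X default)) ∧
      (E.f default).base '' (W : Set (E.X default)) = (V : Set Y) := by
  obtain ⟨s, hs, Vs, hc, hU⟩ := hV.isCompactOpenCovered E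
  by_cases hmem : (default : E.I₀) ∈ s
  · refine ⟨Vs default hmem, hc _ _, ?_⟩
    rw [← hU]
    ext y
    simp only [Set.mem_iUnion]
    constructor
    · intro hy
      exact ⟨default, hmem, hy⟩
    · rintro ⟨i, hi, hy⟩
      obtain rfl : i = default := Unique.eq_default i
      exact hy
  · refine ⟨⊥, by simp, ?_⟩
    rw [← hU]
    ext y
    simp only [Set.mem_iUnion]
    constructor
    · rintro ⟨z, hz, -⟩
      exact absurd hz (by simp)
    · rintro ⟨i, hi, hy⟩
      obtain rfl : i = default := Unique.eq_default i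
      exact absurd hi hmem

theorem IsCov.baseChange {Z Y Y' : Scheme.{u}} {q : Z ⟶ Y} (hq : IsCov q) (g : Y' ⟶ Y) :
    IsCov (pullback.snd q g) := by
  obtain ⟨hsurj, hflat, hcov⟩ := hq
  refine ⟨inferInstance, inferInstance, ?_⟩
  have := qcc_of_cov q hcov
  intro V hV
  have : Unique ((PreZeroHypercover.singleton.{0} q).pullback₂ g).I₀ :=
    inferInstanceAs (Unique PUnit)
  exact cov_of_qcc ((PreZeroHypercover.singleton.{0} q).pullback₂ g) V hV

/-- descent along a morphism `f` through which a covering factors -/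
theorem descends_of_dominated (P : MorphismProperty Scheme.{u}) [IsZariskiLocalAtTarget P]
    [P.IsStableUnderBaseChange]
    [P.DescendsAlong (@Surjective ⊓ @Flat ⊓ @QuasiCompact)]
    {Z X Y T : Scheme.{u}} {f : X ⟶ Y} {r : Z ⟶ X} (hq : IsCov (r ≫ f)) (h : T ⟶ Y)
    (hP : P (pullback.snd h f)) : P h := by
  apply descends_of_isCov P hq h
  let k : pullback h (r ≫ f) ⟶ pullback h f :=
    pullback.lift (pullback.fst h (r ≫ f)) (pullback.snd h (r ≫ f) ≫ r)
      (by rw [Category.assoc]; exact pullback.condition)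
  have hk1 : k ≫ pullback.fst h f = pullback.fst h (r ≫ f) := pullback.lift_fst _ _ _
  have hk2 : k ≫ pullback.snd h f = pullback.snd h (r ≫ f) ≫ r := pullback.lift_snd _ _ _
  have outer : IsPullback (pullback.snd h (r ≫ f)) (k ≫ pullback.fst h f) (r ≫ f) h := by
    rw [hk1]
    exact (IsPullback.of_hasPullback h (r ≫ f)).flip
  have top := IsPullback.of_bot outer hk2.symm (IsPullback.of_hasPullback h f).flip
  exact MorphismProperty.of_isPullback (P := P) top.flip hP

/-- dominated descent, with an arbitrary pullback square -/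
theorem descends_of_dominated' (P : MorphismProperty Scheme.{u}) [IsZariskiLocalAtTarget P]
    [P.IsStableUnderBaseChange]
    [P.DescendsAlong (@Surjective ⊓ @Flat ⊓ @QuasiCompact)]
    {Z X Y T A : Scheme.{u}} {f : X ⟶ Y} {r : Z ⟶ X} (hq : IsCov (r ≫ f)) {h : T ⟶ Y}
    {a : A ⟶ T} {b : A ⟶ X} (sq : IsPullback a b h f) (hP : P b) : P h := by
  apply descends_of_dominated P hq h
  have : pullback.snd h f = sq.isoPullback.inv ≫ b := by simp
  rw [this]
  exact (P.cancel_left_of_respectsIso _ _).mpr hP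

theorem exists_dominated_baseChange {Z X Y X' Y' : Scheme.{u}} {f : X ⟶ Y} {r : Z ⟶ X}
    (hq : IsCov (r ≫ f)) {f' : X' ⟶ Y'} {b : X' ⟶ X} {g : Y' ⟶ Y}
    (sq : IsPullback f' b g f) : ∃ (Z' : Scheme.{u}) (r' : Z' ⟶ X'), IsCov (r' ≫ f') := by
  refine ⟨pullback (r ≫ f) g, sq.lift (pullback.snd (r ≫ f) g) (pullback.fst (r ≫ f) g ≫ r)
    (by rw [Category.assoc]; exact pullback.condition.symm), ?_⟩
  rw [sq.lift_fst]
  exact hq.baseChange g

section ovr
open MonoidalCategory CartesianMonoidalCategory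

variable {S : Scheme.{u}} {X Y : Over S} (p : X ⟶ Y)

/-- the graph of `p` is the base change of the diagonal -/
theorem isPullback_graph :
    IsPullback p (lift (𝟙 X) p) (lift (𝟙 Y) (𝟙 Y)) (p ▷ Y) := by
  refine ⟨⟨by ext <;> simp⟩, ⟨PullbackCone.IsLimit.mk _ (fun s => s.snd ≫ fst X Y) ?_ ?_ ?_⟩⟩
  · intro s
    have h1 := congrArg (· ≫ fst Y Y) s.condition
    simp only [Category.assoc, lift_fst, Category.comp_id, whiskerRight_fst] at h1
    exact h1.symm
  · intro s
    have h1 := congrArg (· ≫ fst Y Y) s.condition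
    have h2 := congrArg (· ≫ snd Y Y) s.condition
    simp only [Category.assoc, lift_fst, lift_snd, Category.comp_id, whiskerRight_fst,
      whiskerRight_snd] at h1 h2
    ext
    · simp
    · simp only [Category.assoc, comp_lift, lift_snd]
      rw [← h1, h2]
  · intro s m h1 h2
    have := congrArg (· ≫ fst X Y) h2
    simpa using this

theorem isPullback_kernelPair :
    IsPullback (pullback.fst p p) (lift (pullback.fst p p) (pullback.snd p p))
      (lift (𝟙 X) p) (X ◁ p) := by
  refine ⟨⟨by ext <;> simp [pullback.condition]⟩,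
    ⟨PullbackCone.IsLimit.mk _ (fun s => pullback.lift (s.snd ≫ fst X X) (s.snd ≫ snd X X) ?_)
      ?_ ?_ ?_⟩⟩
  · have h1 := congrArg (· ≫ fst X Y) s.condition
    have h2 := congrArg (· ≫ snd X Y) s.condition
    simp only [Category.assoc, lift_fst, lift_snd, Category.comp_id, whiskerLeft_fst,
      whiskerLeft_snd] at h1 h2
    rw [← h1, Category.assoc]
    exact h2
  · intro s
    have h1 := congrArg (· ≫ fst X Y) s.condition
    simp only [Category.assoc, lift_fst, Category.comp_id, whiskerLeft_fst] at h1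
    rw [pullback.lift_fst]
    exact h1.symm
  · intro s
    apply CartesianMonoidalCategory.hom_ext
    · simp only [Category.assoc, lift_fst, pullback.lift_fst]
    · simp only [Category.assoc, lift_snd, pullback.lift_snd]
  · intro s m h1 h2
    apply pullback.hom_ext
    · rw [pullback.lift_fst, ← h2, Category.assoc, lift_fst]
    · rw [pullback.lift_snd, ← h2, Category.assoc, lift_snd]

/-- base change square for `u ▷ T` -/
theorem isPullback_whiskerRight (T G H : Over S) (u : G ⟶ H) :
    IsPullback (u ▷ T).left (fst G T).left (fst H T).left u.left := by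
  have A := IsPullback.of_hasPullback H.hom T.hom
  have B := IsPullback.of_hasPullback G.hom T.hom
  have hGH : G.hom = u.left ≫ H.hom := (Over.w u).symm
  refine IsPullback.of_right (h₁₂ := pullback.snd H.hom T.hom) (h₂₂ := H.hom) (v₁₃ := T.hom)
    ?_ ?_ A.flip
  · rw [Over.whiskerRight_left_snd, ← hGH]
    exact B.flip
  · exact Over.whiskerRight_left_fst u

theorem diag_left (Y : Over S) : (lift (𝟙 Y) (𝟙 Y)).left = pullback.diagonal Y.hom := by
  rw [Over.lift_left]
  rfl

theorem main5373 (S : Scheme.{u}) (X Y : Over S) (p : X ⟶ Y) :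
    letI v : (pullback p p) ⟶ X ⊗ X := lift (pullback.fst p p) (pullback.snd p p)
    IsImmersion v.left ∧ (IsSeparated Y.hom → IsClosedImmersion v.left) ∧
    ((∃ (Z : Scheme.{u}) (q : Z ⟶ Y.left) (r : Z ⟶ X.left), r ≫ p.left = q ∧ Surjective q ∧
        Flat q ∧ ∀ V : Y.left.Opens, IsAffineOpen V → ∃ W : Z.Opens, IsCompact (W : Set Z) ∧
          q.base '' (W : Set Z) = (V : Set Y.left)) →
      IsClosedImmersion v.left → IsSeparated Y.hom) := by
  have sqA := (isPullback_graph p).map (Over.forget S)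
  have sqB := (isPullback_kernelPair p).map (Over.forget S)
  simp only [Over.forget_map] at sqA sqB
  refine ⟨?_, ?_, ?_⟩
  · have h0 : IsImmersion (lift (𝟙 Y) (𝟙 Y)).left := by rw [diag_left]; infer_instance
    have h1 : IsImmersion (lift (𝟙 X) p).left :=
      MorphismProperty.of_isPullback (P := @IsImmersion) sqA h0
    exact MorphismProperty.of_isPullback (P := @IsImmersion) sqB h1
  · intro hsep
    have h0 : IsClosedImmersion (lift (𝟙 Y) (𝟙 Y)).left := by rw [diag_left]; infer_instance
    have h1 : IsClosedImmersion (lift (𝟙 X) p).left :=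
      MorphismProperty.of_isPullback (P := @IsClosedImmersion) sqA h0
    exact MorphismProperty.of_isPullback (P := @IsClosedImmersion) sqB h1
  · rintro ⟨Z, q, r, hrq, hsurj, hflat, hcov⟩ hv
    have hq : IsCov (r ≫ p.left) := by rw [hrq]; exact ⟨hsurj, hflat, hcov⟩
    obtain ⟨Z₁, r₁, hq₁⟩ := exists_dominated_baseChange hq
      (MaxOpenGrp.isPullback_whiskerLeft X X Y p)
    have h1 : IsClosedImmersion (lift (𝟙 X) p).left :=
      descends_of_dominated' @IsClosedImmersion hq₁ sqB hv
    obtain ⟨Z₂, r₂, hq₂⟩ := exists_dominated_baseChange hq (isPullback_whiskerRight Y X Y p)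
    have h0 : IsClosedImmersion (lift (𝟙 Y) (𝟙 Y)).left :=
      descends_of_dominated' @IsClosedImmersion hq₂ sqA h1
    rw [diag_left] at h0
    exact ⟨h0⟩

end ovr

end Groth.Agent.Lib.Helper4.FpqcCov
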