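import Mathlib.Tactic
import Groth.Prelude.Def_AlgGrp
import Groth.Agent.Lib.Helper4.FpqcCov


namespace Groth.Agent.Lib.Helper4.QuotKer

open CategoryTheory Limits AlgebraicGeometry MonoidalCategory CartesianMonoidalCategory MonObj
open FpqcCov

universe u

variable {S : Scheme.{u}} {G G' G'' : Over S} [GrpObj G] [GrpObj G']
  (u : G' ⟶ G) (p : G ⟶ G'')

/-- the fibre of `fst : G ⊗ G' ⟶ G` over the unit section -/
theorem isPullback_unit :
    IsPullback (lift (toUnit G' ≫ η[G]) (𝟙 G')) (toUnit G') (fst G G') η[G] := by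
  refine ⟨⟨by simp⟩, ⟨PullbackCone.IsLimit.mk _ (fun s => s.fst ≫ snd G G') ?_ ?_ ?_⟩⟩
  · intro s
    apply CartesianMonoidalCategory.hom_ext
    · rw [Category.assoc, lift_fst, s.condition, ← Category.assoc]
      congr 1
      exact toUnit_unique _ _
    · rw [Category.assoc, lift_snd, Category.comp_id]
  · intro s
    exact toUnit_unique _ _
  · intro s m h1 h2
    have := congrArg (· ≫ snd G G') h1
    simpa using this

theorem unit_comp_mul : lift (toUnit G' ≫ η[G]) (𝟙 G') ≫ (G ◁ u) ≫ μ[G] = u := by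
  rw [← Category.assoc, lift_whiskerLeft, Category.id_comp, ← Hom.mul_def, ← Hom.one_def,
    _root_.one_mul]

/-- the kernel square -/
theorem isPullback_ker (hsq : IsPullback ((G ◁ u) ≫ μ[G]) (fst G G') p p) :
    IsPullback u (toUnit G') p (η[G] ≫ p) := by
  have := (isPullback_unit (G := G) (G' := G')).paste_horiz hsq
  rwa [unit_comp_mul] at this

/-- the shear automorphism `(g, h) ↦ (g h, g)` of `G ⊗ G` -/
theorem isIso_sigma : IsIso (lift μ[G] (fst G G)) := by
  have hμ : μ[G] = fst G G * snd G G := by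
    rw [Hom.mul_def, lift_fst_snd, Category.id_comp]
  refine ⟨lift (snd G G) ((snd G G)⁻¹ * fst G G), ?_, ?_⟩
  · apply CartesianMonoidalCategory.hom_ext
    · rw [Category.assoc, lift_fst, lift_snd, Category.id_comp]
    · rw [Category.assoc, lift_snd, comp_mul, GrpObj.comp_inv, lift_snd, lift_fst, hμ,
        inv_mul_cancel_left, Category.id_comp]
  · apply CartesianMonoidalCategory.hom_ext
    · rw [Category.assoc, lift_fst, Category.id_comp, hμ, comp_mul, lift_fst, lift_snd,
        mul_inv_cancel_left]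
    · rw [Category.assoc, lift_snd, lift_fst, Category.id_comp]

theorem v_eq (hsq : IsPullback ((G ◁ u) ≫ μ[G]) (fst G G') p p) :
    lift (pullback.fst p p) (pullback.snd p p) =
      hsq.isoPullback.inv ≫ (G ◁ u) ≫ lift μ[G] (fst G G) := by
  rw [Iso.eq_inv_comp]
  apply CartesianMonoidalCategory.hom_ext
  · simp only [Category.assoc, lift_fst, IsPullback.isoPullback_hom_fst]
  · simp only [Category.assoc, lift_snd, IsPullback.isoPullback_hom_snd, whiskerLeft_fst]

theorem main5369 (S : Scheme.{u}) (G G' G'' : Over S) [GrpObj G] [GrpObj G']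
    (u : G' ⟶ G) (p : G ⟶ G'')
    (hcov : (∃ (Z : Scheme.{u}) (q : Z ⟶ G''.left) (r : Z ⟶ G.left), r ≫ p.left = q ∧
      Surjective q ∧ Flat q ∧ ∀ V : G''.left.Opens, IsAffineOpen V →
        ∃ W : Z.Opens, IsCompact (W : Set Z) ∧ q.base '' (W : Set Z) = (V : Set G''.left)))
    (hsq : IsPullback ((G ◁ u) ≫ μ[G]) (fst G G') p p) :
    IsPullback u (toUnit G') p (η[G] ≫ p) ∧ IsImmersion u.left ∧
    (IsSeparated G''.hom ↔ IsClosedImmersion u.left) ∧
    (IsClosedImmersion u.left ↔ IsClosedImmersion (η[G] ≫ p).left) := by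
  have hker := isPullback_ker u p hsq
  have sqK := (hker.map (Over.forget S)).flip
  simp only [Over.forget_map] at sqK
  have hsec : (η[G] ≫ p).left ≫ G''.hom = 𝟙 S := by
    have := Over.w (η[G] ≫ p)
    simpa using this
  have h0 : IsImmersion (𝟙 S) := inferInstance
  have h0' : IsClosedImmersion (𝟙 S) := inferInstance
  have himm : IsImmersion (η[G] ≫ p).left := by
    have : IsImmersion ((η[G] ≫ p).left ≫ G''.hom) := by rw [hsec]; exact h0
    exact IsImmersion.of_comp _ G''.hom
  have hd1 : IsClosedImmersion (η[G] ≫ p).left → IsClosedImmersion u.left := fun h =>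
    MorphismProperty.of_isPullback (P := @IsClosedImmersion) sqK h
  obtain ⟨Z, q, r, hrq, hs, hf, hc⟩ := hcov
  have hq : IsCov (r ≫ p.left) := by rw [hrq]; exact ⟨hs, hf, hc⟩
  have hd2 : IsClosedImmersion u.left → IsClosedImmersion (η[G] ≫ p).left := fun h =>
    descends_of_dominated' @IsClosedImmersion hq sqK h
  refine ⟨hker, MorphismProperty.of_isPullback (P := @IsImmersion) sqK himm, ⟨?_, ?_⟩,
    ⟨hd2, hd1⟩⟩
  · intro hsep
    apply hd1
    have : IsClosedImmersion ((η[G] ≫ p).left ≫ G''.hom) := by rw [hsec]; exact h0' 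
    exact IsClosedImmersion.of_comp _ G''.hom
  · intro hu
    apply (main5373 S G G'' p).2.2 ⟨Z, q, r, hrq, hs, hf, hc⟩
    rw [v_eq u p hsq]
    have h1 : IsIso hsq.isoPullback.inv.left :=
      inferInstanceAs (IsIso ((Over.forget S).map hsq.isoPullback.inv))
    have h2 : IsClosedImmersion (G ◁ u).left :=
      MorphismProperty.of_isPullback (P := @IsClosedImmersion)
        (MaxOpenGrp.isPullback_whiskerLeft G G' G u).flip hu
    have : IsIso (lift μ[G] (fst G G)) := isIso_sigma
    have h3 : IsIso (lift μ[G] (fst G G)).left :=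
      inferInstanceAs (IsIso ((Over.forget S).map (lift μ[G] (fst G G))))
    rw [Over.comp_left, Over.comp_left]
    infer_instance

end Groth.Agent.Lib.Helper4.QuotKer
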