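import Mathlib.Tactic
import Mathlib.AlgebraicGeometry.Morphisms.FlatDescent
import Mathlib.AlgebraicGeometry.Morphisms.Flat
import Mathlib.RingTheory.Flat.FaithfullyFlat.Descent
import Mathlib.AlgebraicGeometry.Properties
import Groth.Prelude.Def_AlgGrp
import Groth.Agent.Lib.Helper4.QuotKer
import Groth.Agent.Lib.Helper4.GammaDesc

set_option backward.isDefEq.respectTransparency.types false

namespace Groth.Agent.Lib.Helper4.QuotFlat

open CategoryTheory Limits AlgebraicGeometry MonoidalCategory CartesianMonoidalCategory MonObj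
open FpqcCov QuotKer TensorProduct

universe u

theorem flat_of_faithfullyFlat_tower (A B C : Type*) [CommRing A] [CommRing B] [CommRing C]
    [Algebra A B] [Algebra B C] [Algebra A C] [IsScalarTower A B C]
    [Module.FaithfullyFlat B C] [Module.Flat A C] : Module.Flat A B := by
  rw [Module.Flat.iff_lTensor_preserves_injective_linearMap]
  intro N P _ _ _ _ f hf
  have h1 : Function.Injective (f.baseChange B) := by
    rw [← Module.FaithfullyFlat.lTensor_injective_iff_injective B C]
    have : LinearMap.lTensor C (f.baseChange B) =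
        ((AlgebraTensorModule.cancelBaseChange A B B C P).symm.toLinearMap.restrictScalars B) ∘ₗ
          ((f.baseChange C).restrictScalars B) ∘ₗ
          ((AlgebraTensorModule.cancelBaseChange A B B C N).toLinearMap.restrictScalars B) := by
      ext c n
      simp
    rw [this]
    have hC : Function.Injective (f.baseChange C) :=
      Module.Flat.lTensor_preserves_injective_linearMap (M := C) f hf
    exact ((AlgebraTensorModule.cancelBaseChange A B B C P).symm.injective).comp
      (hC.comp (AlgebraTensorModule.cancelBaseChange A B B C N).injective)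
  exact h1

theorem _root_.RingHom.Flat.of_comp_faithfullyFlat {A B C : Type*} [CommRing A] [CommRing B]
    [CommRing C] {f : A →+* B} {g : B →+* C} (hg : g.FaithfullyFlat) (h : (g.comp f).Flat) :
    f.Flat := by
  algebraize [f, g, g.comp f]
  exact flat_of_faithfullyFlat_tower A B C

theorem flat_codescends :
    RingHom.CodescendsAlong (fun f => f.Flat) RingHom.FaithfullyFlat := by
  apply RingHom.CodescendsAlong.mk _ RingHom.Flat.respectsIso
  introv h H
  rw [RingHom.faithfullyFlat_algebraMap_iff] at h
  rw [RingHom.flat_algebraMap_iff] at H ⊢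
  exact Module.Flat.of_flat_tensorProduct R T S

instance descendsAlong_flat :
    MorphismProperty.DescendsAlong @Flat.{u} (@Surjective ⊓ @Flat ⊓ @QuasiCompact) :=
  HasRingHomProperty.descendsAlong_flat flat_codescends

/-- flatness descends along a flat surjective morphism (source side) -/
theorem flat_of_flat_comp {X Y Z : Scheme.{u}} (f : X ⟶ Y) (g : Y ⟶ Z) [Flat f] [Surjective f]
    [Flat (f ≫ g)] : Flat g := by
  rw [Flat.iff_flat_stalkMap]
  intro y
  obtain ⟨x, rfl⟩ := f.surjective y
  have h1 : ((f ≫ g).stalkMap x).hom.Flat := Flat.stalkMap (f ≫ g) x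
  rw [Scheme.Hom.stalkMap_comp] at h1
  have h2 : (f.stalkMap x).hom.Flat := Flat.stalkMap f x
  have h3 : (f.stalkMap x).hom.FaithfullyFlat := by
    algebraize [(f.stalkMap x).hom]
    exact @Module.FaithfullyFlat.of_flat_of_isLocalHom _ _ _ _ _ _ _
      (Flat.stalkMap f x) (f.toLRSHom.prop x)
  exact RingHom.Flat.of_comp_faithfullyFlat h3 h1

end Groth.Agent.Lib.Helper4.QuotFlat

namespace Groth.Agent.Lib.Helper4.QuotFlat

open CategoryTheory Limits AlgebraicGeometry MonoidalCategory CartesianMonoidalCategory MonObj
open FpqcCov QuotKer TensorProduct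

universe u

theorem isReduced_of_dominated {Z X Y : Scheme.{u}} (r : Z ⟶ X) (f : X ⟶ Y) [Flat (r ≫ f)]
    [Surjective (r ≫ f)] [IsReduced X] : IsReduced Y := by
  have : ∀ y : Y, _root_.IsReduced (Y.presheaf.stalk y) := by
    intro y
    obtain ⟨z, rfl⟩ := (r ≫ f).surjective y
    have h3 : ((r ≫ f).stalkMap z).hom.FaithfullyFlat := by
      algebraize [((r ≫ f).stalkMap z).hom]
      exact @Module.FaithfullyFlat.of_flat_of_isLocalHom _ _ _ _ _ _ _
        (Flat.stalkMap (r ≫ f) z) ((r ≫ f).toLRSHom.prop z)
    have h4 := h3.injective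
    have key : ∀ a : Y.presheaf.stalk (f (r z)), ((r ≫ f).stalkMap z).hom a =
        (r.stalkMap z).hom ((f.stalkMap (r z)).hom a) := by
      intro a
      rw [Scheme.Hom.stalkMap_comp]
      rfl
    have h5 : Function.Injective (f.stalkMap (r z)).hom := by
      intro a b hab
      apply h4
      rw [key, key, hab]
    exact isReduced_of_injective (f.stalkMap (r z)).hom h5
  exact isReduced_of_isReduced_stalk Y

theorem main5370 (S : Scheme.{u}) (G G' G'' : Over S) [GrpObj G] [GrpObj G']
    (u : G' ⟶ G) [IsMonHom u] [Mono u] (p : G ⟶ G'')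
    (hcov : (∃ (Z : Scheme.{u}) (q : Z ⟶ G''.left) (r : Z ⟶ G.left), r ≫ p.left = q ∧ Surjective q ∧ Flat q ∧
        ∀ V : G''.left.Opens, IsAffineOpen V → ∃ W : Z.Opens, IsCompact (W : Set Z) ∧ q.base '' (W : Set Z) = (V : Set G''.left)))
    (hsq : IsPullback ((G ◁ u) ≫ μ[G]) (fst G G') p p) :
    (IsReduced G.left → IsReduced G''.left) ∧
    (Flat G'.hom ↔ Flat p.left) ∧ (Flat p.left → (Flat G''.hom ↔ Flat G.hom)) := by
  obtain ⟨Z, q, r, hrq, hs, hf, hc⟩ := hcov
  have hq : IsCov (r ≫ p.left) := by rw [hrq]; exact ⟨hs, hf, hc⟩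
  have hs' : Surjective (r ≫ p.left) := hq.1
  have hf' : Flat (r ≫ p.left) := hq.2.1
  have sq := hsq.map (Over.forget S)
  simp only [Over.forget_map] at sq
  have squ := (isPullback_unit (G := G) (G' := G')).map (Over.forget S)
  simp only [Over.forget_map] at squ
  have hGw : p.left ≫ G''.hom = G.hom := Over.w p
  refine ⟨fun _ => isReduced_of_dominated r p.left, ⟨?_, ?_⟩, ?_⟩
  · intro h
    have hfst : Flat (fst G G').left := by
      rw [Over.fst_left]
      exact MorphismProperty.pullback_fst (P := @Flat) _ _ h
    exact descends_of_dominated' @Flat hq sq hfst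
  · intro h
    have hfst : Flat (fst G G').left := MorphismProperty.of_isPullback (P := @Flat) sq h
    have := MorphismProperty.of_isPullback (P := @Flat) squ hfst
    rwa [Over.toUnit_left] at this
  · intro h
    have : Surjective p.left := Surjective.of_comp r p.left
    constructor
    · intro h2
      rw [← hGw]
      infer_instance
    · intro h2
      have : Flat (p.left ≫ G''.hom) := by rw [hGw]; exact h2
      exact flat_of_flat_comp p.left G''.hom

end Groth.Agent.Lib.Helper4.QuotFlat
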