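import Mathlib.Tactic
import Mathlib.AlgebraicGeometry.Morphisms.Separated
import Mathlib.AlgebraicGeometry.Morphisms.FinitePresentation
import Groth.Prelude.Def_AlgGrp

set_option autoImplicit false
universe u
open CategoryTheory MonoidalCategory CartesianMonoidalCategory MonObj AlgebraicGeometry Limits

namespace Groth.Agent.Lib.Helper4.CentralizerClosed

set_option backward.isDefEq.respectTransparency false in
theorem lfp_of_comp {X Y Z : Scheme.{u}} (f : X ⟶ Y) (g : Y ⟶ Z)
    (h : LocallyOfFinitePresentation (f ≫ g)) (hg : LocallyOfFiniteType g) :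
    LocallyOfFinitePresentation f := by
  wlog hZ : IsAffine Z generalizing X Y Z
  · rw [IsZariskiLocalAtTarget.iff_of_iSup_eq_top (P := @LocallyOfFinitePresentation.{u}) _
      (g.iSup_preimage_eq_top (iSup_affineOpens_eq_top Z))]
    intro U
    have H := IsZariskiLocalAtTarget.restrict h U.1
    rw [morphismRestrict_comp] at H
    have Hg := IsZariskiLocalAtTarget.restrict hg U.1
    exact this _ _ H Hg inferInstance
  wlog hY : IsAffine Y generalizing X Y
  · rw [IsZariskiLocalAtTarget.iff_of_iSup_eq_top (P := @LocallyOfFinitePresentation.{u}) _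
      (iSup_affineOpens_eq_top Y)]
    intro U
    have H : LocallyOfFinitePresentation ((f ⁻¹ᵁ U.1).ι ≫ f ≫ g) := inferInstance
    rw [← morphismRestrict_ι_assoc] at H
    have Hg : LocallyOfFiniteType (U.1.ι ≫ g) := inferInstance
    exact this _ _ H Hg inferInstance
  wlog hX : IsAffine X generalizing X
  · rw [IsZariskiLocalAtSource.iff_of_iSup_eq_top (P := @LocallyOfFinitePresentation.{u}) _
      (iSup_affineOpens_eq_top X)]
    intro U
    have H : LocallyOfFinitePresentation (U.1.ι ≫ f ≫ g) := inferInstance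
    rw [← Category.assoc] at H
    exact this _ H inferInstance
  rw [HasRingHomProperty.iff_of_isAffine (P := @LocallyOfFinitePresentation.{u})] at h ⊢
  rw [HasRingHomProperty.iff_of_isAffine (P := @LocallyOfFiniteType.{u})] at hg
  rw [Scheme.Hom.comp_appTop] at h
  exact RingHom.FinitePresentation.of_comp_finiteType _ h hg

end Groth.Agent.Lib.Helper4.CentralizerClosed

namespace Groth.Agent.Lib.Helper4.CentralizerClosed

set_option backward.isDefEq.respectTransparency false in
theorem lfp_diagonal {X Y : Scheme.{u}} (f : X ⟶ Y) [LocallyOfFiniteType f] :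
    LocallyOfFinitePresentation (pullback.diagonal f) := by
  apply lfp_of_comp (pullback.diagonal f) (pullback.fst f f)
  · rw [pullback.diagonal_fst]; infer_instance
  · infer_instance

set_option backward.isDefEq.respectTransparency false in
theorem lfp_equalizer_ι_left {S : Scheme.{u}} {X Y : Over S} [LocallyOfFiniteType Y.hom]
    (f g : X ⟶ Y) : LocallyOfFinitePresentation (equalizer.ι f g).left := by
  refine MorphismProperty.of_isPullback (P := @LocallyOfFinitePresentation.{u})
    ((Limits.isPullback_equalizer_prod f g).map (Over.forget _)).flip ?_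
  rw [← MorphismProperty.cancel_right_of_respectsIso @LocallyOfFinitePresentation _
    (Over.prodLeftIsoPullback Y Y).hom]
  convert! (lfp_diagonal Y.hom)
  ext1 <;> simp [← Over.comp_left]

theorem main {S : Scheme.{u}} (G : Over S) [GrpObj G]
    [IsAffineHom G.hom] [LocallyOfFinitePresentation G.hom] (g : 𝟙_ (Over S) ⟶ G) :
    ∃ (Z : Over S) (j : Z ⟶ G), IsClosedImmersion j.left ∧ LocallyOfFinitePresentation j.left ∧
      ∀ (T : Over S) (x : T ⟶ G), (∃ z : T ⟶ Z, z ≫ j = x) ↔
        x * (toUnit T ≫ g) = (toUnit T ≫ g) * x := by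
  let a : G ⟶ G := 𝟙 G * (toUnit G ≫ g)
  let b : G ⟶ G := (toUnit G ≫ g) * 𝟙 G
  have ha : ∀ (T : Over S) (x : T ⟶ G), x ≫ a = x * (toUnit T ≫ g) := by
    intro T x
    show x ≫ (𝟙 G * (toUnit G ≫ g)) = _
    rw [MonObj.comp_mul, Category.comp_id, ← Category.assoc]
    congr 2
    exact toUnit_unique _ _
  have hb : ∀ (T : Over S) (x : T ⟶ G), x ≫ b = (toUnit T ≫ g) * x := by
    intro T x
    show x ≫ ((toUnit G ≫ g) * 𝟙 G) = _
    rw [MonObj.comp_mul, Category.comp_id, ← Category.assoc]
    congr 2
    exact toUnit_unique _ _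
  refine ⟨equalizer a b, equalizer.ι a b, inferInstance, lfp_equalizer_ι_left a b, fun T x => ?_⟩
  rw [← ha, ← hb]
  constructor
  · rintro ⟨z, rfl⟩
    rw [Category.assoc, Category.assoc, equalizer.condition]
  · intro h
    exact ⟨equalizer.lift x h, equalizer.lift_ι _ _⟩

end Groth.Agent.Lib.Helper4.CentralizerClosed
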