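import Mathlib.Tactic
import Mathlib.RingTheory.MvPolynomial.EulerIdentity
import Mathlib.Algebra.DualNumber
import Mathlib.RingTheory.LocalRing.MaximalIdeal.Basic
import Mathlib.RingTheory.Ideal.Quotient.Operations

open MvPolynomial

namespace Groth.Agent.Lib.Helper4.CartierAlg

universe u

section chain

variable {R S σ : Type*} [CommRing R] [CommRing S] [Algebra R S] [Fintype σ] [DecidableEq σ]

lemma fst_aeval (Y : σ → DualNumber S) (F : MvPolynomial σ R) :
    (aeval Y F).fst = aeval (fun j => (Y j).fst) F := by
  exact MvPolynomial.comp_aeval_apply Y (TrivSqZeroExt.fstHom R S S) F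

/-- First order Taylor expansion in the dual numbers. -/
lemma snd_aeval (Y : σ → DualNumber S) (F : MvPolynomial σ R) :
    (aeval Y F).snd = ∑ j, aeval (fun j => (Y j).fst) (pderiv j F) * (Y j).snd := by
  induction F using MvPolynomial.induction_on with
  | C a =>
    simp [TrivSqZeroExt.algebraMap_eq_inl']
  | add p q hp hq =>
    simp only [map_add, TrivSqZeroExt.snd_add, hp, hq, add_mul, Finset.sum_add_distrib]
  | mul_X p i hp =>
    rw [map_mul, aeval_X, TrivSqZeroExt.snd_mul, hp, fst_aeval]
    simp only [Derivation.leibniz, pderiv_X, smul_eq_mul, map_add, map_mul, aeval_X,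
      MulOpposite.smul_eq_mul_unop, MulOpposite.unop_op, add_mul]
    rw [Finset.sum_mul, Finset.sum_add_distrib]
    congr 1
    · rw [Finset.sum_eq_single i]
      · simp
      · intro j _ hj
        simp [Pi.single_apply, hj]
      · simp
    · refine Finset.sum_congr rfl fun j _ => ?_
      ring

end chain

section deriv

variable {A B : Type*} [CommRing A] [CommRing B]

/-- The second component of a ring hom into dual numbers lowers the adic order by at most one. -/
lemma snd_mem_map_pow (Φ : A →+* DualNumber B) (π : A →+* B) (hπ : ∀ a, (Φ a).fst = π a)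
    (I : Ideal A) (r : ℕ) {a : A} (ha : a ∈ I ^ (r + 1)) :
    (Φ a).snd ∈ (I ^ r).map π := by
  induction r generalizing a with
  | zero => simp [Ideal.map_top]
  | succ r ih =>
    rw [pow_succ] at ha
    refine Submodule.mul_induction_on ha ?_ ?_
    · intro b hb c hc
      rw [map_mul, TrivSqZeroExt.snd_mul, hπ, hπ]
      refine Ideal.add_mem _ ?_ ?_
      · exact Ideal.mul_mem_right _ _ (Ideal.mem_map_of_mem π hb)
      · rw [MulOpposite.smul_eq_mul_unop, MulOpposite.unop_op, pow_succ, Ideal.map_mul]
        exact Ideal.mul_mem_mul (ih hb) (Ideal.mem_map_of_mem π hc)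
    · intro x y hx hy
      rw [map_add, TrivSqZeroExt.snd_add]
      exact Ideal.add_mem _ hx hy

end deriv

section homog

variable {R A σ : Type*} [CommRing R] [CommRing A] [Algebra R A]

/-- Evaluating a homogeneous polynomial of degree `d` at elements of an ideal `I` lands in `I ^ d`. -/
lemma aeval_mem_pow_of_isHomogeneous (I : Ideal A) (x : σ → A) (hx : ∀ j, x j ∈ I)
    {F : MvPolynomial σ R} {d : ℕ} (hF : F.IsHomogeneous d) : aeval x F ∈ I ^ d := by
  rw [F.as_sum, map_sum]
  refine Ideal.sum_mem _ fun α hα => ?_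
  rw [aeval_monomial]
  refine Ideal.mul_mem_left _ _ ?_
  have hdeg : (α.sum fun _ c => c) = d := by
    have := hF (mem_support_iff.mp hα)
    rw [Finsupp.weight_apply] at this
    simpa using this
  rw [← hdeg, Finsupp.prod, Finsupp.sum, ← Finset.prod_pow_eq_pow_sum]
  exact Ideal.prod_mem_prod fun i _ => Ideal.pow_mem_pow (hx i) _

end homog

section key

open IsLocalRing

variable {k A : Type*} [Field k] [CharZero k] [CommRing A] [IsLocalRing A] [Algebra k A]
variable {n : ℕ} (x : Fin n → A)

/-- Existence of the infinitesimal translations in the coordinate directions. -/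
def HasTranslations : Prop :=
  ∀ (N : ℕ) (i : Fin n), ∃ Φ : A →ₐ[k] DualNumber (A ⧸ (maximalIdeal A) ^ (N + 1)),
    (∀ a, (Φ a).fst = Ideal.Quotient.mk _ a) ∧
    ∀ j, (Φ (x j)).snd - (if j = i then 1 else 0) ∈
      (maximalIdeal A).map (Ideal.Quotient.mk ((maximalIdeal A) ^ (N + 1)))

variable {x}

lemma eq_zero_of_aeval_mem_pow_succ (hx : ∀ j, x j ∈ maximalIdeal A) (H : HasTranslations (k := k) x)
    (d : ℕ) (F : MvPolynomial (Fin n) k) (hF : F.IsHomogeneous d)
    (hmem : aeval x F ∈ (maximalIdeal A) ^ (d + 1)) : F = 0 := by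
  induction d generalizing F with
  | zero =>
    rw [← totalDegree_zero_iff_isHomogeneous, totalDegree_eq_zero_iff_eq_C] at hF
    rw [hF] at hmem ⊢
    rw [aeval_C, zero_add, pow_one] at hmem
    by_contra hne
    have hc : coeff 0 F ≠ 0 := fun h0 => hne (by rw [h0, map_zero])
    have : IsUnit (algebraMap k A (coeff 0 F)) := (IsUnit.mk0 _ hc).map _
    exact (IsLocalRing.mem_maximalIdeal _).mp hmem this
  | succ d ih =>
    -- all partial derivatives vanish
    have hpd : ∀ i, pderiv i F = 0 := by
      intro i
      obtain ⟨Φ, hΦ1, hΦ2⟩ := H d i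
      refine ih _ (hF.pderiv (i := i)) ?_
      set m := maximalIdeal A
      set π := Ideal.Quotient.mk (m ^ (d + 1))
      -- second component of Φ (aeval x F) is zero
      have h0 : (Φ (aeval x F)).snd = 0 := by
        have := snd_mem_map_pow (Φ : A →+* DualNumber (A ⧸ m ^ (d + 1))) π hΦ1 m (d + 1) hmem
        rwa [Ideal.map_quotient_self, Ideal.mem_bot] at this
      rw [MvPolynomial.comp_aeval_apply x Φ F, snd_aeval] at h0
      have h1 : ∀ j, aeval (fun j => (Φ (x j)).fst) (pderiv j F) = π (aeval x (pderiv j F)) := by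
        intro j
        have : (fun j => (Φ (x j)).fst) = fun j => (Ideal.Quotient.mkₐ k (m ^ (d+1))) (x j) := by
          funext j; exact hΦ1 _
        rw [this]
        exact (MvPolynomial.comp_aeval_apply x (Ideal.Quotient.mkₐ k (m ^ (d+1))) _).symm
      have h2 : ∀ j, π (aeval x (pderiv j F)) * ((Φ (x j)).snd - (if j = i then 1 else 0)) = 0 := by
        intro j
        have ha : π (aeval x (pderiv j F)) ∈ (m ^ d).map π :=
          Ideal.mem_map_of_mem _ (aeval_mem_pow_of_isHomogeneous m x hx (hF.pderiv (i := j)))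
        have := Ideal.mul_mem_mul ha (hΦ2 j)
        rwa [← Ideal.map_mul, ← pow_succ, Ideal.map_quotient_self, Ideal.mem_bot] at this
      simp only [h1] at h0
      have h3 : ∑ j, π (aeval x (pderiv j F)) * (if j = i then 1 else 0) = 0 := by
        refine Eq.trans (Finset.sum_congr rfl fun j _ => ?_) h0
        have := h2 j
        rw [mul_sub, sub_eq_zero] at this
        exact this.symm
      simp only [mul_ite, mul_one, mul_zero, Finset.sum_ite_eq', Finset.mem_univ, if_true] at h3
      exact Ideal.Quotient.eq_zero_iff_mem.mp h3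

    have hE := hF.sum_X_mul_pderiv
    simp only [hpd, mul_zero, Finset.sum_const_zero] at hE
    have hd : ((d + 1 : ℕ) : k) ≠ 0 := Nat.cast_ne_zero.mpr (Nat.succ_ne_zero d)
    rw [← Nat.cast_smul_eq_nsmul k] at hE
    exact (smul_eq_zero.mp hE.symm).resolve_left hd

end key

end Groth.Agent.Lib.Helper4.CartierAlg
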