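import Mathlib.Tactic
import Mathlib.RingTheory.Filtration
import Groth.Agent.Lib.Helper4.CartierAlg

open MvPolynomial IsLocalRing

namespace Groth.Agent.Lib.Helper4.CartierAlg2

open Groth.Agent.Lib.Helper4.CartierAlg

section approx

variable {k A : Type*} [Field k] [CommRing A] [IsLocalRing A] [Algebra k A]
variable (ev : A →ₐ[k] k) {n : ℕ} (x : Fin n → A)

include ev in
lemma sub_algebraMap_mem (a : A) : a - algebraMap k A (ev a) ∈ maximalIdeal A := by
  rw [IsLocalRing.mem_maximalIdeal, mem_nonunits_iff]
  intro h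
  have := h.map ev
  rw [map_sub, AlgHom.commutes, Algebra.algebraMap_self_apply, sub_self] at this
  exact not_isUnit_zero this

include ev in
lemma ev_eq_zero_of_mem {a : A} (ha : a ∈ maximalIdeal A) : ev a = 0 := by
  by_contra h
  have h1 : IsUnit (algebraMap k A (ev a)) := (IsUnit.mk0 _ h).map _
  have h2 := sub_algebraMap_mem ev a
  have : algebraMap k A (ev a) ∈ maximalIdeal A := by
    have := Ideal.sub_mem _ ha h2
    simpa using this
  exact (IsLocalRing.mem_maximalIdeal _).mp this h1

include ev in
lemma mem_of_ev_eq_zero {a : A} (ha : ev a = 0) : a ∈ maximalIdeal A := by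
  have := sub_algebraMap_mem ev a
  rwa [ha, map_zero, sub_zero] at this

include ev in
/-- Every element of `m ^ d` is a homogeneous polynomial of degree `d` in `x` modulo `m ^ (d+1)`. -/
lemma exists_homogeneous_approx (hx : ∀ j, x j ∈ maximalIdeal A)
    (hx2 : ∀ a ∈ maximalIdeal A, ∃ c : Fin n → k,
      a - ∑ j, algebraMap k A (c j) * x j ∈ (maximalIdeal A) ^ 2)
    (d : ℕ) {a : A} (ha : a ∈ (maximalIdeal A) ^ d) :
    ∃ F : MvPolynomial (Fin n) k, F.IsHomogeneous d ∧ a - aeval x F ∈ (maximalIdeal A) ^ (d + 1) := by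
  induction d generalizing a with
  | zero =>
    refine ⟨C (ev a), isHomogeneous_C _ _, ?_⟩
    rw [aeval_C, zero_add, pow_one]
    exact sub_algebraMap_mem ev a
  | succ d ih =>
    rw [pow_succ] at ha
    refine Submodule.mul_induction_on ha ?_ ?_
    · intro b hb c hc
      obtain ⟨F, hF, hFb⟩ := ih hb
      obtain ⟨co, hco⟩ := hx2 c hc
      refine ⟨F * ∑ j, C (co j) * X j, ?_, ?_⟩
      · refine hF.mul (IsHomogeneous.sum _ _ _ fun j _ => ?_)
        have := (isHomogeneous_C (Fin n) (co j)).mul (isHomogeneous_X k j)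
        simpa using this
      · have e1 : aeval x (F * ∑ j, C (co j) * X j) = aeval x F * ∑ j, algebraMap k A (co j) * x j := by
          simp [map_sum]
        rw [e1]
        have e2 : b * c - aeval x F * ∑ j, algebraMap k A (co j) * x j
            = (b - aeval x F) * c + aeval x F * (c - ∑ j, algebraMap k A (co j) * x j) := by ring
        rw [e2]
        refine Ideal.add_mem _ ?_ ?_
        · have := Ideal.mul_mem_mul hFb hc
          rwa [← pow_succ] at this
        · have := Ideal.mul_mem_mul (aeval_mem_pow_of_isHomogeneous (maximalIdeal A) x hx hF) hco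
          rwa [← pow_add] at this
    · rintro a b ⟨F, hF, hFa⟩ ⟨G, hG, hGb⟩
      refine ⟨F + G, hF.add hG, ?_⟩
      rw [map_add]
      have : a + b - (aeval x F + aeval x G) = (a - aeval x F) + (b - aeval x G) := by ring
      rw [this]
      exact Ideal.add_mem _ hFa hGb

end approx

section pow

variable {A : Type*} [CommRing A]

lemma pow_sub_pow_mem (I : Ideal A) (d : ℕ) {a b : A} (ha : a ∈ I ^ d) (hb : b ∈ I ^ d)
    (hab : a - b ∈ I ^ (d + 1)) (M : ℕ) : a ^ M - b ^ M ∈ I ^ (d * M + 1) := by
  induction M with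
  | zero => simp
  | succ M ih =>
    have e : a ^ (M + 1) - b ^ (M + 1) = a * (a ^ M - b ^ M) + (a - b) * b ^ M := by ring
    rw [e]
    refine Ideal.add_mem _ ?_ ?_
    · have := Ideal.mul_mem_mul ha ih
      rw [← pow_add] at this
      convert this using 2
      ring
    · have := Ideal.mul_mem_mul hab (Ideal.pow_mem_pow hb M)
      rw [← pow_mul, ← pow_add] at this
      convert this using 2
      ring

end pow

section reduced

variable {k A : Type*} [Field k] [CharZero k] [CommRing A] [IsLocalRing A] [IsNoetherianRing A]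
  [Algebra k A]
variable (ev : A →ₐ[k] k) {n : ℕ} (x : Fin n → A)

include ev in
theorem isReduced_of_hasTranslations (hx : ∀ j, x j ∈ maximalIdeal A)
    (hx2 : ∀ a ∈ maximalIdeal A, ∃ c : Fin n → k,
      a - ∑ j, algebraMap k A (c j) * x j ∈ (maximalIdeal A) ^ 2)
    (H : HasTranslations (k := k) x) : IsReduced A := by
  refine ⟨fun a ha => ?_⟩
  by_contra hne
  obtain ⟨M, hM⟩ := ha
  set m := maximalIdeal A
  -- find d with a ∈ m^d, a ∉ m^(d+1)
  have hex : ∃ d, a ∉ m ^ (d + 1) := by
    by_contra hall
    push Not at hall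
    have h2 : a ∈ ⨅ i, m ^ i := by
      rw [Ideal.mem_iInf]
      intro i
      cases i with
      | zero => simp
      | succ i => exact hall i
    rw [Ideal.iInf_pow_eq_bot_of_isLocalRing m Ideal.IsPrime.ne_top'] at h2
    exact hne h2
  classical
  let d := Nat.find hex
  have hd1 : a ∉ m ^ (d + 1) := Nat.find_spec hex
  have hd0 : a ∈ m ^ d := by
    rcases Nat.eq_zero_or_pos d with h0 | hpos
    · rw [h0]; simp
    · have := Nat.find_min hex (m := d - 1) (by omega)
      rw [not_not] at this
      convert this using 2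
      omega
  obtain ⟨F, hF, hFa⟩ := exists_homogeneous_approx ev x hx hx2 d hd0
  have hFne : F ≠ 0 := by
    rintro rfl
    rw [map_zero, sub_zero] at hFa
    exact hd1 hFa
  have h1 := pow_sub_pow_mem m d hd0 (aeval_mem_pow_of_isHomogeneous m x hx hF) hFa M
  rw [hM, zero_sub, neg_mem_iff, ← map_pow] at h1
  have h2 := eq_zero_of_aeval_mem_pow_succ hx H (d * M) (F ^ M) (hF.pow M) h1
  exact hFne (eq_zero_of_pow_eq_zero h2)

end reduced

end Groth.Agent.Lib.Helper4.CartierAlg2
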