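import Mathlib.Tactic
import Mathlib.RingTheory.Ideal.Cotangent
import Mathlib.LinearAlgebra.Dimension.Free
import Groth.Agent.Lib.Helper4.CartierAlg
import Groth.Agent.Lib.Helper4.CartierAlg2

open MvPolynomial IsLocalRing

namespace Groth.Agent.Lib.Helper4.CartierAlg3

open Groth.Agent.Lib.Helper4.CartierAlg

section tangent

variable {k A : Type*} [Field k] [CommRing A] [IsLocalRing A] [Algebra k A]
variable (ev : A →ₐ[k] k)

lemma sub_algebraMap_mem' (a : A) : a - algebraMap k A (ev a) ∈ maximalIdeal A := by
  rw [IsLocalRing.mem_maximalIdeal, mem_nonunits_iff]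
  intro h
  have := h.map ev
  rw [map_sub, AlgHom.commutes, Algebra.algebraMap_self_apply, sub_self] at this
  exact not_isUnit_zero this

/-- projection `A → m`, `a ↦ a - ev a`. -/
noncomputable def projMax : A →ₗ[k] maximalIdeal A where
  toFun a := ⟨a - algebraMap k A (ev a), sub_algebraMap_mem' ev a⟩
  map_add' a b := by
    ext
    simp only [map_add, Submodule.coe_add]
    ring
  map_smul' c a := by
    ext
    simp only [RingHom.id_apply, Submodule.coe_smul_of_tower, Algebra.smul_def, map_mul]
    rw [AlgHom.commutes, Algebra.algebraMap_self_apply]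
    ring

/-- the cotangent class of `a - ev a`. -/
noncomputable def cotClass : A →ₗ[k] (maximalIdeal A).Cotangent :=
  ((maximalIdeal A).toCotangent.restrictScalars k).comp (projMax ev)

lemma cotClass_apply (a : A) :
    cotClass ev a = (maximalIdeal A).toCotangent ⟨a - algebraMap k A (ev a), sub_algebraMap_mem' ev a⟩ := rfl

lemma cotClass_mul (a b : A) :
    cotClass ev (a * b) = ev a • cotClass ev b + ev b • cotClass ev a := by
  simp only [cotClass_apply]
  rw [← algebraMap_smul A (ev a), ← algebraMap_smul A (ev b), ← map_smul, ← map_smul, ← map_add,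
    Ideal.toCotangent_eq]
  simp only [map_mul, Submodule.coe_add, Submodule.coe_smul, smul_eq_mul]
  have : a * b - algebraMap k A (ev a) * algebraMap k A (ev b) -
      (algebraMap k A (ev a) * (b - algebraMap k A (ev b)) +
        algebraMap k A (ev b) * (a - algebraMap k A (ev a)))
      = (a - algebraMap k A (ev a)) * (b - algebraMap k A (ev b)) := by ring
  rw [this, pow_two]
  exact Ideal.mul_mem_mul (sub_algebraMap_mem' ev a) (sub_algebraMap_mem' ev b)

lemma cotClass_algebraMap (c : k) : cotClass ev (algebraMap k A c) = 0 := by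
  rw [cotClass_apply, Ideal.toCotangent_eq_zero]
  simp

/-- tangent vector associated to a functional on the cotangent space. -/
noncomputable def tangentVec (l : (maximalIdeal A).Cotangent →ₗ[k] k) : A →ₐ[k] DualNumber k where
  toFun a := TrivSqZeroExt.inl (ev a) + TrivSqZeroExt.inr (l (cotClass ev a))
  map_one' := by
    have : cotClass ev (1 : A) = 0 := by simpa using cotClass_algebraMap ev 1
    rw [this]
    simp
  map_mul' a b := by
    rw [cotClass_mul]
    ext <;> simp [mul_comm]
  map_zero' := by simp
  map_add' a b := by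
    ext <;> simp
  commutes' c := by
    rw [cotClass_algebraMap]
    simp [TrivSqZeroExt.algebraMap_eq_inl]

@[simp] lemma tangentVec_fst (l : (maximalIdeal A).Cotangent →ₗ[k] k) (a : A) :
    (tangentVec ev l a).fst = ev a := by
  simp [tangentVec]

@[simp] lemma tangentVec_snd (l : (maximalIdeal A).Cotangent →ₗ[k] k) (a : A) :
    (tangentVec ev l a).snd = l (cotClass ev a) := by
  simp [tangentVec]

end tangent

section main

variable {k A : Type*} [Field k] [CharZero k] [CommRing A] [IsLocalRing A] [IsNoetherianRing A]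
  [Algebra k A]
variable (ev : A →ₐ[k] k)

omit [CharZero k] [IsNoetherianRing A] in
lemma smul_cotangent (a : A) (v : (maximalIdeal A).Cotangent) : a • v = ev a • v := by
  have := Ideal.Cotangent.smul_eq_zero_of_mem (sub_algebraMap_mem' ev a) v
  rw [sub_smul, sub_eq_zero, algebraMap_smul] at this
  exact this

omit [CharZero k] in
include ev in
lemma finite_cotangent : Module.Finite k (maximalIdeal A).Cotangent := by
  have : Module.Finite A (maximalIdeal A).Cotangent :=
    Module.Finite.of_surjective (maximalIdeal A).toCotangent (Ideal.toCotangent_surjective _)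
  obtain ⟨s, hs⟩ := this.fg_top
  refine ⟨⟨s, ?_⟩⟩
  rw [eq_top_iff]
  rintro v -
  have hv : v ∈ Submodule.span A (s : Set _) := by rw [hs]; trivial
  induction hv using Submodule.span_induction with
  | mem x hx => exact Submodule.subset_span hx
  | zero => exact zero_mem _
  | add x y _ _ hx hy => exact add_mem hx hy
  | smul a x _ hx => rw [smul_cotangent ev]; exact Submodule.smul_mem _ _ hx

theorem isReduced_of_translations
    (H : ∀ (N : ℕ) (v : A →ₐ[k] DualNumber k), (∀ a, (v a).fst = ev a) →
      ∃ Φ : A →ₐ[k] DualNumber (A ⧸ (maximalIdeal A) ^ (N + 1)),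
        (∀ a, (Φ a).fst = Ideal.Quotient.mk _ a) ∧
        ∀ a b, (Φ a).snd = Ideal.Quotient.mk _ b → ev b = (v a).snd) : IsReduced A := by
  have := finite_cotangent ev
  let b := Module.finBasis k (maximalIdeal A).Cotangent
  choose x' hx' using fun j : Fin (Module.finrank k (maximalIdeal A).Cotangent) =>
    Ideal.toCotangent_surjective (maximalIdeal A) (b j)
  have hx : ∀ j, (x' j : A) ∈ maximalIdeal A := fun j => (x' j).2
  have hx2 : ∀ a ∈ maximalIdeal A, ∃ c : Fin (Module.finrank k (maximalIdeal A).Cotangent) → k,
      a - ∑ j, algebraMap k A (c j) * (x' j : A) ∈ (maximalIdeal A) ^ 2 := by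
    intro a ha
    refine ⟨fun j => b.repr ((maximalIdeal A).toCotangent ⟨a, ha⟩) j, ?_⟩
    have h1 : (maximalIdeal A).toCotangent ⟨a, ha⟩ = (maximalIdeal A).toCotangent
        (∑ j, (algebraMap k A (b.repr ((maximalIdeal A).toCotangent ⟨a, ha⟩) j)) • x' j) := by
      rw [map_sum]
      simp_rw [map_smul, hx', algebraMap_smul]
      exact (b.sum_repr _).symm
    rw [Ideal.toCotangent_eq] at h1
    convert h1 using 2
    simp [Algebra.smul_def]
  refine CartierAlg2.isReduced_of_hasTranslations ev (fun j => (x' j : A)) hx hx2 ?_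
  intro N i
  obtain ⟨Φ, h1, h2⟩ := H N (tangentVec ev (b.coord i)) (tangentVec_fst ev _)
  refine ⟨Φ, h1, fun j => ?_⟩
  obtain ⟨bb, hbb⟩ := Ideal.Quotient.mk_surjective (Φ (x' j : A)).snd
  have h3 := h2 (x' j : A) bb hbb.symm
  rw [tangentVec_snd] at h3
  have h4 : cotClass ev (x' j : A) = b j := by
    rw [cotClass_apply, ← hx' j]
    congr 1
    ext
    simp [CartierAlg2.ev_eq_zero_of_mem ev (hx j)]
  rw [h4, Module.Basis.coord_apply, b.repr_self, Finsupp.single_apply] at h3
  rw [← hbb]
  have h5 : bb - (if j = i then 1 else 0) ∈ maximalIdeal A := by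
    apply CartierAlg2.mem_of_ev_eq_zero ev
    rw [map_sub, h3]
    split_ifs <;> simp_all
  have := Ideal.mem_map_of_mem (Ideal.Quotient.mk ((maximalIdeal A) ^ (N + 1))) h5
  convert this using 1
  rw [map_sub]
  congr 1
  split_ifs <;> simp

end main

end Groth.Agent.Lib.Helper4.CartierAlg3
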