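import Mathlib.Tactic
import Mathlib.Algebra.DualNumber
import Mathlib.RingTheory.LocalRing.RingHom.Basic

namespace Groth.Agent.Lib.Helper4.CartierDual

section dmap

variable {R S T : Type*} [CommRing R] [CommRing S] [CommRing T]

/-- functoriality of dual numbers in the ring -/
def dmap (f : R →+* S) : DualNumber R →+* DualNumber S where
  toFun x := TrivSqZeroExt.inl (f x.fst) + TrivSqZeroExt.inr (f x.snd)
  map_one' := by ext <;> simp
  map_mul' x y := by ext <;> simp [mul_comm]
  map_zero' := by ext <;> simp
  map_add' x y := by ext <;> simp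

@[simp] lemma dmap_fst (f : R →+* S) (x : DualNumber R) : (dmap f x).fst = f x.fst := by
  simp [dmap]

@[simp] lemma dmap_snd (f : R →+* S) (x : DualNumber R) : (dmap f x).snd = f x.snd := by
  simp [dmap]

@[simp] lemma dmap_inl (f : R →+* S) (r : R) :
    dmap f (TrivSqZeroExt.inl r) = TrivSqZeroExt.inl (f r) := by
  ext <;> simp

lemma dmap_id_apply (x : DualNumber R) : dmap (RingHom.id R) x = x := by
  ext <;> simp

lemma dmap_comp_apply (f : R →+* S) (g : S →+* T) (x : DualNumber R) :
    dmap g (dmap f x) = dmap (g.comp f) x := by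
  ext <;> simp

instance isLocalHom_fst : IsLocalHom (TrivSqZeroExt.fstHom R R R).toRingHom :=
  ⟨fun _ hx => TrivSqZeroExt.isUnit_iff_isUnit_fst.mpr hx⟩

instance isLocalRing_dualNumber [IsLocalRing R] : IsLocalRing (DualNumber R) :=
  RingHom.domain_isLocalRing (TrivSqZeroExt.fstHom R R R).toRingHom

end dmap

end Groth.Agent.Lib.Helper4.CartierDual
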