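import Mathlib.Tactic
import Mathlib.AlgebraicGeometry.Stalk
import Mathlib.CategoryTheory.Monoidal.Cartesian.Over
import Mathlib.CategoryTheory.Monoidal.Cartesian.Mon

open CategoryTheory AlgebraicGeometry Limits IsLocalRing MonoidalCategory CartesianMonoidalCategory MonObj

namespace Groth.Agent.Lib.Helper4.CartierGeom

universe u

section pt

variable {K : Type u} [Field K] (G : Over (Spec (CommRingCat.of K))) (e : G.left)

/-- The structure map `K ⟶ 𝒪_{G,e}`. -/
noncomputable def strMap : CommRingCat.of K ⟶ G.left.presheaf.stalk e :=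
  Spec.preimage (G.left.fromSpecStalk e ≫ G.hom)

lemma Spec_map_strMap : Spec.map (strMap G e) = G.left.fromSpecStalk e ≫ G.hom :=
  Spec.map_preimage _

variable {G e}

/-- The `R`-point of `G` associated to a `K`-algebra map `𝒪_{G,e} ⟶ R`. -/
noncomputable def pt {R : CommRingCat.{u}} (s : CommRingCat.of K ⟶ R)
    (φ : G.left.presheaf.stalk e ⟶ R) (h : strMap G e ≫ φ = s) : Over.mk (Spec.map s) ⟶ G :=
  Over.homMk (Spec.map φ ≫ G.left.fromSpecStalk e) (by
    simp only [Over.mk_left, Category.assoc, Over.mk_hom]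
    rw [← Spec_map_strMap, ← Spec.map_comp, h])

@[simp] lemma pt_left {R : CommRingCat.{u}} (s : CommRingCat.of K ⟶ R)
    (φ : G.left.presheaf.stalk e ⟶ R) (h : strMap G e ≫ φ = s) :
    (pt s φ h).left = Spec.map φ ≫ G.left.fromSpecStalk e := rfl

lemma pt_inj {R : CommRingCat.{u}} (s : CommRingCat.of K ⟶ R)
    (φ φ' : G.left.presheaf.stalk e ⟶ R) (h : strMap G e ≫ φ = s) (h' : strMap G e ≫ φ' = s)
    (hp : pt s φ h = pt s φ' h') : φ = φ' := by
  have := congrArg (fun p => p.left) hp
  simp only [pt_left] at this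
  rw [cancel_mono] at this
  exact Spec.map_injective this

/-- Restriction along a map of `K`-algebras. -/
noncomputable def res {R R' : CommRingCat.{u}} (s : CommRingCat.of K ⟶ R) (s' : CommRingCat.of K ⟶ R')
    (g : R ⟶ R') (hg : s ≫ g = s') : Over.mk (Spec.map s') ⟶ Over.mk (Spec.map s) :=
  Over.homMk (Spec.map g) (by simp [← Spec.map_comp, hg])

lemma res_pt {R R' : CommRingCat.{u}} (s : CommRingCat.of K ⟶ R) (s' : CommRingCat.of K ⟶ R')
    (g : R ⟶ R') (hg : s ≫ g = s')
    (φ : G.left.presheaf.stalk e ⟶ R) (h : strMap G e ≫ φ = s) :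
    res s s' g hg ≫ pt s φ h = pt s' (φ ≫ g) (by rw [← Category.assoc, h, hg]) := by
  ext1
  simp [res, pt]

lemma exists_pt {R : CommRingCat.{u}} [IsLocalRing R] (s : CommRingCat.of K ⟶ R)
    (p : Over.mk (Spec.map s) ⟶ G) (hp : p.left (closedPoint R) = e) :
    ∃ (φ : G.left.presheaf.stalk e ⟶ R) (h : strMap G e ≫ φ = s), p = pt s φ h := by
  subst hp
  have h1 : Spec.map (Scheme.stalkClosedPointTo p.left) ≫ G.left.fromSpecStalk _ = p.left :=
    Scheme.Spec_stalkClosedPointTo_fromSpecStalk p.left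
  refine ⟨Scheme.stalkClosedPointTo p.left, ?_, ?_⟩
  · apply Spec.map_injective
    rw [Spec.map_comp, Spec_map_strMap, ← Category.assoc, h1]
    exact Over.w p
  · ext1
    exact h1.symm

end pt

section unit

variable {K : Type u} [Field K] (G : Over (Spec (CommRingCat.of K))) [MonObj G]

/-- the unit section as a morphism of schemes. -/
noncomputable def unitHom : Spec (CommRingCat.of K) ⟶ G.left := η[G].left

lemma unitHom_hom : unitHom G ≫ G.hom = 𝟙 _ := Over.w η[G]

/-- the unit point -/
noncomputable def unitPt : G.left := unitHom G (closedPoint K)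

/-- evaluation at the unit point -/
noncomputable def ev : G.left.presheaf.stalk (unitPt G) ⟶ CommRingCat.of K :=
  Scheme.stalkClosedPointTo (unitHom G)

lemma Spec_ev : Spec.map (ev G) ≫ G.left.fromSpecStalk (unitPt G) = unitHom G :=
  Scheme.Spec_stalkClosedPointTo_fromSpecStalk (unitHom G)

lemma strMap_ev : strMap G (unitPt G) ≫ ev G = 𝟙 _ := by
  apply Spec.map_injective
  rw [Spec.map_comp, Spec_map_strMap, ← Category.assoc, Spec_ev, unitHom_hom, Spec.map_id]

lemma pt_ev_comp {R : CommRingCat.{u}} (s : CommRingCat.of K ⟶ R) :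
    pt s (ev G ≫ s) (by rw [← Category.assoc, strMap_ev, Category.id_comp]) = 1 := by
  ext1
  rw [pt_left, Hom.one_def, Over.comp_left, Over.toUnit_left, Spec.map_comp, Category.assoc, Spec_ev]
  rfl

end unit

end Groth.Agent.Lib.Helper4.CartierGeom
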