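import Mathlib.Tactic
import Mathlib.AlgebraicGeometry.Stalk
import Groth.Agent.Lib.Helper4.CartierAlg3
import Groth.Agent.Lib.Helper4.CartierDual
import Groth.Agent.Lib.Helper4.CartierGeom

open CategoryTheory AlgebraicGeometry Limits IsLocalRing MonoidalCategory CartesianMonoidalCategory MonObj

namespace Groth.Agent.Lib.Helper4.CartierMain

open Groth.Agent.Lib.Helper4.CartierGeom Groth.Agent.Lib.Helper4.CartierDual

universe u

lemma pt_congr {K : Type u} [Field K] {G : Over (Spec (CommRingCat.of K))} {e : G.left}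
    {R : CommRingCat.{u}} (s : CommRingCat.of K ⟶ R)
    {φ φ' : G.left.presheaf.stalk e ⟶ R} (hφ : φ = φ') (h : strMap G e ≫ φ = s) :
    pt s φ h = pt s φ' (hφ ▸ h) := by subst hφ; rfl

section main

variable {K : Type u} [Field K] (G : Over (Spec (CommRingCat.of K))) [MonObj G]

theorem exists_lift {R D KD : CommRingCat.{u}} [IsLocalRing D]
    (q : G.left.presheaf.stalk (unitPt G) ⟶ R) (i₁ : R ⟶ D) (ρ₁ : D ⟶ R)
    (evR : R ⟶ CommRingCat.of K) (j : KD ⟶ D) (ρ₂ : D ⟶ KD)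
    (vc : G.left.presheaf.stalk (unitPt G) ⟶ KD) (fstK : KD ⟶ CommRingCat.of K)
    (sKD : CommRingCat.of K ⟶ KD)
    (h1 : i₁ ≫ ρ₁ = 𝟙 R) (h2 : q ≫ evR = ev G)
    (h3 : sKD ≫ j = strMap G (unitPt G) ≫ q ≫ i₁) (h4 : strMap G (unitPt G) ≫ vc = sKD)
    (h5 : j ≫ ρ₁ = fstK ≫ strMap G (unitPt G) ≫ q) (h6 : vc ≫ fstK = ev G)
    (h7 : i₁ ≫ ρ₂ = evR ≫ sKD) (h8 : j ≫ ρ₂ = 𝟙 KD)
    [IsLocalHom (ρ₁ ≫ evR).hom] :
    ∃ Φc : G.left.presheaf.stalk (unitPt G) ⟶ D,
      strMap G (unitPt G) ≫ Φc = strMap G (unitPt G) ≫ q ≫ i₁ ∧ Φc ≫ ρ₁ = q ∧ Φc ≫ ρ₂ = vc := by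
  set σ := strMap G (unitPt G) with hσ
  set sR : CommRingCat.of K ⟶ R := σ ≫ q with hsR
  set sD : CommRingCat.of K ⟶ D := σ ≫ q ≫ i₁ with hsD
  let uu : Over.mk (Spec.map sD) ⟶ G := pt sD (q ≫ i₁) rfl
  let ww : Over.mk (Spec.map sD) ⟶ G := pt sD (vc ≫ j) (by rw [← Category.assoc, h4, h3])
  let p : Over.mk (Spec.map sD) ⟶ G := uu * ww
  have hr1 : sD ≫ ρ₁ = sR := by
    simp only [hsD, hsR, Category.assoc, h1, Category.comp_id]
  have e1 : res sD sR ρ₁ hr1 ≫ p = pt sR q rfl := by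
    rw [MonObj.comp_mul, res_pt, res_pt]
    rw [pt_congr sR (show (q ≫ i₁) ≫ ρ₁ = q by simp [h1]),
      pt_congr sR (show (vc ≫ j) ≫ ρ₁ = ev G ≫ sR by
        rw [Category.assoc, h5, ← Category.assoc, h6])]
    rw [pt_ev_comp, _root_.mul_one]
  -- the closed point goes to the unit point
  have hcl : p.left (closedPoint D) = unitPt G := by
    have hc : (Spec.map (ρ₁ ≫ evR)) (closedPoint K) = closedPoint D :=
      IsLocalRing.comap_closedPoint (ρ₁ ≫ evR).hom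
    have : Spec.map (ρ₁ ≫ evR) ≫ p.left = unitHom G := by
      rw [Spec.map_comp, Category.assoc]
      have := congrArg (fun t => t.left) e1
      simp only [Over.comp_left, res, Over.homMk_left, pt_left] at this
      rw [this, ← Category.assoc, ← Spec.map_comp, h2, Spec_ev]
    calc p.left (closedPoint D) = p.left ((Spec.map (ρ₁ ≫ evR)) (closedPoint K)) := by rw [hc]
      _ = (Spec.map (ρ₁ ≫ evR) ≫ p.left) (closedPoint K) := rfl
      _ = unitHom G (closedPoint K) := by rw [this]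
      _ = unitPt G := rfl
  obtain ⟨Φc, hΦ, hp⟩ := exists_pt sD p hcl
  refine ⟨Φc, hΦ, ?_, ?_⟩
  · rw [hp, res_pt] at e1
    exact pt_inj _ _ _ _ _ e1
  · have hr2 : sD ≫ ρ₂ = sKD := by
      rw [← h3, Category.assoc, h8, Category.comp_id]
    have e2 : res sD sKD ρ₂ hr2 ≫ p = pt sKD vc h4 := by
      rw [MonObj.comp_mul, res_pt, res_pt]
      rw [pt_congr sKD (show (q ≫ i₁) ≫ ρ₂ = ev G ≫ sKD by
          rw [Category.assoc, h7, ← Category.assoc, h2]),
        pt_congr sKD (show (vc ≫ j) ≫ ρ₂ = vc by rw [Category.assoc, h8, Category.comp_id])]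
      rw [pt_ev_comp, _root_.one_mul]
    rw [hp, res_pt] at e2
    exact pt_inj _ _ _ _ _ e2

end main

end Groth.Agent.Lib.Helper4.CartierMain
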