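import Mathlib.Tactic
import Mathlib.AlgebraicGeometry.Noetherian
import Mathlib.AlgebraicGeometry.Morphisms.FiniteType
import Groth.Agent.Lib.Helper4.CartierAlg3
import Groth.Agent.Lib.Helper4.CartierDual
import Groth.Agent.Lib.Helper4.CartierGeom
import Groth.Agent.Lib.Helper4.CartierMain

open CategoryTheory AlgebraicGeometry Limits IsLocalRing MonoidalCategory CartesianMonoidalCategory MonObj

namespace Groth.Agent.Lib.Helper4.CartierFinal

open Groth.Agent.Lib.Helper4.CartierGeom Groth.Agent.Lib.Helper4.CartierDual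
  Groth.Agent.Lib.Helper4.CartierMain

universe u

variable {K : Type u} [Field K] (G : Over (Spec (CommRingCat.of K))) [MonObj G]

local notation "A" => (G.left.presheaf.stalk (unitPt G))

theorem isReduced_stalk_unitPt [CharZero K] [LocallyOfFiniteType G.hom] :
    _root_.IsReduced (G.left.presheaf.stalk (unitPt G)) := by
  let _ : Algebra K (G.left.presheaf.stalk (unitPt G)) := (strMap G (unitPt G)).hom.toAlgebra
  have : IsLocallyNoetherian G.left := LocallyOfFiniteType.isLocallyNoetherian G.hom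
  have : IsNoetherianRing (G.left.presheaf.stalk (unitPt G)) := inferInstance
  have hσev : ∀ c : K, (ev G).hom ((strMap G (unitPt G)).hom c) = c := fun c =>
    congrArg (fun f => f.hom c) (strMap_ev G)
  let evA : (G.left.presheaf.stalk (unitPt G)) →ₐ[K] K :=
    { (ev G).hom with commutes' := hσev }
  refine CartierAlg3.isReduced_of_translations evA ?_
  intro N v hv
  have hmne : (maximalIdeal A) ^ (N + 1) ≠ ⊤ := by
    intro h
    have : (maximalIdeal A) ^ (N + 1) ≤ maximalIdeal A := Ideal.pow_le_self (Nat.succ_ne_zero N)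
    rw [h, top_le_iff] at this
    exact Ideal.IsPrime.ne_top' this
  have : Nontrivial (A ⧸ (maximalIdeal A) ^ (N + 1)) := Ideal.Quotient.nontrivial_iff.mpr hmne
  have : IsLocalRing (A ⧸ (maximalIdeal A) ^ (N + 1)) :=
    IsLocalRing.of_surjective' (Ideal.Quotient.mk _) Ideal.Quotient.mk_surjective
  let R : CommRingCat.{u} := .of (A ⧸ (maximalIdeal A) ^ (N + 1))
  let D : CommRingCat.{u} := .of (DualNumber (A ⧸ (maximalIdeal A) ^ (N + 1)))
  let KD : CommRingCat.{u} := .of (DualNumber K)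
  let q : A ⟶ R := CommRingCat.ofHom (Ideal.Quotient.mk ((maximalIdeal A) ^ (N + 1)))
  let i₁ : R ⟶ D := CommRingCat.ofHom (TrivSqZeroExt.inlHom (A ⧸ (maximalIdeal A) ^ (N + 1)) (A ⧸ (maximalIdeal A) ^ (N + 1)))
  let ρ₁ : D ⟶ R := CommRingCat.ofHom (TrivSqZeroExt.fstHom (A ⧸ (maximalIdeal A) ^ (N + 1)) (A ⧸ (maximalIdeal A) ^ (N + 1)) (A ⧸ (maximalIdeal A) ^ (N + 1))).toRingHom
  have hker : ∀ a ∈ (maximalIdeal A) ^ (N + 1), (ev G).hom a = 0 := by
    intro a ha
    exact CartierAlg2.ev_eq_zero_of_mem evA (Ideal.pow_le_self (Nat.succ_ne_zero N) ha)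
  let evR : R ⟶ .of K := CommRingCat.ofHom (Ideal.Quotient.lift ((maximalIdeal A) ^ (N + 1)) (ev G).hom hker)
  let sR : CommRingCat.of K ⟶ R := strMap G (unitPt G) ≫ q
  let j : KD ⟶ D := CommRingCat.ofHom (dmap sR.hom)
  let ρ₂ : D ⟶ KD := CommRingCat.ofHom (dmap evR.hom)
  let vc : A ⟶ KD := CommRingCat.ofHom v.toRingHom
  let fstK : KD ⟶ .of K := CommRingCat.ofHom (TrivSqZeroExt.fstHom K K K).toRingHom
  let sKD : CommRingCat.of K ⟶ KD := CommRingCat.ofHom (TrivSqZeroExt.inlHom K K)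
  have : IsLocalRing D := isLocalRing_dualNumber (R := A ⧸ (maximalIdeal A) ^ (N + 1))
  have hsurj : Function.Surjective (ρ₁ ≫ evR).hom := by
    intro c
    refine ⟨TrivSqZeroExt.inl (Ideal.Quotient.mk _ ((strMap G (unitPt G)).hom c)), ?_⟩
    exact hσev c
  have : IsLocalHom (ρ₁ ≫ evR).hom := IsLocalHom.of_surjective _ hsurj
  have h1 : i₁ ≫ ρ₁ = 𝟙 R := CommRingCat.hom_ext (RingHom.ext fun x => rfl)
  have h2 : q ≫ evR = ev G := CommRingCat.hom_ext (RingHom.ext fun x => rfl)
  have h3 : sKD ≫ j = strMap G (unitPt G) ≫ q ≫ i₁ := by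
    refine CommRingCat.hom_ext (RingHom.ext fun c => ?_)
    exact dmap_inl sR.hom c
  have h4 : strMap G (unitPt G) ≫ vc = sKD := by
    refine CommRingCat.hom_ext (RingHom.ext fun c => ?_)
    exact v.commutes c
  have h5 : j ≫ ρ₁ = fstK ≫ strMap G (unitPt G) ≫ q := by
    refine CommRingCat.hom_ext (RingHom.ext fun x => ?_)
    exact dmap_fst sR.hom x
  have h6 : vc ≫ fstK = ev G := by
    refine CommRingCat.hom_ext (RingHom.ext fun a => ?_)
    exact hv a
  have h7 : i₁ ≫ ρ₂ = evR ≫ sKD := by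
    refine CommRingCat.hom_ext (RingHom.ext fun x => ?_)
    exact dmap_inl evR.hom x
  have h8 : j ≫ ρ₂ = 𝟙 KD := by
    refine CommRingCat.hom_ext (RingHom.ext fun x => ?_)
    change dmap evR.hom (dmap sR.hom x) = x
    rw [dmap_comp_apply]
    have : evR.hom.comp sR.hom = RingHom.id K := by
      ext c
      exact hσev c
    rw [this, dmap_id_apply]
  obtain ⟨Φc, hΦ0, hΦ1, hΦ2⟩ := exists_lift G q i₁ ρ₁ evR j ρ₂ vc fstK sKD h1 h2 h3 h4 h5 h6 h7 h8
  refine ⟨{ Φc.hom with commutes' := fun c => ?_ }, fun a => ?_, fun a b hab => ?_⟩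
  · exact congrArg (fun f => f.hom c) hΦ0
  · exact congrArg (fun f => f.hom a) hΦ1
  · have h := congrArg (fun f => (f.hom a).snd) hΦ2
    change (dmap evR.hom (Φc.hom a)).snd = (v a).snd at h
    rw [dmap_snd] at h
    rw [← h]
    change _ = evR.hom ((Φc.hom a).snd)
    rw [show (Φc.hom a).snd = _ from hab]
    rfl

end Groth.Agent.Lib.Helper4.CartierFinal
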