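import Mathlib.AlgebraicGeometry.Pullbacks
import Mathlib.Tactic
import Groth.Prelude.Def_Grpd

set_option autoImplicit false
universe u
open CategoryTheory AlgebraicGeometry TopologicalSpace Limits

namespace Groth.Agent.Lib.Helper4.GrpdCalc

open Grpd

variable {S : Scheme.{u}} (G : GroupoidScheme S) {T : Scheme.{u}}

/-- composition of `T`-valued arrows -/
noncomputable def cmp (α β : T ⟶ G.R) (h : α ≫ G.s = β ≫ G.t) : T ⟶ G.R :=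
  pullback.lift α β h ≫ G.c

theorem cmp_s (α β : T ⟶ G.R) (h : α ≫ G.s = β ≫ G.t) : cmp G α β h ≫ G.s = β ≫ G.s :=
  G.comp_s α β h

theorem cmp_t (α β : T ⟶ G.R) (h : α ≫ G.s = β ≫ G.t) : cmp G α β h ≫ G.t = α ≫ G.t :=
  G.comp_t α β h

theorem cmp_congr {α α' β β' : T ⟶ G.R} (ha : α = α') (hb : β = β')
    (h : α ≫ G.s = β ≫ G.t) (h' : α' ≫ G.s = β' ≫ G.t) : cmp G α β h = cmp G α' β' h' := by
  subst ha; subst hb; rfl

theorem cmp_assoc (α β γ : T ⟶ G.R) (h₁ : α ≫ G.s = β ≫ G.t) (h₂ : β ≫ G.s = γ ≫ G.t)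
    (h₃ : cmp G α β h₁ ≫ G.s = γ ≫ G.t) (h₄ : α ≫ G.s = cmp G β γ h₂ ≫ G.t) :
    cmp G (cmp G α β h₁) γ h₃ = cmp G α (cmp G β γ h₂) h₄ :=
  G.assoc α β γ h₁ h₂

theorem cmp_e (α ε : T ⟶ G.R) (hε : ε = α ≫ G.s ≫ G.e) (h : α ≫ G.s = ε ≫ G.t) :
    cmp G α ε h = α := by
  subst hε
  exact G.comp_e α

theorem e_cmp (α ε : T ⟶ G.R) (hε : ε = α ≫ G.t ≫ G.e) (h : ε ≫ G.s = α ≫ G.t) :
    cmp G ε α h = α := by
  subst hε
  exact G.e_comp α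

theorem cmp_i (α : T ⟶ G.R) (h : α ≫ G.s = (α ≫ G.i) ≫ G.t) :
    cmp G α (α ≫ G.i) h = α ≫ G.t ≫ G.e :=
  G.comp_i α

theorem i_cmp (α : T ⟶ G.R) (h : (α ≫ G.i) ≫ G.s = α ≫ G.t) :
    cmp G (α ≫ G.i) α h = α ≫ G.s ≫ G.e :=
  G.i_comp α

theorem precomp {T' : Scheme.{u}} (m : T' ⟶ T) (α β : T ⟶ G.R) (h : α ≫ G.s = β ≫ G.t)
    (h' : (m ≫ α) ≫ G.s = (m ≫ β) ≫ G.t) :
    m ≫ cmp G α β h = cmp G (m ≫ α) (m ≫ β) h' := by
  unfold cmp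
  rw [← Category.assoc]
  congr 1
  apply pullback.hom_ext
  · rw [Category.assoc, pullback.lift_fst, pullback.lift_fst]
  · rw [Category.assoc, pullback.lift_snd, pullback.lift_snd]

/-- `r⁻¹ (r x) = x` -/
theorem L1 (r x : T ⟶ G.R) (h : r ≫ G.s = x ≫ G.t)
    (h2 : (r ≫ G.i) ≫ G.s = cmp G r x h ≫ G.t) :
    cmp G (r ≫ G.i) (cmp G r x h) h2 = x := by
  have hi : (r ≫ G.i) ≫ G.s = r ≫ G.t := by rw [Category.assoc, G.i_s]
  rw [← cmp_assoc G (r ≫ G.i) r x hi h (by rw [cmp_s]; exact h)]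
  rw [cmp_congr G (i_cmp G r hi) rfl _ (by rw [Category.assoc, Category.assoc, G.e_s, Category.comp_id]; exact h)]
  exact e_cmp G x _ (by rw [← Category.assoc, h, Category.assoc]) _

/-- `r (r⁻¹ x) = x` -/
theorem L2 (r x : T ⟶ G.R) (h : (r ≫ G.i) ≫ G.s = x ≫ G.t)
    (h2 : r ≫ G.s = cmp G (r ≫ G.i) x h ≫ G.t) :
    cmp G r (cmp G (r ≫ G.i) x h) h2 = x := by
  have hi : r ≫ G.s = (r ≫ G.i) ≫ G.t := by rw [Category.assoc, G.i_t]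
  have hrx : r ≫ G.t = x ≫ G.t := by rw [← h, Category.assoc, G.i_s]
  rw [← cmp_assoc G r (r ≫ G.i) x hi h (by rw [cmp_s]; exact h)]
  rw [cmp_congr G (cmp_i G r hi) rfl _ (by rw [Category.assoc, Category.assoc, G.e_s, Category.comp_id]; exact hrx)]
  exact e_cmp G x _ (by rw [← Category.assoc, hrx, Category.assoc]) _

/-- `(x r) r⁻¹ = x` -/
theorem L3 (r x : T ⟶ G.R) (h : x ≫ G.s = r ≫ G.t)
    (h2 : cmp G x r h ≫ G.s = (r ≫ G.i) ≫ G.t) :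
    cmp G (cmp G x r h) (r ≫ G.i) h2 = x := by
  have hi : r ≫ G.s = (r ≫ G.i) ≫ G.t := by rw [Category.assoc, G.i_t]
  rw [cmp_assoc G x r (r ≫ G.i) h hi _ (by rw [cmp_t]; exact h)]
  rw [cmp_congr G rfl (cmp_i G r hi) _ (by rw [Category.assoc, Category.assoc, G.e_t, Category.comp_id]; exact h)]
  exact cmp_e G x _ (by rw [← Category.assoc, ← h, Category.assoc]) _

/-- `(x r⁻¹) r = x` -/
theorem L4 (r x : T ⟶ G.R) (h : x ≫ G.s = (r ≫ G.i) ≫ G.t)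
    (h2 : cmp G x (r ≫ G.i) h ≫ G.s = r ≫ G.t) :
    cmp G (cmp G x (r ≫ G.i) h) r h2 = x := by
  have hi : (r ≫ G.i) ≫ G.s = r ≫ G.t := by rw [Category.assoc, G.i_s]
  have hxr : x ≫ G.s = r ≫ G.s := by rw [h, Category.assoc, G.i_t]
  rw [cmp_assoc G x (r ≫ G.i) r h hi _ (by rw [cmp_t]; exact h)]
  rw [cmp_congr G rfl (i_cmp G r hi) _ (by rw [Category.assoc, Category.assoc, G.e_t, Category.comp_id]; exact hxr)]
  exact cmp_e G x _ (by rw [← Category.assoc, ← hxr, Category.assoc]) _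

end Groth.Agent.Lib.Helper4.GrpdCalc
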