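import Mathlib.Tactic
import Mathlib.AlgebraicGeometry.Sites.Fpqc
import Groth.Prelude.Def_AlgGrp
import Groth.Agent.Lib.Helper4.QuotKer
import Groth.Agent.Lib.Helper4.FpqcDesc

set_option backward.isDefEq.respectTransparency.types false

namespace Groth.Agent.Lib.Helper4.QuotGrp

open CategoryTheory Limits AlgebraicGeometry MonoidalCategory CartesianMonoidalCategory MonObj
open FpqcCov QuotKer

universe u

theorem IsCov.effectiveEpi {Z Y : Scheme.{u}} {q : Z ⟶ Y} (hq : IsCov q) : EffectiveEpi q := by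
  have hmem : Presieve.singleton q ∈ Scheme.fpqcPrecoverage Y := by
    have hqcc := qcc_of_cov q hq.2.2
    have hs := hq.1
    have hf := hq.2.1
    refine ⟨?_, ?_⟩
    · rw [← PreZeroHypercover.presieve₀_singleton.{_, _, 0} q, Scheme.presieve₀_mem_qcPrecoverage_iff]
      exact hqcc
    · grind [Scheme.singleton_mem_precoverage_iff]
  rw [← Sieve.effectiveEpimorphic_singleton,
    Presieve.EffectiveEpimorphic.iff_forall_isSheafFor_yoneda]
  intro T
  exact (GrothendieckTopology.Subcanonical.isSheaf_of_isRepresentable _).isSheafFor _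
    (Precoverage.generate_mem_toGrothendieck hmem)

theorem isCov_of_isIso {Z Y : Scheme.{u}} (e : Z ⟶ Y) [IsIso e] : IsCov e := by
  refine ⟨inferInstance, inferInstance, fun V hV => ⟨e ⁻¹ᵁ V, ?_, ?_⟩⟩
  · exact QuasiCompact.isCompact_preimage (f := e) _ V.2 hV.isCompact
  · exact Set.image_preimage_eq _ e.surjective

theorem IsCov.comp {Z Y X : Scheme.{u}} {f : Z ⟶ Y} {g : Y ⟶ X} (hf : IsCov f) (hg : IsCov g) :
    IsCov (f ≫ g) := by
  obtain ⟨hfs, hff, hfc⟩ := hf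
  obtain ⟨hgs, hgf, hgc⟩ := hg
  refine ⟨inferInstance, inferInstance, fun V hV => ?_⟩
  obtain ⟨W, hWc, hWV⟩ := hgc V hV
  obtain ⟨s, hs, hWs⟩ := isCompact_iff_finite_and_eq_biUnion_affineOpens.mp hWc
  choose U hUc hUW using fun i : Y.affineOpens => hfc i.1 i.2
  refine ⟨⨆ i ∈ s, U i, ?_, ?_⟩
  · simp only [TopologicalSpace.Opens.coe_iSup]
    exact hs.isCompact_biUnion fun i _ => hUc i
  · rw [Scheme.Hom.comp_base, TopCat.coe_comp, Set.image_comp, ← hWV, hWs]
    congr 1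
    simp only [TopologicalSpace.Opens.coe_iSup, Set.image_iUnion, hUW]

theorem IsCov.of_isPullback {P Z Y Y' : Scheme.{u}} {q : Z ⟶ Y} (hq : IsCov q) {g : Y' ⟶ Y}
    {a : P ⟶ Z} {b : P ⟶ Y'} (sq : IsPullback a b q g) : IsCov b := by
  have : b = sq.isoPullback.hom ≫ pullback.snd q g := by simp
  rw [this]
  exact IsCov.comp (isCov_of_isIso _) (hq.baseChange g)

variable {S : Scheme.{u}}

theorem isCov_tensorHom {A B A' B' : Over S} (f : A ⟶ A') (g : B ⟶ B') (hf : IsCov f.left)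
    (hg : IsCov g.left) : IsCov (f ⊗ₘ g).left := by
  rw [MonoidalCategory.tensorHom_def, Over.comp_left]
  exact IsCov.comp (IsCov.of_isPullback hf (isPullback_whiskerRight B A A' f).flip)
    (IsCov.of_isPullback hg (MaxOpenGrp.isPullback_whiskerLeft A' B B' g).flip)

/-- `p` is dominated by an fpqc covering -/
def Dom {X Y : Over S} (p : X ⟶ Y) : Prop :=
  ∃ (Z : Over S) (r : Z ⟶ X), IsCov (r ≫ p).left

theorem dom_of_cov {X Y : Over S} (p : X ⟶ Y) {Z : Scheme.{u}} (r : Z ⟶ X.left)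
    (h : IsCov (r ≫ p.left)) : Dom p :=
  ⟨Over.mk (r ≫ X.hom), Over.homMk r rfl, by simpa using h⟩

theorem Dom.epi {X Y : Over S} {p : X ⟶ Y} (hp : Dom p) : Epi p := by
  obtain ⟨Z, r, hc⟩ := hp
  have h1 : Surjective (r ≫ p).left := hc.1
  have h2 : Flat (r ≫ p).left := hc.2.1
  have : Epi (r ≫ p).left := Flat.epi_of_flat_of_surjective _
  have : Epi (r ≫ p) := Over.epi_of_epi_left _
  exact epi_of_epi r p

theorem Dom.tensorHom {X Y X' Y' : Over S} {p : X ⟶ Y} {p' : X' ⟶ Y'} (hp : Dom p)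
    (hp' : Dom p') : Dom (p ⊗ₘ p') := by
  obtain ⟨Z, r, hc⟩ := hp
  obtain ⟨Z', r', hc'⟩ := hp'
  refine ⟨Z ⊗ Z', r ⊗ₘ r', ?_⟩
  rw [tensorHom_comp_tensorHom]
  exact isCov_tensorHom _ _ hc hc'

theorem Dom.exists_desc {X Y T : Over S} {p : X ⟶ Y} (hp : Dom p) (φ : X ⟶ T)
    (h : ∀ (W : Over S) (a b : W ⟶ X), a ≫ p = b ≫ p → a ≫ φ = b ≫ φ) :
    ∃ φ' : Y ⟶ T, p ≫ φ' = φ := by
  obtain ⟨Z, r, hc⟩ := hp
  have h1 : Surjective (r ≫ p).left := hc.1
  have h2 : Flat (r ≫ p).left := hc.2.1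
  have : EffectiveEpi (r ≫ p).left := IsCov.effectiveEpi hc
  obtain ⟨g, hg⟩ := FpqcDesc.exists_desc (r ≫ p) (r ≫ φ) (fun W a b hab => by
    have := h W (a ≫ r) (b ≫ r) (by simpa using hab)
    simpa using this)
  refine ⟨g, ?_⟩
  -- the base change of the cover along `p`
  let W : Over S := Over.mk (pullback.snd (r ≫ p).left p.left ≫ X.hom)
  let b : W ⟶ X := Over.homMk (pullback.snd (r ≫ p).left p.left) rfl
  let a : W ⟶ X := Over.homMk (pullback.fst (r ≫ p).left p.left ≫ r.left) (by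
    have h3 : X.hom = p.left ≫ Y.hom := (Over.w p).symm
    show (pullback.fst (r ≫ p).left p.left ≫ r.left) ≫ X.hom =
      pullback.snd (r ≫ p).left p.left ≫ X.hom
    rw [h3, Category.assoc, ← Over.comp_left_assoc, pullback.condition_assoc])
  have hab : a ≫ p = b ≫ p := by
    ext
    show (pullback.fst (r ≫ p).left p.left ≫ r.left) ≫ p.left =
      pullback.snd (r ≫ p).left p.left ≫ p.left
    rw [Category.assoc]
    exact pullback.condition
  have hφ := h W a b hab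
  have hepi : Epi b.left := by
    have : Flat b.left := by simp only [b, Over.homMk_left]; infer_instance
    have : Surjective b.left := by simp only [b, Over.homMk_left]; infer_instance
    exact Flat.epi_of_flat_of_surjective _
  have hbe : Epi b := Over.epi_of_epi_left _
  rw [← cancel_epi b, ← Category.assoc, ← hab, Category.assoc, ← hφ]
  have : a = (Over.homMk (pullback.fst (r ≫ p).left p.left) (by
      show pullback.fst (r ≫ p).left p.left ≫ Z.hom = pullback.snd (r ≫ p).left p.left ≫ X.hom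
      have h3 : X.hom = p.left ≫ Y.hom := (Over.w p).symm
      have h4 : Z.hom = (r ≫ p).left ≫ Y.hom := (Over.w (r ≫ p)).symm
      rw [h3, h4, pullback.condition_assoc]) : W ⟶ Z) ≫ r := by
    ext
    simp [a]
  rw [this, Category.assoc, Category.assoc, ← Category.assoc r, hg]

section grp

variable {G G' G'' : Over S} [GrpObj G] [GrpObj G'] (u : G' ⟶ G) [IsMonHom u] (p : G ⟶ G'')
  (hsq : IsPullback ((G ◁ u) ≫ μ[G]) (fst G G') p p)

include hsq in
theorem coeq_iff {W : Over S} (x y : W ⟶ G) :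
    x ≫ p = y ≫ p ↔ ∃ n : W ⟶ G', x = y * (n ≫ u) := by
  constructor
  · intro h
    refine ⟨hsq.lift x y h ≫ snd G G', ?_⟩
    have h1 := hsq.lift_fst x y h
    have h2 := hsq.lift_snd x y h
    have h3 : hsq.lift x y h = lift y (hsq.lift x y h ≫ snd G G') := by
      apply CartesianMonoidalCategory.hom_ext
      · rw [h2, lift_fst]
      · rw [lift_snd]
    rw [h3, ← Category.assoc, lift_whiskerLeft, ← Hom.mul_def] at h1
    exact h1.symm
  · rintro ⟨n, rfl⟩
    have : y * (n ≫ u) = lift y n ≫ (G ◁ u) ≫ μ[G] := by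
      rw [← Category.assoc, lift_whiskerLeft, ← Hom.mul_def]
    have hw := hsq.w
    rw [Category.assoc] at hw
    rw [this, Category.assoc, Category.assoc, hw, ← Category.assoc, lift_fst]

variable (hN : AlgGrp.IsNormalHom u)

include hsq hN in
theorem mul_coeq {W : Over S} (a1 a2 b1 b2 : W ⟶ G) (h1 : a1 ≫ p = b1 ≫ p)
    (h2 : a2 ≫ p = b2 ≫ p) : (a1 * a2) ≫ p = (b1 * b2) ≫ p := by
  obtain ⟨n1, rfl⟩ := (coeq_iff u p hsq a1 b1).mp h1
  obtain ⟨n2, rfl⟩ := (coeq_iff u p hsq a2 b2).mp h2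
  obtain ⟨n', hn'⟩ := hN W b2⁻¹ n1
  rw [inv_inv] at hn'
  rw [coeq_iff u p hsq]
  refine ⟨n' * n2, ?_⟩
  rw [MonObj.mul_comp, ← hn']
  group

include hsq hN in
theorem inv_coeq {W : Over S} (x y : W ⟶ G) (h : x ≫ p = y ≫ p) : x⁻¹ ≫ p = y⁻¹ ≫ p := by
  obtain ⟨n, rfl⟩ := (coeq_iff u p hsq x y).mp h
  obtain ⟨n', hn'⟩ := hN W y n⁻¹
  rw [coeq_iff u p hsq]
  refine ⟨n', ?_⟩
  rw [← hn', GrpObj.inv_comp]
  group

include hsq hN in
theorem exists_grpObj (hp : Dom p) :
    ∃ _ : GrpObj G'', IsMonHom p ∧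
      ∀ m : G'' ⊗ G'' ⟶ G'', (p ⊗ₘ p) ≫ m = μ[G] ≫ p → m = μ[G''] := by
  have hp2 : Dom (p ⊗ₘ p) := hp.tensorHom hp
  have hp3 : Dom ((p ⊗ₘ p) ⊗ₘ p) := hp2.tensorHom hp
  have e1 := hp.epi
  have e2 := hp2.epi
  have e3 := hp3.epi
  obtain ⟨m, hm⟩ := hp2.exists_desc (μ[G] ≫ p) (by
    intro W a b hab
    have h1 : (a ≫ fst G G) ≫ p = (b ≫ fst G G) ≫ p := by
      have := congrArg (· ≫ fst G'' G'') hab
      simpa using this
    have h2 : (a ≫ snd G G) ≫ p = (b ≫ snd G G) ≫ p := by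
      have := congrArg (· ≫ snd G'' G'') hab
      simpa using this
    have := mul_coeq u p hsq hN _ _ _ _ h1 h2
    rw [Hom.mul_def, Hom.mul_def] at this
    simpa using this)
  obtain ⟨i, hi⟩ := hp.exists_desc (ι[G] ≫ p) (by
    intro W a b hab
    have := inv_coeq u p hsq hN a b hab
    rw [Hom.inv_def, Hom.inv_def] at this
    simpa using this)
  have hl : Epi (𝟙_ (Over S) ◁ p) := by
    have : 𝟙_ (Over S) ◁ p = (λ_ G).hom ≫ p ≫ (λ_ G'').inv := by simp
    rw [this]; infer_instance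
  have hr : Epi (p ▷ 𝟙_ (Over S)) := by
    have : p ▷ 𝟙_ (Over S) = (ρ_ G).hom ≫ p ≫ (ρ_ G'').inv := by simp
    rw [this]; infer_instance
  have hm1 : p ▷ G ≫ G'' ◁ p ≫ m = μ[G] ≫ p := by
    rw [← hm, MonoidalCategory.tensorHom_def, Category.assoc]
  have hm2 : G ◁ p ≫ p ▷ G'' ≫ m = μ[G] ≫ p := by
    rw [← hm, MonoidalCategory.tensorHom_def', Category.assoc]
  have L : ((p ⊗ₘ p) ⊗ₘ p) ≫ m ▷ G'' = μ[G] ▷ G ≫ (p ⊗ₘ p) := by
    rw [← tensorHom_id, tensorHom_comp_tensorHom, hm, Category.comp_id, ← tensorHom_id,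
      tensorHom_comp_tensorHom, Category.id_comp]
  have R : (p ⊗ₘ (p ⊗ₘ p)) ≫ G'' ◁ m = G ◁ μ[G] ≫ (p ⊗ₘ p) := by
    rw [← id_tensorHom, tensorHom_comp_tensorHom, hm, Category.comp_id, ← id_tensorHom,
      tensorHom_comp_tensorHom, Category.id_comp]
  let inst : GrpObj G'' :=
    { one := η[G] ≫ p
      mul := m
      one_mul := by
        rw [← cancel_epi (𝟙_ (Over S) ◁ p)]
        rw [comp_whiskerRight, Category.assoc, whisker_exchange_assoc, hm2,
          MonObj.one_mul_assoc, leftUnitor_naturality]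
      mul_one := by
        rw [← cancel_epi (p ▷ 𝟙_ (Over S))]
        rw [MonoidalCategory.whiskerLeft_comp, Category.assoc, ← whisker_exchange_assoc, hm1,
          MonObj.mul_one_assoc, rightUnitor_naturality]
      mul_assoc := by
        rw [← cancel_epi ((p ⊗ₘ p) ⊗ₘ p)]
        calc ((p ⊗ₘ p) ⊗ₘ p) ≫ m ▷ G'' ≫ m = μ[G] ▷ G ≫ (p ⊗ₘ p) ≫ m := by
              rw [← Category.assoc, L, Category.assoc]
          _ = (μ[G] ▷ G ≫ μ[G]) ≫ p := by rw [hm, Category.assoc]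
          _ = ((α_ G G G).hom ≫ G ◁ μ[G] ≫ μ[G]) ≫ p := by rw [MonObj.mul_assoc]
          _ = (α_ G G G).hom ≫ G ◁ μ[G] ≫ (p ⊗ₘ p) ≫ m := by
              rw [hm]; simp only [Category.assoc]
          _ = (α_ G G G).hom ≫ (p ⊗ₘ (p ⊗ₘ p)) ≫ G'' ◁ m ≫ m := by
              rw [← Category.assoc (G ◁ μ[G]), ← R, Category.assoc]
          _ = _ := by rw [associator_naturality_assoc]
      inv := i
      left_inv := by
        rw [← cancel_epi p]
        rw [← Category.assoc, comp_lift, hi, Category.comp_id]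
        have : lift (ι[G] ≫ p) p = lift ι[G] (𝟙 G) ≫ (p ⊗ₘ p) := by
          rw [lift_map, Category.id_comp]
        rw [this, Category.assoc, hm, GrpObj.left_inv_assoc, ← Category.assoc p]
        congr 1
        exact toUnit_unique _ _
      right_inv := by
        rw [← cancel_epi p]
        rw [← Category.assoc, comp_lift, hi, Category.comp_id]
        have : lift p (ι[G] ≫ p) = lift (𝟙 G) ι[G] ≫ (p ⊗ₘ p) := by
          rw [lift_map, Category.id_comp]
        rw [this, Category.assoc, hm, GrpObj.right_inv_assoc, ← Category.assoc p]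
        congr 1
        exact toUnit_unique _ _ }
  refine ⟨inst, ⟨rfl, hm.symm⟩, fun m' hm' => ?_⟩
  rw [← cancel_epi (p ⊗ₘ p), hm']
  exact hm.symm

end grp

theorem main5372 (S : Scheme.{u}) (G G' G'' : Over S) [GrpObj G] [GrpObj G']
    (u : G' ⟶ G) [IsMonHom u] [Mono u] (p : G ⟶ G'')
    (hcov : (∃ (Z : Scheme.{u}) (q : Z ⟶ G''.left) (r : Z ⟶ G.left), r ≫ p.left = q ∧ Surjective q ∧ Flat q ∧
        ∀ V : G''.left.Opens, IsAffineOpen V → ∃ W : Z.Opens, IsCompact (W : Set Z) ∧ q.base '' (W : Set Z) = (V : Set G''.left)))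
    (hsq : IsPullback ((G ◁ u) ≫ μ[G]) (fst G G') p p) (hN : AlgGrp.IsNormalHom u) :
    ∃ _ : GrpObj G'', IsMonHom p ∧ ∀ m : G'' ⊗ G'' ⟶ G'', (p ⊗ₘ p) ≫ m = μ[G] ≫ p → m = μ[G''] := by
  obtain ⟨Z, q, r, hrq, hs, hf, hc⟩ := hcov
  have hq : IsCov (r ≫ p.left) := by rw [hrq]; exact ⟨hs, hf, hc⟩
  exact exists_grpObj u p hsq hN (dom_of_cov p r hq)

end Groth.Agent.Lib.Helper4.QuotGrp
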