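import Mathlib.AlgebraicGeometry.Pullbacks
import Mathlib.CategoryTheory.Monoidal.Cartesian.Over
import Mathlib.CategoryTheory.Monoidal.Cartesian.Grp
import Mathlib.Tactic
import Groth.Prelude.Def_Grpd

set_option autoImplicit false
universe u
open CategoryTheory MonoidalCategory CartesianMonoidalCategory MonObj GrpObj AlgebraicGeometry Limits

namespace Groth.Agent.Lib.Helper4.GrpToGrpd

variable {S : Scheme.{u}} (G : Over S) [GrpObj G]

section pts
variable {G} {T : Scheme.{u}}

/-- a `T`-point of `G.left` as a morphism in `Over S` from `T` with a given structure map -/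
def pt (p : T ⟶ S) (α : T ⟶ G.left) (h : α ≫ G.hom = p) : Over.mk p ⟶ G := Over.homMk α h

@[simp] theorem pt_left (p : T ⟶ S) (α : T ⟶ G.left) (h : α ≫ G.hom = p) : (pt p α h).left = α := rfl

theorem mul_left (p : T ⟶ S) (α β : T ⟶ G.left) (hα : α ≫ G.hom = p) (hβ : β ≫ G.hom = p) :
    (pt p α hα * pt p β hβ).left = pullback.lift α β (hα.trans hβ.symm) ≫ μ[G].left := rfl

theorem one_left (p : T ⟶ S) : (1 : Over.mk p ⟶ G).left = p ≫ η[G].left := rfl

theorem inv_left (p : T ⟶ S) (α : T ⟶ G.left) (hα : α ≫ G.hom = p) :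
    ((pt p α hα)⁻¹).left = α ≫ ι[G].left := rfl

theorem pt_eta (p : T ⟶ S) (a : Over.mk p ⟶ G) : pt p a.left (Over.w a) = a := rfl

end pts

theorem mu_hom : μ[G].left ≫ G.hom = pullback.fst G.hom G.hom ≫ G.hom := Over.w μ[G]
theorem eta_hom : η[G].left ≫ G.hom = 𝟙 S := Over.w η[G]
theorem iota_hom : ι[G].left ≫ G.hom = G.hom := Over.w ι[G]

/-- the groupoid scheme `(S, G, G.hom, G.hom, μ)` attached to a group scheme over `S` -/
noncomputable def ofGrp : Grpd.GroupoidScheme S where
  U := S
  R := G.left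
  pU := 𝟙 S
  pR := G.hom
  s := G.hom
  t := G.hom
  e := η[G].left
  i := ι[G].left
  c := μ[G].left
  s_over := Category.comp_id _
  t_over := Category.comp_id _
  comp_s := by
    intro T α β h
    rw [Category.assoc, mu_hom, pullback.lift_fst_assoc, h]
  comp_t := by
    intro T α β h
    rw [Category.assoc, mu_hom, pullback.lift_fst_assoc]
  assoc := by
    intro T α β g₃ h₁ h₂
    have h := congrArg (fun x => x.left)
      (_root_.mul_assoc (pt (α ≫ G.hom) α rfl) (pt (α ≫ G.hom) β h₁.symm)
        (pt (α ≫ G.hom) g₃ (h₂.symm.trans h₁.symm)))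
    exact h
  e_s := eta_hom G
  e_t := eta_hom G
  comp_e := by
    intro T α
    have h := congrArg (fun x => x.left) (_root_.mul_one (pt (α ≫ G.hom) α rfl))
    exact h
  e_comp := by
    intro T α
    have h := congrArg (fun x => x.left) (_root_.one_mul (pt (α ≫ G.hom) α rfl))
    exact h
  i_s := iota_hom G
  i_t := iota_hom G
  comp_i := by
    intro T α
    have h := congrArg (fun x => x.left) (_root_.mul_inv_cancel (pt (α ≫ G.hom) α rfl))
    exact h
  i_comp := by
    intro T α
    have h := congrArg (fun x => x.left) (_root_.inv_mul_cancel (pt (α ≫ G.hom) α rfl))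
    exact h


/-- a homomorphism of group schemes induces a morphism of groupoid schemes -/
noncomputable def homOfMonHom (H G : Over S) [GrpObj H] [GrpObj G] (ψ : H ⟶ G) [IsMonHom ψ] :
    Grpd.GroupoidScheme.Hom (ofGrp H) (ofGrp G) where
  fU := 𝟙 S
  fR := ψ.left
  fU_over := Category.id_comp _
  comm_s := (Over.w ψ).trans (Category.comp_id _).symm
  comm_t := (Over.w ψ).trans (Category.comp_id _).symm
  comm_c := by
    intro T α β h
    have := congrArg (fun x => x.left)
      (MonObj.mul_comp (pt (α ≫ H.hom) α rfl) (pt (α ≫ H.hom) β h.symm) ψ)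
    exact this

instance (H G : Over S) [GrpObj H] [GrpObj G] (ψ : H ⟶ G) [IsMonHom ψ] :
    IsIso (homOfMonHom H G ψ).fU := inferInstanceAs (IsIso (𝟙 S))

end Groth.Agent.Lib.Helper4.GrpToGrpd
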