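import Mathlib.AlgebraicGeometry.Morphisms.UniversallyOpen
import Mathlib.AlgebraicGeometry.Pullbacks
import Mathlib.Tactic
import Groth.Prelude.Def_Grpd
import Groth.Agent.Lib.Helper4.GrpdCalc

set_option autoImplicit false
universe u
open CategoryTheory AlgebraicGeometry TopologicalSpace Limits

namespace Groth.Agent.Lib.Helper4.GrpdAct

open Grpd GrpdCalc

variable {S : Scheme.{u}} (G : GroupoidScheme S) {Z : Scheme.{u}} (a : Z ⟶ G.R)

/-- the "action" map `(z, β) ↦ a(z) ∘ β` -/
noncomputable def μ : pullback (a ≫ G.s) G.t ⟶ G.R :=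
  cmp G (pullback.fst (a ≫ G.s) G.t ≫ a) (pullback.snd (a ≫ G.s) G.t)
    (by rw [Category.assoc]; exact pullback.condition)

theorem μ_t : μ G a ≫ G.t = pullback.fst (a ≫ G.s) G.t ≫ a ≫ G.t := by
  unfold μ; rw [cmp_t, Category.assoc]

theorem isPullback_μ : IsPullback (μ G a) (pullback.fst (a ≫ G.s) G.t) G.t (a ≫ G.t) := by
  refine ⟨⟨μ_t G a⟩, ⟨PullbackCone.IsLimit.mk _
    (fun k => pullback.lift k.snd
      (cmp G ((k.snd ≫ a) ≫ G.i) k.fst (by
        rw [Category.assoc, G.i_s, k.condition, Category.assoc]))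
      (by rw [cmp_t]; simp only [Category.assoc]; rw [G.i_t])) ?_ ?_ ?_⟩⟩
  · intro k
    unfold μ
    rw [precomp G _ _ _ _ (by
      rw [pullback.lift_fst_assoc, pullback.lift_snd, cmp_t]; simp only [Category.assoc]; rw [G.i_t])]
    have h1 : pullback.lift k.snd
      (cmp G ((k.snd ≫ a) ≫ G.i) k.fst (by
        rw [Category.assoc, G.i_s, k.condition, Category.assoc]))
      (by rw [cmp_t]; simp only [Category.assoc]; rw [G.i_t]) ≫
        pullback.fst (a ≫ G.s) G.t ≫ a = k.snd ≫ a := by
      rw [pullback.lift_fst_assoc]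
    rw [cmp_congr G h1 (pullback.lift_snd _ _ _) _ (by rw [cmp_t]; simp only [Category.assoc]; rw [G.i_t])]
    exact L2 G (k.snd ≫ a) k.fst _ _
  · intro k
    exact pullback.lift_fst _ _ _
  · intro k m hm1 hm2
    apply pullback.hom_ext
    · rw [pullback.lift_fst]; exact hm2
    · rw [pullback.lift_snd]
      have hγ : k.fst = cmp G (k.snd ≫ a) (m ≫ pullback.snd (a ≫ G.s) G.t) (by
          rw [← hm2]; simp only [Category.assoc]; rw [pullback.condition]) := by
        rw [← hm1]
        unfold μ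
        rw [precomp G _ _ _ _ (by simp only [Category.assoc]; rw [pullback.condition])]
        exact cmp_congr G (by rw [← hm2, Category.assoc]) rfl _ _
      have := L1 G (k.snd ≫ a) (m ≫ pullback.snd (a ≫ G.s) G.t) (by
          rw [← hm2]; simp only [Category.assoc]; rw [pullback.condition])
          (by rw [cmp_t, Category.assoc, G.i_s])
      rw [← this]
      exact cmp_congr G rfl hγ.symm _ _


theorem field_facts (k : Type u) [Field k] (eU : G.U ≅ Spec (CommRingCat.of k)) :
    IsIntegral G.U ∧ Subsingleton G.U := by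
  have h1 : Nonempty G.U := ⟨eU.inv (IsLocalRing.closedPoint k)⟩
  refine ⟨isIntegral_of_isOpenImmersion eU.hom, ?_⟩
  have : Subsingleton (Spec (CommRingCat.of k)) :=
    inferInstanceAs (Subsingleton (PrimeSpectrum k))
  exact eU.hom.homeomorph.subsingleton

theorem universallyOpen_μ (k : Type u) [Field k] (eU : G.U ≅ Spec (CommRingCat.of k)) :
    UniversallyOpen (μ G a) := by
  obtain ⟨h1, h2⟩ := field_facts G k eU
  have : UniversallyOpen (a ≫ G.t) := inferInstance
  exact MorphismProperty.of_isPullback (P := @UniversallyOpen) (isPullback_μ G a).flip this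

theorem main (k : Type u) [Field k] (eU : G.U ≅ Spec (CommRingCat.of k)) (W : G.R.Opens) :
    IsOpen (Set.range ⇑(pullback.lift (pullback.fst (a ≫ G.s) (W.ι ≫ G.t) ≫ a)
      (pullback.snd (a ≫ G.s) (W.ι ≫ G.t) ≫ W.ι)
      ((Category.assoc _ _ _).trans (pullback.condition.trans (Category.assoc _ _ _).symm)) ≫
        G.c)) := by
  have hμ := universallyOpen_μ G a k eU
  let j : pullback (a ≫ G.s) (W.ι ≫ G.t) ⟶ pullback (a ≫ G.s) G.t :=
    pullback.map _ _ _ _ (𝟙 Z) W.ι (𝟙 G.U) (by simp) (by simp)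
  have hj : IsOpenImmersion j := inferInstance
  have hfac : pullback.lift (pullback.fst (a ≫ G.s) (W.ι ≫ G.t) ≫ a)
      (pullback.snd (a ≫ G.s) (W.ι ≫ G.t) ≫ W.ι)
      ((Category.assoc _ _ _).trans (pullback.condition.trans (Category.assoc _ _ _).symm)) ≫
        G.c = j ≫ μ G a := by
    unfold μ GrpdCalc.cmp
    refine Eq.trans ?_ (Category.assoc _ _ _)
    congr 1
    have hj1 : j ≫ pullback.fst (a ≫ G.s) G.t = pullback.fst _ _ := by
      simp only [j, pullback.lift_fst, Category.comp_id]
    have hj2 : j ≫ pullback.snd (a ≫ G.s) G.t = pullback.snd _ _ ≫ W.ι := by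
      simp only [j, pullback.lift_snd]
    apply pullback.hom_ext
    · rw [pullback.lift_fst, Category.assoc, pullback.lift_fst, ← Category.assoc, hj1]
    · rw [pullback.lift_snd, Category.assoc, pullback.lift_snd, hj2]
  rw [hfac, Scheme.Hom.comp_base, TopCat.coe_comp, Set.range_comp]
  exact (μ G a).isOpenMap _ j.isOpenEmbedding.isOpen_range

end Groth.Agent.Lib.Helper4.GrpdAct
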