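import Mathlib.AlgebraicGeometry.Morphisms.Smooth
import Mathlib.Tactic
import Groth.Prelude.Def_Grpd
import Groth.Agent.Lib.Helper4.GrpdCalc
import Groth.Agent.Lib.Helper4.LargestOpenTarget

set_option autoImplicit false
universe u
open CategoryTheory AlgebraicGeometry TopologicalSpace Limits MorphismProperty

namespace Groth.Agent.Lib.Helper4.GrpdStab

open Grpd Groth.Agent.Lib.Helper4.GrpdCalc

variable {S : Scheme.{u}} (G : GroupoidScheme S) {T : Scheme.{u}}

theorem j_fst : G.j ≫ pullback.fst G.pU G.pU = G.t := pullback.lift_fst _ _ _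
theorem j_snd : G.j ≫ pullback.snd G.pU G.pU = G.s := pullback.lift_snd _ _ _
theorem diag_fst : G.diag ≫ pullback.fst G.pU G.pU = 𝟙 _ := pullback.lift_fst _ _ _
theorem diag_snd : G.diag ≫ pullback.snd G.pU G.pU = 𝟙 _ := pullback.lift_snd _ _ _

/-- the arrow underlying a point of the stabilizer -/
noncomputable def arr (a : T ⟶ G.stabilizer) : T ⟶ G.R := a ≫ pullback.fst G.j G.diag

theorem arr_t_aux (a : T ⟶ pullback G.j G.diag) :
    (a ≫ pullback.fst G.j G.diag) ≫ G.t = a ≫ pullback.snd G.j G.diag := by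
  have := congrArg (· ≫ pullback.fst G.pU G.pU) (pullback.condition (f := G.j) (g := G.diag))
  simp only [Category.assoc, j_fst, diag_fst, Category.comp_id] at this
  rw [Category.assoc, this]

theorem arr_s_aux (a : T ⟶ pullback G.j G.diag) :
    (a ≫ pullback.fst G.j G.diag) ≫ G.s = a ≫ pullback.snd G.j G.diag := by
  have := congrArg (· ≫ pullback.snd G.pU G.pU) (pullback.condition (f := G.j) (g := G.diag))
  simp only [Category.assoc, j_snd, diag_snd, Category.comp_id] at this
  rw [Category.assoc, this]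

theorem arr_t (a : T ⟶ G.stabilizer) : arr G a ≫ G.t = a ≫ G.stabilizerToU := arr_t_aux G a

theorem arr_s (a : T ⟶ G.stabilizer) : arr G a ≫ G.s = a ≫ G.stabilizerToU := arr_s_aux G a

noncomputable def mkStab (γ : T ⟶ G.R) (x : T ⟶ G.U) (ht : γ ≫ G.t = x) (hs : γ ≫ G.s = x) :
    T ⟶ G.stabilizer :=
  pullback.lift γ x (by
    apply pullback.hom_ext
    · rw [Category.assoc, Category.assoc, j_fst, diag_fst, Category.comp_id, ht]
    · rw [Category.assoc, Category.assoc, j_snd, diag_snd, Category.comp_id, hs])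

theorem arr_mkStab (γ : T ⟶ G.R) (x : T ⟶ G.U) (ht : γ ≫ G.t = x) (hs : γ ≫ G.s = x) :
    arr G (mkStab G γ x ht hs) = γ := pullback.lift_fst _ _ _

theorem mkStab_π (γ : T ⟶ G.R) (x : T ⟶ G.U) (ht : γ ≫ G.t = x) (hs : γ ≫ G.s = x) :
    mkStab G γ x ht hs ≫ G.stabilizerToU = x := pullback.lift_snd _ _ _

theorem stab_ext (a b : T ⟶ G.stabilizer) (h : arr G a = arr G b) : a = b := by
  apply pullback.hom_ext
  · exact h
  · have h1 := arr_t G a
    have h2 := arr_t G b
    rw [h] at h1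
    exact h1.symm.trans h2

/-- `r⁻¹ γ r` -/
noncomputable def conj (r γ : T ⟶ G.R) (h : r ≫ G.t = γ ≫ G.t) (h' : γ ≫ G.s = r ≫ G.t) : T ⟶ G.R :=
  cmp G (cmp G (r ≫ G.i) γ (by rw [Category.assoc, G.i_s]; exact h)) r (by rw [cmp_s]; exact h')

/-- `r γ r⁻¹` -/
noncomputable def conj' (r γ : T ⟶ G.R) (h : r ≫ G.s = γ ≫ G.t) (h' : γ ≫ G.s = r ≫ G.s) : T ⟶ G.R :=
  cmp G (cmp G r γ h) (r ≫ G.i) (by rw [cmp_s, Category.assoc, G.i_t]; exact h')

theorem conj_s (r γ : T ⟶ G.R) (h h') : conj G r γ h h' ≫ G.s = r ≫ G.s := by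
  unfold conj; rw [cmp_s]
theorem conj_t (r γ : T ⟶ G.R) (h h') : conj G r γ h h' ≫ G.t = r ≫ G.s := by
  unfold conj; rw [cmp_t, cmp_t, Category.assoc, G.i_t]
theorem conj'_s (r γ : T ⟶ G.R) (h h') : conj' G r γ h h' ≫ G.s = r ≫ G.t := by
  unfold conj'; rw [cmp_s, Category.assoc, G.i_s]
theorem conj'_t (r γ : T ⟶ G.R) (h h') : conj' G r γ h h' ≫ G.t = r ≫ G.t := by
  unfold conj'; rw [cmp_t, cmp_t]

theorem conj_conj' (r γ : T ⟶ G.R) (h : r ≫ G.s = γ ≫ G.t) (h' : γ ≫ G.s = r ≫ G.s) (h1 h2) :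
    conj G r (conj' G r γ h h') h1 h2 = γ := by
  unfold conj conj'
  have hi : (r ≫ G.i) ≫ G.s = r ≫ G.t := by rw [Category.assoc, G.i_s]
  have hi' : r ≫ G.s = (r ≫ G.i) ≫ G.t := by rw [Category.assoc, G.i_t]
  have e1 : cmp G (r ≫ G.i) (cmp G (cmp G r γ h) (r ≫ G.i) (by rw [cmp_s]; exact h'.trans hi'))
      (by rw [cmp_t, cmp_t]; exact hi) =
      cmp G (cmp G (r ≫ G.i) (cmp G r γ h) (by rw [cmp_t]; exact hi)) (r ≫ G.i)
        (by rw [cmp_s, cmp_s]; exact h'.trans hi') :=
    (cmp_assoc G _ _ _ _ _ _ _).symm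
  have e2 : cmp G (r ≫ G.i) (cmp G r γ h) (by rw [cmp_t]; exact hi) = γ := L1 G r γ h _
  rw [cmp_congr G (e1.trans (cmp_congr G e2 rfl _ (h'.trans hi'))) rfl _
    (by rw [cmp_s, Category.assoc, G.i_s])]
  exact L4 G r γ (h'.trans hi') _

theorem conj'_conj (r γ : T ⟶ G.R) (h : r ≫ G.t = γ ≫ G.t) (h' : γ ≫ G.s = r ≫ G.t) (h1 h2) :
    conj' G r (conj G r γ h h') h1 h2 = γ := by
  unfold conj conj'
  have hi : (r ≫ G.i) ≫ G.s = r ≫ G.t := by rw [Category.assoc, G.i_s]
  have hi' : r ≫ G.s = (r ≫ G.i) ≫ G.t := by rw [Category.assoc, G.i_t]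
  have e1 : cmp G r (cmp G (cmp G (r ≫ G.i) γ (hi.trans h)) r (by rw [cmp_s]; exact h'))
      (by rw [cmp_t, cmp_t]; exact hi') =
      cmp G (cmp G r (cmp G (r ≫ G.i) γ (hi.trans h)) (by rw [cmp_t]; exact hi')) r
        (by rw [cmp_s, cmp_s]; exact h') :=
    (cmp_assoc G _ _ _ _ _ _ _).symm
  have e2 : cmp G r (cmp G (r ≫ G.i) γ (hi.trans h)) (by rw [cmp_t]; exact hi') = γ :=
    L2 G r γ (hi.trans h) _
  rw [cmp_congr G (e1.trans (cmp_congr G e2 rfl _ h')) rfl _
    (by rw [cmp_s]; exact hi')]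
  exact L3 G r γ h' _

theorem conj_congr {r r' γ γ' : T ⟶ G.R} (hr : r = r') (hγ : γ = γ') (h h') (h1 h2) :
    conj G r γ h h' = conj G r' γ' h1 h2 := by
  subst hr; subst hγ; rfl

theorem conj'_congr {r r' γ γ' : T ⟶ G.R} (hr : r = r') (hγ : γ = γ') (h h') (h1 h2) :
    conj' G r γ h h' = conj' G r' γ' h1 h2 := by
  subst hr; subst hγ; rfl

/-- the conjugation morphism `(γ, r) ↦ r⁻¹ γ r` from `Stab ×_{U,t} R` to `Stab` -/
noncomputable def φ : pullback G.stabilizerToU G.t ⟶ G.stabilizer :=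
  mkStab G
    (conj G (pullback.snd G.stabilizerToU G.t) (arr G (pullback.fst G.stabilizerToU G.t))
      (by rw [arr_t, pullback.condition]) (by rw [arr_s, pullback.condition]))
    (pullback.snd G.stabilizerToU G.t ≫ G.s) (conj_t G _ _ _ _) (conj_s G _ _ _ _)

theorem φ_π : φ G ≫ G.stabilizerToU = pullback.snd G.stabilizerToU G.t ≫ G.s := mkStab_π G _ _ _ _

theorem arr_precomp {T' : Scheme.{u}} (m : T' ⟶ T) (a : T ⟶ G.stabilizer) :
    arr G (m ≫ a) = m ≫ arr G a := Category.assoc _ _ _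

theorem conj_precomp {T' : Scheme.{u}} (m : T' ⟶ T) (r γ : T ⟶ G.R) (h h') (h1 h2) :
    m ≫ conj G r γ h h' = conj G (m ≫ r) (m ≫ γ) h1 h2 := by
  unfold conj
  rw [precomp G m _ _ _ (by
    rw [Category.assoc, cmp_s, Category.assoc, h'])]
  apply cmp_congr G _ rfl
  rw [precomp G m _ _ _ (by simp only [Category.assoc]; rw [G.i_s, h])]
  exact cmp_congr G (Category.assoc _ _ _).symm rfl _ _

theorem isPullback_φ :
    IsPullback (φ G) (pullback.snd G.stabilizerToU G.t) G.stabilizerToU G.s := by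
  refine ⟨⟨φ_π G⟩, ⟨PullbackCone.IsLimit.mk _
    (fun k => pullback.lift
      (mkStab G (conj' G k.snd (arr G k.fst) (by rw [arr_t, k.condition]) (by rw [arr_s, k.condition]))
        (k.snd ≫ G.t) (conj'_t G _ _ _ _) (conj'_s G _ _ _ _))
      k.snd (mkStab_π G _ _ _ _)) ?_ ?_ ?_⟩⟩
  · intro k
    apply stab_ext
    rw [arr_precomp]
    unfold φ
    rw [arr_mkStab]
    rw [conj_precomp G _ _ _ _ _ (by
        rw [pullback.lift_snd, ← arr_precomp, pullback.lift_fst, arr_mkStab, conj'_t])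
      (by rw [pullback.lift_snd, ← arr_precomp, pullback.lift_fst, arr_mkStab, conj'_s])]
    have e1 : pullback.lift
        (mkStab G (conj' G k.snd (arr G k.fst) (by rw [arr_t, k.condition]) (by rw [arr_s, k.condition]))
          (k.snd ≫ G.t) (conj'_t G _ _ _ _) (conj'_s G _ _ _ _))
        k.snd (mkStab_π G _ _ _ _) ≫ pullback.snd G.stabilizerToU G.t = k.snd := pullback.lift_snd _ _ _
    have e2 : pullback.lift
        (mkStab G (conj' G k.snd (arr G k.fst) (by rw [arr_t, k.condition]) (by rw [arr_s, k.condition]))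
          (k.snd ≫ G.t) (conj'_t G _ _ _ _) (conj'_s G _ _ _ _))
        k.snd (mkStab_π G _ _ _ _) ≫ arr G (pullback.fst G.stabilizerToU G.t) =
        conj' G k.snd (arr G k.fst) (by rw [arr_t, k.condition]) (by rw [arr_s, k.condition]) := by
      rw [← arr_precomp, pullback.lift_fst, arr_mkStab]
    rw [conj_congr G e1 e2 _ _ (by rw [conj'_t]) (by rw [conj'_s])]
    exact conj_conj' G _ _ _ _ _ _
  · intro k
    exact pullback.lift_snd _ _ _
  · intro k m hm1 hm2
    apply pullback.hom_ext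
    · rw [pullback.lift_fst]
      apply stab_ext
      rw [arr_mkStab]
      have hγ : arr G k.fst = conj G k.snd (arr G (m ≫ pullback.fst G.stabilizerToU G.t))
          (by rw [arr_t, Category.assoc, pullback.condition, ← Category.assoc, hm2])
          (by rw [arr_s, Category.assoc, pullback.condition, ← Category.assoc, hm2]) := by
        rw [← hm1, arr_precomp]
        unfold φ
        rw [arr_mkStab]
        rw [conj_precomp G m _ _ _ _
          (by rw [← arr_precomp, arr_t, Category.assoc, Category.assoc, pullback.condition])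
          (by rw [← arr_precomp, arr_s, Category.assoc, Category.assoc, pullback.condition])]
        exact conj_congr G hm2 (arr_precomp G _ _).symm _ _ _ _
      rw [conj'_congr G rfl hγ _ _ (by rw [conj_t]) (by rw [conj_s])]
      exact (conj'_conj G _ _ _ _ _ _).symm
    · rw [pullback.lift_snd]
      exact hm2

open Groth.Agent.Lib.Helper4.LargestOpenTarget in
theorem invariant (Q : MorphismProperty Scheme.{u}) [Q.IsMultiplicative] [Q.IsStableUnderBaseChange]
    (hQimm : ∀ {A B : Scheme.{u}} (j : A ⟶ B) [IsOpenImmersion j], Q j)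
    (hQopen : ∀ {A B : Scheme.{u}} (j : A ⟶ B), Q j → IsOpenMap j)
    (P : MorphismProperty Scheme.{u}) [hP : P.IsLocalAtTarget (Scheme.precoverage Q)]
    (hs : Q G.s) (ht : Q G.t) (W : G.U.Opens) (hW : P (G.stabilizerToU ∣_ W))
    (hmax : ∀ W' : G.U.Opens, P (G.stabilizerToU ∣_ W') → W' ≤ W) : G.s ⁻¹ᵁ W = G.t ⁻¹ᵁ W := by
  have hresp : P.RespectsIso := IsLocalAtTarget.toRespects (Scheme.precoverage Q)
  obtain ⟨W₀, hW₀, hW₀max, -, h4⟩ := target_main Q P hQimm hQopen G.stabilizerToU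
  obtain rfl : W₀ = W := le_antisymm (hmax W₀ hW₀) (hW₀max W hW)
  obtain ⟨W₁, hW₁, hW₁max, -, -⟩ := target_main Q P hQimm hQopen (pullback.snd G.stabilizerToU G.t)
  have e1 : W₁ = G.t ⁻¹ᵁ W₀ := h4 G.R G.t ht W₁ hW₁ hW₁max
  have hiff : ∀ O : G.R.Opens, P (pullback.snd G.stabilizerToU G.t ∣_ O) ↔
      P (pullback.snd G.stabilizerToU G.s ∣_ O) := by
    intro O
    rw [← bc_restrict_snd P G.stabilizerToU G.s O]
    exact (bc_iff P G.stabilizerToU (O.ι ≫ G.s) _ _
      ((isPullback_morphismRestrict (pullback.snd G.stabilizerToU G.t) O).flip.paste_horiz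
        (isPullback_φ G))).symm
  have e2 : W₁ = G.s ⁻¹ᵁ W₀ :=
    h4 G.R G.s hs W₁ ((hiff W₁).mp hW₁) (fun O hO => hW₁max O ((hiff O).mpr hO))
  rw [← e1, ← e2]

set_option backward.isDefEq.respectTransparency.types false in
theorem main (S : Scheme.{u}) (G : Grpd.GroupoidScheme S) (K : Precoverage Scheme.{u})
    (hK : K = Scheme.etalePrecoverage ∨ K = Scheme.precoverage @Smooth ∨ K = Scheme.fppfPrecoverage)
    (P : MorphismProperty Scheme.{u}) [P.IsLocalAtTarget K]
    (hs : Presieve.singleton G.s ∈ K G.U) (ht : Presieve.singleton G.t ∈ K G.U)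
    (W : G.U.Opens) (hW : P (G.stabilizerToU ∣_ W))
    (hmax : ∀ W' : G.U.Opens, P (G.stabilizerToU ∣_ W') → W' ≤ W) :
    G.s ⁻¹ᵁ W = G.t ⁻¹ᵁ W := by
  rcases hK with rfl | rfl | rfl
  · have hinst : P.IsLocalAtTarget (Scheme.precoverage @Etale) :=
      ‹P.IsLocalAtTarget Scheme.etalePrecoverage›
    have hs' : Presieve.singleton G.s ∈ Scheme.precoverage @Etale G.U := hs
    have ht' : Presieve.singleton G.t ∈ Scheme.precoverage @Etale G.U := ht
    rw [Scheme.singleton_mem_precoverage_iff] at hs' ht'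
    exact invariant G @Etale (fun j _ => inferInstance)
      (fun j hj => by
        have : Etale j := hj
        exact j.isOpenMap) P hs'.2 ht'.2 W hW hmax
  · rw [Scheme.singleton_mem_precoverage_iff] at hs ht
    have hmul : MorphismProperty.IsMultiplicative (@Smooth : MorphismProperty Scheme.{u}) :=
      { id_mem := fun X => inferInstance
        comp_mem := fun f g hf hg => MorphismProperty.comp_mem _ f g hf hg }
    exact invariant G @Smooth (fun j _ => inferInstance)
      (fun j hj => by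
        have : Smooth j := hj
        exact j.isOpenMap) P hs.2 ht.2 W hW hmax
  · have hinst : P.IsLocalAtTarget (Scheme.precoverage (@Flat ⊓ @LocallyOfFinitePresentation)) :=
      ‹P.IsLocalAtTarget Scheme.fppfPrecoverage›
    have hs' : Presieve.singleton G.s ∈ Scheme.precoverage (@Flat ⊓ @LocallyOfFinitePresentation) G.U := hs
    have ht' : Presieve.singleton G.t ∈ Scheme.precoverage (@Flat ⊓ @LocallyOfFinitePresentation) G.U := ht
    rw [Scheme.singleton_mem_precoverage_iff] at hs' ht'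
    have hmul : (@Flat ⊓ @LocallyOfFinitePresentation : MorphismProperty Scheme.{u}).IsMultiplicative :=
      { id_mem := fun X => ⟨inferInstance, inferInstance⟩
        comp_mem := fun f g hf hg => by
          have := hf.1
          have := hf.2
          have := hg.1
          have := hg.2
          exact ⟨inferInstance, inferInstance⟩ }
    exact invariant G (@Flat ⊓ @LocallyOfFinitePresentation)
      (fun j _ => ⟨inferInstance, inferInstance⟩)
      (fun j hj => by
        have := hj.1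
        have := hj.2
        exact j.isOpenMap) P hs'.2 ht'.2 W hW hmax

end Groth.Agent.Lib.Helper4.GrpdStab
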