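import Mathlib.AlgebraicGeometry.Morphisms.Separated
import Mathlib.AlgebraicGeometry.Morphisms.QuasiSeparated
import Mathlib.Tactic
import Groth.Prelude.Def_Grpd
import Groth.Agent.Lib.Helper4.GrpdCalc
import Groth.Agent.Lib.Helper4.GrpdStab

set_option autoImplicit false
universe u
open CategoryTheory AlgebraicGeometry TopologicalSpace Limits

namespace Groth.Agent.Lib.Helper4.GrpdSepJ

open Grpd GrpdCalc GrpdStab

variable {S : Scheme.{u}} (G : GroupoidScheme S) {T : Scheme.{u}}

theorem j_t : G.j ≫ pullback.fst G.pU G.pU = G.t := pullback.lift_fst _ _ _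
theorem j_s : G.j ≫ pullback.snd G.pU G.pU = G.s := pullback.lift_snd _ _ _

theorem p_t : pullback.fst G.j G.j ≫ G.t = pullback.snd G.j G.j ≫ G.t := by
  rw [← j_t, ← Category.assoc, pullback.condition, Category.assoc]

theorem p_s : pullback.fst G.j G.j ≫ G.s = pullback.snd G.j G.j ≫ G.s := by
  rw [← j_s, ← Category.assoc, pullback.condition, Category.assoc]

/-- `(r, r') ↦ r⁻¹ ∘ r'` as an arrow -/
noncomputable def δarr : pullback G.j G.j ⟶ G.R :=
  cmp G (pullback.fst G.j G.j ≫ G.i) (pullback.snd G.j G.j)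
    (by rw [Category.assoc, G.i_s]; exact p_t G)

theorem δarr_t : δarr G ≫ G.t = pullback.fst G.j G.j ≫ G.s := by
  unfold δarr; rw [cmp_t, Category.assoc, G.i_t]

theorem δarr_s : δarr G ≫ G.s = pullback.fst G.j G.j ≫ G.s := by
  unfold δarr; rw [cmp_s, p_s]

/-- `(r, r') ↦ r⁻¹ ∘ r'` into the stabilizer -/
noncomputable def δ : pullback G.j G.j ⟶ G.stabilizer :=
  mkStab G (δarr G) (pullback.fst G.j G.j ≫ G.s) (δarr_t G) (δarr_s G)

theorem eStab_arr : arr G G.eStab = G.e := pullback.lift_fst _ _ _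
theorem eStab_π : G.eStab ≫ G.stabilizerToU = 𝟙 _ := pullback.lift_snd _ _ _

theorem isPullback_diag :
    IsPullback (pullback.diagonal G.j) G.s (δ G) G.eStab := by
  have comm : pullback.diagonal G.j ≫ δ G = G.s ≫ G.eStab := by
    apply stab_ext
    rw [arr_precomp, arr_precomp, eStab_arr]
    unfold δ
    rw [arr_mkStab]
    unfold δarr
    rw [precomp G _ _ _ _ (by simp [G.i_s])]
    have e1 : pullback.diagonal G.j ≫ pullback.fst G.j G.j ≫ G.i = 𝟙 _ ≫ G.i := by simp
    have e2 : pullback.diagonal G.j ≫ pullback.snd G.j G.j = 𝟙 _ := by simp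
    rw [cmp_congr G e1 e2 _ (by simp [G.i_s])]
    rw [i_cmp, Category.id_comp]
  refine ⟨⟨comm⟩, ⟨PullbackCone.IsLimit.mk _
    (fun k => k.fst ≫ pullback.fst G.j G.j) ?_ ?_ ?_⟩⟩
  · intro k
    -- arr of the condition
    have hc := congrArg (fun a => arr G a) k.condition
    simp only [arr_precomp, eStab_arr] at hc
    have hc2 : k.fst ≫ δarr G = k.snd ≫ G.e := by
      have : arr G (δ G) = δarr G := arr_mkStab G _ _ _ _
      rw [← this]; exact hc
    have hπ : k.fst ≫ pullback.fst G.j G.j ≫ G.s = k.snd := by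
      have h1 := congrArg (fun a => a ≫ G.stabilizerToU) k.condition
      simp only [Category.assoc, eStab_π, Category.comp_id] at h1
      rw [← h1]
      unfold δ
      rw [mkStab_π]
    apply pullback.hom_ext
    · simp
    · simp only [Category.assoc, pullback.diagonal_snd, Category.comp_id]
      -- r = r'
      obtain ⟨r, hr⟩ : ∃ r, r = k.fst ≫ pullback.fst G.j G.j := ⟨_, rfl⟩
      obtain ⟨r', hr'⟩ : ∃ r', r' = k.fst ≫ pullback.snd G.j G.j := ⟨_, rfl⟩
      rw [← Category.assoc, ← hr] at hπ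
      rw [← hr, ← hr']
      have hrt : (r ≫ G.i) ≫ G.s = r' ≫ G.t := by
        rw [Category.assoc, G.i_s, hr, hr', Category.assoc, Category.assoc, p_t]
      have h2 : cmp G (r ≫ G.i) r' hrt = k.snd ≫ G.e := by
        rw [← hc2]
        unfold δarr
        rw [precomp G _ _ _ _ (by simp only [Category.assoc]; rw [G.i_s, p_t])]
        exact cmp_congr G (by rw [hr, Category.assoc]) hr' _ _
      have hi : r ≫ G.s = (r ≫ G.i) ≫ G.t := by rw [Category.assoc, G.i_t]
      have h3 := L2 G r r' hrt (by rw [cmp_t]; exact hi)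
      rw [← h3]
      have hse : r ≫ G.s = (k.snd ≫ G.e) ≫ G.t := by
        rw [Category.assoc, G.e_t, Category.comp_id, hπ]
      rw [cmp_congr G rfl h2 _ hse]
      exact (cmp_e G r _ (by rw [← hπ, Category.assoc]) _).symm
  · intro k
    have h1 := congrArg (fun a => a ≫ G.stabilizerToU) k.condition
    simp only [Category.assoc, eStab_π, Category.comp_id] at h1
    rw [← h1]
    unfold δ
    rw [mkStab_π, Category.assoc]
  · intro k m hm1 hm2
    rw [← hm1]
    simp

theorem main : ((IsSeparated G.j ↔ IsSeparated G.stabilizerToU) ∧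
    (IsSeparated G.stabilizerToU ↔ IsClosedImmersion G.eStab)) ∧
    ((QuasiSeparated G.j ↔ QuasiSeparated G.stabilizerToU) ∧
    (QuasiSeparated G.stabilizerToU ↔ QuasiCompact G.eStab)) := by
  have h1 : IsSeparated G.j → IsSeparated G.stabilizerToU := fun h =>
    MorphismProperty.of_isPullback (P := @IsSeparated) (IsPullback.of_hasPullback G.j G.diag) h
  have h2 : IsSeparated G.stabilizerToU → IsClosedImmersion G.eStab := fun h => by
    have : IsClosedImmersion (G.eStab ≫ G.stabilizerToU) := by rw [eStab_π]; infer_instance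
    exact IsClosedImmersion.of_comp G.eStab G.stabilizerToU
  have h3 : IsClosedImmersion G.eStab → IsSeparated G.j := fun h =>
    ⟨MorphismProperty.of_isPullback (P := @IsClosedImmersion) (isPullback_diag G).flip h⟩
  have h1' : QuasiSeparated G.j → QuasiSeparated G.stabilizerToU := fun h =>
    MorphismProperty.of_isPullback (P := @QuasiSeparated) (IsPullback.of_hasPullback G.j G.diag) h
  have h2' : QuasiSeparated G.stabilizerToU → QuasiCompact G.eStab := fun h => by
    have : QuasiCompact (G.eStab ≫ G.stabilizerToU) := by rw [eStab_π]; infer_instance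
    exact QuasiCompact.of_comp G.eStab G.stabilizerToU
  have h3' : QuasiCompact G.eStab → QuasiSeparated G.j := fun h =>
    ⟨MorphismProperty.of_isPullback (P := @QuasiCompact) (isPullback_diag G).flip h⟩
  exact ⟨⟨⟨h1, fun h => h3 (h2 h)⟩, ⟨h2, fun h => h1 (h3 h)⟩⟩,
    ⟨⟨h1', fun h => h3' (h2' h)⟩, ⟨h2', fun h => h1' (h3' h)⟩⟩⟩

end Groth.Agent.Lib.Helper4.GrpdSepJ
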