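import Mathlib.AlgebraicGeometry.Morphisms.Separated
import Mathlib.AlgebraicGeometry.Morphisms.QuasiSeparated
import Mathlib.AlgebraicGeometry.Morphisms.UniversallyOpen
import Mathlib.Tactic
import Groth.Prelude.Def_Grpd
import Groth.Agent.Lib.Helper4.GrpToGrpd
import Groth.Agent.Lib.Helper4.GrpdInvariant
import Groth.Agent.Lib.Helper4.GrpdSepJ
import Groth.Agent.Lib.Helper4.GrpdAct

set_option autoImplicit false
universe u
open CategoryTheory MonoidalCategory CartesianMonoidalCategory MonObj GrpObj AlgebraicGeometry Limits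

namespace Groth.Agent.Lib.Helper4.GrpSchBasics

open GrpToGrpd

theorem isOpenMap_mul (K : Type u) [Field K] (G : Over (Spec (CommRingCat.of K))) [GrpObj G] :
    IsOpenMap (μ[G].left : (G ⊗ G).left ⟶ G.left) := by
  obtain ⟨h1, h2⟩ := GrpdAct.field_facts (ofGrp G) K (Iso.refl _)
  have h3 : UniversallyOpen (ofGrp G).s := inferInstance
  have h4 : UniversallyOpen (ofGrp G).c :=
    MorphismProperty.of_isPullback (P := @UniversallyOpen)
      (GrpdInvariant.isPullback_c (ofGrp G)).flip h3
  exact (ofGrp G).c.isOpenMap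

variable {S : Scheme.{u}} (G : Over S) [GrpObj G]

instance : IsIso (ofGrp G).pU := inferInstanceAs (IsIso (𝟙 S))

theorem j_fst : (ofGrp G).j ≫ pullback.fst (ofGrp G).pU (ofGrp G).pU = G.hom :=
  pullback.lift_fst _ _ _

theorem isIso_diag : IsIso (ofGrp G).diag := by
  have h : (ofGrp G).diag ≫ pullback.fst (ofGrp G).pU (ofGrp G).pU = 𝟙 _ := pullback.lift_fst _ _ _
  have : IsIso ((ofGrp G).diag ≫ pullback.fst (ofGrp G).pU (ofGrp G).pU) := by
    rw [h]; infer_instance
  exact IsIso.of_isIso_comp_right _ (pullback.fst (ofGrp G).pU (ofGrp G).pU)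

/-- the projection from the stabilizer to the arrows -/
noncomputable def stabFst : (ofGrp G).stabilizer ⟶ (ofGrp G).R :=
  pullback.fst (ofGrp G).j (ofGrp G).diag

theorem isIso_stab_fst : IsIso (stabFst G) := by
  have := isIso_diag G
  exact (inferInstance : IsIso (pullback.fst (ofGrp G).j (ofGrp G).diag))

theorem eStab_fst : (ofGrp G).eStab ≫ stabFst G = η[G].left :=
  pullback.lift_fst _ _ _

theorem sep_iff : (IsSeparated G.hom ↔ IsClosedImmersion η[G].left) ∧
    (QuasiSeparated G.hom ↔ QuasiCompact η[G].left) := by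
  obtain ⟨⟨a1, a2⟩, ⟨b1, b2⟩⟩ := GrpdSepJ.main (ofGrp G)
  have hiso := isIso_stab_fst G
  have e1 : IsSeparated G.hom ↔ IsSeparated (ofGrp G).j := by
    have h := j_fst G
    constructor
    · intro hs
      have : IsSeparated ((ofGrp G).j ≫ pullback.fst (ofGrp G).pU (ofGrp G).pU) := by
        rw [h]; exact hs
      exact IsSeparated.of_comp (ofGrp G).j (pullback.fst (ofGrp G).pU (ofGrp G).pU)
    · intro hs
      have : IsSeparated ((ofGrp G).j ≫ pullback.fst (ofGrp G).pU (ofGrp G).pU) := inferInstance
      rw [h] at this; exact this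
  have e2 : IsClosedImmersion η[G].left ↔ IsClosedImmersion (ofGrp G).eStab := by
    have h := eStab_fst G
    constructor
    · intro hs
      have : IsClosedImmersion ((ofGrp G).eStab ≫ stabFst G) := by
        rw [h]; exact hs
      exact IsClosedImmersion.of_comp (ofGrp G).eStab (stabFst G)
    · intro hs
      have : IsClosedImmersion ((ofGrp G).eStab ≫ stabFst G) :=
        inferInstance
      rw [h] at this; exact this
  have e3 : QuasiSeparated G.hom ↔ QuasiSeparated (ofGrp G).j := by
    have h := j_fst G
    constructor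
    · intro hs
      have : QuasiSeparated ((ofGrp G).j ≫ pullback.fst (ofGrp G).pU (ofGrp G).pU) := by
        rw [h]; exact hs
      exact QuasiSeparated.of_comp (ofGrp G).j (pullback.fst (ofGrp G).pU (ofGrp G).pU)
    · intro hs
      have : QuasiSeparated ((ofGrp G).j ≫ pullback.fst (ofGrp G).pU (ofGrp G).pU) :=
        inferInstance
      rw [h] at this; exact this
  have e4 : QuasiCompact η[G].left ↔ QuasiCompact (ofGrp G).eStab := by
    have h := eStab_fst G
    constructor
    · intro hs
      have : QuasiCompact ((ofGrp G).eStab ≫ stabFst G) := by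
        rw [h]; exact hs
      exact QuasiCompact.of_comp (ofGrp G).eStab (stabFst G)
    · intro hs
      have : QuasiCompact ((ofGrp G).eStab ≫ stabFst G) :=
        inferInstance
      rw [h] at this; exact this
  exact ⟨e1.trans ((a1.trans a2).trans e2.symm), e3.trans ((b1.trans b2).trans e4.symm)⟩

end Groth.Agent.Lib.Helper4.GrpSchBasics
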