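import Mathlib.Tactic
import Mathlib.AlgebraicGeometry.Group.Abelian
import Mathlib.AlgebraicGeometry.Morphisms.Separated
import Groth.Agent.Lib.Helper4.GrpSchBasics

open CategoryTheory MonoidalCategory CartesianMonoidalCategory MonObj GrpObj AlgebraicGeometry Limits

universe u

namespace Groth.Agent.Lib.Helper4.GrpFieldSep

/-- group schemes over a field are separated -/
theorem isSeparated_of_field (k : Type u) [Field k] (G : Over (Spec (CommRingCat.of k))) [GrpObj G] :
    IsSeparated G.hom :=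
  (GrpSchBasics.sep_iff G).1.mpr inferInstance

theorem main8018 (k K : Type u) [Field k] [Field K] [Algebra k K]
    (G H : Over (Spec (CommRingCat.of k))) [GrpObj G] [GrpObj H]
    (hd : ∀ (Z : Over (Spec (CommRingCat.of k))) (c : Z ⟶ G), IsClosedImmersion c.left →
      (∀ g : Over.mk (Spec.map (CommRingCat.ofHom (algebraMap k K))) ⟶ G, ∃ z : Over.mk (Spec.map (CommRingCat.ofHom (algebraMap k K))) ⟶ Z, z ≫ c = g) → IsIso c)
    (φ₁ φ₂ : G ⟶ H) (h : ∀ g : Over.mk (Spec.map (CommRingCat.ofHom (algebraMap k K))) ⟶ G, g ≫ φ₁ = g ≫ φ₂) : φ₁ = φ₂ := by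
  have hsep : IsSeparated H.hom := isSeparated_of_field k H
  have hci : IsClosedImmersion (equalizer.ι φ₁ φ₂).left := inferInstance
  have hiso : IsIso (equalizer.ι φ₁ φ₂) := hd _ (equalizer.ι φ₁ φ₂) hci
    (fun g => ⟨equalizer.lift g (h g), equalizer.lift_ι _ _⟩)
  rw [← cancel_epi (equalizer.ι φ₁ φ₂)]
  exact equalizer.condition φ₁ φ₂

end Groth.Agent.Lib.Helper4.GrpFieldSep
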