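import Mathlib.Tactic
import Mathlib.RingTheory.Bialgebra.MonoidAlgebra
import Mathlib.RingTheory.Finiteness.ModuleFinitePresentation
import Mathlib.RingTheory.RingHom.FaithfullyFlat
import Mathlib.RingTheory.RingHom.FinitePresentation
import Mathlib.Algebra.Category.Ring.Constructions
import Mathlib.Data.ZMod.Basic

set_option autoImplicit false
universe u
open MonoidAlgebra

namespace Groth.Agent.Lib.Helper4.KummerAlg

variable (R : Type u) [CommRing R] (n : ℕ)

abbrev LA := MonoidAlgebra R (Multiplicative ℤ)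
abbrev LC := MonoidAlgebra R (Multiplicative (ZMod n))

/-- the `n`-th power map on the Laurent polynomial ring `R[ℤ]` -/
noncomputable def phi : LA R →+* LA R :=
  (MonoidAlgebra.mapDomainAlgHom R R (AddMonoidHom.toMultiplicative (zmultiplesHom ℤ (n:ℤ)))).toRingHom

noncomputable def psi : LA R →+* LC R n :=
  (MonoidAlgebra.mapDomainAlgHom R R (AddMonoidHom.toMultiplicative (Int.castAddHom (ZMod n)))).toRingHom

theorem phi_single (k : ℤ) (r : R) :
    phi R n (single (Multiplicative.ofAdd k) r) = single (Multiplicative.ofAdd (k * n)) r := by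
  simp [phi]

theorem psi_single (k : ℤ) (r : R) :
    psi R n (single (Multiplicative.ofAdd k) r) = single (Multiplicative.ofAdd (k : ZMod n)) r := by
  simp [psi]

/-- the map `Mult ℤ → Mult ℤ`, `k ↦ k * n`. -/
def fn : Multiplicative ℤ → Multiplicative ℤ := fun g => Multiplicative.ofAdd (g.toAdd * (n : ℤ))

theorem fn_injective [NeZero n] : Function.Injective (fn n) := by
  intro a b h
  have h' : a.toAdd * (n : ℤ) = b.toAdd * (n : ℤ) := Multiplicative.ofAdd.injective h
  have hn : (n : ℤ) ≠ 0 := by exact_mod_cast NeZero.ne n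
  exact Multiplicative.toAdd.injective (mul_right_cancel₀ hn h')

theorem coeff_phi (a : LA R) (g : Multiplicative ℤ) :
    (phi R n a).coeff g = Finsupp.mapDomain (fn n) a.coeff g := by
  simp only [phi]
  rfl

/-- the candidate basis -/
noncomputable def bas (i : Fin n) : LA R := single (Multiplicative.ofAdd ((i : ℕ) : ℤ)) 1

/-- the combination map -/
noncomputable def comb (a : Fin n → LA R) : LA R := ∑ i, phi R n (a i) * bas R n i

theorem coeff_comb [NeZero n] (a : Fin n → LA R) (k : ℤ) (j : Fin n) :
    (comb R n a).coeff (Multiplicative.ofAdd (k * n + ((j : ℕ) : ℤ))) =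
      (a j).coeff (Multiplicative.ofAdd k) := by
  unfold comb bas
  rw [coeff_sum, Finset.sum_apply']
  rw [Finset.sum_eq_single j]
  · rw [coeff_mul_single_apply, coeff_phi, _root_.mul_one]
    have : Multiplicative.ofAdd (k * n + ((j : ℕ) : ℤ)) * (Multiplicative.ofAdd ((j : ℕ) : ℤ))⁻¹
        = fn n (Multiplicative.ofAdd k) := by
      unfold fn
      rw [← ofAdd_neg, ← ofAdd_add]
      simp
    rw [this, Finsupp.mapDomain_apply (fn_injective n)]
  · intro i _ hij
    rw [coeff_mul_single_apply, coeff_phi, _root_.mul_one]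
    apply Finsupp.mapDomain_notin_range
    rintro ⟨g, hg⟩
    apply hij
    unfold fn at hg
    rw [← ofAdd_neg, ← ofAdd_add] at hg
    have h' : g.toAdd * (n : ℤ) = k * n + ((j : ℕ) : ℤ) + -((i : ℕ) : ℤ) :=
      Multiplicative.ofAdd.injective hg
    have hi := i.isLt
    have hj := j.isLt
    have hdvd : (n : ℤ) ∣ ((j : ℕ) : ℤ) - ((i : ℕ) : ℤ) := ⟨g.toAdd - k, by linarith⟩
    have : ((j : ℕ) : ℤ) - ((i : ℕ) : ℤ) = 0 := by
      apply Int.eq_zero_of_abs_lt_dvd hdvd
      rw [abs_lt]
      constructor <;> omega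
    apply Fin.ext
    omega
  · intro h
    exact absurd (Finset.mem_univ j) h

/-- shifted embedding `k ↦ k * n + i` -/
def sh (i : Fin n) : Multiplicative ℤ → Multiplicative ℤ :=
  fun g => Multiplicative.ofAdd (g.toAdd * (n : ℤ) + ((i : ℕ) : ℤ))

theorem sh_injective [NeZero n] (i : Fin n) : Function.Injective (sh n i) := by
  intro a b h
  have h' : a.toAdd * (n : ℤ) + ((i : ℕ) : ℤ) = b.toAdd * (n : ℤ) + ((i : ℕ) : ℤ) :=
    Multiplicative.ofAdd.injective h
  have hn : (n : ℤ) ≠ 0 := by exact_mod_cast NeZero.ne n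
  exact Multiplicative.toAdd.injective (mul_right_cancel₀ hn (add_right_cancel h'))

theorem comb_injective [NeZero n] : Function.Injective (comb R n) := by
  intro a a' h
  funext j
  ext g
  obtain ⟨k, rfl⟩ := Multiplicative.ofAdd.surjective g
  rw [← coeff_comb R n a k j, ← coeff_comb R n a' k j, h]

theorem comb_surjective [NeZero n] : Function.Surjective (comb R n) := by
  intro x
  refine ⟨fun i => comapDomain (sh n i) (sh_injective n i) x, ?_⟩
  ext g
  obtain ⟨m, rfl⟩ := Multiplicative.ofAdd.surjective g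
  have hn : (0 : ℤ) < n := by exact_mod_cast Nat.pos_of_ne_zero (NeZero.ne n)
  have h0 : 0 ≤ m % (n : ℤ) := Int.emod_nonneg _ hn.ne'
  have h1 : m % (n : ℤ) < n := Int.emod_lt_of_pos _ hn
  let j : Fin n := ⟨(m % (n : ℤ)).toNat, by omega⟩
  have hj : ((j : ℕ) : ℤ) = m % (n : ℤ) := by
    show (((m % (n : ℤ)).toNat : ℕ) : ℤ) = _
    omega
  have hm : m = (m / (n : ℤ)) * n + ((j : ℕ) : ℤ) := by
    rw [hj]
    have := Int.mul_ediv_add_emod m n
    linarith [mul_comm (m / (n:ℤ)) (n:ℤ)]
  conv_lhs => rw [hm]
  rw [coeff_comb, coeff_comapDomain]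
  show x.coeff (sh n j (Multiplicative.ofAdd (m / (n : ℤ)))) = _
  unfold sh
  rw [toAdd_ofAdd, ← hm]

/-- type synonym: `R[ℤ]` as an algebra over itself via `phi` -/
def LB (R : Type u) [CommRing R] (_n : ℕ) : Type u := LA R

noncomputable instance : CommRing (LB R n) := inferInstanceAs (CommRing (LA R))
noncomputable instance : Algebra (LA R) (LB R n) := (phi R n).toAlgebra

noncomputable def combL : (Fin n → LA R) →ₗ[LA R] LB R n where
  toFun := comb R n
  map_add' a b := by
    unfold comb
    simp [add_mul, Finset.sum_add_distrib]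
    rfl
  map_smul' c a := by
    show comb R n (c • a) = phi R n c * comb R n a
    unfold comb
    rw [Finset.mul_sum]
    refine Finset.sum_congr rfl fun i _ => ?_
    simp [mul_assoc]

noncomputable def basis [NeZero n] : Module.Basis (Fin n) (LA R) (LB R n) :=
  Module.Basis.ofEquivFun
    (LinearEquiv.ofBijective (combL R n) ⟨comb_injective R n, comb_surjective R n⟩).symm

theorem faithfullyFlat [NeZero n] [Nontrivial R] : (phi R n).FaithfullyFlat := by
  have : Module.Free (LA R) (LB R n) := Module.Free.of_basis (basis R n)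
  have : Nontrivial (LB R n) := inferInstanceAs (Nontrivial (LA R))
  exact (inferInstance : Module.FaithfullyFlat (LA R) (LB R n))

theorem finitePresentation [NeZero n] : (phi R n).FinitePresentation := by
  have : Module.Free (LA R) (LB R n) := Module.Free.of_basis (basis R n)
  have : Module.Finite (LA R) (LB R n) := Module.Finite.of_basis (basis R n)
  have : Module.FinitePresentation (LA R) (LB R n) := Module.finitePresentation_of_projective _ _
  exact Algebra.FinitePresentation.of_finitePresentation (LA R) (LB R n)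


/-- the counit as a ring hom -/
noncomputable def eps : LA R →+* R := (Bialgebra.counitAlgHom R (LA R) : LA R →+* R)

theorem eps_single (g : Multiplicative ℤ) (r : R) : eps R (single g r) = r := by
  simp [eps]

variable {R n}

theorem exists_unique_lift [NeZero n] {D : Type u} [CommRing D] (f : LA R →+* D) (g : R →+* D)
    (hfg : f.comp (phi R n) = g.comp (eps R)) :
    ∃! h : LC R n →+* D, h.comp (psi R n) = f ∧ h.comp (algebraMap R (LC R n)) = g := by
  let _ : Algebra R D := g.toAlgebra
  have hfg' : ∀ x, f (phi R n x) = g (eps R x) := fun x => congrArg (fun φ => φ x) hfg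
  have hf1 : ∀ r : R, f (single 1 r) = g r := by
    intro r
    have := hfg' (single (Multiplicative.ofAdd 0) r)
    rw [phi_single, eps_single] at this
    simpa using this
  let χ₀ : Multiplicative ℤ →* D := (f : LA R →* D).comp (of R (Multiplicative ℤ))
  have hχ₀ : ∀ k : ℤ, χ₀ (Multiplicative.ofAdd k) = f (single (Multiplicative.ofAdd k) 1) := fun k => rfl
  have hχn : χ₀ (Multiplicative.ofAdd (n : ℤ)) = 1 := by
    rw [hχ₀]
    have := hfg' (single (Multiplicative.ofAdd 1) 1)
    rw [phi_single, eps_single, _root_.one_mul, map_one] at this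
    exact this
  let f₀ : ℤ →+ Additive Dˣ := MonoidHom.toAdditiveRight χ₀.toHomUnits
  have hf₀ : f₀ (n : ℤ) = 0 := by
    show Additive.ofMul (χ₀.toHomUnits (Multiplicative.ofAdd (n : ℤ))) = 0
    rw [← ofMul_one]
    congr 1
    ext
    rw [MonoidHom.coe_toHomUnits, hχn, Units.val_one]
  let χ : Multiplicative (ZMod n) →* D :=
    (Units.coeHom D).comp (AddMonoidHom.toMultiplicativeLeft (ZMod.lift n ⟨f₀, hf₀⟩))
  have hχ : ∀ k : ℤ, χ (Multiplicative.ofAdd (k : ZMod n)) = χ₀ (Multiplicative.ofAdd k) := by
    intro k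
    show ((Additive.toMul (ZMod.lift n ⟨f₀, hf₀⟩ (k : ZMod n)) : Dˣ) : D) = _
    rw [ZMod.lift_coe]
    rfl
  let h : LC R n →ₐ[R] D := MonoidAlgebra.lift R D _ χ
  have hpsi : (h : LC R n →+* D).comp (psi R n) = f := by
    apply MonoidAlgebra.ringHom_ext
    · intro r
      have h1 : (single 1 r : LA R) = single (Multiplicative.ofAdd 0) r := rfl
      rw [RingHom.comp_apply, h1, psi_single, ← h1, hf1 r]
      show h (single _ r) = _
      rw [MonoidAlgebra.lift_single]
      simp only [Int.cast_zero, ofAdd_zero, map_one]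
      rw [Algebra.smul_def, _root_.mul_one]
      rfl
    · intro m
      obtain ⟨k, rfl⟩ := Multiplicative.ofAdd.surjective m
      rw [RingHom.comp_apply, psi_single]
      show h (single _ 1) = _
      rw [MonoidAlgebra.lift_single, one_smul, hχ, hχ₀]
  have halg : (h : LC R n →+* D).comp (algebraMap R (LC R n)) = g := by
    ext r
    exact h.commutes r
  refine ⟨h, ⟨hpsi, halg⟩, ?_⟩
  rintro h' ⟨h1, h2⟩
  apply MonoidAlgebra.ringHom_ext
  · intro r
    have e1 : (single 1 r : LC R n) = algebraMap R (LC R n) r := rfl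
    rw [e1]
    rw [← RingHom.comp_apply, ← RingHom.comp_apply, h2, halg]
  · intro m
    obtain ⟨z, rfl⟩ := Multiplicative.ofAdd.surjective m
    have e1 : (single (Multiplicative.ofAdd z) 1 : LC R n) =
        psi R n (single (Multiplicative.ofAdd (z.cast : ℤ)) 1) := by
      rw [psi_single, ZMod.intCast_zmod_cast]
    rw [e1, ← RingHom.comp_apply, ← RingHom.comp_apply, h1, hpsi]

variable (R n)

theorem psi_comp_phi : (psi R n).comp (phi R n) = (algebraMap R (LC R n)).comp (eps R) := by
  apply MonoidAlgebra.ringHom_ext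
  · intro r
    have h1 : (single 1 r : LA R) = single (Multiplicative.ofAdd 0) r := rfl
    rw [RingHom.comp_apply, RingHom.comp_apply, h1, phi_single, psi_single, eps_single]
    simp
  · intro m
    obtain ⟨k, rfl⟩ := Multiplicative.ofAdd.surjective m
    rw [RingHom.comp_apply, RingHom.comp_apply, phi_single, psi_single, eps_single]
    simp

open CategoryTheory Limits in
theorem isPushout [NeZero n] :
    IsPushout (CommRingCat.ofHom (phi R n)) (CommRingCat.ofHom (eps R))
      (CommRingCat.ofHom (psi R n)) (CommRingCat.ofHom (algebraMap R (LC R n))) := by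
  have hc : CommRingCat.ofHom (phi R n) ≫ CommRingCat.ofHom (psi R n) =
      CommRingCat.ofHom (eps R) ≫ CommRingCat.ofHom (algebraMap R (LC R n)) := by
    ext1
    exact psi_comp_phi R n
  have key : ∀ s : PushoutCocone (CommRingCat.ofHom (phi R n)) (CommRingCat.ofHom (eps R)),
      ∃! h : LC R n →+* s.pt, h.comp (psi R n) = s.inl.hom ∧
        h.comp (algebraMap R (LC R n)) = s.inr.hom := fun s =>
    exists_unique_lift s.inl.hom s.inr.hom (congrArg CommRingCat.Hom.hom s.condition)
  refine ⟨⟨hc⟩, ⟨PushoutCocone.IsColimit.mk _ (fun s => CommRingCat.ofHom (key s).choose) ?_ ?_ ?_⟩⟩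
  · intro s
    ext1
    exact (key s).choose_spec.1.1
  · intro s
    ext1
    exact (key s).choose_spec.1.2
  · intro s m h1 h2
    ext1
    exact (key s).choose_spec.2 m.hom ⟨congrArg CommRingCat.Hom.hom h1, congrArg CommRingCat.Hom.hom h2⟩

end Groth.Agent.Lib.Helper4.KummerAlg
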