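import Mathlib.Tactic
import Mathlib.AlgebraicGeometry.Morphisms.Smooth
import Groth.Prelude.Def_AlgGrp
import Groth.Agent.Lib.Helper4.KerPts
import Groth.Agent.Lib.Helper4.FpqcDesc
import Groth.Agent.Lib.Helper4.AffineDescent

set_option autoImplicit false
universe u
open CategoryTheory MonoidalCategory CartesianMonoidalCategory MonObj AlgebraicGeometry Limits

namespace Groth.Agent.Lib.Helper4.QuotAffine

variable {S : Scheme.{u}}

/-- the kernel pair of a homomorphism `q` with kernel `h : H ⟶ G` is `G × H`. -/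
theorem isPullback_of_isKernel {G H Q : Over S} [GrpObj G] [GrpObj Q] (h : H ⟶ G) (q : G ⟶ Q)
    [IsMonHom q] (hk : AlgGrp.IsKernel h q) :
    IsPullback (fst G H) ((G ◁ h) ≫ μ[G]) q q := by
  rw [KerPts.isKernel_iff] at hk
  have hact : ∀ (T : Over S) (x : T ⟶ G) (n : T ⟶ H), lift x n ≫ (G ◁ h) ≫ μ[G] = x * (n ≫ h) := by
    intro T x n
    rw [← Category.assoc, Hom.mul_def]
    congr 1
    apply CartesianMonoidalCategory.hom_ext <;> simp
  have key : ∀ (T : Over S) (x y : T ⟶ G), x ≫ q = y ≫ q → ∃! z : T ⟶ G ⊗ H,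
      z ≫ fst G H = x ∧ z ≫ (G ◁ h) ≫ μ[G] = y := by
    intro T x y hxy
    have h1 : (x⁻¹ * y) ≫ q = 1 := by
      rw [MonObj.mul_comp, GrpObj.inv_comp, hxy, inv_mul_cancel]
    obtain ⟨n, hn, hnu⟩ := hk.2 T _ h1
    refine ⟨lift x n, ⟨by simp, ?_⟩, ?_⟩
    · have hn' : n ≫ h = x⁻¹ * y := hn
      rw [hact, hn', mul_inv_cancel_left]
    · rintro z ⟨hz1, hz2⟩
      have hz : z = lift x (z ≫ snd G H) := by
        apply CartesianMonoidalCategory.hom_ext <;> simp [hz1]
      rw [hz]
      congr 1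
      apply hnu
      show (z ≫ snd G H) ≫ h = x⁻¹ * y
      rw [hz, hact] at hz2
      rw [← hz2, inv_mul_cancel_left]
  have hw : fst G H ≫ q = ((G ◁ h) ≫ μ[G]) ≫ q := by
    have : (G ◁ h) ≫ μ[G] = lift (fst G H) (snd G H) ≫ (G ◁ h) ≫ μ[G] := by simp
    rw [this, hact, MonObj.mul_comp, Category.assoc, hk.1, MonObj.comp_one, _root_.mul_one]
  refine IsPullback.mk ⟨hw⟩ ⟨PullbackCone.IsLimit.mk _
    (fun s => (key s.pt s.fst s.snd s.condition).choose) ?_ ?_ ?_⟩
  · intro s
    exact (key s.pt s.fst s.snd s.condition).choose_spec.1.1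
  · intro s
    exact (key s.pt s.fst s.snd s.condition).choose_spec.1.2
  · intro s m hm1 hm2
    exact (key s.pt s.fst s.snd s.condition).choose_spec.2 m ⟨hm1, hm2⟩

set_option backward.isDefEq.respectTransparency false in
theorem isAffineHom_of_isKernel {G H Q : Over S} [GrpObj G] [GrpObj Q] (h : H ⟶ G) (q : G ⟶ Q)
    [IsMonHom q] (hk : AlgGrp.IsKernel h q) [IsAffineHom H.hom]
    [Surjective q.left] [Flat q.left] [QuasiCompact q.left] : IsAffineHom q.left := by
  have sq := (isPullback_of_isKernel h q hk).map (Over.forget S)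
  have : IsAffineHom ((Over.forget S).map (fst G H)) := by
    show IsAffineHom (pullback.fst G.hom H.hom)
    exact MorphismProperty.pullback_fst (P := @IsAffineHom) _ _ inferInstance
  exact @AffineDescent.isAffineHom_of_isPullback _ _ _ _ _ _ q.left q.left sq _ _ _ this

theorem main11424 (k : Type u) [Field k] [IsAlgClosed k]
    (G H Q : Over (Spec (CommRingCat.of k))) [GrpObj G] [Smooth G.hom] [QuasiCompact G.hom]
    [GrpObj H] (h : H ⟶ G) [IsMonHom h] [IsClosedImmersion h.left] [Smooth H.hom] [IsAffine H.left]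
    [GrpObj Q] [LocallyOfFiniteType Q.hom] [QuasiCompact Q.hom]
    (q : G ⟶ Q) [IsMonHom q] [Surjective q.left] [Flat q.left] (hk : AlgGrp.IsKernel h q) :
    IsAffineHom q.left := by
  have := FpqcDesc.quasiCompact_of_field k G Q q
  exact isAffineHom_of_isKernel h q hk

end Groth.Agent.Lib.Helper4.QuotAffine
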