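import Mathlib.Tactic
import Mathlib.AlgebraicGeometry.Group.Affine
import Mathlib.AlgebraicGeometry.Sites.Fpqc
import Mathlib.AlgebraicGeometry.Morphisms.Flat
import Groth.Prelude.Def_NonAbH2
import Groth.Prelude.Def_Red2
import Groth.Agent.Lib.Helper4.KummerAlg
import Groth.Agent.Lib.Helper4.QuotAffine

set_option autoImplicit false
universe u
open CategoryTheory MonoidalCategory CartesianMonoidalCategory MonObj AlgebraicGeometry Limits

namespace Groth.Agent.Lib.Helper4.KummerSeq

theorem diagMap_isMonHom (R : Type u) [CommRing R] {M N : Type} [AddCommGroup M] [AddCommGroup N]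
    (φ : M →+ N) : IsMonHom (Red.diagMap R φ) := by
  have := ((bialgSpec (CommRingCat.of R)).map
    (CommBialgCat.ofHom (MonoidAlgebra.mapDomainBialgHom R (AddMonoidHom.toMultiplicative φ))).op).isMonHom_hom
  exact this

theorem isKernel_diag (R : Type u) [CommRing R] (n : ℕ) [NeZero n] :
    AlgGrp.IsKernel (Red.diagMap R (Int.castAddHom (ZMod n)))
      (Red.diagMap R (zmultiplesHom ℤ (n:ℤ))) := by
  unfold AlgGrp.IsKernel
  have sq := ((KummerAlg.isPushout R n).op.map Scheme.Spec).flip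
  refine IsPullback.of_map (Over.forget _) ?_ ?_
  · apply Over.OverMorphism.ext
    exact sq.w
  · show IsPullback (Spec.map (CommRingCat.ofHom (KummerAlg.psi R n)))
      (Spec.map (CommRingCat.ofHom (algebraMap R (KummerAlg.LC R n))))
      (Spec.map (CommRingCat.ofHom (KummerAlg.phi R n)))
      (Spec.map (CommRingCat.ofHom (KummerAlg.eps R)))
    exact sq

section BC
variable {S S' : Scheme.{u}} (t : S' ⟶ S)

/-- the base change square for the map part of `Over.pullback t` -/
theorem isPullback_pullback_map {X Y : Over S} (g : X ⟶ Y) :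
    IsPullback (pullback.fst X.hom t) ((Over.pullback t).map g).left g.left
      (pullback.fst Y.hom t) := by
  have bot : IsPullback (pullback.fst Y.hom t) (pullback.snd Y.hom t) Y.hom t :=
    IsPullback.of_hasPullback _ _
  have big : IsPullback (pullback.fst X.hom t) (pullback.snd X.hom t) X.hom t :=
    IsPullback.of_hasPullback _ _
  refine IsPullback.of_bot ?_ ?_ bot
  · have h1 : ((Over.pullback t).map g).left ≫ pullback.snd Y.hom t = pullback.snd X.hom t :=
      pullback.lift_snd _ _ _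
    have h2 : g.left ≫ Y.hom = X.hom := Over.w g
    rw [h1, h2]
    exact big
  · exact (pullback.lift_fst _ _ _).symm

open scoped Obj in
theorem isKernel_pullback {N G Q : Over S} [GrpObj Q] (i : N ⟶ G) (q : G ⟶ Q)
    (hk : AlgGrp.IsKernel i q) :
    AlgGrp.IsKernel ((Over.pullback t).map i) ((Over.pullback t).map q) := by
  unfold AlgGrp.IsKernel at hk ⊢
  have h1 := hk.map (Over.pullback t)
  refine IsPullback.of_iso h1 (Iso.refl _) (Iso.refl _) (Functor.Monoidal.εIso (Over.pullback t)).symm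
    (Iso.refl _) ?_ ?_ ?_ ?_
  · simp
  · apply toUnit_unique
  · simp
  · simp

end BC

variable (S : Scheme.{u}) (n : ℕ)

theorem isMonHom_DSmap {M N : Type} [AddCommGroup M] [AddCommGroup N] (φ : M →+ N) :
    IsMonHom (Red.DSmap S φ) := by
  have := diagMap_isMonHom (ULift.{u} ℤ) φ
  unfold Red.DSmap
  exact Functor.map.instIsMonHom _ _ _

theorem isKernel_kummer [NeZero n] :
    AlgGrp.IsKernel (Red.DSmap S (Int.castAddHom (ZMod n))) (Red.chi S (n : ℤ)) :=
  isKernel_pullback _ _ _ (isKernel_diag (ULift.{u} ℤ) n)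

theorem chi_props [NeZero n] :
    Flat (Red.chi S (n : ℤ)).left ∧ Surjective (Red.chi S (n : ℤ)).left ∧
      LocallyOfFinitePresentation (Red.chi S (n : ℤ)).left ∧ QuasiCompact (Red.chi S (n : ℤ)).left := by
  have sq := isPullback_pullback_map (Limits.IsTerminal.from specULiftZIsTerminal S)
    (Red.diagMap (ULift.{u} ℤ) (zmultiplesHom ℤ (n:ℤ)))
  have hleft : (Red.diagMap (ULift.{u} ℤ) (zmultiplesHom ℤ (n:ℤ))).left =
      Spec.map (CommRingCat.ofHom (KummerAlg.phi (ULift.{u} ℤ) n)) := rfl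
  have hfs := (flat_and_surjective_SpecMap_iff
    (CommRingCat.ofHom (KummerAlg.phi (ULift.{u} ℤ) n))).mpr (KummerAlg.faithfullyFlat _ n)
  have hfp : LocallyOfFinitePresentation (Spec.map (CommRingCat.ofHom (KummerAlg.phi (ULift.{u} ℤ) n))) := by
    rw [HasRingHomProperty.Spec_iff (P := @LocallyOfFinitePresentation)]
    exact KummerAlg.finitePresentation _ n
  have hqc : QuasiCompact (Spec.map (CommRingCat.ofHom (KummerAlg.phi (ULift.{u} ℤ) n))) :=
    inferInstance
  rw [← hleft] at hfs hfp hqc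
  refine ⟨MorphismProperty.of_isPullback sq hfs.1, MorphismProperty.of_isPullback sq hfs.2,
    MorphismProperty.of_isPullback sq hfp, MorphismProperty.of_isPullback sq hqc⟩

theorem kummer_fppf [NeZero n] : NonAbH1.IsExactSeq Scheme.fppfPrecoverage
    (Red.DSmap S (Int.castAddHom (ZMod n))) (Red.chi S (n : ℤ)) := by
  have hu := isMonHom_DSmap S (Int.castAddHom (ZMod n))
  have hv : IsMonHom (Red.chi S (n:ℤ)) := isMonHom_DSmap S _
  have hk := isKernel_kummer S n
  obtain ⟨hfl, hsurj, hfp, hqc⟩ := chi_props S n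
  refine ⟨hu, hv, ((KerPts.isKernel_iff _ _).mp hk).1,
    QuotAffine.isPullback_of_isKernel _ _ hk, ?_⟩
  refine ⟨Presieve.singleton (Red.chi S (n:ℤ)).left,
    Scheme.Hom.singleton_mem_fppfPrecoverage _, ?_⟩
  rintro S' f ⟨⟩
  exact ⟨𝟙 _, Category.id_comp _⟩

theorem kummer_fpqc [NeZero n] : NonAbH1.IsExactSeq Scheme.fpqcPrecoverage
    (Red.DSmap S (Int.castAddHom (ZMod n))) (Red.chi S (n : ℤ)) := by
  have hu := isMonHom_DSmap S (Int.castAddHom (ZMod n))
  have hv : IsMonHom (Red.chi S (n:ℤ)) := isMonHom_DSmap S _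
  have hk := isKernel_kummer S n
  obtain ⟨hfl, hsurj, hfp, hqc⟩ := chi_props S n
  refine ⟨hu, hv, ((KerPts.isKernel_iff _ _).mp hk).1,
    QuotAffine.isPullback_of_isKernel _ _ hk, ?_⟩
  refine ⟨Presieve.singleton (Red.chi S (n:ℤ)).left,
    Scheme.Hom.singleton_mem_fpqcPrecoverage _, ?_⟩
  rintro S' f ⟨⟩
  exact ⟨𝟙 _, Category.id_comp _⟩

end Groth.Agent.Lib.Helper4.KummerSeq
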