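import Mathlib.Tactic
import Mathlib.AlgebraicGeometry.Morphisms.LocalFlatDescent
import Groth.Prelude.Def_AGF
import Groth.Agent.Lib.Helper4.FpqcDesc
import Groth.Agent.Lib.Helper4.QuotGrp
import Groth.Agent.Lib.Helper4.QuotFlat
import Groth.Agent.Lib.Helper4.AffineDescent

set_option autoImplicit false
universe u
open CategoryTheory MonoidalCategory CartesianMonoidalCategory MonObj AlgebraicGeometry Limits

namespace Groth.Agent.Lib.Helper4.QuotTower

variable {S : Scheme.{u}}

section act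
variable {G X : Over S} [GrpObj G] (a : AlgGrp.Action G X)

/-- pointwise action -/
noncomputable def smul {T : Over S} (g : T ⟶ G) (x : T ⟶ X) : T ⟶ X := lift g x ≫ a.act

theorem smul_smul {T : Over S} (g h : T ⟶ G) (x : T ⟶ X) :
    smul a g (smul a h x) = smul a (g * h) x := by
  unfold smul
  have h1 : lift (g * h) x = lift (lift g h) x ≫ (μ[G] ▷ X) := by
    apply CartesianMonoidalCategory.hom_ext
    · simp [Hom.mul_def]
    · simp
  rw [h1, Category.assoc, a.mul_act]
  have h2 : lift (lift g h) x ≫ (α_ G G X).hom ≫ (G ◁ a.act) = lift g (lift h x ≫ a.act) := by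
    apply CartesianMonoidalCategory.hom_ext
    · simp
    · simp
  rw [← h2]; simp

theorem one_smul {T : Over S} (x : T ⟶ X) : smul a 1 x = x := by
  unfold smul
  have h1 : lift (1 : T ⟶ G) x = lift (toUnit T) x ≫ (η[G] ▷ X) := by
    apply CartesianMonoidalCategory.hom_ext
    · simp [Hom.one_def]
    · simp
  rw [h1, Category.assoc, a.one_act]
  simp

theorem comp_smul {T T' : Over S} (t : T' ⟶ T) (g : T ⟶ G) (x : T ⟶ X) :
    t ≫ smul a g x = smul a (t ≫ g) (t ≫ x) := by
  unfold smul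
  rw [← Category.assoc, comp_lift]

theorem orbit {T : Over S} (o : 𝟙_ (Over S) ⟶ X) (g : T ⟶ G) :
    g ≫ a.orbitMap o = smul a g (toUnit T ≫ o) := by
  unfold smul AlgGrp.Action.orbitMap
  rw [← Category.assoc, comp_lift, Category.comp_id, ← Category.assoc]
  congr 3
  exact toUnit_unique _ _

theorem orbit_mul {T : Over S} (o : 𝟙_ (Over S) ⟶ X) (g h : T ⟶ G) :
    (g * h) ≫ a.orbitMap o = smul a g (h ≫ a.orbitMap o) := by
  rw [orbit, orbit, smul_smul]

theorem inv_smul_smul {T : Over S} (g : T ⟶ G) (x : T ⟶ X) : smul a g⁻¹ (smul a g x) = x := by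
  rw [smul_smul, inv_mul_cancel, one_smul]

theorem smul_inv_smul {T : Over S} (g : T ⟶ G) (x : T ⟶ X) : smul a g (smul a g⁻¹ x) = x := by
  rw [smul_smul, mul_inv_cancel, one_smul]

end act

section tower
variable {G X X' : Over S} [GrpObj G] (a : AlgGrp.Action G X) (o : 𝟙_ (Over S) ⟶ X)
  (a' : AlgGrp.Action G X') (o' : 𝟙_ (Over S) ⟶ X')
  (qbar : X ⟶ X') (hq : a.orbitMap o ≫ qbar = a'.orbitMap o')

include hq in
/-- `qbar` is equivariant as soon as `G ◁ π` is an epimorphism -/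
theorem equivariant [Epi (G ◁ a.orbitMap o)] {T : Over S} (g : T ⟶ G) (x : T ⟶ X) :
    smul a g x ≫ qbar = smul a' g (x ≫ qbar) := by
  have key : a.act ≫ qbar = (G ◁ qbar) ≫ a'.act := by
    rw [← cancel_epi (G ◁ a.orbitMap o)]
    have e1 : ∀ (f : G ⊗ G ⟶ G ⊗ X), f = lift (f ≫ fst G X) (f ≫ snd G X) := fun f => by
      apply CartesianMonoidalCategory.hom_ext <;> simp
    have l1 : (G ◁ a.orbitMap o) ≫ a.act = smul a (fst G G) (snd G G ≫ a.orbitMap o) := by
      unfold smul
      congr 1 <;> (apply CartesianMonoidalCategory.hom_ext <;> simp)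
    have l2 : (G ◁ a.orbitMap o) ≫ (G ◁ qbar) ≫ a'.act =
        smul a' (fst G G) (snd G G ≫ a'.orbitMap o') := by
      unfold smul
      rw [← Category.assoc, ← hq]
      congr 1 <;> (apply CartesianMonoidalCategory.hom_ext <;> simp)
    rw [← Category.assoc, l1, l2, ← orbit_mul, ← orbit_mul, Category.assoc, hq]
  unfold smul
  rw [Category.assoc, key, ← Category.assoc]
  congr 1 <;> (apply CartesianMonoidalCategory.hom_ext <;> simp)

variable {F : Over S} (j : F ⟶ X) (hF : IsPullback j (toUnit F) qbar o')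
  (heq : ∀ {T : Over S} (g : T ⟶ G) (x : T ⟶ X), smul a g x ≫ qbar = smul a' g (x ≫ qbar))

include hF in
theorem mono_j : Mono j := by
  constructor
  intro T u v huv
  exact hF.hom_ext huv (toUnit_unique _ _)

include hF heq in
/-- `G ×_{X'} X ≅ G × F` where `F` is the fibre of `qbar` over the base point. -/
theorem isPullback_fibre :
    IsPullback ((G ◁ j) ≫ a.act) (fst G F) qbar (a'.orbitMap o') := by
  have hj : Mono j := mono_j o' qbar j hF
  have hm : ∀ {T : Over S} (g : T ⟶ G) (f : T ⟶ F),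
      lift g f ≫ (G ◁ j) ≫ a.act = smul a g (f ≫ j) := by
    intro T g f
    unfold smul
    rw [← Category.assoc]
    congr 1 <;> (apply CartesianMonoidalCategory.hom_ext <;> simp)
  have hjq : ∀ {T : Over S} (f : T ⟶ F), (f ≫ j) ≫ qbar = toUnit T ≫ o' := by
    intro T f
    rw [Category.assoc, hF.w, ← Category.assoc]
    congr 1
    exact toUnit_unique _ _
  have key : ∀ (T : Over S) (x : T ⟶ X) (g : T ⟶ G), x ≫ qbar = g ≫ a'.orbitMap o' →
      ∃! z : T ⟶ G ⊗ F, z ≫ (G ◁ j) ≫ a.act = x ∧ z ≫ fst G F = g := by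
    intro T x g hxg
    have h1 : smul a g⁻¹ x ≫ qbar = toUnit T ≫ o' := by
      rw [heq, hxg, orbit, inv_smul_smul]
    refine ⟨lift g (hF.lift _ _ h1), ⟨?_, by simp⟩, ?_⟩
    · rw [hm, hF.lift_fst, smul_inv_smul]
    · rintro z ⟨hz1, hz2⟩
      have hz : z = lift g (z ≫ snd G F) := by
        apply CartesianMonoidalCategory.hom_ext <;> simp [hz2]
      rw [hz]
      congr 1
      rw [← cancel_mono j, hF.lift_fst]
      rw [hz, hm] at hz1
      rw [← hz1, inv_smul_smul]
  have hw : ((G ◁ j) ≫ a.act) ≫ qbar = fst G F ≫ a'.orbitMap o' := by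
    have : (G ◁ j) ≫ a.act = lift (fst G F) (snd G F) ≫ (G ◁ j) ≫ a.act := by simp
    rw [this, hm, heq, hjq, orbit]
  refine IsPullback.mk ⟨hw⟩ ⟨PullbackCone.IsLimit.mk _
    (fun s => (key s.pt s.fst s.snd s.condition).choose) ?_ ?_ ?_⟩
  · intro s
    exact (key s.pt s.fst s.snd s.condition).choose_spec.1.1
  · intro s
    exact (key s.pt s.fst s.snd s.condition).choose_spec.1.2
  · intro s m hm1 hm2
    exact (key s.pt s.fst s.snd s.condition).choose_spec.2 m ⟨hm1, hm2⟩

theorem one_comp_orbit {T : Over S} : (1 : T ⟶ G) ≫ a'.orbitMap o' = toUnit T ≫ o' := by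
  rw [orbit, one_smul]

variable {H' : Over S} [GrpObj H'] (i' : H' ⟶ G) [IsMonHom i']
  (hsq' : IsPullback ((G ◁ i') ≫ μ[G]) (fst G H') (a'.orbitMap o') (a'.orbitMap o'))

include hsq' in
theorem stab_comp_orbit {T : Over S} (n : T ⟶ H') :
    (n ≫ i') ≫ a'.orbitMap o' = toUnit T ≫ o' := by
  rw [← one_comp_orbit a' o' (T := T)]
  rw [QuotGrp.coeq_iff i' (a'.orbitMap o') hsq']
  exact ⟨n, (_root_.one_mul _).symm⟩

include hq hF hsq' in
/-- the base point stabilizer `H'` is `G ×_X F`. -/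
theorem isPullback_stab [Mono i'] (σ : H' ⟶ F) (hσ : σ ≫ j = i' ≫ a.orbitMap o) :
    IsPullback i' σ (a.orbitMap o) j := by
  have hj : Mono j := mono_j o' qbar j hF
  have hjq : ∀ {T : Over S} (f : T ⟶ F), (f ≫ j) ≫ qbar = toUnit T ≫ o' := by
    intro T f
    rw [Category.assoc, hF.w, ← Category.assoc]
    congr 1
    exact toUnit_unique _ _
  have key : ∀ (T : Over S) (g : T ⟶ G) (f : T ⟶ F), g ≫ a.orbitMap o = f ≫ j →
      ∃! n : T ⟶ H', n ≫ i' = g ∧ n ≫ σ = f := by
    intro T g f hgf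
    have h1 : g ≫ a'.orbitMap o' = (1 : T ⟶ G) ≫ a'.orbitMap o' := by
      rw [one_comp_orbit, ← hq, ← Category.assoc, hgf, hjq]
    obtain ⟨n, hn⟩ := (QuotGrp.coeq_iff i' (a'.orbitMap o') hsq' _ _).mp h1
    rw [_root_.one_mul] at hn
    refine ⟨n, ⟨hn.symm, ?_⟩, ?_⟩
    · rw [← cancel_mono j, Category.assoc, hσ, ← Category.assoc, ← hn, hgf]
    · rintro n' ⟨hn', -⟩
      rw [← cancel_mono i', hn', hn]
  refine IsPullback.mk ⟨hσ.symm⟩ ⟨PullbackCone.IsLimit.mk _
    (fun s => (key s.pt s.fst s.snd s.condition).choose) ?_ ?_ ?_⟩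
  · intro s
    exact (key s.pt s.fst s.snd s.condition).choose_spec.1.1
  · intro s
    exact (key s.pt s.fst s.snd s.condition).choose_spec.1.2
  · intro s m hm1 hm2
    exact (key s.pt s.fst s.snd s.condition).choose_spec.2 m ⟨hm1, hm2⟩

variable {H Y : Over S} [GrpObj H] (i : H ⟶ G) [IsMonHom i] (l : H ⟶ H') [IsMonHom l]
  (hl : l ≫ i' = i)
  (hsq : IsPullback ((G ◁ i) ≫ μ[G]) (fst G H) (a.orbitMap o) (a.orbitMap o))
  (ρ : H' ⟶ Y) (hsqY : IsPullback ((H' ◁ l) ≫ μ[H']) (fst H' H) ρ ρ)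

include hF hl hsq hsqY in
/-- two fpqc quotients of `H'` by `H` agree -/
theorem exists_iso_fibre [Mono i'] (σ : H' ⟶ F) (hσ : σ ≫ j = i' ≫ a.orbitMap o)
    [EffectiveEpi ρ.left] [EffectiveEpi σ.left] : ∃ e : F ≅ Y, σ ≫ e.hom = ρ := by
  have hj : Mono j := mono_j o' qbar j hF
  have hρ : Epi ρ := Over.epi_of_epi_left _
  have hσe : Epi σ := Over.epi_of_epi_left _
  have c1 : ∀ (W : Over S) (u v : W ⟶ H'), u ≫ ρ = v ≫ ρ → u ≫ σ = v ≫ σ := by
    intro W u v huv
    obtain ⟨n, hn⟩ := (QuotGrp.coeq_iff l ρ hsqY u v).mp huv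
    rw [← cancel_mono j, Category.assoc, Category.assoc, hσ, ← Category.assoc, ← Category.assoc,
      QuotGrp.coeq_iff i (a.orbitMap o) hsq]
    refine ⟨n, ?_⟩
    rw [hn, MonObj.mul_comp, Category.assoc, hl]
  have c2 : ∀ (W : Over S) (u v : W ⟶ H'), u ≫ σ = v ≫ σ → u ≫ ρ = v ≫ ρ := by
    intro W u v huv
    have h1 : (u ≫ i') ≫ a.orbitMap o = (v ≫ i') ≫ a.orbitMap o := by
      rw [Category.assoc, Category.assoc, ← hσ, ← Category.assoc, ← Category.assoc, huv]
    obtain ⟨n, hn⟩ := (QuotGrp.coeq_iff i (a.orbitMap o) hsq _ _).mp h1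
    rw [QuotGrp.coeq_iff l ρ hsqY]
    refine ⟨n, ?_⟩
    rw [← cancel_mono i', hn, MonObj.mul_comp, Category.assoc, hl]
  obtain ⟨e1, he1⟩ := FpqcDesc.exists_desc ρ σ c1
  obtain ⟨e2, he2⟩ := FpqcDesc.exists_desc σ ρ c2
  refine ⟨⟨e2, e1, ?_, ?_⟩, he2⟩
  · rw [← cancel_epi σ, ← Category.assoc, he2, he1, Category.comp_id]
  · rw [← cancel_epi ρ, ← Category.assoc, he1, he2, Category.comp_id]

end tower

set_option backward.isDefEq.respectTransparency false in
theorem main8007 (k : Type u) [Field k]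
    (G H H' : Over (Spec (CommRingCat.of k))) [GrpObj G] [GrpObj H] [GrpObj H']
    [LocallyOfFiniteType G.hom] [QuasiCompact G.hom] [LocallyOfFiniteType H.hom] [QuasiCompact H.hom] [LocallyOfFiniteType H'.hom] [QuasiCompact H'.hom]
    (i : H ⟶ G) [IsMonHom i] [IsClosedImmersion i.left] (i' : H' ⟶ G) [IsMonHom i'] [IsClosedImmersion i'.left]
    (l : H ⟶ H') [IsMonHom l] (hl : l ≫ i' = i)
    (X : Over (Spec (CommRingCat.of k))) (a : AlgGrp.Action G X) (o : 𝟙_ _ ⟶ X) (hX : AGF.IsQuotient i X a o)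
    (X' : Over (Spec (CommRingCat.of k))) (a' : AlgGrp.Action G X') (o' : 𝟙_ _ ⟶ X') (hX' : AGF.IsQuotient i' X' a' o')
    (Y : Over (Spec (CommRingCat.of k))) (b : AlgGrp.Action H' Y) (y : 𝟙_ _ ⟶ Y) (hY : AGF.IsQuotient l Y b y)
    (qbar : X ⟶ X') (hq : a.orbitMap o ≫ qbar = a'.orbitMap o') :
    (Flat qbar.left ∧ Surjective qbar.left) ∧ (Smooth Y.hom → Smooth qbar.left) ∧
      (IsFinite Y.hom → IsFinite qbar.left ∧ Flat qbar.left) := by
  obtain ⟨hX1, hX2, hX3, hX4⟩ := hX
  obtain ⟨hX'1, hX'2, hX'3, hX'4⟩ := hX'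
  obtain ⟨hY1, hY2, hY3, hY4⟩ := hY
  have hqc : QuasiCompact (a.orbitMap o).left := FpqcDesc.quasiCompact_of_field k G X _
  have hqc' : QuasiCompact (a'.orbitMap o').left := FpqcDesc.quasiCompact_of_field k G X' _
  have hqcY : QuasiCompact (b.orbitMap y).left := FpqcDesc.quasiCompact_of_field k H' Y _
  have hql : (a.orbitMap o).left ≫ qbar.left = (a'.orbitMap o').left :=
    congrArg CommaMorphism.left hq
  -- (A)
  have hflat : Flat qbar.left := by
    have : Flat ((a.orbitMap o).left ≫ qbar.left) := by rw [hql]; exact hX'2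
    exact QuotFlat.flat_of_flat_comp (a.orbitMap o).left qbar.left
  have hsurj : Surjective qbar.left := by
    have : Surjective ((a.orbitMap o).left ≫ qbar.left) := by rw [hql]; exact hX'3
    exact Surjective.of_comp (a.orbitMap o).left qbar.left
  -- equivariance
  have hepi : Epi (G ◁ a.orbitMap o) := by
    rw [← id_tensorHom]
    have : Surjective (𝟙 G : G ⟶ G).left := by show Surjective (𝟙 G.left); infer_instance
    have : Flat (𝟙 G : G ⟶ G).left := by show Flat (𝟙 G.left); infer_instance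
    have : QuasiCompact (𝟙 G : G ⟶ G).left := by show QuasiCompact (𝟙 G.left); infer_instance
    exact FpqcDesc.epi_tensorHom (𝟙 G) (a.orbitMap o)
  have heq : ∀ {T : Over (Spec (CommRingCat.of k))} (g : T ⟶ G) (x : T ⟶ X),
      smul a g x ≫ qbar = smul a' g (x ≫ qbar) := fun g x => equivariant a o a' o' qbar hq g x
  -- the fibre
  let F := Limits.pullback qbar o'
  let j : F ⟶ X := pullback.fst qbar o'
  have hF : IsPullback j (toUnit F) qbar o' := by
    have h0 := IsPullback.of_hasPullback qbar o'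
    have : pullback.snd qbar o' = toUnit F := toUnit_unique _ _
    rwa [this] at h0
  have P2 := isPullback_fibre a a' o' qbar j hF heq
  have hσw : (i' ≫ a.orbitMap o) ≫ qbar = toUnit H' ≫ o' := by
    rw [Category.assoc, hq]
    have := stab_comp_orbit a' o' i' hX'4.flip (𝟙 H')
    rwa [Category.id_comp] at this
  let σ : H' ⟶ F := hF.lift (i' ≫ a.orbitMap o) (toUnit H') hσw
  have hσ : σ ≫ j = i' ≫ a.orbitMap o := hF.lift_fst _ _ _
  have hmono : Mono i' := by
    have : Mono i'.left := inferInstance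
    exact Over.mono_of_mono_left i'
  have P3 := isPullback_stab a o a' o' qbar hq j hF i' hX'4.flip σ hσ
  have P3' := P3.map (Over.forget _)
  have hσ1 : Flat σ.left := MorphismProperty.of_isPullback (P := @Flat) P3' hX2
  have hσ2 : Surjective σ.left := MorphismProperty.of_isPullback (P := @Surjective) P3' hX3
  have hσ3 : QuasiCompact σ.left := MorphismProperty.of_isPullback (P := @QuasiCompact) P3' hqc
  obtain ⟨e, he⟩ := exists_iso_fibre a o o' qbar j hF i' i l hl hX4.flip (b.orbitMap y) hY4.flip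
    σ hσ
  have hFY : F.hom = e.hom.left ≫ Y.hom := (Over.w e.hom).symm
  have hiso : IsIso e.hom.left := by
    have : IsIso ((Over.forget _).map e.hom) := inferInstance
    exact this
  have sq : IsPullback (fst G F).left ((G ◁ j) ≫ a.act).left (a'.orbitMap o').left qbar.left :=
    P2.flip.map (Over.forget _)
  have hfst : (fst G F).left = pullback.fst G.hom F.hom := rfl
  refine ⟨⟨hflat, hsurj⟩, fun hsm => ?_, fun hfin => ⟨?_, hflat⟩⟩
  · have h1 : Smooth F.hom := by rw [hFY]; infer_instance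
    have h2 : Smooth (fst G F).left := by rw [hfst]; infer_instance
    exact MorphismProperty.of_isPullback_of_descendsAlong (P := @Smooth)
      (Q := (@Surjective ⊓ @Flat ⊓ @QuasiCompact : MorphismProperty Scheme.{u})) sq
      ⟨⟨hX'3, hX'2⟩, hqc'⟩ h2
  · have h1 : IsFinite F.hom := by rw [hFY]; infer_instance
    have h2 : IsFinite (fst G F).left := by rw [hfst]; infer_instance
    exact AffineDescent.isFinite_of_isPullback sq

end Groth.Agent.Lib.Helper4.QuotTower
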