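import Mathlib.Tactic
import Groth.Prelude.Def_AGF
import Groth.Agent.Lib.Helper4.QuotTower

set_option autoImplicit false
universe u
open CategoryTheory MonoidalCategory CartesianMonoidalCategory MonObj AlgebraicGeometry Limits

namespace Groth.Agent.Lib.Helper4.QuotUniv

open Groth.Agent.Lib.Helper4.QuotTower

variable {S : Scheme.{u}}

section univ
variable {G H X X' : Over S} [GrpObj G] [GrpObj H] (i : H ⟶ G) [IsMonHom i]
  (a : AlgGrp.Action G X) (o : 𝟙_ (Over S) ⟶ X)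
  (hsq : IsPullback ((G ◁ i) ≫ μ[G]) (fst G H) (a.orbitMap o) (a.orbitMap o))
  (a' : AlgGrp.Action G X') (o' : 𝟙_ (Over S) ⟶ X')
  (ho' : ∀ (T : Over S) (h : T ⟶ H), lift (h ≫ i) (toUnit T ≫ o') ≫ a'.act = toUnit T ≫ o')

include hsq ho' in
theorem existsUnique_equivariant [EffectiveEpi (a.orbitMap o).left] [Epi (G ◁ a.orbitMap o)] :
    ∃! f : X ⟶ X', (G ◁ f) ≫ a'.act = a.act ≫ f ∧ a.orbitMap o ≫ f = a'.orbitMap o' := by
  have hepi : Epi (a.orbitMap o) := Over.epi_of_epi_left _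
  have c : ∀ (W : Over S) (u v : W ⟶ G), u ≫ a.orbitMap o = v ≫ a.orbitMap o →
      u ≫ a'.orbitMap o' = v ≫ a'.orbitMap o' := by
    intro W u v huv
    obtain ⟨n, rfl⟩ := (QuotGrp.coeq_iff i (a.orbitMap o) hsq u v).mp huv
    have h1 : smul a' (n ≫ i) (toUnit W ≫ o') = toUnit W ≫ o' := ho' W n
    rw [orbit, orbit, ← QuotTower.smul_smul, h1]
  obtain ⟨f, hf⟩ := FpqcDesc.exists_desc (a.orbitMap o) (a'.orbitMap o') c
  refine ⟨f, ⟨?_, hf⟩, ?_⟩
  · have h1 := equivariant a o a' o' f hf (fst G X) (snd G X)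
    unfold smul at h1
    have e1 : lift (fst G X) (snd G X) = 𝟙 (G ⊗ X) := by
      apply CartesianMonoidalCategory.hom_ext <;> simp
    have e2 : lift (fst G X) (snd G X ≫ f) = G ◁ f := by
      apply CartesianMonoidalCategory.hom_ext <;> simp
    rw [e1, e2, Category.id_comp] at h1
    exact h1.symm
  · rintro f' ⟨-, hf'⟩
    rw [← cancel_epi (a.orbitMap o), hf, hf']

end univ

theorem main8014 (k : Type u) [Field k]
    (G H : Over (Spec (CommRingCat.of k))) [GrpObj G] [GrpObj H] [LocallyOfFiniteType G.hom] [QuasiCompact G.hom] [LocallyOfFiniteType H.hom] [QuasiCompact H.hom]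
    (i : H ⟶ G) [IsMonHom i] [IsClosedImmersion i.left]
    (X : Over (Spec (CommRingCat.of k))) (a : AlgGrp.Action G X) (o : 𝟙_ _ ⟶ X) (hX : AGF.IsQuotient i X a o)
    (X' : Over (Spec (CommRingCat.of k))) [LocallyOfFiniteType X'.hom] [QuasiCompact X'.hom] (a' : AlgGrp.Action G X') (o' : 𝟙_ _ ⟶ X')
    (ho' : ∀ (T : Over (Spec (CommRingCat.of k))) (h : T ⟶ H), lift (h ≫ i) (toUnit T ≫ o') ≫ a'.act = toUnit T ≫ o') :
    ∃! f : X ⟶ X', (G ◁ f) ≫ a'.act = a.act ≫ f ∧ a.orbitMap o ≫ f = a'.orbitMap o' := by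
  obtain ⟨hX1, hX2, hX3, hX4⟩ := hX
  have hqc : QuasiCompact (a.orbitMap o).left := FpqcDesc.quasiCompact_of_field k G X _
  have hepi : Epi (G ◁ a.orbitMap o) := by
    rw [← id_tensorHom]
    have : Surjective (𝟙 G : G ⟶ G).left := by show Surjective (𝟙 G.left); infer_instance
    have : Flat (𝟙 G : G ⟶ G).left := by show Flat (𝟙 G.left); infer_instance
    have : QuasiCompact (𝟙 G : G ⟶ G).left := by show QuasiCompact (𝟙 G.left); infer_instance
    exact FpqcDesc.epi_tensorHom (𝟙 G) (a.orbitMap o)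
  exact existsUnique_equivariant i a o hX4.flip a' o' ho'

section stab
variable {G X Go : Over S} [GrpObj G] (a : AlgGrp.Action G X) (o : 𝟙_ (Over S) ⟶ X)
  (i : Go ⟶ G) (hGo : IsPullback i (toUnit Go) (a.orbitMap o) o)

include hGo in
/-- the kernel pair of the orbit map is `G × Stab`. -/
theorem isPullback_of_stabilizer :
    IsPullback (fst G Go) ((G ◁ i) ≫ μ[G]) (a.orbitMap o) (a.orbitMap o) := by
  have hi : Mono i := by
    constructor
    intro T u v huv
    exact hGo.hom_ext huv (toUnit_unique _ _)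
  have hiw : ∀ {T : Over S} (n : T ⟶ Go), (n ≫ i) ≫ a.orbitMap o = toUnit T ≫ o := by
    intro T n
    rw [Category.assoc, hGo.w, ← Category.assoc]
    congr 1
    exact toUnit_unique _ _
  have hact : ∀ (T : Over S) (x : T ⟶ G) (n : T ⟶ Go),
      lift x n ≫ (G ◁ i) ≫ μ[G] = x * (n ≫ i) := by
    intro T x n
    rw [← Category.assoc, Hom.mul_def]
    congr 1
    apply CartesianMonoidalCategory.hom_ext <;> simp
  have key : ∀ (T : Over S) (x y : T ⟶ G), x ≫ a.orbitMap o = y ≫ a.orbitMap o →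
      ∃! z : T ⟶ G ⊗ Go, z ≫ fst G Go = x ∧ z ≫ (G ◁ i) ≫ μ[G] = y := by
    intro T x y hxy
    have h1 : (x⁻¹ * y) ≫ a.orbitMap o = toUnit T ≫ o := by
      rw [orbit_mul, ← hxy, orbit, QuotTower.inv_smul_smul]
    refine ⟨lift x (hGo.lift _ _ h1), ⟨by simp, ?_⟩, ?_⟩
    · rw [hact, hGo.lift_fst, mul_inv_cancel_left]
    · rintro z ⟨hz1, hz2⟩
      have hz : z = lift x (z ≫ snd G Go) := by
        apply CartesianMonoidalCategory.hom_ext <;> simp [hz1]
      rw [hz]
      congr 1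
      rw [← cancel_mono i, hGo.lift_fst]
      rw [hz, hact] at hz2
      rw [← hz2, inv_mul_cancel_left]
  have hw : fst G Go ≫ a.orbitMap o = ((G ◁ i) ≫ μ[G]) ≫ a.orbitMap o := by
    have : (G ◁ i) ≫ μ[G] = lift (fst G Go) (snd G Go) ≫ (G ◁ i) ≫ μ[G] := by simp
    rw [this, hact, orbit_mul, hiw, ← orbit]
  refine IsPullback.mk ⟨hw⟩ ⟨PullbackCone.IsLimit.mk _
    (fun s => (key s.pt s.fst s.snd s.condition).choose) ?_ ?_ ?_⟩
  · intro s
    exact (key s.pt s.fst s.snd s.condition).choose_spec.1.1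
  · intro s
    exact (key s.pt s.fst s.snd s.condition).choose_spec.1.2
  · intro s m hm1 hm2
    exact (key s.pt s.fst s.snd s.condition).choose_spec.2 m ⟨hm1, hm2⟩

end stab

theorem main8009 (k : Type u) [Field k]
    (G X Go : Over (Spec (CommRingCat.of k))) [GrpObj G] [GrpObj Go] [LocallyOfFiniteType G.hom] [QuasiCompact G.hom] [LocallyOfFiniteType X.hom] [QuasiCompact X.hom] [IsSeparated X.hom]
    (a : AlgGrp.Action G X) (o : 𝟙_ _ ⟶ X) (i : Go ⟶ G) [IsMonHom i]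
    (hGo : IsPullback i (toUnit Go) (a.orbitMap o) o) :
    AGF.IsQuotient i X a o ↔ (Flat (a.orbitMap o).left ∧ Surjective (a.orbitMap o).left) := by
  constructor
  · rintro ⟨-, h2, h3, -⟩
    exact ⟨h2, h3⟩
  · rintro ⟨h2, h3⟩
    exact ⟨inferInstance, h2, h3, isPullback_of_stabilizer a o i hGo⟩

end Groth.Agent.Lib.Helper4.QuotUniv
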