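import Mathlib.Tactic
import Mathlib.AlgebraicGeometry.IdealSheaf.Functorial
import Mathlib.AlgebraicGeometry.Morphisms.ClosedImmersion

open CategoryTheory AlgebraicGeometry Limits TopologicalSpace

namespace Groth.Agent.Lib.Helper4.RedSubscheme

universe u

open Scheme.IdealSheafData in
/-- the reduced induced closed subscheme structure is reduced -/
theorem isReduced_subscheme_vanishingIdeal {X : Scheme.{u}} (Z : Closeds X) :
    IsReduced (vanishingIdeal Z).subscheme := by
  have : ∀ i, IsReduced ((vanishingIdeal Z).subschemeCover.openCover.X i) := by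
    intro i
    let U : X.affineOpens := i
    have hred : _root_.IsReduced (Γ(X, U.1) ⧸ (vanishingIdeal Z).ideal U) := by
      apply (Ideal.isRadical_iff_quotient_reduced _).mp
      rw [vanishingIdeal_ideal]
      exact PrimeSpectrum.isRadical_vanishingIdeal _
    change IsReduced (Spec (CommRingCat.of (Γ(X, U.1) ⧸ (vanishingIdeal Z).ideal U)))
    infer_instance
  exact IsReduced.of_openCover _ (vanishingIdeal Z).subschemeCover.openCover

open Scheme.IdealSheafData in
theorem range_subschemeι_vanishingIdeal {X : Scheme.{u}} (Z : Closeds X) :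
    Set.range (vanishingIdeal Z).subschemeι = (Z : Set X) := by
  rw [range_subschemeι, coe_support_vanishingIdeal]

open Scheme.IdealSheafData in
theorem connectedSpace_subscheme_vanishingIdeal {X : Scheme.{u}} (Z : Closeds X)
    (hZ : _root_.IsConnected (Z : Set X)) : ConnectedSpace ↥(vanishingIdeal Z).subscheme := by
  let ι := (vanishingIdeal Z).subschemeι
  have hind : Topology.IsInducing ι := ι.isEmbedding.isInducing
  have hr : Set.range ι = (Z : Set X) := range_subschemeι_vanishingIdeal Z
  haveI : Nonempty ↥(vanishingIdeal Z).subscheme := by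
    obtain ⟨z, hz⟩ := hZ.nonempty
    rw [← hr] at hz
    obtain ⟨w, _⟩ := hz
    exact ⟨w⟩
  haveI : PreconnectedSpace ↥(vanishingIdeal Z).subscheme := by
    constructor
    rw [hind.isPreconnected_image.symm, Set.image_univ, hr]
    exact hZ.isPreconnected
  exact ConnectedSpace.mk inferInstance

end Groth.Agent.Lib.Helper4.RedSubscheme
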