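import Mathlib.Tactic
import Groth.Agent.Lib.Helper4.GrpSchBasics

set_option autoImplicit false
universe u
open CategoryTheory MonoidalCategory CartesianMonoidalCategory MonObj GrpObj AlgebraicGeometry Limits

namespace Groth.Agent.Lib.Helper4.SecDiscrete

theorem isClosed_range_section {X S : Scheme.{u}} [DiscreteTopology S] (f : X ⟶ S) (e : S ⟶ X)
    (h : e ≫ f = 𝟙 S) : IsClosed (Set.range e) := by
  have hfe : ∀ s : S, f (e s) = s := fun s => by
    have := congrArg (fun g : S ⟶ S => g s) h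
    simpa using this
  rw [← closure_subset_iff_isClosed]
  intro y hy
  obtain ⟨s₀, hs₀⟩ : ∃ s₀, s₀ = f y := ⟨_, rfl⟩
  have hopen : IsOpen ({s₀} : Set S) := isOpen_discrete _
  obtain ⟨W, hW, hs₀W, hWsub⟩ : ∃ W : S.Opens, W ∈ S.affineOpens ∧ s₀ ∈ W ∧ W ≤ (⟨{s₀}, hopen⟩ : S.Opens) := (TopologicalSpace.Opens.isBasis_iff_nbhd.mp S.isBasis_affineOpens)
    (show s₀ ∈ (⟨{s₀}, hopen⟩ : S.Opens) from rfl)
  replace hW : IsAffineOpen (W : S.Opens) := hW
  have hWeq : ∀ s ∈ W, s = s₀ := fun s hs => hWsub hs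
  obtain ⟨U, hU, hyU, hUsub⟩ : ∃ U : X.Opens, U ∈ X.affineOpens ∧ y ∈ U ∧ U ≤ f ⁻¹ᵁ W := (TopologicalSpace.Opens.isBasis_iff_nbhd.mp X.isBasis_affineOpens)
    (show y ∈ f ⁻¹ᵁ W by show f y ∈ W; rw [← hs₀]; exact hs₀W)
  replace hU : IsAffineOpen (U : X.Opens) := hU
  have key : ∀ s, e s ∈ U → s = s₀ := fun s hs => by
    have h1 : f (e s) ∈ W := hUsub hs
    rw [hfe] at h1
    exact hWeq s h1
  have hes₀ : e s₀ ∈ U := by
    obtain ⟨z, hzU, s, rfl⟩ := mem_closure_iff.mp hy U U.isOpen hyU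
    rwa [key s hzU] at hzU
  have hr1 : Set.range (W.ι ≫ e) ⊆ Set.range U.ι := by
    rintro _ ⟨w, rfl⟩
    have : W.ι w = s₀ := hWeq _ w.2
    simp only [Scheme.Hom.comp_apply, this, Scheme.Opens.range_ι]
    exact hes₀
  have hr2 : Set.range (U.ι ≫ f) ⊆ Set.range W.ι := by
    rintro _ ⟨w, rfl⟩
    simp only [Scheme.Hom.comp_apply, Scheme.Opens.range_ι]
    exact hUsub w.2
  let e' : (W : Scheme) ⟶ U := IsOpenImmersion.lift U.ι (W.ι ≫ e) hr1
  let f' : (U : Scheme) ⟶ W := IsOpenImmersion.lift W.ι (U.ι ≫ f) hr2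
  have he' : e' ≫ U.ι = W.ι ≫ e := IsOpenImmersion.lift_fac _ _ _
  have hf' : f' ≫ W.ι = U.ι ≫ f := IsOpenImmersion.lift_fac _ _ _
  have hef : e' ≫ f' = 𝟙 _ := by
    rw [← cancel_mono W.ι, Category.assoc, hf', reassoc_of% he', h]; simp
  have : IsAffine (U : Scheme) := hU
  have : IsAffine (W : Scheme) := hW
  have : IsClosedImmersion (e' ≫ f') := by rw [hef]; infer_instance
  have hci : IsClosedImmersion e' := IsClosedImmersion.of_comp e' f'
  have hcl : IsClosed (Set.range e') := e'.isClosedEmbedding.isClosed_range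
  by_contra hny
  -- the open set U \ range e'
  have hopen2 : IsOpen (U.ι '' (Set.range e')ᶜ) :=
    U.ι.isOpenEmbedding.isOpenMap _ hcl.isOpen_compl
  have hy2 : y ∈ U.ι '' (Set.range e')ᶜ := by
    refine ⟨⟨y, hyU⟩, ?_, rfl⟩
    rintro ⟨w, hw⟩
    apply hny
    refine ⟨W.ι w, ?_⟩
    have h3 : U.ι (e' w) = e (W.ι w) := by
      rw [← Scheme.Hom.comp_apply, he', Scheme.Hom.comp_apply]
    rw [← h3, hw]
    rfl
  obtain ⟨z, ⟨u, hu, rfl⟩, s, hs⟩ := mem_closure_iff.mp hy _ hopen2 hy2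
  have hsU : e s ∈ U := by rw [hs]; exact u.2
  have hs0 := key s hsU
  subst hs0
  apply hu
  let w₀ : (W : Scheme) := ⟨s, hs₀W⟩
  refine ⟨w₀, ?_⟩
  apply U.ι.isOpenEmbedding.injective
  have h3 : U.ι (e' w₀) = e (W.ι w₀) := by
    rw [← Scheme.Hom.comp_apply, he', Scheme.Hom.comp_apply]
  rw [h3, ← hs]
  rfl

end Groth.Agent.Lib.Helper4.SecDiscrete

namespace Groth.Agent.Lib.Helper4.SecDiscrete

theorem main (S : Scheme.{u}) [DiscreteTopology S] (G : Over S) [GrpObj G] :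
    IsSeparated G.hom := by
  rw [(GrpSchBasics.sep_iff G).1]
  have h : η[G].left ≫ G.hom = 𝟙 S := by
    exact Over.w η[G]
  have h0 : IsImmersion (𝟙 S) := inferInstance
  have : IsImmersion (η[G].left ≫ G.hom) := by rw [h]; exact h0
  have : IsImmersion η[G].left := IsImmersion.of_comp η[G].left G.hom
  exact IsClosedImmersion.of_isPreimmersion _ (isClosed_range_section (S := S) G.hom η[G].left h)

end Groth.Agent.Lib.Helper4.SecDiscrete
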