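import Mathlib.CategoryTheory.Functor.KanExtension.Adjunction
import Mathlib.CategoryTheory.Sites.Pullback
import Mathlib.CategoryTheory.Sites.Abelian
import Mathlib.CategoryTheory.Abelian.Exact
import Mathlib.CategoryTheory.Category.ULift
import Mathlib.CategoryTheory.Preadditive.Injective.Basic
import Mathlib.CategoryTheory.Limits.Final
import Groth.Agent.Lib.Helper1.AlmostFiltered

set_option autoImplicit false

namespace Groth.Agent.Lib.Helper4.LanMonoGen

open CategoryTheory CategoryTheory.Limits Opposite

universe w v u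

section transfer

/-- spans can be completed to commutative squares -/
def H1 (I : Type*) [Category I] : Prop :=
  ∀ ⦃w x y : I⦄ (a : w ⟶ x) (b : w ⟶ y), ∃ (z : I) (c : x ⟶ z) (d : y ⟶ z), a ≫ c = b ≫ d

/-- parallel pairs can be coequalized -/
def H2 (I : Type*) [Category I] : Prop :=
  ∀ ⦃x y : I⦄ (a b : x ⟶ y), ∃ (z : I) (c : y ⟶ z), a ≫ c = b ≫ c

variable {I : Type*} [Category I] {I' : Type*} [Category I'] (e : I' ≌ I)

include e in
lemma H1.of_equiv (h : H1 I) : H1 I' := by
  intro w x y a b
  obtain ⟨z, c, d, hcd⟩ := h (e.functor.map a) (e.functor.map b)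
  refine ⟨e.inverse.obj z, e.unit.app x ≫ e.inverse.map c, e.unit.app y ≫ e.inverse.map d, ?_⟩
  have ha : a ≫ e.unit.app x = e.unit.app w ≫ e.inverse.map (e.functor.map a) :=
    e.unit.naturality a
  have hb : b ≫ e.unit.app y = e.unit.app w ≫ e.inverse.map (e.functor.map b) :=
    e.unit.naturality b
  rw [reassoc_of% ha, reassoc_of% hb, ← e.inverse.map_comp, ← e.inverse.map_comp, hcd]

include e in
lemma H2.of_equiv (h : H2 I) : H2 I' := by
  intro x y a b
  obtain ⟨z, c, hc⟩ := h (e.functor.map a) (e.functor.map b)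
  refine ⟨e.inverse.obj z, e.unit.app y ≫ e.inverse.map c, ?_⟩
  have ha : a ≫ e.unit.app y = e.unit.app x ≫ e.inverse.map (e.functor.map a) :=
    e.unit.naturality a
  have hb : b ≫ e.unit.app y = e.unit.app x ≫ e.inverse.map (e.functor.map b) :=
    e.unit.naturality b
  rw [reassoc_of% ha, reassoc_of% hb, ← e.inverse.map_comp, ← e.inverse.map_comp, hc]

end transfer

section Ab

variable {I : Type (u + 1)} [Category.{u} I]

/-- Colimits of abelian groups over a (large) disjoint union of filtered categories preserve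
monomorphisms. -/
theorem mono_colimMap (h1 : H1 I) (h2 : H2 I)
    {X₁ X₂ : I ⥤ AddCommGrpCat.{u + 1}} (f : X₁ ⟶ X₂) [∀ i, Mono (f.app i)] :
    Mono (colimMap f) := by
  let e : AsSmall.{u + 1} I ≌ I := AsSmall.equiv.symm
  let E : AsSmall.{u + 1} I ⥤ I := e.functor
  have h1' : H1 (AsSmall.{u + 1} I) := H1.of_equiv e h1
  have h2' : H2 (AsSmall.{u + 1} I) := H2.of_equiv e h2
  haveI : ∀ i, Mono ((Functor.whiskerLeft E f).app i) := fun i => by
    dsimp; infer_instance
  have hm : Mono (colimMap (Functor.whiskerLeft E f)) :=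
    Groth.Agent.Lib.Helper1.AlmostFiltered.mono_colimMap h1' h2' (Functor.whiskerLeft E f)
  haveI : IsIso (colimit.pre X₁ E) := inferInstance
  haveI : IsIso (colimit.pre X₂ E) := inferInstance
  have sq : colimMap (Functor.whiskerLeft E f) ≫ colimit.pre X₂ E =
      colimit.pre X₁ E ≫ colimMap f := by
    refine colimit.hom_ext (fun i => ?_)
    simp
  have h3 : Mono (colimit.pre X₁ E ≫ colimMap f) := by
    rw [← sq]
    exact mono_comp' hm inferInstance
  have h4 : colimMap f = inv (colimit.pre X₁ E) ≫ (colimit.pre X₁ E ≫ colimMap f) := by simp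
  rw [h4]
  exact mono_comp' inferInstance h3

end Ab

end Groth.Agent.Lib.Helper4.LanMonoGen

namespace Groth.Agent.Lib.Helper4.LanMonoGen

open CategoryTheory CategoryTheory.Limits Opposite

universe u₁ v₁ u₂ v₂

section costructured

variable {C : Type u₁} [Category.{v₁} C] {D : Type u₂} [Category.{v₂} D] (u : C ⥤ D)

/-- spans in `CostructuredArrow u.op Y` can be completed when `C` has pullbacks preserved by `u` -/
lemma costructuredArrow_h1 [HasPullbacks C] [PreservesLimitsOfShape WalkingCospan u] (Y : Dᵒᵖ) :
    H1 (CostructuredArrow u.op Y) := by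
  intro w x y a b
  let a' : x.left.unop ⟶ w.left.unop := a.left.unop
  let b' : y.left.unop ⟶ w.left.unop := b.left.unop
  have ha : x.hom.unop ≫ u.map a' = w.hom.unop := by
    have := CostructuredArrow.w a
    exact congrArg Quiver.Hom.unop this
  have hb : y.hom.unop ≫ u.map b' = w.hom.unop := by
    have := CostructuredArrow.w b
    exact congrArg Quiver.Hom.unop this
  have hl : IsLimit (PullbackCone.mk (u.map (pullback.fst a' b')) (u.map (pullback.snd a' b'))
      (by rw [← u.map_comp, ← u.map_comp, pullback.condition])) :=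
    isLimitOfHasPullbackOfPreservesLimit u a' b'
  let l : Y.unop ⟶ u.obj (pullback a' b') :=
    PullbackCone.IsLimit.lift hl x.hom.unop y.hom.unop (ha.trans hb.symm)
  have hl1 : l ≫ u.map (pullback.fst a' b') = x.hom.unop :=
    PullbackCone.IsLimit.lift_fst hl _ _ _
  have hl2 : l ≫ u.map (pullback.snd a' b') = y.hom.unop :=
    PullbackCone.IsLimit.lift_snd hl _ _ _
  let z : CostructuredArrow u.op Y := CostructuredArrow.mk (Y := op (pullback a' b')) l.op
  refine ⟨z, CostructuredArrow.homMk (pullback.fst a' b').op ?_,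
    CostructuredArrow.homMk (pullback.snd a' b').op ?_, ?_⟩
  · exact Quiver.Hom.unop_inj hl1
  · exact Quiver.Hom.unop_inj hl2
  · ext
    exact Quiver.Hom.unop_inj (pullback.condition (f := a') (g := b'))

/-- parallel pairs in `CostructuredArrow u.op Y` can be coequalized when `C` has equalizers
preserved by `u` -/
lemma costructuredArrow_h2 [HasEqualizers C] [PreservesLimitsOfShape WalkingParallelPair u]
    (Y : Dᵒᵖ) : H2 (CostructuredArrow u.op Y) := by
  intro x y a b
  let a' : y.left.unop ⟶ x.left.unop := a.left.unop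
  let b' : y.left.unop ⟶ x.left.unop := b.left.unop
  have ha : y.hom.unop ≫ u.map a' = x.hom.unop := by
    have := CostructuredArrow.w a
    exact congrArg Quiver.Hom.unop this
  have hb : y.hom.unop ≫ u.map b' = x.hom.unop := by
    have := CostructuredArrow.w b
    exact congrArg Quiver.Hom.unop this
  have hl := isLimitForkMapOfIsLimit u (equalizer.condition a' b') (equalizerIsEqualizer a' b')
  let l : Y.unop ⟶ u.obj (equalizer a' b') := Fork.IsLimit.lift hl y.hom.unop (ha.trans hb.symm)
  have hl1 : l ≫ u.map (equalizer.ι a' b') = y.hom.unop := Fork.IsLimit.lift_ι hl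
  let z : CostructuredArrow u.op Y := CostructuredArrow.mk (Y := op (equalizer a' b')) l.op
  refine ⟨z, CostructuredArrow.homMk (equalizer.ι a' b').op ?_, ?_⟩
  · exact Quiver.Hom.unop_inj hl1
  · ext
    exact Quiver.Hom.unop_inj (equalizer.condition a' b')

end costructured

section lan

universe u

variable {C D : Type (u + 1)} [Category.{u} C] [Category.{u} D] (L : C ⥤ D)

/-- the pointwise formula, typed with `L.lan` -/
noncomputable def lanObjIso (F : C ⥤ AddCommGrpCat.{u + 1}) (X : D) :
    (L.lan.obj F).obj X ≅ colimit (CostructuredArrow.proj L X ⋙ F) :=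
  L.leftKanExtensionObjIsoColimit F X

/-- the value of `L.lan.map φ` at `X` is `colimMap` under the pointwise formula -/
lemma lan_map_app_eq {F₁ F₂ : C ⥤ AddCommGrpCat.{u + 1}} (φ : F₁ ⟶ F₂) (X : D) :
    colimMap (Functor.whiskerLeft (CostructuredArrow.proj L X) φ) ≫
      (lanObjIso L F₂ X).inv =
    (lanObjIso L F₁ X).inv ≫ (L.lan.map φ).app X := by
  refine colimit.hom_ext (fun f => ?_)
  have e1 : colimit.ι (CostructuredArrow.proj L X ⋙ F₁) f ≫
      (lanObjIso L F₁ X).inv =
      (L.lanUnit.app F₁).app f.left ≫ (L.lan.obj F₁).map f.hom :=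
    Functor.ι_leftKanExtensionObjIsoColimit_inv L F₁ X f
  have e2 : colimit.ι (CostructuredArrow.proj L X ⋙ F₂) f ≫
      (lanObjIso L F₂ X).inv =
      (L.lanUnit.app F₂).app f.left ≫ (L.lan.obj F₂).map f.hom :=
    Functor.ι_leftKanExtensionObjIsoColimit_inv L F₂ X f
  have h1 : (L.lan.obj F₁).map f.hom ≫ (L.lan.map φ).app X =
      (L.lan.map φ).app (L.obj f.left) ≫ (L.lan.obj F₂).map f.hom :=
    (L.lan.map φ).naturality f.hom
  have h2 : φ.app f.left ≫ (L.lanUnit.app F₂).app f.left =
      (L.lanUnit.app F₁).app f.left ≫ (L.lan.map φ).app (L.obj f.left) :=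
    congr_app (L.lanUnit.naturality φ) f.left
  have s1 : colimit.ι _ f ≫ colimMap (Functor.whiskerLeft (CostructuredArrow.proj L X) φ) ≫
        (lanObjIso L F₂ X).inv
      = φ.app f.left ≫ (colimit.ι (CostructuredArrow.proj L X ⋙ F₂) f ≫
          (lanObjIso L F₂ X).inv) := by
    rw [ι_colimMap_assoc]; rfl
  refine s1.trans ((congrArg (fun t => φ.app f.left ≫ t) e2).trans ?_)
  refine (Category.assoc _ _ _).symm.trans ?_
  refine (congrArg (fun t => t ≫ (L.lan.obj F₂).map f.hom) h2).trans ?_
  refine (Category.assoc _ _ _).trans ?_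
  refine (congrArg (fun t => (L.lanUnit.app F₁).app f.left ≫ t) h1.symm).trans ?_
  refine (Category.assoc _ _ _).symm.trans ?_
  refine (congrArg (fun t => t ≫ (L.lan.map φ).app X) e1.symm).trans ?_
  exact Category.assoc _ _ _

/-- left Kan extension of presheaves of abelian groups preserves monomorphisms when the
costructured arrow categories are disjoint unions of filtered categories -/
theorem lan_preservesMonomorphisms
    (h1 : ∀ (X : D), H1 (CostructuredArrow L X))
    (h2 : ∀ (X : D), H2 (CostructuredArrow L X)) :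
    (L.lan : (C ⥤ AddCommGrpCat.{u + 1}) ⥤ (D ⥤ AddCommGrpCat.{u + 1})).PreservesMonomorphisms := by
  refine ⟨fun {F₁ F₂} φ hφ => ?_⟩
  haveI : ∀ X, Mono ((L.lan.map φ).app X) := by
    intro X
    haveI : ∀ i, Mono ((Functor.whiskerLeft (CostructuredArrow.proj L X) φ).app i) := by
      intro i
      dsimp
      infer_instance
    have hm := mono_colimMap (h1 X) (h2 X)
      (Functor.whiskerLeft (CostructuredArrow.proj L X) φ)
    have h := lan_map_app_eq L φ X
    have hm2 : Mono (colimMap (Functor.whiskerLeft (CostructuredArrow.proj L X) φ) ≫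
        (lanObjIso L F₂ X).inv) := mono_comp' hm inferInstance
    rw [h] at hm2
    have e : (L.lan.map φ).app X = (lanObjIso L F₁ X).hom ≫
        ((lanObjIso L F₁ X).inv ≫ (L.lan.map φ).app X) :=
      (Iso.hom_inv_id_assoc _ _).symm
    rw [e]
    exact mono_comp' inferInstance hm2
  exact NatTrans.mono_of_mono_app _

end lan

end Groth.Agent.Lib.Helper4.LanMonoGen

namespace Groth.Agent.Lib.Helper4.LanMonoGen

open CategoryTheory CategoryTheory.Limits Opposite

section sheaf

universe u

variable {C D : Type (u + 1)} [Category.{u} C] [Category.{u} D]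
  (J : GrothendieckTopology C) (K : GrothendieckTopology D) (G : C ⥤ D) [G.IsContinuous J K]
  [HasPullbacks C] [HasEqualizers C] [PreservesLimitsOfShape WalkingCospan G]
  [PreservesLimitsOfShape WalkingParallelPair G]
  [HasSheafify K AddCommGrpCat.{u + 1}]

/-- `G_!` on abelian sheaves preserves monomorphisms when `G` preserves pullbacks and
equalizers -/
theorem sheafPullbackConstruction_preservesMono :
    (Functor.sheafPullbackConstruction.sheafPullback G AddCommGrpCat.{u + 1}
      J K).PreservesMonomorphisms := by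
  haveI hlan : (G.op.lan : (Cᵒᵖ ⥤ AddCommGrpCat.{u + 1}) ⥤
      (Dᵒᵖ ⥤ AddCommGrpCat.{u + 1})).PreservesMonomorphisms :=
    lan_preservesMonomorphisms G.op (fun X => costructuredArrow_h1 G X)
      (fun X => costructuredArrow_h2 G X)
  unfold Functor.sheafPullbackConstruction.sheafPullback
  haveI h1 : (sheafToPresheaf J AddCommGrpCat.{u + 1}).PreservesMonomorphisms := inferInstance
  haveI h3 : (presheafToSheaf K AddCommGrpCat.{u + 1}).PreservesMonomorphisms := inferInstance
  haveI h23 : (G.op.lan ⋙ presheafToSheaf K AddCommGrpCat.{u + 1}).PreservesMonomorphisms :=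
    Functor.preservesMonomorphisms_comp _ _
  exact Functor.preservesMonomorphisms_comp _ _

/-- restriction along `G` preserves injective abelian sheaves -/
theorem injective_pushforward (I : Sheaf K AddCommGrpCat.{u + 1}) [Injective I] :
    Injective ((G.sheafPushforwardContinuous AddCommGrpCat.{u + 1} J K).obj I) := by
  haveI := sheafPullbackConstruction_preservesMono J K G
  exact Injective.injective_of_adjoint
    (Functor.sheafPullbackConstruction.sheafAdjunctionContinuous G AddCommGrpCat.{u + 1} J K) I

end sheaf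

end Groth.Agent.Lib.Helper4.LanMonoGen
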