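import Mathlib.CategoryTheory.Sites.Pullback
import Groth.Agent.Lib.Helper4.LanMonoGen
import Groth.Agent.Lib.Helper1.LanExact

set_option autoImplicit false

namespace Groth.Agent.Lib.Helper4.LanExactGen

open CategoryTheory CategoryTheory.Limits Opposite
open Groth.Agent.Lib.Helper4.LanMonoGen

universe u

variable {C D : Type (u + 1)} [Category.{u} C] [Category.{u} D]
  (J : GrothendieckTopology C) (K : GrothendieckTopology D) (G : C ⥤ D) [G.IsContinuous J K]
  [HasPullbacks C] [HasEqualizers C] [PreservesLimitsOfShape WalkingCospan G]
  [PreservesLimitsOfShape WalkingParallelPair G]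
  [HasSheafify K AddCommGrpCat.{u + 1}] [HasSheafify J AddCommGrpCat.{u + 1}]

/-- `G_!` on abelian sheaves (Mathlib's chosen left adjoint) preserves monomorphisms -/
theorem sheafPullback_preservesMono :
    (G.sheafPullback AddCommGrpCat.{u + 1} J K).PreservesMonomorphisms := by
  haveI := sheafPullbackConstruction_preservesMono J K G
  exact Functor.PreservesMonomorphisms.of_iso
    (Functor.sheafPullbackConstruction.sheafPullbackIso G AddCommGrpCat.{u + 1} J K).symm

theorem sheafPullback_preservesFiniteColimits :
    PreservesFiniteColimits (G.sheafPullback AddCommGrpCat.{u + 1} J K) := by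
  haveI : PreservesColimitsOfSize.{0, 0} (G.sheafPullback AddCommGrpCat.{u + 1} J K) :=
    (G.sheafAdjunctionContinuous AddCommGrpCat.{u + 1} J K).leftAdjoint_preservesColimits
  exact PreservesColimitsOfSize.preservesFiniteColimits _

theorem sheafPullback_additive : (G.sheafPullback AddCommGrpCat.{u + 1} J K).Additive := by
  haveI := sheafPullback_preservesFiniteColimits J K G
  haveI : (G.sheafPullback AddCommGrpCat.{u + 1} J K).IsLeftAdjoint :=
    (G.sheafAdjunctionContinuous AddCommGrpCat.{u + 1} J K).isLeftAdjoint
  haveI : (G.sheafPullback AddCommGrpCat.{u + 1} J K).PreservesZeroMorphisms :=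
    Functor.preservesZeroMorphisms_of_isLeftAdjoint _
  haveI : PreservesBinaryBiproducts (G.sheafPullback AddCommGrpCat.{u + 1} J K) :=
    preservesBinaryBiproducts_of_preservesBinaryCoproducts _
  exact Functor.additive_of_preservesBinaryBiproducts _

/-- `G_!` on abelian sheaves is exact when `G` preserves pullbacks and equalizers -/
theorem sheafPullback_preservesFiniteLimits :
    PreservesFiniteLimits (G.sheafPullback AddCommGrpCat.{u + 1} J K) := by
  haveI := sheafPullback_preservesMono J K G
  haveI := sheafPullback_preservesFiniteColimits J K G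
  haveI := sheafPullback_additive J K G
  exact Groth.Agent.Lib.Helper1.LanExact.preservesFiniteLimits_of_preservesMono _

end Groth.Agent.Lib.Helper4.LanExactGen
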