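import Mathlib.Tactic
import Mathlib.CategoryTheory.Sites.CoverLifting
import Mathlib.CategoryTheory.Sites.Pullback
import Mathlib.CategoryTheory.Adjunction.Triple
import Mathlib.CategoryTheory.Abelian.RightDerived

set_option autoImplicit false

namespace Groth.Agent.Lib.Helper4.FFSite

open CategoryTheory Limits

universe v₁ v₂ v₃ u₁ u₂ u₃

section triple

variable {C : Type u₂} [Category.{v₂} C] {D : Type u₃} [Category.{v₃} D] (G : C ⥤ D)
  (A : Type u₁) [Category.{v₁} A]
  (J : GrothendieckTopology C) (K : GrothendieckTopology D)
  [G.IsContinuous J K] [G.IsCocontinuous J K] [G.Full] [G.Faithful]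
  [∀ (F : Cᵒᵖ ⥤ A), G.op.HasPointwiseRightKanExtension F]

/-- the counit of `G^* ⊣ G_*` (cocontinuous pushforward) is invertible for fully faithful `G` -/
theorem isIso_counit_cocontinuous : IsIso (G.sheafAdjunctionCocontinuous A J K).counit := by
  haveI : ∀ F, IsIso ((G.sheafAdjunctionCocontinuous A J K).counit.app F) := by
    intro F
    haveI : IsIso ((sheafToPresheaf J A).map ((G.sheafAdjunctionCocontinuous A J K).counit.app F)) := by
      show IsIso ((G.sheafAdjunctionCocontinuous A J K).counit.app F).hom
      have h : IsIso ((G.op.ranAdjunction A).counit.app F.obj) := inferInstance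
      rw [Functor.sheafAdjunctionCocontinuous_counit_app_hom]
      exact h
    exact isIso_of_reflects_iso _ (sheafToPresheaf J A)
  exact NatIso.isIso_of_isIso_app _

variable [(G.sheafPushforwardContinuous A J K).IsRightAdjoint]

/-- the unit of `G_! ⊣ G^*` is invertible for fully faithful, continuous and cocontinuous `G` -/
theorem isIso_unit_continuous : IsIso (G.sheafAdjunctionContinuous A J K).unit := by
  let t : Adjunction.Triple (G.sheafPullback A J K) (G.sheafPushforwardContinuous A J K)
      (G.sheafPushforwardCocontinuous A J K) :=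
    ⟨G.sheafAdjunctionContinuous A J K, G.sheafAdjunctionCocontinuous A J K⟩
  exact t.isIso_unit_iff_isIso_counit.2 (isIso_counit_cocontinuous G A J K)

end triple

section exact

variable {A : Type u₁} {B : Type u₂} [Category.{v₁} A] [Category.{v₂} B] [Abelian A] [Abelian B]
  [HasInjectiveResolutions A]

/-- an exact functor has no higher right derived functors -/
lemma isZero_rightDerived_succ_of_exact (Φ : A ⥤ B) [Φ.Additive] [PreservesFiniteLimits Φ]
    [PreservesFiniteColimits Φ] (n : ℕ) (X : A) : IsZero ((Φ.rightDerived (n + 1)).obj X) := by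
  let I := injectiveResolution X
  refine IsZero.of_iso ?_ (I.isoRightDerivedObj Φ (n + 1))
  show IsZero (((Φ.mapHomologicalComplex _).obj I.cocomplex).homology (n + 1))
  rw [← HomologicalComplex.exactAt_iff_isZero_homology,
    HomologicalComplex.exactAt_iff' _ n (n + 1) (n + 2) (by simp)
      (by simp only [CochainComplex.next]; rfl)]
  exact (I.exact_succ n).map Φ

end exact

end Groth.Agent.Lib.Helper4.FFSite
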