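import Groth.Prelude.Def_BigSite
import Groth.Prelude.Def_SGA4b
import Groth.Agent.Lib.Helper4.FFSite

set_option autoImplicit false
open CategoryTheory CategoryTheory.Limits AlgebraicGeometry Opposite
universe u
open BigSite

namespace Groth.Agent.Lib.Helper4.EtBigUnit
open Groth.Agent.Lib.Helper4.FFSite

instance cocont (X : Scheme.{u}) : (EtFppf.a X).IsCocontinuous X.smallEtaleTopology
    (QuotSh.J Scheme.etalePrecoverage X) := by
  show (MorphismProperty.Over.forget EtCoh.etaleMP.{u} ⊤ X).IsCocontinuous
    ((MorphismProperty.Over.forget EtCoh.etaleMP.{u} ⊤ X).restrictedTopology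
      (X.overGrothendieckTopology @Etale)) (X.overGrothendieckTopology @Etale)
  infer_instance

instance full (X : Scheme.{u}) : (EtFppf.a X).Full :=
  inferInstanceAs (MorphismProperty.Over.forget EtCoh.etaleMP.{u} ⊤ X).Full

instance faithful (X : Scheme.{u}) : (EtFppf.a X).Faithful :=
  inferInstanceAs (MorphismProperty.Over.forget EtCoh.etaleMP.{u} ⊤ X).Faithful

theorem main6184 (X : Scheme.{u}) :
    (∀ G : EtDesc.Sh X, IsIso (((EtFppf.a X).sheafAdjunctionContinuous (Type (u + 1)) X.smallEtaleTopology
      (QuotSh.J Scheme.etalePrecoverage X)).unit.app G)) ∧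
    (∀ G : EtCoh.Ab X, IsIso ((BigSite.piEtAdj Scheme.etalePrecoverage X).unit.app G)) := by
  constructor
  · intro G
    haveI := isIso_unit_continuous (EtFppf.a X) (Type (u + 1)) X.smallEtaleTopology
      (QuotSh.J Scheme.etalePrecoverage X)
    infer_instance
  · intro G
    haveI := isIso_unit_continuous (EtFppf.a X) AddCommGrpCat.{u + 1} X.smallEtaleTopology
      (QuotSh.J Scheme.etalePrecoverage X)
    infer_instance

end Groth.Agent.Lib.Helper4.EtBigUnit
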