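import Mathlib.Algebra.Homology.HomotopyCategory.KInjective
import Mathlib.Algebra.Homology.Additive
import Mathlib.CategoryTheory.Adjunction.Basic

set_option autoImplicit false

namespace Groth.Agent.Lib.Helper4.KInjAdj

open CategoryTheory CategoryTheory.Limits

variable {A B : Type*} [Category A] [Category B] [Abelian A] [Abelian B] {L : A ⥤ B} {R : B ⥤ A}
  (adj : L ⊣ R) [L.Additive] [R.Additive]

lemma acyclic_map [PreservesFiniteLimits L] [PreservesFiniteColimits L]
    {K : CochainComplex A ℤ} (hK : K.Acyclic) :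
    ((L.mapHomologicalComplex (ComplexShape.up ℤ)).obj K).Acyclic := by
  intro i
  exact (hK i).map L

/-- components with a clean type -/
def fc {K : CochainComplex A ℤ} {I : CochainComplex B ℤ}
    (f : K ⟶ (R.mapHomologicalComplex (ComplexShape.up ℤ)).obj I) (i : ℤ) :
    K.X i ⟶ R.obj (I.X i) := f.f i

lemma fc_comm {K : CochainComplex A ℤ} {I : CochainComplex B ℤ}
    (f : K ⟶ (R.mapHomologicalComplex (ComplexShape.up ℤ)).obj I) (i j : ℤ) :
    fc f i ≫ R.map (I.d i j) = K.d i j ≫ fc f j := f.comm i j

/-- the adjoint of a morphism of complexes `K ⟶ R I` -/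
def adjMap {K : CochainComplex A ℤ} {I : CochainComplex B ℤ}
    (f : K ⟶ (R.mapHomologicalComplex (ComplexShape.up ℤ)).obj I) :
    (L.mapHomologicalComplex (ComplexShape.up ℤ)).obj K ⟶ I where
  f i := L.map (fc f i) ≫ adj.counit.app (I.X i)
  comm' i j _ := by
    have h1 := fc_comm f i j
    have h2 : L.map (R.map (I.d i j)) ≫ adj.counit.app (I.X j) =
        adj.counit.app (I.X i) ≫ I.d i j := adj.counit.naturality (I.d i j)
    show (L.map (fc f i) ≫ adj.counit.app (I.X i)) ≫
        I.d i j = L.map (K.d i j) ≫ (L.map (fc f j) ≫ adj.counit.app (I.X j))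
    rw [Category.assoc, ← h2, ← Category.assoc, ← L.map_comp, h1, L.map_comp, Category.assoc]

/-- the unit as a morphism of complexes -/
def unitCx (K : CochainComplex A ℤ) :
    K ⟶ (R.mapHomologicalComplex (ComplexShape.up ℤ)).obj
      ((L.mapHomologicalComplex (ComplexShape.up ℤ)).obj K) where
  f i := adj.unit.app (K.X i)
  comm' i j _ := (adj.unit.naturality (K.d i j)).symm

lemma unitCx_adjMap {K : CochainComplex A ℤ} {I : CochainComplex B ℤ}
    (f : K ⟶ (R.mapHomologicalComplex (ComplexShape.up ℤ)).obj I) :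
    unitCx adj K ≫ (R.mapHomologicalComplex (ComplexShape.up ℤ)).map (adjMap adj f) = f := by
  ext i
  have h1 : fc f i ≫ adj.unit.app (R.obj (I.X i)) = adj.unit.app (K.X i) ≫ R.map (L.map (fc f i)) :=
    adj.unit.naturality (fc f i)
  show adj.unit.app (K.X i) ≫ R.map (L.map (fc f i) ≫ adj.counit.app (I.X i)) = fc f i
  rw [R.map_comp, ← Category.assoc, ← h1, Category.assoc, adj.right_triangle_components,
    Category.comp_id]

include adj in
/-- a right adjoint whose left adjoint is exact preserves K-injective complexes -/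
theorem isKInjective_map [PreservesFiniteLimits L] [PreservesFiniteColimits L]
    (I : CochainComplex B ℤ) [I.IsKInjective] :
    CochainComplex.IsKInjective ((R.mapHomologicalComplex (ComplexShape.up ℤ)).obj I) := by
  refine ⟨fun {K} f hK => ?_⟩
  have h := CochainComplex.IsKInjective.homotopyZero (adjMap adj f) (acyclic_map hK)
  have h2 : Homotopy ((R.mapHomologicalComplex (ComplexShape.up ℤ)).map (adjMap adj f))
      ((R.mapHomologicalComplex (ComplexShape.up ℤ)).map 0) := R.mapHomotopy h
  have h3 := h2.compLeft (unitCx adj K)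
  rw [unitCx_adjMap] at h3
  refine ⟨h3.trans (Homotopy.ofEq ?_)⟩
  simp

end Groth.Agent.Lib.Helper4.KInjAdj
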