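import Mathlib.AlgebraicGeometry.Sites.Proetale
import Mathlib.CategoryTheory.Limits.Constructions.Over.Connected
import Mathlib.Algebra.Category.Grp.Abelian
import Groth.Agent.Lib.Helper4.LanMonoGen

set_option autoImplicit false

namespace Groth.Agent.Lib.Helper4.ProEtRestr

open CategoryTheory CategoryTheory.Limits AlgebraicGeometry Opposite
open Groth.Agent.Lib.Helper4.LanMonoGen

universe u v w

section
variable {T : Type u} [Category.{v} T] {X Y : T} (f : X ⟶ Y) (J : Type w) [Category J] [IsConnected J]

/-- `Over.map f` preserves connected limits -/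
lemma preservesLimitsOfShape_overMap : PreservesLimitsOfShape J (Over.map f) := by
  haveI : PreservesLimitsOfShape J (Over.map f ⋙ Over.forget Y) :=
    preservesLimitsOfShape_of_natIso (Over.mapForget f).symm
  exact preservesLimitsOfShape_of_reflects_of_preserves (Over.map f) (Over.forget Y)
end

theorem main7295 {T S : Scheme.{u}} (f : T ⟶ S)
    [(Scheme.ProEt.forget T ⋙ Over.map f).IsContinuous (Scheme.ProEt.topology T)
      (Scheme.proetaleTopology.over S)]
    (I : Sheaf (Scheme.proetaleTopology.over S) AddCommGrpCat.{u + 1}) [Injective I] :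
    Injective (((Scheme.ProEt.forget T ⋙ Over.map f).sheafPushforwardContinuous AddCommGrpCat.{u + 1}
      (Scheme.ProEt.topology T) (Scheme.proetaleTopology.over S)).obj I) := by
  haveI := preservesLimitsOfShape_overMap f WalkingCospan
  haveI := preservesLimitsOfShape_overMap f WalkingParallelPair
  haveI : PreservesLimitsOfShape WalkingCospan (Scheme.ProEt.forget T ⋙ Over.map f) :=
    inferInstance
  haveI : PreservesLimitsOfShape WalkingParallelPair (Scheme.ProEt.forget T ⋙ Over.map f) :=
    inferInstance
  exact injective_pushforward (Scheme.ProEt.topology T) (Scheme.proetaleTopology.over S)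
    (Scheme.ProEt.forget T ⋙ Over.map f) I

end Groth.Agent.Lib.Helper4.ProEtRestr
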