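import Groth.Prelude.Def_BigSite
import Groth.Agent.Lib.Helper4.EtBigUnit
import Groth.Agent.Lib.Helper4.LanMonoGen
import Groth.Agent.Lib.Helper4.ProEtRestr
import Groth.Agent.Lib.Helper4.LanExactGen
import Groth.Agent.Lib.Helper4.KInjAdj

set_option autoImplicit false

namespace Groth.Agent.Lib.Helper4.BigEtRes

open CategoryTheory CategoryTheory.Limits AlgebraicGeometry Opposite
open Groth.Agent.Lib.Helper4.FFSite Groth.Agent.Lib.Helper4.LanMonoGen
open Groth.Agent.Lib.Helper4.ProEtRestr Groth.Agent.Lib.Helper4.EtBigUnit
universe u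
open BigSite

set_option backward.isDefEq.respectTransparency.types false in
instance presFin (X : Scheme.{u}) : PreservesFiniteLimits (EtFppf.a X) :=
  inferInstanceAs (PreservesFiniteLimits (Scheme.Etale.forget X))

/-- restriction to the small etale site preserves injectives -/
theorem injective_resEt (S : Scheme.{u}) (I : BigSite.Ab Scheme.etalePrecoverage S) [Injective I] :
    Injective ((BigSite.resEt Scheme.etalePrecoverage S).obj I) :=
  injective_pushforward S.smallEtaleTopology (QuotSh.J Scheme.etalePrecoverage S) (EtFppf.a S) I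

/-- restriction along `Over.map f` preserves injectives -/
theorem injective_pullBig {S T : Scheme.{u}} (f : T ⟶ S)
    (I : BigSite.Ab Scheme.etalePrecoverage S) [Injective I] :
    Injective ((BigSite.pullBig Scheme.etalePrecoverage f AddCommGrpCat.{u + 1}).obj I) := by
  haveI := preservesLimitsOfShape_overMap f WalkingCospan
  haveI := preservesLimitsOfShape_overMap f WalkingParallelPair
  exact injective_pushforward (QuotSh.J Scheme.etalePrecoverage T)
    (QuotSh.J Scheme.etalePrecoverage S) (Over.map f) I

theorem main6685 (S : Scheme.{u}) (I : BigSite.Ab Scheme.etalePrecoverage S) [Injective I]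
    {T : Scheme.{u}} (f : T ⟶ S) :
    Injective ((BigSite.resEt Scheme.etalePrecoverage S).obj I) ∧
      Injective ((BigSite.resEtAlong Scheme.etalePrecoverage f).obj I) := by
  refine ⟨injective_resEt S I, ?_⟩
  haveI := injective_pullBig f I
  exact injective_resEt T _

/-- restriction to the small etale site is exact -/
instance resEt_preservesFiniteLimits (S : Scheme.{u}) :
    PreservesFiniteLimits (BigSite.resEt Scheme.etalePrecoverage S) := by
  haveI := (BigSite.piEtAdj Scheme.etalePrecoverage S).rightAdjoint_preservesLimits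
  infer_instance

instance resEt_preservesFiniteColimits (S : Scheme.{u}) :
    PreservesFiniteColimits (BigSite.resEt Scheme.etalePrecoverage S) := by
  haveI := ((EtFppf.a S).sheafAdjunctionCocontinuous AddCommGrpCat.{u + 1} S.smallEtaleTopology
    (QuotSh.J Scheme.etalePrecoverage S)).leftAdjoint_preservesColimits
  infer_instance

theorem main6688 (S : Scheme.{u}) (F : EtCoh.Ab S) (q : ℕ) (hq : 0 < q) :
    IsZero ((BigSite.RresEt Scheme.etalePrecoverage S q).obj
      ((BigSite.piEtPull Scheme.etalePrecoverage S).obj F)) := by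
  obtain ⟨n, rfl⟩ : ∃ n, q = n + 1 := ⟨q - 1, by omega⟩
  exact isZero_rightDerived_succ_of_exact _ n _

end Groth.Agent.Lib.Helper4.BigEtRes

namespace Groth.Agent.Lib.Helper4.BigEtRes

open CategoryTheory CategoryTheory.Limits AlgebraicGeometry Opposite
open Groth.Agent.Lib.Helper4.FFSite Groth.Agent.Lib.Helper4.LanMonoGen
open Groth.Agent.Lib.Helper4.ProEtRestr Groth.Agent.Lib.Helper4.EtBigUnit
open Groth.Agent.Lib.Helper4.LanExactGen Groth.Agent.Lib.Helper4.KInjAdj
universe u
open BigSite

theorem isKInjective_resEt (S : Scheme.{u})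
    (I : CochainComplex (BigSite.Ab Scheme.etalePrecoverage S) ℤ) [I.IsKInjective] :
    CochainComplex.IsKInjective (((BigSite.resEt Scheme.etalePrecoverage S).mapHomologicalComplex
      (ComplexShape.up ℤ)).obj I) := by
  haveI := sheafPullback_preservesFiniteLimits S.smallEtaleTopology
    (QuotSh.J Scheme.etalePrecoverage S) (EtFppf.a S)
  haveI := sheafPullback_preservesFiniteColimits S.smallEtaleTopology
    (QuotSh.J Scheme.etalePrecoverage S) (EtFppf.a S)
  haveI := sheafPullback_additive S.smallEtaleTopology
    (QuotSh.J Scheme.etalePrecoverage S) (EtFppf.a S)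
  exact isKInjective_map (BigSite.piEtAdj Scheme.etalePrecoverage S) I

theorem isKInjective_pullBig {S T : Scheme.{u}} (f : T ⟶ S)
    (I : CochainComplex (BigSite.Ab Scheme.etalePrecoverage S) ℤ) [I.IsKInjective] :
    CochainComplex.IsKInjective (((BigSite.pullBig Scheme.etalePrecoverage f
      AddCommGrpCat.{u + 1}).mapHomologicalComplex (ComplexShape.up ℤ)).obj I) := by
  haveI := preservesLimitsOfShape_overMap f WalkingCospan
  haveI := preservesLimitsOfShape_overMap f WalkingParallelPair
  haveI := sheafPullback_preservesFiniteLimits (QuotSh.J Scheme.etalePrecoverage T)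
    (QuotSh.J Scheme.etalePrecoverage S) (Over.map f)
  haveI := sheafPullback_preservesFiniteColimits (QuotSh.J Scheme.etalePrecoverage T)
    (QuotSh.J Scheme.etalePrecoverage S) (Over.map f)
  haveI := sheafPullback_additive (QuotSh.J Scheme.etalePrecoverage T)
    (QuotSh.J Scheme.etalePrecoverage S) (Over.map f)
  haveI : (BigSite.pullBig Scheme.etalePrecoverage f AddCommGrpCat.{u + 1}).Additive := ⟨rfl⟩
  exact isKInjective_map ((Over.map f).sheafAdjunctionContinuous AddCommGrpCat.{u + 1}
    (QuotSh.J Scheme.etalePrecoverage T) (QuotSh.J Scheme.etalePrecoverage S)) I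

theorem main6697 (S : Scheme.{u})
    (I : CochainComplex (BigSite.Ab Scheme.etalePrecoverage S) ℤ) [I.IsKInjective] {T : Scheme.{u}} (f : T ⟶ S) :
    CochainComplex.IsKInjective (((BigSite.resEt Scheme.etalePrecoverage S).mapHomologicalComplex (ComplexShape.up ℤ)).obj I) ∧
      CochainComplex.IsKInjective (((BigSite.resEtAlong Scheme.etalePrecoverage f).mapHomologicalComplex (ComplexShape.up ℤ)).obj I) := by
  refine ⟨isKInjective_resEt S I, ?_⟩
  haveI := isKInjective_pullBig f I
  exact isKInjective_resEt T (((BigSite.pullBig Scheme.etalePrecoverage f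
      AddCommGrpCat.{u + 1}).mapHomologicalComplex (ComplexShape.up ℤ)).obj I)

end Groth.Agent.Lib.Helper4.BigEtRes
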