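import Mathlib.CategoryTheory.Sites.Over
import Mathlib.CategoryTheory.Comma.Over.Pullback
import Mathlib.CategoryTheory.Limits.Shapes.Pullback.CommSq
import Mathlib.CategoryTheory.Limits.Shapes.Pullback.IsPullback.Basic

set_option autoImplicit false

namespace Groth.Agent.Lib.Helper4.OverBC

open CategoryTheory CategoryTheory.Limits Opposite

universe v u v' u'

section bc

variable {C : Type u} [Category.{v} C] [HasPullbacks C] {S T S' T' : C} {f : T ⟶ S} {g : S' ⟶ S}
  {g' : T' ⟶ T} {f' : T' ⟶ S'} (h : IsPullback g' f' f g)

include h in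
lemma isPullback_paste (V : Over S') :
    IsPullback (pullback.fst V.hom f') (pullback.snd V.hom f' ≫ g') (V.hom ≫ g) f :=
  (IsPullback.of_hasPullback V.hom f').paste_vert h.flip

/-- the underlying isomorphism `V ×_S T ≅ V ×_{S'} T'` -/
noncomputable def e (V : Over S') : pullback (V.hom ≫ g) f ≅ pullback V.hom f' :=
  (isPullback_paste h V).isoPullback.symm

@[reassoc]
lemma e_hom_fst (V : Over S') :
    (e h V).hom ≫ pullback.fst V.hom f' = pullback.fst (V.hom ≫ g) f := by
  dsimp [e]
  rw [Iso.inv_comp_eq]
  exact ((isPullback_paste h V).isoPullback_hom_fst).symm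

@[reassoc]
lemma e_hom_snd (V : Over S') :
    (e h V).hom ≫ pullback.snd V.hom f' ≫ g' = pullback.snd (V.hom ≫ g) f := by
  dsimp [e]
  rw [Iso.inv_comp_eq]
  exact ((isPullback_paste h V).isoPullback_hom_snd).symm

/-- the component of the base change isomorphism -/
noncomputable def bcApp (V : Over S') :
    (Over.map g ⋙ Over.pullback f).obj V ≅ (Over.pullback f' ⋙ Over.map g').obj V :=
  Over.isoMk (e h V) (e_hom_snd h V)

lemma bcApp_hom_left (V : Over S') : (bcApp h V).hom.left = (e h V).hom := rfl

/-- Beck–Chevalley for slice categories: `g_! f^* ≅ f'^* g'_!` for a pullback square -/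
noncomputable def bcIso : Over.map g ⋙ Over.pullback f ≅ Over.pullback f' ⋙ Over.map g' :=
  NatIso.ofComponents (bcApp h) (fun {V W} φ => by
    ext
    have hL : ((Over.map g ⋙ Over.pullback f).map φ).left =
        (pullback.lift (pullback.fst (V.hom ≫ g) f ≫ φ.left) (pullback.snd (V.hom ≫ g) f)
          (by simp [pullback.condition]) : pullback (V.hom ≫ g) f ⟶ pullback (W.hom ≫ g) f) := rfl
    have hR : ((Over.pullback f' ⋙ Over.map g').map φ).left =
        (pullback.lift (pullback.fst V.hom f' ≫ φ.left) (pullback.snd V.hom f')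
          (by simp [pullback.condition]) : pullback V.hom f' ⟶ pullback W.hom f') := rfl
    rw [Over.comp_left, Over.comp_left, bcApp_hom_left, bcApp_hom_left, hL, hR]
    apply (isPullback_paste h W).hom_ext
    · rw [Category.assoc, e_hom_fst, pullback.lift_fst, Category.assoc, pullback.lift_fst,
        e_hom_fst_assoc]
    · rw [Category.assoc, e_hom_snd, pullback.lift_snd, Category.assoc, pullback.lift_snd_assoc,
        e_hom_snd])

end bc

end Groth.Agent.Lib.Helper4.OverBC

namespace Groth.Agent.Lib.Helper4.OverBC

open CategoryTheory CategoryTheory.Limits Opposite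

universe v u v' u'

section sheaf

variable {C : Type u} [Category.{v} C] [HasPullbacks C] (J : GrothendieckTopology C)
  (A : Type u') [Category.{v'} A]
  {S T S' T' : C} {f : T ⟶ S} {g : S' ⟶ S} {g' : T' ⟶ T} {f' : T' ⟶ S'} (h : IsPullback g' f' f g)

/-- base change for the big sites: `g^* f_* ≅ f'_* g'^*` on sheaves on slice sites -/
noncomputable def pushPullIso :
    (Over.pullback f).sheafPushforwardContinuous A (J.over S) (J.over T) ⋙ J.overMapPullback A g ≅
    J.overMapPullback A g' ⋙
      (Over.pullback f').sheafPushforwardContinuous A (J.over S') (J.over T') :=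
  haveI : (Over.map g ⋙ Over.pullback f).IsContinuous (J.over S') (J.over T) :=
    Functor.isContinuous_comp _ _ _ (J.over S) _
  haveI : (Over.pullback f' ⋙ Over.map g').IsContinuous (J.over S') (J.over T) :=
    Functor.isContinuous_comp _ _ _ (J.over T') _
  Functor.sheafPushforwardContinuousComp (Over.map g) (Over.pullback f) A (J.over S') (J.over S)
      (J.over T) ≪≫
    Functor.sheafPushforwardContinuousIso (bcIso h) A (J.over S') (J.over T) ≪≫
    (Functor.sheafPushforwardContinuousComp (Over.pullback f') (Over.map g') A (J.over S')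
      (J.over T') (J.over T)).symm

end sheaf

end Groth.Agent.Lib.Helper4.OverBC
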