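import Groth.Prelude.Def_BigSite
import Groth.Agent.Lib.Helper4.BigEtRes
import Groth.Agent.Lib.Helper4.OverBC
import Groth.Agent.Lib.Helper1.DerivedExact

set_option autoImplicit false

namespace Groth.Agent.Lib.Helper4.BigBC

open CategoryTheory CategoryTheory.Limits AlgebraicGeometry Opposite
open Groth.Agent.Lib.Helper4.LanMonoGen
open Groth.Agent.Lib.Helper4.ProEtRestr
open Groth.Agent.Lib.Helper4.BigEtRes Groth.Agent.Lib.Helper4.OverBC
universe u v' u'
open BigSite

theorem main12464 {S T S' T' : Scheme.{u}} (f : T ⟶ S) (g : S' ⟶ S) (g' : T' ⟶ T) (f' : T' ⟶ S') (hsq : IsPullback g' f' f g)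
    (A : Type u') [Category.{v'} A] :
    Nonempty (BigSite.pushBig Scheme.zariskiPrecoverage f A ⋙ BigSite.pullBig Scheme.zariskiPrecoverage g A ≅
        BigSite.pullBig Scheme.zariskiPrecoverage g' A ⋙ BigSite.pushBig Scheme.zariskiPrecoverage f' A) ∧
      Nonempty (BigSite.pushBig Scheme.etalePrecoverage f A ⋙ BigSite.pullBig Scheme.etalePrecoverage g A ≅
        BigSite.pullBig Scheme.etalePrecoverage g' A ⋙ BigSite.pushBig Scheme.etalePrecoverage f' A) :=
  ⟨⟨pushPullIso _ A hsq⟩, ⟨pushPullIso _ A hsq⟩⟩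

instance pullBig_preservesFiniteLimits {S T : Scheme.{u}} (f : T ⟶ S) :
    PreservesFiniteLimits (BigSite.pullBig Scheme.etalePrecoverage f AddCommGrpCat.{u + 1}) := by
  haveI := (BigSite.shriekAbAdj Scheme.etalePrecoverage f).rightAdjoint_preservesLimits
  infer_instance

instance pullBig_preservesFiniteColimits {S T : Scheme.{u}} (f : T ⟶ S) :
    PreservesFiniteColimits (BigSite.pullBig Scheme.etalePrecoverage f AddCommGrpCat.{u + 1}) := by
  haveI := (BigSite.bigAdj Scheme.etalePrecoverage f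
    AddCommGrpCat.{u + 1}).leftAdjoint_preservesColimits
  infer_instance

instance pullBig_preservesInjectiveObjects {S T : Scheme.{u}} (f : T ⟶ S) :
    (BigSite.pullBig Scheme.etalePrecoverage f
      AddCommGrpCat.{u + 1}).PreservesInjectiveObjects where
  injective_obj {I} hI := haveI := hI; injective_pullBig f I

theorem main6696 {T S T' S' : Scheme.{u}} (f : T ⟶ S) (g : S' ⟶ S)
    (g' : T' ⟶ T) (f' : T' ⟶ S') (c : IsPullback g' f' f g) (F : BigSite.Ab Scheme.etalePrecoverage T) (q : ℕ) :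
    Nonempty ((BigSite.pullBig Scheme.etalePrecoverage g AddCommGrpCat.{u + 1}).obj
        ((BigSite.RpushBig Scheme.etalePrecoverage f q).obj F) ≅
      (BigSite.RpushBig Scheme.etalePrecoverage f' q).obj
        ((BigSite.pullBig Scheme.etalePrecoverage g' AddCommGrpCat.{u + 1}).obj F)) :=
  ⟨(Groth.Agent.Lib.Helper1.DerivedExact.rightDerivedCompIso
    (BigSite.pullBig Scheme.etalePrecoverage g' AddCommGrpCat.{u + 1})
    (BigSite.pullBig Scheme.etalePrecoverage g AddCommGrpCat.{u + 1})
    (BigSite.pushBig Scheme.etalePrecoverage f AddCommGrpCat.{u + 1})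
    (BigSite.pushBig Scheme.etalePrecoverage f' AddCommGrpCat.{u + 1})
    (pushPullIso _ AddCommGrpCat.{u + 1} c) q).app F⟩

set_option backward.isDefEq.respectTransparency.types false in
/-- `f_big,*` followed by restriction to the small etale site is restriction followed by `f_*` -/
noncomputable def pushBigResEtIso {T S : Scheme.{u}} (f : T ⟶ S) :
    BigSite.pushBig Scheme.etalePrecoverage f AddCommGrpCat.{u + 1} ⋙
      BigSite.resEt Scheme.etalePrecoverage S ≅
    BigSite.resEt Scheme.etalePrecoverage T ⋙ EtCoh.push f :=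
  haveI : (EtFppf.a S ⋙ Over.pullback f).IsContinuous S.smallEtaleTopology
      (QuotSh.J Scheme.etalePrecoverage T) :=
    Functor.isContinuous_comp _ _ _ (QuotSh.J Scheme.etalePrecoverage S) _
  haveI : (EtCoh.bc f ⋙ EtFppf.a T).IsContinuous S.smallEtaleTopology
      (QuotSh.J Scheme.etalePrecoverage T) :=
    Functor.isContinuous_comp _ _ _ T.smallEtaleTopology _
  let e : EtFppf.a S ⋙ Over.pullback f ≅ EtCoh.bc f ⋙ EtFppf.a T :=
    (MorphismProperty.Over.pullbackCompForgetIso (P := EtCoh.etaleMP) (Q := ⊤) f).symm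
  Functor.sheafPushforwardContinuousComp (EtFppf.a S) (Over.pullback f) AddCommGrpCat.{u + 1}
      S.smallEtaleTopology (QuotSh.J Scheme.etalePrecoverage S)
      (QuotSh.J Scheme.etalePrecoverage T) ≪≫
    Functor.sheafPushforwardContinuousIso e AddCommGrpCat.{u + 1} S.smallEtaleTopology
      (QuotSh.J Scheme.etalePrecoverage T) ≪≫
    (Functor.sheafPushforwardContinuousComp (EtCoh.bc f) (EtFppf.a T) AddCommGrpCat.{u + 1}
      S.smallEtaleTopology T.smallEtaleTopology (QuotSh.J Scheme.etalePrecoverage T)).symm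

/-- the base change isomorphism of functors of S12465 -/
noncomputable def resEtAlongIso {S T S' T' : Scheme.{u}} (f : T ⟶ S) (g : S' ⟶ S) (g' : T' ⟶ T)
    (f' : T' ⟶ S') (hsq : IsPullback g' f' f g) :
    BigSite.pushBig Scheme.etalePrecoverage f AddCommGrpCat.{u + 1} ⋙
        BigSite.resEtAlong Scheme.etalePrecoverage g ≅
      BigSite.resEtAlong Scheme.etalePrecoverage g' ⋙ EtCoh.push f' :=
  (Functor.associator _ _ _).symm ≪≫
    Functor.isoWhiskerRight (pushPullIso _ AddCommGrpCat.{u + 1} hsq)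
      (BigSite.resEt Scheme.etalePrecoverage S') ≪≫
    Functor.associator _ _ _ ≪≫
    Functor.isoWhiskerLeft (BigSite.pullBig Scheme.etalePrecoverage g' AddCommGrpCat.{u + 1})
      (pushBigResEtIso f') ≪≫
    (Functor.associator _ _ _).symm

theorem main12465 {S T S' T' : Scheme.{u}} (f : T ⟶ S) (g : S' ⟶ S) (g' : T' ⟶ T)
    (f' : T' ⟶ S') (hsq : IsPullback g' f' f g) [EtCoh.BCCont f'] :
    Nonempty (BigSite.pushBig Scheme.etalePrecoverage f AddCommGrpCat.{u + 1} ⋙
        BigSite.resEtAlong Scheme.etalePrecoverage g ≅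
      BigSite.resEtAlong Scheme.etalePrecoverage g' ⋙ EtCoh.push f') :=
  ⟨resEtAlongIso f g g' f' hsq⟩

instance resEtAlong_preservesInjectiveObjects {S T : Scheme.{u}} (f : T ⟶ S) :
    (BigSite.resEtAlong Scheme.etalePrecoverage f).PreservesInjectiveObjects where
  injective_obj {I} hI := haveI := hI; (main6685 S I f).2

theorem main6686 {T S T' S' : Scheme.{u}} (f : T ⟶ S) (g : S' ⟶ S)
    (g' : T' ⟶ T) (f' : T' ⟶ S') (c : IsPullback g' f' f g) (F : BigSite.Ab Scheme.etalePrecoverage T) (q : ℕ) :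
    Nonempty ((BigSite.resEtAlong Scheme.etalePrecoverage g).obj ((BigSite.RpushBig Scheme.etalePrecoverage f q).obj F) ≅
      (EtCoh.Rpush f' q).obj ((BigSite.resEtAlong Scheme.etalePrecoverage g').obj F)) :=
  ⟨(Groth.Agent.Lib.Helper1.DerivedExact.rightDerivedCompIso
    (BigSite.resEtAlong Scheme.etalePrecoverage g')
    (BigSite.resEtAlong Scheme.etalePrecoverage g)
    (BigSite.pushBig Scheme.etalePrecoverage f AddCommGrpCat.{u + 1})
    (EtCoh.push f')
    (resEtAlongIso f g g' f' c) q).app F⟩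

end Groth.Agent.Lib.Helper4.BigBC
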