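import Mathlib.Algebra.Homology.DerivedCategory.Ext.ExactSequences
import Mathlib.Algebra.Homology.DerivedCategory.Ext.EnoughInjectives
import Mathlib.CategoryTheory.Preadditive.Injective.Basic
import Mathlib.CategoryTheory.Adjunction.Additive
import Mathlib.GroupTheory.QuotientGroup.Basic

set_option autoImplicit false

namespace Groth.Agent.Lib.Helper4.ExtAdj

open CategoryTheory CategoryTheory.Limits Abelian

universe w w' v v' u u'

section groups

variable {G₁ G₂ E₁ E₂ : Type*} [AddCommGroup G₁] [AddCommGroup G₂] [AddCommGroup E₁]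
  [AddCommGroup E₂]

/-- two quotients of isomorphic groups by corresponding subgroups are isomorphic -/
lemma nonempty_addEquiv_of_surjective (δ₁ : G₁ →+ E₁) (δ₂ : G₂ →+ E₂)
    (h₁ : Function.Surjective δ₁) (h₂ : Function.Surjective δ₂) (e : G₁ ≃+ G₂)
    (he : ∀ x, δ₁ x = 0 ↔ δ₂ (e x) = 0) : Nonempty (E₁ ≃+ E₂) := by
  have hmap : (δ₁.ker).map (e : G₁ →+ G₂) = δ₂.ker := by
    ext y
    constructor
    · rintro ⟨x, hx, rfl⟩
      exact (he x).1 hx
    · intro hy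
      refine ⟨e.symm y, ?_, by simp⟩
      have : δ₂ (e (e.symm y)) = 0 := by simpa using hy
      exact (he _).2 this
  exact ⟨(QuotientAddGroup.quotientKerEquivOfSurjective δ₁ h₁).symm.trans
    ((QuotientAddGroup.congr δ₁.ker δ₂.ker e hmap).trans
      (QuotientAddGroup.quotientKerEquivOfSurjective δ₂ h₂))⟩

end groups

variable {𝒜 : Type u} [Category.{v} 𝒜] [Abelian 𝒜] [HasExt.{w} 𝒜]
  {ℬ : Type u'} [Category.{v'} ℬ] [Abelian ℬ] [HasExt.{w'} ℬ] [EnoughInjectives ℬ]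
  {L : 𝒜 ⥤ ℬ} {R : ℬ ⥤ 𝒜} (adj : L ⊣ R) [L.Additive] [R.Additive]

/-- The short exact sequence `0 ⟶ F ⟶ I(F) ⟶ Q ⟶ 0`. -/
noncomputable def sesUnder (F : ℬ) : ShortComplex ℬ :=
  ShortComplex.mk (Injective.ι F) (cokernel.π (Injective.ι F)) (cokernel.condition _)

lemma sesUnder_shortExact (F : ℬ) : (sesUnder F).ShortExact where
  exact := ShortComplex.exact_cokernel _
  mono_f := inferInstanceAs (Mono (Injective.ι F))
  epi_g := inferInstanceAs (Epi (cokernel.π (Injective.ι F)))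

instance (F : ℬ) : Injective (sesUnder F).X₂ := inferInstanceAs (Injective (Injective.under F))

/-- the degree zero comparison -/
noncomputable def e₀ (A : 𝒜) (F : ℬ) : Ext (L.obj A) F 0 ≃+ Ext A (R.obj F) 0 :=
  Ext.addEquiv₀.trans ((adj.homAddEquiv A F).trans Ext.addEquiv₀.symm)

lemma e₀_apply (A : 𝒜) (F : ℬ) (x : Ext (L.obj A) F 0) :
    e₀ adj A F x = Ext.mk₀ (adj.homEquiv A F (Ext.addEquiv₀ x)) := rfl

lemma e₀_mk₀ (A : 𝒜) (F : ℬ) (f : L.obj A ⟶ F) :
    e₀ adj A F (Ext.mk₀ f) = Ext.mk₀ (adj.homEquiv A F f) := by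
  rw [e₀_apply]
  congr 2
  exact Ext.addEquiv₀.apply_symm_apply f

lemma e₀_comp (A : 𝒜) {F G : ℬ} (g : F ⟶ G) (x : Ext (L.obj A) F 0) :
    e₀ adj A G (x.comp (Ext.mk₀ g) (add_zero 0)) =
      (e₀ adj A F x).comp (Ext.mk₀ (R.map g)) (add_zero 0) := by
  obtain ⟨f, rfl⟩ : ∃ f, x = Ext.mk₀ f := ⟨Ext.addEquiv₀ x, (Ext.mk₀_addEquiv₀_apply x).symm⟩
  rw [Ext.mk₀_comp_mk₀, e₀_mk₀, e₀_mk₀, Ext.mk₀_comp_mk₀, adj.homEquiv_naturality_right]

variable [PreservesFiniteLimits R] [PreservesFiniteColimits R]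
  [PreservesFiniteLimits L] [PreservesFiniteColimits L]

include adj in
lemma injective_R (I : ℬ) [Injective I] : Injective (R.obj I) :=
  Injective.injective_of_adjoint adj I

omit [EnoughInjectives ℬ] in
/-- one step of dimension shifting, for two short exact sequences with injective middle terms -/
lemma quot_step (A₁ : ℬ) (A₂ : 𝒜) (S₁ : ShortComplex ℬ) (hS₁ : S₁.ShortExact) [Injective S₁.X₂]
    (S₂ : ShortComplex 𝒜) (hS₂ : S₂.ShortExact) [Injective S₂.X₂] (p : ℕ)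
    (e : Ext A₁ S₁.X₃ p ≃+ Ext A₂ S₂.X₃ p)
    (he : ∀ x, (∃ y : Ext A₁ S₁.X₂ p, y.comp (Ext.mk₀ S₁.g) (add_zero p) = x) ↔
      (∃ y' : Ext A₂ S₂.X₂ p, y'.comp (Ext.mk₀ S₂.g) (add_zero p) = e x)) :
    Nonempty (Ext A₁ S₁.X₁ (p + 1) ≃+ Ext A₂ S₂.X₁ (p + 1)) := by
  let δ₁ : Ext A₁ S₁.X₃ p →+ Ext A₁ S₁.X₁ (p + 1) := Ext.postcomp hS₁.extClass A₁ rfl
  let δ₂ : Ext A₂ S₂.X₃ p →+ Ext A₂ S₂.X₁ (p + 1) := Ext.postcomp hS₂.extClass A₂ rfl
  have h₁ : Function.Surjective δ₁ := fun x =>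
    Ext.covariant_sequence_exact₁ A₁ hS₁ x (Ext.eq_zero_of_injective _) rfl
  have h₂ : Function.Surjective δ₂ := fun x =>
    Ext.covariant_sequence_exact₁ A₂ hS₂ x (Ext.eq_zero_of_injective _) rfl
  refine nonempty_addEquiv_of_surjective δ₁ δ₂ h₁ h₂ e (fun x => ?_)
  have k₁ : δ₁ x = 0 ↔ ∃ y : Ext A₁ S₁.X₂ p, y.comp (Ext.mk₀ S₁.g) (add_zero p) = x := by
    constructor
    · intro h
      exact Ext.covariant_sequence_exact₃ A₁ hS₁ x rfl h
    · rintro ⟨y, rfl⟩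
      show (y.comp (Ext.mk₀ S₁.g) (add_zero p)).comp hS₁.extClass rfl = 0
      rw [Ext.comp_assoc_of_second_deg_zero, hS₁.comp_extClass, Ext.comp_zero]
  have k₂ : δ₂ (e x) = 0 ↔ ∃ y' : Ext A₂ S₂.X₂ p,
      y'.comp (Ext.mk₀ S₂.g) (add_zero p) = e x := by
    constructor
    · intro h
      exact Ext.covariant_sequence_exact₃ A₂ hS₂ (e x) rfl h
    · rintro ⟨y, hy⟩
      rw [← hy]
      show (y.comp (Ext.mk₀ S₂.g) (add_zero p)).comp hS₂.extClass rfl = 0
      rw [Ext.comp_assoc_of_second_deg_zero, hS₂.comp_extClass, Ext.comp_zero]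
  rw [k₁, k₂]
  exact he x

include adj in
/-- one step of dimension shifting -/
lemma step (A : 𝒜) (F : ℬ) (p : ℕ)
    (e : Ext (L.obj A) (sesUnder F).X₃ p ≃+ Ext A (R.obj (sesUnder F).X₃) p)
    (he : ∀ x, (∃ y : Ext (L.obj A) (sesUnder F).X₂ p,
        y.comp (Ext.mk₀ (sesUnder F).g) (add_zero p) = x) ↔
      (∃ y' : Ext A (R.obj (sesUnder F).X₂) p,
        y'.comp (Ext.mk₀ (R.map (sesUnder F).g)) (add_zero p) = e x)) :
    Nonempty (Ext (L.obj A) F (p + 1) ≃+ Ext A (R.obj F) (p + 1)) := by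
  have hS := sesUnder_shortExact F
  have hS' : ((sesUnder F).map R).ShortExact := hS.map_of_exact R
  haveI : Injective ((sesUnder F).map R).X₂ := injective_R adj (sesUnder F).X₂
  exact quot_step (L.obj A) A (sesUnder F) hS ((sesUnder F).map R) hS' p e he

include adj in
/-- `Ext^p(L A, F) ≃ Ext^p(A, R F)` for an adjunction between exact functors -/
theorem nonempty_ext_addEquiv (A : 𝒜) (p : ℕ) :
    ∀ F : ℬ, Nonempty (Ext (L.obj A) F p ≃+ Ext A (R.obj F) p) := by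
  induction p using Nat.strong_induction_on with
  | _ p ih =>
    intro F
    match p, ih with
    | 0, _ => exact ⟨e₀ adj A F⟩
    | 1, _ =>
      refine step adj A F 0 (e₀ adj A _) (fun x => ?_)
      constructor
      · rintro ⟨y, rfl⟩
        exact ⟨e₀ adj A _ y, (e₀_comp adj A _ y).symm⟩
      · rintro ⟨y', hy'⟩
        refine ⟨(e₀ adj A _).symm y', ?_⟩
        apply (e₀ adj A _).injective
        rw [e₀_comp, AddEquiv.apply_symm_apply, hy']
    | (q + 2), ih =>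
      obtain ⟨e⟩ := ih (q + 1) (by omega) (sesUnder F).X₃
      haveI : Injective (R.obj (sesUnder F).X₂) := injective_R adj (sesUnder F).X₂
      refine step adj A F (q + 1) e (fun x => ?_)
      constructor
      · rintro ⟨y, rfl⟩
        refine ⟨0, ?_⟩
        rw [Ext.eq_zero_of_injective y]
        simp
      · rintro ⟨y', hy'⟩
        refine ⟨0, ?_⟩
        rw [Ext.eq_zero_of_injective y', Ext.zero_comp] at hy'
        have : x = 0 := e.injective (by rw [← hy', map_zero])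
        rw [this]
        simp

end Groth.Agent.Lib.Helper4.ExtAdj
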