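import Mathlib.CategoryTheory.Sites.ConstantSheaf
import Mathlib.CategoryTheory.Sites.Pullback
import Groth.Agent.Lib.Helper4.ExtAdj

set_option autoImplicit false

namespace Groth.Agent.Lib.Helper4.ConstPull

open CategoryTheory CategoryTheory.Limits Abelian Opposite

universe w v₁ v₂ v₃ u₁ u₂ u₃

section const

variable {C : Type u₂} [Category.{v₂} C] {D : Type u₃} [Category.{v₃} D] (G : C ⥤ D)
  (A : Type u₁) [Category.{v₁} A]
  (J : GrothendieckTopology C) (K : GrothendieckTopology D) [G.IsContinuous J K]
  [HasWeakSheafify J A] [HasWeakSheafify K A]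
  [(G.sheafPushforwardContinuous A J K).IsRightAdjoint]

/-- sections over `T` of the restriction are sections over `G T` -/
def sectionsIso (T : C) :
    G.sheafPushforwardContinuous A J K ⋙ (sheafSections J A).obj (op T) ≅
      (sheafSections K A).obj (op (G.obj T)) :=
  NatIso.ofComponents (fun F => Iso.refl _) (fun f => by
    dsimp
    exact (Category.comp_id _).trans (Category.id_comp _).symm)

/-- the pullback of a constant sheaf along a functor preserving the terminal object is constant -/
noncomputable def constPullIso {T : C} (hT : IsTerminal T) (hGT : IsTerminal (G.obj T)) :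
    constantSheaf J A ⋙ G.sheafPullback A J K ≅ constantSheaf K A :=
  Adjunction.leftAdjointUniq
    (((constantSheafAdj J A hT).comp (G.sheafAdjunctionContinuous A J K)).ofNatIsoRight
      (sectionsIso G A J K T))
    (constantSheafAdj K A hGT)

end const

section ext

variable {𝒜 : Type u₁} [Category.{v₁} 𝒜] [Abelian 𝒜] [HasExt.{w} 𝒜]

/-- `Ext` is invariant under isomorphisms in the first variable -/
noncomputable def extIsoLeft {X X' : 𝒜} (e : X ≅ X') (Y : 𝒜) (n : ℕ) : Ext X Y n ≃+ Ext X' Y n where
  toFun x := (Ext.mk₀ e.inv).comp x (zero_add n)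
  invFun x := (Ext.mk₀ e.hom).comp x (zero_add n)
  left_inv x := by
    simp only
    rw [Ext.mk₀_comp_mk₀_assoc, e.hom_inv_id, Ext.mk₀_id_comp]
  right_inv x := by
    simp only
    rw [Ext.mk₀_comp_mk₀_assoc, e.inv_hom_id, Ext.mk₀_id_comp]
  map_add' x y := by simp

end ext

end Groth.Agent.Lib.Helper4.ConstPull
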