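import Groth.Prelude.Def_BigSite
import Groth.Agent.Lib.Helper4.BigEtRes
import Groth.Agent.Lib.Helper4.ConstPull

set_option autoImplicit false

namespace Groth.Agent.Lib.Helper4.BigEtCoh

open CategoryTheory CategoryTheory.Limits AlgebraicGeometry Opposite Abelian
open Groth.Agent.Lib.Helper4.FFSite Groth.Agent.Lib.Helper4.LanMonoGen
open Groth.Agent.Lib.Helper4.ProEtRestr Groth.Agent.Lib.Helper4.EtBigUnit
open Groth.Agent.Lib.Helper4.LanExactGen Groth.Agent.Lib.Helper4.BigEtRes
open Groth.Agent.Lib.Helper4.ExtAdj Groth.Agent.Lib.Helper4.ConstPull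
universe u
open BigSite

theorem main6185 (X : Scheme.{u})
    (F : BigSite.Ab Scheme.etalePrecoverage X) (p : ℕ) :
    Nonempty (EtCoh.H X ((BigSite.resEt Scheme.etalePrecoverage X).obj F) p ≃+
      BigSite.H Scheme.etalePrecoverage X F p) := by
  haveI := sheafPullback_preservesFiniteLimits X.smallEtaleTopology
    (QuotSh.J Scheme.etalePrecoverage X) (EtFppf.a X)
  haveI := sheafPullback_preservesFiniteColimits X.smallEtaleTopology
    (QuotSh.J Scheme.etalePrecoverage X) (EtFppf.a X)
  haveI := sheafPullback_additive X.smallEtaleTopology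
    (QuotSh.J Scheme.etalePrecoverage X) (EtFppf.a X)
  have hT : IsTerminal (⊤_ X.Etale) := terminalIsTerminal
  have hGT : IsTerminal ((EtFppf.a X).obj (⊤_ X.Etale)) := hT.isTerminalObj (EtFppf.a X) _
  let Z := AddCommGrpCat.of (ULift.{u + 1} ℤ)
  obtain ⟨e⟩ := nonempty_ext_addEquiv (BigSite.piEtAdj Scheme.etalePrecoverage X)
    ((constantSheaf X.smallEtaleTopology AddCommGrpCat.{u + 1}).obj Z) p F
  let i := (constPullIso (EtFppf.a X) AddCommGrpCat.{u + 1} X.smallEtaleTopology
    (QuotSh.J Scheme.etalePrecoverage X) hT hGT).app Z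
  exact ⟨e.symm.trans (extIsoLeft i F p)⟩

end Groth.Agent.Lib.Helper4.BigEtCoh
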