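import Groth.Prelude.Def_BigSite
import Groth.Agent.Lib.Helper4.BigBC
import Groth.Agent.Lib.Helper4.BigEtCoh

set_option autoImplicit false

namespace Groth.Agent.Lib.Helper4.BigEtPull

open CategoryTheory CategoryTheory.Limits AlgebraicGeometry Opposite Abelian
open Groth.Agent.Lib.Helper4.FFSite Groth.Agent.Lib.Helper4.EtBigUnit
open Groth.Agent.Lib.Helper4.BigEtRes Groth.Agent.Lib.Helper4.BigBC
open Groth.Agent.Lib.Helper4.BigEtCoh Groth.Agent.Lib.Helper4.ConstPull
universe u w v₁ u₁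
open BigSite

section ext

variable {𝒜 : Type u₁} [Category.{v₁} 𝒜] [Abelian 𝒜] [HasExt.{w} 𝒜]

/-- `Ext` is invariant under isomorphisms in the second variable -/
noncomputable def extIsoRight (X : 𝒜) {Y Y' : 𝒜} (e : Y ≅ Y') (n : ℕ) : Ext X Y n ≃+ Ext X Y' n where
  toFun x := x.comp (Ext.mk₀ e.hom) (add_zero n)
  invFun x := x.comp (Ext.mk₀ e.inv) (add_zero n)
  left_inv x := by
    simp only
    rw [Ext.comp_assoc_of_third_deg_zero, Ext.mk₀_comp_mk₀, e.hom_inv_id, Ext.comp_mk₀_id]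
  right_inv x := by
    simp only
    rw [Ext.comp_assoc_of_third_deg_zero, Ext.mk₀_comp_mk₀, e.inv_hom_id, Ext.comp_mk₀_id]
  map_add' x y := by simp

end ext

/-- right Kan extension from the small etale site to the big etale site -/
noncomputable abbrev ranEt (T : Scheme.{u}) : EtCoh.Ab T ⥤ BigSite.Ab Scheme.etalePrecoverage T :=
  (EtFppf.a T).sheafPushforwardCocontinuous AddCommGrpCat.{u + 1} T.smallEtaleTopology
    (QuotSh.J Scheme.etalePrecoverage T)

/-- `resEt ⊣ ranEt` -/
noncomputable abbrev ranAdj (T : Scheme.{u}) : BigSite.resEt Scheme.etalePrecoverage T ⊣ ranEt T :=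
  (EtFppf.a T).sheafAdjunctionCocontinuous AddCommGrpCat.{u + 1} T.smallEtaleTopology
    (QuotSh.J Scheme.etalePrecoverage T)

/-- the restriction of the right Kan extension is the identity -/
noncomputable def ranResIso (T : Scheme.{u}) :
    ranEt T ⋙ BigSite.resEt Scheme.etalePrecoverage T ≅ 𝟭 (EtCoh.Ab T) :=
  haveI := isIso_counit_cocontinuous (EtFppf.a T) AddCommGrpCat.{u + 1} T.smallEtaleTopology
    (QuotSh.J Scheme.etalePrecoverage T)
  asIso (ranAdj T).counit

/-- the right adjoint of `π_S⁻¹ ⋙ i_f⁻¹` is `f_*` -/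
noncomputable def rightIso {T S : Scheme.{u}} (f : T ⟶ S) :
    (ranEt T ⋙ BigSite.pushBig Scheme.etalePrecoverage f AddCommGrpCat.{u + 1}) ⋙
      BigSite.resEt Scheme.etalePrecoverage S ≅ EtCoh.push f :=
  Functor.associator _ _ _ ≪≫
    Functor.isoWhiskerLeft (ranEt T) (pushBigResEtIso f) ≪≫
    (Functor.associator _ _ _).symm ≪≫
    Functor.isoWhiskerRight (ranResIso T) (EtCoh.push f) ≪≫
    Functor.leftUnitor _

/-- `π_S⁻¹` followed by restriction to the small etale site of `T` is `f⁻¹` -/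
noncomputable def pullIso {T S : Scheme.{u}} (f : T ⟶ S) :
    BigSite.piEtPull Scheme.etalePrecoverage S ⋙ BigSite.resEtAlong Scheme.etalePrecoverage f ≅
      EtCoh.pull f :=
  Adjunction.leftAdjointUniq
    (((BigSite.piEtAdj Scheme.etalePrecoverage S).comp
      ((BigSite.bigAdj Scheme.etalePrecoverage f AddCommGrpCat.{u + 1}).comp
        (ranAdj T))).ofNatIsoRight (rightIso f))
    (EtCoh.pullPushAdj f)

theorem main6687 {T S : Scheme.{u}} (f : T ⟶ S) (n : ℕ) (F : EtCoh.Ab S) :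
    Nonempty (BigSite.HU Scheme.etalePrecoverage ((BigSite.piEtPull Scheme.etalePrecoverage S).obj F) n (Over.mk f) ≃+
      EtCoh.H T ((EtCoh.pull f).obj F) n) := by
  obtain ⟨e⟩ := main6185 T ((BigSite.pullBig Scheme.etalePrecoverage f AddCommGrpCat.{u + 1}).obj
    ((BigSite.piEtPull Scheme.etalePrecoverage S).obj F)) n
  exact ⟨e.symm.trans (extIsoRight _ ((pullIso f).app F) n)⟩

end Groth.Agent.Lib.Helper4.BigEtPull
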