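import Mathlib.Tactic
import Mathlib.LinearAlgebra.Matrix.Charpoly.Basic
import Mathlib.LinearAlgebra.Matrix.Charpoly.Coeff
import Mathlib.RingTheory.Finiteness.Projective
import Mathlib.RingTheory.IsTensorProduct

namespace Groth.Agent.Lib.Helper4.ProjCharpoly

open Polynomial Matrix

variable {A B : Type*} [CommRing A] [CommRing B] [Algebra A B]

/-- a finite dual basis of a finite projective algebra -/
structure DualBasis (A B : Type*) [CommRing A] [CommRing B] [Algebra A B] (n : ℕ) where
  p : Fin n → B
  ι : Fin n → (B →ₗ[A] A)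
  repr : ∀ x : B, ∑ j, ι j x • p j = x

variable {n : ℕ}

/-- the matrix of multiplication by `b` in a dual basis -/
def mat (D : DualBasis A B n) (b : B) : Matrix (Fin n) (Fin n) A :=
  Matrix.of fun j k => D.ι j (b * D.p k)

/-- the stabilised characteristic polynomial -/
noncomputable def chi (D : DualBasis A B n) (b : B) : A[X] := (mat D b).charpoly

theorem chi_monic (D : DualBasis A B n) (b : B) : (chi D b).Monic := Matrix.charpoly_monic _

/-- coordinates -/
def coord (D : DualBasis A B n) (x : B) : Fin n → A := fun j => D.ι j x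

theorem mat_mulVec_coord (D : DualBasis A B n) (b x : B) :
    mat D b *ᵥ coord D x = coord D (b * x) := by
  ext j
  simp only [mulVec, dotProduct, mat, coord, Matrix.of_apply]
  have h1 : b * x = ∑ k, D.ι k x • (b * D.p k) := by
    conv_lhs => rw [← D.repr x, Finset.mul_sum]
    refine Finset.sum_congr rfl fun k _ => ?_
    rw [mul_smul_comm]
  conv_rhs => rw [h1, map_sum]
  refine Finset.sum_congr rfl fun k _ => ?_
  rw [map_smul, smul_eq_mul, mul_comm]

theorem pow_mulVec_coord (D : DualBasis A B n) (b x : B) (k : ℕ) :
    (mat D b ^ k) *ᵥ coord D x = coord D (b ^ k * x) := by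
  induction k generalizing x with
  | zero => simp
  | succ k ih =>
    rw [pow_succ, ← Matrix.mulVec_mulVec, mat_mulVec_coord, ih, pow_succ, mul_assoc]

theorem coord_injective (D : DualBasis A B n) : Function.Injective (coord D) := by
  intro x y h
  rw [← D.repr x, ← D.repr y]
  refine Finset.sum_congr rfl fun j _ => ?_
  have := congrFun h j
  simp only [coord] at this
  rw [this]

theorem aeval_chi (D : DualBasis A B n) (b : B) : aeval b (chi D b) = 0 := by
  have h := Matrix.aeval_self_charpoly (mat D b)
  apply coord_injective D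
  have h2 : ∀ q : A[X], (aeval (mat D b) q) *ᵥ coord D 1 = coord D (aeval b q) := by
    intro q
    induction q using Polynomial.induction_on' with
    | add p q hp hq =>
      rw [map_add, map_add, Matrix.add_mulVec, hp, hq]
      ext j; simp [coord]
    | monomial k a =>
      rw [aeval_monomial, aeval_monomial, ← Matrix.mulVec_mulVec]
      rw [pow_mulVec_coord, mul_one, Algebra.algebraMap_eq_smul_one, Matrix.smul_mulVec,
        Matrix.one_mulVec]
      ext j
      simp only [coord, Pi.smul_apply, smul_eq_mul]
      rw [← Algebra.smul_def, map_smul, smul_eq_mul]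
  have := h2 (chi D b)
  rw [chi, h, Matrix.zero_mulVec] at this
  rw [← chi] at this
  rw [← this]
  ext j; simp [coord]

/-- independence of the dual basis (same size) -/
theorem chi_indep (D D' : DualBasis A B n) (b : B) : chi D b = chi D' b := by
  let X : Matrix (Fin n) (Fin n) A := Matrix.of fun j k => D.ι j (D'.p k)
  let Y : Matrix (Fin n) (Fin n) A := Matrix.of fun j k => D'.ι j (b * D.p k)
  have h1 : X * Y = mat D b := by
    ext j l
    simp only [Matrix.mul_apply, X, Y, Matrix.of_apply, mat]
    conv_rhs => rw [← D'.repr (b * D.p l), map_sum]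
    refine Finset.sum_congr rfl fun k _ => ?_
    rw [map_smul, smul_eq_mul, mul_comm]
  have h2 : Y * X = mat D' b := by
    ext j l
    simp only [Matrix.mul_apply, X, Y, Matrix.of_apply, mat]
    have h3 : b * D'.p l = ∑ k, D.ι k (D'.p l) • (b * D.p k) := by
      conv_lhs => rw [← D.repr (D'.p l), Finset.mul_sum]
      refine Finset.sum_congr rfl fun k _ => ?_
      rw [mul_smul_comm]
    conv_rhs => rw [h3, map_sum]
    refine Finset.sum_congr rfl fun k _ => ?_
    rw [map_smul, smul_eq_mul, mul_comm]
  rw [chi, chi, ← h1, ← h2, Matrix.charpoly_mul_comm]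

theorem exists_dualBasis [Module.Finite A B] [Module.Projective A B] :
    ∃ n : ℕ, Nonempty (DualBasis A B n) := by
  obtain ⟨n, f, g, -, -, hfg⟩ := Module.Finite.exists_comp_eq_id_of_projective A B
  refine ⟨n, ⟨⟨fun k => f (Pi.single k 1), fun j => (LinearMap.proj j) ∘ₗ g, fun x => ?_⟩⟩⟩
  have h1 : g x = ∑ j, g x j • (Pi.single j (1 : A) : Fin n → A) := by
    ext k
    simp [Finset.sum_apply, Pi.single_apply]
  have h2 := congrArg f h1
  rw [← LinearMap.comp_apply, hfg, LinearMap.id_apply, map_sum] at h2
  conv_rhs => rw [h2]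
  refine Finset.sum_congr rfl fun j _ => ?_
  rw [map_smul]
  rfl

section bc

variable {A' B' : Type*} [CommRing A'] [CommRing B'] [Algebra A A'] [Algebra A' B'] [Algebra B B']
  [Algebra A B'] [IsScalarTower A B B'] [IsScalarTower A A' B'] [Algebra.IsPushout A A' B B']

theorem exists_baseChange (D : DualBasis A B n) :
    ∃ D' : DualBasis A' B' n,
      ∀ b : B, chi D' (algebraMap B B' b) = (chi D b).map (algebraMap A A') := by
  have hbc : IsBaseChange A' (IsScalarTower.toAlgHom A B B').toLinearMap :=
    (Algebra.IsPushout.out : IsBaseChange A' (IsScalarTower.toAlgHom A B B').toLinearMap)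
  let ι' : Fin n → (B' →ₗ[A'] A') := fun j => hbc.lift ((Algebra.linearMap A A') ∘ₗ D.ι j)
  have hι' : ∀ j (x : B), ι' j (algebraMap B B' x) = algebraMap A A' (D.ι j x) := by
    intro j x
    exact hbc.lift_eq ((Algebra.linearMap A A') ∘ₗ D.ι j) x
  refine ⟨⟨fun k => algebraMap B B' (D.p k), ι', fun y => ?_⟩, fun b => ?_⟩
  · induction y using hbc.inductionOn with
    | zero => simp
    | tmul x =>
      show ∑ j, ι' j (algebraMap B B' x) • algebraMap B B' (D.p j) = algebraMap B B' x
      conv_rhs => rw [← D.repr x, map_sum]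
      refine Finset.sum_congr rfl fun j _ => ?_
      rw [hι', Algebra.smul_def, Algebra.smul_def, map_mul,
        ← IsScalarTower.algebraMap_apply A A' B', ← IsScalarTower.algebraMap_apply A B B']
    | smul a y hy =>
      conv_rhs => rw [← hy, Finset.smul_sum]
      refine Finset.sum_congr rfl fun j _ => ?_
      rw [map_smul, smul_assoc]
    | add y z hy hz =>
      conv_rhs => rw [← hy, ← hz, ← Finset.sum_add_distrib]
      refine Finset.sum_congr rfl fun j _ => ?_
      rw [map_add, add_smul]
  · rw [chi, chi, ← Matrix.charpoly_map]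
    congr 1
    ext j k
    simp only [mat, Matrix.of_apply, Matrix.map_apply]
    rw [← map_mul, hι']

end bc

end Groth.Agent.Lib.Helper4.ProjCharpoly
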