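import Mathlib.Tactic
import Mathlib.LinearAlgebra.Matrix.NonsingularInverse
import Groth.Agent.Lib.Helper4.ProjCharpoly

namespace Groth.Agent.Lib.Helper4.ProjNorm

open Polynomial Matrix ProjCharpoly

variable {A B : Type*} [CommRing A] [CommRing B] [Algebra A B] {n : ℕ}

theorem mat_add (D : DualBasis A B n) (b c : B) : mat D (b + c) = mat D b + mat D c := by
  ext j k
  simp [mat, add_mul]

theorem mat_mul_mat (D : DualBasis A B n) (b c : B) : mat D b * mat D c = mat D (b * c) := by
  ext j l
  simp only [Matrix.mul_apply, mat, Matrix.of_apply]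
  have h1 : b * c * D.p l = ∑ k, D.ι k (c * D.p l) • (b * D.p k) := by
    conv_lhs => rw [mul_assoc, ← D.repr (c * D.p l), Finset.mul_sum]
    refine Finset.sum_congr rfl fun k _ => ?_
    rw [mul_smul_comm]
  conv_rhs => rw [h1, map_sum]
  refine Finset.sum_congr rfl fun k _ => ?_
  rw [map_smul, smul_eq_mul, mul_comm]

/-- the norm of a finite projective algebra, computed in a dual basis -/
noncomputable def nrm (D : DualBasis A B n) (b : B) : A := (1 - mat D 1 + mat D b).det

theorem key_mul (D : DualBasis A B n) (b c : B) :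
    (1 - mat D 1 + mat D b) * (1 - mat D 1 + mat D c) = 1 - mat D 1 + mat D (b * c) := by
  have hE : mat D 1 * mat D 1 = mat D 1 := by rw [mat_mul_mat, one_mul]
  have h1 : mat D 1 * mat D c = mat D c := by rw [mat_mul_mat, one_mul]
  have h2 : mat D b * mat D 1 = mat D b := by rw [mat_mul_mat, mul_one]
  have h3 := mat_mul_mat D b c
  simp only [add_mul, mul_add, sub_mul, mul_sub, one_mul, mul_one, hE, h1, h2, h3]
  abel

theorem nrm_mul (D : DualBasis A B n) (b c : B) : nrm D (b * c) = nrm D b * nrm D c := by
  rw [nrm, nrm, nrm, ← Matrix.det_mul, key_mul]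

theorem nrm_one (D : DualBasis A B n) : nrm D 1 = 1 := by
  rw [nrm, sub_add_cancel, Matrix.det_one]

theorem key_mulVec (D : DualBasis A B n) (b y : B) :
    (1 - mat D 1 + mat D b) *ᵥ coord D y = coord D (b * y) := by
  rw [Matrix.add_mulVec, Matrix.sub_mulVec, Matrix.one_mulVec, mat_mulVec_coord, mat_mulVec_coord,
    one_mul, sub_self, zero_add]

theorem isUnit_nrm_iff (D : DualBasis A B n) (b : B) : IsUnit (nrm D b) ↔ IsUnit b := by
  constructor
  · intro h
    have hM : IsUnit (1 - mat D 1 + mat D b) := (Matrix.isUnit_iff_isUnit_det _).mpr h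
    obtain ⟨Minv, hM1⟩ := hM.exists_right_inv
    -- surjectivity of multiplication by b gives an inverse
    let v := Minv *ᵥ coord D 1
    have hv : (1 - mat D 1 + mat D b) *ᵥ v = coord D 1 := by
      rw [Matrix.mulVec_mulVec, hM1, Matrix.one_mulVec]
    -- apply the projector
    have hE : mat D 1 *ᵥ ((1 - mat D 1 + mat D b) *ᵥ v) = mat D b *ᵥ v := by
      rw [Matrix.mulVec_mulVec, mul_add, mul_sub, mul_one, mat_mul_mat, one_mul, sub_self,
        zero_add, mat_mul_mat, one_mul]
    let y : B := ∑ k, v k • D.p k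
    have hy : mat D b *ᵥ v = coord D (b * y) := by
      ext j
      simp only [mulVec, dotProduct, mat, Matrix.of_apply, coord, y, Finset.mul_sum, map_sum]
      refine Finset.sum_congr rfl fun k _ => ?_
      rw [mul_smul_comm, map_smul, smul_eq_mul, mul_comm]
    rw [hv, mat_mulVec_coord, one_mul, hy] at hE
    have := coord_injective D hE
    exact IsUnit.of_mul_eq_one y this.symm
  · intro h
    obtain ⟨c, hc⟩ := h.exists_right_inv
    have := nrm_mul D b c
    rw [hc, nrm_one] at this
    exact IsUnit.of_mul_eq_one _ this.symm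

section bc

variable {A' B' : Type*} [CommRing A'] [CommRing B'] [Algebra A A'] [Algebra A' B'] [Algebra B B']
  [Algebra A B'] [IsScalarTower A B B'] [IsScalarTower A A' B'] [Algebra.IsPushout A A' B B']

theorem exists_baseChange_mat (D : DualBasis A B n) :
    ∃ D' : DualBasis A' B' n,
      ∀ b : B, mat D' (algebraMap B B' b) = (mat D b).map (algebraMap A A') := by
  have hbc : IsBaseChange A' (IsScalarTower.toAlgHom A B B').toLinearMap :=
    (Algebra.IsPushout.out : IsBaseChange A' (IsScalarTower.toAlgHom A B B').toLinearMap)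
  let ι' : Fin n → (B' →ₗ[A'] A') := fun j => hbc.lift ((Algebra.linearMap A A') ∘ₗ D.ι j)
  have hι' : ∀ j (x : B), ι' j (algebraMap B B' x) = algebraMap A A' (D.ι j x) := by
    intro j x
    exact hbc.lift_eq ((Algebra.linearMap A A') ∘ₗ D.ι j) x
  refine ⟨⟨fun k => algebraMap B B' (D.p k), ι', fun y => ?_⟩, fun b => ?_⟩
  · induction y using hbc.inductionOn with
    | zero => simp
    | tmul x =>
      show ∑ j, ι' j (algebraMap B B' x) • algebraMap B B' (D.p j) = algebraMap B B' x
      conv_rhs => rw [← D.repr x, map_sum]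
      refine Finset.sum_congr rfl fun j _ => ?_
      rw [hι', Algebra.smul_def, Algebra.smul_def, map_mul,
        ← IsScalarTower.algebraMap_apply A A' B', ← IsScalarTower.algebraMap_apply A B B']
    | smul a y hy =>
      conv_rhs => rw [← hy, Finset.smul_sum]
      refine Finset.sum_congr rfl fun j _ => ?_
      rw [map_smul, smul_assoc]
    | add y z hy hz =>
      conv_rhs => rw [← hy, ← hz, ← Finset.sum_add_distrib]
      refine Finset.sum_congr rfl fun j _ => ?_
      rw [map_add, add_smul]
  · ext j k
    simp only [mat, Matrix.of_apply, Matrix.map_apply]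
    rw [← map_mul, hι']

theorem exists_baseChange_nrm (D : DualBasis A B n) :
    ∃ D' : DualBasis A' B' n,
      ∀ b : B, nrm D' (algebraMap B B' b) = algebraMap A A' (nrm D b) := by
  obtain ⟨D', hD'⟩ := exists_baseChange_mat (A' := A') (B' := B') D
  refine ⟨D', fun b => ?_⟩
  have h1 := hD' 1
  rw [map_one] at h1
  rw [nrm, nrm, hD', h1, RingHom.map_det]
  congr 1
  ext j k
  simp [Matrix.map_apply, Matrix.one_apply]

end bc

end Groth.Agent.Lib.Helper4.ProjNorm
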