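import Mathlib.Tactic
import Mathlib.AlgebraicGeometry.Morphisms.Finite
import Mathlib.AlgebraicGeometry.Morphisms.Flat
import Mathlib.AlgebraicGeometry.Morphisms.FinitePresentation
import Mathlib.AlgebraicGeometry.Morphisms.QuasiFinite
import Mathlib.AlgebraicGeometry.Fiber
import Mathlib.RingTheory.Flat.EquationalCriterion
import Mathlib.RingTheory.Finiteness.ModuleFinitePresentation
import Groth.Prelude.Def_Grpd
import Groth.Agent.Lib.Helper4.ProjNorm
import Groth.Agent.Lib.Helper4.GrpdInvOpen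

set_option linter.style.haveILetI false

namespace Groth.Agent.Lib.Helper4.GrpdAffOpen

open TensorProduct CategoryTheory Limits AlgebraicGeometry ProjCharpoly ProjNorm

universe u

theorem exists_nrm_of_isPushout {A B A' P : CommRingCat.{u}} (σ : A ⟶ B) (φ : A ⟶ A') (ψ : B ⟶ P)
    (ρ : A' ⟶ P) (h : IsPushout σ φ ψ ρ) {n : ℕ}
    (D : letI := σ.hom.toAlgebra; DualBasis A B n) :
    ∃ D' : (letI := ρ.hom.toAlgebra; DualBasis A' P n), ∀ b : B,
      (letI := ρ.hom.toAlgebra; nrm D' (ψ.hom b)) =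
        φ.hom (letI := σ.hom.toAlgebra; nrm D b) := by
  letI := σ.hom.toAlgebra; letI := φ.hom.toAlgebra; letI := ρ.hom.toAlgebra
  letI := ψ.hom.toAlgebra
  letI := (ρ.hom.comp φ.hom).toAlgebra
  haveI : IsScalarTower A A' P := IsScalarTower.of_algebraMap_eq' rfl
  haveI : IsScalarTower A B P :=
    IsScalarTower.of_algebraMap_eq fun x ↦ (congr($(h.w).hom x)).symm
  haveI : Algebra.IsPushout A B A' P := CommRingCat.isPushout_iff_isPushout.mp h
  haveI : Algebra.IsPushout A A' B P := Algebra.IsPushout.symm ‹_›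
  exact exists_baseChange_nrm (A := A) (B := B) (A' := A') (B' := P) D

theorem isUnit_iff_basicOpen_eq_top {X : Scheme.{u}} (a : Γ(X, ⊤)) :
    IsUnit a ↔ X.basicOpen a = ⊤ := by
  constructor
  · intro h
    exact Scheme.basicOpen_of_isUnit _ h
  · intro h
    apply X.toRingedSpace.isUnit_of_isUnit_germ ⊤ a
    intro x hx
    have hx' : x ∈ X.basicOpen a := by rw [h]; trivial
    exact (X.mem_basicOpen a x hx).mp hx'

theorem mem_basicOpen_nrm_iff {X Y : Scheme.{u}} (f : X ⟶ Y) [IsAffine X] [IsAffine Y] {n : ℕ}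
    (D : letI := f.appTop.hom.toAlgebra; DualBasis Γ(Y, ⊤) Γ(X, ⊤) n) (g : Γ(X, ⊤)) (y : Y) :
    y ∈ Y.basicOpen (letI := f.appTop.hom.toAlgebra; nrm D g) ↔
      ∀ x : X, f x = y → x ∈ X.basicOpen g := by
  letI alg := f.appTop.hom.toAlgebra
  have sq : IsPullback (f.fiberι y) (f.fiberToSpecResidueField y) f (Y.fromSpecResidueField y) :=
    IsPullback.of_hasPullback _ _
  have po := isPushout_appTop_of_isPullback sq
  obtain ⟨D', hD'⟩ := exists_nrm_of_isPushout _ _ _ _ po D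
  letI alg' := (f.fiberToSpecResidueField y).appTop.hom.toAlgebra
  have h1 : y ∈ Y.basicOpen (nrm D g) ↔
      IsUnit ((Y.fromSpecResidueField y).appTop.hom (nrm D g)) := by
    rw [isUnit_iff_basicOpen_eq_top]
    erw [← Scheme.preimage_basicOpen_top]
    constructor
    · intro hy
      ext z
      simp only [Scheme.Hom.coe_preimage, Set.mem_preimage, SetLike.mem_coe,
        TopologicalSpace.Opens.coe_top, Set.mem_univ, iff_true]
      have : Y.fromSpecResidueField y z = y := by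
        have := Y.range_fromSpecResidueField y
        have hz : Y.fromSpecResidueField y z ∈ Set.range (Y.fromSpecResidueField y) := ⟨z, rfl⟩
        rw [this] at hz
        exact hz
      rw [this]; exact hy
    · intro hy
      have hne : Nonempty (Spec (Y.residueField y)) := inferInstance
      obtain ⟨z⟩ := hne
      have hz : z ∈ (Y.fromSpecResidueField y) ⁻¹ᵁ (Y.basicOpen (nrm D g)) := by rw [hy]; trivial
      have : Y.fromSpecResidueField y z = y := by
        have := Y.range_fromSpecResidueField y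
        have hz : Y.fromSpecResidueField y z ∈ Set.range (Y.fromSpecResidueField y) := ⟨z, rfl⟩
        rw [this] at hz
        exact hz
      rw [← this]; exact hz
  rw [h1, ← hD', isUnit_nrm_iff, isUnit_iff_basicOpen_eq_top]
  erw [← Scheme.preimage_basicOpen_top]
  constructor
  · intro h x hx
    have hx' : x ∈ Set.range (f.fiberι y) := by rw [f.range_fiberι]; exact hx
    obtain ⟨z, rfl⟩ := hx'
    have hz : z ∈ (f.fiberι y) ⁻¹ᵁ X.basicOpen g := by rw [h]; trivial
    exact hz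
  · intro h
    ext z
    simp only [Scheme.Hom.coe_preimage, Set.mem_preimage, SetLike.mem_coe,
      TopologicalSpace.Opens.coe_top, Set.mem_univ, iff_true]
    apply h
    have : f.fiberι y z ∈ Set.range (f.fiberι y) := ⟨z, rfl⟩
    rw [f.range_fiberι] at this
    exact this

theorem exists_basicOpen_of_finite {Y : Scheme.{u}} [IsAffine Y] (Q : Set Y) (hQ : Q.Finite)
    (O : Y.Opens) (hQO : Q ⊆ O) :
    ∃ f : Γ(Y, ⊤), Q ⊆ Y.basicOpen f ∧ Y.basicOpen f ≤ O := by
  classical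
  let pt : Y → PrimeSpectrum Γ(Y, ⊤) := fun y => Y.toSpecΓ y
  have F1 : Function.Injective pt := Y.toSpecΓ.isOpenEmbedding.injective
  have F2 : ∀ (y : Y) (a : Γ(Y, ⊤)), y ∈ Y.basicOpen a ↔ a ∉ (pt y).asIdeal := by
    intro y a
    rw [← Scheme.toSpecΓ_preimage_basicOpen]
    exact Iff.rfl
  have F3 : IsOpen (pt '' (O : Set Y)) := Y.toSpecΓ.isOpenEmbedding.isOpenMap _ O.2
  let Z : Set (PrimeSpectrum Γ(Y, ⊤)) := (pt '' (O : Set Y))ᶜ
  have hZc : IsClosed Z := F3.isClosed_compl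
  let I := PrimeSpectrum.vanishingIdeal Z
  have hZ : PrimeSpectrum.zeroLocus (I : Set Γ(Y, ⊤)) = Z := by
    rw [PrimeSpectrum.zeroLocus_vanishingIdeal_eq_closure, hZc.closure_eq]
  have hnot : ¬ ((I : Set Γ(Y, ⊤)) ⊆ ⋃ q ∈ (hQ.toFinset : Set Y),
      (((pt q).asIdeal : Ideal Γ(Y, ⊤)) : Set Γ(Y, ⊤))) := by
    by_cases hne : hQ.toFinset.Nonempty
    · obtain ⟨q0, hq0⟩ := hne
      rw [Ideal.subset_union_prime (s := hQ.toFinset)
        (f := fun q => (pt q).asIdeal) q0 q0 (fun q _ _ _ => (pt q).isPrime)]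
      rintro ⟨q, hq, hle⟩
      have hq' : q ∈ Q := by simpa using hq
      have hmem : pt q ∈ PrimeSpectrum.zeroLocus (I : Set _) := by
        rw [PrimeSpectrum.mem_zeroLocus]; exact hle
      rw [hZ] at hmem
      exact hmem ⟨q, hQO hq', rfl⟩
    · rw [Finset.not_nonempty_iff_eq_empty] at hne
      rw [hne]
      simp only [Finset.coe_empty, Set.mem_empty_iff_false, Set.iUnion_of_empty,
        Set.iUnion_empty, Set.subset_empty_iff]
      intro h
      have : (0 : Γ(Y, ⊤)) ∈ (I : Set Γ(Y, ⊤)) := I.zero_mem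
      rw [h] at this
      exact this
  obtain ⟨a, haI, ha⟩ := Set.not_subset.mp hnot
  refine ⟨a, ?_, ?_⟩
  · intro q hq
    show q ∈ Y.basicOpen a
    rw [F2]
    intro hmem
    apply ha
    simp only [Set.mem_iUnion]
    exact ⟨q, by simpa using hq, hmem⟩
  · intro y hy
    rw [F2] at hy
    by_contra hyO
    have hyZ : pt y ∈ Z := by
      rintro ⟨y', hy'O, hyy'⟩
      have : y' = y := F1 hyy'
      exact hyO (this ▸ hy'O)
    rw [← hZ, PrimeSpectrum.mem_zeroLocus] at hyZ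
    exact hy (hyZ haI)

theorem exists_dualBasis_of_finite_flat {X Y : Scheme.{u}} (f : X ⟶ Y) [IsAffine X] [IsAffine Y]
    [IsFinite f] [Flat f] [LocallyOfFinitePresentation f] :
    ∃ n : ℕ, Nonempty (letI := f.appTop.hom.toAlgebra; DualBasis Γ(Y, ⊤) Γ(X, ⊤) n) := by
  letI alg := f.appTop.hom.toAlgebra
  have h1 : f.appTop.hom.Finite := f.finite_app ⊤ (isAffineOpen_top _)
  have h2 : f.appTop.hom.Flat := f.flat_appTop
  have h3 : f.appTop.hom.FinitePresentation :=
    HasRingHomProperty.appTop (P := @LocallyOfFinitePresentation) _ inferInstance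
  haveI : Module.Finite Γ(Y, ⊤) Γ(X, ⊤) := h1
  haveI : Module.Flat Γ(Y, ⊤) Γ(X, ⊤) := h2
  haveI : Algebra.FinitePresentation Γ(Y, ⊤) Γ(X, ⊤) := h3
  haveI : Module.FinitePresentation Γ(Y, ⊤) Γ(X, ⊤) :=
    Module.FinitePresentation.of_finite_of_finitePresentation _ _
  haveI : Module.Projective Γ(Y, ⊤) Γ(X, ⊤) := Module.Flat.projective_of_finitePresentation
  exact exists_dualBasis

variable {S : Scheme.{u}} (G : Grpd.GroupoidScheme S)

open GrpdInvOpen in
theorem main (S : Scheme.{u}) (G : Grpd.GroupoidScheme S) [IsFinite G.s] [Flat G.s]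
    [LocallyOfFinitePresentation G.s] (u : G.U) (V : G.U.Opens) (hV : IsAffineOpen V)
    (huV : ∀ r : G.R, G.s r = u → G.t r ∈ V) :
    ∃ W : G.U.Opens, IsAffineOpen W ∧ u ∈ W ∧ G.s ⁻¹ᵁ W = G.t ⁻¹ᵁ W := by
  classical
  -- Step A
  have hclosed : IsClosed (G.s '' (G.t ⁻¹' (V : Set G.U)ᶜ)) :=
    G.s.isClosedMap _ ((V.2.isClosed_compl).preimage G.t.continuous)
  let W' : G.U.Opens := ⟨(G.s '' (G.t ⁻¹' (V : Set G.U)ᶜ))ᶜ, hclosed.isOpen_compl⟩
  have hW'mem : ∀ x, x ∈ W' ↔ ∀ r, G.s r = x → G.t r ∈ V := by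
    intro x
    show x ∉ _ ↔ _
    simp only [Set.mem_image, Set.mem_preimage, Set.mem_compl_iff, SetLike.mem_coe, not_exists,
      not_and]
    constructor
    · intro h r hr
      by_contra hn
      exact h r hn hr
    · intro h r hn hr
      exact hn (h r hr)
  have huW' : u ∈ W' := (hW'mem u).mpr huV
  have hW'V : W' ≤ V := fun x hx => by
    have := (hW'mem x).mp hx (G.e x) (pt_e_s G x)
    rwa [pt_e_t] at this
  -- Step B
  haveI : IsAffine V.toScheme := hV
  let Q : Set V.toScheme := {y | ∃ r, G.s r = u ∧ G.t r = V.ι y}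
  have hQfin : Q.Finite := by
    have h1 : (G.s ⁻¹' {u}).Finite := G.s.finite_preimage_singleton u
    have h2 : (G.t '' (G.s ⁻¹' {u})).Finite := h1.image _
    apply (h2.preimage (V.ι.isOpenEmbedding.injective.injOn)).subset
    rintro y ⟨r, hr1, hr2⟩
    exact ⟨r, hr1, hr2⟩
  let O : V.toScheme.Opens := V.ι ⁻¹ᵁ W'
  have hQO : Q ⊆ O := by
    rintro y ⟨r, hr1, hr2⟩
    show V.ι y ∈ W'
    rw [← hr2, hW'mem]
    intro r' hr'
    obtain ⟨r'', h1, h2⟩ := pt_comp G r' r hr'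
    rw [← h2]
    exact huV r'' (h1.trans hr1)
  obtain ⟨f, hQf, hfO⟩ := exists_basicOpen_of_finite Q hQfin O hQO
  -- Step C
  let V' : G.U.Opens := V.ι ''ᵁ (V.toScheme.basicOpen f)
  have hV'aff : IsAffineOpen V' :=
    ((isAffineOpen_top V.toScheme).basicOpen f).image_of_isOpenImmersion V.ι
  have hV'mem : ∀ x, x ∈ V' ↔ ∃ y : V.toScheme, y ∈ V.toScheme.basicOpen f ∧ V.ι y = x := by
    intro x
    exact Iff.rfl
  have hV'W' : V' ≤ W' := by
    rintro _ ⟨y, hy, rfl⟩
    exact hfO hy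
  have hV'V : V' ≤ V := hV'W'.trans hW'V
  let R' : G.R.Opens := G.s ⁻¹ᵁ V'
  haveI : IsAffine V'.toScheme := hV'aff
  haveI : IsAffine R'.toScheme := hV'aff.preimage G.s
  let f1 : R'.toScheme ⟶ V'.toScheme := G.s ∣_ V'
  have hf1 : f1 ≫ V'.ι = R'.ι ≫ G.s := morphismRestrict_ι G.s V'
  haveI : IsFinite f1 := inferInstance
  haveI : Flat f1 := inferInstance
  haveI : LocallyOfFinitePresentation f1 := inferInstance
  obtain ⟨n, ⟨D⟩⟩ := exists_dualBasis_of_finite_flat f1
  have hτ : Set.range (R'.ι ≫ G.t) ⊆ Set.range V.ι := by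
    rintro _ ⟨r, rfl⟩
    have h1 : G.s (R'.ι r) ∈ W' := hV'W' r.2
    have h2 := (hW'mem _).mp h1 (R'.ι r) rfl
    simpa using h2
  let τ : R'.toScheme ⟶ V.toScheme := IsOpenImmersion.lift V.ι (R'.ι ≫ G.t) hτ
  have hτι : τ ≫ V.ι = R'.ι ≫ G.t := IsOpenImmersion.lift_fac _ _ _
  let g : Γ(R'.toScheme, ⊤) := τ.appTop f
  have hg : R'.toScheme.basicOpen g = τ ⁻¹ᵁ (V.toScheme.basicOpen f) :=
    (Scheme.preimage_basicOpen_top τ f).symm
  let N : Γ(V'.toScheme, ⊤) := (letI := f1.appTop.hom.toAlgebra; nrm D g)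
  have hN : ∀ y : V'.toScheme, y ∈ V'.toScheme.basicOpen N ↔
      ∀ x : R'.toScheme, f1 x = y → x ∈ R'.toScheme.basicOpen g :=
    fun y => mem_basicOpen_nrm_iff f1 D g y
  let W : G.U.Opens := V'.ι ''ᵁ (V'.toScheme.basicOpen N)
  have hWaff : IsAffineOpen W :=
    ((isAffineOpen_top V'.toScheme).basicOpen N).image_of_isOpenImmersion V'.ι
  -- Step D
  have hpt1 : ∀ x1 : R'.toScheme, V'.ι (f1 x1) = G.s (R'.ι x1) := by
    intro x1
    rw [← Scheme.Hom.comp_apply, hf1, Scheme.Hom.comp_apply]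
  have hpt2 : ∀ x1 : R'.toScheme, V.ι (τ x1) = G.t (R'.ι x1) := by
    intro x1
    rw [← Scheme.Hom.comp_apply, hτι, Scheme.Hom.comp_apply]
  have hWmem : ∀ x, x ∈ W ↔ ∀ r, G.s r = x → G.t r ∈ V' := by
    intro x
    constructor
    · rintro ⟨y, hy, rfl⟩ r hr
      have hrR' : r ∈ R' := by
        show G.s r ∈ V'
        rw [hr]; exact y.2
      let x1 : R'.toScheme := ⟨r, hrR'⟩
      have hx1 : f1 x1 = y := by
        apply V'.ι.isOpenEmbedding.injective
        rw [hpt1]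
        exact hr
      have := (hN y).mp hy x1 hx1
      rw [hg] at this
      rw [hV'mem]
      exact ⟨τ x1, this, hpt2 x1⟩
    · intro h
      have hxV' : x ∈ V' := by
        have := h (G.e x) (pt_e_s G x)
        rwa [pt_e_t] at this
      let y : V'.toScheme := ⟨x, hxV'⟩
      refine ⟨y, ?_, rfl⟩
      refine (hN y).mpr ?_
      intro x1 hx1
      have hs : G.s (R'.ι x1) = x := by
        rw [← hpt1, hx1]; rfl
      obtain ⟨y0, hy0, hy0t⟩ := (hV'mem _).mp (h _ hs)
      rw [← hpt2] at hy0t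
      have : y0 = τ x1 := V.ι.isOpenEmbedding.injective hy0t
      rw [hg]
      show τ x1 ∈ V.toScheme.basicOpen f
      rw [← this]; exact hy0
  have key : ∀ r0 : G.R, G.s r0 ∈ W → G.t r0 ∈ W := by
    intro r0 h0
    rw [hWmem] at h0 ⊢
    intro r hr
    obtain ⟨r'', h1, h2⟩ := pt_comp G r r0 hr
    rw [← h2]
    exact h0 r'' h1
  refine ⟨W, hWaff, ?_, ?_⟩
  · rw [hWmem]
    intro r hr
    have hrV : G.t r ∈ V := huV r hr
    have : (⟨G.t r, hrV⟩ : V.toScheme) ∈ Q := ⟨r, hr, rfl⟩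
    exact ⟨⟨G.t r, hrV⟩, hQf this, rfl⟩
  · ext r0
    constructor
    · intro h
      exact key r0 h
    · intro h
      have := key (G.i r0) (by
        show G.s (G.i r0) ∈ W
        rw [pt_i_s]; exact h)
      rwa [pt_i_t] at this

end Groth.Agent.Lib.Helper4.GrpdAffOpen
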