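import Mathlib.Tactic
import Mathlib.AlgebraicGeometry.Morphisms.Finite
import Mathlib.AlgebraicGeometry.Morphisms.Flat
import Mathlib.AlgebraicGeometry.Morphisms.FinitePresentation
import Mathlib.RingTheory.Flat.EquationalCriterion
import Mathlib.RingTheory.Finiteness.ModuleFinitePresentation
import Mathlib.Algebra.Polynomial.Lifts
import Groth.Prelude.Def_Grpd
import Groth.Agent.Lib.Helper4.NormBC
import Groth.Agent.Lib.Helper4.ProjCharpoly

set_option linter.style.haveILetI false

namespace Groth.Agent.Lib.Helper4.GrpdIntegral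

open TensorProduct CategoryTheory Limits AlgebraicGeometry ProjCharpoly Polynomial

universe u

/-- `chi` commutes with base change along a pushout square of algebras. -/
theorem exists_chi_of_isPushout {A B A' P : CommRingCat.{u}} (σ : A ⟶ B) (φ : A ⟶ A') (ψ : B ⟶ P)
    (ρ : A' ⟶ P) (h : IsPushout σ φ ψ ρ) {n : ℕ}
    (D : letI := σ.hom.toAlgebra; DualBasis A B n) :
    ∃ D' : (letI := ρ.hom.toAlgebra; DualBasis A' P n), ∀ b : B,
      (letI := ρ.hom.toAlgebra; chi D' (ψ.hom b)) =
        (letI := σ.hom.toAlgebra; chi D b).map φ.hom := by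
  letI := σ.hom.toAlgebra; letI := φ.hom.toAlgebra; letI := ρ.hom.toAlgebra
  letI := ψ.hom.toAlgebra
  letI := (ρ.hom.comp φ.hom).toAlgebra
  haveI : IsScalarTower A A' P := IsScalarTower.of_algebraMap_eq' rfl
  haveI : IsScalarTower A B P :=
    IsScalarTower.of_algebraMap_eq fun x ↦ (congr($(h.w).hom x)).symm
  haveI : Algebra.IsPushout A B A' P := CommRingCat.isPushout_iff_isPushout.mp h
  haveI : Algebra.IsPushout A A' B P := Algebra.IsPushout.symm ‹_›
  exact exists_baseChange (A := A) (B := B) (A' := A') (B' := P) D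

variable {S : Scheme.{u}} (G : Grpd.GroupoidScheme S)

theorem exists_dualBasis_of_finite_flat [IsAffine G.U] [IsAffine G.R] [IsFinite G.s] [Flat G.s]
    [LocallyOfFinitePresentation G.s] :
    ∃ n : ℕ, Nonempty (letI := G.s.appTop.hom.toAlgebra; DualBasis Γ(G.U, ⊤) Γ(G.R, ⊤) n) := by
  letI alg := G.s.appTop.hom.toAlgebra
  have h1 : G.s.appTop.hom.Finite := G.s.finite_app ⊤ (isAffineOpen_top _)
  have h2 : G.s.appTop.hom.Flat := G.s.flat_appTop
  have h3 : G.s.appTop.hom.FinitePresentation :=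
    HasRingHomProperty.appTop (P := @LocallyOfFinitePresentation) _ inferInstance
  haveI : Module.Finite Γ(G.U, ⊤) Γ(G.R, ⊤) := h1
  haveI : Module.Flat Γ(G.U, ⊤) Γ(G.R, ⊤) := h2
  haveI : Algebra.FinitePresentation Γ(G.U, ⊤) Γ(G.R, ⊤) := h3
  haveI : Module.FinitePresentation Γ(G.U, ⊤) Γ(G.R, ⊤) :=
    Module.FinitePresentation.of_finite_of_finitePresentation _ _
  haveI : Module.Projective Γ(G.U, ⊤) Γ(G.R, ⊤) := Module.Flat.projective_of_finitePresentation
  exact exists_dualBasis

theorem main (S : Scheme.{u}) (G : Grpd.GroupoidScheme S) [IsAffine G.U] [IsAffine G.R]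
    [IsFinite G.s] [Flat G.s] [LocallyOfFinitePresentation G.s] :
    Algebra.IsIntegral G.invariants Γ(G.U, ⊤) := by
  classical
  letI alg := G.s.appTop.hom.toAlgebra
  obtain ⟨n, ⟨D⟩⟩ := exists_dualBasis_of_finite_flat G
  refine ⟨fun a => ?_⟩
  have sq1 := isPushout_appTop_of_isPullback (IsPullback.of_hasPullback G.s G.t)
  have sq2 := isPushout_appTop_of_isPullback (GrpdInvariant.isPullback_c G)
  obtain ⟨D1, hD1⟩ := exists_chi_of_isPushout _ _ _ _ sq1 D
  obtain ⟨D2, hD2⟩ := exists_chi_of_isPushout _ _ _ _ sq2 D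
  have e3 : (pullback.fst G.s G.t).appTop.hom (G.t.appTop.hom a) =
      G.c.appTop.hom (G.t.appTop.hom a) := by
    have := congr($(congrArg Scheme.Hom.appTop (NormBC.c_t G)).hom a)
    rw [Scheme.Hom.comp_appTop, Scheme.Hom.comp_appTop] at this
    exact this.symm
  set P : Γ(G.U, ⊤)[X] := chi D (G.t.appTop.hom a) with hP
  have hinv : P.map G.t.appTop.hom = P.map G.s.appTop.hom := by
    rw [hP, ← hD1, ← hD2, e3]
    letI := (pullback.snd G.s G.t).appTop.hom.toAlgebra
    exact chi_indep D1 D2 _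
  have hmonic : P.Monic := chi_monic _ _
  have hroot : P.eval a = 0 := by
    have h1 := aeval_chi D (G.t.appTop.hom a)
    rw [← hP] at h1
    have h2 := congrArg G.e.appTop.hom h1
    rw [map_zero, aeval_def, hom_eval₂] at h2
    have hs : G.e.appTop.hom.comp (algebraMap Γ(G.U, ⊤) Γ(G.R, ⊤)) = RingHom.id _ := by
      have := congrArg (fun f => f.appTop.hom) G.e_s
      simp only [Scheme.Hom.comp_appTop, CommRingCat.hom_comp, Scheme.Hom.id_appTop,
        CommRingCat.hom_id] at this
      exact this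
    have ht : G.e.appTop.hom (G.t.appTop.hom a) = a := by
      have := congr($(congrArg Scheme.Hom.appTop G.e_t).hom a)
      rw [Scheme.Hom.comp_appTop] at this
      simpa using this
    rw [hs, ht, eval₂_id] at h2
    exact h2
  have hlift : P ∈ Polynomial.lifts (algebraMap G.invariants Γ(G.U, ⊤)) := by
    rw [Polynomial.lifts_iff_coeff_lifts]
    intro k
    have hk : G.s.appTop.hom (P.coeff k) = G.t.appTop.hom (P.coeff k) := by
      have := congrArg (fun q => q.coeff k) hinv
      simp only [coeff_map] at this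
      exact this.symm
    exact ⟨⟨P.coeff k, hk⟩, rfl⟩
  obtain ⟨Q, hQ1, -, hQ2⟩ := Polynomial.lifts_and_natDegree_eq_and_monic hlift hmonic
  exact ⟨Q, hQ2, by rw [← Polynomial.eval_map, hQ1, hroot]⟩

end Groth.Agent.Lib.Helper4.GrpdIntegral
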