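import Mathlib.Tactic
import Mathlib.CategoryTheory.Sites.EpiMono
import Mathlib.CategoryTheory.Sites.LocallyBijective
import Mathlib.CategoryTheory.Sites.Over
import Groth.Prelude.Def_QuotSh

set_option autoImplicit false
universe u
open CategoryTheory AlgebraicGeometry Limits

namespace Groth.Agent.Lib.Helper4.EpiRep

variable {S : Scheme.{u}} (K : Precoverage Scheme.{u})

/-- epi of representable sheaves ⟺ local surjectivity of the map of representable presheaves -/
theorem epi_repMap_iff {V W : Over S} (g : V ⟶ W) :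
    Epi (QuotSh.repMap K g) ↔
      Presheaf.IsLocallySurjective (QuotSh.J K S)
        (Functor.whiskerRight (yoneda.map g) uliftFunctor.{u + 1, u}) := by
  rw [← Sheaf.isLocallySurjective_iff_epi]
  exact Presheaf.isLocallySurjective_presheafToSheaf_map_iff _ _

theorem mem_imageSieve_iff {V W : Over S} (g : V ⟶ W) {T T' : Over S}
    (s : (yoneda.obj W ⋙ uliftFunctor.{u + 1, u}).obj (Opposite.op T)) (v : T' ⟶ T) :
    (Presheaf.imageSieve (Functor.whiskerRight (yoneda.map g) uliftFunctor.{u + 1, u})
      (U := T) s).arrows v ↔ ∃ y : T' ⟶ V, y ≫ g = v ≫ s.down := by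
  constructor
  · rintro ⟨⟨y⟩, hy⟩
    exact ⟨y, congrArg ULift.down hy⟩
  · rintro ⟨y, hy⟩
    exact ⟨⟨y⟩, congrArg ULift.up hy⟩

/-- epi of representables ⟺ sieve generated by `g` covering -/
theorem epi_repMap_iff_generate {V W : Over S} (g : V ⟶ W) :
    Epi (QuotSh.repMap K g) ↔
      Sieve.generate (Presieve.singleton g.left) ∈ K.toGrothendieck W.left := by
  rw [epi_repMap_iff]
  constructor
  · intro h
    have h1 := h.imageSieve_mem (U := W)
      (show (yoneda.obj W ⋙ uliftFunctor.{u + 1, u}).obj (Opposite.op W) from ULift.up (𝟙 W))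
    rw [GrothendieckTopology.mem_over_iff] at h1
    refine K.toGrothendieck.superset_covering ?_ h1
    intro Z v hv
    rw [Sieve.overEquiv_iff, mem_imageSieve_iff] at hv
    obtain ⟨y, hy⟩ := hv
    refine ⟨V.left, y.left, g.left, ⟨⟩, ?_⟩
    have := congrArg CommaMorphism.left hy
    simpa using this
  · intro h
    refine ⟨fun {T} s => ?_⟩
    have hx : ∃ x : T ⟶ W, x = s.down := ⟨_, rfl⟩
    obtain ⟨x, hx⟩ := hx
    rw [GrothendieckTopology.mem_over_iff]
    have h1 := K.toGrothendieck.pullback_stable x.left h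
    refine K.toGrothendieck.superset_covering ?_ h1
    intro Z v hv
    rw [Sieve.pullback_apply] at hv
    obtain ⟨_, t, _, ⟨⟩, ht⟩ := hv
    rw [Sieve.overEquiv_iff, mem_imageSieve_iff]
    refine ⟨Over.homMk t ?_, ?_⟩
    · show t ≫ V.hom = v ≫ T.hom
      rw [← Over.w g, ← Category.assoc, ht, Category.assoc, Over.w x]
    · ext
      rw [← hx]
      exact ht

end Groth.Agent.Lib.Helper4.EpiRep
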