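import Mathlib.Tactic
import Mathlib.AlgebraicGeometry.Sites.Fpqc
import Mathlib.AlgebraicGeometry.Sites.Pretopology
import Mathlib.AlgebraicGeometry.PullbackCarrier
import Groth.Prelude.Def_QuotSh
import Groth.Prelude.Def_AlgGrp
import Groth.Agent.Lib.Helper4.EpiRep
import Groth.Agent.Lib.Helper4.KerPts
import Groth.Agent.Lib.Helper4.QuotFlat
import Groth.Agent.Lib.Helper4.CentralizerClosed

set_option autoImplicit false
universe u
open CategoryTheory MonoidalCategory CartesianMonoidalCategory MonObj AlgebraicGeometry Limits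

namespace Groth.Agent.Lib.Helper4.FlatEpi

variable {S : Scheme.{u}}

/-- pointwise flat descent on the source -/
theorem flat_of_forall_exists {Y Z : Scheme.{u}} (g : Y ⟶ Z)
    (h : ∀ y : Y, ∃ (X : Scheme.{u}) (f : X ⟶ Y) (x : X), f x = y ∧ Flat f ∧ Flat (f ≫ g)) :
    Flat g := by
  rw [Flat.iff_flat_stalkMap]
  intro y
  obtain ⟨X, f, x, rfl, hf, hfg⟩ := h y
  have h1 : ((f ≫ g).stalkMap x).hom.Flat := Flat.stalkMap (f ≫ g) x
  rw [Scheme.Hom.stalkMap_comp] at h1
  have h2 : (f.stalkMap x).hom.Flat := Flat.stalkMap f x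
  have h3 : (f.stalkMap x).hom.FaithfullyFlat := by
    algebraize [(f.stalkMap x).hom]
    exact @Module.FaithfullyFlat.of_flat_of_isLocalHom _ _ _ _ _ _ _
      (Flat.stalkMap f x) (f.toLRSHom.prop x)
  exact RingHom.Flat.of_comp_faithfullyFlat h3 h1

section kp
variable {G H N : Over S} [GrpObj G] [GrpObj H] (f : G ⟶ H) [IsMonHom f]
  (i : N ⟶ G) (hi : AlgGrp.IsKernel i f)

include hi in
/-- the kernel pair of `f` is `N ⊗ G` -/
theorem isPullback_kernelPair :
    IsPullback (lift (fst N G ≫ i) (snd N G) ≫ μ[G]) (snd N G) f f := by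
  rw [KerPts.isKernel_iff] at hi
  obtain ⟨hw, hT⟩ := hi
  have key : ∀ (T : Over S) (a b : T ⟶ G), a ≫ f = b ≫ f →
      ∃! y : T ⟶ N, y ≫ i = a * b⁻¹ := by
    intro T a b hab
    apply hT
    rw [MonObj.mul_comp, GrpObj.inv_comp, hab, mul_inv_cancel]
  have hm : ∀ {T : Over S} (y : T ⟶ N) (b : T ⟶ G),
      lift y b ≫ lift (fst N G ≫ i) (snd N G) ≫ μ[G] = (y ≫ i) * b := by
    intro T y b
    rw [← Category.assoc, comp_lift, ← Category.assoc, lift_fst, lift_snd]
    rfl
  refine ⟨⟨?_⟩, ⟨PullbackCone.IsLimit.mk _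
    (fun s => lift (key s.pt s.fst s.snd s.condition).choose s.snd) ?_ ?_ ?_⟩⟩
  · -- commutativity
    have : lift (fst N G ≫ i) (snd N G) ≫ μ[G] = (fst N G ≫ i) * snd N G := rfl
    rw [this, MonObj.mul_comp, Category.assoc, hw, MonObj.comp_one, _root_.one_mul]
  · intro s
    rw [hm, (key s.pt s.fst s.snd s.condition).choose_spec.1, inv_mul_cancel_right]
  · intro s
    exact lift_snd _ _
  · intro s m h1 h2
    have e : m = lift (m ≫ fst N G) (m ≫ snd N G) := by
      apply CartesianMonoidalCategory.hom_ext <;> simp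
    rw [e, hm] at h1
    rw [e]
    congr 1
    · apply (key s.pt s.fst s.snd s.condition).choose_spec.2
      rw [← h1, ← h2, mul_inv_cancel_right]

end kp


set_option backward.isDefEq.respectTransparency.types false in
theorem exists_cover_of_mem_fppf {Y : Scheme.{u}} (R : Sieve Y) (h : R ∈ Scheme.fppfTopology Y) :
    ∃ 𝒰 : Scheme.Cover.{u} (Scheme.precoverage (@Flat ⊓ @LocallyOfFinitePresentation)) Y,
      Presieve.ofArrows 𝒰.X 𝒰.f ≤ R.arrows := by
  have h' : R ∈ Scheme.grothendieckTopology (@Flat ⊓ @LocallyOfFinitePresentation) Y := h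
  have : (@Flat ⊓ @LocallyOfFinitePresentation : MorphismProperty Scheme.{u}).IsMultiplicative :=
    { id_mem := fun X => ⟨inferInstance, inferInstance⟩
      comp_mem := fun f g hf hg => by
        have := hf.1; have := hf.2; have := hg.1; have := hg.2
        exact ⟨inferInstance, inferInstance⟩ }
  exact Scheme.mem_grothendieckTopology_iff.mp h'

theorem main17794 {S : Scheme.{u}} {G H N : Over S} [GrpObj G] [GrpObj H] (f : G ⟶ H) [IsMonHom f]
    [LocallyOfFinitePresentation G.hom] [QuasiCompact G.hom] [QuasiSeparated G.hom]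
    [LocallyOfFinitePresentation H.hom] [QuasiCompact H.hom] [QuasiSeparated H.hom]
    (i : N ⟶ G) (hi : AlgGrp.IsKernel i f) :
    (Flat f.left ∧ Surjective f.left) ↔
      (Epi (QuotSh.repMap Scheme.fppfPrecoverage f) ∧ Flat N.hom) := by
  rw [EpiRep.epi_repMap_iff_generate]
  constructor
  · rintro ⟨hfl, hsurj⟩
    constructor
    · have hlfp : LocallyOfFinitePresentation f.left := by
        apply CentralizerClosed.lfp_of_comp f.left H.hom
        · rw [Over.w f]; infer_instance
        · infer_instance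
      exact Precoverage.generate_mem_toGrothendieck
        (Scheme.Hom.singleton_mem_fppfPrecoverage f.left)
    · have sq := hi.map (Over.forget S)
      have h1 : Flat (toUnit N).left := MorphismProperty.of_isPullback (P := @Flat) sq hfl
      exact h1
  · rintro ⟨hcov, hN⟩
    obtain ⟨𝒰, h𝒰⟩ := exists_cover_of_mem_fppf _ hcov
    have hlift : ∀ j : 𝒰.I₀, ∃ t : 𝒰.X j ⟶ G.left, t ≫ f.left = 𝒰.f j := by
      intro j
      obtain ⟨_, t, _, ⟨⟩, ht⟩ := h𝒰 _ _ (Presieve.ofArrows.mk j)
      exact ⟨t, ht⟩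
    have hflat𝒰 : ∀ j, Flat (𝒰.f j) := fun j => (𝒰.map_prop j).1
    -- base change of f along f is flat
    have hKP := (isPullback_kernelPair f i hi).map (Over.forget S)
    have hsnd : Flat (snd N G).left := by
      rw [Over.snd_left]
      infer_instance
    -- base change of f along 𝒰.f j is flat
    have hbc : ∀ j, Flat (pullback.snd f.left (𝒰.f j)) := by
      intro j
      obtain ⟨t, ht⟩ := hlift j
      have hc : pullback.fst f.left (𝒰.f j) ≫ f.left =
          (pullback.snd f.left (𝒰.f j) ≫ t) ≫ f.left := by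
        rw [Category.assoc, ht, pullback.condition]
      let a := hKP.lift (pullback.fst f.left (𝒰.f j)) (pullback.snd f.left (𝒰.f j) ≫ t) hc
      have ha1 : a ≫ _ = pullback.fst f.left (𝒰.f j) := hKP.lift_fst _ _ hc
      have ha2 : a ≫ _ = pullback.snd f.left (𝒰.f j) ≫ t := hKP.lift_snd _ _ hc
      have big : IsPullback (a ≫ (Over.forget S).map (lift (fst N G ≫ i) (snd N G) ≫ μ[G]))
          (pullback.snd f.left (𝒰.f j)) ((Over.forget S).map f) (t ≫ (Over.forget S).map f) := by
        have e1 : a ≫ (Over.forget S).map (lift (fst N G ≫ i) (snd N G) ≫ μ[G]) =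
            pullback.fst f.left (𝒰.f j) := ha1
        have e2 : t ≫ (Over.forget S).map f = 𝒰.f j := ht
        rw [e1, e2]
        exact IsPullback.of_hasPullback f.left (𝒰.f j)
      have left := IsPullback.of_right big ha2 hKP
      exact MorphismProperty.of_isPullback (P := @Flat) left hsnd
    constructor
    · apply FlatEpi.flat_of_forall_exists
      intro x
      obtain ⟨j, y', hy'⟩ := 𝒰.exists_eq (f.left x)
      obtain ⟨z, hz1, hz2⟩ := Scheme.Pullback.exists_preimage_pullback x y' hy'.symm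
      refine ⟨pullback f.left (𝒰.f j), pullback.fst _ _, z, hz1, inferInstance, ?_⟩
      rw [pullback.condition]
      infer_instance
    · constructor
      intro y
      obtain ⟨j, y', hy'⟩ := 𝒰.exists_eq y
      obtain ⟨t, ht⟩ := hlift j
      refine ⟨t y', ?_⟩
      rw [← Scheme.Hom.comp_apply, ht, hy']

end Groth.Agent.Lib.Helper4.FlatEpi
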