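import Mathlib.Tactic
import Mathlib.AlgebraicGeometry.Cover.Sigma
import Mathlib.AlgebraicGeometry.Sites.Etale
import Mathlib.AlgebraicGeometry.Morphisms.LocalFlatDescent
import Groth.Agent.Lib.Helper4.QuotFlat
import Groth.Agent.Lib.Helper4.FlatEpi

set_option autoImplicit false
universe u
open CategoryTheory AlgebraicGeometry Limits Opposite

namespace Groth.Agent.Lib.Helper4.CoverDesc

set_option backward.isDefEq.respectTransparency.types false in
/-- descent of a property of `q` along a cover over which `q` has a section, using the kernel pair -/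
theorem prop_of_cover {P : MorphismProperty Scheme.{u}} [P.IsStableUnderBaseChange]
    [P.DescendsAlong (@Surjective ⊓ @Flat ⊓ @LocallyOfFinitePresentation)]
    {U Y R : Scheme.{u}} (q : U ⟶ Y) (s t : R ⟶ U) (hKP : IsPullback t s q q) (hs : P s)
    {V : Scheme.{u}} (g : V ⟶ Y) [Surjective g] [Flat g] [LocallyOfFinitePresentation g]
    (σ : V ⟶ U) (hσ : σ ≫ q = g) : P q := by
  have hc : pullback.fst q g ≫ q = (pullback.snd q g ≫ σ) ≫ q := by
    rw [Category.assoc, hσ, pullback.condition]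
  let a := hKP.lift (pullback.fst q g) (pullback.snd q g ≫ σ) hc
  have ha1 : a ≫ t = pullback.fst q g := hKP.lift_fst _ _ hc
  have ha2 : a ≫ s = pullback.snd q g ≫ σ := hKP.lift_snd _ _ hc
  have big : IsPullback (a ≫ t) (pullback.snd q g) q (σ ≫ q) := by
    rw [ha1, hσ]
    exact IsPullback.of_hasPullback q g
  have left := IsPullback.of_right big ha2 hKP
  have h1 : P (pullback.snd q g) := MorphismProperty.of_isPullback left hs
  exact MorphismProperty.DescendsAlong.of_isPullback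
    (Q := @Surjective ⊓ @Flat ⊓ @LocallyOfFinitePresentation)
    (IsPullback.of_hasPullback q g).flip ⟨⟨inferInstance, inferInstance⟩, inferInstance⟩ h1


theorem exists_section_of_cover {P : MorphismProperty Scheme.{u}} [IsZariskiLocalAtSource P]
    {U Y : Scheme.{u}} (q : U ⟶ Y) (𝒰 : Scheme.Cover.{u} (Scheme.precoverage P) Y)
    (h𝒰 : Presieve.ofArrows 𝒰.X 𝒰.f ≤ (Sieve.generate (Presieve.singleton q)).arrows) :
    ∃ (V : Scheme.{u}) (g : V ⟶ Y) (σ : V ⟶ U), Surjective g ∧ P g ∧ σ ≫ q = g := by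
  have hlift : ∀ j : 𝒰.I₀, ∃ t : 𝒰.X j ⟶ U, t ≫ q = 𝒰.f j := by
    intro j
    obtain ⟨_, t, _, ⟨⟩, ht⟩ := h𝒰 _ _ (Presieve.ofArrows.mk j)
    exact ⟨t, ht⟩
  choose σj hσj using hlift
  refine ⟨∐ 𝒰.X, Sigma.desc 𝒰.f, Sigma.desc σj, ?_, ?_, ?_⟩
  · constructor
    intro y
    obtain ⟨i, x, rfl⟩ := 𝒰.exists_eq y
    refine ⟨Sigma.ι 𝒰.X i x, ?_⟩
    rw [← Scheme.Hom.comp_apply, Sigma.ι_desc]
  · exact IsZariskiLocalAtSource.sigmaDesc 𝒰.map_prop
  · apply Sigma.hom_ext
    intro j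
    rw [Sigma.ι_desc_assoc, Sigma.ι_desc, hσj]

set_option backward.isDefEq.respectTransparency.types false in
theorem exists_fppf_section {U Y : Scheme.{u}} (q : U ⟶ Y)
    (h : Sieve.generate (Presieve.singleton q) ∈ Scheme.fppfTopology Y) :
    ∃ (V : Scheme.{u}) (g : V ⟶ Y) (σ : V ⟶ U),
      Surjective g ∧ Flat g ∧ LocallyOfFinitePresentation g ∧ σ ≫ q = g := by
  obtain ⟨𝒰, h𝒰⟩ := FlatEpi.exists_cover_of_mem_fppf _ h
  obtain ⟨V, g, σ, h1, h2, h3⟩ := exists_section_of_cover q 𝒰 h𝒰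
  exact ⟨V, g, σ, h1, h2.1, h2.2, h3⟩

theorem exists_etale_section {U Y : Scheme.{u}} (q : U ⟶ Y)
    (h : Sieve.generate (Presieve.singleton q) ∈ Scheme.etaleTopology Y) :
    ∃ (V : Scheme.{u}) (g : V ⟶ Y) (σ : V ⟶ U), Surjective g ∧ Etale g ∧ σ ≫ q = g := by
  have h' : Sieve.generate (Presieve.singleton q) ∈ Scheme.grothendieckTopology @Etale Y := h
  obtain ⟨𝒰, h𝒰⟩ := Scheme.mem_grothendieckTopology_iff.mp h'
  have : IsZariskiLocalAtSource @Etale.{u} := HasRingHomProperty.instIsZariskiLocalAtSource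
  exact exists_section_of_cover q 𝒰 h𝒰

end Groth.Agent.Lib.Helper4.CoverDesc
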