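import Mathlib.Tactic
import Mathlib.CategoryTheory.Sites.EpiMono
import Mathlib.AlgebraicGeometry.Sites.Fpqc
import Groth.Prelude.Def_CGrpSh

set_option autoImplicit false
universe u
open CategoryTheory MonoidalCategory CartesianMonoidalCategory MonObj AlgebraicGeometry Limits Opposite

namespace Groth.Agent.Lib.Helper4.CGrpEpi

variable {S : Scheme.{u}} (K : Precoverage Scheme.{u}) [(QuotSh.J K S).Subcanonical]
  {G H : Over S} [GrpObj G] [IsCommMonObj G] [GrpObj H] [IsCommMonObj H] (p : G ⟶ H) [IsMonHom p]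

theorem mem_imageSieve_iff {T T' : Over S} (s : (CGrpSh.pts K H).obj.obj (op T)) (v : T' ⟶ T) :
    (Presheaf.imageSieve (CGrpSh.ptsMap K p).hom (U := T) s).arrows v ↔
      ∃ y : T' ⟶ G, y ≫ p = v ≫ s.down.toMul := by
  constructor
  · rintro ⟨t, ht⟩
    refine ⟨t.down.toMul, ?_⟩
    have := congrArg (fun z => z.down.toMul) ht
    exact this
  · rintro ⟨y, hy⟩
    refine ⟨ULift.up (Additive.ofMul y), ?_⟩
    apply ULift.ext
    exact congrArg Additive.ofMul hy

theorem epi_ptsMap_iff_generate :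
    Epi (CGrpSh.ptsMap K p) ↔
      Sieve.generate (Presieve.singleton p.left) ∈ K.toGrothendieck H.left := by
  rw [← Sheaf.isLocallySurjective_iff_epi' AddCommGrpCat.{u + 1}]
  constructor
  · intro h
    have h1 := h.imageSieve_mem (U := H)
      (show (CGrpSh.pts K H).obj.obj (op H) from ULift.up (Additive.ofMul (𝟙 H)))
    rw [GrothendieckTopology.mem_over_iff] at h1
    refine K.toGrothendieck.superset_covering ?_ h1
    intro Z v hv
    rw [Sieve.overEquiv_iff, mem_imageSieve_iff] at hv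
    obtain ⟨y, hy⟩ := hv
    refine ⟨G.left, y.left, p.left, ⟨⟩, ?_⟩
    have := congrArg CommaMorphism.left hy
    simpa using this
  · intro h
    refine ⟨fun {T} s => ?_⟩
    have hx : ∃ x : T ⟶ H, x = s.down.toMul := ⟨_, rfl⟩
    obtain ⟨x, hx⟩ := hx
    rw [GrothendieckTopology.mem_over_iff]
    have h1 := K.toGrothendieck.pullback_stable x.left h
    refine K.toGrothendieck.superset_covering ?_ h1
    intro Z v hv
    rw [Sieve.pullback_apply] at hv
    obtain ⟨_, t, _, ⟨⟩, ht⟩ := hv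
    rw [Sieve.overEquiv_iff, mem_imageSieve_iff]
    refine ⟨Over.homMk t ?_, ?_⟩
    · show t ≫ G.hom = v ≫ T.hom
      rw [← Over.w p, ← Category.assoc, ht, Category.assoc, Over.w x]
    · ext
      rw [← hx]
      exact ht


omit [(QuotSh.J K S).Subcanonical] in
theorem surjective_of_generate_mem_fpqc {X Y : Scheme.{u}} (p : X ⟶ Y)
    (h : Sieve.generate (Presieve.singleton p) ∈ Scheme.fpqcTopology Y) : Surjective p := by
  obtain ⟨R, hR, hle⟩ := (Precoverage.mem_toGrothendieck_iff_of_isStableUnderComposition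
    (J := Scheme.fpqcPrecoverage)).mp h
  have hR' : R ∈ Scheme.precoverage @Flat Y := Scheme.propQCPrecoverage_le_precoverage _ hR
  have hjs := hR'.1
  rw [Scheme.jointlySurjectivePrecoverage, Presieve.mem_comap_jointlySurjectivePrecoverage_iff] at hjs
  constructor
  intro y
  obtain ⟨Z, g, hg, z, hz⟩ := hjs y
  obtain ⟨_, t, _, ⟨⟩, ht⟩ := hle _ _ hg
  refine ⟨t z, ?_⟩
  rw [← Scheme.Hom.comp_apply, ht]
  exact hz

theorem main12378 {S : Scheme.{u}}
    (G H : Over S) [GrpObj G] [IsCommMonObj G] [GrpObj H] [IsCommMonObj H]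
    (p : G ⟶ H) [IsMonHom p]
    (hepi : Epi (CGrpSh.ptsMap Scheme.fpqcPrecoverage p)) : Surjective p.left :=
  surjective_of_generate_mem_fpqc p.left ((epi_ptsMap_iff_generate _ p).mp hepi)

end Groth.Agent.Lib.Helper4.CGrpEpi
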