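import Mathlib.Tactic
import Mathlib.Algebra.Category.Grp.Kernels
import Mathlib.Algebra.Homology.ShortComplex.Exact
import Groth.Prelude.Def_CGrpSh
import Groth.Agent.Lib.Helper4.CGrpEpi

set_option autoImplicit false
universe w u
open CategoryTheory MonoidalCategory CartesianMonoidalCategory MonObj AlgebraicGeometry Limits Opposite

namespace Groth.Agent.Lib.Helper4.ExactLift

theorem exists_kernel_elt {A B : AddCommGrpCat.{w}} (φ : A ⟶ B) (c : KernelFork φ) (hc : IsLimit c)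
    (a : A) (ha : φ.hom a = 0) : ∃ z : c.pt, c.ι.hom z = a := by
  let e := IsLimit.conePointUniqueUpToIso (AddCommGrpCat.kernelIsLimit φ) hc
  have h1 : e.hom ≫ c.ι = (AddCommGrpCat.kernelCone φ).ι :=
    IsLimit.conePointUniqueUpToIso_hom_comp _ _ WalkingParallelPair.zero
  refine ⟨e.hom.hom ⟨a, ha⟩, ?_⟩
  have h2 := congrArg (fun ψ => ψ.hom ⟨a, ha⟩) h1
  exact h2

variable {S : Scheme.{u}} (K : Precoverage Scheme.{u})

/-- exactness of a short complex of abelian sheaves on the big site, on sections: a section killed by `g`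
lifts locally along `f`. -/
theorem imageSieve_mem (𝒮 : ShortComplex (BigSite.Ab K S)) (h : 𝒮.Exact) (T : (Over S)ᵒᵖ)
    (x : 𝒮.X₂.obj.obj T) (hx : (𝒮.g.hom.app T).hom x = 0) :
    Presheaf.imageSieve 𝒮.f.hom x ∈ QuotSh.J K S T.unop := by
  have hepi := h.epi_toCycles
  rw [← Sheaf.isLocallySurjective_iff_epi' AddCommGrpCat.{u+1}] at hepi
  let Φ : BigSite.Ab K S ⥤ AddCommGrpCat.{u+1} :=
    sheafToPresheaf _ _ ⋙ (evaluation _ _).obj T
  have hlim := KernelFork.mapIsLimit _ 𝒮.cyclesIsKernel Φ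
  obtain ⟨z, hz⟩ := exists_kernel_elt (Φ.map 𝒮.g) _ hlim x hx
  have hz' : (𝒮.iCycles.hom.app T).hom z = x := hz
  obtain ⟨z', hzz⟩ : ∃ z' : 𝒮.cycles.obj.obj T, z' = z := ⟨z, rfl⟩
  rw [← hzz] at hz'
  have := hepi.imageSieve_mem z'
  refine (QuotSh.J K S).superset_covering ?_ this
  rintro T' v ⟨t, ht⟩
  refine ⟨t, ?_⟩
  have h1 : 𝒮.f.hom.app (op T') = 𝒮.toCycles.hom.app (op T') ≫ 𝒮.iCycles.hom.app (op T') := by
    rw [← NatTrans.comp_app, ← ObjectProperty.FullSubcategory.comp_hom, 𝒮.toCycles_i]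
  have h2 := congrArg (fun ψ => ψ.hom z') (𝒮.iCycles.hom.naturality v.op)
  simp only [AddCommGrpCat.hom_comp] at h2
  have h3 : (𝒮.iCycles.hom.app (op T')).hom ((𝒮.cycles.obj.map v.op).hom z') =
    (𝒮.X₂.obj.map v.op).hom ((𝒮.iCycles.hom.app T).hom z') := h2
  rw [hz'] at h3
  rw [h1]
  show (𝒮.iCycles.hom.app (op T')).hom ((𝒮.toCycles.hom.app (op T')).hom t) = _
  have ht' : (𝒮.toCycles.hom.app (op T')).hom t = (𝒮.cycles.obj.map v.op).hom z' := ht
  rw [ht']
  exact h3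

variable [(QuotSh.J K S).Subcanonical]
  {F G H : Over S} [GrpObj F] [IsCommMonObj F] [GrpObj G] [IsCommMonObj G] [GrpObj H] [IsCommMonObj H]
  (f : F ⟶ G) (p : G ⟶ H) [IsMonHom f] [IsMonHom p] (w : f ≫ p = 1)

/-- a point of `G` killed by `p` lifts to `F` on a covering sieve, when `F → G → H` is exact as sheaves -/
theorem exists_sieve_lift (hex : (CGrpSh.seq K f p w).Exact) {T : Over S} (x : T ⟶ G)
    (hx : x ≫ p = 1) :
    ∃ R : Sieve T, R ∈ QuotSh.J K S T ∧
      ∀ ⦃T' : Over S⦄ (v : T' ⟶ T), R v → ∃ y : T' ⟶ F, y ≫ f = v ≫ x := by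
  have h1 := imageSieve_mem K (CGrpSh.seq K f p w) hex (op T)
    (show (CGrpSh.pts K G).obj.obj (op T) from ULift.up (Additive.ofMul x)) (by
      apply ULift.ext
      show Additive.ofMul (x ≫ p) = 0
      rw [hx]; rfl)
  refine ⟨_, h1, ?_⟩
  intro T' v hv
  exact (CGrpEpi.mem_imageSieve_iff K f _ v).mp hv

/-- morphisms into a representable agree if they agree on a covering sieve -/
theorem ext_of_mem {T N : Over S} (R : Sieve T) (hR : R ∈ QuotSh.J K S T) (a b : T ⟶ N)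
    (h : ∀ ⦃T' : Over S⦄ (v : T' ⟶ T), R v → v ≫ a = v ≫ b) : a = b := by
  have hs := GrothendieckTopology.Subcanonical.isSheaf_of_isRepresentable (J := QuotSh.J K S)
    (yoneda.obj N)
  exact (hs R hR).isSeparatedFor.ext (fun T' v hv => h v hv)

end Groth.Agent.Lib.Helper4.ExactLift
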