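import Mathlib.Tactic
import Mathlib.CategoryTheory.Sites.RegularEpi
import Mathlib.CategoryTheory.Sites.LeftExact
import Mathlib.CategoryTheory.Limits.Preserves.Ulift
import Mathlib.CategoryTheory.Limits.Yoneda
import Groth.Prelude.Def_QuotSh

set_option autoImplicit false
universe u
open CategoryTheory AlgebraicGeometry Limits

namespace Groth.Agent.Lib.Helper4.QuotEpi

variable {S : Scheme.{u}} (K : Precoverage Scheme.{u})

/-- `rep` as a functor -/
noncomputable def repF : Over S ⥤ QuotSh.Sh K S :=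
  yoneda ⋙ (Functor.whiskeringRight _ _ _).obj uliftFunctor.{u + 1, u} ⋙
    presheafToSheaf (QuotSh.J K S) (Type (u + 1))

theorem repF_map {V W : Over S} (g : V ⟶ W) : (repF K).map g = QuotSh.repMap K g := rfl

noncomputable instance : PreservesFiniteLimits (repF (S := S) K) := by
  unfold repF
  infer_instance

theorem isPullback_rep {P X Y Z : Over S} {a : P ⟶ X} {b : P ⟶ Y} {f : X ⟶ Z} {g : Y ⟶ Z}
    (h : IsPullback a b f g) :
    IsPullback (QuotSh.repMap K a) (QuotSh.repMap K b) (QuotSh.repMap K f) (QuotSh.repMap K g) :=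
  h.map (repF K)

theorem repMap_comp {V W X : Over S} (g : V ⟶ W) (g' : W ⟶ X) :
    QuotSh.repMap K (g ≫ g') = QuotSh.repMap K g ≫ QuotSh.repMap K g' :=
  (repF K).map_comp g g'


/-- general: in a regular epi category, if `q` is epi with kernel pair `(a, b)` and `e : R ⟶ P` is epi
with `e ≫ a = t`, `e ≫ b = s`, then `q` is a coequalizer of `(s, t)`. -/
noncomputable def isColimit_of_epi {𝒞 : Type*} [Category 𝒞] [IsRegularEpiCategory 𝒞]
    {R P U M : 𝒞} (s t : R ⟶ U) (q : U ⟶ M) (a b : P ⟶ U) (e : R ⟶ P)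
    (hpb : IsPullback a b q q) [Epi q] [Epi e] (ha : e ≫ a = t) (hb : e ≫ b = s)
    (w : s ≫ q = t ≫ q) : IsColimit (Cofork.ofπ q w) := by
  have hreg : IsRegularEpi q := IsRegularEpiCategory.regularEpiOfEpi q
  have hee : EffectiveEpi q := inferInstance
  refine Cofork.IsColimit.mk' _ (fun c => ?_)
  have hc : a ≫ c.π = b ≫ c.π := by
    rw [← cancel_epi e, ← Category.assoc, ← Category.assoc, ha, hb]
    exact c.condition.symm
  have hd : ∀ {Z : 𝒞} (g₁ g₂ : Z ⟶ U), g₁ ≫ q = g₂ ≫ q → g₁ ≫ c.π = g₂ ≫ c.π := by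
    intro Z g₁ g₂ hg
    rw [← hpb.lift_fst g₁ g₂ hg, Category.assoc, hc, ← Category.assoc, hpb.lift_snd]
  refine ⟨EffectiveEpi.desc q c.π hd, EffectiveEpi.fac q c.π hd, ?_⟩
  intro m hm
  rw [← cancel_epi q]
  exact hm.trans (EffectiveEpi.fac q c.π hd).symm

theorem isIso_quotDesc {R U M P : Over S} (s t : R ⟶ U) (q : U ⟶ M) (w : s ≫ q = t ≫ q)
    (a b : P ⟶ U) (e : R ⟶ P) (hpb : IsPullback a b q q) (ha : e ≫ a = t) (hb : e ≫ b = s)
    (h₂ : Epi (QuotSh.repMap K q)) (h₃ : Epi (QuotSh.repMap K e)) :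
    IsIso (QuotSh.quotDesc K q w) := by
  have w' : QuotSh.repMap K s ≫ QuotSh.repMap K q = QuotSh.repMap K t ≫ QuotSh.repMap K q := by
    rw [← repMap_comp, ← repMap_comp, w]
  have hcol := isColimit_of_epi (QuotSh.repMap K s) (QuotSh.repMap K t) (QuotSh.repMap K q)
    (QuotSh.repMap K a) (QuotSh.repMap K b) (QuotSh.repMap K e) (isPullback_rep K hpb)
    (by rw [← repMap_comp, ha]) (by rw [← repMap_comp, hb]) w'
  have : QuotSh.quotDesc K q w =
      (IsColimit.coconePointUniqueUpToIso (colimit.isColimit _) hcol).hom := by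
    apply coequalizer.hom_ext
    unfold QuotSh.quotDesc
    rw [coequalizer.π_desc]
    exact (IsColimit.comp_coconePointUniqueUpToIso_hom (colimit.isColimit _) hcol
      WalkingParallelPair.one).symm
  rw [this]
  exact Iso.isIso_hom _


theorem main7490 {R U M : Over S} (s t : R ⟶ U) (q : U ⟶ M) (w : s ≫ q = t ≫ q)
    (w' : t.left ≫ q.left = s.left ≫ q.left) (h₂ : Epi (QuotSh.repMap K q))
    (h₃ : Epi (QuotSh.repMap K (Over.homMk (pullback.lift t.left s.left w')
      (((Category.assoc _ _ _).symm.trans (congrArg (fun k => k ≫ U.hom)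
        (pullback.lift_fst t.left s.left w'))).trans (Over.w t)) :
        R ⟶ Over.mk (pullback.fst q.left q.left ≫ U.hom)))) :
    QuotSh.IsQuotient K s t q := by
  refine ⟨w, ?_⟩
  let P : Over S := Over.mk (pullback.fst q.left q.left ≫ U.hom)
  let a : P ⟶ U := Over.homMk (pullback.fst q.left q.left) rfl
  let b : P ⟶ U := Over.homMk (pullback.snd q.left q.left) (by
    show pullback.snd q.left q.left ≫ U.hom = pullback.fst q.left q.left ≫ U.hom
    rw [← Over.w q, pullback.condition_assoc])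
  have hpb : IsPullback a b q q := by
    refine IsPullback.of_map (Over.forget _) ?_ ?_
    · apply Over.OverMorphism.ext
      exact pullback.condition
    · exact IsPullback.of_hasPullback q.left q.left
  refine isIso_quotDesc K s t q w a b _ hpb ?_ ?_ h₂ h₃
  · apply Over.OverMorphism.ext
    exact pullback.lift_fst _ _ _
  · apply Over.OverMorphism.ext
    exact pullback.lift_snd _ _ _

end Groth.Agent.Lib.Helper4.QuotEpi
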