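import Mathlib.Tactic
import Mathlib.CategoryTheory.EquivalenceRelation
import Mathlib.CategoryTheory.Sites.LocallyBijective
import Mathlib.CategoryTheory.Sites.Subcanonical
import Groth.Prelude.Def_QuotSh
import Groth.Agent.Lib.Helper4.QuotEpi
import Groth.Agent.Lib.Helper4.EpiRep

set_option autoImplicit false
universe u
open CategoryTheory AlgebraicGeometry Limits Opposite

namespace Groth.Agent.Lib.Helper4.QuotEff

variable {S : Scheme.{u}} (K : Precoverage Scheme.{u})

/-- lifted representable presheaf -/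
abbrev yo (V : Over S) : (Over S)ᵒᵖ ⥤ Type (u + 1) := yoneda.obj V ⋙ uliftFunctor.{u + 1, u}

abbrev yoMap {V W : Over S} (g : V ⟶ W) : yo V ⟶ yo W :=
  Functor.whiskerRight (yoneda.map g) uliftFunctor.{u + 1, u}

theorem yoMap_comp {V W X : Over S} (g : V ⟶ W) (g' : W ⟶ X) :
    yoMap (g ≫ g') = yoMap g ≫ yoMap g' := by
  unfold yoMap
  rw [yoneda.map_comp, Functor.whiskerRight_comp]

variable {R U Y : Over S} (s t : R ⟶ U) (q : U ⟶ Y) (w : s ≫ q = t ≫ q)

/-- presheaf coequalizer -/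
noncomputable def P : (Over S)ᵒᵖ ⥤ Type (u + 1) := coequalizer (yoMap s) (yoMap t)

noncomputable def πP : yo U ⟶ P s t := coequalizer.π _ _

theorem πP_condition : yoMap s ≫ πP s t = yoMap t ≫ πP s t := coequalizer.condition _ _

noncomputable def ψ : P s t ⟶ yo Y :=
  coequalizer.desc (yoMap q) (by rw [← yoMap_comp, ← yoMap_comp, w])

theorem πP_ψ : πP s t ≫ ψ s t q w = yoMap q := coequalizer.π_desc _ _

/-- sheafified coequalizer -/
noncomputable def isColimitA : IsColimit (Cofork.ofπ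
    ((presheafToSheaf (QuotSh.J K S) (Type (u + 1))).map (πP s t))
    (by rw [← Functor.map_comp, ← Functor.map_comp, πP_condition]) :
    Cofork (QuotSh.repMap K s) (QuotSh.repMap K t)) :=
  isColimitCoforkMapOfIsColimit (presheafToSheaf (QuotSh.J K S) (Type (u + 1))) _
    (coequalizerIsCoequalizer (yoMap s) (yoMap t))

noncomputable def φ : QuotSh.quot K s t ≅ (presheafToSheaf (QuotSh.J K S) (Type (u + 1))).obj (P s t) :=
  IsColimit.coconePointUniqueUpToIso (colimit.isColimit _) (isColimitA K s t)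

theorem map_πP_φ_inv : (presheafToSheaf (QuotSh.J K S) (Type (u + 1))).map (πP s t) ≫ (φ K s t).inv =
    QuotSh.quotπ K s t :=
  IsColimit.comp_coconePointUniqueUpToIso_inv (colimit.isColimit _) (isColimitA K s t)
    WalkingParallelPair.one

theorem isIso_map_ψ (h : IsIso (QuotSh.quotDesc K q w)) :
    IsIso ((presheafToSheaf (QuotSh.J K S) (Type (u + 1))).map (ψ s t q w)) := by
  have h1 : (presheafToSheaf (QuotSh.J K S) (Type (u + 1))).map (ψ s t q w) =
      (φ K s t).inv ≫ QuotSh.quotDesc K q w := by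
    apply Cofork.IsColimit.hom_ext (isColimitA K s t)
    show (presheafToSheaf (QuotSh.J K S) (Type (u + 1))).map (πP s t) ≫ _ =
      (presheafToSheaf (QuotSh.J K S) (Type (u + 1))).map (πP s t) ≫ _
    rw [← Category.assoc, map_πP_φ_inv, ← Functor.map_comp, πP_ψ]
    exact (coequalizer.π_desc (f := QuotSh.repMap K s) (g := QuotSh.repMap K t)
      (QuotSh.repMap K q) _).symm
  rw [h1]
  infer_instance


theorem isLocallyInjective_ψ (h : IsIso (QuotSh.quotDesc K q w)) :
    Presheaf.IsLocallyInjective (QuotSh.J K S) (ψ s t q w) := by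
  have := isIso_map_ψ K s t q w h
  rw [← Presheaf.isLocallyInjective_presheafToSheaf_map_iff]
  infer_instance

theorem rel_of_coeq_eq {A B : Type (u + 1)} (f g : A ⟶ B) (c : Cofork f g) (hc : IsColimit c)
    (ρ : Setoid B) (hρ : ∀ a, ρ.r (f a) (g a)) (x y : B) (h : c.π x = c.π y) : ρ.r x y := by
  let m : B ⟶ Quotient ρ := ↾(Quotient.mk ρ)
  have hm : f ≫ m = g ≫ m := by
    ext a
    exact Quotient.sound (hρ a)
  obtain ⟨d, hd⟩ := Cofork.IsColimit.desc' hc m hm
  have h1 : m x = m y := by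
    rw [← hd]
    show d (c.π x) = d (c.π y)
    rw [h]
  exact Quotient.exact h1

noncomputable def isColimitEval (T : (Over S)ᵒᵖ) : IsColimit (Cofork.ofπ ((πP s t).app T)
    (by rw [← NatTrans.comp_app, ← NatTrans.comp_app, πP_condition]) :
    Cofork ((yoMap s).app T) ((yoMap t).app T)) :=
  isColimitCoforkMapOfIsColimit ((evaluation _ _).obj T) _
    (coequalizerIsCoequalizer (yoMap s) (yoMap t))

/-- the relation on `T`-points induced by an internal equivalence relation -/
def relSetoid (e : EquivalenceRelation s t) (T : Over S) : Setoid ((yo U).obj (op T)) where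
  r x y := ∃ r : T ⟶ R, r ≫ s = x.down ∧ r ≫ t = y.down
  iseqv :=
    { refl := fun x => ⟨x.down ≫ e.r, by rw [Category.assoc, e.reflexivity₁, Category.comp_id],
        by rw [Category.assoc, e.reflexivity₂, Category.comp_id]⟩
      symm := fun {x y} ⟨r, h1, h2⟩ => ⟨r ≫ e.s, by rw [Category.assoc, e.symmetry₁, h2],
        by rw [Category.assoc, e.symmetry₂, h1]⟩
      trans := fun {x y z} ⟨r₁, h1, h2⟩ ⟨r₂, h3, h4⟩ => by
        let l := PullbackCone.IsLimit.lift e.isLimit r₁ r₂ (by rw [h2, h3])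
        have hl1 : l ≫ e.c.fst = r₁ := PullbackCone.IsLimit.lift_fst _ _ _ _
        have hl2 : l ≫ e.c.snd = r₂ := PullbackCone.IsLimit.lift_snd _ _ _ _
        refine ⟨l ≫ e.t, ?_, ?_⟩
        · rw [Category.assoc, e.transitivity₁, ← Category.assoc, hl1, h1]
        · rw [Category.assoc, e.transitivity₂, ← Category.assoc, hl2, h4] }

theorem exists_of_πP_eq (e : EquivalenceRelation s t) (T : Over S) (a b : T ⟶ U)
    (h : (πP s t).app (op T) (ULift.up a) = (πP s t).app (op T) (ULift.up b)) :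
    ∃ r : T ⟶ R, r ≫ s = a ∧ r ≫ t = b :=
  rel_of_coeq_eq _ _ _ (isColimitEval s t (op T)) (relSetoid s t e T)
    (fun r => ⟨r.down, rfl, rfl⟩) (ULift.up a) (ULift.up b) h


theorem exists_sieve_rel (e : EquivalenceRelation s t) (h : IsIso (QuotSh.quotDesc K q w))
    (T : Over S) (a b : T ⟶ U) (hab : a ≫ q = b ≫ q) :
    ∃ 𝒮 : Sieve T, 𝒮 ∈ QuotSh.J K S T ∧
      ∀ ⦃T' : Over S⦄ (f : T' ⟶ T), 𝒮 f → ∃ r : T' ⟶ R, r ≫ s = f ≫ a ∧ r ≫ t = f ≫ b := by
  have hinj := isLocallyInjective_ψ K s t q w h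
  let x := (πP s t).app (op T) (ULift.up a)
  let y := (πP s t).app (op T) (ULift.up b)
  have hxy : (ψ s t q w).app (op T) x = (ψ s t q w).app (op T) y := by
    have h1 : ∀ c : T ⟶ U, (ψ s t q w).app (op T) ((πP s t).app (op T) (ULift.up c)) =
        ULift.up (c ≫ q) := by
      intro c
      have := congrArg (fun φ => φ.app (op T) (ULift.up c)) (πP_ψ s t q w)
      exact this
    show (ψ s t q w).app (op T) ((πP s t).app (op T) (ULift.up a)) =
      (ψ s t q w).app (op T) ((πP s t).app (op T) (ULift.up b))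
    rw [h1, h1, hab]
  refine ⟨_, Presheaf.equalizerSieve_mem (QuotSh.J K S) (ψ s t q w) x y hxy, ?_⟩
  intro T' f hf
  apply exists_of_πP_eq s t e T' (f ≫ a) (f ≫ b)
  have hn : ∀ c : T ⟶ U, (P s t).map f.op ((πP s t).app (op T) (ULift.up c)) =
      (πP s t).app (op T') (ULift.up (f ≫ c)) := by
    intro c
    have := congrArg (fun φ => φ (ULift.up c)) ((πP s t).naturality f.op)
    exact this.symm
  rw [← hn, ← hn]
  exact hf

variable [(QuotSh.J K S).Subcanonical]

theorem exists_rel (e : EquivalenceRelation s t) (h : IsIso (QuotSh.quotDesc K q w))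
    (T : Over S) (a b : T ⟶ U) (hab : a ≫ q = b ≫ q) :
    ∃ r : T ⟶ R, r ≫ s = a ∧ r ≫ t = b := by
  obtain ⟨𝒮, h𝒮, hr⟩ := exists_sieve_rel K s t q w e h T a b hab
  choose rf hrf1 hrf2 using hr
  have hs := GrothendieckTopology.Subcanonical.isSheaf_of_isRepresentable (J := QuotSh.J K S)
    (yoneda.obj R)
  let x : Presieve.FamilyOfElements (yoneda.obj R) 𝒮.arrows := fun T' f hf => rf f hf
  have hx : x.Compatible := by
    rw [Presieve.compatible_iff_sieveCompatible]
    intro T' T'' f g hf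
    apply e.right_cancellation
    · show rf (g ≫ f) _ ≫ s = (g ≫ rf f hf) ≫ s
      rw [hrf1, Category.assoc, Category.assoc, hrf1]
    · show rf (g ≫ f) _ ≫ t = (g ≫ rf f hf) ≫ t
      rw [hrf2, Category.assoc, Category.assoc, hrf2]
  let r : T ⟶ R := (hs 𝒮 h𝒮).amalgamate x hx
  have hr : ∀ ⦃T' : Over S⦄ (f : T' ⟶ T) (hf : 𝒮 f), f ≫ r = rf f hf := by
    intro T' f hf
    exact (hs 𝒮 h𝒮).valid_glue hx f hf
  have hU := GrothendieckTopology.Subcanonical.isSheaf_of_isRepresentable (J := QuotSh.J K S)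
    (yoneda.obj U)
  refine ⟨r, ?_, ?_⟩
  · refine (hU 𝒮 h𝒮).isSeparatedFor.ext (fun T' f hf => ?_)
    show f ≫ r ≫ s = f ≫ a
    rw [← Category.assoc, hr f hf, hrf1]
  · refine (hU 𝒮 h𝒮).isSeparatedFor.ext (fun T' f hf => ?_)
    show f ≫ r ≫ t = f ≫ b
    rw [← Category.assoc, hr f hf, hrf2]

/-- effectiveness: if `q` identifies `h_Y` with the quotient sheaf of an equivalence relation, then the
relation is the kernel pair of `q`. -/
theorem isKernelPair (e : EquivalenceRelation s t) (h : IsIso (QuotSh.quotDesc K q w)) :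
    IsKernelPair q s t := by
  have key : ∀ c : PullbackCone q q, ∃ r : c.pt ⟶ R, r ≫ s = c.fst ∧ r ≫ t = c.snd :=
    fun c => exists_rel K s t q w e h c.pt c.fst c.snd c.condition
  choose l hl1 hl2 using key
  refine ⟨⟨w⟩, ⟨PullbackCone.IsLimit.mk _ l hl1 hl2 ?_⟩⟩
  intro c m hm1 hm2
  apply e.right_cancellation
  · rw [hm1, hl1]
  · rw [hm2, hl2]

end Groth.Agent.Lib.Helper4.QuotEff
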