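import Mathlib.Tactic
import Mathlib.AlgebraicGeometry.Sites.Fpqc
import Mathlib.AlgebraicGeometry.Sites.Etale
import Groth.Prelude.Def_QuotSh
import Groth.Agent.Lib.Helper4.QuotEpi
import Groth.Agent.Lib.Helper4.QuotEff
import Groth.Agent.Lib.Helper4.EpiRep
import Groth.Agent.Lib.Helper4.CoverDesc
import Groth.Agent.Lib.Helper4.ExactLift

set_option autoImplicit false
universe u
open CategoryTheory AlgebraicGeometry Limits Opposite

namespace Groth.Agent.Lib.Helper4.QuotIff

variable {S : Scheme.{u}} (K : Precoverage Scheme.{u})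

theorem repMap_id (V : Over S) : QuotSh.repMap K (𝟙 V) = 𝟙 _ := (QuotEpi.repF K).map_id V

/-- kernel pair + covering ⟹ quotient -/
theorem isQuotient_of_isKernelPair {R U Y : Over S} (s t : R ⟶ U) (q : U ⟶ Y)
    (hKP : IsKernelPair q s t) (hq : Epi (QuotSh.repMap K q)) : QuotSh.IsQuotient K s t q := by
  refine ⟨hKP.w, ?_⟩
  refine QuotEpi.isIso_quotDesc K s t q hKP.w t s (𝟙 R) hKP.flip (Category.id_comp _)
    (Category.id_comp _) hq ?_
  rw [repMap_id]
  infer_instance

theorem epi_repMap_of_isQuotient {R U Y : Over S} (s t : R ⟶ U) (q : U ⟶ Y)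
    (h : QuotSh.IsQuotient K s t q) : Epi (QuotSh.repMap K q) := by
  obtain ⟨w, hiso⟩ := h
  have h1 : QuotSh.quotπ K s t ≫ QuotSh.quotDesc K q w = QuotSh.repMap K q :=
    coequalizer.π_desc (f := QuotSh.repMap K s) (g := QuotSh.repMap K t) (QuotSh.repMap K q) _
  rw [← h1]
  have : Epi (QuotSh.quotπ K s t) := coequalizer.π_epi
  exact epi_comp _ _

set_option backward.isDefEq.respectTransparency.types false in
theorem main5224 {R U Y : Over S} (s t : R ⟶ U)
    [IsEquivalenceRelation s t]
    [Flat s.left] [Surjective s.left] [LocallyOfFinitePresentation s.left]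
    (q : U ⟶ Y) :
    (IsKernelPair q s t ∧ Flat q.left ∧ Surjective q.left ∧ LocallyOfFinitePresentation q.left) ↔
      QuotSh.IsQuotient Scheme.fppfPrecoverage s t q := by
  constructor
  · rintro ⟨hKP, hfl, hsurj, hlfp⟩
    refine isQuotient_of_isKernelPair _ s t q hKP ?_
    rw [EpiRep.epi_repMap_iff_generate]
    exact Precoverage.generate_mem_toGrothendieck (Scheme.Hom.singleton_mem_fppfPrecoverage q.left)
  · intro h
    have hepi := epi_repMap_of_isQuotient _ s t q h
    obtain ⟨w, hiso⟩ := h
    obtain ⟨e⟩ := IsEquivalenceRelation.nonempty_equivalenceRelation (p₁ := s) (p₂ := t)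
    have hKP := QuotEff.isKernelPair Scheme.fppfPrecoverage s t q w e hiso
    rw [EpiRep.epi_repMap_iff_generate] at hepi
    obtain ⟨V, g, σ, hg1, hg2, hg3, hσ⟩ := CoverDesc.exists_fppf_section q.left hepi
    have hKP' : IsPullback t.left s.left q.left q.left := (hKP.map (Over.forget S)).flip
    refine ⟨hKP, ?_, ?_, ?_⟩
    · exact CoverDesc.prop_of_cover (P := @Flat) q.left s.left t.left hKP' inferInstance g σ hσ
    · exact CoverDesc.prop_of_cover (P := @Surjective) q.left s.left t.left hKP' inferInstance g σ hσ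
    · exact CoverDesc.prop_of_cover (P := @LocallyOfFinitePresentation) q.left s.left t.left hKP'
        inferInstance g σ hσ


instance subcanonical_etale' (S : Scheme.{u}) : (QuotSh.J Scheme.etalePrecoverage S).Subcanonical := by
  have : Scheme.etalePrecoverage.{u}.toGrothendieck.Subcanonical :=
    .of_le (Precoverage.toGrothendieck_mono (Scheme.precoverage_mono fun _ _ f hf => by
      have : Etale f := hf
      exact (⟨inferInstance, inferInstance⟩ : (@Flat ⊓ @LocallyOfFinitePresentation) f)) :
      Scheme.etalePrecoverage.{u}.toGrothendieck ≤ Scheme.fppfPrecoverage.{u}.toGrothendieck)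
  exact GrothendieckTopology.subcanonical_over _ S

set_option backward.isDefEq.respectTransparency.types false in
theorem main5225 {R U Y : Over S} (s t : R ⟶ U)
    [IsEquivalenceRelation s t] [Etale s.left] [Surjective s.left]
    (q : U ⟶ Y) :
    (IsKernelPair q s t ∧ Etale q.left ∧ Surjective q.left) ↔
      QuotSh.IsQuotient Scheme.etalePrecoverage s t q := by
  constructor
  · rintro ⟨hKP, het, hsurj⟩
    refine isQuotient_of_isKernelPair _ s t q hKP ?_
    rw [EpiRep.epi_repMap_iff_generate]
    refine Precoverage.generate_mem_toGrothendieck ?_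
    show Presieve.singleton q.left ∈ Scheme.precoverage @Etale Y.left
    rw [Scheme.singleton_mem_precoverage_iff]
    exact ⟨hsurj.surj, het⟩
  · intro h
    have hepi := epi_repMap_of_isQuotient _ s t q h
    obtain ⟨w, hiso⟩ := h
    obtain ⟨e⟩ := IsEquivalenceRelation.nonempty_equivalenceRelation (p₁ := s) (p₂ := t)
    have hKP := QuotEff.isKernelPair Scheme.etalePrecoverage s t q w e hiso
    rw [EpiRep.epi_repMap_iff_generate] at hepi
    obtain ⟨V, g, σ, hg1, hg2, hσ⟩ := CoverDesc.exists_etale_section q.left hepi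
    have hKP' : IsPullback t.left s.left q.left q.left := (hKP.map (Over.forget S)).flip
    refine ⟨hKP, ?_, ?_⟩
    · exact CoverDesc.prop_of_cover (P := @Etale) q.left s.left t.left hKP' inferInstance g σ hσ
    · exact CoverDesc.prop_of_cover (P := @Surjective) q.left s.left t.left hKP' inferInstance g σ hσ

end Groth.Agent.Lib.Helper4.QuotIff
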