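import Groth.Agent.Lib.Helper28.QCohLoc
import Groth.Agent.Lib.Helper28.QCohGlobal
import Groth.Agent.Lib.Helper28.RelTildeZero

set_option autoImplicit false
universe u
open CategoryTheory CategoryTheory.Limits Opposite TopologicalSpace AlgebraicGeometry

noncomputable section

namespace Groth.Agent.Lib.Helper4.QCZero

open Groth.Agent.Lib.Helper28 Groth.Agent.Lib.Helper28.QCohLoc

variable {S : Scheme.{u}}

/-- sections of a quasi-coherent module over a basic open of an affine open vanish when the module has no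
sections over the affine open -/
theorem eq_zero_of_subsingleton (G : S.Modules) [G.IsQuasicoherent] {U : S.Opens} (hU : IsAffineOpen U)
    (h : Subsingleton Γ(G, U)) (r : Γ(S, U)) (y : Γ(G, S.basicOpen r)) : y = 0 := by
  obtain ⟨n, x, hx⟩ := exists_pow_smul_eq_res G hU r y
  rw [Subsingleton.elim x 0, map_zero] at hx
  have hu : IsUnit (S.presheaf.map (homOfLE (S.basicOpen_le r)).op (r ^ n)) := by
    rw [map_pow]
    exact (RingedSpace.isUnit_res_basicOpen S.toRingedSpace r).pow n
  obtain ⟨u, hu'⟩ := hu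
  rw [← hu'] at hx
  have : y = ((↑u⁻¹ : Γ(S, S.basicOpen r)) • ((u : Γ(S, S.basicOpen r)) • y) : Γ(G, S.basicOpen r)) := by
    rw [← mul_smul, Units.inv_mul, one_smul]
  rw [this, hx, smul_zero]

/-- **a quasi-coherent module on an affine scheme without nonzero global sections is zero** -/
theorem isZero_of_subsingleton_top [IsAffine S] (G : S.Modules) [G.IsQuasicoherent]
    (h : Subsingleton Γ(G, ⊤)) : IsZero G := by
  refine isZero_of_sections_zero G (fun U x => ?_)
  refine eq_of_locally_eq G
    (fun V : {r : Γ(S, ⊤) // S.basicOpen r ≤ U} => S.basicOpen V.1) U (fun V => V.2) ?_ x 0 (fun V => ?_)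
  · intro y hy
    obtain ⟨_, ⟨r, rfl⟩, hyr, hrU⟩ := Opens.isBasis_iff_nbhd.mp (isBasis_basicOpen S) hy
    exact Opens.mem_iSup.mpr ⟨⟨r, hrU⟩, hyr⟩
  · rw [eq_zero_of_subsingleton G (isAffineOpen_top S) h V.1 (res G V.2 x)]
    exact (eq_zero_of_subsingleton G (isAffineOpen_top S) h V.1 _).symm

end Groth.Agent.Lib.Helper4.QCZero
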