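import Groth.Agent.Lib.Helper4.AmpleSerre
import Groth.Agent.Lib.Helper2.Bridge4
import Groth.Agent.Lib.Helper2.HLes
import Groth.Agent.Lib.Helper2.HLesLin
import Groth.Agent.Lib.Helper6.K0Inv
import Groth.Agent.S0012
import Groth.Agent.S0786

set_option autoImplicit false
universe u
open CategoryTheory CategoryTheory.Limits Opposite TopologicalSpace AlgebraicGeometry

noncomputable section

namespace Groth.Agent.Lib.Helper4.VanClass

open Groth.Agent.Lib.Helper28 Groth.Agent.Lib.Helper28.GenLocus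

variable {X : Scheme.{u}} (L : X.Modules)

/-- the class of modules whose high twists by `L` have no higher cohomology -/
def Van (F : X.Modules) : Prop :=
  ∃ n₀ : ℕ, ∀ n : ℕ, n₀ ≤ n → ∀ p : ℕ, 0 < p →
    Subsingleton (Coh.HH X (CohB1.tensorMod F (CohB1.tensorPow L n)) p)

variable {L}

theorem subsingleton_HH_of_iso {F G : X.Modules} (e : F ≅ G) (p : ℕ)
    (h : Subsingleton (Coh.HH X F p)) : Subsingleton (Coh.HH X G p) := by
  letI : X.Over (Spec (CommRingCat.of (ULift.{u} ℤ))) := ⟨specULiftZIsTerminal.from X⟩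
  exact Groth.Agent.Lib.Helper2.DualE2.subsingleton_HH_of_iso (ULift.{u} ℤ) e p h

theorem van_of_iso {F G : X.Modules} (e : F ≅ G) (h : Van L F) : Van L G := by
  obtain ⟨n₀, hn₀⟩ := h
  exact ⟨n₀, fun n hn p hp => subsingleton_HH_of_iso (PicGrp.tensorModIso e (Iso.refl _)) p (hn₀ n hn p hp)⟩

/-- the class is closed under extensions -/
theorem van_of_shortExact (hL : PicF.IsInvertible L) (S : ShortComplex X.Modules) (hS : S.ShortExact)
    (h₁ : Van L S.X₁) (h₃ : Van L S.X₃) : Van L S.X₂ := by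
  obtain ⟨n₁, hn₁⟩ := h₁
  obtain ⟨n₃, hn₃⟩ := h₃
  refine ⟨max n₁ n₃, fun n hn p hp => ?_⟩
  have hflat := Groth.Agent.Lib.Helper6.K0Op.isFlat_of_isInvertible _ (isInvertible_tensorPow hL n)
  have hT := Groth.Agent.Lib.Helper6.K0Op.shortExact_tensor_of_flat _ hflat S hS
  have e : ∀ G : X.Modules, (DCoh.tensorBi.obj (CohB1.tensorPow L n)).obj G ≅
      CohB1.tensorMod G (CohB1.tensorPow L n) :=
    fun G => Groth.Agent.Lib.Helper6.K0Inv.braidIso _ _
  have a₁ := subsingleton_HH_of_iso (e S.X₁).symm p (hn₁ n ((le_max_left _ _).trans hn) p hp)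
  have a₃ := subsingleton_HH_of_iso (e S.X₃).symm p (hn₃ n ((le_max_right _ _).trans hn) p hp)
  have a₂ := Groth.Agent.Lib.Helper2.HLes.subsingleton_X₂
    (Groth.Agent.Lib.Helper2.HLesLin.shortExact_Sab _ hT) p a₁ a₃
  exact subsingleton_HH_of_iso (e S.X₂) p a₂

/-- the direct image of a coherent module on a closed subscheme on which `L` is ample lies in the class -/
theorem van_push (R : Type u) [CommRing R] [IsNoetherianRing R] (f : X ⟶ Spec (CommRingCat.of R)) [IsProper f]
    (hL : PicF.IsInvertible L) {Z : Scheme.{u}} (i : Z ⟶ X) [IsClosedImmersion i]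
    (hZ : CohB1.IsAmple ((Scheme.Modules.pullback i).obj L)) (G : Z.Modules) (hG : Coh.IsCoh G) :
    Van L ((Scheme.Modules.pushforward i).obj G) := by
  obtain ⟨n₀, hn₀⟩ := AmpleSerre.vanishing_of_isAmple R Z (i ≫ f) _ hZ G hG
  refine ⟨n₀, fun n hn p hp => ?_⟩
  have h1 := hn₀ n hn p hp
  obtain ⟨e₁, -⟩ := PullbackInv.exists_pullback_tensorPow_iso i hL n
  have h2 : Subsingleton (Coh.HH Z (CohB1.tensorMod G
      ((Scheme.Modules.pullback i).obj (CohB1.tensorPow L n))) p) :=
    subsingleton_HH_of_iso (PicGrp.tensorModIso (Iso.refl G) e₁.symm) p h1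
  have hq : Coh.IsQCoh (CohB1.tensorMod G ((Scheme.Modules.pullback i).obj (CohB1.tensorPow L n))) :=
    (Groth.Agent.Lib.Helper6.K0Op.isCoh_tensorMod _ _ hG
      (Groth.Agent.Lib.Helper6.K0Op.isCoh_of_isInvertible _
        (PullbackInv.isInvertible_pullback i (isInvertible_tensorPow hL n)))).1
  obtain ⟨φ⟩ := Groth.Agent.S0012.result i
    (CohB1.tensorMod G ((Scheme.Modules.pullback i).obj (CohB1.tensorPow L n))) p
  have h3 : Subsingleton (Coh.HH X ((Scheme.Modules.pushforward i).obj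
      (CohB1.tensorMod G ((Scheme.Modules.pullback i).obj (CohB1.tensorPow L n)))) p) :=
    φ.symm.toEquiv.subsingleton
  obtain ⟨ψ⟩ := Groth.Agent.Lib.Helper2.Bridge4.exists_projection_iso i G (CohB1.tensorPow L n)
    (isInvertible_tensorPow hL n)
  exact subsingleton_HH_of_iso ψ.symm p h3

/-- a coherent module killed by the ideal of a closed subscheme on which `L` is ample lies in the class -/
theorem van_of_killed (R : Type u) [CommRing R] [IsNoetherianRing R] (f : X ⟶ Spec (CommRingCat.of R)) [IsProper f]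
    (hL : PicF.IsInvertible L) {Z : Scheme.{u}} (i : Z ⟶ X) [IsClosedImmersion i]
    (hZ : CohB1.IsAmple ((Scheme.Modules.pullback i).obj L)) (F : X.Modules) (hF : Coh.IsCoh F)
    (hk : ClSub.KilledByIdeal i.ker F) : Van L F := by
  haveI : IsLocallyNoetherian X := LocallyOfFiniteType.isLocallyNoetherian f
  obtain ⟨G, hG, ⟨e⟩⟩ := Groth.Agent.S0786.result i F hF hk
  exact van_of_iso e (van_push R f hL i hZ G hG)

end Groth.Agent.Lib.Helper4.VanClass
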