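import Mathlib
import Groth.Agent.Lib.Helper2.RpushQC6
import Groth.Agent.S11319
import Groth.Agent.Lib.Helper6.K0LocC

/-!
# Stalks of higher direct images vanish where the morphism is affine nearby (helper4)
-/

set_option backward.isDefEq.respectTransparency.types false
set_option autoImplicit false
universe u
open CategoryTheory CategoryTheory.Limits AlgebraicGeometry Opposite TopologicalSpace

noncomputable section
namespace Groth.Agent.Lib.Helper4.RpushStalk

variable {X Y : Scheme.{u}} (f : X ⟶ Y)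

/-- a module whose restriction to an open neighbourhood of `y` is zero has zero stalk at `y` -/
theorem isZero_stalk_of_isZero_restrict (N : Y.Modules) (V : Y.Opens) (y : Y) (hy : y ∈ V)
    (h : IsZero (N.restrict V.ι)) : IsZero (TopCat.Presheaf.stalk (Coh.toAb N).obj y) := by
  have e := (Scheme.Modules.restrictStalkNatIso V.ι ⟨y, hy⟩).app N
  have h1 : IsZero ((Scheme.Modules.restrictFunctor V.ι ⋙ Scheme.Modules.toPresheaf _ ⋙
      TopCat.Presheaf.stalkFunctor _ (⟨y, hy⟩ : V)).obj N) := by
    have h2 : IsZero ((Scheme.Modules.toPresheaf _ ⋙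
        TopCat.Presheaf.stalkFunctor AddCommGrpCat.{u} (⟨y, hy⟩ : V)).obj (N.restrict V.ι)) :=
      Functor.map_isZero _ h
    exact h2
  exact h1.of_iso e.symm

/-- if `f` is affine over a neighbourhood of `y`, the stalks at `y` of the higher direct images of a
quasi-coherent module vanish -/
theorem isZero_stalk_RpushAb_of_isAffineHom (V : Y.Opens) (y : Y) (hy : y ∈ V)
    [IsAffineHom (f ∣_ V)] (M : X.Modules) [M.IsQuasicoherent] (k : ℕ) :
    IsZero (TopCat.Presheaf.stalk ((Coh.RpushAb f (k + 1)).obj (Coh.toAb M)).obj y) := by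
  obtain ⟨e₁⟩ := Groth.Agent.S11319.result f M (k + 1)
  obtain ⟨e₂⟩ := Groth.Agent.Lib.Helper2.RpushQC6.nonempty_restrict_Rpush_iso f V M (k + 1)
  haveI : (M.restrict (f ⁻¹ᵁ V).ι).IsQuasicoherent := inferInstance
  have h0 : IsZero ((Coh.Rpush (f ∣_ V) (k + 1)).obj (M.restrict (f ⁻¹ᵁ V).ι)) :=
    Groth.Agent.Lib.Helper2.RpushQC4.isZero_Rpush_of_isAffineHom _ _ k
  have h1 := isZero_stalk_of_isZero_restrict _ V y hy (h0.of_iso e₂)
  exact h1.of_iso ((TopCat.Presheaf.stalkFunctor AddCommGrpCat.{u} y).mapIso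
    ((sheafToPresheaf _ _).mapIso e₁)).symm

/-- **finite fibre**: for `f` proper with finite fibre over `y`, the stalks at `y` of the higher direct
images of a quasi-coherent module vanish -/
theorem isZero_stalk_RpushAb_of_finite_fibre [IsProper f] (y : Y) (hy : (f.base ⁻¹' {y}).Finite)
    (M : X.Modules) [M.IsQuasicoherent] (p : ℕ) (hp : 0 < p) :
    IsZero (TopCat.Presheaf.stalk ((Coh.RpushAb f p).obj (Coh.toAb M)).obj y) := by
  obtain ⟨V, hyV, hV⟩ := exists_isFinite_morphismRestrict_of_finite_preimage_singleton f y hy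
  obtain ⟨k, rfl⟩ : ∃ k, p = k + 1 := ⟨p - 1, by omega⟩
  exact isZero_stalk_RpushAb_of_isAffineHom f V y hyV M k

end Groth.Agent.Lib.Helper4.RpushStalk
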