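import Groth.Agent.Lib.Helper4.Snapper9
import Groth.Agent.Lib.Helper8.PtSupp
import Groth.Agent.S2325
import Groth.Agent.S0051
set_option backward.isDefEq.respectTransparency.types false
set_option autoImplicit false
set_option linter.style.haveILetI false

universe u
open CategoryTheory CategoryTheory.Limits AlgebraicGeometry Opposite TopologicalSpace

namespace Groth.Agent.Lib.Helper4.Snapper
open Groth.Agent.Lib.Helper6.K0Filt Groth.Agent.Lib.Helper6.K0Len Groth.Agent.Lib.Helper6.K0Op
  Groth.Agent.Lib.Helper6.K0Tensor Groth.Agent.Lib.Helper4.NumPoly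

variable {X : Scheme.{u}}

/-- a nonzero globally generated module has a nonzero global section -/
theorem exists_hom_ne_zero_of_isGloballyGenerated (M : X.Modules) (hg : Curv2.IsGloballyGenerated M)
    (hM : ¬ IsZero M) : ∃ s : Coh.structureModule X ⟶ M, s ≠ 0 := by
  obtain ⟨ι, p, hp⟩ := hg
  by_contra hcon
  push Not at hcon
  apply hM
  have hp0 : p = 0 := by
    apply Cofan.IsColimit.hom_ext (SheafOfModules.isColimitFreeCofan (R := X.ringCatSheaf) ι)
    intro i
    exact (hcon _).trans (hcon _).symm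
  rw [hp0] at hp
  exact @IsZero.of_epi_zero _ _ _ (SheafOfModules.free ι : X.Modules) M hp

theorem nontrivial_sections_of_hom_ne_zero (M : X.Modules) (s : Coh.structureModule X ⟶ M) (hs : s ≠ 0) :
    Nontrivial Γ(M, ⊤) := by
  by_contra h
  rw [not_nontrivial_iff_subsingleton] at h
  apply hs
  rw [← Groth.Agent.Lib.Helper28.GenLocus.ofSection_secOf s,
    Subsingleton.elim (Groth.Agent.Lib.Helper28.GenLocus.secOf s) 0,
    ← Groth.Agent.Lib.Helper28.GenLocus.ofSection_secOf (0 : Coh.structureModule X ⟶ M),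
    Subsingleton.elim (Groth.Agent.Lib.Helper28.GenLocus.secOf (0 : Coh.structureModule X ⟶ M)) 0]

/-- the support of `N ⊗ F` is the support of `F`, for `N` invertible -/
theorem support_tensorMod_eq (N F : X.Modules) (hN : PicF.IsInvertible N) :
    CohB1.support (CohB1.tensorMod N F) = CohB1.support F := by
  ext x
  have h := len_tensorMod N F (isFinLocFreeOfRank_one_of_isInvertible N hN) x
  rw [Nat.cast_one, one_mul] at h
  have h1 : ∀ G : X.Modules, x ∈ CohB1.support G ↔ len G x ≠ 0 := by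
    intro G
    unfold len
    rw [Ne, Module.length_eq_zero_iff]
    rfl
  rw [h1, h1, h]

theorem not_isZero_tensorMod (N F : X.Modules) (hN : PicF.IsInvertible N) (hF : ¬ IsZero F) :
    ¬ IsZero (CohB1.tensorMod N F) := by
  intro hz
  apply hF
  apply Groth.Agent.Lib.Helper6.DevCore.isZero_of_support_eq_empty
  rw [← support_tensorMod_eq N F hN]
  exact Groth.Agent.Lib.Helper16.K0Supp.support_of_isZero hz

section field
variable (k : Type u) [Field k] [X.Over (Spec (CommRingCat.of k))]
    [IsProper (X ↘ (Spec (CommRingCat.of k)))]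

theorem Top_pow_cls (L : X.Modules) (hL : PicF.IsInvertible L) (F : X.Modules) (hF : Coh.IsCoh F) (n : ℕ) :
    (Top L ^ n) (cls F) = cls (CohB1.tensorMod F (CohB1.tensorPow L n)) := by
  have hN := Groth.Agent.Lib.Helper28.GenLocus.isInvertible_tensorPow hL n
  rw [← Top_tensorPow L hL n, Top_cls _ hN F hF]
  exact cls_iso (Groth.Agent.Lib.Helper6.K0Inv.braidIso _ _)
    (isCoh_tensorMod _ _ (isCoh_of_isInvertible _ hN) hF)

theorem eulerHom_Top_pow_cls (L : X.Modules) (hL : PicF.IsInvertible L) (F : X.Modules) (hF : Coh.IsCoh F)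
    (n : ℕ) :
    eulerHom k X ((Top L ^ n) (cls F)) = Curv2.euler k X (CohB1.tensorMod F (CohB1.tensorPow L n)) := by
  rw [Top_pow_cls L hL F hF n]
  exact eulerHom_cls k X _ (isCoh_tensorMod _ _ hF (isCoh_of_isInvertible _
    (Groth.Agent.Lib.Helper28.GenLocus.isInvertible_tensorPow hL n)))

/-- for `L` ample, the Euler characteristic of a large twist is `h⁰` -/
theorem exists_euler_eq_finrank (L : X.Modules) (hL : CohB1.IsAmple L) (F : X.Modules) (hF : Coh.IsCoh F) :
    ∃ n₀ : ℕ, ∀ n : ℕ, n₀ ≤ n →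
      Curv2.euler k X (CohB1.tensorMod F (CohB1.tensorPow L n)) =
        (Module.finrank k (Coh.HH X (CohB1.tensorMod F (CohB1.tensorPow L n)) 0) : ℤ) := by
  obtain ⟨n₀, hn₀⟩ := (Groth.Agent.S0051.result k X (X ↘ (Spec (CommRingCat.of k))) L hL.1).1 hL F hF
  refine ⟨n₀, fun n hn => ?_⟩
  rw [Groth.Agent.Lib.Helper8.EulerK.euler_eq_sum k X _ 1 (fun p hp => hn₀ n hn p hp)]
  simp

/-- for `L` ample, the Euler characteristic of a large twist of a coherent module is nonnegative, and positive
if the module is nonzero -/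
theorem exists_euler_nonneg (L : X.Modules) (hL : CohB1.IsAmple L) (F : X.Modules) (hF : Coh.IsCoh F) :
    ∃ n₀ : ℕ, ∀ n : ℕ, n₀ ≤ n → 0 ≤ Curv2.euler k X (CohB1.tensorMod F (CohB1.tensorPow L n)) := by
  obtain ⟨n₀, hn₀⟩ := exists_euler_eq_finrank k L hL F hF
  refine ⟨n₀, fun n hn => ?_⟩
  rw [hn₀ n hn]
  exact Int.natCast_nonneg _

/-- for `L` ample, the Euler characteristic of a large twist of a nonzero coherent module is positive -/
theorem exists_euler_pos (L : X.Modules) (hL : CohB1.IsAmple L) (F : X.Modules) (hF : Coh.IsCoh F)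
    (h0 : ¬ IsZero F) :
    ∃ n₀ : ℕ, ∀ n : ℕ, n₀ ≤ n → 0 < Curv2.euler k X (CohB1.tensorMod F (CohB1.tensorPow L n)) := by
  obtain ⟨n₀, hn₀⟩ := exists_euler_eq_finrank k L hL F hF
  haveI := hL.2.1
  haveI : X.IsSeparated := Groth.Agent.Lib.Helper28.GenLocus.isSeparated_of_isAmple hL
  obtain ⟨n₁, hn₁⟩ := Groth.Agent.S2325.result X L hL F hF
  refine ⟨max n₀ n₁, fun n hn => ?_⟩
  rw [hn₀ n (le_of_max_le_left hn)]
  have hne : ¬ IsZero (CohB1.tensorMod F (CohB1.tensorPow L n)) := by
    intro hz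
    refine not_isZero_tensorMod (CohB1.tensorPow L n) F
      (Groth.Agent.Lib.Helper28.GenLocus.isInvertible_tensorPow hL.1 n) h0 ?_
    exact hz.of_iso (Groth.Agent.Lib.Helper6.K0Inv.braidIso _ _)
  obtain ⟨s, hs⟩ := exists_hom_ne_zero_of_isGloballyGenerated _ (hn₁ n (le_of_max_le_right hn)) hne
  haveI := nontrivial_sections_of_hom_ne_zero _ s hs
  haveI : Nontrivial (Coh.HH X (CohB1.tensorMod F (CohB1.tensorPow L n)) 0) :=
    (Groth.Agent.Lib.Helper8.PtSupp.e0 (X := X) (M := CohB1.tensorMod F (CohB1.tensorPow L n))).toEquiv.nontrivial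
  haveI := Groth.Agent.Lib.Helper8.EulerK.finite_HH k X _
    (isCoh_tensorMod _ _ hF (isCoh_of_isInvertible _
      (Groth.Agent.Lib.Helper28.GenLocus.isInvertible_tensorPow hL.1 n))) 0
  exact_mod_cast Module.finrank_pos

end field

end Groth.Agent.Lib.Helper4.Snapper
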