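import Mathlib.AlgebraicGeometry.Morphisms.Immersion
import Mathlib.AlgebraicGeometry.Morphisms.Affine
import Mathlib.RingTheory.Ideal.Operations
import Mathlib.Tactic

set_option autoImplicit false
universe u
open CategoryTheory AlgebraicGeometry TopologicalSpace

namespace Groth.Agent.Lib.Helper4.PrimeAvoidOpen

/-- finitely many points of an open of `Spec B` lie in a common basic open inside it -/
theorem spec_version {B : Type*} [CommRing B] (O : Opens (PrimeSpectrum B))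
    (P : Finset (PrimeSpectrum B)) (hP : ∀ p ∈ P, p ∈ O) :
    ∃ g : B, (∀ p ∈ P, g ∉ p.asIdeal) ∧ PrimeSpectrum.basicOpen g ≤ O := by
  rcases P.eq_empty_or_nonempty with rfl | ⟨p0, hp0⟩
  · exact ⟨0, by simp, by simp⟩
  let I : Ideal B := PrimeSpectrum.vanishingIdeal (O : Set (PrimeSpectrum B))ᶜ
  have hI : PrimeSpectrum.zeroLocus (I : Set B) = (O : Set (PrimeSpectrum B))ᶜ := by
    rw [PrimeSpectrum.zeroLocus_vanishingIdeal_eq_closure, O.isOpen.isClosed_compl.closure_eq]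
  have hnot : ¬ ((I : Set B) ⊆ ⋃ p ∈ (↑P : Set (PrimeSpectrum B)), (p.asIdeal : Set B)) := by
    intro hsub
    obtain ⟨p, hpP, hIp⟩ := (Ideal.subset_union_prime (f := fun p : PrimeSpectrum B => p.asIdeal)
      (s := P) p0 p0 (fun p _ _ _ => p.2)).mp hsub
    have : p ∈ PrimeSpectrum.zeroLocus (I : Set B) := hIp
    rw [hI] at this
    exact this (hP p hpP)
  obtain ⟨g, hgI, hg⟩ := Set.not_subset.mp hnot
  refine ⟨g, fun p hp hgp => hg (Set.mem_biUnion (Finset.mem_coe.mpr hp) hgp), ?_⟩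
  intro q hq
  by_contra hqO
  have : q ∈ PrimeSpectrum.zeroLocus (I : Set B) := by rw [hI]; exact hqO
  exact hq (this hgI)

variable {X : Scheme.{u}}

/-- finitely many points of `V ∩ C` (`V` affine open) lie in a basic open of `V` inside `C` -/
theorem scheme_version (V : X.Opens) (hV : IsAffineOpen V) (C : X.Opens) (P : Set X)
    (hPfin : P.Finite) (hPV : P ⊆ V) (hPC : P ⊆ C) :
    ∃ g : Γ(X, V), P ⊆ X.basicOpen g ∧ X.basicOpen g ≤ C := by
  classical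
  have hmem : ∀ (y : X) (hy : y ∈ V) (g : Γ(X, V)),
      y ∈ X.basicOpen g ↔ g ∉ (hV.primeIdealOf ⟨y, hy⟩).asIdeal := by
    intro y hy g
    have hp : hV.fromSpec (hV.primeIdealOf ⟨y, hy⟩) = y := hV.fromSpec_primeIdealOf ⟨y, hy⟩
    conv_lhs => rw [← hp]
    change hV.primeIdealOf ⟨y, hy⟩ ∈ hV.fromSpec ⁻¹ᵁ X.basicOpen g ↔ _
    rw [hV.fromSpec_preimage_basicOpen]
    rfl
  let O : Opens (PrimeSpectrum Γ(X, V)) := hV.fromSpec ⁻¹ᵁ C
  let P' : Finset (PrimeSpectrum Γ(X, V)) :=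
    (hPfin.toFinset.attach).image fun y => hV.primeIdealOf ⟨y.1, hPV (hPfin.mem_toFinset.mp y.2)⟩
  obtain ⟨g, hg, hgO⟩ := spec_version O P' (by
    intro p hp
    obtain ⟨y, -, rfl⟩ := Finset.mem_image.mp hp
    change hV.fromSpec _ ∈ C
    rw [hV.fromSpec_primeIdealOf]
    exact hPC (hPfin.mem_toFinset.mp y.2))
  refine ⟨g, ?_, ?_⟩
  · intro y hy
    rw [SetLike.mem_coe, hmem y (hPV hy) g]
    apply hg
    exact Finset.mem_image.mpr ⟨⟨y, hPfin.mem_toFinset.mpr hy⟩, Finset.mem_attach _ _, rfl⟩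
  · intro q hq
    have hqV : q ∈ V := X.basicOpen_le g hq
    have h1 : hV.primeIdealOf ⟨q, hqV⟩ ∈ PrimeSpectrum.basicOpen g := (hmem q hqV g).mp hq
    have h2 := hgO h1
    change hV.fromSpec _ ∈ C at h2
    rwa [hV.fromSpec_primeIdealOf] at h2

theorem main {X Y : Scheme.{u}} [IsAffine Y] (ι : X ⟶ Y)
    [IsImmersion ι] (E : Set X) (hE : E.Finite) :
    ∃ U : X.Opens, IsAffineOpen U ∧ E ⊆ U := by
  let C : Y.Opens := ι.coborderRange
  obtain ⟨g, hPg, hgC⟩ := scheme_version (⊤ : Y.Opens) (isAffineOpen_top Y) C (ι '' E)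
    (hE.image _) (fun _ _ => trivial) (by
      rintro _ ⟨e, -, rfl⟩
      exact subset_coborder ⟨e, rfl⟩)
  let D : Y.Opens := Y.basicOpen g
  have hD : IsAffineOpen D := (isAffineOpen_top Y).basicOpen g
  have hD' : IsAffineOpen (C.ι ⁻¹ᵁ D) :=
    hD.preimage_of_isOpenImmersion C.ι (by rw [Scheme.Opens.opensRange_ι]; exact hgC)
  have hU : IsAffineOpen (ι.liftCoborder ⁻¹ᵁ (C.ι ⁻¹ᵁ D)) := hD'.preimage ι.liftCoborder
  have heq : ι.liftCoborder ⁻¹ᵁ (C.ι ⁻¹ᵁ D) = ι ⁻¹ᵁ D := by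
    rw [← Scheme.Hom.comp_preimage, ι.liftCoborder_ι]
  rw [heq] at hU
  exact ⟨ι ⁻¹ᵁ D, hU, fun e he => hPg ⟨e, he, rfl⟩⟩

end Groth.Agent.Lib.Helper4.PrimeAvoidOpen
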