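import Groth.Agent.Lib.Helper4.QCZero
import Groth.Agent.Lib.Helper2.RpushQC6
import Groth.Agent.Lib.Helper26.SuppRes
import Groth.Agent.Lib.Helper6.DevCore
import Groth.Agent.S0032
import Groth.Agent.S11319

set_option autoImplicit false
universe u
open CategoryTheory CategoryTheory.Limits Opposite TopologicalSpace AlgebraicGeometry

noncomputable section

namespace Groth.Agent.Lib.Helper4.RpushZero

open Groth.Agent.Lib.Helper2.RpushQC4

variable {X S : Scheme.{u}} (f : X ⟶ S)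

/-- affine base: `R^p f_* F = 0` as soon as `H^p(X, F) = 0` (`f` qcqs, `F` quasi-coherent) -/
theorem isZero_Rpush_of_isAffine [IsAffine S] [QuasiCompact f] [QuasiSeparated f]
    (F : X.Modules) [F.IsQuasicoherent] (p : ℕ) (h : Subsingleton (Coh.HH X F p)) :
    IsZero ((Coh.Rpush f p).obj F) := by
  haveI : ((Coh.Rpush f p).obj F).IsQuasicoherent :=
    Groth.Agent.Lib.Helper2.RpushQC6.isQuasicoherent_Rpush f F p
  obtain ⟨e⟩ := Groth.Agent.S11319.result f F p
  obtain ⟨φ⟩ := Groth.Agent.S0032.result f F p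
  refine Groth.Agent.Lib.Helper4.QCZero.isZero_of_subsingleton_top _ ?_
  have e' : (Coh.toAb ((Coh.Rpush f p).obj F)).obj.obj (op ⊤) ≅
      ((Coh.RpushAb f p).obj (Coh.toAb F)).obj.obj (op ⊤) :=
    ((sheafToPresheaf _ _).mapIso e).app (op ⊤)
  have h2 : Subsingleton ↑(((Coh.RpushAb f p).obj (Coh.toAb F)).obj.obj (op ⊤)) :=
    φ.symm.toEquiv.subsingleton
  exact e'.addCommGroupIsoToAddEquiv.toEquiv.subsingleton

/-- general base: `R^p f_* F = 0` as soon as the base is covered by affine opens `W` with `H^p(f⁻¹W, F) = 0` -/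
theorem isZero_Rpush_of_cover [QuasiCompact f] [QuasiSeparated f]
    (F : X.Modules) [F.IsQuasicoherent] (p : ℕ)
    (h : ∀ y : S, ∃ W : S.Opens, IsAffineOpen W ∧ y ∈ W ∧
      Subsingleton (Coh.HH (f ⁻¹ᵁ W) (F.restrict (f ⁻¹ᵁ W).ι) p)) :
    IsZero ((Coh.Rpush f p).obj F) := by
  refine Groth.Agent.Lib.Helper6.DevCore.isZero_of_support_eq_empty _ ?_
  rw [Set.eq_empty_iff_forall_notMem]
  intro y hy
  obtain ⟨W, hW, hyW, hsub⟩ := h y
  haveI : IsAffine (W : Scheme.{u}) := hW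
  obtain ⟨e⟩ := Groth.Agent.Lib.Helper2.RpushQC6.nonempty_restrict_Rpush_iso f W F p
  have hz : IsZero ((Coh.Rpush (f ∣_ W) p).obj (F.restrict (f ⁻¹ᵁ W).ι)) :=
    isZero_Rpush_of_isAffine (f ∣_ W) _ p hsub
  exact Groth.Agent.Lib.Helper26.SuppRes.support_subset_compl _ W (hz.of_iso e) hy hyW

/-- the same, for the higher direct images of the underlying abelian sheaves -/
theorem isZero_RpushAb_of_cover [QuasiCompact f] [QuasiSeparated f]
    (F : X.Modules) [F.IsQuasicoherent] (p : ℕ)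
    (h : ∀ y : S, ∃ W : S.Opens, IsAffineOpen W ∧ y ∈ W ∧
      Subsingleton (Coh.HH (f ⁻¹ᵁ W) (F.restrict (f ⁻¹ᵁ W).ι) p)) :
    IsZero ((Coh.RpushAb f p).obj (Coh.toAb F)) := by
  obtain ⟨e⟩ := Groth.Agent.S11319.result f F p
  have hz := isZero_Rpush_of_cover f F p h
  exact ((SheafOfModules.toSheaf S.ringCatSheaf).map_isZero hz).of_iso e.symm

end Groth.Agent.Lib.Helper4.RpushZero
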