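import Groth.Agent.Lib.Helper28.RestrictGen
import Groth.Agent.Lib.Helper28.TwistIso

set_option autoImplicit false
universe u
open CategoryTheory CategoryTheory.Limits Opposite TopologicalSpace AlgebraicGeometry

noncomputable section

namespace Groth.Agent.Lib.Helper4.TwistRestrict

open Groth.Agent.Lib.Helper28 Groth.Agent.Lib.Helper28.QCohLoc Groth.Agent.Lib.Helper28.GenLocus

variable {X : Scheme.{u}}

/-- the restriction of a twist to an open subscheme is a twist of the restrictions -/
theorem isTwist_restrict {F L P : X.Modules} {d : ℕ} {Θ : ∀ W : X.Opens, Γ(L, W) → Γ(F, W) → Γ(P, W)}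
    (h : IsTwist F L d P Θ) (U : X.Opens) :
    IsTwist (F.restrict U.ι) (L.restrict U.ι) d (P.restrict U.ι)
      (fun V g x => (show Γ(P.restrict U.ι, V) from
        Θ (U.ι ''ᵁ V) (show Γ(L, U.ι ''ᵁ V) from g) (show Γ(F, U.ι ''ᵁ V) from x))) where
  bij V g hg := h.bij (U.ι ''ᵁ V) _ (isGen_of_isGen_restrict L U g hg)
  add V g x y := h.add (U.ι ''ᵁ V) _ _ _
  smul V g a x := h.smul (U.ι ''ᵁ V) _ ((U.ι.appIso V).inv a) _
  res V V' hV g x := h.res (U.ι ''ᵁ V) (U.ι ''ᵁ V') (U.ι.image_mono hV) _ _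
  hom V c g x := by
    have := h.hom (U.ι ''ᵁ V) ((U.ι.appIso V).inv c) (show Γ(L, U.ι ''ᵁ V) from g)
      (show Γ(F, U.ι ''ᵁ V) from x)
    rw [← map_pow] at this
    exact this

/-- **restriction to an open subscheme commutes with twisting by powers of an invertible module** -/
theorem nonempty_restrict_twist_iso (M L : X.Modules) (U : X.Opens) (hL : PicF.IsInvertible (L.restrict U.ι))
    (n : ℕ) :
    Nonempty ((CohB1.tensorMod M (CohB1.tensorPow L n)).restrict U.ι ≅
      CohB1.tensorMod (M.restrict U.ι) (CohB1.tensorPow (L.restrict U.ι) n)) := by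
  have h1 := isTwist_restrict ((IsTwist.refl M L).tensorPow n) U
  have h2 := (IsTwist.refl (M.restrict U.ι) (L.restrict U.ι)).tensorPow n
  obtain ⟨ψ, -⟩ := h1.exists_iso h2 hL
  exact ⟨ψ⟩

end Groth.Agent.Lib.Helper4.TwistRestrict
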