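import Mathlib
import Groth.Prelude.Def_W4sga3xxiRoot

/-!
Helper library (helper4) for the `RootD` statements: coefficient vectors of roots with respect to a
system of simple roots (root pairings over `ℤ`).
-/

namespace Groth.Agent.Lib.Helper4.RD

open RootD

variable {ι M N : Type*} [AddCommGroup M] [AddCommGroup N] (P : RootPairing ι ℤ M N)

/-- linear combination of the roots indexed by `Δ` -/
noncomputable def lc (Δ : Set ι) : (Δ →₀ ℤ) →ₗ[ℤ] M :=
  Finsupp.linearCombination ℤ (fun l : Δ => P.root l)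

lemma lc_single (Δ : Set ι) (l : Δ) (z : ℤ) : lc P Δ (Finsupp.single l z) = z • P.root l := by
  simp [lc]

lemma lc_injective {Δ : Set ι} (h : LinearIndepOn ℤ P.root Δ) : Function.Injective (lc P Δ) := h

/-- `x ∈ natSpan Δ` iff `x` is a non-negative combination. -/
lemma mem_natSpan_iff (Δ : Set ι) (x : M) :
    x ∈ natSpan P Δ ↔ ∃ c : Δ →₀ ℤ, (∀ l, 0 ≤ c l) ∧ lc P Δ c = x := by
  classical
  constructor
  · intro hx
    induction hx using AddSubmonoid.closure_induction with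
    | mem x hx =>
      obtain ⟨l, hl, rfl⟩ := hx
      refine ⟨Finsupp.single ⟨l, hl⟩ 1, fun l' => ?_, by simp [lc_single]⟩
      rw [Finsupp.single_apply]; split_ifs <;> simp
    | zero => exact ⟨0, fun _ => le_rfl, map_zero _⟩
    | add x y _ _ hx hy =>
      obtain ⟨c, hc, rfl⟩ := hx
      obtain ⟨c', hc', rfl⟩ := hy
      exact ⟨c + c', fun l => add_nonneg (hc l) (hc' l), map_add _ _ _⟩
  · rintro ⟨c, hc, rfl⟩
    rw [lc, Finsupp.linearCombination_apply, Finsupp.sum]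
    refine AddSubmonoid.sum_mem _ fun l _ => ?_
    obtain ⟨n, hn⟩ := Int.eq_ofNat_of_zero_le (hc l)
    rw [hn, natCast_zsmul]
    have hmem : P.root l ∈ natSpan P Δ := AddSubmonoid.subset_closure ⟨(l : ι), l.2, rfl⟩
    exact AddSubmonoid.nsmul_mem _ hmem n

variable {P}

/-- existence of the coefficient vector of a root -/
lemma exists_coef {Δ : Set ι} (hΔ : IsSimpleSys P Δ) (k : ι) :
    ∃ c : Δ →₀ ℤ, lc P Δ c = P.root k ∧ ((∀ l, 0 ≤ c l) ∨ (∀ l, c l ≤ 0)) := by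
  rcases hΔ.mem_or_neg_mem k with h | h
  · obtain ⟨c, hc, e⟩ := (mem_natSpan_iff P Δ _).mp h
    exact ⟨c, e, Or.inl hc⟩
  · obtain ⟨c, hc, e⟩ := (mem_natSpan_iff P Δ _).mp h
    refine ⟨-c, by rw [map_neg, e, neg_neg], Or.inr fun l => ?_⟩
    simpa using hc l

/-- the coefficient vector of a root -/
noncomputable def coef {Δ : Set ι} (hΔ : IsSimpleSys P Δ) (k : ι) : Δ →₀ ℤ :=
  (exists_coef hΔ k).choose

lemma lc_coef {Δ : Set ι} (hΔ : IsSimpleSys P Δ) (k : ι) : lc P Δ (coef hΔ k) = P.root k :=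
  (exists_coef hΔ k).choose_spec.1

lemma coef_sign {Δ : Set ι} (hΔ : IsSimpleSys P Δ) (k : ι) :
    (∀ l, 0 ≤ coef hΔ k l) ∨ (∀ l, coef hΔ k l ≤ 0) :=
  (exists_coef hΔ k).choose_spec.2

lemma coef_eq_of_lc_eq {Δ : Set ι} (hΔ : IsSimpleSys P Δ) (k : ι) (c : Δ →₀ ℤ)
    (h : lc P Δ c = P.root k) : coef hΔ k = c :=
  lc_injective P hΔ.linInd ((lc_coef hΔ k).trans h.symm)

lemma coef_ne_zero {Δ : Set ι} (hΔ : IsSimpleSys P Δ) (k : ι) : coef hΔ k ≠ 0 := by
  intro h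
  have := lc_coef hΔ k
  rw [h, map_zero] at this
  exact P.ne_zero k this.symm

lemma mem_posOf_iff {Δ : Set ι} (hΔ : IsSimpleSys P Δ) (k : ι) :
    k ∈ posOf P Δ ↔ ∀ l, 0 ≤ coef hΔ k l := by
  constructor
  · intro hk
    obtain ⟨c, hc, e⟩ := (mem_natSpan_iff P Δ _).mp hk
    rw [coef_eq_of_lc_eq hΔ k c e]; exact hc
  · intro h
    exact (mem_natSpan_iff P Δ _).mpr ⟨coef hΔ k, h, lc_coef hΔ k⟩

/-- a root with one positive coefficient is positive -/
lemma mem_posOf_of_pos {Δ : Set ι} (hΔ : IsSimpleSys P Δ) (k : ι) (l : Δ)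
    (h : 0 < coef hΔ k l) : k ∈ posOf P Δ := by
  rw [mem_posOf_iff hΔ]
  rcases coef_sign hΔ k with h' | h'
  · exact h'
  · exact absurd (h' l) (not_le.mpr h)

lemma coef_simple {Δ : Set ι} (hΔ : IsSimpleSys P Δ) (i : Δ) :
    coef hΔ i = Finsupp.single i 1 :=
  coef_eq_of_lc_eq hΔ i _ (by simp [lc_single])

lemma coef_reflectionPerm {Δ : Set ι} (hΔ : IsSimpleSys P Δ) (i : Δ) (k : ι) :
    coef hΔ (P.reflectionPerm i k) = coef hΔ k - Finsupp.single i (P.pairing k i) := by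
  apply coef_eq_of_lc_eq
  rw [map_sub, lc_coef, lc_single, P.root_reflectionPerm, P.reflection_apply_root]

lemma coef_neg {Δ : Set ι} (hΔ : IsSimpleSys P Δ) (k : ι) :
    coef hΔ (P.reflectionPerm k k) = - coef hΔ k := by
  apply coef_eq_of_lc_eq
  rw [map_neg, lc_coef, P.root_reflectionPerm, P.reflection_apply_self]

end Groth.Agent.Lib.Helper4.RD
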