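import Groth.Agent.Lib.Helper17.ClosedUnit

set_option backward.isDefEq.respectTransparency.types false
set_option autoImplicit false
universe u
open CategoryTheory CategoryTheory.Limits Opposite TopologicalSpace AlgebraicGeometry TensorProduct

noncomputable section

namespace Groth.Agent.Lib.Helper4.UnitKer

open Groth.Agent.Lib.Helper17.PullbackBC Groth.Agent.Lib.Helper28.PullbackInv
  Groth.Agent.Lib.Helper28.QCohLoc

/-- for a surjective algebra map `R → S` with kernel `I`: if `1 ⊗ p = 0` in `S ⊗_R P` then `p ∈ I P` -/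
theorem mem_smul_top_of_one_tmul_eq_zero {R S P : Type*} [CommRing R] [CommRing S] [Algebra R S]
    (hφ : Function.Surjective (algebraMap R S)) [AddCommGroup P] [Module R P] (p : P)
    (h : (1 : S) ⊗ₜ[R] p = 0) :
    p ∈ (RingHom.ker (algebraMap R S)) • (⊤ : Submodule R P) := by
  set I := RingHom.ker (algebraMap R S) with hI
  let ε : (R ⧸ I) ≃ₐ[R] S := Ideal.quotientKerAlgEquivOfSurjective (f := Algebra.ofId R S) hφ
  have h1 : (LinearEquiv.rTensor P ε.symm.toLinearEquiv) ((1 : S) ⊗ₜ[R] p) = (1 : R ⧸ I) ⊗ₜ[R] p := by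
    rw [LinearEquiv.rTensor_tmul]
    congr 1
    exact map_one ε.symm
  rw [h, map_zero] at h1
  have h2 := TensorProduct.quotTensorEquivQuotSMul_mk_one_tmul (M := P) I p
  rw [← h1, map_zero] at h2
  exact (Submodule.Quotient.mk_eq_zero _).1 h2.symm

theorem ker_of_isBC {R S : Type u} [CommRing R] [CommRing S] (φ : R →+* S)
    (hφ : Function.Surjective φ) {P T : Type u} [AddCommGroup P] [Module R P] [AddCommGroup T] [Module S T]
    (c : P → T) (hc : IsBC φ c) (p : P) (h : c p = 0) :
    p ∈ (RingHom.ker φ) • (⊤ : Submodule R P) := by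
  letI := φ.toAlgebra
  obtain ⟨e, he⟩ := (isBC_iff φ c).mp hc
  have h1 : (1 : S) ⊗ₜ[R] p = 0 := by rw [← he, h, map_zero]
  exact mem_smul_top_of_one_tmul_eq_zero (R := R) (S := S) hφ p h1

theorem surjective_of_isBC {R S : Type u} [CommRing R] [CommRing S] (φ : R →+* S)
    (hφ : Function.Surjective φ) {P T : Type u} [AddCommGroup P] [Module R P] [AddCommGroup T] [Module S T]
    (c : P → T) (hc : IsBC φ c) : Function.Surjective c := by
  letI := φ.toAlgebra
  obtain ⟨e, he⟩ := (isBC_iff φ c).mp hc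
  intro t
  have key : ∀ z : S ⊗[R] P, ∃ p : P, (1 : S) ⊗ₜ[R] p = z := by
    intro z
    induction z using TensorProduct.induction_on with
    | zero => exact ⟨0, TensorProduct.tmul_zero _ _⟩
    | add x y hx hy =>
      obtain ⟨p, hp⟩ := hx
      obtain ⟨q, hq⟩ := hy
      exact ⟨p + q, by rw [TensorProduct.tmul_add, hp, hq]⟩
    | tmul s p =>
      obtain ⟨r, rfl⟩ := hφ s
      refine ⟨r • p, ?_⟩
      rw [TensorProduct.tmul_smul, TensorProduct.smul_tmul', Algebra.smul_def, mul_one]
      rfl
  obtain ⟨p, hp⟩ := key (e t)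
  refine ⟨p, e.injective ?_⟩
  rw [he, hp]

section Closed

variable {Z X : Scheme.{u}} (i : Z ⟶ X) [IsClosedImmersion i] (F : X.Modules) [F.IsQuasicoherent]

/-- the unit `F ⟶ i_* i^* F` -/
abbrev η : F ⟶ (Scheme.Modules.pushforward i).obj ((Scheme.Modules.pullback i).obj F) :=
  (Scheme.Modules.pullbackPushforwardAdjunction i).unit.app F

/-- the unit on sections, with values in the sections of `i^* F` -/
def ηsec (U : X.Opens) : Γ(F, U) → Γ((Scheme.Modules.pullback i).obj F, i ⁻¹ᵁ U) :=
  fun m => (η i F).app U m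

theorem isBC_η (U : X.affineOpens) :
    IsBC (i.appLE U.1 (i ⁻¹ᵁ U.1) le_rfl).hom (ηsec i F U.1) := by
  have hW' : IsAffineOpen (i ⁻¹ᵁ U.1) := U.2.preimage i
  have hbc := isBC_pullback i U.2 hW' le_rfl F
  have heq : (fun m : Γ(F, U.1) => res ((Scheme.Modules.pullback i).obj F) (le_refl (i ⁻¹ᵁ U.1)) (pbs i F U.1 m)) =
      ηsec i F U.1 := by
    funext m
    exact res_self _ _
  rw [heq] at hbc
  exact hbc

theorem appLE_surjective (U : X.affineOpens) :
    Function.Surjective (i.appLE U.1 (i ⁻¹ᵁ U.1) le_rfl).hom := by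
  rw [← Scheme.Hom.app_eq_appLE]
  exact i.app_surjective U.1 U.2

/-- the unit is surjective on the sections over affine opens -/
theorem η_app_surjective (U : X.affineOpens) : Function.Surjective ((η i F).app U.1) :=
  surjective_of_isBC _ (appLE_surjective i U) (ηsec i F U.1) (isBC_η i F U)

/-- the kernel of the unit on the sections over an affine open `U` is `I(U) F(U)` -/
theorem mem_of_η_app_eq_zero (U : X.affineOpens) (m : Γ(F, U.1)) (h : (η i F).app U.1 m = 0) :
    m ∈ (i.ker.ideal U) • (⊤ : Submodule Γ(X, U.1) Γ(F, U.1)) := by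
  have := ker_of_isBC _ (appLE_surjective i U) (ηsec i F U.1) (isBC_η i F U) m h
  have hk : i.ker.ideal U = RingHom.ker (i.appLE U.1 (i ⁻¹ᵁ U.1) le_rfl).hom := by
    rw [Scheme.Hom.ker_apply, Scheme.Hom.app_eq_appLE]
  rw [hk]
  exact this

/-- the unit `F ⟶ i_* i^* F` of a closed immersion is an epimorphism (`F` quasi-coherent) -/
theorem epi_η : Epi (η i F) := by
  haveI : ((Scheme.Modules.pushforward i).obj ((Scheme.Modules.pullback i).obj F)).IsQuasicoherent :=
    isQuasicoherent_pushforward i _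
  refine epi_of_affine_cover (η i F) (fun U : X.affineOpens => U.1) (fun U => U.2) ?cov
    (fun U => isLocOn_of_isQuasicoherent
      ((Scheme.Modules.pushforward i).obj ((Scheme.Modules.pullback i).obj F)) U.2)
    (fun U => η_app_surjective i F U)
  case cov =>
    intro x
    obtain ⟨W, hW, hxW, -⟩ := Opens.isBasis_iff_nbhd.mp X.isBasis_affineOpens
      (show x ∈ (⊤ : X.Opens) from trivial)
    exact ⟨⟨W, hW⟩, hxW⟩

end Closed

end Groth.Agent.Lib.Helper4.UnitKer
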