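import Groth.Agent.Lib.Helper4.VanClass
import Groth.Agent.Lib.Helper4.UnitKer
import Groth.Agent.Lib.Helper6.DevCore
import Groth.Agent.Lib.Helper17.TensorSupp
import Groth.Agent.S0019

set_option autoImplicit false
universe u
open CategoryTheory CategoryTheory.Limits Opposite TopologicalSpace AlgebraicGeometry

noncomputable section

namespace Groth.Agent.Lib.Helper4.VanIdeal

open Groth.Agent.Lib.Helper28 Groth.Agent.Lib.Helper28.GenLocus Groth.Agent.Lib.Helper4.VanClass
  Groth.Agent.Lib.Helper4.UnitKer

variable {X : Scheme.{u}} (L : X.Modules)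

/-- every coherent module killed by `I` has vanishing higher cohomology of high twists -/
def Q (I : X.IdealSheafData) : Prop :=
  ∀ F : X.Modules, Coh.IsCoh F → ClSub.KilledByIdeal I F → Van L F

variable {L}

theorem app_injective_of_mono {M N : X.Modules} (φ : M ⟶ N) [hφ : Mono φ] (U : X.Opens) :
    Function.Injective (φ.app U) := by
  have h1 : (SheafOfModules.forget X.ringCatSheaf).PreservesMonomorphisms :=
    Functor.preservesMonomorphisms_of_adjunction
      (PresheafOfModules.sheafificationAdjunction (𝟙 X.ringCatSheaf.obj))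
  have h2 : Mono φ.val := @Functor.map_mono _ _ _ _ (SheafOfModules.forget X.ringCatSheaf) h1 _ _ φ hφ
  exact PresheafOfModules.injective_of_mono φ.val (op U)

/-- a module killed by an ideal is killed by the submodule it generates -/
theorem eq_zero_of_mem_smul_top {R P : Type*} [CommRing R] [AddCommGroup P] [Module R P] (K : Ideal R)
    (hK : ∀ b ∈ K, ∀ x : P, b • x = 0) (y : P) (hy : y ∈ K • (⊤ : Submodule R P)) : y = 0 := by
  exact Submodule.smul_induction_on (p := fun y => y = 0) hy (fun b hb x _ => hK b hb x)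
    (fun x y hx hy => by rw [hx, hy, add_zero])

/-- the direct image from a closed subscheme is killed by its ideal -/
theorem killed_push {Z : Scheme.{u}} (i : Z ⟶ X) [IsClosedImmersion i] (G : Z.Modules) :
    ClSub.KilledByIdeal i.ker ((Scheme.Modules.pushforward i).obj G) := by
  intro U a ha x
  rw [Scheme.Hom.ker_apply, RingHom.mem_ker] at ha
  have : (a • x : Γ((Scheme.Modules.pushforward i).obj G, U.1)) =
      ((i.app U.1).hom a • (show Γ(G, i ⁻¹ᵁ U.1) from x) : Γ(G, i ⁻¹ᵁ U.1)) := rfl
  rw [this, ha, zero_smul]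
  rfl

theorem Q_mul [IsLocallyNoetherian X] (hL : PicF.IsInvertible L) {I J : X.IdealSheafData}
    (hI : Q L I) (hJ : Q L J) : Q L (I * J) := by
  intro F hF hk
  haveI : F.IsQuasicoherent := hF.1
  let i := J.subschemeι
  have hker : i.ker = J := J.ker_subschemeι
  haveI := epi_η i F
  -- the quotient
  have hG : Coh.IsCoh ((Scheme.Modules.pullback i).obj F) := by
    haveI : SheafOfModules.IsFiniteType.{u} (R := X.ringCatSheaf) F := hF.2
    exact ⟨inferInstance, Groth.Agent.Lib.Helper17.TensorSupp.isFiniteType_pullback i F⟩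
  have hQcoh : Coh.IsCoh ((Scheme.Modules.pushforward i).obj ((Scheme.Modules.pullback i).obj F)) :=
    Groth.Agent.S0019.result i _ hG
  have hQ : Van L ((Scheme.Modules.pushforward i).obj ((Scheme.Modules.pullback i).obj F)) :=
    hJ _ hQcoh (by
      have hkp := killed_push i ((Scheme.Modules.pullback i).obj F)
      rw [hker] at hkp
      exact hkp)
  -- the kernel
  have hKcoh : Coh.IsCoh (kernel (η i F)) := Groth.Agent.Lib.Helper6.DevCore.isCoh_kernel (η i F) hF hQcoh
  have hK : Van L (kernel (η i F)) := by
    refine hI _ hKcoh (fun U a ha m => ?_)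
    have hmono : Function.Injective ((kernel.ι (η i F)).app U.1) := app_injective_of_mono _ U.1
    apply hmono
    have h1 : (η i F).app U.1 ((kernel.ι (η i F)).app U.1 m) = 0 := by
      have h0 : kernel.ι (η i F) ≫ η i F = 0 := kernel.condition (η i F)
      have := congrArg (fun ψ : kernel (η i F) ⟶ _ => ψ.app U.1 m) h0
      exact this
    have h2 := mem_of_η_app_eq_zero i F U _ h1
    rw [hker] at h2
    have h3 : (a • ((kernel.ι (η i F)).app U.1 m) : Γ(F, U.1)) ∈
        (I.ideal U * J.ideal U) • (⊤ : Submodule Γ(X, U.1) Γ(F, U.1)) := by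
      rw [mul_smul]
      exact Submodule.smul_mem_smul ha h2
    have h4 := eq_zero_of_mem_smul_top (I.ideal U * J.ideal U) (fun b hb x => hk U b hb x) _ h3
    have h5 : (kernel.ι (η i F)).app U.1 (a • m) = (a • ((kernel.ι (η i F)).app U.1 m) : Γ(F, U.1)) :=
      Scheme.Modules.Hom.app_smul _ _ _
    exact (h5.trans h4).trans (map_zero _).symm
  -- conclusion
  let S : ShortComplex X.Modules := ShortComplex.mk (kernel.ι (η i F)) (η i F) (kernel.condition _)
  have hS : S.ShortExact :=
    ShortComplex.ShortExact.mk' (ShortComplex.exact_of_f_is_kernel _ (kernelIsKernel (η i F))) inferInstance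
      inferInstance
  exact van_of_shortExact hL S hS hK hQ

theorem Q_of_isAmple (R : Type u) [CommRing R] [IsNoetherianRing R] (f : X ⟶ Spec (CommRingCat.of R)) [IsProper f]
    (hL : PicF.IsInvertible L) (I : X.IdealSheafData)
    (hI : CohB1.IsAmple ((Scheme.Modules.pullback I.subschemeι).obj L)) : Q L I :=
  fun F hF hk => van_of_killed R f hL I.subschemeι hI F hF (by rw [I.ker_subschemeι]; exact hk)

theorem isAmple_of_Q_bot (R : Type u) [CommRing R] [IsNoetherianRing R] (f : X ⟶ Spec (CommRingCat.of R)) [IsProper f]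
    (hL : PicF.IsInvertible L) (h : Q L (⊥ : X.IdealSheafData)) : CohB1.IsAmple L :=
  AmpleSerre.isAmple_of_vanishing R X f L hL (fun M hM => h M hM (fun U a ha m => by
    have ha' : a = 0 := ha
    rw [ha', zero_smul]))

end Groth.Agent.Lib.Helper4.VanIdeal
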