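import Mathlib.Tactic
import Mathlib.AlgebraicGeometry.Group.Affine
import Mathlib.AlgebraicGeometry.Morphisms.Flat
import Groth.Prelude.Def_GmPts

universe u

open CategoryTheory CategoryTheory.Limits MonoidalCategory CartesianMonoidalCategory MonObj AlgebraicGeometry Opposite

noncomputable section

namespace Groth.Agent.Lib.Helper4.GaPts

open scoped TensorProduct

/-- The coordinate ring `ℤ[X]` of the additive group over `ℤ` (symmetric algebra of `ℤ`). -/
abbrev Coord : Type u := SymmetricAlgebra (ULift.{u} ℤ) (ULift.{u} ℤ)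

abbrev baseZ : Scheme.{u} := GmPts.baseZ.{u}

abbrev toBaseZ (S : Scheme.{u}) : S ⟶ baseZ := GmPts.toBaseZ S

abbrev GaZ : Over baseZ.{u} := Red.GaZ.{u}

/-- The coordinate `X`. -/
abbrev gen : Coord.{u} := SymmetricAlgebra.ι (ULift.{u} ℤ) (ULift.{u} ℤ) (ULift.up 1)

abbrev coordIso : Γ(Spec (CommRingCat.of Coord.{u}), ⊤) ≅ CommRingCat.of Coord.{u} :=
  Scheme.ΓSpecIso (CommRingCat.of Coord.{u})

theorem gaCoord_eq : Red.gaCoord.{u} = coordIso.inv gen := rfl

theorem algebraMap_eq_intCast (r : ULift.{u} ℤ) :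
    algebraMap (ULift.{u} ℤ) Coord.{u} r = ((r.down : ℤ) : Coord.{u}) := by
  have h : (algebraMap (ULift.{u} ℤ) Coord.{u}).comp
      (ULift.ringEquiv : ULift.{u} ℤ ≃+* ℤ).symm.toRingHom = Int.castRingHom Coord.{u} :=
    RingHom.ext_int _ _
  have := congrArg (fun φ : ℤ →+* Coord.{u} => φ r.down) h
  exact this

theorem ι_eq_zsmul (m : ULift.{u} ℤ) :
    SymmetricAlgebra.ι (ULift.{u} ℤ) (ULift.{u} ℤ) m = (m.down : ℤ) • gen.{u} := by
  have h : m = (m.down : ℤ) • (ULift.up 1 : ULift.{u} ℤ) := by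
    rcases m with ⟨m⟩
    apply ULift.ext
    simp
  conv_lhs => rw [h]
  rw [map_zsmul]

/-- Two ring maps out of `ℤ[X]` that agree on `X` are equal. -/
theorem ringHom_ext_gen {R : Type u} [CommRing R] {f g : Coord.{u} →+* R} (h : f gen = g gen) :
    f = g := by
  apply RingHom.ext
  intro a
  refine SymmetricAlgebra.induction (ULift.{u} ℤ) (ULift.{u} ℤ) (motive := fun a => f a = g a)
    ?_ ?_ ?_ ?_ a
  · intro r
    rw [algebraMap_eq_intCast, map_intCast, map_intCast]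
  · intro m
    rw [ι_eq_zsmul, map_zsmul, map_zsmul, h]
  · intro a b ha hb
    rw [map_mul, map_mul, ha, hb]
  · intro a b ha hb
    rw [map_add, map_add, ha, hb]


/-- The `ULift ℤ`-algebra structure every commutative ring has. -/
abbrev algZ (R : Type u) [CommRing R] : Algebra (ULift.{u} ℤ) R :=
  ((Int.castRingHom R).comp (ULift.ringEquiv : ULift.{u} ℤ ≃+* ℤ).toRingHom).toAlgebra

/-- The ring map `ℤ[X] → R` sending `X` to `a`. -/
def ringHomOfFn {R : Type u} [CommRing R] (a : R) : Coord.{u} →+* R :=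
  letI := algZ R
  (SymmetricAlgebra.lift
    (@LinearMap.toSpanSingleton (ULift.{u} ℤ) R _ _ Algebra.toModule a)).toRingHom

theorem ringHomOfFn_gen {R : Type u} [CommRing R] (a : R) : ringHomOfFn a gen.{u} = a := by
  letI := algZ R
  change SymmetricAlgebra.lift
    (@LinearMap.toSpanSingleton (ULift.{u} ℤ) R _ _ Algebra.toModule a) gen = a
  rw [SymmetricAlgebra.lift_ι_apply, LinearMap.toSpanSingleton_apply, Algebra.smul_def]
  change ((1 : ℤ) : R) * a = a
  rw [Int.cast_one, _root_.one_mul]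


variable {S : Scheme.{u}} {T T' : Over S}

/-! ### From points to functions -/

abbrev specPt (x : T ⟶ Red.Ga S) : T.left ⟶ Spec (CommRingCat.of Coord.{u}) :=
  x.left ≫ pullback.fst GaZ.hom (toBaseZ S)

def ringHomOfPt (x : T ⟶ Red.Ga S) : Coord.{u} →+* Γ(T.left, ⊤) :=
  (coordIso.inv ≫ (specPt x).appTop).hom

theorem ringHomOfPt_gen (x : T ⟶ Red.Ga S) : ringHomOfPt x gen = Red.gaFn x := rfl

/-! ### From functions to points -/

def homOfFn (a : Γ(T.left, ⊤)) : CommRingCat.of Coord.{u} ⟶ Γ(T.left, ⊤) :=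
  CommRingCat.ofHom (ringHomOfFn a)

def specOfFn (a : Γ(T.left, ⊤)) : T.left ⟶ Spec (CommRingCat.of Coord.{u}) :=
  ΓSpec.adjunction.homEquiv T.left (op (CommRingCat.of Coord.{u})) (homOfFn a).op

theorem coordIso_inv_specOfFn (a : Γ(T.left, ⊤)) :
    coordIso.inv ≫ (specOfFn a).appTop = homOfFn a :=
  ΓSpecIso_inv_ΓSpec_adjunction_homEquiv _

theorem specOfFn_w (a : Γ(T.left, ⊤)) : specOfFn a ≫ GaZ.hom = T.hom ≫ toBaseZ S :=
  specULiftZIsTerminal.hom_ext _ _

/-- The point of the additive group over `T` attached to a global function. -/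
def ptOfFn (a : Γ(T.left, ⊤)) : T ⟶ Red.Ga S :=
  Over.homMk (pullback.lift (specOfFn a) T.hom (specOfFn_w a)) (pullback.lift_snd _ _ _)

theorem specPt_ptOfFn (a : Γ(T.left, ⊤)) : specPt (ptOfFn a) = specOfFn a :=
  pullback.lift_fst _ _ _

theorem ringHomOfPt_ptOfFn (a : Γ(T.left, ⊤)) : ringHomOfPt (ptOfFn a) = ringHomOfFn a := by
  change (coordIso.inv ≫ (specPt (ptOfFn a)).appTop).hom = _
  rw [specPt_ptOfFn, coordIso_inv_specOfFn]
  rfl

theorem gaFn_ptOfFn (a : Γ(T.left, ⊤)) : Red.gaFn (ptOfFn a) = a := by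
  rw [← ringHomOfPt_gen, ringHomOfPt_ptOfFn, ringHomOfFn_gen]

theorem ringHomOfFn_gaFn (x : T ⟶ Red.Ga S) : ringHomOfFn (Red.gaFn x) = ringHomOfPt x :=
  ringHom_ext_gen (by rw [ringHomOfFn_gen]; rfl)

theorem specOfFn_gaFn (x : T ⟶ Red.Ga S) : specOfFn (Red.gaFn x) = specPt x := by
  have h : (homOfFn (Red.gaFn x)).op =
      (ΓSpec.adjunction.homEquiv T.left (op (CommRingCat.of Coord.{u}))).symm (specPt x) := by
    rw [Adjunction.homEquiv_counit, ΓSpec.adjunction_counit_app]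
    change (homOfFn (Red.gaFn x)).op = (coordIso.inv ≫ (specPt x).appTop).op
    congr 1
    ext1
    exact ringHomOfFn_gaFn x
  rw [specOfFn, h, Equiv.apply_symm_apply]

theorem ptOfFn_gaFn (x : T ⟶ Red.Ga S) : ptOfFn (Red.gaFn x) = x := by
  ext1
  apply pullback.hom_ext
  · exact (specPt_ptOfFn _).trans (specOfFn_gaFn x)
  · exact (pullback.lift_snd _ _ _).trans (Over.w x).symm

theorem gaFn_injective : Function.Injective (Red.gaFn : (T ⟶ Red.Ga S) → Γ(T.left, ⊤)) := by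
  intro x y h
  rw [← ptOfFn_gaFn x, ← ptOfFn_gaFn y, h]

theorem gaFn_surjective : Function.Surjective (Red.gaFn : (T ⟶ Red.Ga S) → Γ(T.left, ⊤)) :=
  fun a => ⟨ptOfFn a, gaFn_ptOfFn a⟩

/-! ### Naturality -/

theorem ringHomOfPt_comp (g : T' ⟶ T) (x : T ⟶ Red.Ga S) :
    ringHomOfPt (g ≫ x) = g.left.appTop.hom.comp (ringHomOfPt x) := by
  change (coordIso.inv ≫ ((g ≫ x).left ≫ pullback.fst GaZ.hom (toBaseZ S)).appTop).hom = _
  rw [Over.comp_left, Category.assoc, Scheme.Hom.comp_appTop]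
  rfl

theorem gaFn_comp (g : T' ⟶ T) (x : T ⟶ Red.Ga S) :
    Red.gaFn (g ≫ x) = g.left.appTop.hom (Red.gaFn x) := by
  rw [← ringHomOfPt_gen, ringHomOfPt_comp]
  rfl


/-! ### Additivity: unfolding the transported group law -/

theorem specMap_appTop_coordIso_inv {R : CommRingCat.{u}} (φ : CommRingCat.of Coord.{u} ⟶ R)
    (c : Coord.{u}) :
    (Spec.map φ).appTop (coordIso.inv c) = (Scheme.ΓSpecIso R).inv (φ c) := by
  have h := congrArg (fun ψ => (ConcreteCategory.hom ψ) c) (Scheme.ΓSpecIso_inv_naturality φ)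
  exact h.symm

def pairPt (x y : T ⟶ Red.Ga S) : T.left ⟶ (GaZ ⊗ GaZ).left :=
  (lift x y).left ≫ (Functor.LaxMonoidal.μ (Over.pullback (toBaseZ S)) GaZ GaZ).left ≫
    pullback.fst (GaZ ⊗ GaZ).hom (toBaseZ S)

theorem specPt_mul (x y : T ⟶ Red.Ga S) : specPt (x * y) = pairPt x y ≫ μ[GaZ].left := by
  have h1 : x * y = lift x y ≫ μ[Red.Ga S] := Hom.mul_def x y
  have h2 : μ[Red.Ga S] = Functor.LaxMonoidal.μ (Over.pullback (toBaseZ S)) GaZ GaZ ≫
      (Over.pullback (toBaseZ S)).map μ[GaZ] := rfl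
  have h3 := GmPts.pullback_map_left_fst (S := S) μ[GaZ]
  rw [specPt, pairPt, h1, h2, Over.comp_left, Over.comp_left]
  simp only [Category.assoc]
  exact _ ≫= (_ ≫= h3)

theorem pairPt_fst (x y : T ⟶ Red.Ga S) :
    pairPt x y ≫ pullback.fst GaZ.hom GaZ.hom = specPt x := by
  rw [pairPt, Category.assoc, Category.assoc, Over.μ_pullback_left_fst_fst, ← Category.assoc]
  congr 1
  rw [← Over.fst_left, ← Over.comp_left, lift_fst]

theorem pairPt_snd (x y : T ⟶ Red.Ga S) :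
    pairPt x y ≫ pullback.snd GaZ.hom GaZ.hom = specPt y := by
  rw [pairPt, Category.assoc, Category.assoc, Over.μ_pullback_left_fst_snd, ← Category.assoc]
  congr 1
  rw [← Over.snd_left, ← Over.comp_left, lift_snd]

theorem specMap_appTop_ΓSpecIso_inv {A B : CommRingCat.{u}} (φ : A ⟶ B) (c : A) :
    (Spec.map φ).appTop ((Scheme.ΓSpecIso A).inv c) = (Scheme.ΓSpecIso B).inv (φ c) := by
  have h := congrArg (fun ψ => (ConcreteCategory.hom ψ) c) (Scheme.ΓSpecIso_inv_naturality φ)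
  exact h.symm

theorem mul_appTop_of_primitive {R A : Type u} [CommRing R] [CommRing A] [Bialgebra R A] (a : A)
    (ha : Coalgebra.comul (R := R) a = a ⊗ₜ[R] (1 : A) + (1 : A) ⊗ₜ[R] a) :
    μ[(Spec (CommRingCat.of A)).asOver (Spec (CommRingCat.of R))].left.appTop
        ((Scheme.ΓSpecIso (CommRingCat.of A)).inv a) =
      (pullback.fst ((Spec (CommRingCat.of A)).asOver (Spec (CommRingCat.of R))).hom
          ((Spec (CommRingCat.of A)).asOver (Spec (CommRingCat.of R))).hom).appTop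
          ((Scheme.ΓSpecIso (CommRingCat.of A)).inv a) +
        (pullback.snd ((Spec (CommRingCat.of A)).asOver (Spec (CommRingCat.of R))).hom
          ((Spec (CommRingCat.of A)).asOver (Spec (CommRingCat.of R))).hom).appTop
          ((Scheme.ΓSpecIso (CommRingCat.of A)).inv a) := by
  let iL : A →+* A ⊗[R] A := Algebra.TensorProduct.includeLeftRingHom
  let iR : A →+* A ⊗[R] A :=
    ((Algebra.TensorProduct.includeRight (R := R) (A := A) (B := A) : A →ₐ[R] A ⊗[R] A) :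
      A →+* A ⊗[R] A)
  let fC : Spec (CommRingCat.of A) ⟶ Spec (CommRingCat.of R) :=
    Spec.map (CommRingCat.ofHom (algebraMap R A))
  let psi := pullbackSpecIso R A A
  have hfst : pullback.fst fC fC = psi.hom ≫ Spec.map (CommRingCat.ofHom iL) := by
    rw [← pullbackSpecIso_inv_fst, Iso.hom_inv_id_assoc]
  have hsnd : pullback.snd fC fC = psi.hom ≫ Spec.map (CommRingCat.ofHom iR) := by
    rw [← pullbackSpecIso_inv_snd, Iso.hom_inv_id_assoc]
  have hc : (CommRingCat.ofHom (Bialgebra.comulAlgHom R A).toRingHom) a =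
      (CommRingCat.ofHom iL) a + (CommRingCat.ofHom iR) a := ha
  change (psi.hom ≫ Spec.map (CommRingCat.ofHom (Bialgebra.comulAlgHom R A).toRingHom)).appTop
      ((Scheme.ΓSpecIso (CommRingCat.of A)).inv a) =
    (pullback.fst fC fC).appTop ((Scheme.ΓSpecIso (CommRingCat.of A)).inv a) +
      (pullback.snd fC fC).appTop ((Scheme.ΓSpecIso (CommRingCat.of A)).inv a)
  rw [hfst, hsnd, GmPts.appTop_comp_apply, GmPts.appTop_comp_apply, GmPts.appTop_comp_apply,
    specMap_appTop_ΓSpecIso_inv, specMap_appTop_ΓSpecIso_inv, specMap_appTop_ΓSpecIso_inv, hc,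
    map_add, map_add]

theorem mul_appTop_gen : μ[GaZ].left.appTop (coordIso.inv gen.{u}) =
    (pullback.fst GaZ.hom GaZ.hom).appTop (coordIso.inv gen) +
      (pullback.snd GaZ.hom GaZ.hom).appTop (coordIso.inv gen) :=
  mul_appTop_of_primitive (R := ULift.{u} ℤ) (A := Coord.{u}) gen
    (SymmetricAlgebra.comul_ι (ULift.{u} ℤ) (ULift.{u} ℤ) (ULift.up 1))

/-- `Red.gaFn` is additive. -/
theorem gaFn_mul (x y : T ⟶ Red.Ga S) : Red.gaFn (x * y) = Red.gaFn x + Red.gaFn y := by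
  have e1 : Red.gaFn (x * y) = (pairPt x y).appTop (μ[GaZ].left.appTop (coordIso.inv gen)) := by
    change (specPt (x * y)).appTop (coordIso.inv gen) = _
    rw [specPt_mul]
    exact GmPts.appTop_comp_apply _ _ _
  have hx : (pairPt x y).appTop ((pullback.fst GaZ.hom GaZ.hom).appTop (coordIso.inv gen)) =
      Red.gaFn x := by
    have h := (GmPts.appTop_comp_apply (pairPt x y) (pullback.fst GaZ.hom GaZ.hom)
      (coordIso.inv gen)).symm
    rw [pairPt_fst] at h
    exact h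
  have hy : (pairPt x y).appTop ((pullback.snd GaZ.hom GaZ.hom).appTop (coordIso.inv gen)) =
      Red.gaFn y := by
    have h := (GmPts.appTop_comp_apply (pairPt x y) (pullback.snd GaZ.hom GaZ.hom)
      (coordIso.inv gen)).symm
    rw [pairPt_snd] at h
    exact h
  rw [e1, mul_appTop_gen, map_add, hx, hy]


theorem gaFn_one : Red.gaFn (1 : T ⟶ Red.Ga S) = 0 := by
  have h := gaFn_mul (1 : T ⟶ Red.Ga S) 1
  have h1 : (1 : T ⟶ Red.Ga S) * 1 = 1 := _root_.mul_one (1 : T ⟶ Red.Ga S)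
  rw [h1] at h
  exact left_eq_add.mp h

theorem gaFn_inv (x : T ⟶ Red.Ga S) : Red.gaFn x⁻¹ = - Red.gaFn x := by
  have h := gaFn_mul x⁻¹ x
  have h1 : x⁻¹ * x = 1 := inv_mul_cancel x
  rw [h1, gaFn_one] at h
  exact eq_neg_of_add_eq_zero_left h.symm

theorem ptOfFn_add (a b : Γ(T.left, ⊤)) :
    (ptOfFn (a + b) : T ⟶ Red.Ga S) = ptOfFn a * ptOfFn b := by
  apply gaFn_injective
  rw [gaFn_mul, gaFn_ptOfFn, gaFn_ptOfFn, gaFn_ptOfFn]

theorem ptOfFn_zero : (ptOfFn (0 : Γ(T.left, ⊤)) : T ⟶ Red.Ga S) = 1 := by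
  apply gaFn_injective
  rw [gaFn_one, gaFn_ptOfFn]

theorem ptOfFn_neg (a : Γ(T.left, ⊤)) : (ptOfFn (-a) : T ⟶ Red.Ga S) = (ptOfFn a)⁻¹ := by
  apply gaFn_injective
  rw [gaFn_inv, gaFn_ptOfFn, gaFn_ptOfFn]

theorem ptOfFn_comp (g : T' ⟶ T) (a : Γ(T.left, ⊤)) :
    g ≫ (ptOfFn a : T ⟶ Red.Ga S) = ptOfFn (g.left.appTop.hom a) := by
  apply gaFn_injective
  rw [gaFn_comp, gaFn_ptOfFn, gaFn_ptOfFn]

/-- Points of `𝔾_a` over `T` are the global functions on `T`, additively. -/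
def equiv (T : Over S) : Multiplicative Γ(T.left, ⊤) ≃* (T ⟶ Red.Ga S) where
  toFun a := ptOfFn (Multiplicative.toAdd a)
  invFun x := Multiplicative.ofAdd (Red.gaFn x)
  left_inv a := by
    change Multiplicative.ofAdd (Red.gaFn (ptOfFn (Multiplicative.toAdd a))) = a
    rw [gaFn_ptOfFn]
    rfl
  right_inv x := ptOfFn_gaFn x
  map_mul' a b := ptOfFn_add _ _

end Groth.Agent.Lib.Helper4.GaPts
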