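import Mathlib

/-!
# Numerical polynomials in several variables via forward differences (helper4)

`pair f P = Σ_m P_m • f m` is the pairing between integer polynomials in the shift operators and functions
`(ι → ℕ) → G`.  `IsNumPolyLt e f` says that `f` is killed by the `e`-th power of the augmentation ideal
`(X_i - 1)`: all `e`-fold mixed forward differences of `f` vanish.
-/

set_option autoImplicit false
open MvPolynomial Finset

namespace Groth.Agent.Lib.Helper4.NumPoly

variable {ι : Type*} [Fintype ι] [DecidableEq ι] {G : Type*} [AddCommGroup G]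

/-- the pairing `⟨P, f⟩ = Σ_m P_m • f m` -/
noncomputable def pair (f : (ι → ℕ) → G) : MvPolynomial ι ℤ →ₗ[ℤ] G :=
  (MvPolynomial.basisMonomials ι ℤ).constr ℤ (fun m : ι →₀ ℕ => f ⇑m)

theorem pair_monomial (f : (ι → ℕ) → G) (m : ι →₀ ℕ) (a : ℤ) :
    pair f (monomial m a) = a • f ⇑m := by
  have h : (monomial m a : MvPolynomial ι ℤ) = a • MvPolynomial.basisMonomials ι ℤ m := by
    rw [MvPolynomial.coe_basisMonomials, MvPolynomial.smul_monomial, smul_eq_mul, mul_one]
  rw [h, map_smul]
  unfold pair
  rw [Module.Basis.constr_basis]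

theorem pair_add_fun (f g : (ι → ℕ) → G) (P : MvPolynomial ι ℤ) :
    pair (f + g) P = pair f P + pair g P := by
  induction P using MvPolynomial.induction_on' with
  | monomial m a => simp [pair_monomial]
  | add p q hp hq => rw [map_add, hp, hq, map_add, map_add]; abel

theorem pair_neg_fun (f : (ι → ℕ) → G) (P : MvPolynomial ι ℤ) :
    pair (-f) P = - pair f P := by
  induction P using MvPolynomial.induction_on' with
  | monomial m a => simp [pair_monomial]
  | add p q hp hq => rw [map_add, hp, hq, map_add]; abel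

theorem pair_sub_fun (f g : (ι → ℕ) → G) (P : MvPolynomial ι ℤ) :
    pair (f - g) P = pair f P - pair g P := by
  rw [sub_eq_add_neg, pair_add_fun, pair_neg_fun, sub_eq_add_neg]

theorem pair_zero_fun (P : MvPolynomial ι ℤ) : pair (0 : (ι → ℕ) → G) P = 0 := by
  induction P using MvPolynomial.induction_on' with
  | monomial m a => simp [pair_monomial]
  | add p q hp hq => rw [map_add, hp, hq, add_zero]

/-- the forward difference in the direction `i` -/
def Δ (i : ι) (f : (ι → ℕ) → G) : (ι → ℕ) → G := fun n => f (n + Pi.single i 1) - f n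

theorem pair_mul_X_sub_one (f : (ι → ℕ) → G) (i : ι) (P : MvPolynomial ι ℤ) :
    pair f (P * (X i - 1)) = pair (Δ i f) P := by
  induction P using MvPolynomial.induction_on' with
  | monomial m a =>
    have : monomial m a * (X i - 1 : MvPolynomial ι ℤ) =
        monomial (m + Finsupp.single i 1) a - monomial m a := by
      rw [mul_sub, mul_one, X, monomial_mul, mul_one]
    rw [this, map_sub, pair_monomial, pair_monomial, pair_monomial, Δ, smul_sub]
    congr 3
    funext j
    simp [Finsupp.single_apply, Pi.single_apply, eq_comm]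
  | add p q hp hq => rw [add_mul, map_add, hp, hq, map_add]

/-- the augmentation ideal of the shift algebra -/
noncomputable def aug (ι : Type*) : Ideal (MvPolynomial ι ℤ) :=
  Ideal.span (Set.range fun i : ι => (X i - 1 : MvPolynomial ι ℤ))

/-- all `e`-fold mixed differences of `f` vanish -/
def IsNumPolyLt (e : ℕ) (f : (ι → ℕ) → G) : Prop := ∀ P ∈ aug ι ^ e, pair f P = 0

theorem isNumPolyLt_zero_iff (f : (ι → ℕ) → G) : IsNumPolyLt 0 f ↔ f = 0 := by
  constructor
  · intro h
    funext n
    have := h (monomial (Finsupp.equivFunOnFinite.symm n) 1) (by simp)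
    rw [pair_monomial, one_smul] at this
    simpa using this
  · rintro rfl P -
    exact pair_zero_fun P

theorem IsNumPolyLt.zero (e : ℕ) : IsNumPolyLt e (0 : (ι → ℕ) → G) := fun P _ => pair_zero_fun P

theorem IsNumPolyLt.add {e : ℕ} {f g : (ι → ℕ) → G} (hf : IsNumPolyLt e f) (hg : IsNumPolyLt e g) :
    IsNumPolyLt e (f + g) := fun P hP => by rw [pair_add_fun, hf P hP, hg P hP, add_zero]

theorem IsNumPolyLt.sub {e : ℕ} {f g : (ι → ℕ) → G} (hf : IsNumPolyLt e f) (hg : IsNumPolyLt e g) :
    IsNumPolyLt e (f - g) := fun P hP => by rw [pair_sub_fun, hf P hP, hg P hP, sub_zero]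

theorem IsNumPolyLt.neg {e : ℕ} {f : (ι → ℕ) → G} (hf : IsNumPolyLt e f) :
    IsNumPolyLt e (-f) := fun P hP => by rw [pair_neg_fun, hf P hP, neg_zero]

theorem IsNumPolyLt.mono {e e' : ℕ} (h : e ≤ e') {f : (ι → ℕ) → G} (hf : IsNumPolyLt e f) :
    IsNumPolyLt e' f := fun P hP => hf P (Ideal.pow_le_pow_right h hP)

theorem pair_mul_of_mem_aug {e : ℕ} {f : (ι → ℕ) → G} (h : ∀ i, IsNumPolyLt e (Δ i f))
    {q : MvPolynomial ι ℤ} (hq : q ∈ aug ι) : ∀ p ∈ aug ι ^ e, pair f (p * q) = 0 := by
  unfold aug at hq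
  refine Submodule.span_induction (p := fun q _ => ∀ p ∈ aug ι ^ e, pair f (p * q) = 0) ?_ ?_ ?_ ?_ hq
  · rintro _ ⟨i, rfl⟩ p hp
    rw [pair_mul_X_sub_one]
    exact h i p hp
  · intro p _
    simp
  · intro x y _ _ hx hy p hp
    rw [mul_add, map_add, hx p hp, hy p hp, add_zero]
  · intro a x _ hx p hp
    rw [smul_eq_mul, ← mul_assoc]
    exact hx (p * a) (Ideal.mul_mem_right a _ hp)

/-- if all first differences have vanishing `e`-fold differences, `f` has vanishing `(e+1)`-fold differences -/
theorem isNumPolyLt_succ_of_Δ {e : ℕ} {f : (ι → ℕ) → G} (h : ∀ i, IsNumPolyLt e (Δ i f)) :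
    IsNumPolyLt (e + 1) f := by
  intro P hP
  rw [pow_succ] at hP
  refine Submodule.mul_induction_on hP ?_ ?_
  · intro p hp q hq
    exact pair_mul_of_mem_aug h hq p hp
  · intro x y hx hy
    rw [map_add, hx, hy, add_zero]

end Groth.Agent.Lib.Helper4.NumPoly
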