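import Mathlib
import Groth.Agent.Lib.Helper4.NumPoly1

set_option autoImplicit false
open MvPolynomial Finset

namespace Groth.Agent.Lib.Helper4.NumPoly

variable {ι : Type*} [Fintype ι] [DecidableEq ι] {G : Type*} [AddCommGroup G]

/-- the monomial in the differences `Y_i = X_i - 1` -/
noncomputable def Y (k : ι → ℕ) : MvPolynomial ι ℤ := ∏ i, (X i - 1 : MvPolynomial ι ℤ) ^ k i

theorem Y_mem (k : ι → ℕ) : Y k ∈ aug ι ^ (∑ i, k i) := by
  unfold Y
  rw [← Finset.prod_pow_eq_pow_sum]
  apply Ideal.prod_mem_prod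
  intro i _
  apply Ideal.pow_mem_pow
  exact Ideal.subset_span ⟨i, rfl⟩

theorem pair_prod_X_pow (f : (ι → ℕ) → G) (n : ι → ℕ) :
    pair f (∏ i, (X i : MvPolynomial ι ℤ) ^ n i) = f n := by
  have h : (∏ i, (X i : MvPolynomial ι ℤ) ^ n i) = monomial (Finsupp.equivFunOnFinite.symm n) 1 := by
    rw [MvPolynomial.monomial_eq, C_1, one_mul, Finsupp.prod_fintype]
    · rfl
    · intro i; simp
  rw [h, pair_monomial, one_smul]
  rfl

theorem prod_X_pow_eq_sum (n : ι → ℕ) :
    (∏ i, (X i : MvPolynomial ι ℤ) ^ n i) =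
      ∑ k ∈ Fintype.piFinset (fun i => Finset.range (n i + 1)),
        ((∏ i, (n i).choose (k i) : ℕ) : ℤ) • Y k := by
  have h1 : ∀ i, (X i : MvPolynomial ι ℤ) ^ n i =
      ∑ j ∈ Finset.range (n i + 1), (X i - 1 : MvPolynomial ι ℤ) ^ j * ((n i).choose j : MvPolynomial ι ℤ) := by
    intro i
    have : (X i : MvPolynomial ι ℤ) = (X i - 1) + 1 := by ring
    conv_lhs => rw [this, add_pow]
    apply Finset.sum_congr rfl
    intro j _
    rw [one_pow, mul_one]
  simp_rw [h1]
  rw [Finset.prod_univ_sum]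
  apply Finset.sum_congr rfl
  intro k _
  rw [Finset.prod_mul_distrib]
  unfold Y
  rw [zsmul_eq_mul, mul_comm]
  congr 1
  push_cast
  rfl

/-- **Newton expansion**: a function all of whose `(e+1)`-fold differences vanish is a combination of products of
binomial coefficients. -/
theorem newton {e : ℕ} {f : (ι → ℕ) → G} (hf : IsNumPolyLt (e + 1) f) (n : ι → ℕ) :
    f n = ∑ k ∈ (Fintype.piFinset (fun i => Finset.range (n i + 1))).filter (fun k => ∑ i, k i ≤ e),
      ((∏ i, (n i).choose (k i) : ℕ) : ℤ) • pair f (Y k) := by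
  rw [← pair_prod_X_pow f n, prod_X_pow_eq_sum, map_sum, Finset.sum_filter]
  apply Finset.sum_congr rfl
  intro k _
  rw [map_smul]
  split_ifs with h
  · rfl
  · rw [hf (Y k) (Ideal.pow_le_pow_right (by omega) (Y_mem k)), smul_zero]

/-- same expansion with a summation range independent of `n` -/
theorem newton' {e : ℕ} {f : (ι → ℕ) → G} (hf : IsNumPolyLt (e + 1) f) (n : ι → ℕ) :
    f n = ∑ k ∈ (Fintype.piFinset (fun _ : ι => Finset.range (e + 1))).filter (fun k => ∑ i, k i ≤ e),
      ((∏ i, (n i).choose (k i) : ℕ) : ℤ) • pair f (Y k) := by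
  rw [newton hf n]
  symm
  have hle : ∀ (k : ι → ℕ), ∑ i, k i ≤ e → ∀ i, k i ≤ e := fun k hk i =>
    (Finset.single_le_sum (fun _ _ => Nat.zero_le _) (Finset.mem_univ i)).trans hk
  rw [← Finset.sum_subset (s₁ := (Fintype.piFinset (fun i => Finset.range (n i + 1))).filter
    (fun k => ∑ i, k i ≤ e))]
  · intro k hk
    rw [Finset.mem_filter, Fintype.mem_piFinset] at hk ⊢
    refine ⟨fun i => ?_, hk.2⟩
    rw [Finset.mem_range]
    have := hle k hk.2 i
    omega
  · intro k hk hk'
    rw [Finset.mem_filter, Fintype.mem_piFinset] at hk hk'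
    have : ∃ i, n i < k i := by
      by_contra hcon
      push_neg at hcon
      apply hk'
      refine ⟨fun i => ?_, hk.2⟩
      rw [Finset.mem_range]
      have := hcon i
      omega
    obtain ⟨i, hi⟩ := this
    have : (∏ i, (n i).choose (k i) : ℕ) = 0 := by
      apply Finset.prod_eq_zero (Finset.mem_univ i)
      exact Nat.choose_eq_zero_of_lt hi
    rw [this]
    simp

end Groth.Agent.Lib.Helper4.NumPoly
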