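import Mathlib
import Groth.Agent.Lib.Helper4.NumPoly2

set_option autoImplicit false
open MvPolynomial Finset

namespace Groth.Agent.Lib.Helper4.NumPoly

variable {ι : Type*} [Fintype ι] [DecidableEq ι]

/-- the binomial polynomial `x ↦ x.choose j` -/
noncomputable def bp (j : ℕ) : Polynomial ℚ :=
  Polynomial.C ((j.factorial : ℚ)⁻¹) * descPochhammer ℚ j

theorem bp_eval (j n : ℕ) : (bp j).eval (n : ℚ) = (n.choose j : ℚ) := by
  unfold bp
  rw [Polynomial.eval_mul, Polynomial.eval_C, descPochhammer_eval_eq_descFactorial,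
    Nat.descFactorial_eq_factorial_mul_choose]
  push_cast
  rw [← mul_assoc, inv_mul_cancel₀ (by exact_mod_cast (Nat.factorial_ne_zero j)), one_mul]

theorem bp_natDegree_le (j : ℕ) : (bp j).natDegree ≤ j := by
  unfold bp
  refine (Polynomial.natDegree_C_mul_le _ _).trans ?_
  rw [descPochhammer_natDegree]

/-- a univariate polynomial in the variable `X i` -/
noncomputable def inVar (i : ι) (p : Polynomial ℚ) : MvPolynomial ι ℚ :=
  Polynomial.aeval (X i : MvPolynomial ι ℚ) p

theorem eval_inVar (x : ι → ℚ) (i : ι) (p : Polynomial ℚ) : eval x (inVar i p) = p.eval (x i) := by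
  unfold inVar
  have := Polynomial.aeval_algHom_apply (MvPolynomial.aeval x : MvPolynomial ι ℚ →ₐ[ℚ] ℚ) (X i) p
  rw [MvPolynomial.aeval_X] at this
  rw [← MvPolynomial.aeval_eq_eval, ← this]
  exact (Polynomial.coe_aeval_eq_eval (x i) ▸ rfl : Polynomial.aeval (x i) p = p.eval (x i))

theorem totalDegree_inVar_le (i : ι) (p : Polynomial ℚ) : (inVar i p).totalDegree ≤ p.natDegree := by
  unfold inVar
  rw [Polynomial.aeval_eq_sum_range]
  apply totalDegree_finsetSum_le
  intro j hj
  rw [Finset.mem_range] at hj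
  refine (totalDegree_smul_le _ _).trans ?_
  rw [totalDegree_X_pow]
  omega

/-- the product of binomial polynomials `∏_i (x_i choose k_i)` -/
noncomputable def B (k : ι → ℕ) : MvPolynomial ι ℚ := ∏ i, inVar i (bp (k i))

theorem eval_B (k n : ι → ℕ) : eval (fun i => (n i : ℚ)) (B k) = ((∏ i, (n i).choose (k i) : ℕ) : ℚ) := by
  unfold B
  rw [map_prod]
  push_cast
  apply Finset.prod_congr rfl
  intro i _
  rw [eval_inVar, bp_eval]

theorem totalDegree_B_le (k : ι → ℕ) : (B k).totalDegree ≤ ∑ i, k i := by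
  unfold B
  refine (totalDegree_finsetProd _ _).trans ?_
  apply Finset.sum_le_sum
  intro i _
  exact (totalDegree_inVar_le _ _).trans (bp_natDegree_le _)

/-- the Newton polynomial of `f` truncated in degree `e` -/
noncomputable def newtonPoly (e : ℕ) (f : (ι → ℕ) → ℚ) : MvPolynomial ι ℚ :=
  ∑ k ∈ (Fintype.piFinset (fun _ : ι => Finset.range (e + 1))).filter (fun k => ∑ i, k i ≤ e),
    C (pair f (Y k)) * B k

theorem totalDegree_newtonPoly_le (e : ℕ) (f : (ι → ℕ) → ℚ) : (newtonPoly e f).totalDegree ≤ e := by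
  unfold newtonPoly
  apply totalDegree_finsetSum_le
  intro k hk
  rw [Finset.mem_filter] at hk
  refine (totalDegree_mul _ _).trans ?_
  rw [totalDegree_C, zero_add]
  exact (totalDegree_B_le k).trans hk.2

theorem eval_newtonPoly {e : ℕ} {f : (ι → ℕ) → ℚ} (hf : IsNumPolyLt (e + 1) f) (n : ι → ℕ) :
    eval (fun i => (n i : ℚ)) (newtonPoly e f) = f n := by
  rw [newton' hf n]
  unfold newtonPoly
  rw [map_sum]
  apply Finset.sum_congr rfl
  intro k _
  rw [map_mul, eval_C, eval_B, zsmul_eq_mul, mul_comm]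
  push_cast
  rfl

/-- **numerical polynomials are polynomials.** -/
theorem exists_mvPolynomial {e : ℕ} {f : (ι → ℕ) → ℚ} (hf : IsNumPolyLt (e + 1) f) :
    ∃ P : MvPolynomial ι ℚ, P.totalDegree ≤ e ∧ ∀ n : ι → ℕ, f n = eval (fun i => (n i : ℚ)) P :=
  ⟨newtonPoly e f, totalDegree_newtonPoly_le e f, fun n => (eval_newtonPoly hf n).symm⟩

end Groth.Agent.Lib.Helper4.NumPoly
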