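import Groth.Agent.Lib.Helper6.K0Op2
import Groth.Agent.Lib.Helper8.K0Add
import Groth.Agent.Lib.Helper8.EulerK
import Groth.Agent.Lib.Helper28.TensorPowGen
import Groth.Agent.Lib.Helper4.NumPoly3
import Groth.Prelude.Def_Curv2
import Mathlib
set_option backward.isDefEq.respectTransparency.types false
set_option autoImplicit false
set_option linter.style.haveILetI false

/-!
# Snapper's theorem, K-theoretic part (helper4)

`(1 - [M ⊗ -])` lowers the filtration of `K'_0(X)` by dimension of support (topological Krull dimension), for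
`M` invertible; consequently `n ↦ [F ⊗ L^n]` has vanishing `(d+1)`-fold differences when `dim Supp F ≤ d`.
Built on helper6's `cycle_formula_dim` and `Top` operators.
-/

universe u
open CategoryTheory CategoryTheory.Limits AlgebraicGeometry Opposite TopologicalSpace

namespace Groth.Agent.Lib.Helper4.Snapper
open Groth.Agent.Lib.Helper6.K0Filt Groth.Agent.Lib.Helper6.K0Len Groth.Agent.Lib.Helper6.K0Op
  Groth.Agent.Lib.Helper6.K0Tensor Groth.Agent.Lib.Helper4.NumPoly

variable {X : Scheme.{u}}

/-- `K'_0(X)` -/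
abbrev K0 (X : Scheme.{u}) := KZero.K0sub (fun M : X.Modules => Coh.IsCoh M)

theorem lt_succ_iff_le (x : WithBot ℕ∞) (n : ℕ) : x < ((n + 1 : ℕ) : WithBot ℕ∞) ↔ x ≤ (n : WithBot ℕ∞) := by
  induction x using WithBot.recBotCoe with
  | bot => simp
  | coe x =>
    induction x using ENat.recTopCoe with
    | top =>
      simp only [Nat.cast_add, Nat.cast_one]
      constructor
      · intro h
        exfalso
        have : ((⊤ : ℕ∞) : WithBot ℕ∞) < (((n + 1 : ℕ) : ℕ∞) : WithBot ℕ∞) := by exact_mod_cast h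
        rw [WithBot.coe_lt_coe] at this
        exact absurd this (by simp)
      · intro h
        exfalso
        have : ((⊤ : ℕ∞) : WithBot ℕ∞) ≤ (((n : ℕ) : ℕ∞) : WithBot ℕ∞) := by exact_mod_cast h
        rw [WithBot.coe_le_coe] at this
        exact absurd this (by simp)
    | coe m =>
      have h1 : (((m : ℕ∞) : WithBot ℕ∞) < ((n + 1 : ℕ) : WithBot ℕ∞)) ↔ m < n + 1 := by
        exact_mod_cast Iff.rfl
      have h2 : (((m : ℕ∞) : WithBot ℕ∞) ≤ ((n : ℕ) : WithBot ℕ∞)) ↔ m ≤ n := by
        exact_mod_cast Iff.rfl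
      rw [h1, h2]
      omega

theorem Hlt_mono (n : ℕ) : Hlt X n ≤ Hlt X (n + 1) := by
  unfold Hlt
  apply AddSubgroup.closure_mono
  rintro c ⟨G, hG, hd, rfl⟩
  refine ⟨G, hG, hd.trans ?_, rfl⟩
  exact_mod_cast Nat.lt_succ_self n

section lower
variable [IsNoetherian X]

/-- `1 - [M ⊗ -]` lowers the filtration by dimension of support, for `M` invertible -/
theorem sub_Top_mem_Hlt (M : X.Modules) (hM : PicF.IsInvertible M) (n : ℕ) (c : K0 X)
    (hc : c ∈ Hlt X (n + 1)) : (1 - Top M) c ∈ Hlt X n := by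
  have hle : Hlt X (n + 1) ≤ (Hlt X n).comap ((1 - Top M : AddMonoid.End (K0 X))) := by
    conv_lhs => unfold Hlt
    rw [AddSubgroup.closure_le]
    rintro c ⟨G, hG, hd, rfl⟩
    rw [SetLike.mem_coe, AddSubgroup.mem_comap]
    have hMc := isCoh_of_isInvertible M hM
    have hd' : topologicalKrullDim ↥(CohB1.support G) ≤ n := (lt_succ_iff_le _ n).1 hd
    have hcl := Groth.Agent.Lib.Helper6.DevCore.isClosed_support G hG
    obtain ⟨-, h1⟩ := cycle_formula_dim n (CohB1.support G) hcl hd' G hG le_rfl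
    obtain ⟨-, h2⟩ := cycle_formula_dim n (CohB1.support G) hcl hd' (CohB1.tensorMod M G)
      (isCoh_tensorMod M G hMc hG) (support_tensorMod_subset M G hMc hG)
    have hterm : term (Dn n) (CohB1.tensorMod M G) = term (Dn n) G := by
      funext x
      unfold term
      rw [len_tensorMod M G (isFinLocFreeOfRank_one_of_isInvertible M hM) x]
      simp
    rw [hterm] at h2
    have h3 := AddSubgroup.sub_mem _ h1 h2
    change cls G - Top M (cls G) ∈ Hlt X n
    rw [Top_cls M hM G hG]
    simpa using h3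
  exact hle hc

theorem Top_mem_Hlt (M : X.Modules) (hM : PicF.IsInvertible M) (n : ℕ) (c : K0 X)
    (hc : c ∈ Hlt X (n + 1)) : Top M c ∈ Hlt X (n + 1) := by
  have h := Hlt_mono n (sub_Top_mem_Hlt M hM n c hc)
  have : Top M c = c - (1 - Top M) c := by
    change _ = c - (c - Top M c)
    abel
  rw [this]
  exact AddSubgroup.sub_mem _ hc h

end lower

theorem cls_of_isZero (G : X.Modules) (hG : IsZero G) : cls G = 0 :=
  additive_isZero (fun M => cls M)
    (fun S hS h1 h2 h3 => Groth.Agent.Lib.Helper16.K0Db.clSub_shortExact _ S hS h1 h2 h3) G hG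

theorem Hlt_zero : Hlt X 0 = ⊥ := by
  unfold Hlt
  rw [AddSubgroup.closure_eq_bot_iff]
  rintro c ⟨G, hG, hd, rfl⟩
  rw [Set.mem_singleton_iff]
  apply cls_of_isZero
  apply Groth.Agent.Lib.Helper6.DevCore.isZero_of_support_eq_empty
  by_contra hne
  have hne := Set.nonempty_iff_ne_empty.2 hne
  haveI : Nonempty ↥(CohB1.support G) := hne.to_subtype
  have : 0 ≤ topologicalKrullDim ↥(CohB1.support G) := by
    unfold topologicalKrullDim
    obtain ⟨x⟩ := ‹Nonempty ↥(CohB1.support G)›
    haveI : Nonempty (IrreducibleCloseds ↥(CohB1.support G)) :=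
      ⟨⟨closure {x}, isIrreducible_singleton.closure, isClosed_closure⟩⟩
    exact Order.krullDim_nonneg
  exact absurd (lt_of_le_of_lt this hd) (by simp)

end Groth.Agent.Lib.Helper4.Snapper
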