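import Groth.Agent.Lib.Helper24.ConnDim.Subdim
import Groth.Agent.Lib.Helper4.Snapper1
import Mathlib

set_option autoImplicit false
open TopologicalSpace Order Topology

namespace Groth.Agent.Lib.Helper4.DimChain

variable {T : Type*} [TopologicalSpace T]

/-- along a chain of irreducible closed subsets, the dimension is at least the index -/
theorem index_le_dim (l : LTSeries (IrreducibleCloseds T)) (i : ℕ) (hi : i < l.length + 1) :
    (i : WithBot ℕ∞) ≤ topologicalKrullDim ↥(l ⟨i, hi⟩ : Set T) := by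
  induction i with
  | zero =>
    haveI : IrreducibleSpace ↥(l ⟨0, hi⟩ : Set T) := Subtype.irreducibleSpace (l ⟨0, hi⟩).isIrreducible
    haveI : Nonempty (IrreducibleCloseds ↥(l ⟨0, hi⟩ : Set T)) :=
      ⟨⟨Set.univ, IrreducibleSpace.isIrreducible_univ _, isClosed_univ⟩⟩
    exact_mod_cast (Order.krullDim_nonneg : (0 : WithBot ℕ∞) ≤ krullDim (IrreducibleCloseds ↥(l ⟨0, hi⟩ : Set T)))
  | succ i ih =>
    have hi' : i < l.length + 1 := by omega
    have hlt : l ⟨i, hi'⟩ < l ⟨i + 1, hi⟩ := l.strictMono (by simp [Fin.lt_def])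
    have h1 := Groth.Agent.Lib.Helper24.ConnDimSub.dim_add_one_le (l ⟨i + 1, hi⟩).isIrreducible
      (l ⟨i, hi'⟩).isClosed hlt.le (fun h => hlt.ne (IrreducibleCloseds.ext h))
    refine le_trans ?_ h1
    have := ih hi'
    calc ((i + 1 : ℕ) : WithBot ℕ∞) = (i : WithBot ℕ∞) + 1 := by push_cast; rfl
      _ ≤ _ := add_le_add_left this 1

theorem le_of_add_one_le_succ (a : WithBot ℕ∞) (d : ℕ) (h : a + 1 ≤ ((d + 1 : ℕ) : WithBot ℕ∞)) :
    a ≤ (d : WithBot ℕ∞) := by
  induction a using WithBot.recBotCoe with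
  | bot => exact bot_le
  | coe a =>
    induction a using ENat.recTopCoe with
    | top =>
      exfalso
      have h' : (((⊤ : ℕ∞) + 1 : ℕ∞) : WithBot ℕ∞) ≤ (((d + 1 : ℕ) : ℕ∞) : WithBot ℕ∞) := by
        exact_mod_cast h
      rw [WithBot.coe_le_coe] at h'
      simp at h'
    | coe m =>
      have h' : (((m + 1 : ℕ) : ℕ∞) : WithBot ℕ∞) ≤ (((d + 1 : ℕ) : ℕ∞) : WithBot ℕ∞) := by
        exact_mod_cast h
      rw [WithBot.coe_le_coe] at h'
      have h'' : m + 1 ≤ d + 1 := by exact_mod_cast h'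
      have : m ≤ d := by omega
      exact_mod_cast this

/-- in a quasi-sober space of dimension `d + 1` there is a point whose closure has dimension `d` -/
theorem exists_dim_closure_eq [QuasiSober T] (d : ℕ) (hT : topologicalKrullDim T = ((d + 1 : ℕ) : WithBot ℕ∞)) :
    ∃ η : T, topologicalKrullDim ↥(closure ({η} : Set T)) = (d : WithBot ℕ∞) := by
  have h1 : ((d + 1 : ℕ) : WithBot ℕ∞) ≤ krullDim (IrreducibleCloseds T) := hT.ge
  obtain ⟨l, hl⟩ := le_krullDim_iff.mp h1
  have hd : d < l.length + 1 := by omega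
  have hd1 : d + 1 < l.length + 1 := by omega
  obtain ⟨η, hη⟩ := QuasiSober.sober (l ⟨d, hd⟩).isIrreducible (l ⟨d, hd⟩).isClosed
  refine ⟨η, ?_⟩
  rw [hη.def]
  apply le_antisymm
  · have hlt : l ⟨d, hd⟩ < l ⟨d + 1, hd1⟩ := l.strictMono (by simp [Fin.lt_def])
    have h2 := Groth.Agent.Lib.Helper24.ConnDimSub.dim_add_one_le (l ⟨d + 1, hd1⟩).isIrreducible
      (l ⟨d, hd⟩).isClosed hlt.le (fun h => hlt.ne (IrreducibleCloseds.ext h))
    have h3 : topologicalKrullDim ↥(l ⟨d + 1, hd1⟩ : Set T) ≤ ((d + 1 : ℕ) : WithBot ℕ∞) := by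
      rw [← hT]
      exact topologicalKrullDim_subspace_le T _
    exact le_of_add_one_le_succ _ d (h2.trans h3)
  · exact index_le_dim l d hd

/-- a closed subset of dimension `d` contains a point whose closure has dimension `d` -/
theorem exists_mem_dim_closure_eq [QuasiSober T] (S : Set T) (hS : IsClosed S) (d : ℕ)
    (hd : topologicalKrullDim ↥S = (d : WithBot ℕ∞)) :
    ∃ η ∈ S, topologicalKrullDim ↥(closure ({η} : Set T)) = (d : WithBot ℕ∞) := by
  have h1 : (d : WithBot ℕ∞) ≤ krullDim (IrreducibleCloseds ↥S) := hd.ge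
  obtain ⟨l₀, hl₀⟩ := le_krullDim_iff.mp h1
  have hind : IsInducing (Subtype.val : ↥S → T) := IsInducing.subtypeVal
  let l : LTSeries (IrreducibleCloseds T) :=
    l₀.map (IrreducibleCloseds.map Subtype.val hind.continuous)
      (IrreducibleCloseds.map_strictMono_of_isInducing hind)
  have hl : l.length = d := by simp [l, hl₀]
  have hdl : d < l.length + 1 := by omega
  have hsub : (l ⟨d, hdl⟩ : Set T) ⊆ S := by
    show closure (Subtype.val '' (l₀ _ : Set ↥S)) ⊆ S
    apply closure_minimal _ hS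
    rintro _ ⟨x, -, rfl⟩
    exact x.2
  obtain ⟨η, hη⟩ := QuasiSober.sober (l ⟨d, hdl⟩).isIrreducible (l ⟨d, hdl⟩).isClosed
  refine ⟨η, hsub (hη.mem), ?_⟩
  rw [hη.def]
  apply le_antisymm
  · rw [← hd]
    exact (IsEmbedding.inclusion hsub).isInducing.topologicalKrullDim_le
  · exact index_le_dim l d hdl

end Groth.Agent.Lib.Helper4.DimChain
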