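import Groth.Agent.Lib.Helper4.Snapper10
import Groth.Agent.Lib.Helper4.DimChain
import Groth.Agent.Lib.Helper8.CurveInv1
import Groth.Agent.Lib.Helper17.Serre
set_option backward.isDefEq.respectTransparency.types false
set_option autoImplicit false
set_option linter.style.haveILetI false

universe u
open CategoryTheory CategoryTheory.Limits AlgebraicGeometry Opposite TopologicalSpace

namespace Groth.Agent.Lib.Helper4.Snapper
open Groth.Agent.Lib.Helper6.K0Filt Groth.Agent.Lib.Helper6.K0Len Groth.Agent.Lib.Helper6.K0Op
  Groth.Agent.Lib.Helper6.K0Tensor Groth.Agent.Lib.Helper4.NumPoly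

variable {X : Scheme.{u}}

/-- the stalks of an invertible module have length equal to that of the local ring -/
theorem len_of_isInvertible (N : X.Modules) (hN : PicF.IsInvertible N) (x : X) :
    len N x = Module.length (X.presheaf.stalk x) (X.presheaf.stalk x) := by
  obtain ⟨b⟩ := exists_stalkBasis N (isFinLocFreeOfRank_one_of_isInvertible N hN) x
  unfold len
  rw [b.repr.length_eq, Module.length_finsupp]
  simp

theorem support_of_isInvertible (N : X.Modules) (hN : PicF.IsInvertible N) : CohB1.support N = Set.univ := by
  ext x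
  simp only [Set.mem_univ, iff_true]
  obtain ⟨b⟩ := exists_stalkBasis N (isFinLocFreeOfRank_one_of_isInvertible N hN) x
  show ¬ Subsingleton (N.presheaf.stalk x)
  rw [not_subsingleton_iff_nontrivial]
  exact (b.repr.toEquiv.nontrivial_congr).2 inferInstance

theorem len_genericPoint_of_isInvertible [IsIntegral X] (N : X.Modules) (hN : PicF.IsInvertible N) :
    len N (genericPoint X) = 1 := by
  rw [len_of_isInvertible N hN]
  have hF : IsField (X.presheaf.stalk (genericPoint X)) :=
    isField_stalk_of_closure_mem_irreducibleComponents X _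
      (by simp [irreducibleComponents_eq_singleton])
  letI := hF.toField
  rw [Module.length_eq_one_iff]
  infer_instance

theorem isGloballyGenerated_of_iso {M M' : X.Modules} (e : M ≅ M') (h : Curv2.IsGloballyGenerated M) :
    Curv2.IsGloballyGenerated M' := by
  obtain ⟨ι, p, hp⟩ := h
  exact ⟨ι, p ≫ e.hom, epi_comp _ _⟩

section step
variable (k : Type u) [Field k] [X.Over (Spec (CommRingCat.of k))]
    [IsProper (X ↘ (Spec (CommRingCat.of k)))]

open Groth.Agent.Lib.Helper17.Serre in
/-- **the inductive step of positivity** on an integral scheme -/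
theorem hcoef_pos_step [IsIntegral X] (L : X.Modules) (hL : CohB1.IsAmple L) (d : ℕ)
    (hdim : topologicalKrullDim X = ((d + 1 : ℕ) : WithBot ℕ∞))
    (IHpos : ∀ η : X, Dn d η → 0 < hcoef k X L d (cls (OZ η)))
    (IHnn : ∀ G : X.Modules, Coh.IsCoh G → topologicalKrullDim (CohB1.support G) ≤ (d : WithBot ℕ∞) →
      0 ≤ hcoef k X L d (cls G)) :
    0 < hcoef k X L (d + 1) (cls (Coh.structureModule X)) := by
  haveI : IsNoetherian X := isNoetherian_of_proper k
  haveI := hL.2.1
  haveI : X.IsSeparated := Groth.Agent.Lib.Helper28.GenLocus.isSeparated_of_isAmple hL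
  have hLi := hL.1
  -- a point with closure of dimension `d`
  obtain ⟨η, hη⟩ := Groth.Agent.Lib.Helper4.DimChain.exists_dim_closure_eq d hdim
  set I' : X.IdealSheafData := Scheme.IdealSheafData.vanishingIdeal ⟨closure {η}, isClosed_closure⟩ with hI'
  have hO : Coh.IsCoh (Coh.structureModule X) := Groth.Agent.Lib.Helper6.DevRed.isCoh_structureModule
  have hQ : Coh.IsCoh (ClSub.quotMod I') := Groth.Agent.Lib.Helper6.DevRed.isCoh_quotMod I'
  have hI : Coh.IsCoh (ClSub.idealMod I') :=
    Groth.Agent.Lib.Helper6.DevCore.isCoh_kernel (ClSub.toSubscheme I') hO hQ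
  have hS := idealSES_shortExact I'
  -- the generic point is not in the support of the quotient
  have hξQ : genericPoint X ∉ CohB1.support (ClSub.quotMod I') := by
    rw [Groth.Agent.Lib.Helper6.DevRed.support_quotMod_vanishingIdeal]
    intro hmem
    have hsub : (Set.univ : Set X) ⊆ closure {η} := by
      rw [← (genericPoint_spec X).def]
      exact closure_minimal (Set.singleton_subset_iff.2 hmem) isClosed_closure
    have h1 : topologicalKrullDim X ≤ topologicalKrullDim ↥(closure ({η} : Set X)) := by
      rw [← (Homeomorph.Set.univ X).isHomeomorph.topologicalKrullDim_eq]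
      exact (Topology.IsEmbedding.inclusion hsub).isInducing.topologicalKrullDim_le
    rw [hdim, hη] at h1
    have : d + 1 ≤ d := by exact_mod_cast h1
    omega
  -- the ideal is nonzero
  have hI0 : ¬ IsZero (ClSub.idealMod I') := by
    intro hz
    have h1 := len_add _ hS (genericPoint X)
    have h2 : len (ClSub.idealMod I') (genericPoint X) = 0 :=
      len_eq_zero_of_notMem_support _ _ (by
        rw [Groth.Agent.Lib.Helper16.K0Supp.support_of_isZero hz]; exact Set.notMem_empty _)
    have h3 : len (ClSub.quotMod I') (genericPoint X) = 0 := len_eq_zero_of_notMem_support _ _ hξQ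
    have h4 : len (Coh.structureModule X) (genericPoint X) = 1 :=
      len_genericPoint_of_isInvertible _ (Groth.Agent.Lib.Helper28.AmpleUnit.isInvertible_structureModule X)
    change len (Coh.structureModule X) (genericPoint X) = len (ClSub.idealMod I') (genericPoint X) +
      len (ClSub.quotMod I') (genericPoint X) at h1
    rw [h2, h3, h4] at h1
    simp at h1
  -- a nonzero section of a twist of the ideal
  obtain ⟨n₀, hn₀⟩ := Groth.Agent.S2325.result X L hL (ClSub.idealMod I') hI
  set m := n₀ + 1 with hm
  set N := CohB1.tensorPow L m with hN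
  have hNi : PicF.IsInvertible N := Groth.Agent.Lib.Helper28.GenLocus.isInvertible_tensorPow hLi m
  have hNc := isCoh_of_isInvertible N hNi
  have hgg : Curv2.IsGloballyGenerated (CohB1.tensorMod N (ClSub.idealMod I')) :=
    isGloballyGenerated_of_iso (Groth.Agent.Lib.Helper6.K0Inv.braidIso _ _) (hn₀ m (by omega))
  obtain ⟨s, hs⟩ := exists_hom_ne_zero_of_isGloballyGenerated _ hgg
    (not_isZero_tensorMod N _ hNi hI0)
  -- the tensored sequence
  have hS' := shortExact_tensor_of_flat N (isFlat_of_isInvertible N hNi) _ hS
  haveI := hS'.mono_f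
  have hσ : s ≫ ((idealSES I').map (DCoh.tensorBi.obj N)).f ≠ 0 := by
    intro h0
    apply hs
    exact (cancel_mono ((idealSES I').map (DCoh.tensorBi.obj N)).f).1 (h0.trans zero_comp.symm)
  haveI hσm : Mono (s ≫ ((idealSES I').map (DCoh.tensorBi.obj N)).f) :=
    Groth.Agent.Lib.Helper8.CurveInv.mono_of_ne_zero
      (Groth.Agent.Lib.Helper28.AmpleUnit.isInvertible_structureModule X)
      (Groth.Agent.Lib.Helper28.GenLocus.isInvertible_tensorMod hNi
        (Groth.Agent.Lib.Helper28.AmpleUnit.isInvertible_structureModule X)) _ hσ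
  haveI hsm : Mono s := mono_of_mono s ((idealSES I').map (DCoh.tensorBi.obj N)).f
  -- the cokernel of `s`
  have hNI : Coh.IsCoh (CohB1.tensorMod N (ClSub.idealMod I')) := isCoh_tensorMod _ _ hNc hI
  have hNO : Coh.IsCoh (CohB1.tensorMod N (Coh.structureModule X)) := isCoh_tensorMod _ _ hNc hO
  have hNQ : Coh.IsCoh (CohB1.tensorMod N (ClSub.quotMod I')) := isCoh_tensorMod _ _ hNc hQ
  have hC : Coh.IsCoh (cokernel s) := Groth.Agent.Lib.Helper6.DevCore.isCoh_cokernel s hO hNI
  have hT : (ShortComplex.mk s (cokernel.π s) (cokernel.condition s)).ShortExact :=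
    { exact := ShortComplex.exact_of_g_is_cokernel _ (cokernelIsCokernel s)
      mono_f := hsm
      epi_g := inferInstanceAs (Epi (cokernel.π s)) }
  -- classes
  have hcl1 : cls (CohB1.tensorMod N (ClSub.idealMod I')) = cls (Coh.structureModule X) + cls (cokernel s) :=
    Groth.Agent.Lib.Helper16.K0Db.clSub_shortExact _ _ hT hO hNI hC
  have hcl2 : cls (CohB1.tensorMod N (Coh.structureModule X)) =
      cls (CohB1.tensorMod N (ClSub.idealMod I')) + cls (CohB1.tensorMod N (ClSub.quotMod I')) :=
    Groth.Agent.Lib.Helper16.K0Db.clSub_shortExact _ _ hS' hNI hNO hNQ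
  have hTop : Top N = Top L ^ m := Top_tensorPow L hLi m
  have hrel : (Top L ^ m - 1) (cls (Coh.structureModule X)) =
      cls (cokernel s) + (Top L ^ m) (cls (ClSub.quotMod I')) := by
    show (Top L ^ m) (cls (Coh.structureModule X)) - cls (Coh.structureModule X) = _
    rw [← hTop, Top_cls N hNi _ hO, Top_cls N hNi _ hQ, hcl2, hcl1]
    abel
  -- the generic point is not in the support of the cokernel
  have hξC : genericPoint X ∉ CohB1.support (cokernel s) := by
    have h1 := len_add _ hT (genericPoint X)
    have h2 := len_add _ hS' (genericPoint X)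
    change len (CohB1.tensorMod N (ClSub.idealMod I')) (genericPoint X) =
      len (Coh.structureModule X) (genericPoint X) + len (cokernel s) (genericPoint X) at h1
    change len (CohB1.tensorMod N (Coh.structureModule X)) (genericPoint X) =
      len (CohB1.tensorMod N (ClSub.idealMod I')) (genericPoint X) +
        len (CohB1.tensorMod N (ClSub.quotMod I')) (genericPoint X) at h2
    have h3 : len (CohB1.tensorMod N (ClSub.quotMod I')) (genericPoint X) = 0 :=
      len_eq_zero_of_notMem_support _ _ (by rw [support_tensorMod_eq N _ hNi]; exact hξQ)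
    have h4 : len (Coh.structureModule X) (genericPoint X) = 1 :=
      len_genericPoint_of_isInvertible _ (Groth.Agent.Lib.Helper28.AmpleUnit.isInvertible_structureModule X)
    have h5 : len (CohB1.tensorMod N (Coh.structureModule X)) (genericPoint X) = 1 :=
      len_genericPoint_of_isInvertible _ (Groth.Agent.Lib.Helper28.GenLocus.isInvertible_tensorMod hNi
        (Groth.Agent.Lib.Helper28.AmpleUnit.isInvertible_structureModule X))
    rw [h3, h5, add_zero] at h2
    rw [← h2, h4] at h1
    intro hmem
    have h6 : len (cokernel s) (genericPoint X) ≠ 0 := by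
      unfold len
      rw [Ne, Module.length_eq_zero_iff]
      exact hmem
    apply h6
    have : (1 : ℕ∞) + len (cokernel s) (genericPoint X) = 1 + 0 := by rw [← h1, add_zero]
    exact ENat.add_right_injective_of_ne_top (by simp) this
  -- dimension of the support of the cokernel
  have hdimC : topologicalKrullDim (CohB1.support (cokernel s)) ≤ (d : WithBot ℕ∞) := by
    have hcl := Groth.Agent.Lib.Helper6.DevCore.isClosed_support _ hC
    have hne : CohB1.support (cokernel s) ≠ Set.univ := fun h => hξC (h ▸ Set.mem_univ _)
    have h1 := Groth.Agent.Lib.Helper24.ConnDimSub.dim_add_one_le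
      (IrreducibleSpace.isIrreducible_univ X) hcl (Set.subset_univ _) hne
    rw [(Homeomorph.Set.univ X).isHomeomorph.topologicalKrullDim_eq, hdim] at h1
    exact Groth.Agent.Lib.Helper4.DimChain.le_of_add_one_le_succ _ d h1
  -- the structure sheaf has dimension ≤ d + 1
  have hOmem : cls (Coh.structureModule X) ∈ Hlt X (d + 2) := by
    apply cls_mem_Hlt _ hO (d + 1)
    rw [← hdim]
    exact topologicalKrullDim_subspace_le X _
  have hQmem : cls (ClSub.quotMod I') ∈ Hlt X (d + 1) := by
    apply cls_mem_Hlt _ hQ d
    rw [Groth.Agent.Lib.Helper6.DevRed.support_quotMod_vanishingIdeal]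
    exact hη.le
  have hfin := hcoef_pow_sub_one k L hLi d m _ hOmem
  rw [hrel, map_add, hcoef_Top_pow k L hLi d m _ hQmem] at hfin
  have hpos : 0 < hcoef k X L d (cls (cokernel s)) + hcoef k X L d (cls (ClSub.quotMod I')) :=
    add_pos_of_nonneg_of_pos (IHnn _ hC hdimC) (IHpos η hη)
  rw [hfin] at hpos
  have hm0 : (0 : ℤ) ≤ (m : ℤ) := Int.natCast_nonneg m
  by_contra hcon
  rw [not_lt] at hcon
  have := mul_nonpos_of_nonneg_of_nonpos hm0 hcon
  omega

end step

end Groth.Agent.Lib.Helper4.Snapper
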