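import Groth.Agent.Lib.Helper4.Snapper6
import Groth.Agent.Lib.Helper2.Bridge4
import Groth.Agent.Lib.Helper2.Bridge3
set_option backward.isDefEq.respectTransparency.types false
set_option autoImplicit false
set_option linter.style.haveILetI false

universe u
open CategoryTheory CategoryTheory.Limits AlgebraicGeometry Opposite TopologicalSpace

namespace Groth.Agent.Lib.Helper4.Snapper

variable {X : Scheme.{u}}

/-- tensoring an isomorphism on the right -/
noncomputable def tensorIsoRight (G : X.Modules) {A B : X.Modules} (e : A ≅ B) :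
    CohB1.tensorMod G A ≅ CohB1.tensorMod G B :=
  (DCoh.tensorBi.obj G).mapIso e

section push
variable {Z : Scheme.{u}} (i : Z ⟶ X)

/-- iterated projection formula: `i_*(G ⊗ Π (i^*L_j)^{n_j}) ≅ i_* G ⊗ Π L_j^{n_j}` -/
theorem nonempty_push_tensorPows_iso (G : Z.Modules) : (r : ℕ) → (L : _root_.Fin r → X.Modules) →
    (∀ j, PicF.IsInvertible (L j)) → (n : _root_.Fin r → ℕ) →
    Nonempty ((Scheme.Modules.pushforward i).obj
      (Curv2.tensorPows G r (fun j => (Scheme.Modules.pullback i).obj (L j)) n) ≅
      Curv2.tensorPows ((Scheme.Modules.pushforward i).obj G) r L n)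
  | 0, _, _, _ => ⟨Iso.refl _⟩
  | r + 1, L, hL, n => by
    obtain ⟨e1⟩ := nonempty_push_tensorPows_iso G r (fun j => L j.castSucc) (fun j => hL j.castSucc)
      (fun j => n j.castSucc)
    obtain ⟨ψ, -⟩ := Groth.Agent.Lib.Helper28.PullbackInv.exists_pullback_tensorPow_iso i
      (hL (Fin.last r)) (n (Fin.last r))
    obtain ⟨e2⟩ := Groth.Agent.Lib.Helper2.Bridge4.exists_projection_iso i
      (Curv2.tensorPows G r (fun j => (Scheme.Modules.pullback i).obj (L j.castSucc)) (fun j => n j.castSucc))
      (CohB1.tensorPow (L (Fin.last r)) (n (Fin.last r)))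
      (Groth.Agent.Lib.Helper28.GenLocus.isInvertible_tensorPow (hL (Fin.last r)) _)
    refine ⟨?_ ≪≫ e2.symm ≪≫ tensorIsoLeft e1 _⟩
    exact (Scheme.Modules.pushforward i).mapIso (tensorIsoRight _ ψ.symm)

end push

section euler
variable (k : Type u) [Field k] [X.Over (Spec (CommRingCat.of k))]

/-- the Euler characteristic on `Z` is the Euler characteristic on `X` of the direct image, for `i : Z ⟶ X`
affine -/
theorem euler_push {Z : Scheme.{u}} (i : Z ⟶ X) [IsAffineHom i] (M : Z.Modules) (hM : M.IsQuasicoherent) :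
    @Curv2.euler k _ Z ⟨i ≫ (X ↘ (Spec (CommRingCat.of k)))⟩ M =
      Curv2.euler k X ((Scheme.Modules.pushforward i).obj M) := by
  letI : Z.Over (Spec (CommRingCat.of k)) := ⟨i ≫ (X ↘ (Spec (CommRingCat.of k)))⟩
  unfold Curv2.euler
  apply finsum_congr
  intro p
  obtain ⟨e, -⟩ := Groth.Agent.Lib.Helper2.Bridge3.exists_natural_linearEquiv k i rfl p
  rw [(e M hM).finrank_eq]

end euler

end Groth.Agent.Lib.Helper4.Snapper

namespace Groth.Agent.Lib.Helper4.Snapper
open Groth.Agent.Lib.Helper6.K0Filt Groth.Agent.Lib.Helper6.K0Len Groth.Agent.Lib.Helper6.K0Op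
  Groth.Agent.Lib.Helper6.K0Tensor Groth.Agent.Lib.Helper4.NumPoly

section sub
variable (k : Type u) [Field k] {X : Scheme.{u}} [X.Over (Spec (CommRingCat.of k))]

/-- Euler characteristics of twists of the structure sheaf of a closed subscheme, computed on the subscheme or
on the ambient scheme -/
theorem euler_subscheme_tensorPows (I : X.IdealSheafData) (r : ℕ) (L : _root_.Fin r → X.Modules)
    (hL : ∀ j, PicF.IsInvertible (L j)) (n : _root_.Fin r → ℕ) :
    @Curv2.euler k _ I.subscheme ⟨I.subschemeι ≫ (X ↘ (Spec (CommRingCat.of k)))⟩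
      (Curv2.tensorPows (Coh.structureModule I.subscheme) r
        (fun j => (Scheme.Modules.pullback I.subschemeι).obj (L j)) n) =
    Curv2.euler k X (Curv2.tensorPows (ClSub.quotMod I) r L n) := by
  have hq : (Curv2.tensorPows (Coh.structureModule I.subscheme) r
      (fun j => (Scheme.Modules.pullback I.subschemeι).obj (L j)) n).IsQuasicoherent :=
    (isCoh_tensorPows _ Groth.Agent.Lib.Helper6.DevRed.isCoh_structureModule r _
      (fun j => Groth.Agent.Lib.Helper28.PullbackInv.isInvertible_pullback I.subschemeι (hL j)) n).1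
  rw [euler_push k I.subschemeι _ hq]
  obtain ⟨e⟩ := nonempty_push_tensorPows_iso I.subschemeι (Coh.structureModule I.subscheme) r L hL n
  exact Groth.Agent.Lib.Helper8.EulerK.euler_congr k e

end sub

section main
variable (k : Type u) [Field k] {X : Scheme.{u}} [X.Over (Spec (CommRingCat.of k))]
    [IsProper (X ↘ (Spec (CommRingCat.of k)))]

open Classical in
/-- the Euler characteristic of twists of `F`, minus the contributions of the top-dimensional components, is
a polynomial of smaller degree -/
theorem euler_sub_cycle_sum (F : X.Modules) (hF : Coh.IsCoh F) (d : ℕ)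
    (hsupp : topologicalKrullDim (CohB1.support F) ≤ d)
    (r : ℕ) (L : _root_.Fin r → X.Modules) (hL : ∀ i, PicF.IsInvertible (L i)) :
    ∃ P : MvPolynomial (_root_.Fin r) ℚ, (∀ m ∈ P.support, (m.sum fun _ e => e) < d) ∧
      ∀ n : _root_.Fin r → ℕ,
        (Curv2.euler k X (Curv2.tensorPows F r L n) : ℚ) -
          ∑ᶠ ξ : X, (if Dn d ξ then ((len F ξ).toNat : ℚ) *
              (Curv2.euler k X (Curv2.tensorPows (OZ ξ) r L n) : ℚ) else 0)
          = MvPolynomial.eval (fun i => (n i : ℚ)) P := by
  haveI : IsNoetherian X := isNoetherian_of_proper k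
  obtain ⟨hfin, hmem⟩ := cycle_formula_dim d (CohB1.support F)
    (Groth.Agent.Lib.Helper6.DevCore.isClosed_support F hF) hsupp F hF le_rfl
  set c : K0 X := cls F - finsum (term (Dn d) F) with hc
  have hg : IsEquivariant L (fun n => W r L n c) := by
    intro i n
    show W r L (n + Pi.single i 1) c = Top (L i) (W r L n c)
    rw [W_add_single r L hL n i]
    rfl
  have h1 := isNumPolyLt_of_isEquivariant L hL d _ hg (fun n => W_map_Hlt d r L hL n c hmem)
  have h2 := h1.comp ((Int.castAddHom ℚ).comp (eulerHom k X))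
  -- identify the function
  have hfun : ∀ n : _root_.Fin r → ℕ, ((Int.castAddHom ℚ).comp (eulerHom k X)) (W r L n c) =
      (Curv2.euler k X (Curv2.tensorPows F r L n) : ℚ) -
          ∑ᶠ ξ : X, (if Dn d ξ then ((len F ξ).toNat : ℚ) *
              (Curv2.euler k X (Curv2.tensorPows (OZ ξ) r L n) : ℚ) else 0) := by
    intro n
    let τ : K0 X →+ ℚ := ((Int.castAddHom ℚ).comp (eulerHom k X)).comp (W r L n : K0 X →+ K0 X)
    have hτ : ∀ (M : X.Modules), Coh.IsCoh M → τ (cls M) = (Curv2.euler k X (Curv2.tensorPows M r L n) : ℚ) := by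
      intro M hM
      show ((eulerHom k X (W r L n (cls M)) : ℤ) : ℚ) = _
      rw [← cls_tensorPows M hM r L hL n, eulerHom_cls k X _ (isCoh_tensorPows M hM r L hL n)]
    show τ c = _
    rw [hc, map_sub, hτ F hF, AddMonoidHom.map_finsum _ (hfin.1.subset (support_term_subset (Dn d) F))]
    congr 1
    apply finsum_congr
    intro ξ
    unfold term
    split_ifs with h
    · rw [map_nsmul, nsmul_eq_mul, hτ _ (isCoh_OZ ξ)]
    · rw [map_zero]
  cases d with
  | zero =>
    refine ⟨0, by simp, fun n => ?_⟩
    rw [← hfun n, map_zero]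
    have := (isNumPolyLt_zero_iff _).1 h2
    exact congrFun this n
  | succ e =>
    obtain ⟨P, hP1, hP2⟩ := exists_mvPolynomial h2
    refine ⟨P, fun m hm => ?_, fun n => ?_⟩
    · exact Nat.lt_succ_of_le ((MvPolynomial.le_totalDegree hm).trans hP1)
    · rw [← hfun n]
      exact hP2 n

end main

end Groth.Agent.Lib.Helper4.Snapper
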