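import Mathlib
set_option autoImplicit false

namespace Groth.Agent.Lib.Helper4.KLM3

open Finset

/-- Pascal decomposition of the binomial polynomial -/
theorem pascal_split (d : ℕ) (a : ℕ → ℝ) (t : ℝ) :
    ∑ i ∈ range (d + 2), ((d + 1).choose i : ℝ) * a i * t ^ (d + 1 - i) =
      ∑ j ∈ range (d + 1), (d.choose j : ℝ) * a (j + 1) * t ^ (d - j) +
        ∑ j ∈ range (d + 1), (d.choose j : ℝ) * a j * t ^ (d + 1 - j) := by
  rw [sum_range_succ' (fun i => ((d + 1).choose i : ℝ) * a i * t ^ (d + 1 - i))]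
  rw [sum_range_succ' (fun j => (d.choose j : ℝ) * a j * t ^ (d + 1 - j))]
  simp only [Nat.choose_zero_right, Nat.cast_one, one_mul, Nat.sub_zero, Nat.add_sub_add_right]
  have h1 : ∑ j ∈ range (d + 1), ((d + 1).choose (j + 1) : ℝ) * a (j + 1) * t ^ (d - j) =
      ∑ j ∈ range (d + 1), (d.choose j : ℝ) * a (j + 1) * t ^ (d - j) +
        ∑ j ∈ range (d + 1), (d.choose (j + 1) : ℝ) * a (j + 1) * t ^ (d - j) := by
    rw [← sum_add_distrib]
    apply sum_congr rfl
    intro j _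
    rw [Nat.choose_succ_succ]
    push_cast
    ring
  have h2 : ∑ j ∈ range (d + 1), (d.choose (j + 1) : ℝ) * a (j + 1) * t ^ (d - j) =
      ∑ j ∈ range d, (d.choose (j + 1) : ℝ) * a (j + 1) * t ^ (d - j) := by
    rw [sum_range_succ, Nat.choose_succ_self]
    simp
  rw [h1, h2]
  ring

/-- **the analytic core of Kleiman's theorem** -/
theorem kleiman_analytic (d : ℕ) (a : ℕ → ℤ) (h0 : 0 < a 0) (hnn : ∀ i, i ≤ d → 0 ≤ a i)
    (hQ : ∀ p q : ℕ, 0 < p → 0 < q →
      0 < ∑ i ∈ range (d + 2), ((d + 1).choose i : ℤ) * (p : ℤ) ^ i * (q : ℤ) ^ (d + 1 - i) * a i →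
      0 ≤ ∑ j ∈ range (d + 1), (d.choose j : ℤ) * (p : ℤ) ^ j * (q : ℤ) ^ (d - j) * a (j + 1)) :
    0 ≤ a (d + 1) := by
  by_contra hneg
  push Not at hneg
  set ar : ℕ → ℝ := fun i => (a i : ℝ) with har
  set Pr : ℝ → ℝ := fun t => ∑ i ∈ range (d + 2), ((d + 1).choose i : ℝ) * ar i * t ^ (d + 1 - i) with hPr
  set Qr : ℝ → ℝ := fun t => ∑ j ∈ range (d + 1), (d.choose j : ℝ) * ar (j + 1) * t ^ (d - j) with hQr
  set Rr : ℝ → ℝ := fun t => ∑ j ∈ range (d + 1), (d.choose j : ℝ) * ar j * t ^ (d + 1 - j) with hRr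
  have hPQR : ∀ t, Pr t = Qr t + Rr t := fun t => pascal_split d ar t
  have hPc : Continuous Pr := by
    apply continuous_finsetSum
    intro i _
    fun_prop
  have hQc : Continuous Qr := by
    apply continuous_finsetSum
    intro i _
    fun_prop
  have h0r : (1 : ℝ) ≤ ar 0 := by
    have : (1 : ℤ) ≤ a 0 := h0
    show (1 : ℝ) ≤ (a 0 : ℝ)
    exact_mod_cast this
  have hnnr : ∀ i, i ≤ d → (0 : ℝ) ≤ ar i := fun i hi => by
    show (0 : ℝ) ≤ (a i : ℝ)
    exact_mod_cast hnn i hi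
  have hnegr : ar (d + 1) < 0 := by
    show (a (d + 1) : ℝ) < 0
    exact_mod_cast hneg
  -- lower bound for `R`
  have hRlow : ∀ t : ℝ, 0 ≤ t → ar 0 * t ^ (d + 1) ≤ Rr t := by
    intro t ht
    have h1 : ∀ j ∈ range (d + 1), 0 ≤ (d.choose j : ℝ) * ar j * t ^ (d + 1 - j) := by
      intro j hj
      rw [mem_range] at hj
      exact mul_nonneg (mul_nonneg (Nat.cast_nonneg _) (hnnr j (by omega))) (pow_nonneg ht _)
    have h2 := single_le_sum h1 (mem_range.2 (Nat.succ_pos d))
    simpa using h2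
  -- values at zero
  have hQ0 : Qr 0 = ar (d + 1) := by
    simp only [hQr]
    rw [sum_range_succ]
    have : ∑ j ∈ range d, (d.choose j : ℝ) * ar (j + 1) * (0 : ℝ) ^ (d - j) = 0 := by
      apply sum_eq_zero
      intro j hj
      rw [mem_range] at hj
      rw [zero_pow (by omega), mul_zero]
    rw [this]
    simp
  have hP0 : Pr 0 = ar (d + 1) := by
    rw [hPQR, hQ0]
    have : Rr 0 = 0 := by
      simp only [hRr]
      apply sum_eq_zero
      intro j hj
      rw [mem_range] at hj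
      rw [zero_pow (by omega), mul_zero]
    rw [this, add_zero]
  -- the set where `P ≤ 0`
  set S : Set ℝ := {t | 0 ≤ t ∧ Pr t ≤ 0} with hS
  have hSne : S.Nonempty := ⟨0, le_rfl, by rw [hP0]; exact hnegr.le⟩
  have hSclosed : IsClosed S :=
    (isClosed_le continuous_const continuous_id).inter (isClosed_le hPc continuous_const)
  have hSbdd : BddAbove S := by
    refine ⟨1 - ar (d + 1), ?_⟩
    rintro t ⟨ht0, htP⟩
    by_contra hlt
    push Not at hlt
    have ht1 : 1 ≤ t := by linarith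
    have h1 : t ≤ t ^ (d + 1) := by
      calc t = t ^ 1 := (pow_one t).symm
        _ ≤ t ^ (d + 1) := pow_le_pow_right₀ ht1 (by omega)
    have h2 := hRlow t ht0
    have h3 : t ^ (d + 1) ≤ ar 0 * t ^ (d + 1) := by
      have := mul_le_mul_of_nonneg_right h0r (pow_nonneg ht0 (d + 1))
      simpa using this
    -- `Q t ≥ ar (d+1)` for `t ≥ 0`
    have h4 : ar (d + 1) ≤ Qr t := by
      have h5 : ∀ j ∈ range (d + 1), j ≠ d → 0 ≤ (d.choose j : ℝ) * ar (j + 1) * t ^ (d - j) := by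
        intro j hj hjd
        rw [mem_range] at hj
        exact mul_nonneg (mul_nonneg (Nat.cast_nonneg _) (hnnr (j + 1) (by omega))) (pow_nonneg ht0 _)
      simp only [hQr]
      rw [sum_range_succ]
      have : 0 ≤ ∑ j ∈ range d, (d.choose j : ℝ) * ar (j + 1) * t ^ (d - j) := by
        apply sum_nonneg
        intro j hj
        exact h5 j (mem_range.2 (by rw [mem_range] at hj; omega)) (by rw [mem_range] at hj; omega)
      simp only [Nat.choose_self, Nat.cast_one, one_mul, Nat.sub_self, pow_zero, mul_one]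
      linarith
    have := hPQR t
    linarith
  set t0 := sSup S with ht0
  have ht0S : t0 ∈ S := hSclosed.csSup_mem hSne hSbdd
  obtain ⟨ht0nn, ht0P⟩ := ht0S
  have hgt : ∀ t, t0 < t → 0 < Pr t := by
    intro t ht
    by_contra hle
    push Not at hle
    have : t ∈ S := ⟨ht0nn.trans ht.le, hle⟩
    exact absurd (le_csSup hSbdd this) (not_le.2 ht)
  -- `Q t0 ≥ 0`
  have hQt0 : 0 ≤ Qr t0 := by
    by_contra hlt
    push Not at hlt
    have hopen : IsOpen {t | Qr t < 0} := isOpen_lt hQc continuous_const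
    obtain ⟨ε, hε, hball⟩ := Metric.isOpen_iff.1 hopen t0 hlt
    obtain ⟨r, hr1, hr2⟩ := exists_rat_btwn (show t0 < t0 + ε by linarith)
    have hrpos : (0 : ℝ) < r := lt_of_le_of_lt ht0nn hr1
    have hrpos' : (0 : ℚ) < r := by exact_mod_cast hrpos
    have hQr_neg : Qr r < 0 := by
      apply hball
      rw [Metric.mem_ball, Real.dist_eq, abs_lt]
      constructor <;> linarith
    have hPr_pos : 0 < Pr r := hgt r hr1
    -- write `r = q / p`
    set p : ℕ := r.den with hp
    set q : ℕ := r.num.toNat with hq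
    have hppos : 0 < p := r.den_pos
    have hnum : 0 < r.num := Rat.num_pos.2 hrpos'
    have hqpos : 0 < q := by
      rw [hq]
      omega
    have hqcast : ((q : ℕ) : ℝ) = (r.num : ℝ) := by
      have : ((q : ℕ) : ℤ) = r.num := by rw [hq]; exact Int.toNat_of_nonneg hnum.le
      exact_mod_cast congrArg (fun z : ℤ => (z : ℝ)) this
    have hr : (r : ℝ) = (q : ℝ) / (p : ℝ) := by
      rw [hqcast]
      have := Rat.num_div_den r
      have h' : ((r.num : ℚ) / (r.den : ℚ) : ℚ) = r := this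
      have : ((r : ℚ) : ℝ) = ((r.num : ℚ) : ℝ) / ((r.den : ℚ) : ℝ) := by
        rw [← Rat.cast_div, h']
      simpa using this
    have hpR : (0 : ℝ) < (p : ℝ) := by exact_mod_cast hppos
    have key : ∀ m e : ℕ, (p : ℝ) ^ (e + m) * ((q : ℝ) / (p : ℝ)) ^ m = (p : ℝ) ^ e * (q : ℝ) ^ m := by
      intro m e
      rw [div_pow, pow_add]
      field_simp
    -- the integer sums
    have hPint : ((∑ i ∈ range (d + 2), ((d + 1).choose i : ℤ) * (p : ℤ) ^ i * (q : ℤ) ^ (d + 1 - i) * a i : ℤ) : ℝ) =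
        (p : ℝ) ^ (d + 1) * Pr r := by
      simp only [hPr]
      rw [mul_sum]
      push_cast
      apply sum_congr rfl
      intro i hi
      rw [mem_range] at hi
      have e1 : d + 1 = i + (d + 1 - i) := by omega
      have := key (d + 1 - i) i
      rw [← e1] at this
      rw [hr]
      calc ((d + 1).choose i : ℝ) * (p : ℝ) ^ i * (q : ℝ) ^ (d + 1 - i) * (a i : ℝ)
          = ((d + 1).choose i : ℝ) * (a i : ℝ) * ((p : ℝ) ^ i * (q : ℝ) ^ (d + 1 - i)) := by ring
        _ = ((d + 1).choose i : ℝ) * (a i : ℝ) * ((p : ℝ) ^ (d + 1) * ((q : ℝ) / (p : ℝ)) ^ (d + 1 - i)) := by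
            rw [this]
        _ = _ := by simp only [har]; ring
    have hQint : ((∑ j ∈ range (d + 1), (d.choose j : ℤ) * (p : ℤ) ^ j * (q : ℤ) ^ (d - j) * a (j + 1) : ℤ) : ℝ) =
        (p : ℝ) ^ d * Qr r := by
      simp only [hQr]
      rw [mul_sum]
      push_cast
      apply sum_congr rfl
      intro j hj
      rw [mem_range] at hj
      have e1 : d = j + (d - j) := by omega
      have := key (d - j) j
      rw [← e1] at this
      rw [hr]
      calc (d.choose j : ℝ) * (p : ℝ) ^ j * (q : ℝ) ^ (d - j) * (a (j + 1) : ℝ)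
          = (d.choose j : ℝ) * (a (j + 1) : ℝ) * ((p : ℝ) ^ j * (q : ℝ) ^ (d - j)) := by ring
        _ = (d.choose j : ℝ) * (a (j + 1) : ℝ) * ((p : ℝ) ^ d * ((q : ℝ) / (p : ℝ)) ^ (d - j)) := by
            rw [this]
        _ = _ := by simp only [har]; ring
    have hPpos : 0 < ∑ i ∈ range (d + 2), ((d + 1).choose i : ℤ) * (p : ℤ) ^ i * (q : ℤ) ^ (d + 1 - i) * a i := by
      have : (0 : ℝ) < ((∑ i ∈ range (d + 2), ((d + 1).choose i : ℤ) * (p : ℤ) ^ i * (q : ℤ) ^ (d + 1 - i) * a i : ℤ) : ℝ) := by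
        rw [hPint]
        exact mul_pos (pow_pos hpR _) hPr_pos
      exact_mod_cast this
    have hQnn := hQ p q hppos hqpos hPpos
    have : (0 : ℝ) ≤ (p : ℝ) ^ d * Qr r := by
      rw [← hQint]
      exact_mod_cast hQnn
    have h7 : (p : ℝ) ^ d * Qr r < 0 := mul_neg_of_pos_of_neg (pow_pos hpR _) hQr_neg
    linarith
  -- conclusion
  have h8 := hRlow t0 ht0nn
  have h9 := hPQR t0
  have h10 : ar 0 * t0 ^ (d + 1) ≤ 0 := by linarith
  have h11 : t0 ^ (d + 1) ≤ 0 := by
    by_contra hpos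
    push Not at hpos
    have := mul_pos (lt_of_lt_of_le one_pos h0r) hpos
    linarith
  have h12 : t0 = 0 := by
    have h13 : t0 ^ (d + 1) = 0 := le_antisymm h11 (pow_nonneg ht0nn _)
    exact pow_eq_zero_iff (by omega) |>.1 h13
  rw [h12, hQ0] at hQt0
  linarith

end Groth.Agent.Lib.Helper4.KLM3
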