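import Groth.Agent.Lib.Helper4.NM6
set_option backward.isDefEq.respectTransparency.types false
set_option autoImplicit false
set_option linter.style.haveILetI false
set_option linter.unusedSectionVars false

universe u
open CategoryTheory CategoryTheory.Limits AlgebraicGeometry Opposite TopologicalSpace

namespace Groth.Agent.Lib.Helper4.SN1
open Groth.Agent.Lib.Helper28 Groth.Agent.Lib.Helper28.GenLocus Groth.Agent.Lib.Helper28.QCohLoc
  Groth.Agent.Lib.Helper4.Snapper Groth.Agent.Lib.Helper6.K0Len Groth.Agent.Lib.Helper4.NM1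
  Groth.Agent.Lib.Helper4.NM2 Groth.Agent.Lib.Helper8.EulerK Groth.Agent.Lib.Helper6.K0Op
  Groth.Agent.Lib.Helper4.NM6

section top
variable {T : Type*} [TopologicalSpace T]

/-- an irreducible closed subset with two distinct points of a Noetherian `T₀` space contains an irreducible
closed subset of dimension one -/
theorem exists_curve [NoetherianSpace T] [T0Space T] (F : Closeds T)
    (h2 : ∃ a ∈ F, ∃ b ∈ F, a ≠ b) (hF : IsIrreducible (F : Set T)) :
    ∃ Z : Closeds T, IsIrreducible (Z : Set T) ∧ Z ≤ F ∧ topologicalKrullDim (Z : Set T) = 1 := by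
  let S : Set (Closeds T) := {Z | IsIrreducible (Z : Set T) ∧ Z ≤ F ∧ ∃ a ∈ Z, ∃ b ∈ Z, a ≠ b}
  have hS : S.Nonempty := ⟨F, hF, le_rfl, h2⟩
  obtain ⟨Z, ⟨hZirr, hZF, a, ha, b, hb, hab⟩, hmin⟩ := wellFounded_lt.has_min S hS
  refine ⟨Z, hZirr, hZF, ?_⟩
  haveI : IrreducibleSpace (Z : Set T) := Subtype.irreducibleSpace hZirr
  apply le_antisymm
  · unfold topologicalKrullDim
    rw [Order.krullDim_le_one_iff]
    intro W
    by_cases hW : (W : Set (Z : Set T)) = Set.univ
    · right
      intro W' hle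
      show (W' : Set (Z : Set T)) ⊆ W
      rw [hW]
      exact Set.subset_univ _
    · left
      -- `W` is a proper irreducible closed subset, hence a point
      let W₀ : Closeds T := ⟨Subtype.val '' (W : Set (Z : Set T)),
        (Z.isClosed.isClosedEmbedding_subtypeVal.isClosedMap _ W.isClosed)⟩
      have hW₀irr : IsIrreducible (W₀ : Set T) :=
        W.isIrreducible.image _ continuous_subtype_val.continuousOn
      have hW₀Z : W₀ ≤ Z := by
        rintro _ ⟨w, -, rfl⟩
        exact w.2
      have hW₀lt : W₀ < Z := by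
        refine lt_of_le_of_ne hW₀Z (fun h => hW ?_)
        rw [Set.eq_univ_iff_forall]
        intro z
        have : (z : T) ∈ (W₀ : Set T) := by rw [h]; exact z.2
        obtain ⟨w, hw, hwz⟩ := this
        rwa [← Subtype.ext hwz]
      have hsub : (W₀ : Set T).Subsingleton := by
        intro x hx y hy
        by_contra hxy
        exact hmin W₀ ⟨hW₀irr, hW₀Z.trans hZF, x, hx, y, hy, hxy⟩ hW₀lt
      intro W' hle
      show (W : Set (Z : Set T)) ⊆ W'
      intro w hw
      obtain ⟨w', hw'⟩ := W'.isIrreducible.nonempty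
      have : (w : T) = w' := hsub ⟨w, hw, rfl⟩ ⟨w', hle hw', rfl⟩
      rwa [Subtype.ext this]
  · have h1 := dim_pos_of_ne (T := (Z : Set T)) ⟨a, ha⟩ ⟨b, hb⟩ (fun h => hab (congrArg Subtype.val h))
    exact (WithBot.one_le_iff_pos _).2 h1

end top

variable (k : Type u) [Field k] {X : Scheme.{u}} [X.Over (Spec (CommRingCat.of k))]
    [IsProper (X ↘ (Spec (CommRingCat.of k)))]

/-- the first Hilbert coefficient is the degree: `χ(F ⊗ L) - χ(F)` -/
theorem hcoef_one (L : X.Modules) (hL : PicF.IsInvertible L) (F : X.Modules) (hF : Coh.IsCoh F) :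
    hcoef k X L 1 (cls F) = Curv2.euler k X (CohB1.tensorMod F L) - Curv2.euler k X F := by
  show eulerHom k X (((Top L - 1) ^ 1 : AddMonoid.End (K0 X)) (cls F)) = _
  rw [pow_one]
  show eulerHom k X (Top L (cls F) - cls F) = _
  rw [map_sub, eulerHom_cls k X F hF, Top_cls L hL F hF,
    cls_iso (Groth.Agent.Lib.Helper6.K0Inv.braidIso L F) (isCoh_tensorMod _ _ (isCoh_of_isInvertible _ hL) hF),
    eulerHom_cls k X _ (isCoh_tensorMod _ _ hF (isCoh_of_isInvertible _ hL))]

/-- **if the `d`-th Hilbert coefficient of `O_Z` is positive (`d > 0`), no positive power of `L` is trivial on `Z`** -/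
theorem not_trivial_of_hcoef_pos {L : X.Modules} (hL : PicF.IsInvertible L) (I : X.IdealSheafData)
    (d : ℕ) (hd : 0 < d) (hdim : topologicalKrullDim (I.support : Set X) ≤ (d : WithBot ℕ∞))
    (hpos : 0 < hcoef k X L d (cls (ClSub.quotMod I))) (M : ℕ) (hM : 0 < M) :
    ¬ Nonempty ((Scheme.Modules.pullback I.subschemeι).obj (CohB1.tensorPow L M) ≅
      Coh.structureModule I.subscheme) := by
  rintro ⟨e⟩
  haveI : IsNoetherian X := isNoetherian_of_proper k
  letI : I.subscheme.Over (Spec (CommRingCat.of k)) := ⟨I.subschemeι ≫ (X ↘ (Spec (CommRingCat.of k)))⟩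
  have hcQ := Groth.Agent.Lib.Helper6.DevRed.isCoh_quotMod I
  have hsupp : topologicalKrullDim (CohB1.support (ClSub.quotMod I)) ≤ (d : WithBot ℕ∞) := by
    rw [Groth.Agent.Lib.Helper6.DevRed.support_quotMod]
    exact hdim
  have hN := PullbackInv.isInvertible_pullback I.subschemeι hL
  have hχ : ∀ j : ℕ, Curv2.euler k X (CohB1.tensorMod (ClSub.quotMod I) (CohB1.tensorPow L j)) =
      Curv2.euler k I.subscheme (CohB1.tensorMod (Coh.structureModule I.subscheme)
        (CohB1.tensorPow ((Scheme.Modules.pullback I.subschemeι).obj L) j)) := by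
    intro j
    exact (euler_subscheme_tensorPows k I 1 (fun _ => L) (fun _ => hL) (fun _ => j)).symm
  have htriv : ∀ t : ℕ, Curv2.euler k I.subscheme (CohB1.tensorMod (Coh.structureModule I.subscheme)
        (CohB1.tensorPow ((Scheme.Modules.pullback I.subschemeι).obj L) (M * t))) =
      Curv2.euler k I.subscheme (Coh.structureModule I.subscheme) := by
    intro t
    obtain ⟨ψ₁, -⟩ := exists_tensorPow_tensorPow_iso hN M t (M * t) rfl
    obtain ⟨ψ₂, -⟩ := PullbackInv.exists_pullback_tensorPow_iso I.subschemeι hL M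
    obtain ⟨ψ₃⟩ := AmpleUnit.nonempty_tensorPow_unit_iso I.subscheme t
    obtain ⟨ν⟩ := InvQC.nonempty_unit_tensor_iso
      (CohB1.tensorPow ((Scheme.Modules.pullback I.subschemeι).obj L) (M * t))
    exact euler_congr k (ν ≪≫ ψ₁.symm ≪≫ AmpleIso.tensorPowIso (ψ₂.symm ≪≫ e) t ≪≫ ψ₃)
  obtain ⟨d', rfl⟩ : ∃ d', d = d' + 1 := ⟨d - 1, by omega⟩
  obtain ⟨j₀, hj₀⟩ := growth d' (fun i => hcoef k X L i (cls (ClSub.quotMod I))) hpos
    (Curv2.euler k I.subscheme (Coh.structureModule I.subscheme) + 1)
  have h1 := hj₀ (M * j₀) (Nat.le_mul_of_pos_left _ hM)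
  rw [← euler_twist_eq_sum k L hL _ hcQ (d' + 1) hsupp (M * j₀), hχ, htriv] at h1
  omega

/-- the strict nefness condition -/
def StrictNef (L : X.Modules) : Prop :=
  ∀ C : X.IdealSheafData, IsIntegral C.subscheme → topologicalKrullDim (C.support : Set X) = 1 →
    0 < Curv2.euler k X (CohB1.tensorMod (ClSub.quotMod C) L) - Curv2.euler k X (ClSub.quotMod C)

open Groth.Agent.Lib.Helper6.DevGen in
/-- **a strictly nef invertible module has no positive power trivial on a positive-dimensional integral closed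
subscheme** -/
theorem not_trivial_of_strictNef {L : X.Modules} (hL : PicF.IsInvertible L) (hnef : StrictNef k L)
    {W : Scheme.{u}} (g : W ⟶ X) [IsClosedImmersion g] [IsIntegral W] (a b : W) (hab : a ≠ b)
    (M : ℕ) (hM : 0 < M) :
    ¬ Nonempty ((Scheme.Modules.pullback g).obj (CohB1.tensorPow L M) ≅ Coh.structureModule W) := by
  rintro ⟨e⟩
  haveI : IsNoetherian X := isNoetherian_of_proper k
  set T : Closeds X := rangeCl g with hT
  have hirr : IsIrreducible (T : Set X) := by
    have : (T : Set X) = g '' Set.univ := by rw [Set.image_univ]; rfl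
    rw [this]
    exact (IrreducibleSpace.isIrreducible_univ W).image g g.continuous.continuousOn
  have h2 : ∃ a' ∈ T, ∃ b' ∈ T, a' ≠ b' :=
    ⟨g a, ⟨a, rfl⟩, g b, ⟨b, rfl⟩, fun h => hab (g.isClosedEmbedding.injective h)⟩
  obtain ⟨T', hT'irr, hT'T, hT'dim⟩ := exists_curve T h2 hirr
  set J := Scheme.IdealSheafData.vanishingIdeal T' with hJ
  haveI : IsIntegral J.subscheme :=
    Groth.Agent.Lib.Helper6.DevRed.isIntegral_subscheme_vanishingIdeal T' hT'irr
  have hsup : (J.support : Set X) = (T' : Set X) := Scheme.IdealSheafData.coe_support_vanishingIdeal T'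
  have hker : g.ker ≤ J.subschemeι.ker := by
    rw [Scheme.IdealSheafData.ker_subschemeι, Groth.Agent.Lib.Helper4.ImmImage.ker_eq_vanishingIdeal]
    exact Scheme.IdealSheafData.vanishingIdeal_antimono (fun x hx => subset_closure (hT'T hx))
  let h := IsClosedImmersion.lift g J.subschemeι hker
  have hfac : h ≫ g = J.subschemeι := IsClosedImmersion.lift_fac _ _ _
  have hpos : 0 < hcoef k X L 1 (cls (ClSub.quotMod J)) := by
    rw [hcoef_one k L hL _ (Groth.Agent.Lib.Helper6.DevRed.isCoh_quotMod J)]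
    exact hnef J inferInstance (by rw [hsup]; exact hT'dim)
  refine not_trivial_of_hcoef_pos k hL J 1 one_pos (by rw [hsup, hT'dim]; rfl) hpos M hM ⟨?_⟩
  exact (Scheme.Modules.pullbackCongr hfac.symm).app _ ≪≫
    ((Scheme.Modules.pullbackComp h g).app _).symm ≪≫
    (Scheme.Modules.pullback h).mapIso e ≪≫ Groth.Agent.Lib.Helper16.RS.pullbackUnitIso h

end Groth.Agent.Lib.Helper4.SN1
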