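import Groth.Agent.Lib.Helper4.KLM2
import Groth.Agent.Lib.Helper4.KLM3
import Groth.Agent.Lib.Helper4.SN1
import Groth.Agent.Lib.Helper2.NumPull
set_option backward.isDefEq.respectTransparency.types false
set_option autoImplicit false
set_option linter.style.haveILetI false
set_option linter.unusedSectionVars false

universe u
open CategoryTheory CategoryTheory.Limits AlgebraicGeometry Opposite TopologicalSpace

namespace Groth.Agent.Lib.Helper4.KLM4
open Groth.Agent.Lib.Helper6.K0Filt Groth.Agent.Lib.Helper6.K0Len Groth.Agent.Lib.Helper6.K0Op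
  Groth.Agent.Lib.Helper6.K0Tensor Groth.Agent.Lib.Helper4.Snapper Groth.Agent.Lib.Helper4.KLM1
  Groth.Agent.Lib.Helper4.KLM2

variable (k : Type u) [Field k]

/-- nefness: nonnegative degree on every integral closed curve -/
def Nef (X : Scheme.{u}) [X.Over (Spec (CommRingCat.of k))] (L : X.Modules) : Prop :=
  ∀ (Y : Scheme.{u}) (i : Y ⟶ X) [IsClosedImmersion i], IsIntegral Y → topologicalKrullDim Y = 1 →
    0 ≤ Pic13.curveDeg k (i ≫ (X ↘ Spec (CommRingCat.of k))) ((Scheme.Modules.pullback i).obj L)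

/-- nefness restricts to closed subschemes -/
theorem Nef.pullback {X : Scheme.{u}} [X.Over (Spec (CommRingCat.of k))] {L : X.Modules} (h : Nef k X L)
    {Z : Scheme.{u}} (j : Z ⟶ X) [IsClosedImmersion j] :
    @Nef k _ Z ⟨j ≫ (X ↘ Spec (CommRingCat.of k))⟩ ((Scheme.Modules.pullback j).obj L) := by
  letI : Z.Over (Spec (CommRingCat.of k)) := ⟨j ≫ (X ↘ Spec (CommRingCat.of k))⟩
  intro Y i _ hY hdim
  have h1 := h Y (i ≫ j) hY hdim
  have e : (i ≫ j) ≫ (X ↘ Spec (CommRingCat.of k)) = i ≫ (Z ↘ Spec (CommRingCat.of k)) := Category.assoc _ _ _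
  rw [e] at h1
  have iso : (Scheme.Modules.pullback i).obj ((Scheme.Modules.pullback j).obj L) ≅
      (Scheme.Modules.pullback (i ≫ j)).obj L := (Scheme.Modules.pullbackComp i j).app L
  rwa [Groth.Agent.Lib.Helper2.NumPull.curveDeg_congr k _ iso]

variable {X : Scheme.{u}} [X.Over (Spec (CommRingCat.of k))] [IsProper (X ↘ (Spec (CommRingCat.of k)))]

/-- the degree of a nef module on an integral curve is nonnegative -/
theorem Nef.ev_nonneg [IsIntegral X] {L : X.Modules} (hL : PicF.IsInvertible L) (h : Nef k X L)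
    (hdim : topologicalKrullDim X = 1) :
    0 ≤ ev k (cls (Coh.structureModule X)) (Top L - 1) := by
  have hO : Coh.IsCoh (Coh.structureModule X) := Groth.Agent.Lib.Helper6.DevRed.isCoh_structureModule
  have h1 := h X (𝟙 X) inferInstance hdim
  have iso : (Scheme.Modules.pullback (𝟙 X)).obj L ≅ L := (Scheme.Modules.pullbackId X).app L
  rw [Groth.Agent.Lib.Helper2.NumPull.curveDeg_congr k _ iso] at h1
  have e : 𝟙 X ≫ (X ↘ Spec (CommRingCat.of k)) = X ↘ Spec (CommRingCat.of k) := Category.id_comp _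
  rw [e] at h1
  have h2 : ev k (cls (Coh.structureModule X)) (Top L - 1) = hcoef k X L 1 (cls (Coh.structureModule X)) := by
    show _ = eulerHom k X (((Top L - 1) ^ 1 : AddMonoid.End (K0 X)) (cls (Coh.structureModule X)))
    rw [pow_one]
    rfl
  rw [h2, Groth.Agent.Lib.Helper4.SN1.hcoef_one k L hL _ hO]
  rw [Groth.Agent.Lib.Helper2.NumPull.curveDeg_eq k (X ↘ Spec (CommRingCat.of k)) hdim.le L
    (isCoh_of_isInvertible L hL).1] at h1
  unfold Curv2.deg at h1
  obtain ⟨ν⟩ := Groth.Agent.Lib.Helper28.InvQC.nonempty_unit_tensor_iso L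
  rw [Groth.Agent.Lib.Helper8.EulerK.euler_congr k ν]
  have h3 : 0 ≤ Curv2.euler k X L - ((1 : ℕ) : ℤ) * Curv2.euler k X (Coh.structureModule X) := h1
  simpa using h3

/-- transfer of a nonnegativity statement from integral schemes of dimension `e` to points of dimension `e` -/
theorem ev_point_nonneg_of_integral (e a b : ℕ)
    (ih : ∀ (Z : Scheme.{u}) [Z.Over (Spec (CommRingCat.of k))] [IsProper (Z ↘ Spec (CommRingCat.of k))]
      [IsIntegral Z] (A B : Z.Modules), PicF.IsInvertible A → Nef k Z A → CohB1.IsAmple B →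
      topologicalKrullDim Z = (e : WithBot ℕ∞) →
      0 ≤ ev k (cls (Coh.structureModule Z)) ((Top A - 1) ^ a * (Top B - 1) ^ b))
    {A B : X.Modules} (hA : PicF.IsInvertible A) (hnef : Nef k X A) (hB : CohB1.IsAmple B)
    (ξ : X) (hξ : Dn e ξ) :
    0 ≤ ev k (cls (OZ ξ)) ((Top A - 1) ^ a * (Top B - 1) ^ b) := by
  set I : X.IdealSheafData := Scheme.IdealSheafData.vanishingIdeal ⟨closure {ξ}, isClosed_closure⟩ with hI
  letI : I.subscheme.Over (Spec (CommRingCat.of k)) := ⟨I.subschemeι ≫ (X ↘ (Spec (CommRingCat.of k)))⟩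
  haveI : IsProper (I.subscheme ↘ (Spec (CommRingCat.of k))) :=
    inferInstanceAs (IsProper (I.subschemeι ≫ (X ↘ (Spec (CommRingCat.of k)))))
  haveI : IsIntegral I.subscheme :=
    Groth.Agent.Lib.Helper6.DevRed.isIntegral_subscheme_vanishingIdeal _ isIrreducible_singleton.closure
  haveI : CompactSpace I.subscheme :=
    QuasiCompact.compactSpace_of_compactSpace (I.subscheme ↘ Spec (CommRingCat.of k))
  have hBZ : CohB1.IsAmple ((Scheme.Modules.pullback I.subschemeι).obj B) :=
    Groth.Agent.Lib.Helper28.PullbackInv.isAmple_pullback_of_isEmbedding I.subschemeι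
      I.subschemeι.isClosedEmbedding.isEmbedding B hB
  have hdim : topologicalKrullDim I.subscheme = ((e : ℕ) : WithBot ℕ∞) := by
    have h1 := I.subschemeι.isClosedEmbedding.isEmbedding.toHomeomorph.isHomeomorph.topologicalKrullDim_eq
    rw [h1, I.range_subschemeι, hI, Scheme.IdealSheafData.coe_support_vanishingIdeal]
    exact hξ
  show 0 ≤ ev k (cls (ClSub.quotMod I)) ((Top A - 1) ^ a * (Top B - 1) ^ b)
  rw [ev_pow_mul_pow_quotMod_eq k I hA hB.1 a b]
  exact ih I.subscheme _ _ (Groth.Agent.Lib.Helper28.PullbackInv.isInvertible_pullback I.subschemeι hA)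
    (hnef.pullback k I.subschemeι) hBZ hdim

/-- **a nef class times powers of an ample class is nonnegative** on an integral scheme -/
theorem nef_mul_ample : ∀ (n : ℕ) (X : Scheme.{u}) [X.Over (Spec (CommRingCat.of k))]
    [IsProper (X ↘ Spec (CommRingCat.of k))] [IsIntegral X] (L M : X.Modules),
    PicF.IsInvertible L → Nef k X L → CohB1.IsAmple M →
    topologicalKrullDim X = ((n + 1 : ℕ) : WithBot ℕ∞) →
    0 ≤ ev k (cls (Coh.structureModule X)) ((Top L - 1) ^ 1 * (Top M - 1) ^ n) := by
  intro n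
  induction n with
  | zero =>
    intro X _ _ _ L M hL hnef hM hdim
    rw [pow_one, pow_zero, mul_one]
    apply hnef.ev_nonneg k hL
    rw [hdim]
    rfl
  | succ n ih =>
    intro X _ _ _ L M hL hnef hM hdim
    haveI : IsNoetherian X := isNoetherian_of_proper k
    have hφ : Low (n + 1) ((Top L - 1) ^ 1 * (Top M - 1) ^ n : AddMonoid.End (K0 X)) := by
      have := ((Low.top_sub_one hL).pow 1).mul ((Low.top_sub_one hM.1).pow n)
      rwa [Nat.add_comm] at this
    have h := ev_mul_top_sub_one_nonneg k (n + 1) hdim hM hφ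
      (fun η hη => ev_point_nonneg_of_integral k (n + 1) 1 n
        (fun Z _ _ _ A B hA hAn hB hZ => ih Z A B hA hAn hB hZ) hL hnef hM η hη)
    rwa [mul_assoc, ← pow_succ] at h

open Groth.Agent.Lib.Helper4.NM1 in
/-- the Nakai–Moishezon positivity condition follows from positivity at all points -/
theorem pos_of_points {M : X.Modules} (hM : PicF.IsInvertible M)
    (h : ∀ e : ℕ, 0 < e → ∀ ξ : X, Dn e ξ → 0 < ev k (cls (OZ ξ)) ((Top M - 1) ^ e)) : Pos k X M := by
  haveI : IsNoetherian X := isNoetherian_of_proper k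
  intro Z _ e he hZ
  show 0 < ev k (cls (ClSub.quotMod Z)) ((Top M - 1) ^ e)
  apply ev_pos_of_points k ((Low.top_sub_one hM).pow e) (h e he) _
    (Groth.Agent.Lib.Helper6.DevRed.isCoh_quotMod Z)
  rw [Groth.Agent.Lib.Helper6.DevRed.support_quotMod]
  exact hZ

/-- positivity of `(pL + qH)^e` at a point of dimension `e`, from nonnegativity of the mixed numbers -/
theorem ev_polar_pos {L H : X.Modules} (hL : PicF.IsInvertible L) (hH : CohB1.IsAmple H) (p q : ℕ) (hq : 0 < q)
    (e : ℕ) (ξ : X) (hξ : Dn e ξ)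
    (hnn : ∀ m, m ≤ e → 0 ≤ ev k (cls (OZ ξ)) ((Top L - 1) ^ m * (Top H - 1) ^ (e - m))) :
    0 < ev k (cls (OZ ξ))
      ((Top (CohB1.tensorMod (CohB1.tensorPow L p) (CohB1.tensorPow H q)) - 1) ^ e) := by
  haveI : IsNoetherian X := isNoetherian_of_proper k
  have hc : cls (OZ ξ) ∈ Hlt X (0 + (e + 1)) := by
    rw [zero_add]
    apply cls_mem_Hlt _ (isCoh_OZ ξ) e
    rw [support_OZ]
    exact hξ.le
  have h1 := ev_mul_pow_polar k hL hH.1 p q Low.one e _ hc
  rw [one_mul] at h1
  rw [h1]
  have hterm : ∀ m ∈ Finset.range (e + 1), 0 ≤ ((e.choose m : ℤ) * (p : ℤ) ^ m * (q : ℤ) ^ (e - m)) *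
      ev k (cls (OZ ξ)) (1 * ((Top L - 1) ^ m * (Top H - 1) ^ (e - m))) := by
    intro m hm
    rw [Finset.mem_range] at hm
    rw [one_mul]
    exact mul_nonneg (by positivity) (hnn m (by omega))
  refine lt_of_lt_of_le ?_ (Finset.single_le_sum hterm (Finset.mem_range.2 (Nat.succ_pos e)))
  have h2 : 0 < hcoef k X H e (cls (OZ ξ)) := hcoef_pos_point k e X H hH ξ hξ
  have h3 : ev k (cls (OZ ξ)) (1 * ((Top L - 1) ^ 0 * (Top H - 1) ^ (e - 0))) = hcoef k X H e (cls (OZ ξ)) := by
    rw [one_mul, pow_zero, one_mul, Nat.sub_zero]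
    rfl
  rw [h3]
  have hq' : (0 : ℤ) < (q : ℤ) := by exact_mod_cast hq
  have : (0 : ℤ) < (e.choose 0 : ℤ) * (p : ℤ) ^ 0 * (q : ℤ) ^ (e - 0) := by
    simp only [Nat.choose_zero_right, Nat.cast_one, pow_zero, one_mul, Nat.sub_zero]
    exact pow_pos hq' e
  exact mul_pos this h2

/-- **Kleiman's theorem**: for `L` nef and `H` ample on an integral proper scheme of dimension `n`, the mixed
numbers `(L^i · H^{n-i})` are nonnegative -/
theorem kleiman : ∀ (n : ℕ) (X : Scheme.{u}) [X.Over (Spec (CommRingCat.of k))]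
    [IsProper (X ↘ Spec (CommRingCat.of k))] [IsIntegral X] (L H : X.Modules),
    PicF.IsInvertible L → Nef k X L → CohB1.IsAmple H →
    topologicalKrullDim X = (n : WithBot ℕ∞) → ∀ i, i ≤ n →
    0 ≤ ev k (cls (Coh.structureModule X)) ((Top L - 1) ^ i * (Top H - 1) ^ (n - i)) := by
  intro n
  induction n using Nat.strong_induction_on with
  | _ n IH =>
    intro X _ _ _ L H hL hnef hH hdim i hi
    haveI : IsNoetherian X := isNoetherian_of_proper k
    have hO : Coh.IsCoh (Coh.structureModule X) := Groth.Agent.Lib.Helper6.DevRed.isCoh_structureModule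
    rcases Nat.eq_zero_or_pos n with rfl | hn
    · obtain rfl : i = 0 := by omega
      rw [pow_zero, pow_zero, one_mul]
      exact (Groth.Agent.Lib.Helper2.IntNum5.pos_dim_zero k hdim).le
    obtain ⟨d, rfl⟩ : ∃ d, n = d + 1 := ⟨n - 1, by omega⟩
    set c := cls (Coh.structureModule X) with hc
    set x : AddMonoid.End (K0 X) := Top L - 1 with hx
    set y : AddMonoid.End (K0 X) := Top H - 1 with hy
    have hLx : Low 1 x := Low.top_sub_one hL
    have hLy : Low 1 y := Low.top_sub_one hH.1
    -- nonnegativity at points of smaller dimension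
    have hpt : ∀ e, e < d + 1 → ∀ ξ : X, Dn e ξ → ∀ m, m ≤ e →
        0 ≤ ev k (cls (OZ ξ)) (x ^ m * y ^ (e - m)) := by
      intro e he ξ hξ m hm
      exact ev_point_nonneg_of_integral k e m (e - m)
        (fun Z _ _ _ A B hA hAn hB hZ => IH e he Z A B hA hAn hB hZ m hm) hL hnef hH ξ hξ
    have hcmem : c ∈ Hlt X (d + 2) := by
      apply cls_mem_Hlt _ hO (d + 1)
      rw [← hdim]
      exact topologicalKrullDim_subspace_le X _
    set a : ℕ → ℤ := fun j => ev k c (x ^ j * y ^ (d + 1 - j)) with ha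
    -- the top self-intersection of the ample class
    have h0 : 0 < a 0 := by
      have hsupp : topologicalKrullDim (CohB1.support (Coh.structureModule X)) = ((d + 1 : ℕ) : WithBot ℕ∞) := by
        rw [support_of_isInvertible _ (Groth.Agent.Lib.Helper28.AmpleUnit.isInvertible_structureModule X),
          (Homeomorph.Set.univ X).isHomeomorph.topologicalKrullDim_eq]
        exact hdim
      have h1 := hcoef_pos k H hH (d + 1) _ hO hsupp
      show 0 < ev k c (x ^ 0 * y ^ (d + 1 - 0))
      rw [pow_zero, one_mul, Nat.sub_zero]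
      exact h1
    -- the mixed numbers with at least one ample factor
    have hnn : ∀ j, j ≤ d → 0 ≤ a j := by
      intro j hj
      have hφ : Low d (x ^ j * y ^ (d - j)) := by
        have := (hLx.pow j).mul (hLy.pow (d - j))
        rwa [show j + (d - j) = d by omega] at this
      have h1 := ev_mul_top_sub_one_nonneg k d hdim hH hφ (fun η hη => hpt d (by omega) η hη j hj)
      show 0 ≤ ev k c (x ^ j * y ^ (d + 1 - j))
      rw [show d + 1 - j = (d - j) + 1 by omega, pow_succ, ← mul_assoc]
      exact h1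
    -- the key implication
    have hQ : ∀ p q : ℕ, 0 < p → 0 < q →
        0 < ∑ j ∈ Finset.range (d + 2), ((d + 1).choose j : ℤ) * (p : ℤ) ^ j * (q : ℤ) ^ (d + 1 - j) * a j →
        0 ≤ ∑ j ∈ Finset.range (d + 1), (d.choose j : ℤ) * (p : ℤ) ^ j * (q : ℤ) ^ (d - j) * a (j + 1) := by
      intro p q hp hq hP
      set M := CohB1.tensorMod (CohB1.tensorPow L p) (CohB1.tensorPow H q) with hM
      have hMi : PicF.IsInvertible M := Groth.Agent.Lib.Helper28.GenLocus.isInvertible_tensorMod
        (Groth.Agent.Lib.Helper28.GenLocus.isInvertible_tensorPow hL p)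
        (Groth.Agent.Lib.Helper28.GenLocus.isInvertible_tensorPow hH.1 q)
      have hP1 := ev_mul_pow_polar k hL hH.1 p q Low.one (d + 1) c (by rw [zero_add]; exact hcmem)
      simp only [one_mul] at hP1
      have hP2 : 0 < ev k c ((Top M - 1) ^ (d + 1)) := by
        rw [hP1]
        exact hP
      -- ampleness
      have hMample : CohB1.IsAmple M := by
        apply Groth.Agent.Lib.Helper4.NM6.isAmple_of_pos k hMi
        apply pos_of_points k hMi
        intro e he ξ hξ
        have hle : e ≤ d + 1 := by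
          have h1 : topologicalKrullDim ↥(closure ({ξ} : Set X)) = (e : WithBot ℕ∞) := hξ
          have h2 := topologicalKrullDim_subspace_le X (closure ({ξ} : Set X))
          rw [h1, hdim] at h2
          exact_mod_cast h2
        rcases Nat.lt_or_ge e (d + 1) with hlt | hge
        · exact ev_polar_pos k hL hH p q hq e ξ hξ (fun m hm => hpt e hlt ξ hξ m hm)
        · obtain rfl : e = d + 1 := by omega
          rw [eq_genericPoint_of_Dn (d + 1) hdim ξ hξ,
            ← ev_structureModule_eq k (d + 1) hdim ((Low.top_sub_one hMi).pow (d + 1))]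
          exact hP2
      have hN := nef_mul_ample k d X L M hL hnef hMample hdim
      have hQ1 := ev_mul_pow_polar k hL hH.1 p q hLx d c (by rw [show 1 + (d + 1) = d + 2 by omega]; exact hcmem)
      rw [pow_one] at hN
      rw [hQ1] at hN
      refine le_of_le_of_eq hN ?_
      apply Finset.sum_congr rfl
      intro j hj
      rw [Finset.mem_range] at hj
      show _ = (d.choose j : ℤ) * (p : ℤ) ^ j * (q : ℤ) ^ (d - j) * ev k c (x ^ (j + 1) * y ^ (d + 1 - (j + 1)))
      rw [Nat.add_sub_add_right, ← mul_assoc x, ← pow_succ']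
    have hfinal := Groth.Agent.Lib.Helper4.KLM3.kleiman_analytic d a h0 hnn hQ
    rcases Nat.lt_or_ge i (d + 1) with hlt | hge
    · exact hnn i (by omega)
    · obtain rfl : i = d + 1 := by omega
      exact hfinal

end Groth.Agent.Lib.Helper4.KLM4
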