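import Mathlib
import Groth.Agent.Lib.Helper22.SmoothRat
import Groth.Agent.Lib.Helper22.NormalConnIrr

set_option autoImplicit false
universe u
open CategoryTheory CategoryTheory.Limits AlgebraicGeometry

namespace Groth.Agent.Lib.Helper4.SmoothInt

/-- A smooth, geometrically connected scheme of finite type over a field is integral. -/
theorem isIntegral_of_smooth_geomConnected (k : Type u) [Field k] (X : Scheme.{u})
    (f : X ⟶ Spec (CommRingCat.of k)) [LocallyOfFiniteType f] [QuasiCompact f] [Smooth f]
    [GeometricallyConnected f] : IsIntegral X := by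
  haveI : IsLocallyNoetherian X := LocallyOfFiniteType.isLocallyNoetherian f
  haveI : CompactSpace X := QuasiCompact.compactSpace_of_compactSpace f
  haveI : IsNoetherian X := {}
  haveI : ConnectedSpace X := GeometricallyConnected.connectedSpace_of_subsingleton f
  have hdom : ∀ x : X, IsDomain (X.presheaf.stalk x) := fun x =>
    (Groth.Agent.Lib.Helper22.SmoothRat.isIntegrallyClosed_stalk_of_mem_smoothLocus k f x
      (by rw [Scheme.Hom.smoothLocus_eq_top]; trivial)).1
  haveI : IrreducibleSpace X :=
    Groth.Agent.Lib.Helper22.NormalConnIrr.irreducibleSpace_of_connected_of_isDomain_stalk X hdom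
  haveI : AlgebraicGeometry.IsReduced X := by
    haveI : ∀ x : X, _root_.IsReduced (X.presheaf.stalk x) := fun x => by
      haveI := hdom x
      infer_instance
    exact isReduced_of_isReduced_stalk X
  exact isIntegral_of_irreducibleSpace_of_isReduced X

end Groth.Agent.Lib.Helper4.SmoothInt
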