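import Groth.Agent.Lib.Helper4.CurveVB5
set_option backward.isDefEq.respectTransparency.types false
set_option autoImplicit false
set_option linter.style.haveILetI false

universe u
open CategoryTheory CategoryTheory.Limits AlgebraicGeometry Opposite TopologicalSpace

namespace Groth.Agent.Lib.Helper4.CurveVB
open Groth.Agent.Lib.Helper8.CurveTensor Groth.Agent.Lib.Helper4.GPRank Groth.Agent.Lib.Helper8.EulerK
open Groth.Agent.Lib.Helper4.HilbPoly Groth.Agent.Lib.Helper4.EndScalar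

section basic
variable {X : Scheme.{u}}

theorem subsingleton_stalk_of_isZero {E : X.Modules} (hz : IsZero E) (x : X) :
    Subsingleton (E.presheaf.stalk x) := by
  have key : ∀ a : E.presheaf.stalk x, a = 0 := by
    intro a
    obtain ⟨U, hxU, s, rfl⟩ := TopCat.Presheaf.exists_germ_eq E.presheaf a
    have h1 : s = 0 := by
      have h2 : (𝟙 E : E ⟶ E) = 0 := hz.eq_of_src _ _
      have h3 : (𝟙 E : E ⟶ E).app U s = (0 : E ⟶ E).app U s := by rw [h2]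
      simpa using h3
    rw [h1, map_zero]
  exact ⟨fun a b => (key a).trans (key b).symm⟩

theorem not_isZero_of_rank_pos [Nonempty X] {E : X.Modules} {r : ℕ} (hr : 0 < r)
    (hE : FlatMod.IsFinLocFreeOfRank r E) : ¬ IsZero E := by
  intro hz
  obtain ⟨x⟩ := (inferInstance : Nonempty X)
  obtain ⟨b⟩ := Groth.Agent.Lib.Helper6.K0Tensor.exists_stalkBasis E hE x
  haveI := subsingleton_stalk_of_isZero hz x
  exact b.ne_zero ⟨0, hr⟩ (Subsingleton.elim _ _)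

end basic

variable (k : Type u) [Field k] (X : Scheme.{u}) [X.Over (Spec (CommRingCat.of k))] [IsIntegral X]
  [IsProper (X ↘ Spec (CommRingCat.of k))] [Smooth (X ↘ Spec (CommRingCat.of k))]

/-- **S15334** -/
theorem endomorphism_scalar [IsAlgClosed k] (hdim : topologicalKrullDim X = 1) (r : ℕ) (hr : 0 < r) (E : X.Modules)
    (hE : FlatMod.IsFinLocFreeOfRank r E) (hEst : ModFun.IsSlopeStable k X E r) (φ : E ⟶ E) :
    ∃ c : k, (SheafOfModules.toSheaf X.ringCatSheaf).map φ =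
      Coh.smulAb E (Coh.toGlobal (X ↘ Spec (CommRingCat.of k)) c) := by
  have hEc := isCoh_of_isFinLocFreeOfRank E hE
  have h0 : ¬ IsZero E := not_isZero_of_rank_pos hr hE
  obtain ⟨c, hc⟩ := endomorphism_eq_smulHom_of_forall_isIso k E hEc h0
    (fun ψ hψ => isIso_of_endo_ne_zero k X hdim r E hE hEst ψ hψ) φ
  exact ⟨c, by rw [hc]; exact toSheaf_map_smulHom E _⟩

/-- **S15340** -/
theorem indecomposable (hdim : topologicalKrullDim X = 1) (r : ℕ) (hr : 0 < r) (E : X.Modules)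
    (hE : FlatMod.IsFinLocFreeOfRank r E) (hEst : ModFun.IsSlopeStable k X E r) :
    ¬ IsZero E ∧ ∀ (E₁ E₂ : X.Modules), Nonempty (E ≅ E₁ ⊞ E₂) → IsZero E₁ ∨ IsZero E₂ := by
  refine ⟨not_isZero_of_rank_pos hr hE, ?_⟩
  rintro E₁ E₂ ⟨e⟩
  set p : E ⟶ E := e.hom ≫ biprod.fst ≫ biprod.inl ≫ e.inv with hp
  have hpp : p ≫ p = p := by
    rw [hp]
    simp only [Category.assoc, Iso.inv_hom_id_assoc, biprod.inl_fst_assoc]
  by_cases h0 : p = 0
  · left
    rw [IsZero.iff_id_eq_zero]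
    have h1 : (biprod.fst : E₁ ⊞ E₂ ⟶ E₁) ≫ (biprod.inl : E₁ ⟶ E₁ ⊞ E₂) = 0 := by
      have : e.inv ≫ p ≫ e.hom = 0 := by rw [h0]; simp
      rw [hp] at this
      simpa using this
    calc 𝟙 E₁ = (biprod.inl : E₁ ⟶ E₁ ⊞ E₂) ≫ ((biprod.fst : E₁ ⊞ E₂ ⟶ E₁) ≫ (biprod.inl : E₁ ⟶ E₁ ⊞ E₂)) ≫ (biprod.fst : E₁ ⊞ E₂ ⟶ E₁) := by simp
      _ = 0 := by rw [h1]; simp
  · right
    haveI := isIso_of_endo_ne_zero k X hdim r E hE hEst p h0
    have h1 : p = 𝟙 E := by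
      have := congrArg (fun q => inv p ≫ q) hpp
      simpa using this
    have h2 : (biprod.fst : E₁ ⊞ E₂ ⟶ E₁) ≫ (biprod.inl : E₁ ⟶ E₁ ⊞ E₂) = 𝟙 _ := by
      have : e.inv ≫ p ≫ e.hom = 𝟙 _ := by rw [h1]; simp
      rw [hp] at this
      simpa using this
    rw [IsZero.iff_id_eq_zero]
    calc 𝟙 E₂ = (biprod.inr : E₂ ⟶ E₁ ⊞ E₂) ≫ ((biprod.fst : E₁ ⊞ E₂ ⟶ E₁) ≫ (biprod.inl : E₁ ⟶ E₁ ⊞ E₂)) ≫ (biprod.snd : E₁ ⊞ E₂ ⟶ E₂) := by rw [h2]; simp
      _ = 0 := by simp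

end Groth.Agent.Lib.Helper4.CurveVB
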