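import Groth.Agent.Lib.Helper4.CurveVB7
import Groth.Agent.Lib.Helper8.DegTensor
import Groth.Agent.Lib.Helper2.EffDim
set_option backward.isDefEq.respectTransparency.types false
set_option autoImplicit false
set_option linter.style.haveILetI false

universe u
open CategoryTheory CategoryTheory.Limits AlgebraicGeometry

namespace Groth.Agent.Lib.Helper4.GPKer
open Groth.Agent.Lib.Helper8.CurveTensor Groth.Agent.Lib.Helper4.GPRank Groth.Agent.Lib.Helper8.EulerK
open Groth.Agent.Lib.Helper4.HilbPoly Groth.Agent.Lib.Helper4.CurveVB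

variable (k : Type u) [Field k] (X : Scheme.{u}) [X.Over (Spec (CommRingCat.of k))] [IsIntegral X]
  [IsProper (X ↘ Spec (CommRingCat.of k))]

/-- on a proper integral curve, a coherent module not supported at the generic point has `χ = h⁰` -/
theorem euler_eq_h0 (hdim : topologicalKrullDim X ≤ 1) (M : X.Modules) (hM : Coh.IsCoh M)
    (hgen : genericPoint X ∉ CohB1.support M) :
    Curv2.euler k X M = (Module.finrank k (Coh.HH X M 0) : ℤ) := by
  haveI : IsLocallyNoetherian X := isLocallyNoetherian k X
  have h0 : ∀ x ∈ CohB1.support M, IsClosed ({x} : Set X) := by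
    intro x hx
    apply Groth.Agent.Lib.Helper8.CurveDeg.isClosed_singleton_of_ne_genericPoint hdim
    rintro rfl
    exact hgen hx
  rw [euler_eq_sum k X M 1 (fun p hp => by
    obtain ⟨n, rfl⟩ := Nat.exists_eq_succ_of_ne_zero (by omega : p ≠ 0)
    exact Groth.Agent.Lib.Helper8.CurveDeg.subsingleton_HH_succ M hM h0 n)]
  simp

theorem euler_nonneg (hdim : topologicalKrullDim X ≤ 1) (M : X.Modules) (hM : Coh.IsCoh M)
    (hgen : genericPoint X ∉ CohB1.support M) : 0 ≤ Curv2.euler k X M := by
  rw [euler_eq_h0 k X hdim M hM hgen]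
  positivity

/-- quotients of torsion modules have smaller Euler characteristic -/
theorem euler_le_of_epi (hdim : topologicalKrullDim X ≤ 1) {M N : X.Modules} (p : M ⟶ N) [Epi p]
    (hM : Coh.IsCoh M) (hN : Coh.IsCoh N) (hgen : genericPoint X ∉ CohB1.support M) :
    Curv2.euler k X N ≤ Curv2.euler k X M := by
  haveI : IsLocallyNoetherian X := isLocallyNoetherian k X
  have hK := Groth.Agent.Lib.Helper6.DevCore.isCoh_kernel p hM hN
  have hS : (ShortComplex.mk (kernel.ι p) p (kernel.condition p)).ShortExact :=
    { exact := ShortComplex.exact_kernel p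
      mono_f := by dsimp; infer_instance
      epi_g := by dsimp; infer_instance }
  have hadd := euler_add k X _ hS hK hM hN
  dsimp only at hadd
  have hKgen : genericPoint X ∉ CohB1.support (kernel p) := fun h =>
    hgen (Groth.Agent.Lib.Helper6.DevCore.support_subset_of_mono (kernel.ι p) h)
  have := euler_nonneg k X hdim _ hK hKgen
  omega

omit [IsIntegral X] in
/-- the kernel of `H⁰(g)` is at most as big as `H⁰(ker g)` -/
theorem finrank_ker_HHlin_le {P Q : X.Modules} (g : P ⟶ Q) (hP : Coh.IsCoh P) (hQ : Coh.IsCoh Q) :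
    Module.finrank k (LinearMap.ker (Canon.HHlin k g 0)) ≤ Module.finrank k (Coh.HH X (kernel g) 0) := by
  haveI : IsLocallyNoetherian X := isLocallyNoetherian k X
  have hK := Groth.Agent.Lib.Helper6.DevCore.isCoh_kernel g hP hQ
  haveI := finite_HH k X _ hK 0
  haveI := finite_HH k X _ hP 0
  have hS := Groth.Agent.Lib.Helper8.CurveVan.shortExact_kernel_image g
  have hS' : (ShortComplex.mk (Abelian.image.ι g) (cokernel.π (Abelian.image.ι g))
      (cokernel.condition _)).ShortExact :=
    { exact := ShortComplex.exact_cokernel _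
      mono_f := by dsimp; infer_instance
      epi_g := by dsimp; infer_instance }
  have hinj := Groth.Agent.Lib.Helper4.HLesFin1.injective_zero _ hS' k
  have hex := Groth.Agent.Lib.Helper2.HLesLin.range_eq_ker₂ _ hS k 0
  dsimp only at hinj hex
  have hle : LinearMap.ker (Canon.HHlin k g 0) ≤ LinearMap.range (Canon.HHlin k (kernel.ι g) 0) := by
    intro x hx
    rw [hex, LinearMap.mem_ker]
    apply hinj
    rw [map_zero, Groth.Agent.Lib.Helper2.SerreFin1.HHlin_comp_apply, Abelian.image.fac]
    exact hx
  calc Module.finrank k (LinearMap.ker (Canon.HHlin k g 0))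
      ≤ Module.finrank k (LinearMap.range (Canon.HHlin k (kernel.ι g) 0)) :=
        Submodule.finrank_mono hle
    _ ≤ Module.finrank k (Coh.HH X (kernel g) 0) := LinearMap.finrank_range_le _

end Groth.Agent.Lib.Helper4.GPKer
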