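import Groth.Agent.Lib.Helper4.HilbPoly5
import Groth.Agent.Lib.Helper17.AffineSurj
set_option backward.isDefEq.respectTransparency.types false
set_option autoImplicit false
set_option linter.style.haveILetI false

universe u
open CategoryTheory CategoryTheory.Limits AlgebraicGeometry Opposite TopologicalSpace Polynomial

namespace Groth.Agent.Lib.Helper4.HilbPoly
open Groth.Agent.Lib.Helper4.Snapper Groth.Agent.Lib.Helper6.K0Len Groth.Agent.Lib.Helper6.K0Op
  Groth.Agent.Lib.Helper4.PolyAsymp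

section part1
/-- from the reduced comparison of polynomials of degree `≤ d` to the comparison of `hatSlope`
  (cross-multiplied form) -/
theorem cross_of_redLE {d : ℕ} (hd : 1 ≤ d) {P Q : ℚ[X]} (hP : P.natDegree ≤ d) (hQ : Q.natDegree ≤ d)
    (h : StabCat.RedLE d P Q) :
    StabCat.alpha d Q * StabCat.alpha (d - 1) P ≤ StabCat.alpha d P * StabCat.alpha (d - 1) Q := by
  rw [redLE_iff] at h
  set D : ℚ[X] := StabCat.alpha d P • Q - StabCat.alpha d Q • P with hDdef
  have hD : D.natDegree ≤ d := by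
    refine (natDegree_sub_le _ _).trans (max_le ?_ ?_)
    · exact (natDegree_smul_le _ _).trans hQ
    · exact (natDegree_smul_le _ _).trans hP
  have hDd : D.coeff d = 0 := by
    simp only [hDdef, coeff_sub, coeff_smul, smul_eq_mul, StabCat.alpha]
    ring
  have hD1 : D.natDegree ≤ d - 1 := by
    rw [Polynomial.natDegree_le_iff_coeff_eq_zero]
    intro j hj
    by_cases hjd : j = d
    · rw [hjd]; exact hDd
    · exact Polynomial.coeff_eq_zero_of_natDegree_lt (by omega)
  obtain ⟨N, hN⟩ := h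
  have h1 : ∃ N : ℕ, ∀ m : ℕ, N ≤ m → 0 ≤ D.eval (m : ℚ) := by
    refine ⟨N, fun m hm => ?_⟩
    simp only [hDdef, eval_sub, eval_smul, smul_eq_mul]
    linarith [hN m hm]
  have h2 := coeff_nonneg_of_eventually_nonneg hD1 h1
  simp only [hDdef, coeff_sub, coeff_smul, smul_eq_mul] at h2
  have hf : (0 : ℚ) < ((d - 1).factorial : ℚ) := by exact_mod_cast Nat.factorial_pos _
  unfold StabCat.alpha at *
  nlinarith [mul_nonneg hf.le h2]

theorem hatSlope_le_of_redLE {d : ℕ} (hd : 1 ≤ d) {P Q : ℚ[X]} (hP : P.natDegree ≤ d) (hQ : Q.natDegree ≤ d)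
    (hαP : 0 < StabCat.alpha d P) (hαQ : 0 < StabCat.alpha d Q)
    (h : StabCat.RedLE d P Q) : StabCat.hatSlope d P ≤ StabCat.hatSlope d Q := by
  have := cross_of_redLE hd hP hQ h
  unfold StabCat.hatSlope
  rw [div_le_div_iff₀ hαP hαQ]
  linarith

variable (k : Type u) [Field k] {X : Scheme.{u}} [X.Over (Spec (CommRingCat.of k))]
    [IsProper (X ↘ (Spec (CommRingCat.of k)))] {L : X.Modules}

/-- S15210 -/
theorem isMuSemistable_of_isSemistable (hL : CohB1.IsAmple L) (d : ℕ) (hd : 1 ≤ d) (E : X.Modules)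
    (hE : ShStab.IsSemistable k X L E d) : ShStab.IsMuSemistable k X L E d := by
  obtain ⟨hE, hE0, hEp, hss⟩ := hE
  refine ⟨hE, hE0, dim_support_of_isPure hE hE0 hEp, fun F ι hι hF => ?_,
    fun F ι hι hF pF pE hpF hpE h1 h2 => ?_⟩
  · by_cases hz : IsZero F
    · rw [Groth.Agent.Lib.Helper16.K0Supp.support_of_isZero hz]
      have h0 : topologicalKrullDim (↑(∅ : Set X)) = ⊥ := by
        unfold topologicalKrullDim
        haveI : IsEmpty (↑(∅ : Set X)) := Set.isEmpty_coe_sort.2 rfl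
        haveI : IsEmpty (IrreducibleCloseds (↑(∅ : Set X))) :=
          ⟨fun Z => Z.isIrreducible'.nonempty.elim fun x _ => IsEmpty.false x⟩
        exact Order.krullDim_eq_bot
      rw [h0]
      simp
    · rw [hEp F ι hι hF hz]
      intro h
      have h3 : ((d + 1 : ℕ) : WithBot ℕ∞) = (d : WithBot ℕ∞) := by
        rw [← h]; push_cast; rfl
      have := WithBot.coe_injective h3
      have := ENat.natCast_inj.1 this
      omega
  · haveI := hι
    obtain ⟨hnF, hnE, hαE, -, -, -, -⟩ := sub_facts k hL hE hF hEp hE0 ι hpF hpE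
    apply hatSlope_le_of_redLE hd hnF hnE h1 hαE
    refine hss F ι hι hF ?_ ?_ pF pE hpF hpE
    · intro hz
      have := isHilbPoly_unique k hpF (isHilbPoly_zero k hL.1 hz)
      rw [this] at h1
      unfold StabCat.alpha at h1
      simp at h1
    · intro hiso
      have := isHilbPoly_unique k (isHilbPoly_of_iso k hL.1 (asIso ι) hF hpF) hpE
      rw [this] at h2
      exact lt_irrefl _ h2

end part1

section top
open Order Topology Groth.Agent.Lib.Helper4.DimChain
variable {T : Type*} [TopologicalSpace T]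

/-- the dimension of a union of two closed subsets -/
theorem dim_union_le (A B : Set T) (hA : IsClosed A) (hB : IsClosed B) (d : WithBot ℕ∞)
    (hdA : topologicalKrullDim ↥A ≤ d) (hdB : topologicalKrullDim ↥B ≤ d) :
    topologicalKrullDim ↥(A ∪ B) ≤ d := by
  unfold topologicalKrullDim krullDim
  apply iSup_le
  intro l₀
  have hind : IsInducing (Subtype.val : ↥(A ∪ B) → T) := IsInducing.subtypeVal
  let l : LTSeries (IrreducibleCloseds T) :=
    l₀.map (IrreducibleCloseds.map Subtype.val hind.continuous)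
      (IrreducibleCloseds.map_strictMono_of_isInducing hind)
  have hl : l.length = l₀.length := by simp [l]
  have hdl : l₀.length < l.length + 1 := by omega
  have h1 := index_le_dim l l₀.length hdl
  refine h1.trans ?_
  have hirr : IsIrreducible (l ⟨l₀.length, hdl⟩ : Set T) := (l ⟨l₀.length, hdl⟩).isIrreducible
  have hsub : (l ⟨l₀.length, hdl⟩ : Set T) ⊆ A ∪ B := by
    show closure (Subtype.val '' (l₀ _ : Set ↥(A ∪ B))) ⊆ A ∪ B
    apply closure_minimal _ (hA.union hB)
    rintro _ ⟨x, -, rfl⟩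
    exact x.2
  rcases (isPreirreducible_iff_isClosed_union_isClosed.1 hirr.isPreirreducible) A B hA hB hsub with h | h
  · exact ((IsEmbedding.inclusion h).isInducing.topologicalKrullDim_le).trans hdA
  · exact ((IsEmbedding.inclusion h).isInducing.topologicalKrullDim_le).trans hdB

end top

variable {X : Scheme.{u}}

theorem isCoh_of_shortExact [IsLocallyNoetherian X] (S : ShortComplex X.Modules) (hS : S.ShortExact)
    (h1 : Coh.IsCoh S.X₁) (h3 : Coh.IsCoh S.X₃) : Coh.IsCoh S.X₂ := by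
  haveI : S.X₁.IsQuasicoherent := h1.1
  haveI : S.X₃.IsQuasicoherent := h3.1
  haveI : SheafOfModules.IsFiniteType.{u} (R := X.ringCatSheaf) S.X₁ := h1.2
  haveI : SheafOfModules.IsFiniteType.{u} (R := X.ringCatSheaf) S.X₃ := h3.2
  haveI hq : S.X₂.IsQuasicoherent := Groth.Agent.Lib.Helper17.AffineSurj.isQuasicoherent_of_extension S hS
  refine ⟨hq, ?_⟩
  refine Groth.Agent.Lib.Helper17.FinTypeConv.isFiniteType_of_forall_finite_sections S.X₂ fun U => ?_
  haveI : IsNoetherianRing Γ(X, U.1) := IsLocallyNoetherian.component_noetherian U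
  haveI : Module.Finite Γ(X, U.1) Γ(S.X₁, U.1) := Groth.Agent.Lib.Helper28.FinType.finite_of_isAffineOpen S.X₁ U.2
  haveI : Module.Finite Γ(X, U.1) Γ(S.X₃, U.1) := Groth.Agent.Lib.Helper28.FinType.finite_of_isAffineOpen S.X₃ U.2
  let f : Γ(S.X₁, U.1) →ₗ[Γ(X, U.1)] Γ(S.X₂, U.1) :=
    { toFun := fun k => S.f.app U.1 k
      map_add' := fun a b => map_add _ a b
      map_smul' := fun r a => Scheme.Modules.Hom.app_smul S.f r a }
  let g : Γ(S.X₂, U.1) →ₗ[Γ(X, U.1)] Γ(S.X₃, U.1) :=
    { toFun := fun k => S.g.app U.1 k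
      map_add' := fun a b => map_add _ a b
      map_smul' := fun r a => Scheme.Modules.Hom.app_smul S.g r a }
  haveI : IsNoetherian Γ(X, U.1) Γ(S.X₁, U.1) := isNoetherian_of_isNoetherianRing_of_finite _ _
  haveI : IsNoetherian Γ(X, U.1) Γ(S.X₃, U.1) := isNoetherian_of_isNoetherianRing_of_finite _ _
  have hfg : LinearMap.range f = LinearMap.ker g := by
    ext m
    constructor
    · rintro ⟨m₁, rfl⟩
      exact Groth.Agent.Lib.Helper17.AffineSurj.app_comp_zero S U.1 m₁
    · intro hm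
      obtain ⟨m₁, hm₁⟩ := Groth.Agent.Lib.Helper29.QCohStalk.exists_app_eq_of_shortExact S hS U.1 m hm
      exact ⟨m₁, hm₁⟩
  haveI : IsNoetherian Γ(X, U.1) Γ(S.X₂, U.1) := isNoetherian_of_range_eq_ker f g hfg
  infer_instance

theorem support_subset_union (S : ShortComplex X.Modules) (hS : S.ShortExact) :
    CohB1.support S.X₂ ⊆ CohB1.support S.X₁ ∪ CohB1.support S.X₃ := by
  intro x hx
  by_contra hcon
  rw [Set.mem_union, not_or] at hcon
  obtain ⟨h1, h3⟩ := hcon
  have h1 : Subsingleton (S.X₁.presheaf.stalk x) := not_not.1 h1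
  have h3 : Subsingleton (S.X₃.presheaf.stalk x) := not_not.1 h3
  apply hx
  have hex := Groth.Agent.Lib.Helper17.StalkExact.stalkHom_exact_of_exact S hS.exact x
  refine ⟨fun a b => ?_⟩
  obtain ⟨a', rfl⟩ := (hex a).1 (Subsingleton.elim _ _)
  obtain ⟨b', rfl⟩ := (hex b).1 (Subsingleton.elim _ _)
  rw [Subsingleton.elim a' b']


theorem dim_empty : topologicalKrullDim (↑(∅ : Set X)) = ⊥ := by
  unfold topologicalKrullDim
  haveI : IsEmpty (↑(∅ : Set X)) := Set.isEmpty_coe_sort.2 rfl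
  haveI : IsEmpty (IrreducibleCloseds (↑(∅ : Set X))) :=
    ⟨fun Z => Z.isIrreducible'.nonempty.elim fun x _ => IsEmpty.false x⟩
  exact Order.krullDim_eq_bot

/-- dimension of the support of a pure module, allowing zero -/
theorem dim_support_le_of_isPure {E : X.Modules} {d : ℕ} (hE : Coh.IsCoh E) (hEp : ShStab.IsPure X E d) :
    topologicalKrullDim (CohB1.support E) ≤ (d : WithBot ℕ∞) := by
  by_cases hz : IsZero E
  · rw [Groth.Agent.Lib.Helper16.K0Supp.support_of_isZero hz, dim_empty]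
    exact bot_le
  · exact (dim_support_of_isPure hE hz hEp).le

/-- the pieces of a subobject of the middle term of a short exact sequence -/
theorem sub_decomp [IsLocallyNoetherian X] (S : ShortComplex X.Modules) (hS : S.ShortExact)
    (h3 : Coh.IsCoh S.X₃) {A : X.Modules} (hA : Coh.IsCoh A) (ι : A ⟶ S.X₂) [Mono ι] :
    ∃ (T : ShortComplex X.Modules) (i' : T.X₁ ⟶ S.X₁) (i'' : T.X₃ ⟶ S.X₃), T.ShortExact ∧ T.X₂ = A ∧
      Coh.IsCoh T.X₁ ∧ Coh.IsCoh T.X₃ ∧ Mono i' ∧ Mono i'' ∧ (IsZero T.X₁ → Mono (ι ≫ S.g)) := by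
  haveI := hS.mono_f
  set φ := ι ≫ S.g with hφ
  set e := Abelian.factorThruImage φ with he
  have hI : Coh.IsCoh (Abelian.image φ) := Groth.Agent.Lib.Helper6.DevCore.isCoh_image φ hA h3
  have hK : Coh.IsCoh (kernel e) := Groth.Agent.Lib.Helper6.DevCore.isCoh_kernel e hA hI
  have hzero : (kernel.ι e ≫ ι) ≫ S.g = 0 := by
    rw [Category.assoc, ← hφ]
    have h1 : φ = e ≫ Abelian.image.ι φ := (Abelian.image.fac φ).symm
    calc kernel.ι e ≫ φ = kernel.ι e ≫ (e ≫ Abelian.image.ι φ) := congrArg (fun t => kernel.ι e ≫ t) h1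
      _ = 0 := by rw [← Category.assoc, kernel.condition, Limits.zero_comp]
  refine ⟨ShortComplex.mk (kernel.ι e) e (kernel.condition e), hS.exact.lift (kernel.ι e ≫ ι) hzero,
    Abelian.image.ι φ, shortExact_kernel e, rfl, hK, hI, ?_, inferInstance, ?_⟩
  · have : hS.exact.lift (kernel.ι e ≫ ι) hzero ≫ S.f = kernel.ι e ≫ ι := hS.exact.lift_f _ _
    haveI : Mono (hS.exact.lift (kernel.ι e ≫ ι) hzero ≫ S.f) := by rw [this]; infer_instance
    exact mono_of_mono _ S.f
  · intro hz
    haveI : Mono e := Preadditive.mono_of_kernel_zero (hz.eq_of_src _ _)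
    rw [← Abelian.image.fac φ]
    infer_instance


theorem isPure_of_shortExact [IsLocallyNoetherian X] (S : ShortComplex X.Modules) (hS : S.ShortExact) (d : ℕ)
    (h1 : Coh.IsCoh S.X₁) (h3 : Coh.IsCoh S.X₃) (hp1 : ShStab.IsPure X S.X₁ d) (hp3 : ShStab.IsPure X S.X₃ d) :
    ShStab.IsPure X S.X₂ d := by
  intro A ι hι hA hA0
  haveI := hι
  apply le_antisymm
  · have hsub : CohB1.support A ⊆ CohB1.support S.X₁ ∪ CohB1.support S.X₃ :=
      (Groth.Agent.Lib.Helper6.DevCore.support_subset_of_mono ι).trans (support_subset_union S hS)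
    refine ((Topology.IsEmbedding.inclusion hsub).isInducing.topologicalKrullDim_le).trans ?_
    exact dim_union_le _ _ (Groth.Agent.Lib.Helper6.DevCore.isClosed_support _ h1)
      (Groth.Agent.Lib.Helper6.DevCore.isClosed_support _ h3) _ (dim_support_le_of_isPure h1 hp1)
      (dim_support_le_of_isPure h3 hp3)
  · obtain ⟨T, i', i'', hT, hTA, hT1, hT3, hi', hi'', hz⟩ := sub_decomp S hS h3 hA ι
    by_cases hz1 : IsZero T.X₁
    · haveI := hz hz1
      exact (hp3 A (ι ≫ S.g) inferInstance hA hA0).ge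
    · rw [← hp1 T.X₁ i' hi' hT1 hz1]
      haveI := hT.mono_f
      have := dim_support_le_of_mono T.f
      rw [hTA] at this
      exact this


theorem le_pred_of_lt (a : WithBot ℕ∞) (d : ℕ) (h : a < (d : WithBot ℕ∞)) :
    a ≤ ((d - 1 : ℕ) : WithBot ℕ∞) := by
  induction a using WithBot.recBotCoe with
  | bot => exact bot_le
  | coe a =>
    induction a using ENat.recTopCoe with
    | top =>
      exfalso
      have h1 : ((⊤ : ℕ∞) : WithBot ℕ∞) < ((d : ℕ∞) : WithBot ℕ∞) := h
      rw [WithBot.coe_lt_coe] at h1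
      exact not_top_lt h1
    | coe n =>
      have h1 : (((n : ℕ∞)) : WithBot ℕ∞) < ((d : ℕ∞) : WithBot ℕ∞) := h
      rw [WithBot.coe_lt_coe, Nat.cast_lt] at h1
      have h2 : n ≤ d - 1 := by omega
      show (((n : ℕ∞)) : WithBot ℕ∞) ≤ (((d - 1 : ℕ) : ℕ∞) : WithBot ℕ∞)
      rw [WithBot.coe_le_coe, Nat.cast_le]
      exact h2

variable (k : Type u) [Field k] [X.Over (Spec (CommRingCat.of k))]
    [IsProper (X ↘ (Spec (CommRingCat.of k)))] {L : X.Modules}

/-- a coherent module with support of dimension `≤ d` and vanishing multiplicity has support of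
  dimension `≤ d - 1` -/
theorem dim_le_pred_of_alpha_eq_zero (hL : CohB1.IsAmple L) {C : X.Modules} (hC : Coh.IsCoh C) {d : ℕ}
    (hdC : topologicalKrullDim (CohB1.support C) ≤ (d : WithBot ℕ∞)) {pC : ℚ[X]}
    (hpC : ShStab.IsHilbPoly k X L C pC) (h0 : StabCat.alpha d pC = 0) :
    topologicalKrullDim (CohB1.support C) ≤ ((d - 1 : ℕ) : WithBot ℕ∞) := by
  apply le_pred_of_lt
  apply lt_of_le_of_ne hdC
  intro heq
  have := alpha_pos k hL hC heq hpC
  rw [h0] at this
  exact lt_irrefl _ this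

/-- the slope inequality of a slope-semistable pure module, in cross-multiplied form, for ALL coherent
  submodules -/
theorem muSS_cross (hL : CohB1.IsAmple L) {d : ℕ} {E : X.Modules} (hE : Coh.IsCoh E)
    (hE0 : ¬ IsZero E) (hEp : ShStab.IsPure X E d)
    (hmu : StabCat.IsMuSS Coh.IsCoh (ShStab.IsHilbPoly k X L) d E) {A : X.Modules} (hA : Coh.IsCoh A)
    (ι : A ⟶ E) [Mono ι] {pA pE : ℚ[X]} (hpA : ShStab.IsHilbPoly k X L A pA)
    (hpE : ShStab.IsHilbPoly k X L E pE) :
    StabCat.alpha (d - 1) pA * StabCat.alpha d pE ≤ StabCat.alpha (d - 1) pE * StabCat.alpha d pA := by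
  obtain ⟨hnA, hnE, hαE, hle, hpos, -, -⟩ := sub_facts k hL hE hA hEp hE0 ι hpA hpE
  by_cases hz : IsZero A
  · have := isHilbPoly_unique k hpA (isHilbPoly_zero k hL.1 hz)
    rw [this]
    simp [StabCat.alpha]
  have hαA := hpos hz
  rcases lt_or_eq_of_le hle with hlt | heq
  · have h := hmu A ι inferInstance hA pA pE hpA hpE hαA hlt
    unfold StabCat.hatSlope at h
    rw [div_le_div_iff₀ hαA hαE] at h
    exact h
  · -- the cokernel has dimension `≤ d - 1`
    have hC : Coh.IsCoh (cokernel ι) := Groth.Agent.Lib.Helper6.DevCore.isCoh_cokernel ι hA hE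
    obtain ⟨hpC, -⟩ := polyLE_of_mono k hL hA hE ι hpA hpE
    have hdE := dim_support_of_isPure hE hE0 hEp
    have hdC : topologicalKrullDim (CohB1.support (cokernel ι)) ≤ (d : WithBot ℕ∞) := by
      rw [← hdE]
      exact (Topology.IsEmbedding.inclusion
        (Groth.Agent.Lib.Helper6.DevCore.support_subset_of_epi (cokernel.π ι))).isInducing.topologicalKrullDim_le
    have h0 : StabCat.alpha d (pE - pA) = 0 := by rw [alpha_sub, heq, sub_self]
    have hdC' := dim_le_pred_of_alpha_eq_zero k hL hC hdC hpC h0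
    have h1 := alpha_nonneg k hL hC hdC' hpC
    rw [alpha_sub] at h1
    rw [heq]
    nlinarith


/-- S18965 -/
theorem hom_eq_zero_of_isMuSemistable (hL : CohB1.IsAmple L) {d : ℕ} {F G : X.Modules}
    (hFp : ShStab.IsPure X F d) (hGp : ShStab.IsPure X G d)
    (hF : ShStab.IsMuSemistable k X L F d) (hG : ShStab.IsMuSemistable k X L G d)
    {pF pG : ℚ[X]} (hpF : ShStab.IsHilbPoly k X L F pF) (hpG : ShStab.IsHilbPoly k X L G pG)
    (hlt : StabCat.hatSlope d pG < StabCat.hatSlope d pF) (φ : F ⟶ G) : φ = 0 := by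
  haveI : IsLocallyNoetherian X := Groth.Agent.Lib.Helper8.EulerK.isLocallyNoetherian k X
  obtain ⟨hFc, hF0, hFd, -, hFmu⟩ := hF
  obtain ⟨hGc, hG0, hGd, -, hGmu⟩ := hG
  by_contra hφ
  obtain ⟨hI, hI0, hId, hpI, hαI⟩ := image_facts k hL hFc hGc hGp φ hφ
  set pI := hilb k L (Abelian.image φ) d with hpIdef
  have h1 := muSS_cross k hL hGc hG0 hGp hGmu hI (Abelian.image.ι φ) hpI hpG
  set e := Abelian.factorThruImage φ with he
  have hK : Coh.IsCoh (kernel e) := Groth.Agent.Lib.Helper6.DevCore.isCoh_kernel e hFc hI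
  have hpK := isHilbPoly_sub_right k hL.1 _ (shortExact_kernel e) hK hFc hI hpF hpI
  have h2 := muSS_cross k hL hFc hF0 hFp hFmu hK (kernel.ι e) hpK hpF
  rw [alpha_sub, alpha_sub] at h2
  have hαF := alpha_pos k hL hFc hFd hpF
  have hαG := alpha_pos k hL hGc hGd hpG
  unfold StabCat.hatSlope at hlt
  rw [div_lt_div_iff₀ hαG hαF] at hlt
  have h3 : StabCat.alpha (d - 1) pF * StabCat.alpha d pI ≤ StabCat.alpha (d - 1) pI * StabCat.alpha d pF := by
    nlinarith
  have h4 := mul_le_mul_of_nonneg_right h3 hαG.le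
  have h5 := mul_le_mul_of_nonneg_right h1 hαF.le
  have h6 := mul_lt_mul_of_pos_right hlt hαI
  nlinarith

/-- S18967 -/
theorem isMuSemistable_of_shortExact (hL : CohB1.IsAmple L) {d : ℕ}
    (T : ShortComplex X.Modules) (hT : T.ShortExact)
    (hFp : ShStab.IsPure X T.X₁ d) (hGp : ShStab.IsPure X T.X₃ d)
    (hF : ShStab.IsMuSemistable k X L T.X₁ d) (hG : ShStab.IsMuSemistable k X L T.X₃ d)
    {pF pG : ℚ[X]} (hpF : ShStab.IsHilbPoly k X L T.X₁ pF) (hpG : ShStab.IsHilbPoly k X L T.X₃ pG)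
    (hμ : StabCat.hatSlope d pF = StabCat.hatSlope d pG) :
    ShStab.IsMuSemistable k X L T.X₂ d ∧
      ∀ pH : ℚ[X], ShStab.IsHilbPoly k X L T.X₂ pH → StabCat.hatSlope d pH = StabCat.hatSlope d pF := by
  haveI : IsLocallyNoetherian X := Groth.Agent.Lib.Helper8.EulerK.isLocallyNoetherian k X
  obtain ⟨hFc, hF0, hFd, -, hFmu⟩ := hF
  obtain ⟨hGc, hG0, hGd, -, hGmu⟩ := hG
  haveI := hT.mono_f
  have hHc : Coh.IsCoh T.X₂ := isCoh_of_shortExact T hT hFc hGc
  have hH0 : ¬ IsZero T.X₂ := fun hz => hF0 (IsZero.of_mono T.f hz)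
  have hHp : ShStab.IsPure X T.X₂ d := isPure_of_shortExact T hT d hFc hGc hFp hGp
  have hHd := dim_support_of_isPure hHc hH0 hHp
  have hαF := alpha_pos k hL hFc hFd hpF
  have hαG := alpha_pos k hL hGc hGd hpG
  have hpH' := isHilbPoly_add k hL.1 T hT hFc hHc hGc hpF hpG
  -- the common slope
  set μ := StabCat.hatSlope d pF with hμdef
  have hμF : StabCat.alpha (d - 1) pF = μ * StabCat.alpha d pF := by
    rw [hμdef]; unfold StabCat.hatSlope; field_simp
  have hμG : StabCat.alpha (d - 1) pG = μ * StabCat.alpha d pG := by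
    rw [hμ]; unfold StabCat.hatSlope; field_simp
  have hslope : ∀ pH : ℚ[X], ShStab.IsHilbPoly k X L T.X₂ pH → StabCat.hatSlope d pH = μ := by
    intro pH hpH
    rw [isHilbPoly_unique k hpH hpH']
    unfold StabCat.hatSlope
    rw [alpha_add, alpha_add, hμF, hμG]
    have : StabCat.alpha d pF + StabCat.alpha d pG ≠ 0 := by positivity
    field_simp
  refine ⟨⟨hHc, hH0, hHd, fun A ι hι hA => ?_, fun A ι hι hA pA pH hpA hpH h1 h2 => ?_⟩, hslope⟩
  · by_cases hz : IsZero A
    · rw [Groth.Agent.Lib.Helper16.K0Supp.support_of_isZero hz, dim_empty]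
      simp
    · rw [hHp A ι hι hA hz]
      intro h
      have h3 : ((d + 1 : ℕ) : WithBot ℕ∞) = (d : WithBot ℕ∞) := by
        rw [← h]; push_cast; rfl
      have := WithBot.coe_injective h3
      have := ENat.natCast_inj.1 this
      omega
  · haveI := hι
    rw [hslope pH hpH]
    obtain ⟨T', i', i'', hT', hTA, hT1, hT3, hi', hi'', -⟩ := sub_decomp T hT hGc hA ι
    haveI := hi'
    haveI := hi''
    have hd3 : topologicalKrullDim (CohB1.support T'.X₃) ≤ (d : WithBot ℕ∞) :=
      hGd ▸ dim_support_le_of_mono i''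
    have hp3 := isHilbPoly_hilb k hL.1 _ hT3 d hd3
    set p3 := hilb k L T'.X₃ d
    have hA' : Coh.IsCoh T'.X₂ := hTA ▸ hA
    have hpA' : ShStab.IsHilbPoly k X L T'.X₂ pA := by rw [hTA]; exact hpA
    have hp1 := isHilbPoly_sub_right k hL.1 _ hT' hT1 hA' hT3 hpA' hp3
    have c1 := muSS_cross k hL hFc hF0 hFp hFmu hT1 i' hp1 hpF
    have c3 := muSS_cross k hL hGc hG0 hGp hGmu hT3 i'' hp3 hpG
    rw [hμF] at c1
    rw [hμG] at c3
    rw [alpha_sub, alpha_sub] at c1
    have e1 : StabCat.alpha (d - 1) pA - StabCat.alpha (d - 1) p3 ≤ μ * (StabCat.alpha d pA - StabCat.alpha d p3) := by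
      by_contra hcon
      rw [not_le] at hcon
      have := mul_lt_mul_of_pos_right hcon hαF
      nlinarith
    have e3 : StabCat.alpha (d - 1) p3 ≤ μ * StabCat.alpha d p3 := by
      by_contra hcon
      rw [not_le] at hcon
      have := mul_lt_mul_of_pos_right hcon hαG
      nlinarith
    unfold StabCat.hatSlope
    rw [div_le_iff₀ h1]
    linarith

end Groth.Agent.Lib.Helper4.HilbPoly
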