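import Groth.Agent.Lib.Helper4.TFCurve
import Groth.Agent.Lib.Helper4.GPKer
import Groth.Agent.Lib.Helper4.HilbPoly6
set_option autoImplicit false
set_option linter.style.haveILetI false

universe u
open CategoryTheory CategoryTheory.Limits AlgebraicGeometry Opposite TopologicalSpace

namespace Groth.Agent.Lib.Helper4.TFCurve

section cat
variable {C : Type*} [Category C] [Abelian C]

/-- the preimage in `F` of a subobject `G` of a quotient `F ⟶ Q` with kernel `A`: an extension of `G` by `A` -/
theorem preimage_shortExact {A F Q G : C} (i : A ⟶ F) (π : F ⟶ Q) (hπ : i ≫ π = 0)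
    (hex : (ShortComplex.mk i π hπ).ShortExact) (j : G ⟶ Q) [Mono j] :
    ∃ (G' : C) (p₁ : G' ⟶ F) (a : A ⟶ G') (p₂ : G' ⟶ G) (w : a ≫ p₂ = 0), Mono p₁ ∧ a ≫ p₁ = i ∧
      p₁ ≫ π = p₂ ≫ j ∧ (ShortComplex.mk a p₂ w).ShortExact := by
  haveI : Mono i := hex.mono_f
  haveI : Epi π := hex.epi_g
  let a : A ⟶ pullback π j := pullback.lift i 0 (by rw [hπ, zero_comp])
  have ha₁ : a ≫ pullback.fst π j = i := pullback.lift_fst _ _ _
  have ha₂ : a ≫ pullback.snd π j = 0 := pullback.lift_snd _ _ _
  haveI : Mono a := by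
    haveI : Mono (a ≫ pullback.fst π j) := by rw [ha₁]; infer_instance
    exact mono_of_mono a (pullback.fst π j)
  haveI : Epi (pullback.snd π j) := Abelian.epi_pullback_of_epi_f π j
  refine ⟨pullback π j, pullback.fst π j, a, pullback.snd π j, ha₂, inferInstance, ha₁,
    pullback.condition, ?_⟩
  refine ShortComplex.ShortExact.mk' ?_ inferInstance inferInstance
  apply ShortComplex.exact_of_f_is_kernel
  refine KernelFork.IsLimit.ofι _ _ (fun {Z} t ht => hex.exact.lift (t ≫ pullback.fst π j) ?_) ?_ ?_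
  · dsimp
    rw [Category.assoc, pullback.condition, ← Category.assoc, ht, zero_comp]
  · intro Z t ht
    dsimp
    apply pullback.hom_ext
    · rw [Category.assoc, ha₁]
      exact hex.exact.lift_f _ _
    · rw [Category.assoc, ha₂, comp_zero, ht]
  · intro Z t ht m hm
    dsimp at hm ⊢
    rw [← cancel_mono a, hm]
    apply pullback.hom_ext
    · rw [Category.assoc, ha₁]
      exact (hex.exact.lift_f _ _).symm
    · rw [Category.assoc, ha₂, comp_zero, ht]

end cat



open Groth.Agent.Lib.Helper8.CurveTensor Groth.Agent.Lib.Helper4.GPRank Groth.Agent.Lib.Helper8.EulerK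
open Groth.Agent.Lib.Helper4.HilbPoly Groth.Agent.Lib.Helper4.CurveVB

variable (k : Type u) [Field k] (X : Scheme.{u}) [X.Over (Spec (CommRingCat.of k))] [IsIntegral X]
  [IsProper (X ↘ Spec (CommRingCat.of k))] [Smooth (X ↘ Spec (CommRingCat.of k))]

/-- the preimage in a bundle `F` of a coherent submodule `G` of a quotient `F/A`: a subbundle of rank
`rk A + rk G` and degree `deg A + deg G` -/
theorem preimage_locFree (hdim : topologicalKrullDim X = 1) (S : ShortComplex X.Modules) (hS : S.ShortExact)
    {rA s : ℕ} (hA : FlatMod.IsFinLocFreeOfRank rA S.X₁) (hF : FlatMod.IsFinLocFreeOfRank s S.X₂)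
    {G : X.Modules} (j : G ⟶ S.X₃) (hj : Mono j) (hG : Coh.IsCoh G) :
    ∃ (G' : X.Modules) (p₁ : G' ⟶ S.X₂), Mono p₁ ∧ FlatMod.IsFinLocFreeOfRank (rA + grank X G) G' ∧
      Curv2.deg k X G' (rA + grank X G) = Curv2.deg k X S.X₁ rA + Curv2.deg k X G (grank X G) := by
  haveI := hj
  haveI : IsLocallyNoetherian X := isLocallyNoetherian k X
  obtain ⟨G', p₁, a, p₂, w, hp₁, -, -, hS'⟩ := preimage_shortExact S.f S.g S.zero hS j
  haveI := hp₁
  have hAc := isCoh_of_isFinLocFreeOfRank _ hA
  have hG'c : Coh.IsCoh G' := isCoh_of_shortExact _ hS' hAc hG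
  have hloc := isFinLocFreeOfRank_of_mono (X ↘ Spec (CommRingCat.of k)) hdim p₁ hG'c hF
  have hg := grank_add X _ hS' hAc hG'c hG
  dsimp only at hg
  rw [grank_of_isFinLocFreeOfRank _ hA] at hg
  rw [hg] at hloc
  refine ⟨G', p₁, hp₁, hloc, ?_⟩
  exact deg_add k X _ hS' hAc hG'c hG rA (grank X G)



omit [Smooth (X ↘ Spec (CommRingCat.of k))] in
/-- a torsion coherent module with non-positive Euler characteristic vanishes -/
theorem isZero_of_euler_nonpos (hdim : topologicalKrullDim X ≤ 1) (S : X.Modules) (hS : Coh.IsCoh S)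
    (hgen : genericPoint X ∉ CohB1.support S) (hχ : Curv2.euler k X S ≤ 0) : IsZero S := by
  haveI : IsLocallyNoetherian X := isLocallyNoetherian k X
  by_contra hnz
  have h0 : ∀ x ∈ CohB1.support S, IsClosed ({x} : Set X) := by
    intro x hx
    apply Groth.Agent.Lib.Helper8.CurveDeg.isClosed_singleton_of_ne_genericPoint hdim
    rintro rfl
    exact hgen hx
  haveI := Groth.Agent.Lib.Helper8.CurveDeg.nontrivial_HH_zero S hS h0 hnz
  haveI := finite_HH k X S hS 0
  have hpos := Module.finrank_pos (R := k) (M := Coh.HH X S 0)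
  rw [Groth.Agent.Lib.Helper4.GPKer.euler_eq_h0 k X hdim S hS hgen] at hχ
  omega

omit [IsProper (X ↘ Spec (CommRingCat.of k))] [Smooth (X ↘ Spec (CommRingCat.of k))] in
theorem deg_zero_rank (S : X.Modules) : Curv2.deg k X S 0 = Curv2.euler k X S := by
  unfold Curv2.deg
  simp

/-- **S16469**: kernel and cokernel of a morphism of semistable bundles of the same slope -/
theorem kernel_cokernel (hdim : topologicalKrullDim X = 1)
    (r s : ℕ) (hr : 0 < r) (hs : 0 < s) (E F : X.Modules)
    (hE : FlatMod.IsFinLocFreeOfRank r E) (hF : FlatMod.IsFinLocFreeOfRank s F)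
    (hEss : ModFun.IsSlopeSemistable k X E r) (hFss : ModFun.IsSlopeSemistable k X F s)
    (hμ : Curv2.deg k X E r * (s : ℤ) = Curv2.deg k X F s * (r : ℤ)) (f : E ⟶ F) :
    (∃ r₀ : ℕ, FlatMod.IsFinLocFreeOfRank r₀ (kernel f) ∧
        Curv2.deg k X (kernel f) r₀ * (r : ℤ) = Curv2.deg k X E r * (r₀ : ℤ) ∧
        ∀ (G : X.Modules) (n : ℕ) (j : G ⟶ kernel f), Mono j → 0 < n → FlatMod.IsFinLocFreeOfRank n G →
          Curv2.deg k X G n * (r₀ : ℤ) ≤ Curv2.deg k X (kernel f) r₀ * (n : ℤ)) ∧
      (∃ s₀ : ℕ, FlatMod.IsFinLocFreeOfRank s₀ (cokernel f) ∧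
        Curv2.deg k X (cokernel f) s₀ * (s : ℤ) = Curv2.deg k X F s * (s₀ : ℤ) ∧
        ∀ (G : X.Modules) (n : ℕ) (j : G ⟶ cokernel f), Mono j → 0 < n → FlatMod.IsFinLocFreeOfRank n G →
          Curv2.deg k X G n * (s₀ : ℤ) ≤ Curv2.deg k X (cokernel f) s₀ * (n : ℤ)) := by
  haveI : IsLocallyNoetherian X := isLocallyNoetherian k X
  haveI : CompactSpace X := QuasiCompact.compactSpace_of_compactSpace (X ↘ Spec (CommRingCat.of k))
  haveI : IsNoetherian X := { }
  have hEc := isCoh_of_isFinLocFreeOfRank E hE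
  have hFc := isCoh_of_isFinLocFreeOfRank F hF
  obtain ⟨rK, rI, hK, hI, hr', hIs, hdeg, hI0, hK0⟩ := ker_im k X hdim f hE hF
  set dE := Curv2.deg k X E r with hdE
  set dF := Curv2.deg k X F s with hdF
  set dK := Curv2.deg k X (kernel f) rK with hdK
  set dI := Curv2.deg k X (Abelian.image f) rI with hdI
  have hrZ : (r : ℤ) = rK + rI := by exact_mod_cast hr'.symm
  have hrpos : (0 : ℤ) < r := by exact_mod_cast hr
  have hspos : (0 : ℤ) < s := by exact_mod_cast hs
  -- the two semistability inequalities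
  have ineq1 : dK * r ≤ dE * rK := by
    rcases Nat.eq_zero_or_pos rK with h0 | hpos
    · subst h0
      have hz := isZero_of_rank_zero hK
      have : dK = 0 := deg_of_isZero k X hz
      rw [this]; simp
    · exact hEss _ rK (kernel.ι f) inferInstance hpos hK
  have ineq2 : dI * s ≤ dF * rI := by
    rcases Nat.eq_zero_or_pos rI with h0 | hpos
    · subst h0
      have hz := isZero_of_rank_zero hI
      have : dI = 0 := deg_of_isZero k X hz
      rw [this]; simp
    · exact hFss _ rI (Abelian.image.ι f) inferInstance hpos hI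
  -- equalities
  have e1 : dI * r ≥ dE * rI := by
    have : dI = dE - dK := by linarith
    rw [this, hrZ] at *
    nlinarith
  have e2 : dI * s = dF * rI := by
    have h1 : dI * r * s ≥ dF * r * rI := by
      have := mul_le_mul_of_nonneg_right e1 hspos.le
      calc dF * r * rI = dE * s * rI := by rw [hμ]
        _ = dE * rI * s := by ring
        _ ≤ dI * r * s := this
    have h2 : dI * s * r ≤ dF * rI * r := mul_le_mul_of_nonneg_right ineq2 hrpos.le
    have h3 : (dI * s) * r = (dF * rI) * r := by nlinarith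
    exact mul_right_cancel₀ hrpos.ne' h3
  have e3 : dI * r = dE * rI := by
    have h3 : (dI * r) * s = (dE * rI) * s := by
      calc (dI * r) * s = (dI * s) * r := by ring
        _ = dF * rI * r := by rw [e2]
        _ = (dF * r) * rI := by ring
        _ = (dE * s) * rI := by rw [hμ]
        _ = (dE * rI) * s := by ring
    exact mul_right_cancel₀ hspos.ne' h3
  have e4 : dK * r = dE * rK := by
    have : dK = dE - dI := by linarith
    rw [this, sub_mul, e3, hrZ]
    ring
  refine ⟨⟨rK, hK, e4, fun G n j hj hn hG => ?_⟩, ?_⟩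
  · -- semistability of the kernel
    haveI := hj
    have h1 := hEss G n (j ≫ kernel.ι f) inferInstance hn hG
    have h2 : (Curv2.deg k X G n * rK) * r ≤ (dK * n) * r := by
      calc (Curv2.deg k X G n * rK) * r = (Curv2.deg k X G n * r) * rK := by ring
        _ ≤ (dE * n) * rK := mul_le_mul_of_nonneg_right h1 (by positivity)
        _ = (dE * rK) * n := by ring
        _ = (dK * r) * n := by rw [e4]
        _ = (dK * n) * r := by ring
    exact le_of_mul_le_mul_right h2 hrpos
  · -- the cokernel
    have hSc := Groth.Agent.Lib.Helper6.DevStep.sc2_shortExact f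
    have hCc : Coh.IsCoh (cokernel f) := Groth.Agent.Lib.Helper6.DevCore.isCoh_cokernel f hEc hFc
    have hIc := isCoh_of_isFinLocFreeOfRank _ hI
    -- purity
    have hpure : ∀ (S : X.Modules) (j : S ⟶ cokernel f), Mono j → Coh.IsCoh S →
        genericPoint X ∉ CohB1.support S → IsZero S := by
      intro S j hj hS hgen
      haveI := hj
      obtain ⟨G', p₁, hp₁, hloc, hdegG'⟩ := preimage_locFree k X hdim _ hSc hI hF j hj hS
      rw [grank_eq_zero X S hgen, add_zero] at hloc hdegG'
      rw [deg_zero_rank] at hdegG'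
      apply isZero_of_euler_nonpos k X hdim.le S hS hgen
      rcases Nat.eq_zero_or_pos rI with h0 | hpos
      · subst h0
        have hz := isZero_of_rank_zero hloc
        have hzI := isZero_of_rank_zero hI
        have h1 : Curv2.deg k X G' 0 = 0 := deg_of_isZero k X hz
        have h2 : Curv2.deg k X (Abelian.image f) 0 = 0 := deg_of_isZero k X hzI
        change Curv2.deg k X G' 0 = Curv2.deg k X (Abelian.image f) 0 + _ at hdegG'
        rw [h1, h2] at hdegG'
        linarith
      · have h1 := hFss G' rI p₁ hp₁ hpos hloc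
        change Curv2.deg k X G' rI = dI + _ at hdegG'
        rw [hdegG'] at h1
        have h2 : (dI + Curv2.euler k X S) * s ≤ dI * s := by rw [e2]; exact h1
        have h3 : Curv2.euler k X S * s ≤ 0 := by linarith
        by_contra hcon
        rw [not_le] at hcon
        have := mul_pos hcon hspos
        linarith
    have hCloc := isFinLocFreeOfRank_of_pure (X ↘ Spec (CommRingCat.of k)) hdim (cokernel f) hCc hpure
    have hg := grank_add X _ hSc hIc hFc hCc
    change grank X F = grank X (Abelian.image f) + grank X (cokernel f) at hg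
    rw [grank_of_isFinLocFreeOfRank _ hF, grank_of_isFinLocFreeOfRank _ hI] at hg
    set s₀ := grank X (cokernel f) with hs₀
    have hdC := deg_add k X _ hSc hIc hFc hCc rI s₀
    change Curv2.deg k X F (rI + s₀) = dI + Curv2.deg k X (cokernel f) s₀ at hdC
    rw [← hg] at hdC
    set dC := Curv2.deg k X (cokernel f) s₀ with hdC'
    have hsZ : (s : ℤ) = rI + s₀ := by exact_mod_cast hg
    have e5 : dC * s = dF * s₀ := by
      have : dC = dF - dI := by linarith
      rw [this, sub_mul, e2, hsZ]
      ring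
    refine ⟨s₀, hCloc, e5, fun G n j hj hn hG => ?_⟩
    haveI := hj
    have hGc := isCoh_of_isFinLocFreeOfRank _ hG
    obtain ⟨G', p₁, hp₁, hloc, hdegG'⟩ := preimage_locFree k X hdim _ hSc hI hF j hj hGc
    rw [grank_of_isFinLocFreeOfRank _ hG] at hloc hdegG'
    have h1 := hFss G' (rI + n) p₁ hp₁ (by omega) hloc
    change Curv2.deg k X G' (rI + n) = dI + _ at hdegG'
    rw [hdegG'] at h1
    push_cast at h1
    have h2 : Curv2.deg k X G n * s ≤ dF * n := by
      have : (dI + Curv2.deg k X G n) * s = dI * s + Curv2.deg k X G n * s := by ring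
      rw [this, e2] at h1
      linarith
    have h3 : (Curv2.deg k X G n * s₀) * s ≤ (dC * n) * s := by
      calc (Curv2.deg k X G n * s₀) * s = (Curv2.deg k X G n * s) * s₀ := by ring
        _ ≤ (dF * n) * s₀ := mul_le_mul_of_nonneg_right h2 (by positivity)
        _ = (dF * s₀) * n := by ring
        _ = (dC * s) * n := by rw [e5]
        _ = (dC * n) * s := by ring
    exact le_of_mul_le_mul_right h3 hspos

end Groth.Agent.Lib.Helper4.TFCurve
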