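import Groth.Agent.Lib.Helper4.VanIdeal
import Groth.Agent.Lib.Helper28.PullbackAmple

set_option autoImplicit false
universe u
open CategoryTheory CategoryTheory.Limits Opposite TopologicalSpace AlgebraicGeometry

noncomputable section

namespace Groth.Agent.Lib.Helper4.AmpleComp

open Groth.Agent.Lib.Helper28 Groth.Agent.Lib.Helper28.GenLocus Groth.Agent.Lib.Helper4.VanClass
  Groth.Agent.Lib.Helper4.VanIdeal Scheme.IdealSheafData

variable {X : Scheme.{u}}

/-- the support of a finite product of ideal sheaves contains the supports of the factors -/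
theorem mem_support_prod {α : Type*} [DecidableEq α] (s : Finset α) (I : α → X.IdealSheafData) (x : X)
    (h : ∃ a ∈ s, x ∈ (I a).support) : x ∈ (∏ a ∈ s, I a).support := by
  induction s using Finset.induction_on with
  | empty => obtain ⟨a, ha, -⟩ := h; simp at ha
  | insert a s ha ih =>
    rw [Finset.prod_insert ha, support_mul]
    obtain ⟨b, hb, hxb⟩ := h
    rcases Finset.mem_insert.1 hb with rfl | hb'
    · exact Or.inl hxb
    · exact Or.inr (ih ⟨b, hb', hxb⟩)

/-- a finite product of vanishing ideals of closed sets covering `X` lies in the nilradical -/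
theorem prod_vanishingIdeal_le_nilradical (s : Finset (Closeds X)) (hs : ∀ x : X, ∃ Z ∈ s, x ∈ Z) :
    ∏ Z ∈ s, vanishingIdeal Z ≤ X.nilradical := by
  classical
  rw [← vanishingIdeal_top, ← le_support_iff_le_vanishingIdeal]
  intro x _
  obtain ⟨Z, hZ, hxZ⟩ := hs x
  refine mem_support_prod s _ x ⟨Z, hZ, ?_⟩
  have : Z ≤ (vanishingIdeal Z).support := le_support_iff_le_vanishingIdeal.2 le_rfl
  exact this hxZ

/-- the nilradical of a Noetherian scheme is nilpotent -/
theorem exists_nilradical_pow_eq_bot [IsNoetherian X] : ∃ k : ℕ, X.nilradical ^ k = ⊥ := by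
  classical
  obtain ⟨t, ht⟩ := isCompact_univ.elim_finite_subcover (fun i : X.affineOpens => ((i.1 : X.Opens) : Set X))
    (fun i => i.1.2) (by
      intro y _
      have : y ∈ (⨆ i : X.affineOpens, (i.1 : X.Opens)) := by rw [iSup_affineOpens_eq_top]; trivial
      obtain ⟨i, hi⟩ := Opens.mem_iSup.1 this
      exact Set.mem_iUnion.2 ⟨i, hi⟩)
  have hk : ∀ U : X.affineOpens, ∃ k : ℕ, (nilradical Γ(X, U.1)) ^ k = ⊥ := by
    intro U
    haveI : IsNoetherianRing Γ(X, U.1) := IsLocallyNoetherian.component_noetherian U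
    exact IsNoetherianRing.isNilpotent_nilradical Γ(X, U.1)
  choose k hk using hk
  refine ⟨t.sup k, ?_⟩
  refine ext_of_iSup_eq_top (fun U : ↥t => U.1) ?_ (fun U => ?_)
  · ext y
    simp only [Opens.coe_iSup, Set.mem_iUnion, SetLike.mem_coe, Opens.coe_top, Set.mem_univ, iff_true]
    have := ht (Set.mem_univ y)
    simp only [Set.mem_iUnion] at this
    obtain ⟨i, hi, hy⟩ := this
    exact ⟨⟨i, hi⟩, hy⟩
  · have h1 : (X.nilradical ^ t.sup k).ideal U.1 = (nilradical Γ(X, U.1.1)) ^ t.sup k := by
      rw [ideal_pow]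
      rfl
    rw [h1, ideal_bot]
    have hle : k U.1 ≤ t.sup k := Finset.le_sup U.2
    rw [← Nat.sub_add_cancel hle, pow_add, hk U.1]
    exact Ideal.mul_bot _

variable (L : X.Modules)

theorem Q_mono {I J : X.IdealSheafData} (h : I ≤ J) (hI : Q L I) : Q L J :=
  fun F hF hk => hI F hF (fun U a ha m => hk U a (h U ha) m)

theorem Q_prod [IsLocallyNoetherian X] (hL : PicF.IsInvertible L) {α : Type*} (s : Finset α) (hs : s.Nonempty)
    (I : α → X.IdealSheafData) (h : ∀ a ∈ s, Q L (I a)) : Q L (∏ a ∈ s, I a) := by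
  classical
  induction hs using Finset.Nonempty.cons_induction with
  | singleton a =>
    rw [Finset.prod_singleton]
    exact h a (Finset.mem_singleton_self a)
  | cons a s ha hs ih =>
    rw [Finset.prod_cons]
    exact Q_mul hL (h a (Finset.mem_cons_self a s))
      (ih (fun b hb => h b (Finset.mem_cons.2 (Or.inr hb))))

theorem Q_pow [IsLocallyNoetherian X] (hL : PicF.IsInvertible L) {I : X.IdealSheafData} (hI : Q L I) :
    ∀ k : ℕ, Q L (I ^ (k + 1))
  | 0 => by rw [pow_one]; exact hI
  | k + 1 => by rw [pow_succ]; exact Q_mul hL (Q_pow hL hI k) hI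

variable {L}

/-- **ampleness can be checked on the irreducible components** (proper over a Noetherian ring) -/
theorem isAmple_of_components (A : Type u) [CommRing A] [IsNoetherianRing A]
    (f : X ⟶ Spec (CommRingCat.of A)) [IsProper f] (hL : PicF.IsInvertible L)
    (h : ∀ Z : Closeds X, (Z : Set X) ∈ irreducibleComponents X →
      CohB1.IsAmple ((Scheme.Modules.pullback (vanishingIdeal Z).subschemeι).obj L)) :
    CohB1.IsAmple L := by
  classical
  haveI : IsLocallyNoetherian X := LocallyOfFiniteType.isLocallyNoetherian f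
  haveI : CompactSpace X := QuasiCompact.compactSpace_of_compactSpace f
  haveI : IsNoetherian X := {}
  by_cases hX : IsEmpty X
  · exact ⟨hL, inferInstance, fun x => (hX.false x).elim⟩
  rw [not_isEmpty_iff] at hX
  obtain ⟨x₀⟩ := hX
  have hfin : {Z : Closeds X | (Z : Set X) ∈ irreducibleComponents X}.Finite :=
    Set.Finite.preimage (f := fun Z : Closeds X => (Z : Set X))
      (fun _ _ _ _ hab => Closeds.ext hab) NoetherianSpace.finite_irreducibleComponents
  set s := hfin.toFinset with hs_def
  have hmem : ∀ Z : Closeds X, Z ∈ s ↔ (Z : Set X) ∈ irreducibleComponents X := fun Z => by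
    rw [hs_def, Set.Finite.mem_toFinset]; rfl
  have hcov : ∀ x : X, ∃ Z ∈ s, x ∈ Z := fun x =>
    ⟨⟨irreducibleComponent x, isClosed_irreducibleComponent⟩,
      (hmem _).2 (irreducibleComponent_mem_irreducibleComponents x), mem_irreducibleComponent⟩
  have hne : s.Nonempty := by
    obtain ⟨Z, hZ, -⟩ := hcov x₀
    exact ⟨Z, hZ⟩
  have hQ : Q L (∏ Z ∈ s, vanishingIdeal Z) :=
    Q_prod L hL s hne _ (fun Z hZ => Q_of_isAmple A f hL _ (h Z ((hmem Z).1 hZ)))
  obtain ⟨k, hk⟩ := exists_nilradical_pow_eq_bot (X := X)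
  have hle : (∏ Z ∈ s, vanishingIdeal Z) ^ (k + 1) ≤ X.nilradical ^ (k + 1) :=
    pow_le_pow_left' (prod_vanishingIdeal_le_nilradical s hcov) (k + 1)
  have hbot : (∏ Z ∈ s, vanishingIdeal Z) ^ (k + 1) = ⊥ := by
    rw [pow_succ X.nilradical, hk, Scheme.IdealSheafData.bot_mul] at hle
    exact le_bot_iff.1 hle
  have hQ' := Q_pow L hL hQ k
  rw [hbot] at hQ'
  exact isAmple_of_Q_bot A f hL hQ'

/-- the inverse image of an ample module on a closed subscheme is ample -/
theorem isAmple_pullback_of_isClosedImmersion {Z : Scheme.{u}} (i : Z ⟶ X) [IsClosedImmersion i]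
    (hA : CohB1.IsAmple L) : CohB1.IsAmple ((Scheme.Modules.pullback i).obj L) := by
  haveI : CompactSpace X := hA.2.1
  haveI : CompactSpace Z := i.isClosedEmbedding.compactSpace
  exact PullbackInv.isAmple_pullback_of_isEmbedding i i.isClosedEmbedding.isEmbedding L hA

end Groth.Agent.Lib.Helper4.AmpleComp
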