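import Mathlib.AlgebraicGeometry.Artinian
import Mathlib.AlgebraicGeometry.Morphisms.Separated
import Mathlib.Topology.Separation.Profinite
import Mathlib.Topology.QuasiSeparated
import Mathlib.Tactic

set_option autoImplicit false
universe u
open CategoryTheory AlgebraicGeometry TopologicalSpace

namespace Groth.Agent.Lib.Helper4.DimZeroT2

/-- distinct primes of a zero-dimensional ring are separated by disjoint basic opens -/
theorem spec_separation {A : Type*} [CommRing A] [Ring.KrullDimLE 0 A] (p q : PrimeSpectrum A)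
    (hne : p ≠ q) :
    ∃ s t : A, s ∉ p.asIdeal ∧ t ∉ q.asIdeal ∧ IsNilpotent (s * t) := by
  have hpmax : p.asIdeal.IsMaximal := p.2.isMaximal'
  have hqmax : q.asIdeal.IsMaximal := q.2.isMaximal'
  -- a ∈ p, a ∉ q
  have hnle : ¬ p.asIdeal ≤ q.asIdeal := by
    intro hle
    exact hne (PrimeSpectrum.ext (hpmax.eq_of_le q.2.ne_top hle))
  obtain ⟨a, hap, haq⟩ := Set.not_subset.mp hnle
  -- submonoid generated by complement of p and powers of a contains 0
  let S : Submonoid A := p.asIdeal.primeCompl ⊔ Submonoid.powers a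
  have h0 : (0 : A) ∈ S := by
    by_contra h0
    have hdisj : Disjoint ((⊥ : Ideal A) : Set A) S := by
      rw [Set.disjoint_left]
      intro x hx hxS
      rw [SetLike.mem_coe, Ideal.mem_bot] at hx
      exact h0 (hx ▸ hxS)
    obtain ⟨P, hP, -, hPS⟩ := Ideal.exists_le_prime_disjoint ⊥ S hdisj
    have hPp : P ≤ p.asIdeal := by
      intro x hx
      by_contra hxp
      exact Set.disjoint_left.mp hPS hx ((le_sup_left : _ ≤ S) hxp)
    have hPeq : P = p.asIdeal := hP.isMaximal'.eq_of_le p.2.ne_top hPp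
    have haS : a ∈ S := (le_sup_right : _ ≤ S) (Submonoid.mem_powers a)
    exact Set.disjoint_left.mp hPS (hPeq ▸ hap) haS
  obtain ⟨s, hs, t, ht, hst⟩ := Submonoid.mem_sup.mp h0
  obtain ⟨n, rfl⟩ := ht
  refine ⟨s, a ^ n, hs, fun h => haq (q.2.mem_of_pow_mem n h), ?_⟩
  rw [hst]
  exact IsNilpotent.zero

instance t2_spec {A : Type*} [CommRing A] [Ring.KrullDimLE 0 A] : T2Space (PrimeSpectrum A) := by
  constructor
  intro p q hne
  obtain ⟨s, t, hs, ht, hst⟩ := spec_separation p q hne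
  refine ⟨PrimeSpectrum.basicOpen s, PrimeSpectrum.basicOpen t, (PrimeSpectrum.basicOpen s).2,
    (PrimeSpectrum.basicOpen t).2, hs, ht, ?_⟩
  rw [Set.disjoint_iff_inter_eq_empty, ← TopologicalSpace.Opens.coe_inf,
    ← PrimeSpectrum.basicOpen_mul, (PrimeSpectrum.basicOpen_eq_bot_iff _).mpr hst]
  rfl

variable (X : Scheme.{u})

theorem krullDimLE_of_affine (h : topologicalKrullDim X ≤ 0) (U : X.Opens) (hU : IsAffineOpen U) :
    Ring.KrullDimLE 0 Γ(X, U) := by
  rw [Ring.KrullDimLE, Order.krullDimLE_iff, ← ringKrullDim,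
    Nat.cast_zero, ← PrimeSpectrum.topologicalKrullDim_eq_ringKrullDim Γ(X, U)]
  change topologicalKrullDim (Spec Γ(X, U)) ≤ 0
  rw [← IsHomeomorph.topologicalKrullDim_eq _ hU.isoSpec.hom.homeomorph.isHomeomorph]
  exact (topologicalKrullDim_subspace_le X U).trans h

/-- separation within one affine open -/
theorem sep_in_affine (h : topologicalKrullDim X ≤ 0) (U : X.Opens) (hU : IsAffineOpen U)
    (x y : X) (hx : x ∈ U) (hy : y ∈ U) (hne : x ≠ y) :
    ∃ u v : Set X, IsOpen u ∧ IsOpen v ∧ x ∈ u ∧ y ∈ v ∧ Disjoint u v := by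
  have := krullDimLE_of_affine X h U hU
  have hemb : Topology.IsOpenEmbedding hU.fromSpec := hU.fromSpec.isOpenEmbedding
  obtain ⟨p, rfl⟩ : x ∈ Set.range hU.fromSpec := by rw [hU.range_fromSpec]; exact hx
  obtain ⟨q, rfl⟩ : y ∈ Set.range hU.fromSpec := by rw [hU.range_fromSpec]; exact hy
  have hpq : p ≠ q := fun e => hne (by rw [e])
  obtain ⟨u, v, hu, hv, hpu, hqv, hd⟩ := @t2_separation (PrimeSpectrum Γ(X, U)) _ t2_spec p q hpq
  refine ⟨hU.fromSpec '' u, hU.fromSpec '' v, hemb.isOpenMap _ hu, hemb.isOpenMap _ hv,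
    ⟨p, hpu, rfl⟩, ⟨q, hqv, rfl⟩, ?_⟩
  exact (Set.disjoint_image_iff hemb.injective).mpr hd

theorem t2_of_affine (h : topologicalKrullDim X ≤ 0) (U : X.Opens) (hU : IsAffineOpen U) :
    T2Space ((U : Set X) : Type u) := by
  constructor
  intro x y hne
  obtain ⟨u, v, hu, hv, hxu, hyv, hd⟩ := sep_in_affine X h U hU x.1 y.1 x.2 y.2
    (fun e => hne (Subtype.ext e))
  exact ⟨Subtype.val ⁻¹' u, Subtype.val ⁻¹' v, hu.preimage continuous_subtype_val,
    hv.preimage continuous_subtype_val, hxu, hyv, hd.preimage _⟩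

theorem t2Space [QuasiSeparatedSpace X] (h : topologicalKrullDim X ≤ 0) : T2Space X := by
  constructor
  intro x y hne
  obtain ⟨U, hU, hxU, -⟩ := exists_isAffineOpen_mem_and_subset (U := ⊤) (x := x) (by simp)
  obtain ⟨V, hV, hyV, -⟩ := exists_isAffineOpen_mem_and_subset (U := ⊤) (x := y) (by simp)
  by_cases hyU : y ∈ U
  · exact sep_in_affine X h U hU x y hxU hyU hne
  by_cases hxV : x ∈ V
  · exact sep_in_affine X h V hV x y hxV hyV hne
  -- U ∩ V compact, closed in U and in V
  have hc : IsCompact ((U : Set X) ∩ V) :=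
    QuasiSeparatedSpace.inter_isCompact _ _ U.isOpen hU.isCompact V.isOpen hV.isCompact
  have key : ∀ (W : X.Opens) (hW : IsAffineOpen W) (K : Set X), IsCompact K → K ⊆ W →
      IsOpen ((W : Set X) \ K) := by
    intro W hW K hK hKW
    have := t2_of_affine X h W hW
    have hK' : IsCompact ((Subtype.val : ((W : Set X) : Type u) → X) ⁻¹' K) := by
      rw [Topology.IsEmbedding.subtypeVal.isCompact_iff, Subtype.image_preimage_coe,
        Set.inter_eq_right.mpr hKW]
      exact hK
    have hcl : IsClosed ((Subtype.val : ((W : Set X) : Type u) → X) ⁻¹' K) := hK'.isClosed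
    have hop : IsOpen ((Subtype.val : ((W : Set X) : Type u) → X) ⁻¹' K)ᶜ := hcl.isOpen_compl
    have := W.isOpen.isOpenEmbedding_subtypeVal.isOpenMap _ hop
    convert this using 1
    ext z
    simp only [Set.mem_sdiff, SetLike.mem_coe, Set.mem_image, Set.mem_compl_iff, Set.mem_preimage,
      Subtype.exists, exists_and_right, exists_eq_right]
    exact ⟨fun ⟨a, b⟩ => ⟨a, b⟩, fun ⟨a, b⟩ => ⟨a, b⟩⟩
  refine ⟨(U : Set X) \ ((U : Set X) ∩ V), (V : Set X) \ ((U : Set X) ∩ V),
    key U hU _ hc Set.inter_subset_left, key V hV _ hc Set.inter_subset_right,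
    ⟨hxU, fun hh => hxV hh.2⟩, ⟨hyV, fun hh => hyU hh.1⟩, ?_⟩
  rw [Set.disjoint_left]
  rintro z ⟨hzU, hzn⟩ ⟨hzV, -⟩
  exact hzn ⟨hzU, hzV⟩

theorem totallyDisconnected [QuasiSeparatedSpace X] (h : topologicalKrullDim X ≤ 0) :
    TotallyDisconnectedSpace X := by
  have := t2Space X h
  have hb : IsTopologicalBasis {s : Set X | IsClopen s} := by
    apply isTopologicalBasis_of_isOpen_of_nhds
    · intro u hu; exact hu.2
    · intro a u hau hu
      obtain ⟨V, hV, haV, hVu⟩ := exists_isAffineOpen_mem_and_subset (U := ⟨u, hu⟩) (x := a) hau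
      exact ⟨V, ⟨hV.isCompact.isClosed, V.isOpen⟩, haV, hVu⟩
  have := totallySeparatedSpace_of_t0_of_basis_clopen hb
  infer_instance

end Groth.Agent.Lib.Helper4.DimZeroT2
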