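import Groth.Agent.Lib.Helper4.MaxSub
import Groth.Agent.Lib.Helper8.DegGroup
import Groth.Agent.Lib.Helper16.TA1
import Groth.Agent.Lib.Helper17.ExB
set_option backward.isDefEq.respectTransparency.types false
set_option autoImplicit false
set_option linter.style.haveILetI false

universe u
open CategoryTheory CategoryTheory.Limits AlgebraicGeometry Opposite TopologicalSpace

namespace Groth.Agent.Lib.Helper4.TwistInv

open Groth.Agent.Lib.Helper8.CurveTensor Groth.Agent.Lib.Helper4.GPRank Groth.Agent.Lib.Helper8.EulerK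
open Groth.Agent.Lib.Helper4.HilbPoly Groth.Agent.Lib.Helper4.CurveVB Groth.Agent.Lib.Helper4.TFCurve
open Groth.Agent.Lib.Helper6.K0Inv

section general

variable {X : Scheme.{u}}

open TensorProduct in
/-- the tensor product of finite locally free modules is finite locally free -/
theorem isFinLocFreeOfRank_tensorMod [IsLocallyNoetherian X] (E V : X.Modules) {n m : ℕ}
    (hE : FlatMod.IsFinLocFreeOfRank n E) (hV : FlatMod.IsFinLocFreeOfRank m V) :
    FlatMod.IsFinLocFreeOfRank (n * m) (CohB1.tensorMod E V) := by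
  intro x
  have hEc := isCoh_of_isFinLocFreeOfRank E hE
  have hVc := isCoh_of_isFinLocFreeOfRank V hV
  have hTc := Groth.Agent.Lib.Helper6.K0Op.isCoh_tensorMod E V hEc hVc
  obtain ⟨bE⟩ := Groth.Agent.Lib.Helper6.K0Tensor.exists_stalkBasis E hE x
  obtain ⟨bV⟩ := Groth.Agent.Lib.Helper6.K0Tensor.exists_stalkBasis V hV x
  let bT := (bE.tensorProduct bV).map (Groth.Agent.Lib.Helper6.K0Tensor.stalkTensorEquiv E V x)
  haveI : Module.Free (X.presheaf.stalk x) ((CohB1.tensorMod E V).presheaf.stalk x) := Module.Free.of_basis bT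
  obtain ⟨U, hxU, h⟩ := Groth.Agent.Lib.Helper7.StalkFree.exists_iso_freeMod_of_free_stalk X _ hTc x
  rw [Module.finrank_eq_card_basis bT] at h
  simp only [Fintype.card_prod, Fintype.card_fin] at h
  exact ⟨U, hxU, h⟩

/-- the symmetry, with target typed through the bifunctor -/
noncomputable def br (G L : X.Modules) : CohB1.tensorMod G L ≅ (DCoh.tensorBi.obj L).obj G := braidIso G L

theorem br_nat {G E : X.Modules} (j : G ⟶ E) (L : X.Modules) :
    LimSh.tensorModMap j L ≫ (br E L).hom = (br G L).hom ≫ (DCoh.tensorBi.obj L).map j :=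
  Groth.Agent.Lib.Helper17.ExB.braid_nat j L

theorem tensorModMap_eq {G E : X.Modules} (j : G ⟶ E) (L : X.Modules) :
    LimSh.tensorModMap j L = (br G L).hom ≫ (DCoh.tensorBi.obj L).map j ≫ (br E L).inv := by
  rw [← Category.assoc, ← br_nat, Category.assoc, Iso.hom_inv_id, Category.comp_id]

/-- tensoring (on the right) with a flat module preserves monomorphisms -/
theorem mono_tensorModMap {G E : X.Modules} (j : G ⟶ E) [Mono j] (L : X.Modules) (hL : FlatMod.IsFlat L) :
    Mono (LimSh.tensorModMap j L) := by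
  have hS := Groth.Agent.Lib.Helper6.K0Op.shortExact_tensor_of_flat L hL _ (shortExact_cokernel j)
  haveI : Mono ((DCoh.tensorBi.obj L).map j) := hS.mono_f
  rw [tensorModMap_eq]
  infer_instance

theorem tensorModMap_zero {G E : X.Modules} (L : X.Modules) : LimSh.tensorModMap (0 : G ⟶ E) L = 0 := by
  rw [tensorModMap_eq]
  haveI : (DCoh.tensorBi.obj L).Additive := inferInstance
  rw [Functor.map_zero, zero_comp, comp_zero]

/-- tensoring (on the right) with a flat module preserves short exact sequences -/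
theorem shortExact_tensorModMap (S : ShortComplex X.Modules) (hS : S.ShortExact) (L : X.Modules)
    (hL : FlatMod.IsFlat L) :
    (ShortComplex.mk (LimSh.tensorModMap S.f L) (LimSh.tensorModMap S.g L)
      (by rw [← LimSh.tensorModMap_comp, S.zero, tensorModMap_zero])).ShortExact := by
  have h := Groth.Agent.Lib.Helper6.K0Op.shortExact_tensor_of_flat L hL S hS
  refine ShortComplex.shortExact_of_iso (ShortComplex.isoMk (br S.X₁ L).symm (br S.X₂ L).symm
    (br S.X₃ L).symm ?_ ?_) h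
  · show (br S.X₁ L).inv ≫ LimSh.tensorModMap S.f L = (DCoh.tensorBi.obj L).map S.f ≫ (br S.X₂ L).inv
    rw [tensorModMap_eq, Iso.inv_hom_id_assoc]
  · show (br S.X₂ L).inv ≫ LimSh.tensorModMap S.g L = (DCoh.tensorBi.obj L).map S.g ≫ (br S.X₃ L).inv
    rw [tensorModMap_eq, Iso.inv_hom_id_assoc]

/-- associativity -/
noncomputable def a1 (C L M : X.Modules) :
    CohB1.tensorMod (CohB1.tensorMod C L) M ≅ CohB1.tensorMod C (CohB1.tensorMod L M) :=
  Groth.Agent.Lib.Helper16.TA.assocIso C L M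

noncomputable def c1 (L M : X.Modules) (e : CohB1.tensorMod M L ≅ Coh.structureModule X) :
    CohB1.tensorMod L M ≅ Coh.structureModule X := braidIso L M ≪≫ e

noncomputable def b1 (C L M : X.Modules) (e : CohB1.tensorMod M L ≅ Coh.structureModule X) :
    (DCoh.tensorBi.obj C).obj (CohB1.tensorMod L M) ≅ (DCoh.tensorBi.obj C).obj (Coh.structureModule X) :=
  (DCoh.tensorBi.obj C).mapIso (c1 L M e)

noncomputable def b2 (C L M : X.Modules) (e : CohB1.tensorMod M L ≅ Coh.structureModule X) :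
    CohB1.tensorMod C (CohB1.tensorMod L M) ≅ CohB1.tensorMod C (Coh.structureModule X) := b1 C L M e

/-- `(C ⊗ L) ⊗ M ≅ C` when `M ⊗ L ≅ O` -/
noncomputable def untwIso (C L M : X.Modules) (e : CohB1.tensorMod M L ≅ Coh.structureModule X) :
    CohB1.tensorMod (CohB1.tensorMod C L) M ≅ C :=
  a1 C L M ≪≫ b2 C L M e ≪≫ (Groth.Agent.Lib.Helper28.AmpleUnit.nonempty_tensor_unit_iso C).some

end general


section curve

variable (k : Type u) [Field k] (X : Scheme.{u}) [X.Over (Spec (CommRingCat.of k))] [IsIntegral X]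
  [IsProper (X ↘ Spec (CommRingCat.of k))] [Smooth (X ↘ Spec (CommRingCat.of k))]

/-- untwisting: a subbundle of `C ⊗ L` gives a subbundle of `C` of the same rank, with degree shifted by
`rank · deg L` -/
theorem exists_untwist (hdim : topologicalKrullDim X = 1) {L M : X.Modules} (hL : PicF.IsInvertible L)
    (hM : PicF.IsInvertible M) (hML : ClSub.IsInverseOf M L) (C : X.Modules) {Q : X.Modules} {s : ℕ}
    (hQ : FlatMod.IsFinLocFreeOfRank s Q) (j : Q ⟶ CohB1.tensorMod C L) [Mono j] :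
    ∃ (Q' : X.Modules) (j' : Q' ⟶ C), Mono j' ∧ FlatMod.IsFinLocFreeOfRank s Q' ∧
      Curv2.deg k X Q' s = Curv2.deg k X Q s - s * Curv2.deg k X L 1 := by
  haveI : IsLocallyNoetherian X := isLocallyNoetherian k X
  have hM1 := Groth.Agent.Lib.Helper6.K0Op.isFinLocFreeOfRank_one_of_isInvertible M hM
  have hMflat := Groth.Agent.Lib.Helper6.K0Op.isFlat_of_isFinLocFreeOfRank M hM1
  haveI := mono_tensorModMap j M hMflat
  obtain ⟨e⟩ := hML
  refine ⟨CohB1.tensorMod Q M, LimSh.tensorModMap j M ≫ (untwIso C L M e).hom, inferInstance, ?_, ?_⟩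
  · have := isFinLocFreeOfRank_tensorMod Q M hQ hM1
    rwa [mul_one] at this
  · have h := Groth.Agent.S7637.result k X hdim.le s 1 Q M hQ hM1
    rw [mul_one] at h
    rw [h, Groth.Agent.Lib.Helper8.DegGroup.deg_inverse_eq_neg k X hdim.le hL hM ⟨e⟩]
    push_cast
    ring


/-- **S16004**: a semistable `L`-twisted Higgs pair with `deg L = 0` has semistable underlying bundle -/
theorem semistable_of_semistablePair (hdim : topologicalKrullDim X = 1)
    (L : X.Modules) (hL : PicF.IsInvertible L) (hL0 : Curv2.deg k X L 1 = 0)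
    (r : ℕ) (hr : 0 < r) (E : X.Modules) (hE : FlatMod.IsFinLocFreeOfRank r E)
    (φ : E ⟶ CohB1.tensorMod E L)
    (hss : ∀ (G : X.Modules) (n : ℕ) (j : G ⟶ E) (χ : G ⟶ CohB1.tensorMod G L), Mono j → 0 < n →
      FlatMod.IsFinLocFreeOfRank n G → χ ≫ LimSh.tensorModMap j L = j ≫ φ →
      Curv2.deg k X G n * (r : ℤ) ≤ Curv2.deg k X E r * (n : ℤ)) :
    ∀ (G : X.Modules) (n : ℕ) (j : G ⟶ E), Mono j → 0 < n → FlatMod.IsFinLocFreeOfRank n G →
      Curv2.deg k X G n * (r : ℤ) ≤ Curv2.deg k X E r * (n : ℤ) := by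
  haveI : IsLocallyNoetherian X := isLocallyNoetherian k X
  obtain ⟨E₁, r₁, i₁, hi₁, hr₁, hE₁, hmax, hquot⟩ :=
    Groth.Agent.Lib.Helper4.MaxSub.exists_maxDestab k X hdim r hr E hE
  haveI := hi₁
  obtain ⟨M, hM, hML⟩ := Groth.Agent.Lib.Helper8.InvInverse.exists_isInverseOf hL
  have hL1 := Groth.Agent.Lib.Helper6.K0Op.isFinLocFreeOfRank_one_of_isInvertible L hL
  have hLflat := Groth.Agent.Lib.Helper6.K0Op.isFlat_of_isFinLocFreeOfRank L hL1
  have hC := Groth.Agent.Lib.Helper4.MaxSub.cokernel_locFree k X hdim r E hE E₁ r₁ i₁ hi₁ hr₁ hE₁ hmax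
  have hCL : FlatMod.IsFinLocFreeOfRank (grank X (cokernel i₁)) (CohB1.tensorMod (cokernel i₁) L) := by
    have := isFinLocFreeOfRank_tensorMod (cokernel i₁) L hC hL1
    rwa [mul_one] at this
  -- `E₁` is semistable
  have hE₁ss : ModFun.IsSlopeSemistable k X E₁ r₁ := by
    intro F r' i hi hr' hF
    haveI := hi
    exact hmax F r' (i ≫ i₁) inferInstance hr' hF
  -- the composite `E₁ → E → E ⊗ L → (E/E₁) ⊗ L` vanishes
  have hzero : (i₁ ≫ φ) ≫ LimSh.tensorModMap (cokernel.π i₁) L = 0 := by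
    apply hom_eq_zero k X hdim r₁ (grank X (cokernel i₁)) hr₁ E₁ _ hE₁ hCL hE₁ss
    intro G r' i hi hr' hG
    haveI := hi
    obtain ⟨Q', j', hj', hQ', hdeg⟩ := exists_untwist k X hdim hL hM hML (cokernel i₁) hG i
    have := hquot Q' r' j' hj' hr' hQ'
    rw [hdeg, hL0] at this
    simpa using this
  -- hence `E₁` is `φ`-invariant
  have hS := shortExact_tensorModMap _ (shortExact_cokernel i₁) L hLflat
  haveI := hS.mono_f
  let χ : E₁ ⟶ CohB1.tensorMod E₁ L := hS.exact.lift (i₁ ≫ φ) hzero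
  have hχ : χ ≫ LimSh.tensorModMap i₁ L = i₁ ≫ φ := hS.exact.lift_f (i₁ ≫ φ) hzero
  have h1 := hss E₁ r₁ i₁ χ hi₁ hr₁ hE₁ hχ
  intro G n j hj hn hG
  have h2 := hmax G n j hj hn hG
  have hr₁Z : (0 : ℤ) < r₁ := by exact_mod_cast hr₁
  have hnZ : (0 : ℤ) ≤ n := Int.natCast_nonneg _
  have hrZ : (0 : ℤ) ≤ r := Int.natCast_nonneg _
  have h3 : Curv2.deg k X G n * (r : ℤ) * r₁ ≤ Curv2.deg k X E r * (n : ℤ) * r₁ := by
    calc Curv2.deg k X G n * (r : ℤ) * r₁ = (Curv2.deg k X G n * (r₁ : ℤ)) * r := by ring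
      _ ≤ (Curv2.deg k X E₁ r₁ * (n : ℤ)) * r := mul_le_mul_of_nonneg_right h2 hrZ
      _ = (Curv2.deg k X E₁ r₁ * (r : ℤ)) * n := by ring
      _ ≤ (Curv2.deg k X E r * (r₁ : ℤ)) * n := mul_le_mul_of_nonneg_right h1 hnZ
      _ = Curv2.deg k X E r * (n : ℤ) * r₁ := by ring
  exact le_of_mul_le_mul_right h3 hr₁Z

end curve

end Groth.Agent.Lib.Helper4.TwistInv
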