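import Groth.Agent.Lib.Helper4.HLesFin1
import Groth.Agent.Lib.Helper6.DevCore
import Groth.Agent.S0002

set_option autoImplicit false
universe u
open CategoryTheory CategoryTheory.Limits AlgebraicGeometry

noncomputable section

namespace Groth.Agent.Lib.Helper4.ExactRank

open Groth.Agent.Lib.Helper2.HLesLin Groth.Agent.Lib.Helper4.HLesFin1

section Algebra

variable {k : Type*} [Field k] {M' M M'' : Type*} [AddCommGroup M'] [Module k M'] [AddCommGroup M] [Module k M]
  [AddCommGroup M''] [Module k M'']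

theorem finrank_le_of_exact [FiniteDimensional k M'] [FiniteDimensional k M] [FiniteDimensional k M'']
    (f : M' →ₗ[k] M) (g : M →ₗ[k] M'') (h : LinearMap.range f = LinearMap.ker g) :
    Module.finrank k M ≤ Module.finrank k M' + Module.finrank k M'' := by
  have h1 := LinearMap.finrank_range_add_finrank_ker g
  have h2 : Module.finrank k (LinearMap.ker g) ≤ Module.finrank k M' := by
    rw [← h]
    exact LinearMap.finrank_range_le f
  have h3 : Module.finrank k (LinearMap.range g) ≤ Module.finrank k M'' := Submodule.finrank_le _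
  omega

theorem finrank_le_of_injective' [FiniteDimensional k M]
    (f : M' →ₗ[k] M) (h : Function.Injective f) : Module.finrank k M' ≤ Module.finrank k M :=
  LinearMap.finrank_le_finrank_of_injective h

end Algebra

section Geometry

variable (k : Type u) [Field k] {X : Scheme.{u}} [X.Over (Spec (CommRingCat.of k))]
  [IsProper (X ↘ Spec (CommRingCat.of k))]

/-- `h^i` -/
def hh (M : X.Modules) (i : ℕ) : ℕ := Module.finrank k (Coh.HH X M i)

theorem finiteDimensional (M : X.Modules) (hM : Coh.IsCoh M) (i : ℕ) : FiniteDimensional k (Coh.HH X M i) :=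
  Groth.Agent.S0002.result k X M hM i

variable (S : ShortComplex X.Modules) (hS : S.ShortExact) (h1 : Coh.IsCoh S.X₁) (h2 : Coh.IsCoh S.X₂)
  (h3 : Coh.IsCoh S.X₃)

include hS h1 h2 h3 in
theorem hh₂_le (i : ℕ) : hh k S.X₂ i ≤ hh k S.X₁ i + hh k S.X₃ i := by
  haveI := finiteDimensional k _ h1 i
  haveI := finiteDimensional k _ h2 i
  haveI := finiteDimensional k _ h3 i
  exact finrank_le_of_exact (Canon.HHlin k S.f i) (Canon.HHlin k S.g i) (range_eq_ker₂ S hS k i)

include hS h1 h2 h3 in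
theorem hh₁_succ_le (i : ℕ) : hh k S.X₁ (i + 1) ≤ hh k S.X₃ i + hh k S.X₂ (i + 1) := by
  haveI := finiteDimensional k _ h1 (i + 1)
  haveI := finiteDimensional k _ h2 (i + 1)
  haveI := finiteDimensional k _ h3 i
  exact finrank_le_of_exact (δLin S hS k i) (Canon.HHlin k S.f (i + 1)) (range_eq_ker₁ S hS k i)

include hS h2 in
theorem hh₁_zero_le : hh k S.X₁ 0 ≤ hh k S.X₂ 0 := by
  haveI := finiteDimensional k _ h2 0
  exact finrank_le_of_injective' (Canon.HHlin k S.f 0) (injective_zero S hS k)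

end Geometry

section Complex

variable {X : Scheme.{u}} (C : ℕ → X.Modules) (d : ∀ j, C j ⟶ C (j + 1)) (hd : ∀ j, d j ≫ d (j + 1) = 0)

/-- cycles -/
abbrev Z (j : ℕ) : X.Modules := kernel (d j)

/-- `C j ⟶ Z (j+1)` -/
def pz (j : ℕ) : C j ⟶ Z C d (j + 1) := kernel.lift (d (j + 1)) (d j) (hd j)

theorem pz_ι (j : ℕ) : pz C d hd j ≫ kernel.ι (d (j + 1)) = d j := kernel.lift_ι _ _ _

theorem ι_pz (j : ℕ) : kernel.ι (d j) ≫ pz C d hd j = 0 := by
  rw [← cancel_mono (kernel.ι (d (j + 1))), Category.assoc, pz_ι, kernel.condition, zero_comp]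

/-- `0 → Z j → C j → Z (j+1) → 0` -/
def T (j : ℕ) : ShortComplex X.Modules :=
  ShortComplex.mk (kernel.ι (d j)) (pz C d hd j) (ι_pz C d hd j)

theorem T_shortExact (j : ℕ) (hex : (ShortComplex.mk (d j) (d (j + 1)) (hd j)).Exact) :
    (T C d hd j).ShortExact := by
  haveI : Mono (T C d hd j).f := by change Mono (kernel.ι (d j)); infer_instance
  haveI : Epi (T C d hd j).g := hex.epi_kernelLift
  refine ShortComplex.ShortExact.mk ?_
  let φ : T C d hd j ⟶ ShortComplex.mk (kernel.ι (d j)) (d j) (kernel.condition _) :=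
    { τ₁ := 𝟙 _
      τ₂ := 𝟙 _
      τ₃ := kernel.ι (d (j + 1))
      comm₁₂ := by simp [T]
      comm₂₃ := by
        change 𝟙 _ ≫ d j = pz C d hd j ≫ kernel.ι (d (j + 1))
        rw [pz_ι, Category.id_comp] }
  haveI : Epi φ.τ₁ := by change Epi (𝟙 _); infer_instance
  haveI : IsIso φ.τ₂ := by change IsIso (𝟙 _); infer_instance
  haveI : Mono φ.τ₃ := by change Mono (kernel.ι (d (j + 1))); infer_instance
  rw [ShortComplex.exact_iff_of_epi_of_isIso_of_mono φ]
  exact ShortComplex.kernelSequence_exact (d j)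

/-- `0 → C 0 → C 1 → Z 2 → 0` -/
def T0 : ShortComplex X.Modules :=
  ShortComplex.mk (d 0) (pz C d hd 1) (by
    rw [← cancel_mono (kernel.ι (d (1 + 1))), Category.assoc, pz_ι, hd, zero_comp])

theorem T0_shortExact [Mono (d 0)] (hex0 : (ShortComplex.mk (d 0) (d 1) (hd 0)).Exact)
    (hex1 : (ShortComplex.mk (d 1) (d 2) (hd 1)).Exact) : (T0 C d hd).ShortExact := by
  haveI : Mono (T0 C d hd).f := by change Mono (d 0); infer_instance
  haveI : Epi (T0 C d hd).g := hex1.epi_kernelLift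
  refine ShortComplex.ShortExact.mk ?_
  let φ : T0 C d hd ⟶ ShortComplex.mk (d 0) (d 1) (hd 0) :=
    { τ₁ := 𝟙 _
      τ₂ := 𝟙 _
      τ₃ := kernel.ι (d (1 + 1))
      comm₁₂ := by simp [T0]
      comm₂₃ := by
        change 𝟙 _ ≫ d 1 = pz C d hd 1 ≫ kernel.ι (d (1 + 1))
        rw [pz_ι, Category.id_comp] }
  haveI : Epi φ.τ₁ := by change Epi (𝟙 _); infer_instance
  haveI : IsIso φ.τ₂ := by change IsIso (𝟙 _); infer_instance
  haveI : Mono φ.τ₃ := by change Mono (kernel.ι (d (1 + 1))); infer_instance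
  rw [ShortComplex.exact_iff_of_epi_of_isIso_of_mono φ]
  exact hex0

end Complex

section Main

variable (k : Type u) [Field k] {X : Scheme.{u}} [X.Over (Spec (CommRingCat.of k))]
  [IsProper (X ↘ Spec (CommRingCat.of k))]
  (C : ℕ → X.Modules) (hC : ∀ j, Coh.IsCoh (C j)) (d : ∀ j, C j ⟶ C (j + 1))
  (hd : ∀ j, d j ≫ d (j + 1) = 0)
  (hex : ∀ j, (ShortComplex.mk (d j) (d (j + 1)) (hd j)).Exact)

include k hC in
theorem isCoh_Z (j : ℕ) : Coh.IsCoh (Z C d j) := by
  haveI : IsLocallyNoetherian X :=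
    LocallyOfFiniteType.isLocallyNoetherian (X ↘ Spec (CommRingCat.of k))
  exact Groth.Agent.Lib.Helper6.DevCore.isCoh_kernel (d j) (hC j) (hC (j + 1))

include hC hex in
theorem hh_Z_le : ∀ (m j : ℕ),
    hh k (Z C d j) m ≤ ∑ t ∈ Finset.range (m + 1), hh k (C (t + j)) (m - t) := by
  intro m
  induction m with
  | zero =>
    intro j
    rw [Finset.sum_range_one]
    have h := hh₁_zero_le k (T C d hd j) (T_shortExact C d hd j (hex j)) (hC j)
    have h' : hh k (Z C d j) 0 ≤ hh k (C j) 0 := h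
    simpa using h'
  | succ m ih =>
    intro j
    have h := hh₁_succ_le k (T C d hd j) (T_shortExact C d hd j (hex j)) (isCoh_Z k C hC d j) (hC j)
      (isCoh_Z k C hC d (j + 1)) m
    have h' : hh k (Z C d j) (m + 1) ≤ hh k (Z C d (j + 1)) m + hh k (C j) (m + 1) := h
    refine h'.trans ?_
    rw [Finset.sum_range_succ']
    have e0 : hh k (C (0 + j)) (m + 1 - 0) = hh k (C j) (m + 1) := by
      rw [Nat.zero_add, Nat.sub_zero]
    rw [e0]
    refine Nat.add_le_add_right ((ih (j + 1)).trans (le_of_eq ?_)) _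
    refine Finset.sum_congr rfl fun t _ => ?_
    rw [show t + (j + 1) = t + 1 + j by omega, show m + 1 - (t + 1) = m - t by omega]

theorem sum_Icc_eq_sum_range (n : ℕ) (F : ℕ → ℤ) :
    ∑ j ∈ Finset.Icc 1 n, F j = ∑ t ∈ Finset.range n, F (t + 1) := by
  rw [Finset.range_eq_Ico, Finset.sum_Ico_add' F 0 n 1]
  congr 1

include hC hex in
/-- the bound on `|h^i(C 0) - h^i(C 1)|` -/
theorem abs_sub_le [Mono (d 0)] (i : ℕ) :
    |(Module.finrank k (Coh.HH X (C 0) i) : ℤ) - (Module.finrank k (Coh.HH X (C 1) i) : ℤ)| ≤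
      (Finset.Icc 1 (i + 1)).sum (fun j => ((Module.finrank k (Coh.HH X (C (j + 1)) (i + 1 - j))) : ℤ)) +
        (Finset.Icc 1 i).sum (fun j => ((Module.finrank k (Coh.HH X (C (j + 1)) (i - j))) : ℤ)) := by
  have hT0 := T0_shortExact C d hd (hex 0) (hex 1)
  have hZ2 := isCoh_Z k C hC d 2
  have hb : hh k (C 1) i ≤ hh k (C 0) i + hh k (Z C d 2) i :=
    hh₂_le k (T0 C d hd) hT0 (hC 0) (hC 1) hZ2 i
  have hz1 := hh_Z_le k C hC d hd hex i 2
  rw [sum_Icc_eq_sum_range, sum_Icc_eq_sum_range]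
  have e1 : (∑ t ∈ Finset.range (i + 1), ((Module.finrank k (Coh.HH X (C (t + 1 + 1)) (i + 1 - (t + 1))) : ℕ) : ℤ)) =
      ((∑ t ∈ Finset.range (i + 1), hh k (C (t + 2)) (i - t) : ℕ) : ℤ) := by
    push_cast
    refine Finset.sum_congr rfl fun t _ => ?_
    rw [show i + 1 - (t + 1) = i - t by omega]
    rfl
  rw [e1]
  cases i with
  | zero =>
    have ha : hh k (C 0) 0 ≤ hh k (C 1) 0 := hh₁_zero_le k (T0 C d hd) hT0 (hC 1)
    rw [Finset.sum_range_zero, add_zero, abs_le]
    unfold hh at *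
    constructor <;> omega
  | succ i =>
    have ha : hh k (C 0) (i + 1) ≤ hh k (Z C d 2) i + hh k (C 1) (i + 1) :=
      hh₁_succ_le k (T0 C d hd) hT0 (hC 0) (hC 1) hZ2 i
    have hz2 := hh_Z_le k C hC d hd hex i 2
    have e2 : (∑ t ∈ Finset.range (i + 1), ((Module.finrank k (Coh.HH X (C (t + 1 + 1)) (i + 1 - (t + 1))) : ℕ) : ℤ)) =
        ((∑ t ∈ Finset.range (i + 1), hh k (C (t + 2)) (i - t) : ℕ) : ℤ) := by
      push_cast
      refine Finset.sum_congr rfl fun t _ => ?_
      rw [show i + 1 - (t + 1) = i - t by omega]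
      rfl
    rw [e2, abs_le]
    unfold hh at *
    constructor <;> omega

end Main

end Groth.Agent.Lib.Helper4.ExactRank
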