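import Groth.Agent.Lib.Helper4.GPKer
import Groth.Agent.Lib.Helper8.KillB
import Groth.Agent.Lib.Helper26.ExtVanB
set_option autoImplicit false
set_option linter.style.haveILetI false

universe u
open CategoryTheory CategoryTheory.Limits AlgebraicGeometry

namespace Groth.Agent.Lib.Helper4.GPKer

section unit
variable {X : Scheme.{u}}

/-- the right unitor inverse `E ⟶ E ⊗ O` -/
noncomputable def rinv (E : X.Modules) : E ⟶ (DCoh.tensorBi.obj E).obj (Coh.structureModule X) :=
  Groth.Agent.Lib.Helper8.KillB.rho.inv.app E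

theorem rinv_naturality {E F : X.Modules} (f : E ⟶ F) :
    f ≫ rinv F = rinv E ≫ (DCoh.tensorBi.map f).app (Coh.structureModule X) :=
  Groth.Agent.Lib.Helper8.KillB.rho.inv.naturality f

instance (E : X.Modules) : IsIso (rinv E) := by
  unfold rinv; infer_instance

/-- the canonical map `E ⟶ E ⊗ O_D` -/
noncomputable def toRes' (I : X.IdealSheafData) (E : X.Modules) :
    E ⟶ (DCoh.tensorBi.obj E).obj (ClSub.quotMod I) :=
  rinv E ≫ (DCoh.tensorBi.obj E).map (ClSub.toSubscheme I)

/-- the canonical map `E ⟶ E ⊗ O_D` -/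
noncomputable def toRes (I : X.IdealSheafData) (E : X.Modules) : E ⟶ ParSh.resD I E := toRes' I E

instance epi_toRes (I : X.IdealSheafData) (E : X.Modules) : Epi (toRes I E) := by
  haveI : DCoh.HasSheafHom E := Groth.Agent.Lib.Helper26.ExtVanB.hasSheafHom E
  haveI : ((DCoh.tensorBi (X := X)).obj E).PreservesEpimorphisms :=
    ((DCoh.tensorBi (X := X)).obj E).preservesEpimorphisms_of_adjunction (DCoh.sheafHomAdj E)
  have : Epi (toRes' I E) := by
    unfold toRes'
    infer_instance
  exact this

theorem toRes'_naturality (I : X.IdealSheafData) {E F : X.Modules} (f : E ⟶ F) :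
    f ≫ toRes' I F = toRes' I E ≫ (DCoh.tensorBi.map f).app (ClSub.quotMod I) := by
  unfold toRes'
  rw [← Category.assoc, rinv_naturality, Category.assoc, Category.assoc]
  congr 1
  exact ((DCoh.tensorBi.map f).naturality (ClSub.toSubscheme I)).symm

theorem toRes_naturality (I : X.IdealSheafData) {E F : X.Modules} (f : E ⟶ F) :
    f ≫ toRes I F = toRes I E ≫ ParSh.resDMap I f := by
  have h := toRes'_naturality I f
  rw [KoszTw.tensorBi_map_app] at h
  exact h

end unit

end Groth.Agent.Lib.Helper4.GPKer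

namespace Groth.Agent.Lib.Helper4.GPKer
open Groth.Agent.Lib.Helper8.CurveTensor Groth.Agent.Lib.Helper4.GPRank Groth.Agent.Lib.Helper8.EulerK
open Groth.Agent.Lib.Helper4.HilbPoly Groth.Agent.Lib.Helper4.CurveVB

variable (k : Type u) [Field k] (X : Scheme.{u}) [X.Over (Spec (CommRingCat.of k))] [IsIntegral X]
  [IsProper (X ↘ Spec (CommRingCat.of k))]

/-- `χ(E ⊗ G) = n χ(G)` for `G` torsion -/
theorem euler_tensor_torsion (hdim : topologicalKrullDim X ≤ 1) (n : ℕ) (E : X.Modules)
    (hE : FlatMod.IsFinLocFreeOfRank n E) (G : X.Modules) (hG : Coh.IsCoh G)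
    (hgen : genericPoint X ∉ CohB1.support G) :
    Curv2.euler k X (CohB1.tensorMod E G) = n * Curv2.euler k X G := by
  have h := phi_of_notMem k X hdim n E hE G hG hgen
  unfold phi at h
  rw [grank_eq_zero X G hgen] at h
  push_cast at h
  linarith

include k in
/-- the cokernel of a monomorphism of bundles of the same rank is torsion -/
theorem genericPoint_notMem_support_cokernel {A B : X.Modules} (j : A ⟶ B) [Mono j] {r : ℕ}
    (hA : FlatMod.IsFinLocFreeOfRank r A) (hB : FlatMod.IsFinLocFreeOfRank r B) :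
    genericPoint X ∉ CohB1.support (cokernel j) := by
  haveI : IsLocallyNoetherian X := isLocallyNoetherian k X
  have hAc := isCoh_of_isFinLocFreeOfRank A hA
  have hBc := isCoh_of_isFinLocFreeOfRank B hB
  have hQc := Groth.Agent.Lib.Helper6.DevCore.isCoh_cokernel j hAc hBc
  have hg := grank_add X _ (shortExact_cokernel j) hAc hBc hQc
  dsimp only at hg
  rw [grank_of_isFinLocFreeOfRank A hA, grank_of_isFinLocFreeOfRank B hB] at hg
  exact notMem_support_of_grank_eq_zero X _ hQc (by omega)

/-- **key estimate**: for a monomorphism `f : E ⟶ F` of bundles of the same rank, the kernel of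
`H⁰(E ⊗ O_D) → H⁰(F ⊗ O_D)` has dimension at most `χ(F/E)` -/
theorem finrank_ker_fibDMap_le (hdim : topologicalKrullDim X ≤ 1) (I : X.IdealSheafData)
    (hI : genericPoint X ∉ CohB1.support (ClSub.quotMod I)) {E F : X.Modules} (n : ℕ)
    (hE : FlatMod.IsFinLocFreeOfRank n E) (hF : FlatMod.IsFinLocFreeOfRank n F)
    (f : E ⟶ F) [Mono f] :
    (Module.finrank k (LinearMap.ker (ParSh.fibDMap k X I f)) : ℤ) ≤ Curv2.euler k X (cokernel f) := by
  haveI : IsLocallyNoetherian X := isLocallyNoetherian k X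
  have hEc := isCoh_of_isFinLocFreeOfRank E hE
  have hFc := isCoh_of_isFinLocFreeOfRank F hF
  have hOD : Coh.IsCoh (ClSub.quotMod I) := Groth.Agent.Lib.Helper6.DevRed.isCoh_quotMod I
  have hP := Groth.Agent.Lib.Helper6.K0Op.isCoh_tensorMod E _ hEc hOD
  have hQ := Groth.Agent.Lib.Helper6.K0Op.isCoh_tensorMod F _ hFc hOD
  have hPgen : genericPoint X ∉ CohB1.support (ParSh.resD I E) := fun h =>
    hI (Groth.Agent.Lib.Helper6.K0Op.support_tensorMod_subset E _ hEc hOD h)
  have hQgen : genericPoint X ∉ CohB1.support (ParSh.resD I F) := fun h =>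
    hI (Groth.Agent.Lib.Helper6.K0Op.support_tensorMod_subset F _ hFc hOD h)
  set g := ParSh.resDMap I f with hg
  have hK := Groth.Agent.Lib.Helper6.DevCore.isCoh_kernel g hP hQ
  have hC := Groth.Agent.Lib.Helper6.DevCore.isCoh_cokernel g hP hQ
  have hIm := Groth.Agent.Lib.Helper6.DevCore.isCoh_kernel (cokernel.π g) hQ hC
  have hKgen : genericPoint X ∉ CohB1.support (kernel g) := fun h =>
    hPgen (Groth.Agent.Lib.Helper6.DevCore.support_subset_of_mono (kernel.ι g) h)
  -- Euler characteristics
  have hS₁ := Groth.Agent.Lib.Helper8.CurveVan.shortExact_kernel_image g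
  have hS₂ : (ShortComplex.mk (kernel.ι (cokernel.π g)) (cokernel.π g) (kernel.condition _)).ShortExact :=
    { exact := ShortComplex.exact_kernel _
      mono_f := by dsimp; infer_instance
      epi_g := by dsimp; infer_instance }
  have e₁ := euler_add k X _ hS₁ hK hP hIm
  have e₂ := euler_add k X _ hS₂ hIm hQ hC
  dsimp only at e₁ e₂
  have eP := euler_tensor_torsion k X hdim n E hE _ hOD hI
  have eQ := euler_tensor_torsion k X hdim n F hF _ hOD hI
  have hKC : Curv2.euler k X (kernel g) = Curv2.euler k X (cokernel g) := by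
    change Curv2.euler k X (ParSh.resD I E) = _ at eP
    change Curv2.euler k X (ParSh.resD I F) = _ at eQ
    change Curv2.euler k X (ParSh.resD I E) = _ + Curv2.euler k X (kernel (cokernel.π g)) at e₁
    linarith
  -- the epimorphism `cokernel f ⟶ cokernel g`
  have hT := Groth.Agent.Lib.Helper6.DevCore.isCoh_cokernel f hEc hFc
  have hTgen := genericPoint_notMem_support_cokernel k X f hE hF
  have hzero : f ≫ toRes I F ≫ cokernel.π g = 0 := by
    rw [← Category.assoc, toRes_naturality, Category.assoc]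
    change toRes I E ≫ g ≫ cokernel.π g = 0
    rw [cokernel.condition, comp_zero]
  let d : cokernel f ⟶ cokernel g := cokernel.desc f (toRes I F ≫ cokernel.π g) hzero
  have hd : cokernel.π f ≫ d = toRes I F ≫ cokernel.π g := cokernel.π_desc _ _ _
  haveI : Epi (cokernel.π f ≫ d) := by rw [hd]; infer_instance
  haveI : Epi d := epi_of_epi (cokernel.π f) d
  have hle := euler_le_of_epi k X hdim d hT hC hTgen
  -- the kernel on `H⁰`
  have h1 := finrank_ker_HHlin_le k X g hP hQ
  have h2 := euler_eq_h0 k X hdim _ hK hKgen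
  have h3 : (Module.finrank k (LinearMap.ker (ParSh.fibDMap k X I f)) : ℤ) ≤
      (Module.finrank k (Coh.HH X (kernel g) 0) : ℤ) := by exact_mod_cast h1
  linarith

end Groth.Agent.Lib.Helper4.GPKer

namespace Groth.Agent.Lib.Helper4.GPKer
open Groth.Agent.Lib.Helper8.CurveTensor Groth.Agent.Lib.Helper4.GPRank Groth.Agent.Lib.Helper8.EulerK
open Groth.Agent.Lib.Helper4.HilbPoly Groth.Agent.Lib.Helper4.CurveVB

theorem genericPoint_notMem_support_quotMod {X : Scheme.{u}} [IsIntegral X] (I : X.IdealSheafData)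
    (hD : FGA.IsEffCartier I) : genericPoint X ∉ CohB1.support (ClSub.quotMod I) := by
  rw [Groth.Agent.Lib.Helper6.DevRed.support_quotMod]
  intro h
  have huniv : (Set.univ : Set X) ∈ irreducibleComponents X := by
    rw [irreducibleComponents_eq_singleton]
    exact Set.mem_singleton _
  refine Groth.Agent.Lib.Helper2.EffDim.not_component_subset_support I hD Set.univ huniv ?_
  rw [← (genericPoint_spec X).def]
  exact closure_minimal (Set.singleton_subset_iff.2 h) I.support.isClosed

variable (k : Type u) [Field k] (X : Scheme.{u}) [X.Over (Spec (CommRingCat.of k))] [IsIntegral X]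
  [IsProper (X ↘ Spec (CommRingCat.of k))]

theorem deg_eq_add_euler_cokernel {E F : X.Modules} (n : ℕ)
    (hE : FlatMod.IsFinLocFreeOfRank n E) (hF : FlatMod.IsFinLocFreeOfRank n F)
    (f : E ⟶ F) [Mono f] :
    Curv2.deg k X F n = Curv2.deg k X E n + Curv2.euler k X (cokernel f) := by
  haveI : IsLocallyNoetherian X := isLocallyNoetherian k X
  have hEc := isCoh_of_isFinLocFreeOfRank E hE
  have hFc := isCoh_of_isFinLocFreeOfRank F hF
  have hT := Groth.Agent.Lib.Helper6.DevCore.isCoh_cokernel f hEc hFc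
  have := euler_add k X _ (shortExact_cokernel f) hEc hFc hT
  dsimp only at this
  unfold Curv2.deg
  linarith

omit [X.Over (Spec (CommRingCat.of k))] [IsIntegral X] in
theorem resDMap_comp (I : X.IdealSheafData) {E F G : X.Modules} (f : E ⟶ F) (g : F ⟶ G) :
    ParSh.resDMap I (f ≫ g) = ParSh.resDMap I f ≫ ParSh.resDMap I g := by
  have h : (DCoh.tensorBi.map (f ≫ g)).app (ClSub.quotMod I) =
      (DCoh.tensorBi.map f).app (ClSub.quotMod I) ≫ (DCoh.tensorBi.map g).app (ClSub.quotMod I) := by
    rw [CategoryTheory.Functor.map_comp, NatTrans.comp_app]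
  rw [KoszTw.tensorBi_map_app, KoszTw.tensorBi_map_app, KoszTw.tensorBi_map_app] at h
  exact h

omit [X.Over (Spec (CommRingCat.of k))] [IsIntegral X] in
theorem resDMap_id (I : X.IdealSheafData) (E : X.Modules) :
    ParSh.resDMap I (𝟙 E) = 𝟙 (ParSh.resD I E) := by
  have h : (DCoh.tensorBi.map (𝟙 E)).app (ClSub.quotMod I) = 𝟙 _ := by
    rw [CategoryTheory.Functor.map_id, NatTrans.id_app]
  rw [KoszTw.tensorBi_map_app] at h
  exact h

omit [IsIntegral X] [IsProper (X ↘ Spec (CommRingCat.of k))] in
theorem fibDMap_comp (I : X.IdealSheafData) {E F G : X.Modules} (f : E ⟶ F) (g : F ⟶ G)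
    (y : ParSh.fibD X I E) :
    ParSh.fibDMap k X I g (ParSh.fibDMap k X I f y) = ParSh.fibDMap k X I (f ≫ g) y := by
  unfold ParSh.fibDMap
  rw [Groth.Agent.Lib.Helper2.SerreFin1.HHlin_comp_apply, resDMap_comp]

omit [IsIntegral X] [IsProper (X ↘ Spec (CommRingCat.of k))] in
theorem fibDMap_id (I : X.IdealSheafData) (E : X.Modules) (y : ParSh.fibD X I E) :
    ParSh.fibDMap k X I (𝟙 E) y = y := by
  unfold ParSh.fibDMap
  rw [resDMap_id]
  exact Groth.Agent.Lib.Helper2.SerreFin1.HHlin_id_apply k 0 y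

omit [IsIntegral X] [IsProper (X ↘ Spec (CommRingCat.of k))] in
theorem fibDMap_bijective_of_isIso (I : X.IdealSheafData) {E F : X.Modules} (f : E ⟶ F) [IsIso f] :
    Function.Bijective (ParSh.fibDMap k X I f) := by
  refine Function.bijective_iff_has_inverse.2 ⟨ParSh.fibDMap k X I (inv f), fun y => ?_, fun y => ?_⟩
  · rw [fibDMap_comp, IsIso.hom_inv_id, fibDMap_id]
  · rw [fibDMap_comp, IsIso.inv_hom_id, fibDMap_id]

end Groth.Agent.Lib.Helper4.GPKer
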