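import Groth.Agent.Lib.Helper4.TFCurve2
import Groth.Agent.Lib.Helper2.VBDeg
set_option backward.isDefEq.respectTransparency.types false
set_option autoImplicit false
set_option linter.style.haveILetI false

universe u
open CategoryTheory CategoryTheory.Limits AlgebraicGeometry Opposite TopologicalSpace

namespace Groth.Agent.Lib.Helper4.MaxSub

open Groth.Agent.Lib.Helper8.CurveTensor Groth.Agent.Lib.Helper4.GPRank Groth.Agent.Lib.Helper8.EulerK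
open Groth.Agent.Lib.Helper4.HilbPoly Groth.Agent.Lib.Helper4.CurveVB Groth.Agent.Lib.Helper4.TFCurve

section arith

theorem slope_le_of_scaled {R c' c₁ r' r₁ : ℕ} (hR : 0 < R) (h' : c' * r' = R) (h₁ : c₁ * r₁ = R)
    {d d₁ : ℤ} (h : d * (c' : ℤ) ≤ d₁ * (c₁ : ℤ)) : d * (r₁ : ℤ) ≤ d₁ * (r' : ℤ) := by
  have hRZ : (0 : ℤ) < R := by exact_mod_cast hR
  have h'Z : (c' : ℤ) * r' = R := by exact_mod_cast h'
  have h₁Z : (c₁ : ℤ) * r₁ = R := by exact_mod_cast h₁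
  have h2 := mul_le_mul_of_nonneg_right h (by positivity : (0 : ℤ) ≤ (r' : ℤ) * r₁)
  have e1 : d * (c' : ℤ) * ((r' : ℤ) * r₁) = (R : ℤ) * (d * r₁) := by rw [← h'Z]; ring
  have e2 : d₁ * (c₁ : ℤ) * ((r' : ℤ) * r₁) = (R : ℤ) * (d₁ * r') := by rw [← h₁Z]; ring
  rw [e1, e2] at h2
  exact le_of_mul_le_mul_left h2 hRZ

theorem scaled_eq_of_slope_eq {R c' c₁ r' r₁ : ℕ} (hr' : 0 < r') (hr₁ : 0 < r₁) (h' : c' * r' = R) (h₁ : c₁ * r₁ = R)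
    {d d₁ : ℤ} (h : d * (r₁ : ℤ) = d₁ * (r' : ℤ)) : d * (c' : ℤ) = d₁ * (c₁ : ℤ) := by
  have h'Z : (c' : ℤ) * r' = R := by exact_mod_cast h'
  have h₁Z : (c₁ : ℤ) * r₁ = R := by exact_mod_cast h₁
  have hpos : (0 : ℤ) < (r' : ℤ) * r₁ := by positivity
  have e1 : d * (c' : ℤ) * ((r' : ℤ) * r₁) = (R : ℤ) * (d * r₁) := by rw [← h'Z]; ring
  have e2 : d₁ * (c₁ : ℤ) * ((r' : ℤ) * r₁) = (R : ℤ) * (d₁ * r') := by rw [← h₁Z]; ring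
  have : d * (c' : ℤ) * ((r' : ℤ) * r₁) = d₁ * (c₁ : ℤ) * ((r' : ℤ) * r₁) := by rw [e1, e2, h]
  exact mul_right_cancel₀ hpos.ne' this

end arith

variable (k : Type u) [Field k] (X : Scheme.{u}) [X.Over (Spec (CommRingCat.of k))] [IsIntegral X]
  [IsProper (X ↘ Spec (CommRingCat.of k))] [Smooth (X ↘ Spec (CommRingCat.of k))]

/-- a subbundle of maximal slope and, among those, of maximal rank -/
theorem exists_maxSub (hdim : topologicalKrullDim X = 1) (r : ℕ) (hr : 0 < r) (E : X.Modules)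
    (hE : FlatMod.IsFinLocFreeOfRank r E) :
    ∃ (E₁ : X.Modules) (r₁ : ℕ) (i₁ : E₁ ⟶ E), Mono i₁ ∧ 0 < r₁ ∧ FlatMod.IsFinLocFreeOfRank r₁ E₁ ∧
      (∀ (F : X.Modules) (r' : ℕ) (j : F ⟶ E), Mono j → 0 < r' → FlatMod.IsFinLocFreeOfRank r' F →
        Curv2.deg k X F r' * (r₁ : ℤ) ≤ Curv2.deg k X E₁ r₁ * (r' : ℤ)) ∧
      (∀ (F : X.Modules) (r' : ℕ) (j : F ⟶ E), Mono j → 0 < r' → FlatMod.IsFinLocFreeOfRank r' F →
        Curv2.deg k X F r' * (r₁ : ℤ) = Curv2.deg k X E₁ r₁ * (r' : ℤ) → r' ≤ r₁) := by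
  obtain ⟨N, hN⟩ := Groth.Agent.Lib.Helper2.VBDeg.exists_deg_bound k X hdim E hE
  set R := r.factorial with hR
  have hRpos : 0 < R := Nat.factorial_pos r
  have hdiv : ∀ (F : X.Modules) (r' : ℕ) (j : F ⟶ E), Mono j → 0 < r' → FlatMod.IsFinLocFreeOfRank r' F →
      (R / r') * r' = R := by
    intro F r' j hj hr' hF
    haveI := hj
    exact Nat.div_mul_cancel (Nat.dvd_factorial hr' (rank_le_of_mono j hF hE))
  let P : ℤ → Prop := fun z => ∃ (F : X.Modules) (r' : ℕ) (j : F ⟶ E), Mono j ∧ 0 < r' ∧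
    FlatMod.IsFinLocFreeOfRank r' F ∧ z = Curv2.deg k X F r' * ((R / r' : ℕ) : ℤ)
  have hbdd : ∃ b : ℤ, ∀ z, P z → z ≤ b := by
    refine ⟨|N| * R, ?_⟩
    rintro z ⟨F, r', j, hj, hr', hF, rfl⟩
    have h1 := hN F r' j hj hF
    have h2 : Curv2.deg k X F r' ≤ |N| := h1.trans (le_abs_self N)
    have h3 : ((R / r' : ℕ) : ℤ) ≤ R := by exact_mod_cast Nat.div_le_self R r'
    have h4 : (0 : ℤ) ≤ ((R / r' : ℕ) : ℤ) := Int.natCast_nonneg _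
    calc Curv2.deg k X F r' * ((R / r' : ℕ) : ℤ) ≤ |N| * ((R / r' : ℕ) : ℤ) :=
          mul_le_mul_of_nonneg_right h2 h4
      _ ≤ |N| * R := mul_le_mul_of_nonneg_left h3 (abs_nonneg N)
  have hinh : ∃ z, P z := ⟨_, E, r, 𝟙 E, inferInstance, hr, hE, rfl⟩
  obtain ⟨M, ⟨F₀, r₀, j₀, hj₀, hr₀, hF₀, hM₀⟩, hMmax⟩ := Int.exists_greatest_of_bdd hbdd hinh
  let P₂ : ℤ → Prop := fun z => ∃ (F : X.Modules) (r' : ℕ) (j : F ⟶ E), Mono j ∧ 0 < r' ∧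
    FlatMod.IsFinLocFreeOfRank r' F ∧ M = Curv2.deg k X F r' * ((R / r' : ℕ) : ℤ) ∧ z = r'
  have hbdd₂ : ∃ b : ℤ, ∀ z, P₂ z → z ≤ b := by
    refine ⟨r, ?_⟩
    rintro z ⟨F, r', j, hj, hr', hF, -, rfl⟩
    haveI := hj
    exact_mod_cast rank_le_of_mono j hF hE
  have hinh₂ : ∃ z, P₂ z := ⟨_, F₀, r₀, j₀, hj₀, hr₀, hF₀, hM₀, rfl⟩
  obtain ⟨z₁, ⟨E₁, r₁, i₁, hi₁, hr₁, hE₁, hM₁, rfl⟩, hmax₂⟩ := Int.exists_greatest_of_bdd hbdd₂ hinh₂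
  refine ⟨E₁, r₁, i₁, hi₁, hr₁, hE₁, ?_, ?_⟩
  · intro F r' j hj hr' hF
    have h1 : Curv2.deg k X F r' * ((R / r' : ℕ) : ℤ) ≤ M := hMmax _ ⟨F, r', j, hj, hr', hF, rfl⟩
    rw [hM₁] at h1
    exact slope_le_of_scaled hRpos (hdiv F r' j hj hr' hF) (hdiv E₁ r₁ i₁ hi₁ hr₁ hE₁) h1
  · intro F r' j hj hr' hF heq
    have h1 := scaled_eq_of_slope_eq hr' hr₁ (hdiv F r' j hj hr' hF) (hdiv E₁ r₁ i₁ hi₁ hr₁ hE₁) heq
    have := hmax₂ r' ⟨F, r', j, hj, hr', hF, by rw [hM₁, h1], rfl⟩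
    exact_mod_cast this


/-- the quotient by a subbundle of maximal slope has no torsion, hence is locally free -/
theorem cokernel_locFree (hdim : topologicalKrullDim X = 1) (r : ℕ) (E : X.Modules)
    (hE : FlatMod.IsFinLocFreeOfRank r E) (E₁ : X.Modules) (r₁ : ℕ) (i₁ : E₁ ⟶ E) (hi₁ : Mono i₁) (hr₁ : 0 < r₁)
    (hE₁ : FlatMod.IsFinLocFreeOfRank r₁ E₁)
    (hmax : ∀ (F : X.Modules) (r' : ℕ) (j : F ⟶ E), Mono j → 0 < r' → FlatMod.IsFinLocFreeOfRank r' F →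
        Curv2.deg k X F r' * (r₁ : ℤ) ≤ Curv2.deg k X E₁ r₁ * (r' : ℤ)) :
    FlatMod.IsFinLocFreeOfRank (grank X (cokernel i₁)) (cokernel i₁) := by
  haveI := hi₁
  haveI : IsLocallyNoetherian X := isLocallyNoetherian k X
  haveI : CompactSpace X := QuasiCompact.compactSpace_of_compactSpace (X ↘ Spec (CommRingCat.of k))
  haveI : IsNoetherian X := { }
  have hEc := isCoh_of_isFinLocFreeOfRank E hE
  have hE₁c := isCoh_of_isFinLocFreeOfRank E₁ hE₁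
  have hCc := Groth.Agent.Lib.Helper6.DevCore.isCoh_cokernel i₁ hE₁c hEc
  refine isFinLocFreeOfRank_of_pure (X ↘ Spec (CommRingCat.of k)) hdim _ hCc ?_
  intro S j hj hS hgen
  obtain ⟨G', p₁, hp₁, hG', hdeg⟩ := preimage_locFree k X hdim _ (shortExact_cokernel i₁) hE₁ hE j hj hS
  dsimp only at hG' hdeg
  have hsub : Subsingleton (S.presheaf.stalk (genericPoint X)) := not_not.1 hgen
  have hg0 : grank X S = 0 := by
    unfold grank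
    exact Module.finrank_zero_of_subsingleton
  rw [hg0, add_zero] at hG' hdeg
  rw [deg_zero_rank] at hdeg
  have h1 := hmax G' r₁ p₁ hp₁ hr₁ hG'
  rw [hdeg] at h1
  have hr₁Z : (0 : ℤ) < r₁ := by exact_mod_cast hr₁
  have h2 : Curv2.euler k X S ≤ 0 := by
    by_contra hpos
    have hpos' := not_le.1 hpos
    nlinarith
  exact isZero_of_euler_nonpos k X hdim.le S hS hgen h2


/-- existence of the maximal destabilizing subbundle -/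
theorem exists_maxDestab (hdim : topologicalKrullDim X = 1) (r : ℕ) (hr : 0 < r) (E : X.Modules)
    (hE : FlatMod.IsFinLocFreeOfRank r E) :
    ∃ (E₁ : X.Modules) (r₁ : ℕ) (i₁ : E₁ ⟶ E), Mono i₁ ∧ 0 < r₁ ∧ FlatMod.IsFinLocFreeOfRank r₁ E₁ ∧
      (∀ (F : X.Modules) (r' : ℕ) (j : F ⟶ E), Mono j → 0 < r' → FlatMod.IsFinLocFreeOfRank r' F →
        Curv2.deg k X F r' * (r₁ : ℤ) ≤ Curv2.deg k X E₁ r₁ * (r' : ℤ)) ∧
      (∀ (Q : X.Modules) (s : ℕ) (j : Q ⟶ cokernel i₁), Mono j → 0 < s → FlatMod.IsFinLocFreeOfRank s Q →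
        Curv2.deg k X Q s * (r₁ : ℤ) < Curv2.deg k X E₁ r₁ * (s : ℤ)) := by
  obtain ⟨E₁, r₁, i₁, hi₁, hr₁, hE₁, hmax, hrk⟩ := exists_maxSub k X hdim r hr E hE
  haveI := hi₁
  refine ⟨E₁, r₁, i₁, hi₁, hr₁, hE₁, hmax, ?_⟩
  intro Q s j hj hs hQ
  have hQc := isCoh_of_isFinLocFreeOfRank Q hQ
  obtain ⟨G', p₁, hp₁, hG', hdeg⟩ := preimage_locFree k X hdim _ (shortExact_cokernel i₁) hE₁ hE j hj hQc
  dsimp only at hG' hdeg
  rw [grank_of_isFinLocFreeOfRank Q hQ] at hG' hdeg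
  by_contra hcon
  have hcon' := not_lt.1 hcon
  have h1 := hmax G' (r₁ + s) p₁ hp₁ (by omega) hG'
  rw [hdeg] at h1
  push_cast at h1
  have h2 : Curv2.deg k X G' (r₁ + s) * (r₁ : ℤ) = Curv2.deg k X E₁ r₁ * ((r₁ + s : ℕ) : ℤ) := by
    rw [hdeg]
    push_cast
    linarith
  have := hrk G' (r₁ + s) p₁ hp₁ (by omega) hG' h2
  omega

/-- comparison of two maximal destabilizing subbundles: the second factors through the first -/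
theorem comp_cokernel_eq_zero (hdim : topologicalKrullDim X = 1) (r : ℕ) (E : X.Modules)
    (hE : FlatMod.IsFinLocFreeOfRank r E) (E₁ E₁' : X.Modules) (r₁ r₁' : ℕ) (i₁ : E₁ ⟶ E) (i₁' : E₁' ⟶ E)
    (hi₁ : Mono i₁) (hr₁ : 0 < r₁) (hE₁ : FlatMod.IsFinLocFreeOfRank r₁ E₁)
    (hmax : ∀ (F : X.Modules) (r' : ℕ) (j : F ⟶ E), Mono j → 0 < r' → FlatMod.IsFinLocFreeOfRank r' F →
        Curv2.deg k X F r' * (r₁ : ℤ) ≤ Curv2.deg k X E₁ r₁ * (r' : ℤ))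
    (hquot : ∀ (Q : X.Modules) (s : ℕ) (j : Q ⟶ cokernel i₁), Mono j → 0 < s → FlatMod.IsFinLocFreeOfRank s Q →
        Curv2.deg k X Q s * (r₁ : ℤ) < Curv2.deg k X E₁ r₁ * (s : ℤ))
    (hi₁' : Mono i₁') (hr₁' : 0 < r₁') (hE₁' : FlatMod.IsFinLocFreeOfRank r₁' E₁')
    (hmax' : ∀ (F : X.Modules) (r' : ℕ) (j : F ⟶ E), Mono j → 0 < r' → FlatMod.IsFinLocFreeOfRank r' F →
        Curv2.deg k X F r' * (r₁' : ℤ) ≤ Curv2.deg k X E₁' r₁' * (r' : ℤ)) :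
    i₁' ≫ cokernel.π i₁ = 0 := by
  haveI := hi₁
  haveI := hi₁'
  have hC := cokernel_locFree k X hdim r E hE E₁ r₁ i₁ hi₁ hr₁ hE₁ hmax
  by_contra hne
  obtain ⟨rK, rI, hK, hI, hr', hIs, hdeg, hI0, hK0⟩ := ker_im k X hdim (i₁' ≫ cokernel.π i₁) hE₁' hC
  have hrI := hI0 hne
  have h1 := hquot _ rI (Abelian.image.ι _) inferInstance hrI hI
  have e1 := hmax E₁' r₁' i₁' hi₁' hr₁' hE₁'
  have e2 := hmax' E₁ r₁ i₁ hi₁ hr₁ hE₁
  have heq : Curv2.deg k X E₁' r₁' * (r₁ : ℤ) = Curv2.deg k X E₁ r₁ * (r₁' : ℤ) := le_antisymm e1 e2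
  set dK := Curv2.deg k X (kernel (i₁' ≫ cokernel.π i₁)) rK with hdK
  set dI := Curv2.deg k X (Abelian.image (i₁' ≫ cokernel.π i₁)) rI with hdI
  set d' := Curv2.deg k X E₁' r₁' with hd'
  set d := Curv2.deg k X E₁ r₁ with hd
  have hr₁Z : (0 : ℤ) < r₁ := by exact_mod_cast hr₁
  have hr₁'Z : (0 : ℤ) < r₁' := by exact_mod_cast hr₁'
  have hrIZ : (0 : ℤ) < rI := by exact_mod_cast hrI
  have hr'Z : (rK : ℤ) + rI = r₁' := by exact_mod_cast hr'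
  -- `dI * r₁' < d' * rI`
  have h2 : dI * (r₁' : ℤ) < d' * (rI : ℤ) := by
    have a1 : dI * (r₁ : ℤ) * r₁' < d * rI * r₁' := mul_lt_mul_of_pos_right h1 hr₁'Z
    have a2 : d * (rI : ℤ) * r₁' = d' * rI * r₁ := by
      calc d * (rI : ℤ) * r₁' = (d * r₁') * rI := by ring
        _ = (d' * r₁) * rI := by rw [heq]
        _ = d' * rI * r₁ := by ring
    rw [a2] at a1
    have a3 : (dI * (r₁' : ℤ)) * r₁ < (d' * rI) * r₁ := by
      calc (dI * (r₁' : ℤ)) * r₁ = dI * (r₁ : ℤ) * r₁' := by ring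
        _ < d' * rI * r₁ := a1
    exact lt_of_mul_lt_mul_right a3 hr₁Z.le
  rcases Nat.eq_zero_or_pos rK with h0 | hpos
  · subst h0
    have hz := isZero_of_rank_zero hK
    have hdK0 : dK = 0 := deg_of_isZero k X hz
    have : rI = r₁' := by omega
    rw [hdK0, zero_add] at hdeg
    rw [hdeg, this] at h2
    exact lt_irrefl _ h2
  · have h3 := hmax' _ rK (kernel.ι _ ≫ i₁') inferInstance hpos hK
    have : (dK + dI) * (r₁' : ℤ) < d' * ((rK : ℤ) + rI) := by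
      have : (dK + dI) * (r₁' : ℤ) = dK * r₁' + dI * r₁' := by ring
      rw [this, mul_add]
      exact add_lt_add_of_le_of_lt h3 h2
    rw [hdeg, hr'Z] at this
    exact lt_irrefl _ this

/-- **S16470** -/
theorem main (hdim : topologicalKrullDim X = 1) (r : ℕ) (hr : 0 < r) (E : X.Modules)
    (hE : FlatMod.IsFinLocFreeOfRank r E) :
    (∃ (E₁ : X.Modules) (r₁ : ℕ) (i₁ : E₁ ⟶ E), Mono i₁ ∧ 0 < r₁ ∧ FlatMod.IsFinLocFreeOfRank r₁ E₁ ∧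
      (∀ (F : X.Modules) (r' : ℕ) (j : F ⟶ E), Mono j → 0 < r' → FlatMod.IsFinLocFreeOfRank r' F →
        Curv2.deg k X F r' * (r₁ : ℤ) ≤ Curv2.deg k X E₁ r₁ * (r' : ℤ)) ∧
      (∀ (Q : X.Modules) (s : ℕ) (j : Q ⟶ cokernel i₁), Mono j → 0 < s → FlatMod.IsFinLocFreeOfRank s Q →
        Curv2.deg k X Q s * (r₁ : ℤ) < Curv2.deg k X E₁ r₁ * (s : ℤ))) ∧
    (∀ (E₁ E₁' : X.Modules) (r₁ r₁' : ℕ) (i₁ : E₁ ⟶ E) (i₁' : E₁' ⟶ E),
      Mono i₁ → 0 < r₁ → FlatMod.IsFinLocFreeOfRank r₁ E₁ →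
      (∀ (F : X.Modules) (r' : ℕ) (j : F ⟶ E), Mono j → 0 < r' → FlatMod.IsFinLocFreeOfRank r' F →
        Curv2.deg k X F r' * (r₁ : ℤ) ≤ Curv2.deg k X E₁ r₁ * (r' : ℤ)) →
      (∀ (Q : X.Modules) (s : ℕ) (j : Q ⟶ cokernel i₁), Mono j → 0 < s → FlatMod.IsFinLocFreeOfRank s Q →
        Curv2.deg k X Q s * (r₁ : ℤ) < Curv2.deg k X E₁ r₁ * (s : ℤ)) →
      Mono i₁' → 0 < r₁' → FlatMod.IsFinLocFreeOfRank r₁' E₁' →
      (∀ (F : X.Modules) (r' : ℕ) (j : F ⟶ E), Mono j → 0 < r' → FlatMod.IsFinLocFreeOfRank r' F →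
        Curv2.deg k X F r' * (r₁' : ℤ) ≤ Curv2.deg k X E₁' r₁' * (r' : ℤ)) →
      (∀ (Q : X.Modules) (s : ℕ) (j : Q ⟶ cokernel i₁'), Mono j → 0 < s → FlatMod.IsFinLocFreeOfRank s Q →
        Curv2.deg k X Q s * (r₁' : ℤ) < Curv2.deg k X E₁' r₁' * (s : ℤ)) →
      ∃ e : E₁ ≅ E₁', e.hom ≫ i₁' = i₁) := by
  refine ⟨exists_maxDestab k X hdim r hr E hE, ?_⟩
  intro E₁ E₁' r₁ r₁' i₁ i₁' hi₁ hr₁ hE₁ hmax hquot hi₁' hr₁' hE₁' hmax' hquot'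
  haveI := hi₁
  haveI := hi₁'
  have z1 := comp_cokernel_eq_zero k X hdim r E hE E₁ E₁' r₁ r₁' i₁ i₁' hi₁ hr₁ hE₁ hmax hquot hi₁' hr₁' hE₁' hmax'
  have z2 := comp_cokernel_eq_zero k X hdim r E hE E₁' E₁ r₁' r₁ i₁' i₁ hi₁' hr₁' hE₁' hmax' hquot' hi₁ hr₁ hE₁ hmax
  let a : E₁' ⟶ E₁ := Abelian.monoLift i₁ i₁' z1
  let b : E₁ ⟶ E₁' := Abelian.monoLift i₁' i₁ z2
  have ha : a ≫ i₁ = i₁' := Abelian.monoLift_comp i₁ i₁' z1
  have hb : b ≫ i₁' = i₁ := Abelian.monoLift_comp i₁' i₁ z2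
  refine ⟨⟨b, a, ?_, ?_⟩, hb⟩
  · rw [← cancel_mono i₁, Category.assoc, ha, hb, Category.id_comp]
  · rw [← cancel_mono i₁', Category.assoc, hb, ha, Category.id_comp]

end Groth.Agent.Lib.Helper4.MaxSub
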