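import Groth.Agent.Lib.Helper4.Snapper8
set_option backward.isDefEq.respectTransparency.types false
set_option autoImplicit false
set_option linter.style.haveILetI false

universe u
open CategoryTheory CategoryTheory.Limits AlgebraicGeometry Opposite TopologicalSpace

namespace Groth.Agent.Lib.Helper4.Snapper
open Groth.Agent.Lib.Helper6.K0Filt Groth.Agent.Lib.Helper6.K0Len Groth.Agent.Lib.Helper6.K0Op
  Groth.Agent.Lib.Helper6.K0Tensor Groth.Agent.Lib.Helper4.NumPoly

variable {X : Scheme.{u}}

theorem W_zero : (r : ℕ) → (L : _root_.Fin r → X.Modules) → W r L 0 = 1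
  | 0, _ => rfl
  | r + 1, L => by
    show Top (L (Fin.last r)) ^ (0 : _root_.Fin (r + 1) → ℕ) (Fin.last r) *
      W r (fun i => L i.castSucc) (fun i => (0 : _root_.Fin (r + 1) → ℕ) i.castSucc) = 1
    have : (fun i : _root_.Fin r => (0 : _root_.Fin (r + 1) → ℕ) i.castSucc) = 0 := rfl
    rw [this, W_zero r, Pi.zero_apply, pow_zero, one_mul]

theorem commute_Top_W (M : X.Modules) (hM : PicF.IsInvertible M) : (r : ℕ) → (L : _root_.Fin r → X.Modules) →
    (∀ i, PicF.IsInvertible (L i)) → (n : _root_.Fin r → ℕ) → Commute (Top M) (W r L n)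
  | 0, _, _, _ => Commute.one_right _
  | r + 1, L, hL, n => by
    show Commute (Top M) (Top (L (Fin.last r)) ^ n (Fin.last r) *
      W r (fun i => L i.castSucc) (fun i => n i.castSucc))
    have h1 : Commute (Top M) (Top (L (Fin.last r))) := Top_comm _ _ hM (hL (Fin.last r))
    exact (h1.pow_right _).mul_right (commute_Top_W M hM r _ (fun i => hL i.castSucc) _)

/-- shifting a factor `X_i - 1` of the polynomial into the class -/
theorem pair_W_mul_X_sub_one (r : ℕ) (L : _root_.Fin r → X.Modules) (hL : ∀ i, PicF.IsInvertible (L i))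
    (i : _root_.Fin r) (c : K0 X) (P : MvPolynomial (_root_.Fin r) ℤ) :
    pair (fun n => W r L n c) (P * (MvPolynomial.X i - 1)) =
      pair (fun n => W r L n ((Top (L i) - 1) c)) P := by
  rw [pair_mul_X_sub_one]
  have : NumPoly.Δ i (fun n => W r L n c) = fun n => W r L n ((Top (L i) - 1) c) := by
    funext n
    unfold NumPoly.Δ
    have hc := (commute_Top_W (L i) (hL i) r L hL n).eq
    show W r L (n + Pi.single i 1) c - W r L n c = W r L n (Top (L i) c - c)
    rw [W_add_single r L hL n i, map_sub, hc]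
    rfl
  rw [this]

theorem pair_W_prod (r : ℕ) (L : X.Modules) (hL : PicF.IsInvertible L) (s : Finset (_root_.Fin r)) :
    ∀ c : K0 X, pair (fun n => W r (fun _ => L) n c) (∏ i ∈ s, (MvPolynomial.X i - 1)) =
      ((Top L - 1) ^ s.card) c := by
  classical
  induction s using Finset.induction_on with
  | empty =>
    intro c
    rw [Finset.prod_empty, pair_one, W_zero, Finset.card_empty, pow_zero]
  | insert a s ha ih =>
    intro c
    rw [Finset.prod_insert ha, mul_comm, pair_W_mul_X_sub_one r _ (fun _ => hL) a c, ih,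
      Finset.card_insert_of_notMem ha, pow_succ]
    rfl

/-- for a constant family, the top mixed difference is `([L ⊗ -] - 1)^d` -/
theorem topDiff_const (d : ℕ) (L : X.Modules) (hL : PicF.IsInvertible L) (c : K0 X) :
    topDiff d (fun _ => L) c = ((Top L - 1) ^ d) c := by
  show pair (fun n => W d (fun _ => L) n c) (Y fun _ => 1) = _
  unfold Y
  simp only [pow_one]
  rw [pair_W_prod d L hL Finset.univ c, Finset.card_univ, Fintype.card_fin]

section ops
variable [IsNoetherian X] (L : X.Modules) (hL : PicF.IsInvertible L)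

include hL in
theorem Top_sub_one_mem_Hlt (n : ℕ) (c : K0 X) (hc : c ∈ Hlt X (n + 1)) : (Top L - 1) c ∈ Hlt X n := by
  have h := sub_Top_mem_Hlt L hL n c hc
  have : (Top L - 1) c = - ((1 - Top L) c) := by
    change Top L c - c = - (c - Top L c)
    abel
  rw [this]
  exact AddSubgroup.neg_mem _ h

include hL in
theorem Top_sub_one_pow_mem_Hlt (j n : ℕ) (c : K0 X) (hc : c ∈ Hlt X (n + j)) :
    ((Top L - 1) ^ j) c ∈ Hlt X n := by
  induction j generalizing c n with
  | zero => simpa using hc
  | succ j ih =>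
    rw [pow_succ]
    show ((Top L - 1) ^ j) ((Top L - 1) c) ∈ _
    apply ih
    apply Top_sub_one_mem_Hlt L hL
    rw [add_assoc, add_comm j 1] at *
    exact hc

include hL in
theorem Top_pow_map_Hlt (j n : ℕ) (c : K0 X) (hc : c ∈ Hlt X n) : (Top L ^ j) c ∈ Hlt X n := by
  induction j with
  | zero => simpa using hc
  | succ j ih =>
    rw [pow_succ']
    exact Top_map_Hlt L hL n _ ih

end ops

section coef
variable (k : Type u) [Field k] (X : Scheme.{u}) [X.Over (Spec (CommRingCat.of k))]
    [IsProper (X ↘ (Spec (CommRingCat.of k)))]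

/-- the `d`-th Hilbert coefficient functional: `c ↦ χ(([L ⊗ -] - 1)^d c)`, the `d`-th difference at `0` of
`n ↦ χ(c ⊗ L^n)` -/
noncomputable def hcoef (L : X.Modules) (d : ℕ) : K0 X →+ ℤ :=
  (eulerHom k X).comp ((Top L - 1) ^ d : AddMonoid.End (K0 X))

variable {X}

theorem inter_const (d : ℕ) (L : X.Modules) (hL : PicF.IsInvertible L) (c : K0 X) :
    inter k X d (fun _ => L) c = hcoef k X L d c := by
  show eulerHom k X (topDiff d (fun _ => L) c) = eulerHom k X (((Top L - 1) ^ d) c)
  rw [topDiff_const d L hL c]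

variable [IsNoetherian X] (L : X.Modules) (hL : PicF.IsInvertible L)

include hL in
theorem hcoef_eq_zero (d : ℕ) (c : K0 X) (hc : c ∈ Hlt X d) : hcoef k X L d c = 0 := by
  have h := Top_sub_one_pow_mem_Hlt L hL d 0 c (by simpa using hc)
  rw [Hlt_zero, AddSubgroup.mem_bot] at h
  show eulerHom k X (((Top L - 1) ^ d) c) = 0
  rw [h, map_zero]

include hL in
/-- the Euler characteristic of a class of dimension `≤ 0` is invariant under twisting -/
theorem eulerHom_Top_pow (j : ℕ) (c : K0 X) (hc : c ∈ Hlt X 1) :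
    eulerHom k X ((Top L ^ j) c) = eulerHom k X c := by
  induction j with
  | zero => simp
  | succ j ih =>
    rw [pow_succ]
    show eulerHom k X ((Top L ^ j) (Top L c)) = _
    have h1 := Top_sub_one_mem_Hlt L hL 0 c hc
    rw [Hlt_zero, AddSubgroup.mem_bot] at h1
    have h2 : Top L c = c := by
      have : (Top L - 1) c = Top L c - c := rfl
      rw [this, sub_eq_zero] at h1
      exact h1
    rw [h2, ih]

include hL in
theorem hcoef_Top_pow (d j : ℕ) (c : K0 X) (hc : c ∈ Hlt X (d + 1)) :
    hcoef k X L d ((Top L ^ j) c) = hcoef k X L d c := by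
  show eulerHom k X (((Top L - 1) ^ d) ((Top L ^ j) c)) = eulerHom k X (((Top L - 1) ^ d) c)
  have hcomm : Commute ((Top L - 1) ^ d) (Top L ^ j) :=
    (((Commute.refl (Top L)).sub_left (Commute.one_left _)).pow_left d).pow_right j
  have : ((Top L - 1) ^ d) ((Top L ^ j) c) = (Top L ^ j) (((Top L - 1) ^ d) c) := by
    change (((Top L - 1) ^ d) * (Top L ^ j)) c = ((Top L ^ j) * ((Top L - 1) ^ d)) c
    rw [hcomm.eq]
  rw [this]
  apply eulerHom_Top_pow k L hL
  apply Top_sub_one_pow_mem_Hlt L hL d 1 c
  rw [add_comm]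
  exact hc

include hL in
/-- `hcoef_d ((u^m - 1) c) = m · hcoef_{d+1} c` for `c` of dimension `≤ d + 1` -/
theorem hcoef_pow_sub_one (d m : ℕ) (c : K0 X) (hc : c ∈ Hlt X (d + 2)) :
    hcoef k X L d ((Top L ^ m - 1) c) = m * hcoef k X L (d + 1) c := by
  induction m with
  | zero => simp
  | succ m ih =>
    have h1 : (Top L ^ (m + 1) - 1 : AddMonoid.End (K0 X)) = (Top L ^ m - 1) + Top L ^ m * (Top L - 1) := by
      rw [pow_succ, mul_sub, mul_one]
      abel
    rw [h1]
    show hcoef k X L d ((Top L ^ m - 1) c + (Top L ^ m) ((Top L - 1) c)) = _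
    rw [map_add, ih, hcoef_Top_pow k L hL d m _ (Top_sub_one_mem_Hlt L hL (d + 1) c hc)]
    have : hcoef k X L d ((Top L - 1) c) = hcoef k X L (d + 1) c := by
      show eulerHom k X (((Top L - 1) ^ d) ((Top L - 1) c)) = eulerHom k X (((Top L - 1) ^ (d + 1)) c)
      rw [pow_succ]
      rfl
    rw [this]
    push_cast
    ring

end coef

end Groth.Agent.Lib.Helper4.Snapper
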