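import Groth.Agent.Lib.Helper4.Snapper7
set_option backward.isDefEq.respectTransparency.types false
set_option autoImplicit false
set_option linter.style.haveILetI false

universe u
open CategoryTheory CategoryTheory.Limits AlgebraicGeometry Opposite TopologicalSpace

namespace Groth.Agent.Lib.Helper4.NumPoly
open MvPolynomial

variable {G : Type*} [AddCommGroup G]

theorem pair_one {ι : Type*} [Fintype ι] [DecidableEq ι] (f : (ι → ℕ) → G) : pair f 1 = f 0 := by
  have : (1 : MvPolynomial ι ℤ) = monomial 0 1 := rfl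
  rw [this, pair_monomial, one_smul]
  rfl

theorem pair_Y_one_fin_one (f : (_root_.Fin 1 → ℕ) → G) :
    pair f (Y fun _ => 1) = f (fun _ => 1) - f 0 := by
  unfold Y
  rw [Fin.prod_univ_one, pow_one]
  have := pair_mul_X_sub_one f (0 : _root_.Fin 1) 1
  rw [one_mul] at this
  rw [this, pair_one]
  unfold Δ
  congr 2
  funext i
  have : i = 0 := Subsingleton.elim _ _
  subst this
  simp

end Groth.Agent.Lib.Helper4.NumPoly

namespace Groth.Agent.Lib.Helper4.Snapper
open Groth.Agent.Lib.Helper6.K0Filt Groth.Agent.Lib.Helper6.K0Len Groth.Agent.Lib.Helper6.K0Op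
  Groth.Agent.Lib.Helper6.K0Tensor Groth.Agent.Lib.Helper4.NumPoly

variable {X : Scheme.{u}}

theorem nonempty_tensor_unit_iso (G : X.Modules) :
    Nonempty (CohB1.tensorMod G (Coh.structureModule X) ≅ G) := by
  obtain ⟨e⟩ := Groth.Agent.Lib.Helper28.InvQC.nonempty_unit_tensor_iso G
  exact ⟨Groth.Agent.Lib.Helper6.K0Inv.braidIso _ _ ≪≫ e⟩

/-- `F ⊗ L^0 ≅ F` -/
theorem nonempty_tensorPows_one_zero_iso (F L : X.Modules) :
    Nonempty (Curv2.tensorPows F 1 (fun _ => L) 0 ≅ F) :=
  nonempty_tensor_unit_iso F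

/-- `F ⊗ L^1 ≅ F ⊗ L` -/
theorem nonempty_tensorPows_one_one_iso (F L : X.Modules) :
    Nonempty (Curv2.tensorPows F 1 (fun _ => L) (fun _ => 1) ≅ CohB1.tensorMod F L) := by
  obtain ⟨e⟩ := Groth.Agent.Lib.Helper28.InvQC.nonempty_unit_tensor_iso L
  exact ⟨tensorIsoRight F e⟩

section field
variable (k : Type u) [Field k] [X.Over (Spec (CommRingCat.of k))] [IsProper (X ↘ (Spec (CommRingCat.of k)))]

/-- for a closed subscheme `D` of dimension `≤ 1`, the intersection number `(L · D)` is the degree of `L|_D` -/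
theorem coeff_one_eq_deg (D : X.IdealSheafData) (hD : topologicalKrullDim (D.support : Set X) ≤ 1)
    (L : X.Modules) (hL : PicF.IsInvertible L) (P : MvPolynomial (_root_.Fin 1) ℚ)
    (hP : ∀ n : _root_.Fin 1 → ℕ, (Curv2.euler k X (Curv2.tensorPows (ClSub.quotMod D) 1 (fun _ => L) n) : ℚ) =
      MvPolynomial.eval (fun i => (n i : ℚ)) P) :
    MvPolynomial.coeff (Finsupp.equivFunOnFinite.symm fun _ : _root_.Fin 1 => 1) P =
      (@Curv2.deg k _ D.subscheme ⟨D.subschemeι ≫ (X ↘ (Spec (CommRingCat.of k)))⟩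
        ((Scheme.Modules.pullback D.subschemeι).obj L) 1 : ℚ) := by
  have hsupp : topologicalKrullDim (CohB1.support (ClSub.quotMod D)) ≤ (1 : ℕ) := by
    rw [Groth.Agent.Lib.Helper6.DevRed.support_quotMod]
    exact hD
  have hcoh := Groth.Agent.Lib.Helper6.DevRed.isCoh_quotMod D
  rw [coeff_one_eq_pair (fun n => Curv2.euler k X (Curv2.tensorPows (ClSub.quotMod D) 1 (fun _ => L) n))
    (snapper k X _ hcoh 1 hsupp 1 (fun _ => L) (fun _ => hL)) P hP, pair_Y_one_fin_one]
  congr 1
  letI : D.subscheme.Over (Spec (CommRingCat.of k)) := ⟨D.subschemeι ≫ (X ↘ (Spec (CommRingCat.of k)))⟩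
  unfold Curv2.deg
  rw [← euler_subscheme_tensorPows k D 1 (fun _ => L) (fun _ => hL) (fun _ => 1),
    ← euler_subscheme_tensorPows k D 1 (fun _ => L) (fun _ => hL) 0]
  obtain ⟨e0⟩ := nonempty_tensorPows_one_zero_iso (Coh.structureModule D.subscheme)
    ((Scheme.Modules.pullback D.subschemeι).obj L)
  obtain ⟨e1⟩ := nonempty_tensorPows_one_one_iso (Coh.structureModule D.subscheme)
    ((Scheme.Modules.pullback D.subschemeι).obj L)
  obtain ⟨e2⟩ := Groth.Agent.Lib.Helper28.InvQC.nonempty_unit_tensor_iso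
    ((Scheme.Modules.pullback D.subschemeι).obj L)
  rw [Groth.Agent.Lib.Helper8.EulerK.euler_congr k e0,
    Groth.Agent.Lib.Helper8.EulerK.euler_congr k (e1 ≪≫ e2)]
  simp

end field

end Groth.Agent.Lib.Helper4.Snapper
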