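import Groth.Agent.Lib.Helper4.CM2
set_option autoImplicit false
set_option backward.isDefEq.respectTransparency.types false
set_option linter.unusedSectionVars false
set_option linter.style.haveILetI false

universe u
open CategoryTheory CategoryTheory.Limits AlgebraicGeometry Opposite TopologicalSpace

noncomputable section
namespace Groth.Agent.Lib.Helper4.CM3
open Groth.Agent.Lib.Helper28.TensorGen Groth.Agent.Lib.Helper28.QCohLoc Groth.Agent.Lib.Helper28.GenLocus
  Groth.Agent.Lib.Helper4.CM1 Groth.Agent.Lib.Helper4.CM2 Groth.Agent.Lib.Helper8.GGCoh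

variable {X : Scheme.{u}} [IsNoetherian X] (hdim : topologicalKrullDim X ≤ 1) {A : X.Modules}
  (hA : PicF.IsInvertible A) (hgg : Curv2.IsGloballyGenerated A)

include hdim hA hgg in
/-- tensoring with a globally generated invertible module preserves `H¹ = 0` on a curve -/
theorem subsingleton_H1_tensorMod (N : X.Modules) (hN : Subsingleton (Coh.HH X N 1)) :
    Subsingleton (Coh.HH X (CohB1.tensorMod N A) 1) := by
  obtain ⟨r, s, hs⟩ := exists_fin_sections hA hgg
  exact subsingleton_HH_of_epi (ε s N) (epi_ε s hs N) 1 (subsingleton_HH_biproduct' _ 1 (fun _ => hN))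
    (subsingleton_HH_add_two hdim _ 0)

include hdim hA hgg in
theorem subsingleton_H1_tensorPow (m : ℕ) (hm : Subsingleton (Coh.HH X (CohB1.tensorPow A m) 1)) :
    ∀ j : ℕ, m ≤ j → Subsingleton (Coh.HH X (CohB1.tensorPow A j) 1) := by
  intro j hj
  induction j, hj using Nat.le_induction with
  | base => exact hm
  | succ j _ ih => exact subsingleton_H1_tensorMod hdim hA hgg _ ih

include hdim hA hgg in
/-- **Castelnuovo–Mumford for powers of a globally generated invertible module on a curve** -/
theorem span_tmul_tensorPow (m : ℕ) (hm : Subsingleton (Coh.HH X (CohB1.tensorPow A m) 1))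
    (n : ℕ) (hn : m + 1 ≤ n) :
    Submodule.span (X.ringCatSheaf.obj.obj (Opposite.op ⊤))
      (Set.range (fun p : (CohB1.tensorPow A n).val.obj (Opposite.op ⊤) × A.val.obj (Opposite.op ⊤) =>
        SecTwist.tmul (CohB1.tensorPow A n) A ⊤ p.1 p.2)) = ⊤ := by
  obtain ⟨r, s, hs⟩ := exists_fin_sections hA hgg
  obtain ⟨n', rfl⟩ : ∃ n', n = n' + 1 := ⟨n - 1, by omega⟩
  exact span_tmul_eq_top s hdim hA hs (CohB1.tensorPow A n')
    (subsingleton_H1_tensorPow hdim hA hgg m hm n' (by omega))

end Groth.Agent.Lib.Helper4.CM3
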