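import Groth.Agent.Lib.Helper4.Snapper4
set_option backward.isDefEq.respectTransparency.types false
set_option autoImplicit false
set_option linter.style.haveILetI false

universe u
open CategoryTheory CategoryTheory.Limits AlgebraicGeometry Opposite TopologicalSpace

namespace Groth.Agent.Lib.Helper4.NumPoly
open MvPolynomial

/-- explicit form of `coeff_one_isInt` -/
theorem coeff_one_eq_pair {d : ℕ} (f : (_root_.Fin d → ℕ) → ℤ)
    (hf : IsNumPolyLt (d + 1) (fun n => ((f n : ℤ) : ℚ)))
    (P : MvPolynomial (_root_.Fin d) ℚ) (hP : ∀ n : _root_.Fin d → ℕ, ((f n : ℤ) : ℚ) = eval (fun i => (n i : ℚ)) P) :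
    coeff (Finsupp.equivFunOnFinite.symm fun _ : _root_.Fin d => 1) P =
      ((pair f (Y fun _ => 1) : ℤ) : ℚ) := by
  have h1 : P = newtonPoly d (fun n => ((f n : ℤ) : ℚ)) := by
    apply eq_of_eval_nat_eq
    intro n
    rw [eval_newtonPoly hf n, hP n]
  have h2 := coeff_one_newtonPoly (ι := _root_.Fin d) (fun n => ((f n : ℤ) : ℚ))
  rw [Fintype.card_fin] at h2
  rw [h1, h2]
  exact pair_comp (Int.castAddHom ℚ) f _

end Groth.Agent.Lib.Helper4.NumPoly

namespace Groth.Agent.Lib.Helper4.Snapper
open Groth.Agent.Lib.Helper6.K0Filt Groth.Agent.Lib.Helper6.K0Len Groth.Agent.Lib.Helper6.K0Op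
  Groth.Agent.Lib.Helper6.K0Tensor Groth.Agent.Lib.Helper4.NumPoly

variable {X : Scheme.{u}}

/-- the top mixed difference of `n ↦ Π [L_i]^{n_i} c` -/
noncomputable def topDiff (r : ℕ) (L : _root_.Fin r → X.Modules) : K0 X →+ K0 X where
  toFun c := pair (fun n => W r L n c) (Y fun _ => 1)
  map_zero' := by
    have : (fun n => W r L n (0 : K0 X)) = 0 := by
      funext n
      exact map_zero _
    rw [this]
    exact pair_zero_fun _
  map_add' a b := by
    have : (fun n => W r L n (a + b)) = (fun n => W r L n a) + (fun n => W r L n b) := by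
      funext n
      exact map_add _ _ _
    rw [this]
    exact pair_add_fun _ _ _

theorem topDiff_eq_zero [IsNoetherian X] (r : ℕ) (L : _root_.Fin r → X.Modules)
    (hL : ∀ i, PicF.IsInvertible (L i)) (c : K0 X) (hc : c ∈ Hlt X r) : topDiff r L c = 0 := by
  have hg : IsEquivariant L (fun n => W r L n c) := by
    intro i n
    show W r L (n + Pi.single i 1) c = Top (L i) (W r L n c)
    rw [W_add_single r L hL n i]
    rfl
  have h1 := isNumPolyLt_of_isEquivariant L hL r _ hg (fun n => W_map_Hlt r r L hL n c hc)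
  apply h1
  have := Y_mem (fun _ : _root_.Fin r => 1)
  simpa using this

section field
variable (k : Type u) [Field k] (X : Scheme.{u}) [X.Over (Spec (CommRingCat.of k))]
    [IsProper (X ↘ (Spec (CommRingCat.of k)))]

/-- the Euler characteristic as a homomorphism on `K'_0` -/
noncomputable def eulerHom : K0 X →+ ℤ :=
  Groth.Agent.Lib.Helper8.K0Add.Φ (Curv2.euler k X) (Groth.Agent.Lib.Helper8.EulerK.euler_add k X)

theorem eulerHom_cls (M : X.Modules) (hM : Coh.IsCoh M) : eulerHom k X (cls M) = Curv2.euler k X M :=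
  Groth.Agent.Lib.Helper8.K0Add.Φ_cls _ _ M hM

/-- the intersection number `(L_1 ⋯ L_d · c)` of a class in `K'_0` -/
noncomputable def inter (d : ℕ) (L : _root_.Fin d → X.Modules) : K0 X →+ ℤ :=
  (eulerHom k X).comp (topDiff d L)

variable {X}

include k in
theorem isNoetherian_of_proper : IsNoetherian X := by
  haveI : IsLocallyNoetherian X := Groth.Agent.Lib.Helper8.EulerK.isLocallyNoetherian k X
  haveI : CompactSpace X := QuasiCompact.compactSpace_of_compactSpace (X ↘ Spec (CommRingCat.of k))
  exact { }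

theorem coeff_one_eq_inter (F : X.Modules) (hF : Coh.IsCoh F) (d : ℕ)
    (hsupp : topologicalKrullDim (CohB1.support F) ≤ d)
    (L : _root_.Fin d → X.Modules) (hL : ∀ i, PicF.IsInvertible (L i)) (P : MvPolynomial (_root_.Fin d) ℚ)
    (hP : ∀ n : _root_.Fin d → ℕ, (Curv2.euler k X (Curv2.tensorPows F d L n) : ℚ) =
      MvPolynomial.eval (fun i => (n i : ℚ)) P) :
    MvPolynomial.coeff (Finsupp.equivFunOnFinite.symm fun _ : _root_.Fin d => 1) P =
      ((inter k X d L (cls F) : ℤ) : ℚ) := by
  rw [coeff_one_eq_pair (fun n => Curv2.euler k X (Curv2.tensorPows F d L n))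
    (snapper k X F hF d hsupp d L hL) P hP]
  congr 1
  have h : (fun n => Curv2.euler k X (Curv2.tensorPows F d L n)) =
      fun n => eulerHom k X (W d L n (cls F)) := by
    funext n
    rw [← cls_tensorPows F hF d L hL n, eulerHom_cls k X _ (isCoh_tensorPows F hF d L hL n)]
  rw [h, pair_comp (eulerHom k X)]
  rfl

theorem inter_eq_zero [IsNoetherian X] (d : ℕ) (L : _root_.Fin d → X.Modules) (hL : ∀ i, PicF.IsInvertible (L i))
    (c : K0 X) (hc : c ∈ Hlt X d) : inter k X d L c = 0 := by
  show eulerHom k X (topDiff d L c) = 0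
  rw [topDiff_eq_zero d L hL c hc, map_zero]

open Classical in
/-- **intersection numbers via multiplicities of components** -/
theorem inter_eq_cycle_sum (F : X.Modules) (hF : Coh.IsCoh F) (d : ℕ)
    (hsupp : topologicalKrullDim (CohB1.support F) ≤ d)
    (L : _root_.Fin d → X.Modules) (hL : ∀ i, PicF.IsInvertible (L i)) :
    inter k X d L (cls F) =
      ∑ᶠ ξ : X, if Dn d ξ then ((len F ξ).toNat : ℤ) * inter k X d L (cls (OZ ξ)) else 0 := by
  haveI : IsNoetherian X := isNoetherian_of_proper k
  obtain ⟨hfin, hmem⟩ := cycle_formula_dim d (CohB1.support F)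
    (Groth.Agent.Lib.Helper6.DevCore.isClosed_support F hF) hsupp F hF le_rfl
  have h0 := inter_eq_zero k d L hL _ hmem
  rw [map_sub, sub_eq_zero] at h0
  rw [h0, AddMonoidHom.map_finsum _ (hfin.1.subset (support_term_subset (Dn d) F))]
  apply finsum_congr
  intro ξ
  unfold term
  split_ifs with h
  · rw [map_nsmul, nsmul_eq_mul]
  · rw [map_zero]

end field

end Groth.Agent.Lib.Helper4.Snapper
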