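import Groth.Agent.Lib.Helper4.VA5
import Groth.Agent.Lib.Helper4.CM3
import Groth.Agent.Lib.Helper4.Snapper5
import Groth.Agent.Lib.Helper6.PnBridge
import Groth.Agent.Lib.Helper17.GGStalk
set_option autoImplicit false
set_option backward.isDefEq.respectTransparency.types false
set_option linter.unusedSectionVars false
set_option linter.style.haveILetI false

universe u
open CategoryTheory CategoryTheory.Limits AlgebraicGeometry Opposite TopologicalSpace

noncomputable section
namespace Groth.Agent.Lib.Helper4.VA6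
open Groth.Agent.Lib.Helper28 Groth.Agent.Lib.Helper28.QCohLoc Groth.Agent.Lib.Helper28.GenLocus
  Groth.Agent.Lib.Helper28.TensorGen Groth.Agent.Lib.Helper4.CM1 Groth.Agent.Lib.Helper4.VA1
  Groth.Agent.Lib.Helper4.VA2 Groth.Agent.Lib.Helper4.VA3 Groth.Agent.Lib.Helper28.VeryAmpleImm
  Groth.Agent.Lib.Helper4.Bridge

variable {X : Scheme.{u}}

/-- transport a closed immersion into `P^N_{Spec B}` (base change from `ℤ`) to `Proj B[T₀..T_N]` -/
theorem exists_projSpace (B : Type u) [CommRing B] (q : X ⟶ Spec (CommRingCat.of B)) (M : X.Modules)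
    (h : ∃ (N : ℕ) (i : X ⟶ CohB1.ProjSpaceOver N (Spec (CommRingCat.of B))), IsClosedImmersion i ∧
      i ≫ pullback.snd (CohB1.ProjSpace.toSpec N (ULift.{u} ℤ))
        (specULiftZIsTerminal.from (Spec (CommRingCat.of B))) = q ∧
      Nonempty (M ≅ (Scheme.Modules.pullback i).obj (Twist.twistOver N (Spec (CommRingCat.of B)) 1))) :
    ∃ (n : ℕ) (i : X ⟶ CohB1.ProjSpace n B), IsClosedImmersion i ∧ i ≫ CohB1.ProjSpace.toSpec n B = q ∧
      Nonempty ((Scheme.Modules.pullback i).obj (Twist.twistProjSpace n B 1) ≅ M) := by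
  obtain ⟨N, i, hi, hq, ⟨φ⟩⟩ := h
  obtain ⟨e, he, ⟨ψ⟩⟩ := Groth.Agent.Lib.Helper6.PnBridge.exists_iso N B
  refine ⟨N, i ≫ e.hom, inferInstance, ?_, ⟨?_⟩⟩
  · rw [Category.assoc, he]; exact hq
  · exact (Scheme.Modules.pullbackComp i e.hom).symm.app _ ≪≫
      (Scheme.Modules.pullback i).mapIso ψ ≪≫ φ.symm

/-- `tensorPow L 1 = O ⊗ L ≅ L` -/
def tensorPowOne (L : X.Modules) : CohB1.tensorPow L 1 ≅ L := unitorL L

/-- convert the `span = ⊤` form of normal generation into the membership form -/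
theorem mem_span_of_eq_top {L : X.Modules} (n : ℕ)
    (h : Submodule.span (X.ringCatSheaf.obj.obj (Opposite.op ⊤))
      (Set.range (fun p : (CohB1.tensorPow L n).val.obj (Opposite.op ⊤) × L.val.obj (Opposite.op ⊤) =>
        SecTwist.tmul (CohB1.tensorPow L n) L ⊤ p.1 p.2)) = ⊤)
    (t : Γ(CohB1.tensorMod (CohB1.tensorPow L n) L, ⊤)) :
    t ∈ Submodule.span Γ(X, ⊤) (Set.range fun p : Γ(CohB1.tensorPow L n, ⊤) × Γ(L, ⊤) =>
        tmulSec (CohB1.tensorPow L n) L p.1 p.2) := by
  have h2 : t ∈ (⊤ : Submodule (X.ringCatSheaf.obj.obj (Opposite.op ⊤))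
      ((CohB1.tensorMod (CohB1.tensorPow L n) L).val.obj (Opposite.op ⊤))) := trivial
  rw [← h] at h2
  exact h2

/-- **on a proper curve, a globally generated ample invertible module with `H¹ = 0` has very ample square** -/
theorem veryAmple_tensorPow_two (k : Type u) [Field k] (X : Scheme.{u}) [X.Over (Spec (CommRingCat.of k))]
    [IsProper (X ↘ (Spec (CommRingCat.of k)))] (hdim : topologicalKrullDim X = 1)
    (L : X.Modules) (hL : PicF.IsInvertible L)
    (hgg : Curv2.IsGloballyGenerated L) (h1 : Subsingleton (Coh.HH X L 1)) (hample : CohB1.IsAmple L) :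
    ∃ (n : ℕ) (i : X ⟶ CohB1.ProjSpace n k), IsClosedImmersion i ∧
      i ≫ CohB1.ProjSpace.toSpec n k = X ↘ (Spec (CommRingCat.of k)) ∧
      Nonempty ((Scheme.Modules.pullback i).obj (Twist.twistProjSpace n k 1) ≅ CohB1.tensorPow L 2) := by
  haveI : IsNoetherian X := Groth.Agent.Lib.Helper4.Snapper.isNoetherian_of_proper k
  have hm : Subsingleton (Coh.HH X (CohB1.tensorPow L 1) 1) :=
    Groth.Agent.Lib.Helper4.VanClass.subsingleton_HH_of_iso (tensorPowOne L).symm 1 h1
  refine exists_projSpace k (X ↘ (Spec (CommRingCat.of k))) _ ?_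
  refine Groth.Agent.Lib.Helper4.VA5.exists_closedImm_veronese (X ↘ (Spec (CommRingCat.of k))) hample
    (fun x => Groth.Agent.Lib.Helper17.GGStalk.exists_mem_genLocus L hL hgg x) 2 (by norm_num)
    (fun n hn t => ?_)
  exact mem_span_of_eq_top n
    (Groth.Agent.Lib.Helper4.CM3.span_tmul_tensorPow (le_of_eq hdim) hL hgg 1 hm n hn) t

end Groth.Agent.Lib.Helper4.VA6
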