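import Groth.Agent.Lib.Helper4.HilbPoly2
set_option backward.isDefEq.respectTransparency.types false
set_option autoImplicit false
set_option linter.style.haveILetI false

universe u
open CategoryTheory CategoryTheory.Limits AlgebraicGeometry Opposite TopologicalSpace Polynomial

namespace Groth.Agent.Lib.Helper4.HilbPoly
open Groth.Agent.Lib.Helper4.Snapper Groth.Agent.Lib.Helper6.K0Len Groth.Agent.Lib.Helper6.K0Op

variable (k : Type u) [Field k] {X : Scheme.{u}} [X.Over (Spec (CommRingCat.of k))]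
    [IsProper (X ↘ (Spec (CommRingCat.of k)))] {L : X.Modules}

omit [IsProper (X ↘ (Spec (CommRingCat.of k)))] [X.Over (Spec (CommRingCat.of k))] in
/-- a nonzero coherent pure module of dimension `d` has support of dimension `d` -/
theorem dim_support_of_isPure {E : X.Modules} {d : ℕ} (hE : Coh.IsCoh E) (h0 : ¬ IsZero E)
    (hp : ShStab.IsPure X E d) : topologicalKrullDim (CohB1.support E) = (d : WithBot ℕ∞) :=
  hp E (𝟙 E) inferInstance hE h0

omit [IsProper (X ↘ (Spec (CommRingCat.of k)))] [X.Over (Spec (CommRingCat.of k))] in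
/-- a nonzero coherent submodule of a pure module of dimension `d` is pure of dimension `d` -/
theorem isPure_of_mono {E F : X.Modules} {d : ℕ} (hp : ShStab.IsPure X E d) (ι : F ⟶ E) [Mono ι] :
    ShStab.IsPure X F d := fun G j hj hG hG0 => hp G (j ≫ ι) (by haveI := hj; exact mono_comp j ι) hG hG0

/-- the data of the image of a nonzero morphism into a pure module -/
theorem image_facts (hL : CohB1.IsAmple L) {d : ℕ} {F G : X.Modules} (hF : Coh.IsCoh F) (hG : Coh.IsCoh G)
    (hGp : ShStab.IsPure X G d) (φ : F ⟶ G) (hφ : φ ≠ 0) :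
    Coh.IsCoh (Abelian.image φ) ∧ ¬ IsZero (Abelian.image φ) ∧
      topologicalKrullDim (CohB1.support (Abelian.image φ)) = (d : WithBot ℕ∞) ∧
      ShStab.IsHilbPoly k X L (Abelian.image φ) (hilb k L (Abelian.image φ) d) ∧
      0 < StabCat.alpha d (hilb k L (Abelian.image φ) d) := by
  haveI : IsLocallyNoetherian X := Groth.Agent.Lib.Helper8.EulerK.isLocallyNoetherian k X
  have hI : Coh.IsCoh (Abelian.image φ) := Groth.Agent.Lib.Helper6.DevCore.isCoh_image φ hF hG
  have hI0 : ¬ IsZero (Abelian.image φ) := by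
    intro hz
    apply hφ
    rw [← Abelian.image.fac φ, hz.eq_of_tgt (Abelian.factorThruImage φ) 0, Limits.zero_comp]
  have hdim := hGp _ (Abelian.image.ι φ) inferInstance hI hI0
  have hP := isHilbPoly_hilb k hL.1 _ hI d hdim.le
  exact ⟨hI, hI0, hdim, hP, alpha_pos k hL hI hdim hP⟩

/-- for semistable `F`, `G` of dimension `d` and `φ : F ⟶ G` nonzero: `p(F) ≤ p(im φ) ≤ p(G)` -/
theorem redLE_of_hom (hL : CohB1.IsAmple L) {d : ℕ} {F G : X.Modules}
    (hF : ShStab.IsSemistable k X L F d) (hG : ShStab.IsSemistable k X L G d)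
    {pF pG : ℚ[X]} (hpF : ShStab.IsHilbPoly k X L F pF) (hpG : ShStab.IsHilbPoly k X L G pG)
    (φ : F ⟶ G) (hφ : φ ≠ 0) :
    StabCat.RedLE d pF (hilb k L (Abelian.image φ) d) ∧ StabCat.RedLE d (hilb k L (Abelian.image φ) d) pG := by
  obtain ⟨hFc, hF0, hFp, hFss⟩ := hF
  obtain ⟨hGc, hG0, hGp, hGss⟩ := hG
  obtain ⟨hI, hI0, hdim, hP, hα⟩ := image_facts k hL hFc hGc hGp φ hφ
  refine ⟨redLE_of_epi k hL.1 d hFc hI hFss (Abelian.factorThruImage φ) hpF hP, ?_⟩
  by_cases hiso : IsIso (Abelian.image.ι φ)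
  · have := isHilbPoly_unique k (isHilbPoly_of_iso k hL.1 (asIso (Abelian.image.ι φ)) hI hP) hpG
    rw [this]
    exact redLE_refl d pG
  · exact hGss _ (Abelian.image.ι φ) inferInstance hI hI0 hiso _ _ hP hpG

theorem alpha_pos_of_isSemistable (hL : CohB1.IsAmple L) {d : ℕ} {F : X.Modules}
    (hF : ShStab.IsSemistable k X L F d) {pF : ℚ[X]} (hpF : ShStab.IsHilbPoly k X L F pF) :
    0 < StabCat.alpha d pF :=
  alpha_pos k hL hF.1 (dim_support_of_isPure hF.1 hF.2.1 hF.2.2.1) hpF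

theorem isSemistable_of_isStable {d : ℕ} {F : X.Modules} (hL : CohB1.IsAmple L)
    (hF : ShStab.IsStable k X L F d) : ShStab.IsSemistable k X L F d := by
  obtain ⟨hFc, hF0, hFp, hFst⟩ := hF
  refine ⟨hFc, hF0, hFp, fun G ι hι hG hG0 hiso pG pF hpG hpF => ?_⟩
  have h := hFst G ι hι hG hG0 hiso pG pF hpG hpF
  rw [redLT_iff] at h
  rw [redLE_iff]
  obtain ⟨N, hN⟩ := h
  exact ⟨N, fun m hm => (hN m hm).le⟩

/-- S15192 -/
theorem hom_eq_zero_of_redLT (hL : CohB1.IsAmple L) (d : ℕ) (F G : X.Modules)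
    (hF : ShStab.IsSemistable k X L F d) (hG : ShStab.IsSemistable k X L G d)
    (pF pG : ℚ[X]) (hpF : ShStab.IsHilbPoly k X L F pF) (hpG : ShStab.IsHilbPoly k X L G pG)
    (hlt : StabCat.RedLT d pG pF) (φ : F ⟶ G) : φ = 0 := by
  by_contra hφ
  obtain ⟨h1, h2⟩ := redLE_of_hom k hL hF hG hpF hpG φ hφ
  obtain ⟨hI, hI0, hdim, hP, hα⟩ := image_facts k hL hF.1 hG.1 hG.2.2.1 φ hφ
  have h3 := redLE_trans h1 h2 hα (alpha_pos_of_isSemistable k hL hF hpF).le
    (alpha_pos_of_isSemistable k hL hG hpG).le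
  exact not_redLT_of_redLE h3 hlt

/-- S15193 -/
theorem mono_of_isStable_of_redEq (hL : CohB1.IsAmple L) (d : ℕ) (F G : X.Modules)
    (hF : ShStab.IsStable k X L F d) (hG : ShStab.IsSemistable k X L G d)
    (pF pG : ℚ[X]) (hpF : ShStab.IsHilbPoly k X L F pF) (hpG : ShStab.IsHilbPoly k X L G pG)
    (heq : StabCat.RedEq d pF pG) (φ : F ⟶ G) (hφ : φ ≠ 0) : Mono φ := by
  have hFss := isSemistable_of_isStable k hL hF
  obtain ⟨hFc, hF0, hFp, hFst⟩ := hF
  obtain ⟨hI, hI0, hdim, hP, hα⟩ := image_facts k hL hFc hG.1 hG.2.2.1 φ hφ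
  obtain ⟨-, h2⟩ := redLE_of_hom k hL hFss hG hpF hpG φ hφ
  by_contra hmono
  have hiso : ¬ IsIso (Abelian.factorThruImage φ) := by
    intro hiso
    apply hmono
    rw [← Abelian.image.fac φ]
    infer_instance
  have h1 := redLT_of_epi k hL.1 d hFc hI hFst (Abelian.factorThruImage φ) hI0 hiso hpF hP
  have h3 := redLT_of_lt_of_le h1 h2 hα (alpha_pos_of_isSemistable k hL hFss hpF).le
    (alpha_pos_of_isSemistable k hL hG hpG)
  exact not_redLT_of_redEq heq h3

/-- S15194 -/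
theorem epi_of_isStable_of_redEq (hL : CohB1.IsAmple L) (d : ℕ) (F G : X.Modules)
    (hF : ShStab.IsSemistable k X L F d) (hG : ShStab.IsStable k X L G d)
    (pF pG : ℚ[X]) (hpF : ShStab.IsHilbPoly k X L F pF) (hpG : ShStab.IsHilbPoly k X L G pG)
    (heq : StabCat.RedEq d pF pG) (φ : F ⟶ G) (hφ : φ ≠ 0) : Epi φ := by
  have hGss := isSemistable_of_isStable k hL hG
  obtain ⟨hGc, hG0, hGp, hGst⟩ := hG
  obtain ⟨hI, hI0, hdim, hP, hα⟩ := image_facts k hL hF.1 hGc hGp φ hφ
  obtain ⟨h1, -⟩ := redLE_of_hom k hL hF hGss hpF hpG φ hφ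
  by_contra hepi
  have hiso : ¬ IsIso (Abelian.image.ι φ) := by
    intro hiso
    apply hepi
    rw [← Abelian.image.fac φ]
    infer_instance
  have h2 := hGst _ (Abelian.image.ι φ) inferInstance hI hI0 hiso _ _ hP hpG
  have h3 := redLT_of_le_of_lt h1 h2 hα (alpha_pos_of_isSemistable k hL hF hpF)
    (alpha_pos_of_isSemistable k hL hGss hpG).le
  exact not_redLT_of_redEq heq h3

/-- a coherent module with zero Hilbert polynomial is zero -/
theorem isZero_of_isHilbPoly_zero (hL : CohB1.IsAmple L) {F : X.Modules} (hF : Coh.IsCoh F)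
    (hP : ShStab.IsHilbPoly k X L F 0) : IsZero F := by
  by_contra h0
  obtain ⟨N, hN⟩ := polyLT_zero k hL hF h0 hP
  have := hN N le_rfl
  simp at this

/-- S15195 -/
theorem isIso_of_isStable_of_isHilbPoly_eq (hL : CohB1.IsAmple L) (d : ℕ) (F G : X.Modules)
    (hF : ShStab.IsSemistable k X L F d) (hG : ShStab.IsSemistable k X L G d)
    (hst : ShStab.IsStable k X L F d ∨ ShStab.IsStable k X L G d)
    (P : ℚ[X]) (hpF : ShStab.IsHilbPoly k X L F P) (hpG : ShStab.IsHilbPoly k X L G P)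
    (φ : F ⟶ G) (hφ : φ ≠ 0) : IsIso φ := by
  haveI : IsLocallyNoetherian X := Groth.Agent.Lib.Helper8.EulerK.isLocallyNoetherian k X
  have heq : StabCat.RedEq d P P := rfl
  rcases hst with hst | hst
  · haveI := mono_of_isStable_of_redEq k hL d F G hst hG P P hpF hpG heq φ hφ
    have hC : Coh.IsCoh (cokernel φ) := Groth.Agent.Lib.Helper6.DevCore.isCoh_cokernel φ hF.1 hG.1
    have hpC := isHilbPoly_sub_left k hL.1 _ (shortExact_cokernel φ) hF.1 hG.1 hC hpF hpG
    rw [sub_self] at hpC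
    have hz := isZero_of_isHilbPoly_zero k hL hC hpC
    haveI : Epi φ := Preadditive.epi_of_cokernel_zero (hz.eq_of_tgt _ _)
    exact isIso_of_mono_of_epi φ
  · haveI := epi_of_isStable_of_redEq k hL d F G hF hst P P hpF hpG heq φ hφ
    have hK : Coh.IsCoh (kernel φ) := Groth.Agent.Lib.Helper6.DevCore.isCoh_kernel φ hF.1 hG.1
    have hpK := isHilbPoly_sub_right k hL.1 _ (shortExact_kernel φ) hK hF.1 hG.1 hpF hpG
    rw [sub_self] at hpK
    have hz := isZero_of_isHilbPoly_zero k hL hK hpK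
    haveI : Mono φ := Preadditive.mono_of_kernel_zero (hz.eq_of_src _ _)
    exact isIso_of_mono_of_epi φ

omit [IsProper (X ↘ (Spec (CommRingCat.of k)))] [X.Over (Spec (CommRingCat.of k))] in
theorem dim_support_le_of_mono {E F : X.Modules} (ι : F ⟶ E) [Mono ι] :
    topologicalKrullDim (CohB1.support F) ≤ topologicalKrullDim (CohB1.support E) :=
  (Topology.IsEmbedding.inclusion
    (Groth.Agent.Lib.Helper6.DevCore.support_subset_of_mono ι)).isInducing.topologicalKrullDim_le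

/-- purity from (semi)stability-type inequalities: if `E` has `dim Supp E = d` and every proper nonzero coherent
submodule `F` satisfies `RedLE d pF pE`, then `E` is pure -/
theorem isPure_of_redLE (hL : CohB1.IsAmple L) (d : ℕ) (E : X.Modules) (hE : Coh.IsCoh E)
    (hdim : topologicalKrullDim (CohB1.support E) = (d : WithBot ℕ∞))
    (h : ∀ (F : X.Modules) (ι : F ⟶ E), Mono ι → Coh.IsCoh F → ¬ IsZero F → ¬ IsIso ι →
      ∀ (pF pE : ℚ[X]), ShStab.IsHilbPoly k X L F pF → ShStab.IsHilbPoly k X L E pE → StabCat.RedLE d pF pE) :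
    ShStab.IsPure X E d := by
  intro F ι hι hF hF0
  haveI := hι
  have hle : topologicalKrullDim (CohB1.support F) ≤ (d : WithBot ℕ∞) := hdim ▸ dim_support_le_of_mono ι
  by_contra hne
  have hlt : topologicalKrullDim (CohB1.support F) < (d : WithBot ℕ∞) := lt_of_le_of_ne hle hne
  have hiso : ¬ IsIso ι := by
    intro hiso
    apply hne
    have hs := Groth.Agent.Lib.Helper6.K0Filt.support_eq_of_iso (asIso ι)
    rw [← hs]
    exact hdim
  have hpF := isHilbPoly_hilb k hL.1 F hF d hle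
  have hpE := isHilbPoly_hilb k hL.1 E hE d hdim.le
  have h1 := h F ι hι hF hF0 hiso _ _ hpF hpE
  rw [redLE_iff] at h1
  obtain ⟨N1, h1⟩ := h1
  obtain ⟨N2, h2⟩ := polyLT_zero k hL hF hF0 hpF
  have hαE := alpha_pos k hL hE hdim hpE
  have hαF := alpha_eq_zero k hL.1 hF hlt hpF
  have a := h1 (max N1 N2) (le_max_left _ _)
  have b := h2 (max N1 N2) (le_max_right _ _)
  rw [hαF, zero_mul] at a
  rw [eval_zero] at b
  nlinarith

/-- S15213 -/
theorem isSemistable_iff_isSS (hL : CohB1.IsAmple L) (d : ℕ) (E : X.Modules)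
    (hE : Coh.IsCoh E) (h0 : ¬ IsZero E)
    (hdim : topologicalKrullDim (CohB1.support E) = (d : WithBot ℕ∞)) :
    ShStab.IsSemistable k X L E d ↔ StabCat.IsSS Coh.IsCoh (ShStab.IsHilbPoly k X L) d E :=
  ⟨fun h => h.2.2.2, fun h => ⟨hE, h0, isPure_of_redLE k hL d E hE hdim h, h⟩⟩

/-- S15214 -/
theorem isStable_iff_isSt (hL : CohB1.IsAmple L) (d : ℕ) (E : X.Modules)
    (hE : Coh.IsCoh E) (h0 : ¬ IsZero E)
    (hdim : topologicalKrullDim (CohB1.support E) = (d : WithBot ℕ∞)) :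
    ShStab.IsStable k X L E d ↔ StabCat.IsSt Coh.IsCoh (ShStab.IsHilbPoly k X L) d E := by
  refine ⟨fun h => h.2.2.2, fun h => ⟨hE, h0, isPure_of_redLE k hL d E hE hdim ?_, h⟩⟩
  intro F ι hι hF hF0 hiso pF pE hpF hpE
  have h1 := h F ι hι hF hF0 hiso pF pE hpF hpE
  rw [redLT_iff] at h1
  rw [redLE_iff]
  obtain ⟨N, hN⟩ := h1
  exact ⟨N, fun m hm => (hN m hm).le⟩

end Groth.Agent.Lib.Helper4.HilbPoly
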