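import Groth.Agent.Lib.Helper4.HilbPoly6
import Groth.Agent.S0045
set_option backward.isDefEq.respectTransparency.types false
set_option autoImplicit false
set_option linter.style.haveILetI false

universe u
open CategoryTheory CategoryTheory.Limits AlgebraicGeometry Opposite TopologicalSpace Polynomial

namespace Groth.Agent.Lib.Helper4.HilbPoly
open Groth.Agent.Lib.Helper4.Snapper Groth.Agent.Lib.Helper6.K0Len Groth.Agent.Lib.Helper6.K0Op
  Groth.Agent.Lib.Helper4.PolyAsymp

variable {X : Scheme.{u}}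

/-- ACC for quasi-coherent subobjects of a coherent module, as well-foundedness -/
theorem wellFoundedGT_qcoh [IsNoetherian X] (M : X.Modules) (hM : Coh.IsCoh M) :
    WellFoundedGT {S : Subobject M // Coh.IsQCoh (S : X.Modules)} := by
  rw [wellFoundedGT_iff_monotone_chain_condition]
  intro a
  let F : ℕ →o Subobject M := ⟨fun n => (a n).1, fun m n h => a.monotone h⟩
  obtain ⟨n, hn⟩ := Groth.Agent.S0045.result X M hM F (fun n => (a n).2)
  refine ⟨n, fun m hm => ?_⟩
  apply Subtype.ext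
  exact (hn m hm).symm

/-- existence of a maximal element among quasi-coherent subobjects satisfying a property -/
theorem exists_maximal_sub [IsNoetherian X] (M : X.Modules) (hM : Coh.IsCoh M)
    (P : Subobject M → Prop) (S₀ : Subobject M) (hq₀ : Coh.IsQCoh (S₀ : X.Modules)) (h₀ : P S₀) :
    ∃ S : Subobject M, Coh.IsQCoh (S : X.Modules) ∧ P S ∧ S₀ ≤ S ∧
      ∀ S' : Subobject M, Coh.IsQCoh (S' : X.Modules) → P S' → S ≤ S' → S' = S := by
  haveI := wellFoundedGT_qcoh M hM
  let A : Set {S : Subobject M // Coh.IsQCoh (S : X.Modules)} := {S | P S.1 ∧ S₀ ≤ S.1}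
  have hA : A.Nonempty := ⟨⟨S₀, hq₀⟩, h₀, le_refl _⟩
  obtain ⟨S, hS, hmax⟩ := (wellFounded_gt (α := {S : Subobject M // Coh.IsQCoh (S : X.Modules)})).has_min A hA
  refine ⟨S.1, S.2, hS.1, hS.2, fun S' hq' hP' hle => ?_⟩
  by_contra hne
  have hlt : S.1 < S' := lt_of_le_of_ne hle (Ne.symm hne)
  exact hmax ⟨S', hq'⟩ ⟨hP', hS.2.trans hle⟩ hlt


theorem isZero_bot_coe (M : X.Modules) : IsZero ((⊥ : Subobject M) : X.Modules) :=
  (isZero_zero _).of_iso Subobject.botCoeIsoZero

/-- a maximal coherent subobject with support of dimension `< d` -/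
theorem exists_maximal_torsion [IsNoetherian X] (Q : X.Modules) (hQ : Coh.IsCoh Q) (d : ℕ) :
    ∃ T : Subobject Q, Coh.IsCoh (T : X.Modules) ∧
      topologicalKrullDim (CohB1.support (T : X.Modules)) < (d : WithBot ℕ∞) ∧
      ∀ S' : Subobject Q, Coh.IsCoh (S' : X.Modules) →
        topologicalKrullDim (CohB1.support (S' : X.Modules)) < (d : WithBot ℕ∞) → T ≤ S' → S' = T := by
  have hb : IsZero ((⊥ : Subobject Q) : X.Modules) := isZero_bot_coe Q
  have hbc : Coh.IsCoh ((⊥ : Subobject Q) : X.Modules) := Groth.Agent.Lib.Helper6.DevRed.isCoh_of_isZero hb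
  obtain ⟨T, -, ⟨hTc, hTd⟩, -, hmax⟩ := exists_maximal_sub Q hQ
    (fun S => Coh.IsCoh (S : X.Modules) ∧ topologicalKrullDim (CohB1.support (S : X.Modules)) < (d : WithBot ℕ∞))
    ⊥ hbc.1 ⟨hbc, by
      rw [Groth.Agent.Lib.Helper16.K0Supp.support_of_isZero hb, dim_empty]
      exact WithBot.bot_lt_coe _⟩
  exact ⟨T, hTc, hTd, fun S' hS' hd' hle => hmax S' hS'.1 ⟨hS', hd'⟩ hle⟩

/-- the quotient by a maximal subobject of dimension `< d` is pure of dimension `d` -/
theorem isPure_cokernel_of_maximal [IsLocallyNoetherian X] (Q : X.Modules) (hQ : Coh.IsCoh Q) (d : ℕ)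
    (hdQ : topologicalKrullDim (CohB1.support Q) ≤ (d : WithBot ℕ∞))
    (T : Subobject Q) (hT : Coh.IsCoh (T : X.Modules))
    (hTd : topologicalKrullDim (CohB1.support (T : X.Modules)) < (d : WithBot ℕ∞))
    (hmax : ∀ S' : Subobject Q, Coh.IsCoh (S' : X.Modules) →
        topologicalKrullDim (CohB1.support (S' : X.Modules)) < (d : WithBot ℕ∞) → T ≤ S' → S' = T) :
    ShStab.IsPure X (cokernel T.arrow) d := by
  intro S j hj hS hS0
  haveI := hj
  have hQT : Coh.IsCoh (cokernel T.arrow) := Groth.Agent.Lib.Helper6.DevCore.isCoh_cokernel _ hT hQ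
  have hle : topologicalKrullDim (CohB1.support S) ≤ (d : WithBot ℕ∞) := by
    refine le_trans ?_ hdQ
    exact (Topology.IsEmbedding.inclusion
      ((Groth.Agent.Lib.Helper6.DevCore.support_subset_of_mono j).trans
        (Groth.Agent.Lib.Helper6.DevCore.support_subset_of_epi (cokernel.π T.arrow)))).isInducing.topologicalKrullDim_le
  by_contra hne
  have hlt : topologicalKrullDim (CohB1.support S) < (d : WithBot ℕ∞) := lt_of_le_of_ne hle hne
  apply hS0
  set πT := cokernel.π T.arrow with hπT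
  set πS := cokernel.π j with hπS
  have hC : Coh.IsCoh (cokernel j) := Groth.Agent.Lib.Helper6.DevCore.isCoh_cokernel _ hS hQT
  set m := kernel.ι (πT ≫ πS) with hm
  have hS' : Coh.IsCoh (kernel (πT ≫ πS)) := Groth.Agent.Lib.Helper6.DevCore.isCoh_kernel _ hQ hC
  -- the map to `S`
  have hSj := shortExact_cokernel j
  have hw : (m ≫ πT) ≫ πS = 0 := by rw [Category.assoc, hm, kernel.condition]
  haveI : Mono (ShortComplex.mk j (cokernel.π j) (cokernel.condition j)).f := hj
  set l : kernel (πT ≫ πS) ⟶ S := hSj.exact.lift (m ≫ πT) hw with hl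
  have hlj : l ≫ j = m ≫ πT := hSj.exact.lift_f (m ≫ πT) hw
  -- support of `S'`
  set e := Abelian.factorThruImage l with he
  have hfac : e ≫ Abelian.image.ι l = l := Abelian.image.fac l
  have hI : Coh.IsCoh (Abelian.image l) := Groth.Agent.Lib.Helper6.DevCore.isCoh_image l hS' hS
  have hST := shortExact_cokernel T.arrow
  have hw2 : (kernel.ι e ≫ m) ≫ πT = 0 := by
    rw [Category.assoc, ← hlj]
    have hkl : kernel.ι e ≫ l = 0 := by
      calc kernel.ι e ≫ l = kernel.ι e ≫ (e ≫ Abelian.image.ι l) := congrArg (fun t => kernel.ι e ≫ t) hfac.symm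
        _ = 0 := by rw [← Category.assoc, kernel.condition, Limits.zero_comp]
    rw [← Category.assoc, hkl, Limits.zero_comp]
  haveI : Mono (ShortComplex.mk T.arrow (cokernel.π T.arrow) (cokernel.condition T.arrow)).f :=
    (inferInstance : Mono T.arrow)
  set r : kernel e ⟶ (T : X.Modules) := hST.exact.lift (kernel.ι e ≫ m) hw2 with hr
  have hrT : r ≫ T.arrow = kernel.ι e ≫ m := hST.exact.lift_f _ hw2
  haveI : Mono r := by
    haveI : Mono (r ≫ T.arrow) := by rw [hrT]; infer_instance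
    exact mono_of_mono r T.arrow
  have hsupp : CohB1.support (kernel (πT ≫ πS)) ⊆ CohB1.support (T : X.Modules) ∪ CohB1.support S := by
    refine (support_subset_union _ (shortExact_kernel e)).trans (Set.union_subset_union ?_ ?_)
    · exact Groth.Agent.Lib.Helper6.DevCore.support_subset_of_mono r
    · exact Groth.Agent.Lib.Helper6.DevCore.support_subset_of_mono (Abelian.image.ι l)
  have hdS' : topologicalKrullDim (CohB1.support (kernel (πT ≫ πS))) < (d : WithBot ℕ∞) := by
    refine lt_of_le_of_lt ((Topology.IsEmbedding.inclusion hsupp).isInducing.topologicalKrullDim_le) ?_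
    refine lt_of_le_of_lt (dim_union_le _ _ (Groth.Agent.Lib.Helper6.DevCore.isClosed_support _ hT)
      (Groth.Agent.Lib.Helper6.DevCore.isClosed_support _ hS) _ (le_max_left _ _) (le_max_right _ _)) ?_
    exact max_lt hTd hlt
  -- apply maximality
  have hTle : T ≤ Subobject.mk m := by
    refine Subobject.le_mk_of_comm (kernel.lift _ T.arrow ?_) (kernel.lift_ι _ _ _)
    rw [← Category.assoc, cokernel.condition, Limits.zero_comp]
  have hiso : (Subobject.mk m : X.Modules) ≅ kernel (πT ≫ πS) := Subobject.underlyingIso m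
  have hmkc : Coh.IsCoh (Subobject.mk m : X.Modules) :=
    Groth.Agent.Lib.Helper6.DevCore.isCoh_of_iso hiso.symm hS'
  have hmkd : topologicalKrullDim (CohB1.support (Subobject.mk m : X.Modules)) < (d : WithBot ℕ∞) := by
    rw [Groth.Agent.Lib.Helper6.K0Filt.support_eq_of_iso hiso.symm]
    exact hdS'
  have heq := hmax _ hmkc hmkd hTle
  have hmπ : m ≫ πT = 0 := by
    have h1 : Subobject.mk m ≤ T := heq.le
    rw [← Subobject.ofMkLE_arrow h1, Category.assoc, cokernel.condition, Limits.comp_zero]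
  -- the pull-back
  have hcond : pullback.fst πT j ≫ πT = pullback.snd πT j ≫ j := pullback.condition
  have h0 : pullback.fst πT j ≫ (πT ≫ πS) = 0 := by
    rw [← Category.assoc, hcond, Category.assoc, cokernel.condition, Limits.comp_zero]
  have h1 : pullback.fst πT j = kernel.lift _ _ h0 ≫ m := (kernel.lift_ι _ _ h0).symm
  have h2 : pullback.snd πT j ≫ j = 0 := by
    rw [← hcond, h1, Category.assoc, hmπ, Limits.comp_zero]
  haveI : Epi (pullback.snd πT j) := Abelian.epi_pullback_of_epi_f πT j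
  have hj0 : j = 0 := by
    rw [← cancel_epi (pullback.snd πT j), h2, Limits.comp_zero]
  exact IsZero.of_mono_eq_zero j hj0


theorem isPure_of_iso {A B : X.Modules} (e : A ≅ B) {d : ℕ} (hA : ShStab.IsPure X A d) :
    ShStab.IsPure X B d := by
  intro S j hj hS hS0
  haveI := hj
  exact hA S (j ≫ e.inv) inferInstance hS hS0

/-- the cokernel of the kernel of an epimorphism -/
noncomputable def cokernelKernelIso {A B : X.Modules} (π : A ⟶ B) [Epi π] : cokernel (kernel.ι π) ≅ B :=
  IsColimit.coconePointUniqueUpToIso (colimit.isColimit _)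
    (Abelian.epiIsCokernelOfKernel (KernelFork.ofι (kernel.ι π) (kernel.condition π)) (kernelIsKernel π))

variable (k : Type u) [Field k] [X.Over (Spec (CommRingCat.of k))]
    [IsProper (X ↘ (Spec (CommRingCat.of k)))] {L : X.Modules}

/-- the saturation of a coherent submodule of a pure module -/
theorem exists_saturation (hL : CohB1.IsAmple L) {d : ℕ} {E F : X.Modules} (hE : Coh.IsCoh E)
    (hE0 : ¬ IsZero E) (hEp : ShStab.IsPure X E d) (ι : F ⟶ E) [Mono ι] (hF : Coh.IsCoh F)
    {pF pE : ℚ[X]} (hpF : ShStab.IsHilbPoly k X L F pF) (hpE : ShStab.IsHilbPoly k X L E pE) :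
    ∃ (F' : X.Modules) (ι' : F' ⟶ E) (f : F ⟶ F') (pF' : ℚ[X]), Mono ι' ∧ f ≫ ι' = ι ∧ Coh.IsCoh F' ∧
      ShStab.IsPure X (cokernel ι') d ∧ ShStab.IsHilbPoly k X L F' pF' ∧
      StabCat.alpha d pF' = StabCat.alpha d pF ∧ StabCat.PolyLE pF pF' := by
  haveI : IsNoetherian X := isNoetherian_of_proper k
  haveI : IsLocallyNoetherian X := Groth.Agent.Lib.Helper8.EulerK.isLocallyNoetherian k X
  have hQ : Coh.IsCoh (cokernel ι) := Groth.Agent.Lib.Helper6.DevCore.isCoh_cokernel ι hF hE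
  have hdE := dim_support_of_isPure hE hE0 hEp
  have hdQ : topologicalKrullDim (CohB1.support (cokernel ι)) ≤ (d : WithBot ℕ∞) := by
    rw [← hdE]
    exact (Topology.IsEmbedding.inclusion
      (Groth.Agent.Lib.Helper6.DevCore.support_subset_of_epi (cokernel.π ι))).isInducing.topologicalKrullDim_le
  obtain ⟨T, hT, hTd, hmax⟩ := exists_maximal_torsion (cokernel ι) hQ d
  have hGp := isPure_cokernel_of_maximal (cokernel ι) hQ d hdQ T hT hTd hmax
  have hG : Coh.IsCoh (cokernel T.arrow) := Groth.Agent.Lib.Helper6.DevCore.isCoh_cokernel _ hT hQ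
  set π : E ⟶ cokernel T.arrow := cokernel.π ι ≫ cokernel.π T.arrow with hπ
  have hιπ : ι ≫ π = 0 := by rw [hπ, ← Category.assoc, cokernel.condition, Limits.zero_comp]
  have hK : Coh.IsCoh (kernel π) := Groth.Agent.Lib.Helper6.DevCore.isCoh_kernel π hE hG
  -- Hilbert polynomials
  obtain ⟨hpQ, -⟩ := polyLE_of_mono k hL hF hE ι hpF hpE
  have hpT := isHilbPoly_hilb k hL.1 _ hT d hTd.le
  have hpG := isHilbPoly_sub_left k hL.1 _ (shortExact_cokernel T.arrow) hT hQ hG hpT hpQ
  have hpK := isHilbPoly_sub_right k hL.1 _ (shortExact_kernel π) hK hE hG hpE hpG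
  have hαT := alpha_eq_zero k hL.1 hT hTd hpT
  have hf : kernel.lift π ι hιπ ≫ kernel.ι π = ι := kernel.lift_ι _ _ _
  haveI : Mono (kernel.lift π ι hιπ) := by
    haveI : Mono (kernel.lift π ι hιπ ≫ kernel.ι π) := by rw [hf]; infer_instance
    exact mono_of_mono _ (kernel.ι π)
  refine ⟨kernel π, kernel.ι π, kernel.lift π ι hιπ, _, inferInstance, hf, hK,
    isPure_of_iso (cokernelKernelIso π).symm hGp, hpK, ?_, ?_⟩
  · rw [alpha_sub, alpha_sub, alpha_sub, hαT]
    ring
  · exact (polyLE_of_mono k hL hF hK (kernel.lift π ι hιπ) hpF hpK).2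


omit [IsProper (X ↘ (Spec (CommRingCat.of k)))] [X.Over (Spec (CommRingCat.of k))] in
/-- the sub/quotient see-saw: `p(E) ≤ p(E/F)` iff `p(F) ≤ p(E)` -/
theorem redLE_sub_iff (d : ℕ) (pF pE : ℚ[X]) :
    StabCat.RedLE d pE (pE - pF) ↔ StabCat.RedLE d pF pE := by
  rw [redLE_iff, redLE_iff]
  constructor
  · rintro ⟨N, hN⟩
    refine ⟨N, fun m hm => ?_⟩
    have := hN m hm
    rw [alpha_sub, eval_sub] at this
    nlinarith
  · rintro ⟨N, hN⟩
    refine ⟨N, fun m hm => ?_⟩
    have := hN m hm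
    rw [alpha_sub, eval_sub]
    nlinarith

omit [IsProper (X ↘ (Spec (CommRingCat.of k)))] [X.Over (Spec (CommRingCat.of k))] in
theorem redLT_sub_iff (d : ℕ) (pF pE : ℚ[X]) :
    StabCat.RedLT d pE (pE - pF) ↔ StabCat.RedLT d pF pE := by
  rw [redLT_iff, redLT_iff]
  constructor
  · rintro ⟨N, hN⟩
    refine ⟨N, fun m hm => ?_⟩
    have := hN m hm
    rw [alpha_sub, eval_sub] at this
    nlinarith
  · rintro ⟨N, hN⟩
    refine ⟨N, fun m hm => ?_⟩
    have := hN m hm
    rw [alpha_sub, eval_sub]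
    nlinarith

/-- facts on the cokernel of a proper nonzero submodule -/
theorem cokernel_facts {E F : X.Modules} (ι : F ⟶ E) [Mono ι] (hF0 : ¬ IsZero F) (hι : ¬ IsIso ι) :
    ¬ IsZero (cokernel ι) ∧ ¬ IsIso (cokernel.π ι) := by
  constructor
  · intro hz
    apply hι
    haveI : Epi ι := Preadditive.epi_of_cokernel_zero (hz.eq_of_tgt _ _)
    exact isIso_of_mono_of_epi ι
  · intro hiso
    apply hF0
    have h0 : ι = 0 := by
      rw [← cancel_mono (cokernel.π ι), cokernel.condition, Limits.zero_comp]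
    exact IsZero.of_mono_eq_zero ι h0

/-- S15197 -/
theorem isSemistable_tfae (hL : CohB1.IsAmple L) (d : ℕ) (E : X.Modules)
    (hE : Coh.IsCoh E) (h0 : ¬ IsZero E) (hp : ShStab.IsPure X E d) :
    [ShStab.IsSemistable k X L E d,
      ∀ (F : X.Modules) (ι : F ⟶ E), Mono ι → Coh.IsCoh F → ¬ IsZero F → ¬ IsIso ι →
        ShStab.IsPure X (cokernel ι) d →
        ∀ (pF pE : ℚ[X]), ShStab.IsHilbPoly k X L F pF → ShStab.IsHilbPoly k X L E pE → StabCat.RedLE d pF pE,
      ∀ (G : X.Modules) (π : E ⟶ G), Epi π → Coh.IsCoh G → ¬ IsIso π →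
        ∀ (pE pG : ℚ[X]), ShStab.IsHilbPoly k X L E pE → ShStab.IsHilbPoly k X L G pG → 0 < StabCat.alpha d pG →
          StabCat.RedLE d pE pG,
      ∀ (G : X.Modules) (π : E ⟶ G), Epi π → Coh.IsCoh G → ¬ IsZero G → ¬ IsIso π →
        ShStab.IsPure X G d →
        ∀ (pE pG : ℚ[X]), ShStab.IsHilbPoly k X L E pE → ShStab.IsHilbPoly k X L G pG → StabCat.RedLE d pE pG].TFAE := by
  tfae_have 1 → 3 := by
    intro h G π hπ hG _ pE pG hpE hpG _
    haveI := hπ
    exact redLE_of_epi k hL.1 d hE hG h.2.2.2 π hpE hpG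
  tfae_have 3 → 4 := by
    intro h G π hπ hG hG0 hπi hGp pE pG hpE hpG
    exact h G π hπ hG hπi pE pG hpE hpG (alpha_pos k hL hG (dim_support_of_isPure hG hG0 hGp) hpG)
  tfae_have 4 → 2 := by
    intro h F ι hι hF hF0 hιi hCp pF pE hpF hpE
    haveI := hι
    obtain ⟨hC0, hπi⟩ := cokernel_facts ι hF0 hιi
    have hC : Coh.IsCoh (cokernel ι) := Groth.Agent.Lib.Helper6.DevCore.isCoh_cokernel ι hF hE
    obtain ⟨hpC, -⟩ := polyLE_of_mono k hL hF hE ι hpF hpE
    rw [← redLE_sub_iff]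
    exact h _ (cokernel.π ι) inferInstance hC hC0 hπi hCp pE _ hpE hpC
  tfae_have 2 → 1 := by
    intro h
    refine ⟨hE, h0, hp, fun F ι hι hF hF0 hιi pF pE hpF hpE => ?_⟩
    haveI := hι
    obtain ⟨F', ι', f, pF', hι', hfι, hF', hCp, hpF', hα, hle⟩ := exists_saturation k hL hE h0 hp ι hF hpF hpE
    haveI := hι'
    obtain ⟨-, -, hαE, -, hpos, -, -⟩ := sub_facts k hL hE hF hp h0 ι hpF hpE
    have hαF := hpos hF0
    have h1 : StabCat.RedLE d pF pF' := by
      rw [redLE_iff, hα]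
      obtain ⟨N, hN⟩ := hle
      exact ⟨N, fun m hm => mul_le_mul_of_nonneg_left (hN m hm) hαF.le⟩
    by_cases hiso : IsIso ι'
    · have := isHilbPoly_unique k (isHilbPoly_of_iso k hL.1 (asIso ι') hF' hpF') hpE
      rw [← this]
      exact h1
    · have hF'0 : ¬ IsZero F' := by
        intro hz
        haveI : Mono f := by
          haveI : Mono (f ≫ ι') := by rw [hfι]; infer_instance
          exact mono_of_mono f ι'
        exact hF0 (IsZero.of_mono f hz)
      have h2 := h F' ι' hι' hF' hF'0 hiso hCp pF' pE hpF' hpE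
      exact redLE_trans h1 h2 (hα ▸ hαF) hαF.le hαE.le
  tfae_finish

/-- S15198 -/
theorem isStable_tfae (hL : CohB1.IsAmple L) (d : ℕ) (E : X.Modules)
    (hE : Coh.IsCoh E) (h0 : ¬ IsZero E) (hp : ShStab.IsPure X E d) :
    [ShStab.IsStable k X L E d,
      ∀ (F : X.Modules) (ι : F ⟶ E), Mono ι → Coh.IsCoh F → ¬ IsZero F → ¬ IsIso ι →
        ShStab.IsPure X (cokernel ι) d →
        ∀ (pF pE : ℚ[X]), ShStab.IsHilbPoly k X L F pF → ShStab.IsHilbPoly k X L E pE → StabCat.RedLT d pF pE,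
      ∀ (G : X.Modules) (π : E ⟶ G), Epi π → Coh.IsCoh G → ¬ IsIso π →
        ∀ (pE pG : ℚ[X]), ShStab.IsHilbPoly k X L E pE → ShStab.IsHilbPoly k X L G pG → 0 < StabCat.alpha d pG →
          StabCat.RedLT d pE pG,
      ∀ (G : X.Modules) (π : E ⟶ G), Epi π → Coh.IsCoh G → ¬ IsZero G → ¬ IsIso π →
        ShStab.IsPure X G d →
        ∀ (pE pG : ℚ[X]), ShStab.IsHilbPoly k X L E pE → ShStab.IsHilbPoly k X L G pG → StabCat.RedLT d pE pG].TFAE := by
  tfae_have 1 → 3 := by
    intro h G π hπ hG hπi pE pG hpE hpG hαG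
    haveI := hπ
    have hG0 : ¬ IsZero G := by
      intro hz
      have := isHilbPoly_unique k hpG (isHilbPoly_zero k hL.1 hz)
      rw [this] at hαG
      unfold StabCat.alpha at hαG
      simp at hαG
    exact redLT_of_epi k hL.1 d hE hG h.2.2.2 π hG0 hπi hpE hpG
  tfae_have 3 → 4 := by
    intro h G π hπ hG hG0 hπi hGp pE pG hpE hpG
    exact h G π hπ hG hπi pE pG hpE hpG (alpha_pos k hL hG (dim_support_of_isPure hG hG0 hGp) hpG)
  tfae_have 4 → 2 := by
    intro h F ι hι hF hF0 hιi hCp pF pE hpF hpE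
    haveI := hι
    obtain ⟨hC0, hπi⟩ := cokernel_facts ι hF0 hιi
    have hC : Coh.IsCoh (cokernel ι) := Groth.Agent.Lib.Helper6.DevCore.isCoh_cokernel ι hF hE
    obtain ⟨hpC, -⟩ := polyLE_of_mono k hL hF hE ι hpF hpE
    rw [← redLT_sub_iff]
    exact h _ (cokernel.π ι) inferInstance hC hC0 hπi hCp pE _ hpE hpC
  tfae_have 2 → 1 := by
    intro h
    refine ⟨hE, h0, hp, fun F ι hι hF hF0 hιi pF pE hpF hpE => ?_⟩
    haveI := hι
    obtain ⟨F', ι', f, pF', hι', hfι, hF', hCp, hpF', hα, hle⟩ := exists_saturation k hL hE h0 hp ι hF hpF hpE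
    haveI := hι'
    obtain ⟨-, -, hαE, -, hpos, -, hlt⟩ := sub_facts k hL hE hF hp h0 ι hpF hpE
    have hαF := hpos hF0
    have h1 : StabCat.RedLE d pF pF' := by
      rw [redLE_iff, hα]
      obtain ⟨N, hN⟩ := hle
      exact ⟨N, fun m hm => mul_le_mul_of_nonneg_left (hN m hm) hαF.le⟩
    by_cases hiso : IsIso ι'
    · have := isHilbPoly_unique k (isHilbPoly_of_iso k hL.1 (asIso ι') hF' hpF') hpE
      rw [this] at hα
      rw [redLT_iff, hα]
      obtain ⟨N, hN⟩ := hlt hιi
      exact ⟨N, fun m hm => mul_lt_mul_of_pos_left (hN m hm) hαF⟩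
    · have hF'0 : ¬ IsZero F' := by
        intro hz
        haveI : Mono f := by
          haveI : Mono (f ≫ ι') := by rw [hfι]; infer_instance
          exact mono_of_mono f ι'
        exact hF0 (IsZero.of_mono f hz)
      have h2 := h F' ι' hι' hF' hF'0 hiso hCp pF' pE hpF' hpE
      exact redLT_of_le_of_lt h1 h2 (hα ▸ hαF) hαF hαE.le
  tfae_finish

end Groth.Agent.Lib.Helper4.HilbPoly
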