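import Mathlib

set_option autoImplicit false
open Finset

namespace Groth.Agent.Lib.Helper4.AsympPoly

/-- `n^d - n^{\underline d} ≤ d² n^{d-1}` -/
theorem pow_sub_descFactorial_le (n d : ℕ) :
    (n : ℤ) ^ d - (n.descFactorial d : ℤ) ≤ (d : ℤ) ^ 2 * (n : ℤ) ^ (d - 1) := by
  induction d with
  | zero => simp
  | succ d ih =>
    have h1 : ((n.descFactorial (d + 1) : ℕ) : ℤ) = ((n : ℤ) - d) * (n.descFactorial d : ℤ) := by
      rw [Nat.descFactorial_succ]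
      by_cases h : d ≤ n
      · push_cast [Nat.cast_sub h]
        ring
      · rw [not_le] at h
        rw [Nat.descFactorial_of_lt h]
        simp
    have h2 : (n.descFactorial d : ℤ) ≤ (n : ℤ) ^ d := by exact_mod_cast Nat.descFactorial_le_pow n d
    have h3 : (0 : ℤ) ≤ (n.descFactorial d : ℤ) := Int.natCast_nonneg _
    have hn : (0 : ℤ) ≤ n := Int.natCast_nonneg _
    rw [h1, Nat.add_sub_cancel]
    have key : (n : ℤ) ^ (d + 1) - ((n : ℤ) - d) * (n.descFactorial d : ℤ) =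
        n * ((n : ℤ) ^ d - n.descFactorial d) + d * n.descFactorial d := by ring
    rw [key]
    have h4 : (n : ℤ) * ((n : ℤ) ^ d - n.descFactorial d) ≤ (d : ℤ) ^ 2 * (n : ℤ) ^ d := by
      cases d with
      | zero => simp
      | succ e =>
        have := mul_le_mul_of_nonneg_left ih hn
        rw [Nat.add_sub_cancel] at this
        calc (n : ℤ) * ((n : ℤ) ^ (e + 1) - n.descFactorial (e + 1)) ≤ n * (((e + 1 : ℕ) : ℤ) ^ 2 * (n : ℤ) ^ e) := this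
          _ = ((e + 1 : ℕ) : ℤ) ^ 2 * (n : ℤ) ^ (e + 1) := by ring
    have h5 : (d : ℤ) * n.descFactorial d ≤ d * (n : ℤ) ^ d :=
      mul_le_mul_of_nonneg_left h2 (Int.natCast_nonneg _)
    have h6 : (0 : ℤ) ≤ (n : ℤ) ^ d := pow_nonneg hn d
    push_cast
    nlinarith

theorem abs_choose_sub_le (n d : ℕ) :
    |(n.choose d : ℚ) - (n : ℚ) ^ d / (d.factorial : ℚ)| ≤ (d : ℚ) ^ 2 * ((n : ℚ) + 1) ^ (d - 1) := by
  have hfac : (0 : ℚ) < (d.factorial : ℚ) := by exact_mod_cast Nat.factorial_pos d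
  have h1 : (n.choose d : ℚ) = (n.descFactorial d : ℚ) / (d.factorial : ℚ) := by
    rw [Nat.descFactorial_eq_factorial_mul_choose]
    push_cast
    field_simp
  have h2 : (n.descFactorial d : ℚ) ≤ (n : ℚ) ^ d := by exact_mod_cast Nat.descFactorial_le_pow n d
  have h3 : (n : ℚ) ^ d - (n.descFactorial d : ℚ) ≤ (d : ℚ) ^ 2 * (n : ℚ) ^ (d - 1) := by
    have := pow_sub_descFactorial_le n d
    exact_mod_cast this
  rw [h1, ← sub_div, abs_div, abs_of_pos hfac, abs_sub_comm, abs_of_nonneg (sub_nonneg.2 h2),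
    div_le_iff₀ hfac]
  have hn : (0 : ℚ) ≤ n := Nat.cast_nonneg n
  have h4 : (n : ℚ) ^ (d - 1) ≤ ((n : ℚ) + 1) ^ (d - 1) := pow_le_pow_left₀ hn (by linarith) _
  have h5 : (1 : ℚ) ≤ (d.factorial : ℚ) := by exact_mod_cast Nat.factorial_pos d
  have h6 : (0 : ℚ) ≤ (d : ℚ) ^ 2 * ((n : ℚ) + 1) ^ (d - 1) := by positivity
  calc (n : ℚ) ^ d - (n.descFactorial d : ℚ) ≤ (d : ℚ) ^ 2 * (n : ℚ) ^ (d - 1) := h3
    _ ≤ (d : ℚ) ^ 2 * ((n : ℚ) + 1) ^ (d - 1) := by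
      apply mul_le_mul_of_nonneg_left h4 (by positivity)
    _ ≤ (d : ℚ) ^ 2 * ((n : ℚ) + 1) ^ (d - 1) * (d.factorial : ℚ) := by
      nlinarith

/-- a function given by a binomial expansion of degree `d` is `a_d n^d / d!` up to `O(n^{d-1})` -/
theorem exists_bound (a : ℕ → ℤ) (d : ℕ) :
    ∃ C : ℚ, 0 ≤ C ∧ ∀ n : ℕ, |(∑ m ∈ range (d + 1), (n.choose m : ℚ) * (a m : ℚ)) -
      (a d : ℚ) / (d.factorial : ℚ) * (n : ℚ) ^ d| ≤ C * ((n : ℚ) + 1) ^ (d - 1) := by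
  refine ⟨(∑ m ∈ range d, |(a m : ℚ)|) + |(a d : ℚ)| * (d : ℚ) ^ 2, by positivity, fun n => ?_⟩
  rw [Finset.sum_range_succ]
  have hn : (0 : ℚ) ≤ n := Nat.cast_nonneg n
  have hpow : (0 : ℚ) ≤ ((n : ℚ) + 1) ^ (d - 1) := by positivity
  have e : (∑ m ∈ range d, (n.choose m : ℚ) * (a m : ℚ)) + (n.choose d : ℚ) * (a d : ℚ) -
      (a d : ℚ) / (d.factorial : ℚ) * (n : ℚ) ^ d =
      (∑ m ∈ range d, (n.choose m : ℚ) * (a m : ℚ)) +
        (a d : ℚ) * ((n.choose d : ℚ) - (n : ℚ) ^ d / (d.factorial : ℚ)) := by ring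
  rw [e]
  refine (abs_add_le _ _).trans ?_
  rw [add_mul]
  apply add_le_add
  · refine (Finset.abs_sum_le_sum_abs _ _).trans ?_
    rw [Finset.sum_mul]
    apply Finset.sum_le_sum
    intro m hm
    rw [Finset.mem_range] at hm
    rw [abs_mul, mul_comm]
    apply mul_le_mul_of_nonneg_left _ (abs_nonneg _)
    rw [abs_of_nonneg (Nat.cast_nonneg _)]
    have h1 : (n.choose m : ℚ) ≤ (n : ℚ) ^ m := by exact_mod_cast Nat.choose_le_pow n m
    have h2 : (n : ℚ) ^ m ≤ ((n : ℚ) + 1) ^ m := pow_le_pow_left₀ hn (by linarith) _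
    have h3 : ((n : ℚ) + 1) ^ m ≤ ((n : ℚ) + 1) ^ (d - 1) :=
      pow_le_pow_right₀ (by linarith) (by omega)
    linarith
  · rw [abs_mul, mul_assoc]
    exact mul_le_mul_of_nonneg_left (abs_choose_sub_le n d) (abs_nonneg _)

end Groth.Agent.Lib.Helper4.AsympPoly
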