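import Groth.Agent.Lib.Helper4.Snapper13
import Groth.Agent.Lib.Helper4.AsympPoly
set_option backward.isDefEq.respectTransparency.types false
set_option autoImplicit false
set_option linter.style.haveILetI false

universe u
open CategoryTheory CategoryTheory.Limits AlgebraicGeometry Opposite TopologicalSpace

namespace Groth.Agent.Lib.Helper4.Snapper
open Groth.Agent.Lib.Helper6.K0Filt Groth.Agent.Lib.Helper6.K0Len Groth.Agent.Lib.Helper6.K0Op
  Groth.Agent.Lib.Helper6.K0Tensor Groth.Agent.Lib.Helper4.NumPoly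

theorem Hlt_mono_le {X : Scheme.{u}} {n m : ℕ} (h : n ≤ m) : Hlt X n ≤ Hlt X m := by
  induction m with
  | zero =>
    have : n = 0 := by omega
    subst this
    exact le_rfl
  | succ m ih =>
    rcases Nat.lt_or_ge n (m + 1) with h' | h'
    · exact (ih (by omega)).trans (Hlt_mono m)
    · have : n = m + 1 := by omega
      subst this
      exact le_rfl

variable (k : Type u) [Field k] {X : Scheme.{u}} [X.Over (Spec (CommRingCat.of k))]
    [IsProper (X ↘ (Spec (CommRingCat.of k)))]

/-- the binomial (Newton) expansion of the Hilbert function -/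
theorem eulerHom_Top_pow_eq_sum (L : X.Modules) (c : K0 X) (n : ℕ) :
    eulerHom k X ((Top L ^ n) c) = ∑ m ∈ Finset.range (n + 1), (n.choose m : ℤ) * hcoef k X L m c := by
  have h1 : Top L ^ n = ∑ m ∈ Finset.range (n + 1), (Top L - 1) ^ m * 1 ^ (n - m) * (n.choose m : AddMonoid.End (K0 X)) := by
    rw [← (Commute.one_right (Top L - 1)).add_pow, sub_add_cancel]
  let E : AddMonoid.End (K0 X) →+ ℤ :=
    { toFun := fun φ => eulerHom k X (φ c)
      map_zero' := by simp
      map_add' := fun φ ψ => by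
        show eulerHom k X (φ c + ψ c) = _
        rw [map_add] }
  show E (Top L ^ n) = _
  rw [h1, map_sum]
  apply Finset.sum_congr rfl
  intro m _
  simp only [one_pow, mul_one]
  show eulerHom k X (((Top L - 1) ^ m * (n.choose m : AddMonoid.End (K0 X))) c) = _
  have : ((Top L - 1) ^ m * (n.choose m : AddMonoid.End (K0 X))) c = (n.choose m) • ((Top L - 1) ^ m) c := by
    rw [← (Nat.cast_commute (n.choose m) ((Top L - 1) ^ m)).eq]
    show ((n.choose m : AddMonoid.End (K0 X))) (((Top L - 1) ^ m) c) = _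
    rw [AddMonoid.End.natCast_apply]
  rw [this, map_nsmul, nsmul_eq_mul]
  rfl

/-- the Hilbert function as a binomial expansion of degree `d` -/
theorem euler_twist_eq_sum (L : X.Modules) (hL : PicF.IsInvertible L) (F : X.Modules) (hF : Coh.IsCoh F) (d : ℕ)
    (hsupp : topologicalKrullDim (CohB1.support F) ≤ (d : WithBot ℕ∞)) (n : ℕ) :
    Curv2.euler k X (CohB1.tensorMod F (CohB1.tensorPow L n)) =
      ∑ m ∈ Finset.range (d + 1), (n.choose m : ℤ) * hcoef k X L m (cls F) := by
  haveI : IsNoetherian X := isNoetherian_of_proper k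
  rw [← eulerHom_Top_pow_cls k L hL F hF n, eulerHom_Top_pow_eq_sum]
  have hmem := cls_mem_Hlt F hF d hsupp
  have hzero : ∀ m, d < m → hcoef k X L m (cls F) = 0 := fun m hm =>
    hcoef_eq_zero k L hL m _ (Hlt_mono_le (by omega) hmem)
  rcases le_total n d with h | h
  · apply Finset.sum_subset (Finset.range_subset_range.2 (by omega))
    intro m hm1 hm2
    rw [Finset.mem_range] at hm1 hm2
    rw [Nat.choose_eq_zero_of_lt (by omega)]
    simp
  · symm
    apply Finset.sum_subset (Finset.range_subset_range.2 (by omega))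
    intro m hm1 hm2
    rw [Finset.mem_range] at hm1 hm2
    rw [hzero m (by omega)]
    simp

/-- **asymptotic Riemann–Roch** -/
theorem asymptotic_riemann_roch (d : ℕ) (hX : topologicalKrullDim X = d) (L : X.Modules) (hL : CohB1.IsAmple L)
    (P : MvPolynomial (_root_.Fin d) ℚ)
    (hP : ∀ n : _root_.Fin d → ℕ, (Curv2.euler k X (Curv2.tensorPows (Coh.structureModule X) d (fun _ => L) n) : ℚ) =
      MvPolynomial.eval (fun i => (n i : ℚ)) P) :
    0 < MvPolynomial.coeff (Finsupp.equivFunOnFinite.symm fun _ : _root_.Fin d => 1) P ∧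
      ∃ C : ℚ, ∀ n : ℕ,
        |(Module.finrank k (Coh.HH X (CohB1.tensorPow L n) 0) : ℚ) -
            MvPolynomial.coeff (Finsupp.equivFunOnFinite.symm fun _ : _root_.Fin d => 1) P / (d.factorial : ℚ) * (n : ℚ) ^ d| ≤
          C * ((n : ℚ) + 1) ^ (d - 1) := by
  haveI : IsNoetherian X := isNoetherian_of_proper k
  have hO : Coh.IsCoh (Coh.structureModule X) := Groth.Agent.Lib.Helper6.DevRed.isCoh_structureModule
  have hOi := Groth.Agent.Lib.Helper28.AmpleUnit.isInvertible_structureModule X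
  have hsupp : topologicalKrullDim (CohB1.support (Coh.structureModule X)) = (d : WithBot ℕ∞) := by
    rw [support_of_isInvertible _ hOi, (Homeomorph.Set.univ X).isHomeomorph.topologicalKrullDim_eq]
    exact hX
  have hcoeff : MvPolynomial.coeff (Finsupp.equivFunOnFinite.symm fun _ : _root_.Fin d => 1) P =
      ((hcoef k X L d (cls (Coh.structureModule X)) : ℤ) : ℚ) := by
    rw [coeff_one_eq_inter k _ hO d hsupp.le _ (fun _ => hL.1) P hP, inter_const k d L hL.1]
  have hpos := hcoef_pos k L hL d _ hO hsupp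
  refine ⟨by rw [hcoeff]; exact_mod_cast hpos, ?_⟩
  rw [hcoeff]
  obtain ⟨C₁, hC₁, hbound⟩ := Groth.Agent.Lib.Helper4.AsympPoly.exists_bound
    (fun m => hcoef k X L m (cls (Coh.structureModule X))) d
  obtain ⟨n₀, hn₀⟩ := exists_euler_eq_finrank k L hL _ hO
  -- `h⁰(L^n) = h⁰(O ⊗ L^n)`
  have hh : ∀ n : ℕ, Module.finrank k (Coh.HH X (CohB1.tensorPow L n) 0) =
      Module.finrank k (Coh.HH X (CohB1.tensorMod (Coh.structureModule X) (CohB1.tensorPow L n)) 0) := by
    intro n
    obtain ⟨e⟩ := Groth.Agent.Lib.Helper28.InvQC.nonempty_unit_tensor_iso (CohB1.tensorPow L n)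
    exact (Groth.Agent.Lib.Helper8.EulerK.hh_congr k e 0).symm
  set f : ℕ → ℤ := fun n => Curv2.euler k X (CohB1.tensorMod (Coh.structureModule X) (CohB1.tensorPow L n)) with hf
  have hfsum : ∀ n : ℕ, (f n : ℚ) = ∑ m ∈ Finset.range (d + 1), (n.choose m : ℚ) *
      ((hcoef k X L m (cls (Coh.structureModule X)) : ℤ) : ℚ) := by
    intro n
    simp only [hf]
    rw [euler_twist_eq_sum k L hL.1 _ hO d hsupp.le n]
    push_cast
    rfl
  set g : ℕ → ℚ := fun n => |(Module.finrank k (Coh.HH X (CohB1.tensorPow L n) 0) : ℚ) - (f n : ℚ)| with hg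
  refine ⟨C₁ + ∑ n ∈ Finset.range n₀, g n, fun n => ?_⟩
  have hpow : (1 : ℚ) ≤ ((n : ℚ) + 1) ^ (d - 1) := one_le_pow₀ (by
    have : (0 : ℚ) ≤ n := Nat.cast_nonneg n
    linarith)
  have hgn : g n ≤ ∑ i ∈ Finset.range n₀, g i := by
    by_cases hn : n < n₀
    · exact Finset.single_le_sum (f := g) (fun i _ => abs_nonneg _) (Finset.mem_range.2 hn)
    · rw [not_lt] at hn
      have : g n = 0 := by
        simp only [hg, hf]
        rw [hh n, hn₀ n hn]
        simp
      rw [this]
      exact Finset.sum_nonneg (fun i _ => abs_nonneg _)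
  have hsum_nn : (0 : ℚ) ≤ ∑ i ∈ Finset.range n₀, g i := Finset.sum_nonneg (fun i _ => abs_nonneg _)
  have h1 := hbound n
  rw [← hfsum n] at h1
  calc |(Module.finrank k (Coh.HH X (CohB1.tensorPow L n) 0) : ℚ) -
        ((hcoef k X L d (cls (Coh.structureModule X)) : ℤ) : ℚ) / (d.factorial : ℚ) * (n : ℚ) ^ d|
      ≤ g n + |(f n : ℚ) - ((hcoef k X L d (cls (Coh.structureModule X)) : ℤ) : ℚ) / (d.factorial : ℚ) * (n : ℚ) ^ d| := by
        simp only [hg]
        exact abs_sub_le _ _ _
    _ ≤ (∑ i ∈ Finset.range n₀, g i) + C₁ * ((n : ℚ) + 1) ^ (d - 1) := add_le_add hgn h1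
    _ ≤ (C₁ + ∑ i ∈ Finset.range n₀, g i) * ((n : ℚ) + 1) ^ (d - 1) := by nlinarith

end Groth.Agent.Lib.Helper4.Snapper
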