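import Mathlib.Tactic
import Mathlib.LinearAlgebra.TensorProduct.Basis
import Mathlib.RingTheory.Localization.AtPrime.Basic
import Mathlib.RingTheory.Localization.Away.Basic
import Mathlib.RingTheory.Filtration
import Mathlib.RingTheory.Noetherian.Basic
import Mathlib.LinearAlgebra.FreeModule.Basic

open TensorProduct

namespace Groth.Agent.Lib.Helper4.AntiAffAlg

/-- joint injectivity is preserved by tensoring with a free module -/
theorem tensor_eq_zero_of_forall_lTensor_eq_zero {K A N : Type*} [CommRing K] [AddCommGroup A]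
    [Module K A] [Module.Free K A] [AddCommGroup N] [Module K N] {I : Type*}
    {Nn : I → Type*} [∀ n, AddCommGroup (Nn n)] [∀ n, Module K (Nn n)]
    (φ : ∀ n, N →ₗ[K] Nn n) (hφ : ∀ x : N, (∀ n, φ n x = 0) → x = 0)
    (c : A ⊗[K] N) (hc : ∀ n, (φ n).lTensor A c = 0) : c = 0 := by
  classical
  let b := Module.Free.chooseBasis K A
  apply (TensorProduct.equivFinsuppOfBasisLeft b).injective
  rw [map_zero]
  ext i
  rw [Finsupp.zero_apply]
  apply hφ
  intro n
  have h1 := hc n
  have h2 : TensorProduct.equivFinsuppOfBasisLeft b ((φ n).lTensor A c) i = 0 := by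
    rw [h1, map_zero, Finsupp.zero_apply]
  rw [TensorProduct.equivFinsuppOfBasisLeft_apply] at h2 ⊢
  rw [← h2]
  -- naturality
  have hnat : ∀ z : A ⊗[K] N, φ n ((TensorProduct.lid K N) ((LinearMap.rTensor N (b.coord i)) z)) =
      (TensorProduct.lid K (Nn n)) ((LinearMap.rTensor (Nn n) (b.coord i))
        ((LinearMap.lTensor A (φ n)) z)) := by
    intro z
    induction z with
    | zero => simp
    | tmul a x => simp
    | add z w hz hw => simp only [map_add, hz, hw]
  exact hnat c

end Groth.Agent.Lib.Helper4.AntiAffAlg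

namespace Groth.Agent.Lib.Helper4.AntiAffAlg

open IsLocalRing

theorem exists_away_jointly_injective (B : Type*) [CommRing B] [IsNoetherianRing B] (m : Ideal B)
    [m.IsPrime] :
    ∃ s : B, s ∈ m.primeCompl ∧ ∀ (ψ : Localization.Away s →+* Localization.AtPrime m),
      ψ.comp (algebraMap B (Localization.Away s)) = algebraMap B (Localization.AtPrime m) →
      ∀ x : Localization.Away s,
        (∀ n : ℕ, Ideal.Quotient.mk ((maximalIdeal (Localization.AtPrime m)) ^ n) (ψ x) = 0) →
          x = 0 := by
  classical
  let R := Localization.AtPrime m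
  let J : Ideal B := RingHom.ker (algebraMap B R)
  have hJfg : J.FG := IsNoetherian.noetherian J
  obtain ⟨S, hS⟩ := hJfg
  have hex : ∀ g ∈ S, ∃ t : m.primeCompl, (t : B) * g = 0 := by
    intro g hg
    have hgJ : g ∈ J := by rw [← hS]; exact Submodule.subset_span hg
    exact (IsLocalization.map_eq_zero_iff m.primeCompl R g).mp hgJ
  choose! t ht using hex
  let s : B := ∏ g ∈ S, (t g : B)
  have hs : s ∈ m.primeCompl := Submonoid.prod_mem _ (fun g _ => (t g).2)
  have hsJ : ∀ b ∈ J, s * b = 0 := by
    intro b hb
    rw [← hS] at hb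
    induction hb using Submodule.span_induction with
    | mem g hg =>
      have : s = (∏ g' ∈ S.erase g, (t g' : B)) * t g := by
        rw [Finset.prod_erase_mul _ _ hg]
      rw [this, mul_assoc, ht g hg, mul_zero]
    | zero => simp
    | add x y _ _ hx hy => rw [mul_add, hx, hy, add_zero]
    | smul a x _ hx => rw [smul_eq_mul, mul_left_comm, hx, mul_zero]
  refine ⟨s, hs, ?_⟩
  intro ψ hψ x hx
  haveI : IsNoetherianRing R := IsLocalization.isNoetherianRing m.primeCompl R inferInstance
  have hψx : ψ x = 0 := by
    have hbot := Ideal.iInf_pow_eq_bot_of_isLocalRing (maximalIdeal R)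
      (Ideal.IsMaximal.ne_top (maximalIdeal.isMaximal R))
    have : ψ x ∈ ⨅ n : ℕ, (maximalIdeal R) ^ n := by
      rw [Ideal.mem_iInf]
      intro n
      exact Ideal.Quotient.eq_zero_iff_mem.mp (hx n)
    rw [hbot] at this
    exact this
  obtain ⟨⟨b, u⟩, rfl⟩ := IsLocalization.mk'_surjective (Submonoid.powers s) x
  simp only at hψx ⊢
  have h1 : IsLocalization.mk' (Localization.Away s) b u * algebraMap B _ (u : B) =
      algebraMap B _ b := IsLocalization.mk'_spec _ b u
  have h2 : algebraMap B R b = 0 := by
    rw [← hψ, RingHom.comp_apply, ← h1, map_mul, hψx, zero_mul]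
  have h3 : s * b = 0 := hsJ b h2
  have hsu : IsUnit (algebraMap B (Localization.Away s) s) :=
    IsLocalization.Away.algebraMap_isUnit s
  have h4 : algebraMap B (Localization.Away s) b = 0 := by
    have : algebraMap B (Localization.Away s) s * algebraMap B (Localization.Away s) b = 0 := by
      rw [← map_mul, h3, map_zero]
    exact hsu.mul_right_eq_zero.mp this
  rw [h4] at h1
  have huu : IsUnit (algebraMap B (Localization.Away s) (u : B)) :=
    IsLocalization.map_units _ u
  exact huu.mul_left_eq_zero.mp h1

end Groth.Agent.Lib.Helper4.AntiAffAlg
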