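import Mathlib.Tactic
import Mathlib.AlgebraicGeometry.Morphisms.Separated
import Mathlib.AlgebraicGeometry.Morphisms.ClosedImmersion

open CategoryTheory AlgebraicGeometry Limits TopologicalSpace

namespace Groth.Agent.Lib.Helper4.AntiAffDense

universe u

/-- Two morphisms from an affine scheme to a separated scheme agree if they agree on a family
of affine schemes whose ring maps are jointly injective. -/
theorem eq_of_jointly_injective {C : CommRingCat.{u}} {S Z : Scheme.{u}} (sZ : Z ⟶ S)
    [IsSeparated sZ] (f g : Spec C ⟶ Z) (hfg : f ≫ sZ = g ≫ sZ) {I : Type*}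
    (Cn : I → CommRingCat.{u}) (ψ : ∀ n, C ⟶ Cn n)
    (hψ : ∀ c : C, (∀ n, (ψ n).hom c = 0) → c = 0)
    (h : ∀ n, Spec.map (ψ n) ≫ f = Spec.map (ψ n) ≫ g) : f = g := by
  let X' : Over S := Over.mk (f ≫ sZ)
  let Y' : Over S := Over.mk sZ
  let f' : X' ⟶ Y' := Over.homMk f
  let g' : X' ⟶ Y' := Over.homMk g hfg.symm
  have : IsSeparated Y'.hom := ‹_›
  let e := (equalizer.ι f' g').left
  have he : IsClosedImmersion e := inferInstance
  -- each member of the family factors through the equalizer
  have hfac : ∀ n, ∃ l : Spec (Cn n) ⟶ (equalizer f' g').left, l ≫ e = Spec.map (ψ n) := by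
    intro n
    let U' : Over S := Over.mk (Spec.map (ψ n) ≫ f ≫ sZ)
    let ι' : U' ⟶ X' := Over.homMk (Spec.map (ψ n))
    have hι : ι' ≫ f' = ι' ≫ g' := by
      ext1
      exact h n
    refine ⟨(equalizer.lift ι' hι).left, ?_⟩
    rw [← Over.comp_left, equalizer.lift_ι]
    rfl
  have hinj : Function.Injective e.appTop := by
    rw [injective_iff_map_eq_zero]
    intro c' hc'
    -- transport to `C`
    obtain ⟨c, rfl⟩ : ∃ c : C, (Scheme.ΓSpecIso C).inv.hom c = c' :=
      ⟨(Scheme.ΓSpecIso C).hom.hom c', by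
        rw [← CommRingCat.comp_apply, Iso.hom_inv_id]; rfl⟩
    have hc0 : c = 0 := by
      apply hψ
      intro n
      obtain ⟨l, hl⟩ := hfac n
      have h1 : (Spec.map (ψ n)).appTop.hom ((Scheme.ΓSpecIso C).inv.hom c) = 0 := by
        rw [← hl, Scheme.Hom.comp_appTop, CommRingCat.comp_apply, hc', map_zero]
      have h2 : (Scheme.ΓSpecIso C).inv ≫ (Spec.map (ψ n)).appTop =
          ψ n ≫ (Scheme.ΓSpecIso (Cn n)).inv := (Scheme.ΓSpecIso_inv_naturality (ψ n)).symm
      have h3 := congrArg (fun t => t.hom c) h2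
      simp only [CommRingCat.comp_apply] at h3
      rw [h1] at h3
      have h4 : Function.Injective (Scheme.ΓSpecIso (Cn n)).inv.hom :=
        (Scheme.ΓSpecIso (Cn n)).symm.commRingCatIsoToRingEquiv.injective
      exact h4 (h3.symm.trans (map_zero _).symm)
    rw [hc0, map_zero]
  haveI : IsAffine X'.left := inferInstanceAs (IsAffine (Spec C))
  have hiso : IsIso e := IsClosedImmersion.isIso_of_injective_of_isAffine hinj
  rw [← cancel_epi e]
  exact congr($(equalizer.condition f' g').left)

end Groth.Agent.Lib.Helper4.AntiAffDense
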