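import Mathlib.Tactic
import Mathlib.AlgebraicGeometry.Pullbacks
import Mathlib.AlgebraicGeometry.PullbackCarrier

open CategoryTheory AlgebraicGeometry Limits TopologicalSpace TensorProduct

namespace Groth.Agent.Lib.Helper4.AntiAffOmega

universe u

variable {K : Type u} [Field K] {X Y : Scheme.{u}} (sX : X ⟶ Spec (CommRingCat.of K))
  (sY : Y ⟶ Spec (CommRingCat.of K))

/-- The canonical map `Spec (A ⊗ C) ⟶ X ×_K Y` attached to an `A`-point of `X` and a `C`-point of
`Y`. -/
noncomputable def omega (A C : Type u) [CommRing A] [CommRing C] [Algebra K A] [Algebra K C]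
    (a : Spec (CommRingCat.of A) ⟶ X) (c : Spec (CommRingCat.of C) ⟶ Y)
    (ha : a ≫ sX = Spec.map (CommRingCat.ofHom (algebraMap K A)))
    (hc : c ≫ sY = Spec.map (CommRingCat.ofHom (algebraMap K C))) :
    Spec (CommRingCat.of (A ⊗[K] C)) ⟶ pullback sX sY :=
  (pullbackSpecIso K A C).inv ≫ pullback.map _ _ sX sY a c (𝟙 _) (by rw [Category.comp_id, ha])
    (by rw [Category.comp_id, hc])

variable (A C : Type u) [CommRing A] [CommRing C] [Algebra K A] [Algebra K C]
    (a : Spec (CommRingCat.of A) ⟶ X) (c : Spec (CommRingCat.of C) ⟶ Y)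
    (ha : a ≫ sX = Spec.map (CommRingCat.ofHom (algebraMap K A)))
    (hc : c ≫ sY = Spec.map (CommRingCat.ofHom (algebraMap K C)))

@[reassoc]
theorem omega_fst : omega sX sY A C a c ha hc ≫ pullback.fst sX sY =
    Spec.map (CommRingCat.ofHom Algebra.TensorProduct.includeLeftRingHom) ≫ a := by
  unfold omega
  rw [Category.assoc, pullback.map, pullback.lift_fst, pullbackSpecIso_inv_fst_assoc]

@[reassoc]
theorem omega_snd : omega sX sY A C a c ha hc ≫ pullback.snd sX sY =
    Spec.map (CommRingCat.ofHom (R := C) (S := A ⊗[K] C)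
      (RingHomClass.toRingHom Algebra.TensorProduct.includeRight)) ≫ c := by
  unfold omega
  rw [Category.assoc, pullback.map, pullback.lift_snd, pullbackSpecIso_inv_snd_assoc]

instance [IsOpenImmersion a] [IsOpenImmersion c] : IsOpenImmersion (omega sX sY A C a c ha hc) := by
  unfold omega
  infer_instance

theorem range_omega : Set.range (omega sX sY A C a c ha hc) =
    pullback.fst sX sY ⁻¹' Set.range a ∩ pullback.snd sX sY ⁻¹' Set.range c := by
  unfold omega
  rw [Scheme.Hom.comp_base, TopCat.coe_comp, Set.range_comp]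
  have h1 : Set.range (pullbackSpecIso K A C).inv = Set.univ :=
    Set.range_eq_univ.mpr (pullbackSpecIso K A C).inv.homeomorph.surjective
  rw [h1, Set.image_univ]
  exact Scheme.Pullback.range_map _ _ _ _ _ _ _ _ _

/-- naturality in `C` -/
theorem map_omega (C' : Type u) [CommRing C'] [Algebra K C'] (φ : C →ₐ[K] C') :
    Spec.map (CommRingCat.ofHom (Algebra.TensorProduct.map (AlgHom.id K A) φ).toRingHom) ≫
      omega sX sY A C a c ha hc =
    omega sX sY A C' a (Spec.map (CommRingCat.ofHom φ.toRingHom) ≫ c)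
      ha (by rw [Category.assoc, hc, ← Spec.map_comp, ← CommRingCat.ofHom_comp]
             congr 2
             exact φ.comp_algebraMap) := by
  apply pullback.hom_ext
  · rw [Category.assoc, omega_fst, omega_fst, ← Spec.map_comp_assoc, ← CommRingCat.ofHom_comp]
    congr 3
    ext x
    simp
  · rw [Category.assoc, omega_snd, omega_snd, ← Spec.map_comp_assoc, ← CommRingCat.ofHom_comp,
      ← Spec.map_comp_assoc, ← CommRingCat.ofHom_comp]
    congr 3

end Groth.Agent.Lib.Helper4.AntiAffOmega
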