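import Mathlib.Tactic
import Groth.Agent.Lib.Helper4.AntiAffOmega
import Groth.Agent.Lib.Helper4.AntiAffAlg
import Groth.Agent.Lib.Helper4.AntiAffDense

open CategoryTheory AlgebraicGeometry Limits TopologicalSpace TensorProduct IsLocalRing

namespace Groth.Agent.Lib.Helper4.AntiAffCore

open Groth.Agent.Lib.Helper4.AntiAffOmega Groth.Agent.Lib.Helper4.AntiAffAlg
  Groth.Agent.Lib.Helper4.AntiAffDense

universe u

theorem exists_away_omega_eq {K : Type u} [Field K] {X Y Z : Scheme.{u}}
    (sX : X ⟶ Spec (CommRingCat.of K)) (sY : Y ⟶ Spec (CommRingCat.of K))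
    (sZ : Z ⟶ Spec (CommRingCat.of K)) [IsSeparated sZ]
    (f g : pullback sX sY ⟶ Z) (hfg : f ≫ sZ = g ≫ sZ)
    (B : Type u) [CommRing B] [Algebra K B] [IsNoetherianRing B] (m : Ideal B) [m.IsPrime]
    (ι : Spec (CommRingCat.of B) ⟶ Y)
    (H : ∀ (n : ℕ) (A : Type u) [CommRing A] [Algebra K A] (a : Spec (CommRingCat.of A) ⟶ X)
        (ha : a ≫ sX = Spec.map (CommRingCat.ofHom (algebraMap K A)))
        (c : Spec (CommRingCat.of
          (Localization.AtPrime m ⧸ (maximalIdeal (Localization.AtPrime m)) ^ n)) ⟶ Y)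
        (hc : c ≫ sY = Spec.map (CommRingCat.ofHom (algebraMap K _))),
        c = Spec.map (CommRingCat.ofHom (algebraMap B _)) ≫ ι →
          omega sX sY A _ a c ha hc ≫ f = omega sX sY A _ a c ha hc ≫ g) :
    ∃ s : B, s ∈ m.primeCompl ∧ ∀ (A : Type u) [CommRing A] [Algebra K A]
      (a : Spec (CommRingCat.of A) ⟶ X)
      (ha : a ≫ sX = Spec.map (CommRingCat.ofHom (algebraMap K A)))
      (c : Spec (CommRingCat.of (Localization.Away s)) ⟶ Y)
      (hc : c ≫ sY = Spec.map (CommRingCat.ofHom (algebraMap K _))),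
      c = Spec.map (CommRingCat.ofHom (algebraMap B (Localization.Away s))) ≫ ι →
        omega sX sY A _ a c ha hc ≫ f = omega sX sY A _ a c ha hc ≫ g := by
  obtain ⟨s, hs, hJI⟩ := exists_away_jointly_injective B m
  refine ⟨s, hs, ?_⟩
  intro A _ _ a ha c hc hceq
  let R := Localization.AtPrime m
  have hunit : ∀ y : Submonoid.powers s, IsUnit ((IsScalarTower.toAlgHom K B R) (y : B)) := by
    rintro ⟨y, n, rfl⟩
    have : (s ^ n) ∈ m.primeCompl := Submonoid.pow_mem _ hs n
    exact IsLocalization.map_units R (⟨s ^ n, this⟩ : m.primeCompl)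
  let ψ₀ : Localization.Away s →ₐ[K] R :=
    IsLocalization.liftAlgHom (M := Submonoid.powers s) (f := IsScalarTower.toAlgHom K B R) hunit
  have hψ₀ : (ψ₀ : Localization.Away s →+* R).comp (algebraMap B (Localization.Away s)) =
      algebraMap B R := by
    ext b
    simp [ψ₀]
  let ψn : ∀ n : ℕ, Localization.Away s →ₐ[K] R ⧸ (maximalIdeal R) ^ n := fun n =>
    (Ideal.Quotient.mkₐ K _).comp ψ₀
  refine eq_of_jointly_injective sZ _ _ (by rw [Category.assoc, Category.assoc, hfg])
    (fun n => CommRingCat.of (A ⊗[K] (R ⧸ (maximalIdeal R) ^ n)))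
    (fun n => CommRingCat.ofHom (Algebra.TensorProduct.map (AlgHom.id K A) (ψn n)).toRingHom)
    ?_ ?_
  · intro c' hc'
    refine tensor_eq_zero_of_forall_lTensor_eq_zero (fun n => (ψn n).toLinearMap) ?_ c' hc'
    intro x hx
    exact hJI (ψ₀ : Localization.Away s →+* R) hψ₀ x hx
  · intro n
    rw [← Category.assoc, ← Category.assoc, map_omega]
    refine H n A a ha _ _ ?_
    rw [hceq, ← Spec.map_comp_assoc, ← CommRingCat.ofHom_comp]
    congr 3
    ext b
    have := congrArg (fun t => t b) hψ₀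
    simp only [RingHom.comp_apply] at this
    simp only [ψn, AlgHom.toRingHom_eq_coe, RingHom.coe_comp, RingHom.coe_coe, Function.comp_apply, AlgHom.coe_comp, Ideal.Quotient.mkₐ_eq_mk]
    have h2 : ψ₀ ((algebraMap B (Localization.Away s)) b) = (algebraMap B R) b := this
    rw [h2]
    rfl

end Groth.Agent.Lib.Helper4.AntiAffCore
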