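import Mathlib.Tactic
import Mathlib.AlgebraicGeometry.Morphisms.Flat

open CategoryTheory AlgebraicGeometry Limits TopologicalSpace

namespace Groth.Agent.Lib.Helper4.AntiAffSec

universe u

/-- Flat base change for global sections: if `Γ(Spec K) ⟶ Γ(X)` is an isomorphism (`X` qcqs over
a field `K`) then for affine `T` over `K` the projection `X ×_K T ⟶ T` induces an isomorphism on
global sections. -/
theorem isIso_appTop_snd {K : Type u} [Field K] {X T : Scheme.{u}}
    (sX : X ⟶ Spec (CommRingCat.of K)) (sT : T ⟶ Spec (CommRingCat.of K))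
    [CompactSpace X] [QuasiSeparatedSpace X] [IsAffine T] (hX : IsIso sX.appTop) :
    IsIso (pullback.snd sX sT).appTop := by
  have H : IsPullback (pullback.fst sX sT) (pullback.snd sX sT) sX sT := IsPullback.of_hasPullback _ _
  have hiso : IsIso (pushoutSection H (US := ⊤) (UT := ⊤) (UX := ⊤) (UY := ⊤)
      (by simp) (by simp) (by simp)) :=
    isIso_pushoutSection_of_isQuasiSeparated_of_flat_right H _ _ _ (isAffineOpen_top _)
      (isAffineOpen_top _) CompactSpace.isCompact_univ
      (isQuasiSeparated_univ_iff.mpr inferInstance)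
  have hpo := (isIso_pushoutSection_iff H _ _ _).mp hiso
  have e1 : sX.appLE ⊤ ⊤ (by simp) = sX.appTop := Scheme.Hom.appLE_eq_app sX
  have e2 : (pullback.snd sX sT).appLE ⊤ ⊤ (by simp) = (pullback.snd sX sT).appTop :=
    Scheme.Hom.appLE_eq_app _
  have h1 : IsIso (sX.appLE ⊤ ⊤ (by simp)) := by rw [e1]; exact hX
  have h2 := hpo.isIso_inr_of_isIso h1
  rw [e2] at h2
  exact h2

end Groth.Agent.Lib.Helper4.AntiAffSec
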