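import Mathlib.Tactic
import Mathlib.AlgebraicGeometry.AffineScheme
import Groth.Agent.Lib.Helper4.AntiAffSec

open CategoryTheory AlgebraicGeometry Limits TopologicalSpace

namespace Groth.Agent.Lib.Helper4.AntiAffSec2

universe u

/-- If `q : Q ⟶ T` induces an iso on global sections and has a section `τ`, two morphisms
from `Q` into a common affine open of `Z` which agree after `τ` are equal. -/
theorem eq_of_section_of_isIso_appTop {Q T Z : Scheme.{u}} (q : Q ⟶ T) (τ : T ⟶ Q)
    (hτ : τ ≫ q = 𝟙 T) (hq : IsIso q.appTop) (a b : Q ⟶ Z) (W : Z.Opens) (hW : IsAffineOpen W)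
    (ha : ∀ x, a x ∈ W) (hb : ∀ x, b x ∈ W) (hab : τ ≫ a = τ ≫ b) : a = b := by
  have hra : Set.range a ⊆ Set.range W.ι := by
    rintro _ ⟨x, rfl⟩
    rw [Scheme.Opens.range_ι]
    exact ha x
  have hrb : Set.range b ⊆ Set.range W.ι := by
    rintro _ ⟨x, rfl⟩
    rw [Scheme.Opens.range_ι]
    exact hb x
  let a' : Q ⟶ W.toScheme := IsOpenImmersion.lift W.ι a hra
  let b' : Q ⟶ W.toScheme := IsOpenImmersion.lift W.ι b hrb
  have ha' : a' ≫ W.ι = a := IsOpenImmersion.lift_fac _ _ _
  have hb' : b' ≫ W.ι = b := IsOpenImmersion.lift_fac _ _ _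
  haveI : IsAffine W.toScheme := hW
  suffices a' = b' by rw [← ha', ← hb', this]
  apply ext_of_isAffine
  have h1 : τ ≫ a' = τ ≫ b' := by
    rw [← cancel_mono W.ι, Category.assoc, Category.assoc, ha', hb', hab]
  have h2 : q.appTop ≫ τ.appTop = 𝟙 _ := by
    rw [← Scheme.Hom.comp_appTop, hτ, Scheme.Hom.id_appTop]
  haveI : IsIso τ.appTop := by
    have : τ.appTop = inv q.appTop := by
      rw [← cancel_epi q.appTop, h2, IsIso.hom_inv_id]
    rw [this]
    infer_instance
  have h3 := congrArg (fun t => t.appTop) h1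
  simp only [Scheme.Hom.comp_appTop] at h3
  exact (cancel_mono τ.appTop).mp h3

end Groth.Agent.Lib.Helper4.AntiAffSec2
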