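import Mathlib.Tactic
import Groth.Agent.Lib.Helper4.AntiAffSec2

open CategoryTheory AlgebraicGeometry Limits TopologicalSpace TensorProduct IsLocalRing

namespace Groth.Agent.Lib.Helper4.AntiAffThick

open Groth.Agent.Lib.Helper4.AntiAffSec Groth.Agent.Lib.Helper4.AntiAffSec2

universe u

/-- `f = g` on every `t : E ⟶ X ×_K Y` lying over an affine `j : T ⟶ Y`, as soon as they agree on
the section `σ` and `f, g` map the part over `j` into a common affine open. -/
theorem comp_eq_of_factors {K : Type u} [Field K] {X Y Z : Scheme.{u}}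
    (sX : X ⟶ Spec (CommRingCat.of K)) (sY : Y ⟶ Spec (CommRingCat.of K))
    [CompactSpace X] [QuasiSeparatedSpace X] (hX : IsIso sX.appTop)
    (f g : pullback sX sY ⟶ Z) (σ : Y ⟶ pullback sX sY) (hσ : σ ≫ pullback.snd sX sY = 𝟙 Y)
    (hσfg : σ ≫ f = σ ≫ g)
    {T : Scheme.{u}} [IsAffine T] (j : T ⟶ Y) (W : Z.Opens) (hW : IsAffineOpen W)
    (hfW : ∀ x : ↥(pullback sX sY), pullback.snd sX sY x ∈ Set.range j → f x ∈ W)
    (hgW : ∀ x : ↥(pullback sX sY), pullback.snd sX sY x ∈ Set.range j → g x ∈ W)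
    {E : Scheme.{u}} (t : E ⟶ pullback sX sY) (e : E ⟶ T) (hte : t ≫ pullback.snd sX sY = e ≫ j) :
    t ≫ f = t ≫ g := by
  let Q := pullback sX (j ≫ sY)
  let mp : Q ⟶ pullback sX sY := pullback.map sX (j ≫ sY) sX sY (𝟙 X) j (𝟙 _)
    (by rw [Category.comp_id, Category.id_comp]) (by rw [Category.comp_id])
  have hmp1 : mp ≫ pullback.fst sX sY = pullback.fst sX (j ≫ sY) := by
    simp only [mp, pullback.map, pullback.lift_fst, Category.comp_id]
  have hmp2 : mp ≫ pullback.snd sX sY = pullback.snd sX (j ≫ sY) ≫ j := by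
    simp only [mp, pullback.map, pullback.lift_snd]
  have hcond : (j ≫ σ ≫ pullback.fst sX sY) ≫ sX = 𝟙 T ≫ j ≫ sY := by
    rw [Category.assoc, Category.assoc, pullback.condition, ← Category.assoc σ, hσ,
      Category.id_comp, Category.id_comp]
  let τ : T ⟶ Q := pullback.lift (j ≫ σ ≫ pullback.fst sX sY) (𝟙 T) hcond
  have hτ : τ ≫ pullback.snd sX (j ≫ sY) = 𝟙 T := pullback.lift_snd _ _ _
  have hτmp : τ ≫ mp = j ≫ σ := by
    apply pullback.hom_ext
    · rw [Category.assoc, hmp1, pullback.lift_fst, Category.assoc]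
    · rw [Category.assoc, hmp2, ← Category.assoc, hτ, Category.id_comp, Category.assoc, hσ,
        Category.comp_id]
  have hq : IsIso (pullback.snd sX (j ≫ sY)).appTop := isIso_appTop_snd sX (j ≫ sY) hX
  have hrange : ∀ x : ↥Q, pullback.snd sX sY (mp x) ∈ Set.range j := by
    intro x
    refine ⟨pullback.snd sX (j ≫ sY) x, ?_⟩
    rw [← Scheme.Hom.comp_apply, ← hmp2, Scheme.Hom.comp_apply]
  have key : mp ≫ f = mp ≫ g := by
    refine eq_of_section_of_isIso_appTop (pullback.snd sX (j ≫ sY)) τ hτ hq _ _ W hW ?_ ?_ ?_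
    · intro x
      rw [Scheme.Hom.comp_apply]
      exact hfW _ (hrange x)
    · intro x
      rw [Scheme.Hom.comp_apply]
      exact hgW _ (hrange x)
    · rw [← Category.assoc, ← Category.assoc, hτmp, Category.assoc, Category.assoc, hσfg]
  have hcond2 : (t ≫ pullback.fst sX sY) ≫ sX = e ≫ j ≫ sY := by
    rw [Category.assoc, pullback.condition, ← Category.assoc, hte, Category.assoc]
  have hfac : t = pullback.lift (t ≫ pullback.fst sX sY) e hcond2 ≫ mp := by
    apply pullback.hom_ext
    · rw [Category.assoc, hmp1, pullback.lift_fst]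
    · rw [Category.assoc, hmp2, ← Category.assoc, pullback.lift_snd, hte]
  rw [hfac, Category.assoc, Category.assoc, key]

end Groth.Agent.Lib.Helper4.AntiAffThick
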