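import Mathlib.Tactic
import Mathlib.AlgebraicGeometry.Noetherian
import Groth.Agent.Lib.Helper4.AntiAffCore
import Groth.Agent.Lib.Helper4.AntiAffThick

open CategoryTheory AlgebraicGeometry Limits TopologicalSpace TensorProduct IsLocalRing

namespace Groth.Agent.Lib.Helper4.AntiAffLocal

open Groth.Agent.Lib.Helper4.AntiAffOmega Groth.Agent.Lib.Helper4.AntiAffCore
  Groth.Agent.Lib.Helper4.AntiAffThick

universe u

theorem comap_quotient_pow_eq {B : Type*} [CommRing B] (m : Ideal B) [m.IsPrime] (n : ℕ)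
    (q : PrimeSpectrum (Localization.AtPrime m ⧸ (maximalIdeal (Localization.AtPrime m)) ^ n)) :
    PrimeSpectrum.comap (algebraMap B _) q = ⟨m, inferInstance⟩ := by
  let R := Localization.AtPrime m
  have h1 : algebraMap B (R ⧸ (maximalIdeal R) ^ n) =
      (Ideal.Quotient.mk ((maximalIdeal R) ^ n)).comp (algebraMap B R) := rfl
  ext1
  change Ideal.comap (algebraMap B (R ⧸ (maximalIdeal R) ^ n)) q.asIdeal = m
  rw [h1, ← Ideal.comap_comap]
  have h2 : Ideal.comap (Ideal.Quotient.mk ((maximalIdeal R) ^ n)) q.asIdeal = maximalIdeal R := by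
    have hprime : (Ideal.comap (Ideal.Quotient.mk ((maximalIdeal R) ^ n)) q.asIdeal).IsPrime :=
      Ideal.comap_isPrime _ _
    have hle : (maximalIdeal R) ^ n ≤ Ideal.comap (Ideal.Quotient.mk ((maximalIdeal R) ^ n)) q.asIdeal := by
      intro x hx
      rw [Ideal.mem_comap, Ideal.Quotient.eq_zero_iff_mem.mpr hx]
      exact Ideal.zero_mem _
    have hle2 : maximalIdeal R ≤ Ideal.comap (Ideal.Quotient.mk ((maximalIdeal R) ^ n)) q.asIdeal :=
      hprime.le_of_pow_le hle
    exact ((maximalIdeal.isMaximal R).eq_of_le hprime.ne_top hle2).symm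
  rw [h2]
  exact Localization.AtPrime.under_maximalIdeal


/-- The local lemma: if `f` and `g` both contract the fibre over `y` to a point `z`, they agree
over a neighbourhood of `y`. -/
theorem good_of_fibre {K : Type u} [Field K] {X Y Z : Scheme.{u}}
    (sX : X ⟶ Spec (CommRingCat.of K)) (sY : Y ⟶ Spec (CommRingCat.of K))
    (sZ : Z ⟶ Spec (CommRingCat.of K)) [IsSeparated sZ]
    [CompactSpace X] [QuasiSeparatedSpace X] (hX : IsIso sX.appTop) [IsLocallyNoetherian Y]
    (f g : pullback sX sY ⟶ Z) (hfg : f ≫ sZ = g ≫ sZ)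
    (σ : Y ⟶ pullback sX sY) (hσ : σ ≫ pullback.snd sX sY = 𝟙 Y) (hσfg : σ ≫ f = σ ≫ g)
    (y : Y) (z : Z)
    (hfy : ∀ x : ↥(pullback sX sY), pullback.snd sX sY x = y → f x = z)
    (hgy : ∀ x : ↥(pullback sX sY), pullback.snd sX sY x = y → g x = z) :
    ∃ V : Y.Opens, y ∈ V ∧ ∀ x : ↥(pullback sX sY), pullback.snd sX sY x ∈ V →
      ∃ U : (pullback sX sY).Opens, x ∈ U ∧ U.ι ≫ f = U.ι ≫ g := by
  -- affine open `W ∋ z`
  obtain ⟨W, hW, hzW⟩ : ∃ W : Z.Opens, IsAffineOpen W ∧ z ∈ W := by
    refine ⟨(Z.affineCover.f (Z.affineCover.idx z)).opensRange, isAffineOpen_opensRange _, ?_⟩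
    exact Z.affineCover.covers z
  -- chart around `y`
  let 𝒰 := Y.affineOpenCover
  obtain ⟨p, hp⟩ := 𝒰.covers y
  let B : Type u := 𝒰.X (𝒰.idx y)
  let ι : Spec (CommRingCat.of B) ⟶ Y := 𝒰.f (𝒰.idx y)
  haveI : IsOpenImmersion ι := 𝒰.map_prop _
  let φB : CommRingCat.of K ⟶ CommRingCat.of B := Spec.preimage (ι ≫ sY)
  letI : Algebra K B := φB.hom.toAlgebra
  have hι : ι ≫ sY = Spec.map (CommRingCat.ofHom (algebraMap K B)) := (Spec.map_preimage _).symm
  haveI : IsNoetherianRing B := by
    have h1 : IsLocallyNoetherian (Spec (CommRingCat.of B)) :=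
      isLocallyNoetherian_of_isOpenImmersion ι
    exact isLocallyNoetherian_Spec.mp h1
  let p' : PrimeSpectrum B := p
  let m : Ideal B := p'.asIdeal
  haveI : m.IsPrime := p'.isPrime
  have hp' : (⟨m, inferInstance⟩ : PrimeSpectrum B) = p' := rfl
  -- the infinitesimal neighbourhoods
  have H : ∀ (n : ℕ) (A : Type u) [CommRing A] [Algebra K A] (a : Spec (CommRingCat.of A) ⟶ X)
        (ha : a ≫ sX = Spec.map (CommRingCat.ofHom (algebraMap K A)))
        (c : Spec (CommRingCat.of
          (Localization.AtPrime m ⧸ (maximalIdeal (Localization.AtPrime m)) ^ n)) ⟶ Y)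
        (hc : c ≫ sY = Spec.map (CommRingCat.ofHom (algebraMap K _))),
        c = Spec.map (CommRingCat.ofHom (algebraMap B _)) ≫ ι →
          omega sX sY A _ a c ha hc ≫ f = omega sX sY A _ a c ha hc ≫ g := by
    intro n A _ _ a ha c hc hceq
    have hrange : ∀ x : ↥(pullback sX sY), pullback.snd sX sY x ∈ Set.range c →
        pullback.snd sX sY x = y := by
      rintro x ⟨q, hq⟩
      rw [← hq, hceq, Scheme.Hom.comp_apply]
      have hp2 : ι p = y := hp
      refine Eq.trans (congrArg ι ?_) hp2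
      exact comap_quotient_pow_eq m n q
    refine comp_eq_of_factors sX sY hX f g σ hσ hσfg c W hW ?_ ?_ (omega sX sY A _ a c ha hc)
      (Spec.map (CommRingCat.ofHom (R := (Localization.AtPrime m ⧸ (maximalIdeal (Localization.AtPrime m)) ^ n)) (S := A ⊗[K] (Localization.AtPrime m ⧸ (maximalIdeal (Localization.AtPrime m)) ^ n))
      (RingHomClass.toRingHom Algebra.TensorProduct.includeRight))) (omega_snd _ _ _ _ _ _ _ _)
    · intro x hx
      rw [hfy x (hrange x hx)]
      exact hzW
    · intro x hx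
      rw [hgy x (hrange x hx)]
      exact hzW
  obtain ⟨s, hs, hmain⟩ := exists_away_omega_eq sX sY sZ f g hfg B m ι H
  let c : Spec (CommRingCat.of (Localization.Away s)) ⟶ Y :=
    Spec.map (CommRingCat.ofHom (algebraMap B (Localization.Away s))) ≫ ι
  haveI : IsOpenImmersion c := by
    dsimp only [c]
    infer_instance
  have hc : c ≫ sY = Spec.map (CommRingCat.ofHom (algebraMap K (Localization.Away s))) := by
    dsimp only [c]
    rw [Category.assoc, hι, ← Spec.map_comp, ← CommRingCat.ofHom_comp]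
  refine ⟨c.opensRange, ?_, ?_⟩
  · -- `y ∈ V`
    have hps : p' ∈ PrimeSpectrum.basicOpen s := hs
    have h1 : p' ∈ Set.range (PrimeSpectrum.comap (algebraMap B (Localization.Away s))) := by
      rw [PrimeSpectrum.localization_away_comap_range (Localization.Away s) s]
      exact hps
    obtain ⟨q, hq⟩ := h1
    let q' : ↥(Spec (CommRingCat.of (Localization.Away s))) := q
    refine ⟨q', ?_⟩
    have hp2 : ι p = y := hp
    refine Eq.trans ?_ hp2
    change (Spec.map (CommRingCat.ofHom (algebraMap B (Localization.Away s))) ≫ ι) q' = ι p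
    rw [Scheme.Hom.comp_apply]
    exact congrArg ι hq
  · intro x hx
    let 𝒱 := X.affineOpenCover
    obtain ⟨r, hr⟩ := 𝒱.covers (pullback.fst sX sY x)
    let A : Type u := 𝒱.X (𝒱.idx (pullback.fst sX sY x))
    let a : Spec (CommRingCat.of A) ⟶ X := 𝒱.f (𝒱.idx (pullback.fst sX sY x))
    haveI : IsOpenImmersion a := 𝒱.map_prop _
    let φA : CommRingCat.of K ⟶ CommRingCat.of A := Spec.preimage (a ≫ sX)
    letI : Algebra K A := φA.hom.toAlgebra
    have ha : a ≫ sX = Spec.map (CommRingCat.ofHom (algebraMap K A)) := (Spec.map_preimage _).symm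
    have hω := hmain A a ha c hc rfl
    refine ⟨(omega sX sY A _ a c ha hc).opensRange, ?_, ?_⟩
    · change x ∈ Set.range (omega sX sY A _ a c ha hc)
      rw [range_omega]
      exact ⟨⟨r, hr⟩, hx⟩
    · rw [← Scheme.Hom.isoOpensRange_inv_comp, Category.assoc, Category.assoc, hω]

end Groth.Agent.Lib.Helper4.AntiAffLocal
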