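import Mathlib.Tactic
import Mathlib.AlgebraicGeometry.Morphisms.UniversallyOpen
import Mathlib.RingTheory.Spectrum.Prime.ConstructibleSet
import Groth.Agent.Lib.Helper4.AntiAffLocal

open CategoryTheory AlgebraicGeometry Limits TopologicalSpace TensorProduct IsLocalRing

namespace Groth.Agent.Lib.Helper4.AntiAffRigid

open Groth.Agent.Lib.Helper4.AntiAffLocal

universe u

/-- In a locally noetherian scheme, an open subset stable under specialization is closed. -/
theorem isClosed_of_isOpen_of_stableUnderSpecialization {Y : Scheme.{u}} [IsLocallyNoetherian Y]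
    (S : Set Y) (hS : IsOpen S) (hS' : StableUnderSpecialization S) : IsClosed S := by
  rw [← isOpen_compl_iff, isOpen_iff_mem_nhds]
  intro y hy
  let 𝒰 := Y.affineOpenCover
  obtain ⟨p, hp⟩ := 𝒰.covers y
  let B : Type u := 𝒰.X (𝒰.idx y)
  let ι : Spec (CommRingCat.of B) ⟶ Y := 𝒰.f (𝒰.idx y)
  haveI : IsOpenImmersion ι := 𝒰.map_prop _
  haveI : IsNoetherianRing B := by
    have h1 : IsLocallyNoetherian (Spec (CommRingCat.of B)) :=
      isLocallyNoetherian_of_isOpenImmersion ι
    exact isLocallyNoetherian_Spec.mp h1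
  let T : Set (PrimeSpectrum B) := ι ⁻¹' S
  have hTo : IsOpen T := hS.preimage ι.continuous
  have hTs : StableUnderSpecialization T := hS'.preimage ι.continuous
  have hTc : IsCompact T := TopologicalSpace.NoetherianSpace.isCompact T
  have hTcl : IsClosed T :=
    PrimeSpectrum.isClosed_of_stableUnderSpecialization_of_isConstructible hTs
      (hTc.isConstructible hTo)
  have hopen : IsOpen (ι '' Tᶜ) := ι.isOpenEmbedding.isOpenMap _ hTcl.isOpen_compl
  refine Filter.mem_of_superset (hopen.mem_nhds ⟨p, ?_, hp⟩) ?_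
  · intro hpT
    apply hy
    have : ι p ∈ S := hpT
    rwa [show ι p = y from hp] at this
  · rintro _ ⟨q, hq, rfl⟩
    exact hq

/-- points of the closure of a point where `f = g` locally still satisfy `f x' = g x'`. -/
theorem apply_eq_of_specializes {S P Z : Scheme.{u}} (sZ : Z ⟶ S) [IsSeparated sZ]
    (f g : P ⟶ Z) (hfg : f ≫ sZ = g ≫ sZ) {x x' : P} (hx : x ⤳ x')
    (U : P.Opens) (hxU : x ∈ U) (hU : U.ι ≫ f = U.ι ≫ g) : f x' = g x' := by
  let X' : Over S := Over.mk (f ≫ sZ)
  let Y' : Over S := Over.mk sZ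
  let f' : X' ⟶ Y' := Over.homMk f
  let g' : X' ⟶ Y' := Over.homMk g hfg.symm
  have : IsSeparated Y'.hom := ‹_›
  let e : (equalizer f' g').left ⟶ P := (equalizer.ι f' g').left
  have he : IsClosedImmersion e := inferInstance
  have hcond : e ≫ f = e ≫ g := congr($(equalizer.condition f' g').left)
  have hxr : x ∈ Set.range e := by
    let U' : Over S := Over.mk (U.ι ≫ f ≫ sZ)
    let ι' : U' ⟶ X' := Over.homMk U.ι
    have hι : ι' ≫ f' = ι' ≫ g' := by
      ext1
      exact hU
    have hl : (equalizer.lift ι' hι).left ≫ e = U.ι := by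
      rw [← Over.comp_left, equalizer.lift_ι]
      rfl
    let xU : ↥U.toScheme := ⟨x, hxU⟩
    let l : U.toScheme ⟶ (equalizer f' g').left := (equalizer.lift ι' hι).left
    have hl' : l ≫ e = U.ι := hl
    refine ⟨l xU, ?_⟩
    rw [← Scheme.Hom.comp_apply, hl']
    rfl
  have hcl : IsClosed (Set.range e) := e.isClosedEmbedding.isClosed_range
  have hx' : x' ∈ Set.range e := hx.mem_closed hcl hxr
  obtain ⟨w, rfl⟩ := hx'
  rw [← Scheme.Hom.comp_apply, ← Scheme.Hom.comp_apply, hcond]


/-- **Rigidity lemma for anti-affine schemes.** Let `X` be a qcqs scheme over a field `K` with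
`Γ(X) = K`, `Y` a connected locally noetherian `K`-scheme, `Z` a separated `K`-scheme and
`f : X ×_K Y ⟶ Z` a `K`-morphism contracting one fibre `X × {y₀}` to a point. If `σ` is a section
of the second projection then `f = p₂ ≫ σ ≫ f`. -/
theorem rigidity {K : Type u} [Field K] {X Y Z : Scheme.{u}}
    (sX : X ⟶ Spec (CommRingCat.of K)) (sY : Y ⟶ Spec (CommRingCat.of K))
    (sZ : Z ⟶ Spec (CommRingCat.of K)) [IsSeparated sZ]
    [CompactSpace X] [QuasiSeparatedSpace X] (hX : IsIso sX.appTop) [IsLocallyNoetherian Y]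
    [PreconnectedSpace Y]
    (f : pullback sX sY ⟶ Z) (hf : f ≫ sZ = pullback.snd sX sY ≫ sY)
    (σ : Y ⟶ pullback sX sY) (hσ : σ ≫ pullback.snd sX sY = 𝟙 Y)
    (y₀ : Y) (hy₀ : ∀ x : ↥(pullback sX sY), pullback.snd sX sY x = y₀ → f x = f (σ y₀)) :
    f = pullback.snd sX sY ≫ σ ≫ f := by
  set g : pullback sX sY ⟶ Z := pullback.snd sX sY ≫ σ ≫ f with hg
  have hfg : f ≫ sZ = g ≫ sZ := by
    rw [hg, Category.assoc, Category.assoc, hf, ← Category.assoc σ, hσ, Category.id_comp]
  have hσfg : σ ≫ f = σ ≫ g := by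
    rw [hg, ← Category.assoc, hσ, Category.id_comp]
  have hgx : ∀ x : ↥(pullback sX sY), g x = f (σ (pullback.snd sX sY x)) := by
    intro x
    rw [hg, Scheme.Hom.comp_apply, Scheme.Hom.comp_apply]
  let GoodPt : ↥(pullback sX sY) → Prop := fun x =>
    ∃ U : (pullback sX sY).Opens, x ∈ U ∧ U.ι ≫ f = U.ι ≫ g
  let S : Set Y := {y | ∃ V : Y.Opens, y ∈ V ∧ ∀ x : ↥(pullback sX sY),
    pullback.snd sX sY x ∈ V → GoodPt x}
  have hSopen : IsOpen S := by
    rw [isOpen_iff_forall_mem_open]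
    rintro y ⟨V, hyV, hV⟩
    exact ⟨V, fun y' hy' => ⟨V, hy', hV⟩, V.2, hyV⟩
  have hlocal : ∀ y : Y, (∀ x : ↥(pullback sX sY), pullback.snd sX sY x = y → f x = g x) →
      y ∈ S := by
    intro y hy
    refine good_of_fibre sX sY sZ hX f g hfg σ hσ hσfg y (f (σ y)) ?_ ?_
    · intro x hx
      rw [hy x hx, hgx, hx]
    · intro x hx
      rw [hgx, hx]
  have hy₀S : y₀ ∈ S := by
    apply hlocal
    intro x hx
    rw [hgx, hx]
    exact hy₀ x hx
  have hSspec : StableUnderSpecialization S := by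
    intro y y' hyy' hyS
    apply hlocal
    intro x' hx'
    obtain ⟨V, hyV, hV⟩ := hyS
    have hgen : GeneralizingMap (pullback.snd sX sY) := Flat.generalizingMap _
    have hyy'' : y ⤳ pullback.snd sX sY x' := by rw [hx']; exact hyy'
    obtain ⟨x, hxx', hxy⟩ := hgen hyy''
    obtain ⟨U, hxU, hU⟩ := hV x (by rw [hxy]; exact hyV)
    exact apply_eq_of_specializes sZ f g hfg hxx' U hxU hU
  have hSclosed : IsClosed S := isClosed_of_isOpen_of_stableUnderSpecialization S hSopen hSspec
  have hSuniv : S = Set.univ := IsClopen.eq_univ ⟨hSclosed, hSopen⟩ ⟨y₀, hy₀S⟩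
  apply Scheme.hom_ext_of_forall
  intro x
  have hx : pullback.snd sX sY x ∈ S := by rw [hSuniv]; trivial
  obtain ⟨V, hyV, hV⟩ := hx
  exact hV x hyV

end Groth.Agent.Lib.Helper4.AntiAffRigid
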