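import Groth.Agent.Lib.Helper4.GPStab2
import Groth.Agent.Lib.Helper23.ProjF.ProjMap
import Groth.Agent.Lib.Helper2.Dual9
set_option autoImplicit false
set_option backward.isDefEq.respectTransparency.types false
set_option linter.style.haveILetI false

universe u
open CategoryTheory CategoryTheory.Limits AlgebraicGeometry Opposite

namespace Groth.Agent.Lib.Helper4.GPEnd
open Groth.Agent.Lib.Helper28.TensorGen Groth.Agent.Lib.Helper28.QCohLoc Groth.Agent.Lib.Helper2.HomExt

variable {X : Scheme.{u}}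

theorem tmul_eq_tmulSec (M N : X.Modules) (W : X.Opens) (m : Γ(M, W)) (n : Γ(N, W)) :
    SecTwist.tmul M N W m n = tmulSec M N m n := rfl

/-- tensoring multiplication by a global function -/
theorem tensorMap_smulHom (E N : X.Modules) (γ : Γ(X, ⊤)) :
    KoszTw.tensorMap (smulHom E γ) (𝟙 N) = smulHom (CohB1.tensorMod E N) γ := by
  apply Groth.Agent.Lib.Helper23.ProjF.tensorMod_hom_ext
  intro W m n
  rw [← tmul_eq_tmulSec, KoszTw.tensorMap_tmul, smulHom_app, smulHom_app, tmul_eq_tmulSec, tmul_eq_tmulSec,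
    tmulSec_smul_left]
  rfl



open Groth.Agent.Lib.Helper4.EndScalar Groth.Agent.Lib.Helper4.GPKer Groth.Agent.Lib.Helper4.GPStab
  Groth.Agent.Lib.Helper4.CurveVB AlgebraicGeometry.Scheme.Modules

variable (k : Type u) [Field k] (X : Scheme.{u}) [X.Over (Spec (CommRingCat.of k))]

theorem HHlin_smulHom (M : X.Modules) (c : k) (p : ℕ) (v : Coh.HH X M p) :
    Canon.HHlin k (smulHom M (Coh.toGlobal (X ↘ Spec (CommRingCat.of k)) c)) p v = c • v := by
  change Sheaf.H.map ((SheafOfModules.toSheaf X.ringCatSheaf).map (smulHom M _)) p v =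
    Sheaf.H.map (Coh.smulAb M _) p v
  rw [toSheaf_map_smulHom]
  rfl

theorem fibDMap_smulHom (I : X.IdealSheafData) (E : X.Modules) (c : k) (v : ParSh.fibD X I E) :
    ParSh.fibDMap k X I (smulHom E (Coh.toGlobal (X ↘ Spec (CommRingCat.of k)) c)) v = c • v := by
  unfold ParSh.fibDMap ParSh.resDMap
  rw [tensorMap_smulHom]
  exact HHlin_smulHom k X _ c 0 v

theorem fibDMap_sub (I : X.IdealSheafData) {E F : X.Modules} (f g : E ⟶ F) (v : ParSh.fibD X I E) :
    ParSh.fibDMap k X I (f - g) v = ParSh.fibDMap k X I f v - ParSh.fibDMap k X I g v := by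
  unfold ParSh.fibDMap
  have h : ParSh.resDMap I (f - g) = ParSh.resDMap I f - ParSh.resDMap I g := by
    have h' : (DCoh.tensorBi.map (f - g)).app (ClSub.quotMod I) =
        (DCoh.tensorBi.map f).app (ClSub.quotMod I) - (DCoh.tensorBi.map g).app (ClSub.quotMod I) := by
      rw [Functor.map_sub, NatTrans.app_sub]
    rw [KoszTw.tensorBi_map_app, KoszTw.tensorBi_map_app, KoszTw.tensorBi_map_app] at h'
    exact h'
  rw [h]
  exact Groth.Agent.Lib.Helper2.Dual9.HHlin_sub_apply _ _ 0 v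

/-- GP endomorphisms are stable under subtracting scalars -/
theorem isGPHom_sub_smulHom (I : X.IdealSheafData) {E : X.Modules} (F₁ : Submodule k (ParSh.fibD X I E))
    (f : E ⟶ E) (hf : ParSh.IsGPHom k X I F₁ F₁ f) (c : k) :
    ParSh.IsGPHom k X I F₁ F₁ (f - smulHom E (Coh.toGlobal (X ↘ Spec (CommRingCat.of k)) c)) := by
  rintro _ ⟨v, hv, rfl⟩
  rw [fibDMap_sub, fibDMap_smulHom]
  exact F₁.sub_mem (hf ⟨v, hv, rfl⟩) (F₁.smul_mem c hv)



variable [IsAlgClosed k] [IsProper (X ↘ (Spec (CommRingCat.of k)))]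

omit [IsProper (X ↘ (Spec (CommRingCat.of k)))] in
/-- abstract form of `End = k`, pointwise: if `φ - c` is invertible whenever it is nonzero, `φ` is a scalar -/
theorem endomorphism_eq_smulHom_of_sub_isIso [LocallyOfFiniteType (X ↘ (Spec (CommRingCat.of k)))]
    (E : X.Modules) (hEc : Coh.IsCoh E) (h0 : ¬ IsZero E) (φ : E ⟶ E)
    (hiso : ∀ c : k, φ - smulHom E (Coh.toGlobal (X ↘ Spec (CommRingCat.of k)) c) ≠ 0 →
      IsIso (φ - smulHom E (Coh.toGlobal (X ↘ Spec (CommRingCat.of k)) c))) :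
    ∃ c : k, φ = smulHom E (Coh.toGlobal (X ↘ Spec (CommRingCat.of k)) c) := by
  obtain ⟨U, hU, hnt⟩ := exists_affine_nontrivial E h0
  haveI := hnt
  haveI : E.IsQuasicoherent := hEc.1
  haveI : SheafOfModules.IsFiniteType (R := X.ringCatSheaf) E := hEc.2
  haveI : Module.Finite Γ(X, U) Γ(E, U) := Groth.Agent.Lib.Helper28.FinType.finite_of_isAffineOpen E hU
  let φU : Γ(E, U) →ₗ[Γ(X, U)] Γ(E, U) :=
    { toFun := φ.app U, map_add' := map_add _, map_smul' := fun r x => Hom.app_smul φ r x }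
  obtain ⟨c, hc⟩ := exists_not_surjective_sub (ρU k U) (ρU_finiteType k U hU) φU
  refine ⟨c, ?_⟩
  by_contra hne
  set ψ := φ - smulHom E (Coh.toGlobal (X ↘ Spec (CommRingCat.of k)) c) with hψ
  have hψ0 : ψ ≠ 0 := fun h => hne (sub_eq_zero.1 h)
  haveI := hiso c hψ0
  have hbij : Function.Bijective (ψ.app U) := (ConcreteCategory.isIso_iff_bijective (ψ.app U)).1 inferInstance
  apply hc
  intro y
  obtain ⟨x, hx⟩ := hbij.2 y
  refine ⟨x, ?_⟩
  rw [← hx]
  show φ.app U x - ρU k U c • x = ψ.app U x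
  rw [hψ, Hom.sub_app]
  show _ = φ.app U x - (smulHom E _).app U x
  rw [smulHom_app]
  rfl

variable [IsIntegral X] [Smooth (X ↘ Spec (CommRingCat.of k))]

/-- **S18567** -/
theorem endomorphism_scalar (hdim : topologicalKrullDim X = 1)
    (I : X.IdealSheafData) (hD : FGA.IsEffCartier I) (α : ℝ) (hα0 : 0 ≤ α) (hα1 : α < 1)
    {E : X.Modules} (n : ℕ) (hn : 0 < n) (hE : FlatMod.IsFinLocFreeOfRank n E)
    (F₁ : Submodule k (ParSh.fibD X I E))
    (hEss : ParSh.IsGPSemistable k X I α F₁ n) (hEst : ParSh.IsGPStable k X I α F₁ n)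
    (f : E ⟶ E) (hf : ParSh.IsGPHom k X I F₁ F₁ f) :
    ∃ c : k, (SheafOfModules.toSheaf X.ringCatSheaf).map f =
      Coh.smulAb E (Coh.toGlobal (X ↘ Spec (CommRingCat.of k)) c) := by
  have hEc := Groth.Agent.Lib.Helper8.CurveTensor.isCoh_of_isFinLocFreeOfRank E hE
  have h0 : ¬ IsZero E := not_isZero_of_rank_pos hn hE
  obtain ⟨c, hc⟩ := endomorphism_eq_smulHom_of_sub_isIso k X E hEc h0 f (fun c hne => by
    rcases eq_zero_or_isIso k X hdim I hD α hα0 hα1 n n hn hn hE hE F₁ F₁ hEss hEst hEss hEst rfl _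
      (isGPHom_sub_smulHom k X I F₁ f hf c) with h | h
    · exact absurd h hne
    · exact h.1)
  refine ⟨c, ?_⟩
  rw [hc]
  exact toSheaf_map_smulHom E _

end Groth.Agent.Lib.Helper4.GPEnd
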