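import Groth.Agent.Lib.Helper23.ProjF.ProjMap
import Groth.Agent.Lib.Helper28.TensorGen
import Groth.Agent.Lib.Helper28.QCohGlobal
import Groth.Agent.Lib.Helper28.GenLocus
import Groth.Agent.Lib.Helper17.GGStalk
import Groth.Agent.Lib.Helper28.AmpleSep
import Groth.Agent.Lib.Helper4.GPEnd
import Groth.Prelude.Def_KoszTw
set_option autoImplicit false
set_option backward.isDefEq.respectTransparency.types false
set_option linter.unusedSectionVars false
set_option linter.style.haveILetI false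

universe u
open CategoryTheory CategoryTheory.Limits AlgebraicGeometry Opposite TopologicalSpace

noncomputable section
namespace Groth.Agent.Lib.Helper4.CM1
open Groth.Agent.Lib.Helper28.TensorGen Groth.Agent.Lib.Helper28.QCohLoc Groth.Agent.Lib.Helper28.GenLocus
  Groth.Agent.Lib.Helper4.GPEnd

variable {X : Scheme.{u}}

/-- the unit section of `O` over `U` -/
abbrev one (U : X.Opens) : Γ(Coh.structureModule X, U) := (1 : Γ(X, U))

theorem unitorR_hom_app (N : X.Modules) (U : X.Opens) (n : Γ(N, U)) (r : Γ(X, U)) :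
    (SecTwist.unitorR N).hom.app U (tmulSec N (Coh.structureModule X) n (show Γ(Coh.structureModule X, U) from r)) =
      (r • n : Γ(N, U)) :=
  SecTwist.unitorR_tmul N U n r

theorem unitorR_inv_app (N : X.Modules) (U : X.Opens) (n : Γ(N, U)) :
    (SecTwist.unitorR N).inv.app U n = tmulSec N (Coh.structureModule X) n (one U) := by
  have h1 := unitorR_hom_app N U n 1
  rw [one_smul] at h1
  have h2 : (SecTwist.unitorR N).inv.app U ((SecTwist.unitorR N).hom.app U
      (tmulSec N (Coh.structureModule X) n (one U))) = tmulSec N (Coh.structureModule X) n (one U) :=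
    congrArg (fun φ : CohB1.tensorMod N (Coh.structureModule X) ⟶ CohB1.tensorMod N (Coh.structureModule X) =>
      φ.app U (tmulSec N (Coh.structureModule X) n (one U))) (SecTwist.unitorR N).hom_inv_id
  rw [← h2]
  congr 1
  exact h1.symm

/-- right multiplication by a section `s` of `A`: `N ⟶ N ⊗ A` -/
def mulR {A : X.Modules} (s : Coh.structureModule X ⟶ A) (N : X.Modules) : N ⟶ CohB1.tensorMod N A :=
  (SecTwist.unitorR N).inv ≫ KoszTw.tensorMap (𝟙 N) s

theorem mulR_app {A : X.Modules} (s : Coh.structureModule X ⟶ A) (N : X.Modules) (U : X.Opens) (n : Γ(N, U)) :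
    (mulR s N).app U n = tmulSec N A n (s.app U (one U)) := by
  show (KoszTw.tensorMap (𝟙 N) s).app U ((SecTwist.unitorR N).inv.app U n) = _
  rw [unitorR_inv_app, ← tmul_eq_tmulSec, KoszTw.tensorMap_tmul]
  rfl


theorem hom_ext_app {F G : X.Modules} (φ ψ : F ⟶ G)
    (h : ∀ (U : X.Opens) (x : Γ(F, U)), φ.app U x = ψ.app U x) : φ = ψ := by
  apply Scheme.Modules.hom_ext
  intro U
  ext x
  exact h U x

theorem tensorMap_tmulSec {M M' N N' : X.Modules} (f : M ⟶ M') (g : N ⟶ N') (U : X.Opens) (m : Γ(M, U))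
    (n : Γ(N, U)) :
    (KoszTw.tensorMap f g).app U (tmulSec M N m n) = tmulSec M' N' (f.app U m) (g.app U n) :=
  KoszTw.tensorMap_tmul f g U m n

/-- `mulR s` is natural -/
theorem mulR_naturality {A : X.Modules} (s : Coh.structureModule X ⟶ A) {N N' : X.Modules} (f : N ⟶ N') :
    f ≫ mulR s N' = mulR s N ≫ KoszTw.tensorMap f (𝟙 A) := by
  apply hom_ext_app
  intro U n
  show (mulR s N').app U (f.app U n) = (KoszTw.tensorMap f (𝟙 A)).app U ((mulR s N).app U n)
  rw [mulR_app, mulR_app, tensorMap_tmulSec]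
  rfl

/-- restriction of the section named by `s` -/
theorem res_app_one {A : X.Modules} (s : Coh.structureModule X ⟶ A) {U V : X.Opens} (h : V ≤ U) :
    res A h (s.app U (one U)) = s.app V (one V) := by
  rw [← app_res]
  congr 1
  exact map_one (X.presheaf.map (homOfLE h).op).hom

/-- **the swap identity** for an invertible module `A`: `(n ⊗ s) ⊗ a = (n ⊗ a) ⊗ s` -/
theorem tensorMap_mulR {A : X.Modules} (hA : PicF.IsInvertible A) (s : Coh.structureModule X ⟶ A)
    (N : X.Modules) :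
    KoszTw.tensorMap (mulR s N) (𝟙 A) = mulR s (CohB1.tensorMod N A) := by
  apply Groth.Agent.Lib.Helper23.ProjF.tensorMod_hom_ext
  intro W n a
  rw [tensorMap_tmulSec, mulR_app, mulR_app]
  show tmulSec (CohB1.tensorMod N A) A (tmulSec N A n (s.app W (one W))) a =
    tmulSec (CohB1.tensorMod N A) A (tmulSec N A n a) (s.app W (one W))
  choose U g hxU hg using fun x : X => exists_isGen A hA x
  refine eq_of_locally_eq (M := CohB1.tensorMod (CohB1.tensorMod N A) A) (fun x : X => W ⊓ U x) W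
    (fun x => inf_le_left) (fun x hx => Opens.mem_iSup.2 ⟨x, hx, hxU x⟩) _ _ (fun x => ?_)
  obtain ⟨α, hα⟩ := (hg x (W ⊓ U x) inf_le_right).2 (res A (inf_le_left : W ⊓ U x ≤ W) a)
  obtain ⟨β, hβ⟩ := (hg x (W ⊓ U x) inf_le_right).2 (s.app (W ⊓ U x) (one (W ⊓ U x)))
  simp only at hα hβ
  rw [tmulSec_res, tmulSec_res, tmulSec_res, tmulSec_res, res_app_one, ← hα, ← hβ]
  rw [tmulSec_smul_right, tmulSec_smul_right, tmulSec_smul_left, tmulSec_smul_right, tmulSec_smul_right,
    tmulSec_smul_left, smul_smul, smul_smul, mul_comm]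


/-- on a quasi-compact scheme, a globally generated invertible module is generated by finitely many sections -/
theorem exists_fin_sections [CompactSpace X] {A : X.Modules} (hA : PicF.IsInvertible A)
    (hgg : Curv2.IsGloballyGenerated A) :
    ∃ (r : ℕ) (s : Fin r → (Coh.structureModule X ⟶ A)), ∀ x : X, ∃ i, x ∈ CohB1.genLocus A (s i) := by
  choose T hT using fun x : X => Groth.Agent.Lib.Helper17.GGStalk.exists_mem_genLocus A hA hgg x
  obtain ⟨t, ht⟩ := isCompact_univ.elim_finite_subcover (fun x : X => (CohB1.genLocus A (T x) : Set X))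
    (fun x => (CohB1.genLocus A (T x)).isOpen) (fun x _ => Set.mem_iUnion.2 ⟨x, hT x⟩)
  refine ⟨t.card, fun i => T (t.equivFin.symm i).1, fun x => ?_⟩
  obtain ⟨y, hy, hxy⟩ := Set.mem_iUnion₂.1 (ht (Set.mem_univ x))
  refine ⟨t.equivFin ⟨y, hy⟩, ?_⟩
  show x ∈ CohB1.genLocus A (T (t.equivFin.symm (t.equivFin ⟨y, hy⟩)).1)
  rw [Equiv.symm_apply_apply]
  exact hxy

/-- the right multiplications by a generating family of sections generate `N ⊗ A` locally -/
theorem locGen_mulR {A : X.Modules} {ι : Type*} (s : ι → (Coh.structureModule X ⟶ A))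
    (hs : ∀ x : X, ∃ i, x ∈ CohB1.genLocus A (s i)) (N : X.Modules) :
    LocGen (fun i => mulR (s i) N) := by
  intro U t pt hpt
  obtain ⟨V₁, hV₁, hptV₁, z, hz⟩ := exists_ηT_eq N A t pt hpt
  suffices hP : ∀ pt' : X, pt' ∈ V₁ → ∃ (V : X.Opens) (hV : V ≤ V₁), pt' ∈ V ∧
      res (CohB1.tensorMod N A) hV ((ηT N A).app (op V₁) z) ∈ genRange (fun i => mulR (s i) N) V by
    obtain ⟨V, hV, hptV, hmem⟩ := hP pt hptV₁
    refine ⟨V, hV.trans hV₁, hptV, ?_⟩
    rw [hz, res_res] at hmem
    exact hmem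
  clear hz hptV₁ hpt pt
  induction z using TensorProduct.induction_on with
  | zero =>
    intro pt' hpt'
    refine ⟨V₁, le_rfl, hpt', ?_⟩
    have h0 : (ηT N A).app (op V₁) 0 = 0 := map_zero ((ηT N A).app (op V₁)).hom
    have h1 : res (CohB1.tensorMod N A) (le_refl V₁) ((ηT N A).app (op V₁) 0) = 0 :=
      (congrArg (res (CohB1.tensorMod N A) (le_refl V₁)) h0).trans (res_zero _ _)
    exact h1 ▸ zero_mem _
  | tmul n a =>
    intro pt' hpt'
    obtain ⟨i, hi⟩ := hs pt'
    refine ⟨V₁ ⊓ CohB1.genLocus A (s i), inf_le_left, ⟨hpt', hi⟩, ?_⟩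
    have h1 : res (CohB1.tensorMod N A) (inf_le_left : V₁ ⊓ CohB1.genLocus A (s i) ≤ V₁)
        ((ηT N A).app (op V₁) (n ⊗ₜ a)) =
        tmulSec N A (res N inf_le_left n) (res A inf_le_left a) := tmulSec_res N A inf_le_left n a
    rw [h1]
    obtain ⟨c, hc⟩ := (bijective_app_of_le_genLocus (s i)
      (V₁ ⊓ CohB1.genLocus A (s i)) inf_le_right).2 (res A inf_le_left a)
    have hc' : res A (inf_le_left : V₁ ⊓ CohB1.genLocus A (s i) ≤ V₁) a =
        ((show Γ(X, V₁ ⊓ CohB1.genLocus A (s i)) from c) • (s i).app _ (one _) :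
          Γ(A, V₁ ⊓ CohB1.genLocus A (s i))) := by
      have e1 := app_eq_smul (s i) (V₁ ⊓ CohB1.genLocus A (s i)) c
      have e2 := app_eq_smul (s i) (V₁ ⊓ CohB1.genLocus A (s i)) 1
      rw [one_smul] at e2
      rw [← hc]
      exact e1.trans (congrArg (fun y => ((show Γ(X, V₁ ⊓ CohB1.genLocus A (s i)) from c) • y :
        Γ(A, V₁ ⊓ CohB1.genLocus A (s i)))) e2.symm)
    rw [hc', tmulSec_smul_right, ← tmulSec_smul_left, ← mulR_app]
    exact app_mem_genRange (fun i => mulR (s i) N) _ i _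
  | add z z' hz hz' =>
    intro pt' hpt'
    obtain ⟨V, hV, hptV, hm⟩ := hz pt' hpt'
    obtain ⟨V', hV', hptV', hm'⟩ := hz' pt' hpt'
    refine ⟨V ⊓ V', inf_le_left.trans hV, ⟨hptV, hptV'⟩, ?_⟩
    have h0 : (ηT N A).app (op V₁) (z + z') = (ηT N A).app (op V₁) z + (ηT N A).app (op V₁) z' :=
      map_add ((ηT N A).app (op V₁)).hom z z'
    have h1 : res (CohB1.tensorMod N A) (inf_le_left.trans hV : V ⊓ V' ≤ V₁) ((ηT N A).app (op V₁) (z + z')) =
        res (CohB1.tensorMod N A) (inf_le_left.trans hV : V ⊓ V' ≤ V₁) ((ηT N A).app (op V₁) z) +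
        res (CohB1.tensorMod N A) (inf_le_left.trans hV : V ⊓ V' ≤ V₁) ((ηT N A).app (op V₁) z') :=
      (congrArg (res (CohB1.tensorMod N A) (inf_le_left.trans hV : V ⊓ V' ≤ V₁)) h0).trans (res_add _ _ _ _)
    refine h1 ▸ add_mem ?_ ?_
    · have := res_mem_genRange (fun i => mulR (s i) N) (inf_le_left : V ⊓ V' ≤ V) hm
      rwa [res_res] at this
    · have := res_mem_genRange (fun i => mulR (s i) N) (inf_le_right : V ⊓ V' ≤ V') hm'
      rwa [res_res] at this

/-- `⨁ N ⟶ N ⊗ A` given by right multiplication by a generating family is an epimorphism -/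
theorem epi_desc_mulR {A : X.Modules} {r : ℕ} (s : Fin r → (Coh.structureModule X ⟶ A))
    (hs : ∀ x : X, ∃ i, x ∈ CohB1.genLocus A (s i)) (N : X.Modules) :
    Epi (biproduct.desc (fun i : Fin r => mulR (s i) N)) := by
  have h1 := (locGen_mulR s hs N).epi_desc
  have h2 : biproduct.desc (fun i : Fin r => mulR (s i) N) =
      (biproduct.isoCoproduct (fun _ : Fin r => N)).hom ≫ Sigma.desc (fun i : Fin r => mulR (s i) N) := by
    apply biproduct.hom_ext'
    intro j
    rw [biproduct.ι_desc, biproduct.isoCoproduct_hom, biproduct.ι_desc_assoc, Sigma.ι_desc]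
  rw [h2]
  exact epi_comp _ _

end Groth.Agent.Lib.Helper4.CM1
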