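import Groth.Agent.Lib.Helper4.RV3
import Groth.Agent.Lib.Helper8.GGPoint
import Groth.Agent.Lib.Helper28.PullbackInv2
import Groth.Agent.Lib.Helper4.CM1
set_option autoImplicit false
set_option backward.isDefEq.respectTransparency.types false
set_option linter.unusedSectionVars false
set_option linter.style.haveILetI false
universe u
open CategoryTheory CategoryTheory.Limits AlgebraicGeometry Opposite TopologicalSpace

noncomputable section
namespace Groth.Agent.Lib.Helper4.RV4

open Groth.Agent.Lib.lead.FibOne Groth.Agent.Lib.Helper21.FibVan Groth.Agent.Lib.Helper2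
  Groth.Agent.Lib.Helper2.HomExt Groth.Agent.Lib.Helper2.GSplit2 Groth.Agent.Lib.Helper4.RV1
  Groth.Agent.Lib.Helper4.RV2 Groth.Agent.Lib.Helper4.RV3 Groth.Agent.Lib.Helper23.ProjF
  Groth.Agent.Lib.Helper28.TensorGen Groth.Agent.Lib.Helper28.QCohLoc Groth.Agent.Lib.Helper17.CohKer
  Groth.Agent.Lib.Helper28.GenLocus Groth.Agent.Lib.Helper28 Groth.Agent.Lib.Helper4.CM1
  Groth.Agent.Lib.Helper28.PullbackInv

variable {X Z : Scheme.{u}} {k : Z ⟶ X} {R : Type u} [CommRing R] {ρ : R →+* Γ(X, ⊤)} {m : Ideal R}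

set_option maxHeartbeats 1600000 in
/-- the kernel of `E ⊗ O ⟶ E ⊗ k_* O_Z` has no `H^d` when `E ⊗ O` has none -/
theorem subsingleton_HH_kernel_tensor [IsAffineHom k] [CompactSpace X] [QuasiSeparatedSpace X]
    (h : IsClosedFibre k ρ m) (E : X.Modules) [E.IsQuasicoherent] (d : ℕ)
    (hvan : ∀ K : X.Modules, K.IsQuasicoherent → Subsingleton (Coh.HH X K (d + 1)))
    (hE0 : Subsingleton (Coh.HH X ((TL E).obj (Coh.structureModule X)) d)) :
    Subsingleton (Coh.HH X (kernel ((TL E).map (unitPush k))) d) := by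
  classical
  haveI : (Coh.structureModule X).IsQuasicoherent := inferInstance
  haveI : (Coh.structureModule Z).IsQuasicoherent := inferInstance
  haveI : (PM k (Coh.structureModule Z)).IsQuasicoherent := isQuasicoherent_pushforward k _
  haveI hu := epi_unitPush h
  haveI hD := epi_descLam h
  haveI hJ : (kernel (unitPush k)).IsQuasicoherent := isQuasicoherent_kernel _
  haveI : (∐ fun _ : m => Coh.structureModule X).IsQuasicoherent :=
    Groth.Agent.Lib.Helper16.QCohSigma.isQuasicoherent_sigma _
  let S : ShortComplex X.Modules :=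
    ShortComplex.mk (kernel.ι (unitPush k)) (unitPush k) (kernel.condition (unitPush k))
  have hS : S.ShortExact :=
    ShortComplex.ShortExact.mk' (ShortComplex.kernelSequence_exact (unitPush k))
      (inferInstanceAs (Mono (kernel.ι (unitPush k)))) (inferInstanceAs (Epi (unitPush k)))
  have hex := (Functor.preservesFiniteColimits_iff_forall_exact_map_and_epi (TL E)).1 inferInstance S hS
  have hw : (TL E).map (kernel.ι (unitPush k)) ≫ (TL E).map (unitPush k) = 0 := by
    rw [← Functor.map_comp, kernel.condition, Functor.map_zero]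
  haveI hl : Epi (kernel.lift ((TL E).map (unitPush k)) ((TL E).map (kernel.ι (unitPush k))) hw) :=
    (ShortComplex.exact_iff_epi_kernel_lift (S.map (TL E))).1 hex.1
  haveI : Epi ((TL E).map (descLam h)) := inferInstance
  let c' := (TL E).map (descLam h) ≫
    kernel.lift ((TL E).map (unitPush k)) ((TL E).map (kernel.ι (unitPush k))) hw
  haveI : Epi c' := epi_comp _ _
  haveI : (kernel ((TL E).map (unitPush k))).IsQuasicoherent := isQuasicoherent_kernel _
  have hK : (kernel c').IsQuasicoherent := isQuasicoherent_kernel _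
  let f : m → X.Modules := fun _ => Coh.structureModule X
  let c : (TL E).obj (∐ f) ≅ ∐ fun a : m => (TL E).obj (f a) := PreservesCoproduct.iso (TL E) f
  let tS := SheafOfModules.toSheaf X.ringCatSheaf
  refine ⟨fun a b => ?_⟩
  have key : ∀ j : Coh.HH X (kernel ((TL E).map (unitPush k))) d, j = 0 := by
    intro j
    obtain ⟨w, hw'⟩ := surjective_HH_of_epi c' d (hvan _ hK) j
    obtain ⟨σ, y, hsum⟩ := Groth.Agent.Lib.Helper17.SigmaHH.exists_finset_sum_HH X
      (fun a : m => (TL E).obj (f a)) d (Sheaf.H.map (tS.map c.hom) d w)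
    have hy : ∀ a, y a = 0 := fun a => @Subsingleton.elim _ hE0 _ _
    have h0 : Sheaf.H.map (tS.map c.hom) d w = 0 := by
      rw [hsum]
      refine Finset.sum_eq_zero fun a _ => ?_
      rw [hy a, map_zero]
      rfl
    have hw0 : w = 0 := by
      have h1 : Sheaf.H.map (tS.map c.inv) d (Sheaf.H.map (tS.map c.hom) d w) = w := by
        refine (Sheaf.H.map_comp_apply _ _ w).symm.trans ?_
        have h2 : tS.map c.hom ≫ tS.map c.inv = 𝟙 _ :=
          (Functor.map_comp _ _ _).symm.trans
            ((congrArg (fun θ => tS.map θ) c.hom_inv_id).trans (CategoryTheory.Functor.map_id _ _))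
        refine (congrArg (fun θ => Sheaf.H.map θ d w) h2).trans ?_
        exact Sheaf.H.map_id_apply _
      rw [← h1, h0, map_zero]
    rw [← hw', hw0, map_zero]
  rw [key a, key b]

/-- the comparison `L ⊗ O ⟶ k_* k^* L` -/
def Φ (k : Z ⟶ X) (L : X.Modules) (hL : PicF.IsInvertible L) :
    (TL L).obj (Coh.structureModule X) ⟶ PM k ((Scheme.Modules.pullback k).obj L) :=
  (TL L).map (unitPush k) ≫ (tensorPushIso k L hL).hom

theorem Φ_tmulSec (k : Z ⟶ X) (L : X.Modules) (hL : PicF.IsInvertible L) (W : X.Opens) (e : Γ(L, W))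
    (c : Γ(X, W)) :
    toM k _ W ((Φ k L hL).app W (tmulSec L (Coh.structureModule X) e (show Γ(Coh.structureModule X, W) from c))) =
      ((k.app W).hom c • pbs k L W e : Γ((Scheme.Modules.pullback k).obj L, k ⁻¹ᵁ W)) := by
  unfold Φ tensorPushIso
  simp only [Iso.trans_hom, asIso_hom, Functor.mapIso_hom]
  show toM k _ W (((Scheme.Modules.pushforward k).map (SecTwist.unitorR ((Scheme.Modules.pullback k).obj L)).hom).app W
    ((projMap k L (Coh.structureModule Z)).app W (((TL L).map (unitPush k)).app W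
      (tmulSec L (Coh.structureModule X) e (show Γ(Coh.structureModule X, W) from c))))) = _
  rw [TL_map_tmulSec, projMap_tmulSec]
  unfold β
  have h1 := unitorR_hom_app ((Scheme.Modules.pullback k).obj L) (k ⁻¹ᵁ W) (pbs k L W e)
    (show Γ(Z, k ⁻¹ᵁ W) from toM k (Coh.structureModule Z) W ((unitPush k).app W
      (show Γ(Coh.structureModule X, W) from c)))
  refine h1.trans ?_
  congr 1
  exact toM_unitPush k W c

set_option maxHeartbeats 1600000 in
/-- **sections of `k^* L` on the closed fibre lift to sections of `L`** -/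
theorem exists_section_pbSec [IsAffineHom k] [CompactSpace X] [QuasiSeparatedSpace X]
    (h : IsClosedFibre k ρ m) (L : X.Modules) (hL : PicF.IsInvertible L)
    (hvan : ∀ K : X.Modules, K.IsQuasicoherent → Subsingleton (Coh.HH X K (1 + 1)))
    (hL0 : Subsingleton (Coh.HH X ((TL L).obj (Coh.structureModule X)) 1))
    (T : Coh.structureModule Z ⟶ (Scheme.Modules.pullback k).obj L) :
    ∃ s : Coh.structureModule X ⟶ L, pbSec k s = T := by
  haveI : L.IsQuasicoherent := Groth.Agent.Lib.Helper28.InvQC.isQuasicoherent_of_isInvertible L hL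
  have hK1 := subsingleton_HH_kernel_tensor h L 1 hvan hL0
  haveI hu := epi_unitPush h
  haveI : Epi ((TL L).map (unitPush k)) := inferInstance
  let S' : ShortComplex X.Modules :=
    ShortComplex.mk (kernel.ι ((TL L).map (unitPush k))) ((TL L).map (unitPush k)) (kernel.condition _)
  have hS' : S'.ShortExact :=
    ShortComplex.ShortExact.mk' (ShortComplex.kernelSequence_exact ((TL L).map (unitPush k)))
      (inferInstanceAs (Mono (kernel.ι ((TL L).map (unitPush k)))))
      (inferInstanceAs (Epi ((TL L).map (unitPush k))))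
  let N := (Scheme.Modules.pullback k).obj L
  let t' : Γ(PM k N, ⊤) := ofM k N ⊤ (secOf T)
  let σ' : Coh.structureModule X ⟶ (TL L).obj (PM k (Coh.structureModule Z)) :=
    TwistGen.ofSection (PM k N) t' ≫ (tensorPushIso k L hL).inv
  obtain ⟨σ, hσ⟩ := Groth.Agent.Lib.Helper8.GGKill.exists_lift_section S' hS' hK1 σ'
  have hσ' : σ ≫ (TL L).map (unitPush k) = σ' := hσ
  let n : Γ(L, ⊤) := (SecTwist.unitorR L).hom.app ⊤ (secOf σ)
  have hsec : secOf σ = tmulSec L (Coh.structureModule X) n (one ⊤) := by
    rw [← unitorR_inv_app]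
    exact (congrArg (fun φ : CohB1.tensorMod L (Coh.structureModule X) ⟶
        CohB1.tensorMod L (Coh.structureModule X) => φ.app ⊤ (secOf σ)) (SecTwist.unitorR L).hom_inv_id).symm
  have hΦ : σ ≫ Φ k L hL = TwistGen.ofSection (PM k N) t' := by
    unfold Φ
    rw [← Category.assoc, hσ', Category.assoc, Iso.inv_hom_id, Category.comp_id]
  have h2 : (Φ k L hL).app ⊤ (secOf σ) = t' := by
    have := congrArg secOf hΦ
    rw [secOf_ofSection] at this
    exact this
  have h3 := Φ_tmulSec k L hL ⊤ n 1
  rw [map_one, one_smul] at h3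
  refine ⟨TwistGen.ofSection L n, ?_⟩
  unfold pbSec
  rw [secOf_ofSection, ← ofSection_secOf T]
  congr 1
  rw [← h3]
  have h4 : (Φ k L hL).app ⊤ (tmulSec L (Coh.structureModule X) n (one ⊤)) = t' := by
    rw [← hsec]; exact h2
  exact congrArg (toM k N ⊤) h4

/-- a nonempty closed subset of a prime spectrum contains a closed point -/
theorem exists_isClosed_singleton_mem {A : Type*} [CommRing A] (C : Set (PrimeSpectrum A)) (hC : IsClosed C)
    (hne : C.Nonempty) : ∃ y ∈ C, IsClosed ({y} : Set (PrimeSpectrum A)) := by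
  obtain ⟨I, rfl⟩ := (PrimeSpectrum.isClosed_iff_zeroLocus_ideal C).1 hC
  obtain ⟨p, hp⟩ := hne
  have hI : I ≠ ⊤ := by
    intro h
    rw [h] at hp
    simp at hp
  obtain ⟨m, hm, hle⟩ := Ideal.exists_le_maximal I hI
  refine ⟨⟨m, hm.isPrime⟩, ?_, (PrimeSpectrum.isClosed_singleton_iff_isMaximal _).2 hm⟩
  rw [PrimeSpectrum.mem_zeroLocus]
  exact hle

section main

variable (A : Type u) [CommRing A] [IsNoetherianRing A] {X : Scheme.{u}}
  (f : X ⟶ Spec (CommRingCat.of A)) [IsProper f]
  (h1 : Subsingleton (Coh.HH X (Coh.structureModule X) 1))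
  (hfib : ∀ y : ↥(Spec (CommRingCat.of A)), topologicalKrullDim ↥(f.fiber y) ≤ 1)

include h1 hfib in
/-- **an ample invertible module is globally generated** when `H¹(X, O_X) = 0` and the fibres have dimension at
most one -/
theorem isGloballyGenerated_of_isAmple {L : X.Modules} (hL : CohB1.IsAmple L) :
    Curv2.IsGloballyGenerated L := by
  apply Groth.Agent.Lib.Helper8.GGPoint.isGloballyGenerated_of_forall_mem_genLocus
  by_contra hcon
  push Not at hcon
  haveI : CompactSpace X := QuasiCompact.compactSpace_of_compactSpace f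
  haveI : QuasiSeparatedSpace X := quasiSeparatedSpace_of_quasiSeparated f
  let W : Set X := ⋂ s : Coh.structureModule X ⟶ L, ((CohB1.genLocus L s : Set X))ᶜ
  have hW : IsClosed W := isClosed_iInter fun s => (CohB1.genLocus L s).isOpen.isClosed_compl
  have hWne : W.Nonempty := by
    obtain ⟨x, hx⟩ := hcon
    exact ⟨x, Set.mem_iInter.2 fun s => hx s⟩
  have hfW : IsClosed (f '' W) := f.isClosedMap W hW
  obtain ⟨y, ⟨x, hxW, rfl⟩, hy⟩ := exists_isClosed_singleton_mem (A := A) (f '' W) hfW (hWne.image _)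
  have hcf := isClosedFibre_fiber A f (f x) hy
  haveI : IsClosedImmersion ((Spec (CommRingCat.of A)).fromSpecResidueField (f x)) :=
    (isClosed_singleton_iff_isClosedImmersion).1 hy
  haveI : IsClosedImmersion (f.fiberι (f x)) :=
    MorphismProperty.of_isPullback (P := @IsClosedImmersion)
      (IsPullback.of_hasPullback f ((Spec (CommRingCat.of A)).fromSpecResidueField (f x))).flip inferInstance
  have hLZ := Groth.Agent.Lib.Helper4.AmpleComp.isAmple_pullback_of_isClosedImmersion (f.fiberι (f x)) hL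
  obtain ⟨T, hT⟩ := Groth.Agent.Lib.Helper17.GGStalk.exists_mem_genLocus _ hLZ.1
    (gg_fiber A f h1 hfib (f x) hL hy).1 (f.asFiber x)
  obtain ⟨s, hs⟩ := exists_section_pbSec hcf L hL.1 (hvan A f hfib)
    (subsingleton_H1_tensor_unit A f h1 hfib hL) T
  rw [← hs, genLocus_pbSec (f.fiberι (f x)) hL.1 s] at hT
  have hx : f.fiberι (f x) (f.asFiber x) ∈ CohB1.genLocus L s := hT
  rw [f.fiberι_asFiber] at hx
  exact (Set.mem_iInter.1 hxW s) hx

end main

end Groth.Agent.Lib.Helper4.RV4
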