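import Mathlib.AlgebraicGeometry.Morphisms.UniversallyOpen
import Mathlib.AlgebraicGeometry.ResidueField
import Mathlib.Tactic
import Groth.Prelude.Def_Grpd
import Groth.Agent.Lib.Helper4.GrpdCalc
import Groth.Agent.Lib.Helper4.GrpdAct
import Groth.Agent.Lib.Helper4.GrpToGrpd

set_option autoImplicit false
universe u
open CategoryTheory AlgebraicGeometry TopologicalSpace Limits

namespace Groth.Agent.Lib.Helper4.GrpdDense

open Grpd GrpdCalc

variable {S : Scheme.{u}} (G : GroupoidScheme S)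

/-- inversion is an involution -/
theorem i_i : G.i ≫ G.i = 𝟙 _ := by
  obtain ⟨r, hr⟩ : ∃ r : G.R ⟶ G.R, r = 𝟙 _ := ⟨_, rfl⟩
  obtain ⟨x, hx⟩ : ∃ x : G.R ⟶ G.R, x = (r ≫ G.i) ≫ G.i := ⟨_, rfl⟩
  have h1 : x ≫ G.s = (r ≫ G.i) ≫ G.t := by rw [hx, Category.assoc, G.i_s]
  have h2 : (r ≫ G.i) ≫ G.s = r ≫ G.t := by rw [Category.assoc, G.i_s]
  -- x (r⁻¹ r) = (x r⁻¹) r
  have h3 : cmp G x (r ≫ G.i) h1 = r ≫ G.t ≫ G.e := by
    have := i_cmp G (r ≫ G.i) (by rw [Category.assoc (r ≫ G.i), G.i_s])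
    exact (cmp_congr G hx rfl _ _).trans
      (this.trans (by rw [Category.assoc, ← Category.assoc G.i, G.i_s]))
  have h4 := L4 G r x (by rw [h1]) (by rw [cmp_s]; exact h2)
  rw [cmp_congr G h3 rfl _ (by rw [Category.assoc, Category.assoc, G.e_s, Category.comp_id])] at h4
  rw [e_cmp G r _ rfl] at h4
  rw [hx, hr, Category.id_comp] at h4
  exact h4.symm

theorem isIso_i : IsIso G.i := ⟨G.i, i_i G, i_i G⟩

section
variable {Z : Scheme.{u}} (a : Z ⟶ G.R)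

/-- `(z, β) ↦ (a(z) ∘ β, β⁻¹)` -/
noncomputable def Φ : pullback (a ≫ G.s) G.t ⟶ pullback G.s G.t :=
  pullback.lift (GrpdAct.μ G a) (pullback.snd (a ≫ G.s) G.t ≫ G.i)
    (by unfold GrpdAct.μ; rw [cmp_s, Category.assoc, G.i_t])

theorem Φ_fst : Φ G a ≫ pullback.fst G.s G.t = GrpdAct.μ G a := pullback.lift_fst _ _ _
theorem Φ_snd : Φ G a ≫ pullback.snd G.s G.t = pullback.snd (a ≫ G.s) G.t ≫ G.i :=
  pullback.lift_snd _ _ _

theorem Φ_c : Φ G a ≫ G.c = pullback.fst (a ≫ G.s) G.t ≫ a := by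
  have h0 : (pullback.fst (a ≫ G.s) G.t ≫ a) ≫ G.s = pullback.snd (a ≫ G.s) G.t ≫ G.t := by
    rw [Category.assoc]; exact pullback.condition
  have h := L3 G (pullback.snd (a ≫ G.s) G.t) (pullback.fst (a ≫ G.s) G.t ≫ a) h0
    (by rw [cmp_s, Category.assoc, G.i_t])
  rw [← h]
  unfold Φ GrpdAct.μ
  rfl

end

/-- in a groupoid over a field, the product of two dense opens is everything -/
theorem main (k : Type u) [Field k] (eU : G.U ≅ Spec (CommRingCat.of k))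
    (U V : G.R.Opens) (hU : Dense (U : Set G.R)) (hV : Dense (V : Set G.R)) :
    G.c '' (pullback.fst G.s G.t ⁻¹' (U : Set G.R) ∩ pullback.snd G.s G.t ⁻¹' (V : Set G.R)) =
      Set.univ := by
  rw [Set.eq_univ_iff_forall]
  intro g
  let a := G.R.fromSpecResidueField g
  have hμ := GrpdAct.universallyOpen_μ G a k eU
  obtain ⟨hint, hsub⟩ := GrpdAct.field_facts G k eU
  have hpr : UniversallyOpen (pullback.snd (a ≫ G.s) G.t) := inferInstance
  have hi := isIso_i G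
  have hio : UniversallyOpen G.i := inferInstance
  -- two dense opens
  have hA : Dense (GrpdAct.μ G a ⁻¹' (U : Set G.R)) :=
    hU.preimage (GrpdAct.μ G a).isOpenMap
  have hB : Dense ((pullback.snd (a ≫ G.s) G.t ≫ G.i) ⁻¹' (V : Set G.R)) :=
    hV.preimage (pullback.snd (a ≫ G.s) G.t ≫ G.i).isOpenMap
  have hAo : IsOpen (GrpdAct.μ G a ⁻¹' (U : Set G.R)) := U.2.preimage (GrpdAct.μ G a).continuous
  -- nonempty
  have hcond : 𝟙 _ ≫ a ≫ G.s = (a ≫ G.s ≫ G.e) ≫ G.t := by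
    rw [Category.id_comp, Category.assoc, Category.assoc, G.e_t, Category.comp_id]
  let m₀ : (pullback (a ≫ G.s) G.t : Scheme.{u}) :=
    (pullback.lift (𝟙 _) (a ≫ G.s ≫ G.e) hcond) (default : Spec (G.R.residueField g))
  have hne : Nonempty (pullback (a ≫ G.s) G.t : Scheme.{u}) := ⟨m₀⟩
  obtain ⟨m, hmA, hmB⟩ := (hA.inter_of_isOpen_left hB hAo).nonempty
  refine ⟨Φ G a m, ⟨?_, ?_⟩, ?_⟩
  · show (pullback.fst G.s G.t) (Φ G a m) ∈ (U : Set G.R)
    rw [← Scheme.Hom.comp_apply, Φ_fst]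
    exact hmA
  · show (pullback.snd G.s G.t) (Φ G a m) ∈ (V : Set G.R)
    rw [← Scheme.Hom.comp_apply, Φ_snd]
    exact hmB
  · rw [← Scheme.Hom.comp_apply, Φ_c, Scheme.Hom.comp_apply]
    exact Scheme.fromSpecResidueField_apply _ _

end Groth.Agent.Lib.Helper4.GrpdDense
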