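import Groth.Agent.Lib.Helper2.CechNat3

set_option autoImplicit false
universe u
open CategoryTheory CategoryTheory.Limits Opposite TopologicalSpace AlgebraicGeometry Abelian

namespace Groth.Agent.Lib.Helper4.CechPush

open Groth.Agent.Lib.Helper6 Groth.Agent.Lib.Helper6.CechFamThin Groth.Agent.Lib.Helper2.CechNat2
  Groth.Agent.Lib.Helper17.HCompare

section Top

variable {X : TopCat.{u}} {ι : Type u} (U : ι → Opens X)

/-- natural comparison of Čech cohomology of a covering family with cohomology (topological form). -/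
theorem exists_natural_equiv_top (hcov : iSup U = ⊤) (p : ℕ) :
    ∃ e : ∀ F : CohTop.Ab X, Acyc' U F → (CohTop.cechH F.obj U p ≃+ Sheaf.H F p),
      ∀ (F F' : CohTop.Ab X) (hF : Acyc' U F) (hF' : Acyc' U F') (g : F ⟶ F')
        (x : CohTop.cechH F.obj U p),
        e F' hF' (cechMap U g p x) = Sheaf.H.map g p (e F hF x) := by
  obtain ⟨e₀, he₀⟩ := Groth.Agent.Lib.Helper2.CechNat2.exists_natural_equiv U p
  have key : ∃ e : ∀ F : CohTop.Ab X, Acyc' U F →
      (CohTop.cechH F.obj U p ≃+ CohTop.HU F p ⊤),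
      ∀ (F F' : CohTop.Ab X) (hF : Acyc' U F)
        (hF' : Acyc' U F') (g : F ⟶ F') (x : CohTop.cechH F.obj U p),
        e F' hF' (cechMap U g p x) = (e F hF x).comp (Ext.mk₀ g) (add_zero p) := by
    rw [← hcov]
    exact ⟨e₀, he₀⟩
  obtain ⟨e₁, he₁⟩ := key
  refine ⟨fun F hF => (e₁ F hF).trans (topHEquiv F p).symm, fun F F' hF hF' g x => ?_⟩
  change (topHEquiv F' p).symm (e₁ F' hF' (cechMap U g p x)) =
    Sheaf.H.map g p ((topHEquiv F p).symm (e₁ F hF x))
  rw [he₁ _ _ hF hF' g x, Groth.Agent.Lib.Helper2.CechNat3.topHEquiv_symm_naturality]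

end Top

section Push

variable {Y X : TopCat.{u}} (g : Y ⟶ X) {ι : Type u} (U : ι → Opens X)

lemma prod_eq_iInf {Z : TopCat.{u}} {α : Type} [Finite α] [Nonempty α] (V : α → Opens Z) :
    (∏ᶜ V) = ⨅ k, V k := by
  apply le_antisymm
  · exact le_iInf (fun k => leOfHom (Pi.π V k))
  · exact leOfHom (Pi.lift (fun k => homOfLE (iInf_le V k)))

/-- the preimage of a product of opens is the product of the preimages -/
noncomputable def eMap (n : SimplexCategory) (a : ToType n → ι) :
    (Opens.map g).obj (∏ᶜ (U ∘ a)) ≅ ∏ᶜ ((fun i => (Opens.map g).obj (U i)) ∘ a) where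
  hom := Pi.lift (fun k => (Opens.map g).map (Pi.π (U ∘ a) k))
  inv := homOfLE (by
    rw [prod_eq_iInf, prod_eq_iInf]
    intro y hy
    have h1 : ∀ k, y ∈ (Opens.map g).obj (U (a k)) := by
      intro k
      have := (iInf_le (fun k => ((fun i => (Opens.map g).obj (U i)) ∘ a) k) k) hy
      exact this
    show g y ∈ ((⨅ k, (U ∘ a) k : Opens X) : Set X)
    rw [Opens.coe_iInf]
    exact Set.mem_iInter.2 (fun k => h1 k))
  hom_inv_id := Subsingleton.elim _ _
  inv_hom_id := Subsingleton.elim _ _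

/-- the preimage family -/
abbrev pre (i : ι) : Opens Y := (Opens.map g).obj (U i)

/-- the comparison of Čech complexes -/
noncomputable def cxIso (F : CohTop.Ab Y) :
    (cechComplexFunctor U).obj ((CohTop.push g).obj F).obj ≅
      (cechComplexFunctor (pre g U)).obj F.obj :=
  cxIsoThin (Opens.map g) U (pre g U) (eMap g U) F.obj

lemma cxIso_naturality {F F' : CohTop.Ab Y} (φ : F ⟶ F') :
    (cxIso g U F).hom ≫ (cechComplexFunctor (pre g U)).map φ.hom =
      (cechComplexFunctor U).map ((CohTop.push g).map φ).hom ≫ (cxIso g U F').hom :=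
  cxIsoThin_naturality (Opens.map g) U (pre g U) (eMap g U) φ.hom

/-- the comparison of Čech cohomology -/
noncomputable def cechIso (F : CohTop.Ab Y) (p : ℕ) :
    CohTop.cechH ((CohTop.push g).obj F).obj U p ≅ CohTop.cechH F.obj (pre g U) p :=
  (HomologicalComplex.homologyFunctor _ _ p).mapIso (cxIso g U F)

lemma cechIso_naturality {F F' : CohTop.Ab Y} (φ : F ⟶ F') (p : ℕ) :
    cechMap U ((CohTop.push g).map φ) p ≫ (cechIso g U F' p).hom =
      (cechIso g U F p).hom ≫ cechMap (pre g U) φ p := by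
  have h := congrArg (fun ψ => HomologicalComplex.homologyMap ψ p) (cxIso_naturality g U φ)
  simp only [HomologicalComplex.homologyMap_comp] at h
  exact h.symm

lemma iSup_pre (hcov : iSup U = ⊤) : iSup (pre g U) = ⊤ := by
  ext y
  simp only [Opens.coe_iSup, Set.mem_iUnion, SetLike.mem_coe, Opens.coe_top, Set.mem_univ, iff_true]
  have : g y ∈ iSup U := by rw [hcov]; trivial
  obtain ⟨i, hi⟩ := Opens.mem_iSup.1 this
  exact ⟨i, hi⟩

/-- **cohomology of a direct image computed upstairs**, naturally: if `F` is acyclic on the finite intersections of the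
preimages of a covering family whose finite intersections are acyclic for `g_* F`. -/
theorem exists_natural_equiv_push (hcov : iSup U = ⊤) (p : ℕ) :
    ∃ e : ∀ F : CohTop.Ab Y, Acyc' (pre g U) F → Acyc' U ((CohTop.push g).obj F) →
        (Sheaf.H F p ≃+ Sheaf.H ((CohTop.push g).obj F) p),
      ∀ (F F' : CohTop.Ab Y) (hF : Acyc' (pre g U) F) (hF' : Acyc' (pre g U) F')
        (hG : Acyc' U ((CohTop.push g).obj F)) (hG' : Acyc' U ((CohTop.push g).obj F'))
        (φ : F ⟶ F') (x : Sheaf.H F p),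
        e F' hF' hG' (Sheaf.H.map φ p x) = Sheaf.H.map ((CohTop.push g).map φ) p (e F hF hG x) := by
  obtain ⟨a, ha⟩ := exists_natural_equiv_top (pre g U) (iSup_pre g U hcov) p
  obtain ⟨b, hb⟩ := exists_natural_equiv_top U hcov p
  let B : ∀ F : CohTop.Ab Y, Acyc' U ((CohTop.push g).obj F) →
      (CohTop.cechH F.obj (pre g U) p ≃+ Sheaf.H ((CohTop.push g).obj F) p) := fun F hG =>
    (cechIso g U F p).symm.addCommGroupIsoToAddEquiv.trans (b _ hG)
  have hB : ∀ (F F' : CohTop.Ab Y) (hG : Acyc' U ((CohTop.push g).obj F))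
      (hG' : Acyc' U ((CohTop.push g).obj F')) (φ : F ⟶ F') (z : CohTop.cechH F.obj (pre g U) p),
      B F' hG' (cechMap (pre g U) φ p z) = Sheaf.H.map ((CohTop.push g).map φ) p (B F hG z) := by
    intro F F' hG hG' φ z
    change b _ hG' ((cechIso g U F' p).inv (cechMap (pre g U) φ p z)) =
      Sheaf.H.map ((CohTop.push g).map φ) p (b _ hG ((cechIso g U F p).inv z))
    rw [← hb _ _ hG hG']
    congr 1
    have h := cechIso_naturality g U φ p
    have h2 : (cechIso g U F p).inv ≫ cechMap U ((CohTop.push g).map φ) p =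
        cechMap (pre g U) φ p ≫ (cechIso g U F' p).inv := by
      rw [Iso.inv_comp_eq, ← Category.assoc, Iso.eq_comp_inv]
      exact h
    exact (congrArg (fun ψ => ψ z) h2).symm
  refine ⟨fun F hF hG => (a F hF).symm.trans (B F hG), fun F F' hF hF' hG hG' φ x => ?_⟩
  change B F' hG' ((a F' hF').symm (Sheaf.H.map φ p x)) =
    Sheaf.H.map ((CohTop.push g).map φ) p (B F hG ((a F hF).symm x))
  obtain ⟨z, rfl⟩ := (a F hF).surjective x
  rw [← ha _ _ hF hF', AddEquiv.symm_apply_apply, AddEquiv.symm_apply_apply]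
  exact hB F F' hG hG' φ z

end Push

section Sch

open Groth.Agent.Lib.Helper17.AffineVanish

variable {Y X : Scheme.{u}} (g : Y ⟶ X) {ι : Type u} (U : ι → X.Opens)

variable (A : Type u) [CommRing A] [X.Over (Spec (CommRingCat.of A))] [Y.Over (Spec (CommRingCat.of A))]
  [g.IsOver (Spec (CommRingCat.of A))]

lemma appTop_toGlobal (a : A) :
    g.appTop.hom (Coh.toGlobal (X ↘ Spec (CommRingCat.of A)) a) =
      Coh.toGlobal (Y ↘ Spec (CommRingCat.of A)) a := by
  have h : g ≫ (X ↘ Spec (CommRingCat.of A)) = (Y ↘ Spec (CommRingCat.of A)) := CategoryTheory.comp_over g _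
  unfold Coh.toGlobal
  rw [← h, Scheme.Hom.comp_appTop]
  rfl

lemma push_smulAb (F : Y.Modules) (a : A) :
    (CohTop.push g.base).map (Coh.smulAb F (Coh.toGlobal (Y ↘ Spec (CommRingCat.of A)) a)) =
      Coh.smulAb ((Scheme.Modules.pushforward g).obj F) (Coh.toGlobal (X ↘ Spec (CommRingCat.of A)) a) := by
  ext V m
  rw [← appTop_toGlobal g A a]
  generalize (Coh.toGlobal (X ↘ Spec (CommRingCat.of A))) a = r
  have key : Coh.resTop Y (op ((Opens.map g.base).obj V.unop)) ((CommRingCat.Hom.hom (Scheme.Hom.appTop g)) r) =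
      (g.app V.unop).hom (Coh.resTop X V r) := by
    have := g.naturality (homOfLE (le_top : V.unop ≤ ⊤)).op
    exact (congrArg (fun ψ => ψ.hom r) this).symm
  refine (Coh.smulAb_app F _ (op ((Opens.map g.base).obj V.unop)) m).trans ?_
  refine Eq.trans ?_ (Coh.smulAb_app ((Scheme.Modules.pushforward g).obj F) r V m).symm
  rw [key]
  rfl

lemma smul_def (F : X.Modules) (p : ℕ) (a : A) (x : Coh.HH X F p) :
    a • x = Sheaf.H.map (Coh.smulAb F (Coh.toGlobal (X ↘ Spec (CommRingCat.of A)) a)) p x := rfl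

lemma acyc_of_affine (hU : ∀ s : Finset ι, s.Nonempty → IsAffineOpen (⨅ i ∈ s, U i)) (M : X.Modules)
    [M.IsQuasicoherent] : Acyc' (X := X.toTopCat) U (Coh.toAb M) := by
  classical
  intro p a q
  refine subsingleton_HU_of_isAffineOpen M ?_ q
  have h1 := hU (Finset.univ.image a) (Finset.univ_nonempty.image a)
  have h2 : (⨅ i ∈ Finset.univ.image a, U i) = ⨅ k, U (a k) := by
    rw [Finset.iInf_finset_image]
    simp
  rwa [h2] at h1

/-- **cohomology of a direct image computed upstairs, linearly.** -/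
theorem nonempty_linearEquiv_push (hcov : ⨆ i, U i = ⊤)
    (hU : ∀ s : Finset ι, s.Nonempty → IsAffineOpen (⨅ i ∈ s, U i)) (F : Y.Modules)
    [((Scheme.Modules.pushforward g).obj F).IsQuasicoherent]
    (hF : Acyc' (X := Y.toTopCat) (fun i => g ⁻¹ᵁ U i) (Coh.toAb F)) (p : ℕ) :
    Nonempty (Coh.HH Y F p ≃ₗ[A] Coh.HH X ((Scheme.Modules.pushforward g).obj F) p) := by
  obtain ⟨e, he⟩ := exists_natural_equiv_push g.base U hcov p
  have hG : Acyc' (X := X.toTopCat) U ((CohTop.push g.base).obj (Coh.toAb F)) :=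
    acyc_of_affine U hU ((Scheme.Modules.pushforward g).obj F)
  let E : Coh.HH Y F p ≃+ Coh.HH X ((Scheme.Modules.pushforward g).obj F) p := e (Coh.toAb F) hF hG
  have hE : ∀ (a : A) (x : Coh.HH Y F p), E (a • x) = a • E x := by
    intro a x
    rw [smul_def, smul_def]
    have := he _ _ hF hF hG hG (Coh.smulAb F (Coh.toGlobal (Y ↘ Spec (CommRingCat.of A)) a)) x
    rw [push_smulAb g A F a] at this
    exact this
  exact ⟨{ E with map_smul' := hE }⟩

end Sch

end Groth.Agent.Lib.Helper4.CechPush
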