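import Mathlib
import Groth.Agent.Lib.Helper6.CohTopLerayBase
import Groth.Agent.Lib.Helper6.ModAbPush
import Groth.Agent.Lib.Helper2.RpushQC6
import Groth.Agent.Lib.Helper2.PushEdge3
import Groth.Agent.Lib.Helper2.HLesLin

/-!
# Global sections of `O_S`-modules as a functor to modules over `Γ(S, O_S)` (helper4)

`GS S : S.Modules ⥤ ModuleCat Γ(S, ⊤)`; its right derived functors compute sheaf cohomology of the
underlying abelian sheaf, hence modules with vanishing higher cohomology are `GS`-acyclic.
-/

set_option autoImplicit false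
universe u
open CategoryTheory CategoryTheory.Limits AlgebraicGeometry Opposite TopologicalSpace Abelian

noncomputable section
namespace Groth.Agent.Lib.Helper4.GammaMod

open Groth.Agent.Lib.Helper6 Groth.Agent.Lib.Helper6.DeltaCompare
  Groth.Agent.Lib.Helper6.CohTopGamma Groth.Agent.Lib.Helper6.RDAcyc

attribute [local instance] HasDerivedCategory.standard

variable (S : Scheme.{u})

/-- global sections of `O_S`-modules as modules over the ring of global functions -/
def GS : S.Modules ⥤ ModuleCat.{u} Γ(S, ⊤) :=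
  SheafOfModules.forget.{u} S.ringCatSheaf ⋙
    PresheafOfModules.evaluation.{u} S.ringCatSheaf.obj (op ⊤)

instance : (GS S).Additive :=
  inferInstanceAs ((SheafOfModules.forget.{u} S.ringCatSheaf ⋙
    PresheafOfModules.evaluation.{u} S.ringCatSheaf.obj (op ⊤)).Additive)
instance : PreservesFiniteLimits (GS S) :=
  inferInstanceAs (PreservesFiniteLimits (SheafOfModules.forget.{u} S.ringCatSheaf ⋙
    PresheafOfModules.evaluation.{u} S.ringCatSheaf.obj (op ⊤)))

instance : EnoughInjectives S.Modules := inferInstance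

/-- the underlying group of global sections -/
def γ₀ : GS S ⋙ forget₂ (ModuleCat.{u} Γ(S, ⊤)) AddCommGrpCat.{u} ≅
    ModAbPush.tS S ⋙ Γ S.toTopCat :=
  NatIso.ofComponents (fun _ => Iso.refl _) (by intros; simp; rfl)

/-- `H^0(S, -) ≅ Γ(S, -)` on the level of the derived functors of `GS` -/
def θ' : (GS S).rightDerived 0 ⋙
      forget₂ (ModuleCat.{u} Γ(S, ⊤)) AddCommGrpCat.{u} ≅
    ModAbPush.tS S ⋙ extFunctorObj (CohTopLeray.ZZ S.toTopCat) 0 :=
  Functor.isoWhiskerRight (Functor.rightDerivedZeroIsoSelf (GS S)) _ ≪≫ γ₀ S ≪≫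
    Functor.isoWhiskerLeft (ModAbPush.tS S) θ₀.symm

/-- the right derived functors of `GS` compute the cohomology of the underlying abelian sheaf -/
theorem nonempty_rightDerived_iso (N : S.Modules) (k : ℕ) :
    Nonempty ((forget₂ (ModuleCat.{u} Γ(S, ⊤)) AddCommGrpCat.{u}).obj
        (((GS S).rightDerived k).obj N) ≅
      (extFunctorObj (CohTopLeray.ZZ S.toTopCat) k).obj ((ModAbPush.tS S).obj N)) :=
  delta_compare (fun n => (GS S).rightDerived n ⋙
      forget₂ (ModuleCat.{u} Γ(S, ⊤)) AddCommGrpCat.{u})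
    (fun n => ModAbPush.tS S ⋙ extFunctorObj (CohTopLeray.ZZ S.toTopCat) n) (θ' S) (fun _ => True)
    (fun G _ => by
      have hE := Groth.Agent.Lib.Helper2.RpushQC1.stdSC_shortExact G
      haveI : Injective (Groth.Agent.Lib.Helper2.RpushQC1.stdSC G).X₂ := inferInstance
      refine ⟨_, _, (Groth.Agent.Lib.Helper2.RpushQC1.stdSC G).f,
        (Groth.Agent.Lib.Helper2.RpushQC1.stdSC G).g, trivial, ?_, ?_⟩
      · exact RDShift.HasShift.comp_exact
          (RDShift.hasShift_rightDerived (GS S) _ hE
            (fun n => Functor.isZero_rightDerived_obj_injective_succ _ n _)) _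
      · refine ExtShift.hasShift_ext_comp (ModAbPush.tS S) (CohTopLeray.ZZ S.toTopCat) _
          (hE.map_of_exact (ModAbPush.tS S)) (fun n x => ?_)
        haveI := Groth.Agent.Lib.Helper2.PushEdge3.isFlasque_of_injective
          (Groth.Agent.Lib.Helper2.RpushQC1.stdSC G).X₂
        exact SheafCoh.flasque_H_eq_zero _ n x) k N trivial

/-- modules without higher cohomology are acyclic for `GS` -/
theorem acyc_of_subsingleton (N : S.Modules) (h : ∀ k : ℕ, Subsingleton (Coh.HH S N (k + 1))) :
    Acyc (GS S) N := by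
  rw [acyc_iff_isZero_rightDerived]
  intro k
  obtain ⟨e⟩ := nonempty_rightDerived_iso S N (k + 1)
  have h0 : IsZero ((extFunctorObj (CohTopLeray.ZZ S.toTopCat) (k + 1)).obj
      ((ModAbPush.tS S).obj N)) := by
    have := h k
    exact AddCommGrpCat.isZero_of_subsingleton (AddCommGrpCat.of (Coh.HH S N (k + 1)))
  have h1 := h0.of_iso e
  have h2 : Subsingleton ((forget₂ (ModuleCat.{u} Γ(S, ⊤))
      AddCommGrpCat.{u}).obj (((GS S).rightDerived (k + 1)).obj N)) :=
    AddCommGrpCat.subsingleton_of_isZero h1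
  have h3 : Subsingleton (((GS S).rightDerived (k + 1)).obj N) := h2
  exact ModuleCat.isZero_of_subsingleton _

end Groth.Agent.Lib.Helper4.GammaMod
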