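import Mathlib
import Groth.Agent.Lib.Helper4.GammaMod
import Groth.Agent.Lib.Helper4.HLesFin1

/-!
# Cohomology of `O_X`-modules as functors to `A`-modules, with dimension shifting (helper4)
-/

set_option backward.isDefEq.respectTransparency.types false
set_option autoImplicit false
universe u
open CategoryTheory CategoryTheory.Limits AlgebraicGeometry Opposite TopologicalSpace Abelian

noncomputable section
namespace Groth.Agent.Lib.Helper4.HHFun

open Groth.Agent.Lib.Helper6 Groth.Agent.Lib.Helper6.DeltaCompare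
  Groth.Agent.Lib.Helper2.HLesLin Groth.Agent.Lib.Helper2.HLes

variable (A : Type u) [CommRing A] {X : Scheme.{u}} [X.Over (Spec (CommRingCat.of A))]

/-- `M ↦ H^n(X, M)` as a functor to `A`-modules -/
def HHfun (n : ℕ) : X.Modules ⥤ ModuleCat.{u} A where
  obj M := ModuleCat.of A (Coh.HH X M n)
  map φ := ModuleCat.ofHom (Canon.HHlin A φ n)
  map_id M := by
    ext x
    change Sheaf.H.map ((SheafOfModules.toSheaf X.ringCatSheaf).map (𝟙 M)) n x = x
    have h : (SheafOfModules.toSheaf X.ringCatSheaf).map (𝟙 M) = 𝟙 _ :=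
      (SheafOfModules.toSheaf X.ringCatSheaf).map_id M
    rw [h, Sheaf.H.map_id_apply]
  map_comp φ ψ := by
    ext x
    change Sheaf.H.map ((SheafOfModules.toSheaf X.ringCatSheaf).map (φ ≫ ψ)) n x =
      Sheaf.H.map ((SheafOfModules.toSheaf X.ringCatSheaf).map ψ) n
        (Sheaf.H.map ((SheafOfModules.toSheaf X.ringCatSheaf).map φ) n x)
    have h : (SheafOfModules.toSheaf X.ringCatSheaf).map (φ ≫ ψ) =
        (SheafOfModules.toSheaf X.ringCatSheaf).map φ ≫ (SheafOfModules.toSheaf X.ringCatSheaf).map ψ :=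
      (SheafOfModules.toSheaf X.ringCatSheaf).map_comp φ ψ
    rw [h, Sheaf.H.map_comp_apply]

variable (E : ShortComplex X.Modules) (hE : E.ShortExact)

include hE in
theorem hasShift_HHfun [Injective E.X₂] : HasShift (fun n => HHfun A (X := X) n) E.f E.g := by
  refine ⟨fun n => ?_, fun n => ?_⟩
  · haveI := Groth.Agent.Lib.Helper2.PushEdge3.isFlasque_of_injective E.X₂
    haveI : Subsingleton (Coh.HH X E.X₂ (n + 1)) :=
      subsingleton_of_forall_eq 0 (fun x => SheafCoh.flasque_H_eq_zero _ n x)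
    exact ModuleCat.isZero_of_subsingleton (ModuleCat.of A (Coh.HH X E.X₂ (n + 1)))
  · refine ⟨ModuleCat.ofHom (δLin E hE A n), ?_, ?_, ?_, ?_⟩
    · ext x
      have : Canon.HHlin A E.g n x ∈ LinearMap.ker (δLin E hE A n) := by
        rw [← range_eq_ker₃ E hE A n]; exact ⟨x, rfl⟩
      exact this
    · ext x
      have : δLin E hE A n x ∈ LinearMap.ker (Canon.HHlin A E.f (n + 1)) := by
        rw [← Groth.Agent.Lib.Helper4.HLesFin1.range_eq_ker₁ E hE A n]; exact ⟨x, rfl⟩
      exact this
    · rw [ShortComplex.moduleCat_exact_iff_range_eq_ker]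
      exact range_eq_ker₃ E hE A n
    · rw [ShortComplex.moduleCat_exact_iff_range_eq_ker]
      exact Groth.Agent.Lib.Helper4.HLesFin1.range_eq_ker₁ E hE A n

end Groth.Agent.Lib.Helper4.HHFun
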