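import Mathlib
import Groth.Agent.Lib.Helper4.HHFun
import Groth.Agent.Lib.Helper4.CechPush
import Groth.Agent.Lib.Helper17.AffineVanish

/-!
# Linear degenerate Leray over an affine base (helper4)
-/

set_option backward.isDefEq.respectTransparency.types false
set_option autoImplicit false
universe u
open CategoryTheory CategoryTheory.Limits AlgebraicGeometry Opposite TopologicalSpace Abelian

noncomputable section
namespace Groth.Agent.Lib.Helper4.LinLeray

open Groth.Agent.Lib.Helper6 Groth.Agent.Lib.Helper6.DeltaCompare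
  Groth.Agent.Lib.Helper4.GammaMod Groth.Agent.Lib.Helper4.HHFun

variable {X S : Scheme.{u}} (f : X ⟶ S) [IsAffine S]

/-- `X` as a scheme over `Spec Γ(S, ⊤)` -/
@[reducible] def overΓ : X.Over (Spec (CommRingCat.of Γ(S, ⊤))) := ⟨f ≫ S.isoSpec.hom⟩

lemma toGlobal_overΓ (a : Γ(S, ⊤)) :
    Coh.toGlobal (A := Γ(S, ⊤)) (f ≫ S.isoSpec.hom) a = f.appTop.hom a := by
  unfold Coh.toGlobal
  rw [Scheme.Hom.comp_appTop]
  have h : S.isoSpec.hom.appTop = (Scheme.ΓSpecIso Γ(S, ⊤)).hom := by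
    rw [Scheme.isoSpec_hom, Scheme.toSpecΓ_appTop]
  change f.appTop.hom (S.isoSpec.hom.appTop.hom ((Scheme.ΓSpecIso Γ(S, ⊤)).inv.hom a)) = _
  rw [h]
  congr 1
  exact congrArg (fun φ => φ.hom a) (Scheme.ΓSpecIso Γ(S, ⊤)).inv_hom_id

variable [X.Over (Spec (CommRingCat.of Γ(S, ⊤)))]
  (hf : (X ↘ Spec (CommRingCat.of Γ(S, ⊤))) = f ≫ S.isoSpec.hom)

include hf in
lemma smul_pushforward (M : X.Modules) (a : Γ(S, ⊤))
    (m : ((Scheme.Modules.pushforward f).obj M).val.obj (op ⊤)) :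
    HSMul.hSMul (α := S.ringCatSheaf.obj.obj (op ⊤)) a m =
      (Coh.smulAb M (Coh.toGlobal (X ↘ Spec (CommRingCat.of Γ(S, ⊤))) a)).hom.app (op ⊤) m := by
  rw [Coh.smulAb_app, hf, toGlobal_overΓ]
  have h1 : ∀ r : Coh.Γtop X, Coh.resTop X (op ⊤) r = r := by
    intro r
    unfold Coh.resTop
    have h2 : (homOfLE (le_top (a := (op ⊤ : (Opens X)ᵒᵖ).unop))).op = 𝟙 (op ⊤) := rfl
    rw [h2]
    exact congrArg (fun φ => φ.hom r) (X.ringCatSheaf.obj.map_id (op ⊤))
  rw [h1]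
  rfl

/-- `H^0(X, M) → Γ(S, f_* M)`, linear over `Γ(S, ⊤)` -/
def l₀ (M : X.Modules) :
    (HHfun Γ(S, ⊤) 0).obj M ⟶ (GS S).obj ((Scheme.Modules.pushforward f).obj M) :=
  ModuleCat.ofHom (R := Γ(S, ⊤)) (X := Coh.HH X M 0)
      (Y := ((GS S).obj ((Scheme.Modules.pushforward f).obj M) : ModuleCat.{u} Γ(S, ⊤)))
    { toFun := fun x => Sheaf.H.equiv₀ (Coh.toAb M) (isTerminalTop (α := Opens X)) x
      map_add' := fun x y => map_add _ x y
      map_smul' := fun a x => by
        rw [RingHom.id_apply]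
        refine Eq.trans ?_ (smul_pushforward f hf M a _).symm
        rw [Sheaf.H.equiv₀_naturality]
        rfl }

lemma l₀_apply (M : X.Modules) (x : Coh.HH X M 0) :
    (l₀ f hf M).hom x = Sheaf.H.equiv₀ (Coh.toAb M) (isTerminalTop (α := Opens X)) x := rfl

instance (M : X.Modules) : IsIso (l₀ f hf M) := by
  rw [ConcreteCategory.isIso_iff_bijective]
  exact (Sheaf.H.equiv₀ (Coh.toAb M) (isTerminalTop (α := Opens X))).bijective

/-- `H^0(X, -) ≅ Γ(S, f_* -)` -/
def θa : HHfun Γ(S, ⊤) (X := X) 0 ≅ Scheme.Modules.pushforward f ⋙ GS S :=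
  NatIso.ofComponents (fun M => asIso (l₀ f hf M)) (fun {M M'} φ => by
    ext x
    change (l₀ f hf M').hom (Sheaf.H.map ((SheafOfModules.toSheaf X.ringCatSheaf).map φ) 0 x) =
      ((GS S).map ((Scheme.Modules.pushforward f).map φ)).hom ((l₀ f hf M).hom x)
    rw [l₀_apply, l₀_apply, ← Sheaf.H.equiv₀_naturality]
    rfl)

attribute [local instance] HasDerivedCategory.standard

variable [HasInjectiveResolutions X.Modules]

/-- `H^0(X, -) ≅ Γ(S, R^0 f_* -)` -/
def θ : HHfun Γ(S, ⊤) (X := X) 0 ≅ Coh.Rpush f 0 ⋙ GS S :=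
  θa f hf ≪≫
    Functor.isoWhiskerRight (Functor.rightDerivedZeroIsoSelf (Scheme.Modules.pushforward f)).symm (GS S)

omit [IsAffine S] in
lemma hFI (I : X.Modules) (hI : Injective I) :
    RDAcyc.Acyc (GS S) ((Coh.Rpush f 0).obj I) := by
  have h : RDAcyc.Acyc (GS S) ((Scheme.Modules.pushforward f).obj I) :=
    acyc_of_subsingleton S _ (fun k => subsingleton_of_forall_eq 0
      (fun x => Groth.Agent.Lib.Helper2.PushEdge3.eq_zero_push_of_injective f I k x))
  exact LerayBase.acyc_of_iso (GS S)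
    ((Functor.rightDerivedZeroIsoSelf (Scheme.Modules.pushforward f)).app I).symm h

include hf in
/-- **linear degenerate Leray over an affine base**: `H^n(X, M) ≅ Γ(S, R^n f_* M)` as modules over
`Γ(S, ⊤)`, for `f` quasi-compact quasi-separated and `M` quasi-coherent. -/
theorem nonempty_iso [QuasiCompact f] [QuasiSeparated f] (M : X.Modules) [M.IsQuasicoherent]
    (n : ℕ) :
    Nonempty ((HHfun Γ(S, ⊤) n).obj M ≅ (GS S).obj ((Coh.Rpush f n).obj M)) := by
  refine delta_compare (fun n => HHfun Γ(S, ⊤) (X := X) n) (fun n => Coh.Rpush f n ⋙ GS S)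
    (θ f hf) (LerayBase.P (Scheme.Modules.pushforward f) (GS S)) (fun G hG => ?_) n M (fun q => ?_)
  · have hE := Groth.Agent.Lib.Helper2.RpushQC1.stdSC_shortExact G
    haveI : Injective (Groth.Agent.Lib.Helper2.RpushQC1.stdSC G).X₂ := inferInstance
    exact ⟨_, _, (Groth.Agent.Lib.Helper2.RpushQC1.stdSC G).f,
      (Groth.Agent.Lib.Helper2.RpushQC1.stdSC G).g,
      LerayBase.P_X₃ (Scheme.Modules.pushforward f) (GS S) (hFI f) _ hE hG,
      hasShift_HHfun Γ(S, ⊤) _ hE,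
      LerayBase.hasShift_T (Scheme.Modules.pushforward f) (GS S) (hFI f) _ hE hG⟩
  · haveI : ((Coh.Rpush f q).obj M).IsQuasicoherent :=
      Groth.Agent.Lib.Helper2.RpushQC6.isQuasicoherent_Rpush f M q
    exact acyc_of_subsingleton S _ (fun k =>
      Groth.Agent.Lib.Helper17.AffineVanish.subsingleton_H_of_isAffine ((Coh.Rpush f q).obj M) k)

include hf in
/-- finiteness of `H^n(X, M)` over `Γ(S, ⊤)` gives finiteness of the global sections of `R^n f_* M` -/
theorem finite_sections [QuasiCompact f] [QuasiSeparated f] (M : X.Modules) [M.IsQuasicoherent]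
    (n : ℕ) (h : Module.Finite Γ(S, ⊤) (Coh.HH X M n)) :
    Module.Finite (S.ringCatSheaf.obj.obj (op ⊤)) (((Coh.Rpush f n).obj M).val.obj (op ⊤)) := by
  obtain ⟨e⟩ := nonempty_iso f hf M n
  haveI h0 : Module.Finite Γ(S, ⊤) ((HHfun Γ(S, ⊤) n).obj M) := h
  have h' : Module.Finite Γ(S, ⊤) ((GS S).obj ((Coh.Rpush f n).obj M)) :=
    Module.Finite.equiv e.toLinearEquiv
  exact h'

end Groth.Agent.Lib.Helper4.LinLeray
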