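import Mathlib.Tactic
import Mathlib.AlgebraicGeometry.AlgClosed.Basic
import Mathlib.Analysis.Complex.Polynomial.Basic
import Groth.Prelude.Def_AnPts

open AlgebraicGeometry CategoryTheory

namespace Groth.Agent.Lib.Helper4.AnBasic

theorem exists_closedPoint_of_nonempty (X : Scheme.{0}) [X.Over An.SC]
    [LocallyOfFiniteType (X ↘ An.SC)] (U : Set X) (hU : IsLocallyClosed U) (hne : U.Nonempty) :
    ∃ x ∈ U, IsClosed ({x} : Set X) := by
  have hJ : JacobsonSpace ↥X := LocallyOfFiniteType.jacobsonSpace (X ↘ An.SC)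
  have hcl := JacobsonSpace.closure_inter_closedPoints_eq_closure hU
  by_contra hcon
  push Not at hcon
  have hempty : U ∩ closedPoints ↥X = ∅ := by
    ext x
    simp only [Set.mem_inter_iff, Set.mem_empty_iff_false, iff_false, not_and]
    exact fun hx hc => hcon x hx hc
  rw [hempty, closure_empty] at hcl
  obtain ⟨x, hx⟩ := hne
  have : x ∈ closure U := subset_closure hx
  rw [← hcl] at this
  exact this

/-- the ℂ-point at a closed point -/
noncomputable def ptOfClosed (X : Scheme.{0}) [X.Over An.SC]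
    [LocallyOfFiniteType (X ↘ An.SC)] (x : X) (hx : IsClosed ({x} : Set X)) : An.Pts X :=
  ⟨pointOfClosedPoint (X ↘ An.SC) x hx, pointOfClosedPoint_comp (X ↘ An.SC) x hx⟩

lemma ptOfClosed_pt (X : Scheme.{0}) [X.Over An.SC]
    [LocallyOfFiniteType (X ↘ An.SC)] (x : X) (hx : IsClosed ({x} : Set X)) :
    (ptOfClosed X x hx).pt = x :=
  pointOfClosedPoint_apply (X ↘ An.SC) x hx _

theorem main4186 (X : Scheme.{0}) [X.Over An.SC] [LocallyOfFiniteType (X ↘ An.SC)] :
    Nonempty ↥X ↔ Nonempty (An.Pts X) := by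
  constructor
  · rintro ⟨x⟩
    obtain ⟨y, -, hy⟩ := exists_closedPoint_of_nonempty X Set.univ isOpen_univ.isLocallyClosed
      ⟨x, trivial⟩
    exact ⟨ptOfClosed X y hy⟩
  · rintro ⟨p⟩
    exact ⟨p.pt⟩

end Groth.Agent.Lib.Helper4.AnBasic
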