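import Mathlib.Tactic
import Mathlib.AlgebraicGeometry.AlgClosed.Basic
import Mathlib.AlgebraicGeometry.Morphisms.Immersion
import Mathlib.AlgebraicGeometry.PullbackCarrier
import Groth.Prelude.Def_AnPts
import Groth.Agent.Lib.Helper4.AnBasic

open AlgebraicGeometry CategoryTheory Limits

namespace Groth.Agent.Lib.Helper4.AnInj

open Groth.Agent.Lib.Helper4.AnBasic

theorem pt_injective (X : Scheme.{0}) [X.Over An.SC] [LocallyOfFiniteType (X ↘ An.SC)] :
    Function.Injective (An.Pts.pt : An.Pts X → X) := by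
  intro x y hxy
  apply Subtype.ext
  refine ext_of_apply_closedPoint_eq (X ↘ An.SC) x.2 y.2 ?_
  have h1 : IsLocalRing.closedPoint ℂ = An.cpt := An.eq_cpt _
  rw [h1]
  exact hxy

/-- closed points in the complement of a locally closed set -/
theorem exists_closedPoint_not_mem (P : Scheme.{0}) (g : P ⟶ An.SC) [LocallyOfFiniteType g]
    (Z : Set P) (hZ : IsLocallyClosed Z) (z : P) (hz : z ∉ Z) :
    ∃ z' : P, z' ∉ Z ∧ IsClosed ({z'} : Set P) := by
  have hJ : JacobsonSpace ↥P := LocallyOfFiniteType.jacobsonSpace g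
  have key : ∀ (W : Set P), IsLocallyClosed W → W.Nonempty → ∃ x ∈ W, IsClosed ({x} : Set P) := by
    intro W hW hne
    have hcl := JacobsonSpace.closure_inter_closedPoints_eq_closure hW
    by_contra hcon
    push Not at hcon
    have hempty : W ∩ closedPoints ↥P = ∅ := by
      ext x
      simp only [Set.mem_inter_iff, Set.mem_empty_iff_false, iff_false, not_and]
      exact fun hx hc => hcon x hx hc
    rw [hempty, closure_empty] at hcl
    obtain ⟨x, hx⟩ := hne
    have : x ∈ closure W := subset_closure hx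
    rw [← hcl] at this
    exact this
  obtain ⟨O, C, hO, hC, rfl⟩ := hZ
  by_cases hzC : z ∈ C
  · have hzO : z ∉ O := fun h => hz ⟨h, hzC⟩
    obtain ⟨x, hx, hxc⟩ := key (C ∩ Oᶜ) (hC.inter hO.isClosed_compl).isLocallyClosed ⟨z, hzC, hzO⟩
    exact ⟨x, fun h => hx.2 h.1, hxc⟩
  · obtain ⟨x, hx, hxc⟩ := key Cᶜ hC.isOpen_compl.isLocallyClosed ⟨z, hzC⟩
    exact ⟨x, fun h => hx h.2, hxc⟩

theorem main4194 (X Y : Scheme.{0}) [X.Over An.SC] [LocallyOfFiniteType (X ↘ An.SC)]
    [Y.Over An.SC] [LocallyOfFiniteType (Y ↘ An.SC)] (f : X ⟶ Y) [f.IsOver An.SC] :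
    Function.Injective f.base ↔ Function.Injective (An.Pts.map f) := by
  constructor
  · intro hf x y hxy
    apply pt_injective X
    apply hf
    have := congrArg An.Pts.pt hxy
    rwa [An.Pts.pt_map, An.Pts.pt_map] at this
  · intro hinj a b hab
    by_contra hne
    have hflft : LocallyOfFiniteType f := by
      have : LocallyOfFiniteType (f ≫ (Y ↘ An.SC)) := by rw [comp_over]; infer_instance
      exact locallyOfFiniteType_of_comp f (Y ↘ An.SC)
    let g : pullback f f ⟶ An.SC := pullback.fst f f ≫ (X ↘ An.SC)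
    have hg : LocallyOfFiniteType g := inferInstance
    have hg2 : pullback.snd f f ≫ (X ↘ An.SC) = g := by
      rw [← comp_over f An.SC, ← pullback.condition_assoc, comp_over f An.SC]
    obtain ⟨z, hz1, hz2⟩ := Scheme.Pullback.exists_preimage_pullback (f := f) (g := f) a b hab
    have hzZ : z ∉ Set.range (pullback.diagonal f) := by
      rintro ⟨c, rfl⟩
      apply hne
      rw [← hz1, ← hz2, ← Scheme.Hom.comp_apply, ← Scheme.Hom.comp_apply, pullback.diagonal_fst,
        pullback.diagonal_snd]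
    obtain ⟨z', hz'Z, hz'c⟩ := exists_closedPoint_not_mem (pullback f f) g _
      (pullback.diagonal f).isLocallyClosed_range z hzZ
    let ζ : An.SC ⟶ pullback f f := pointOfClosedPoint g z' hz'c
    have hζ : ζ ≫ g = 𝟙 _ := pointOfClosedPoint_comp g z' hz'c
    let x₁ : An.Pts X := ⟨ζ ≫ pullback.fst f f, by rw [Category.assoc]; exact hζ⟩
    let x₂ : An.Pts X := ⟨ζ ≫ pullback.snd f f, by rw [Category.assoc, hg2]; exact hζ⟩
    have h12 : An.Pts.map f x₁ = An.Pts.map f x₂ := by
      apply Subtype.ext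
      change (ζ ≫ pullback.fst f f) ≫ f = (ζ ≫ pullback.snd f f) ≫ f
      rw [Category.assoc, Category.assoc, pullback.condition]
    have h12' : ζ ≫ pullback.fst f f = ζ ≫ pullback.snd f f := congrArg Subtype.val (hinj h12)
    have hfac : ζ = (ζ ≫ pullback.fst f f) ≫ pullback.diagonal f := by
      apply pullback.hom_ext
      · rw [Category.assoc, pullback.diagonal_fst, Category.comp_id]
      · rw [Category.assoc, pullback.diagonal_snd, Category.comp_id, h12']
    apply hz'Z
    have hz' : ζ (IsLocalRing.closedPoint ℂ) = z' := pointOfClosedPoint_apply g z' hz'c _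
    rw [← hz', hfac]
    exact ⟨(ζ ≫ pullback.fst f f) (IsLocalRing.closedPoint ℂ), rfl⟩

end Groth.Agent.Lib.Helper4.AnInj
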