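import Mathlib.Tactic
import Mathlib.AlgebraicGeometry.AlgClosed.Basic
import Mathlib.AlgebraicGeometry.Morphisms.FinitePresentation
import Mathlib.AlgebraicGeometry.Noetherian
import Mathlib.Topology.Constructible
import Mathlib.Topology.JacobsonSpace
import Groth.Prelude.Def_AnPts
import Groth.Agent.Lib.Helper4.AnInj

open AlgebraicGeometry CategoryTheory Limits Topology

namespace Groth.Agent.Lib.Helper4.AnSurj

open Groth.Agent.Lib.Helper4.AnBasic Groth.Agent.Lib.Helper4.AnInj

section topology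

variable {X : Type*} [TopologicalSpace X]

/-- finite unions of locally closed sets -/
def FinLC (S : Set X) : Prop :=
  ∃ F : Finset (Set X), (∀ A ∈ F, IsLocallyClosed A) ∧ S = ⋃₀ (F : Set (Set X))

lemma FinLC.of_isLocallyClosed {S : Set X} (h : IsLocallyClosed S) : FinLC S :=
  ⟨{S}, by simpa using h, by simp⟩

lemma FinLC.union {S T : Set X} (hS : FinLC S) (hT : FinLC T) : FinLC (S ∪ T) := by
  classical
  obtain ⟨F, hF, rfl⟩ := hS
  obtain ⟨G, hG, rfl⟩ := hT
  refine ⟨F ∪ G, ?_, ?_⟩
  · intro A hA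
    rcases Finset.mem_union.mp hA with h | h
    · exact hF A h
    · exact hG A h
  · rw [Finset.coe_union, Set.sUnion_union]

lemma FinLC.inter {S T : Set X} (hS : FinLC S) (hT : FinLC T) : FinLC (S ∩ T) := by
  classical
  obtain ⟨F, hF, rfl⟩ := hS
  obtain ⟨G, hG, rfl⟩ := hT
  refine ⟨(F ×ˢ G).image (fun p => p.1 ∩ p.2), ?_, ?_⟩
  · intro A hA
    obtain ⟨⟨a, b⟩, hab, rfl⟩ := Finset.mem_image.mp hA
    rw [Finset.mem_product] at hab
    exact (hF a hab.1).inter (hG b hab.2)
  · ext x
    simp only [Set.mem_inter_iff, Set.mem_sUnion, Finset.mem_coe, Finset.coe_image,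
      Set.mem_image, Finset.mem_product, Prod.exists]
    constructor
    · rintro ⟨⟨a, ha, hxa⟩, ⟨b, hb, hxb⟩⟩
      exact ⟨a ∩ b, ⟨a, b, ⟨ha, hb⟩, rfl⟩, hxa, hxb⟩
    · rintro ⟨_, ⟨a, b, ⟨ha, hb⟩, rfl⟩, hxa, hxb⟩
      exact ⟨⟨a, ha, hxa⟩, ⟨b, hb, hxb⟩⟩

lemma IsConstructible.finLC {S : Set X} (hS : IsConstructible S) : FinLC S ∧ FinLC Sᶜ := by
  induction hS using IsConstructible.empty_union_induction with
  | open_retrocompact U hU _ =>
    exact ⟨.of_isLocallyClosed hU.isLocallyClosed, .of_isLocallyClosed hU.isClosed_compl.isLocallyClosed⟩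
  | union s _ t _ hs ht =>
    refine ⟨hs.1.union ht.1, ?_⟩
    rw [Set.compl_union]
    exact hs.2.inter ht.2
  | compl s _ hs =>
    refine ⟨hs.2, ?_⟩
    rw [compl_compl]
    exact hs.1

/-- a nonempty constructible subset of a Jacobson space contains a closed point -/
lemma exists_closedPoint_of_isConstructible [JacobsonSpace X] {S : Set X} (hS : IsConstructible S)
    (hne : S.Nonempty) : (S ∩ closedPoints X).Nonempty := by
  obtain ⟨F, hF, rfl⟩ := (IsConstructible.finLC hS).1
  obtain ⟨x, A, hA, hxA⟩ := hne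
  obtain ⟨y, hyA, hyc⟩ := nonempty_inter_closedPoints ⟨x, hxA⟩ (hF A hA)
  exact ⟨y, ⟨A, hA, hyA⟩, hyc⟩

/-- a locally constructible set in a Jacobson space containing all closed points is everything -/
theorem eq_univ_of_isLocallyConstructible [JacobsonSpace X] {T : Set X}
    (hT : IsLocallyConstructible T) (hcl : closedPoints X ⊆ T) : T = Set.univ := by
  by_contra hne
  obtain ⟨y, hy⟩ := (Set.ne_univ_iff_exists_notMem T).mp hne
  obtain ⟨U, hUy, hUo, hUc⟩ := hT y
  have hyU : y ∈ U := mem_of_mem_nhds hUy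
  have hJU : JacobsonSpace U := JacobsonSpace.of_isOpenEmbedding hUo.isOpenEmbedding_subtypeVal
  have hc : IsConstructible ((Subtype.val ⁻¹' T : Set U))ᶜ := hUc.compl
  obtain ⟨z, hzT, hzc⟩ := exists_closedPoint_of_isConstructible hc ⟨⟨y, hyU⟩, hy⟩
  have hzc' : (z : X) ∈ closedPoints X := by
    have := hUo.isOpenEmbedding_subtypeVal.preimage_closedPoints (Y := X)
    rw [← this] at hzc
    exact hzc
  exact hzT (hcl hzc')

end topology

universe u in
theorem lfp_of_noeth {X Y : Scheme.{u}} (f : X ⟶ Y)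
    [LocallyOfFiniteType f] [IsLocallyNoetherian Y] : LocallyOfFinitePresentation f := by
  rw [HasRingHomProperty.iff_appLE (P := @LocallyOfFinitePresentation)]
  intro U V e
  have : IsNoetherianRing Γ(Y, U) := IsLocallyNoetherian.component_noetherian U
  exact RingHom.FinitePresentation.of_finiteType.1
    (HasRingHomProperty.appLE (P := @LocallyOfFiniteType) f inferInstance U V e)

lemma pt_mem_closedPoints (X : Scheme.{0}) [X.Over An.SC] [LocallyOfFiniteType (X ↘ An.SC)]
    (x : An.Pts X) : x.pt ∈ closedPoints ↥X := by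
  have h := (pointEquivClosedPoint (X ↘ An.SC) ⟨x.1, x.2⟩).2
  have h1 : IsLocalRing.closedPoint ℂ = An.cpt := An.eq_cpt _
  simp only [pointEquivClosedPoint_apply_coe] at h
  rw [h1] at h
  exact h

theorem main4198 (X Y : Scheme.{0}) [X.Over An.SC] [LocallyOfFiniteType (X ↘ An.SC)]
    [Y.Over An.SC] [LocallyOfFiniteType (Y ↘ An.SC)] (f : X ⟶ Y) [f.IsOver An.SC] [QuasiCompact f] :
    Function.Surjective f.base ↔ Function.Surjective (An.Pts.map f) := by
  have hflft : LocallyOfFiniteType f := by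
    have : LocallyOfFiniteType (f ≫ (Y ↘ An.SC)) := by rw [comp_over]; infer_instance
    exact locallyOfFiniteType_of_comp f (Y ↘ An.SC)
  constructor
  · intro hf y
    have hyc : IsClosed ({y.pt} : Set Y) := pt_mem_closedPoints Y y
    have hpre : IsClosed (f.base ⁻¹' {y.pt}) := hyc.preimage f.continuous
    obtain ⟨x₀, hx₀⟩ := hf y.pt
    obtain ⟨x, hx, hxc⟩ := exists_closedPoint_of_nonempty X (f.base ⁻¹' {y.pt})
      hpre.isLocallyClosed ⟨x₀, hx₀⟩
    refine ⟨ptOfClosed X x hxc, ?_⟩
    apply pt_injective Y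
    rw [An.Pts.pt_map, ptOfClosed_pt]
    exact hx
  · intro hsurj
    have hJ : JacobsonSpace ↥Y := LocallyOfFiniteType.jacobsonSpace (Y ↘ An.SC)
    have hN : IsLocallyNoetherian Y := LocallyOfFiniteType.isLocallyNoetherian (Y ↘ An.SC)
    have hlfp : LocallyOfFinitePresentation f := lfp_of_noeth f
    have hT : IsLocallyConstructible (Set.range f.base) := by
      rw [← Set.image_univ]
      exact f.isLocallyConstructible_image IsLocallyConstructible.univ
    have huniv := eq_univ_of_isLocallyConstructible hT (by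
      intro y hy'
      have hy : IsClosed ({y} : Set Y) := hy'
      obtain ⟨x, hx⟩ := hsurj (ptOfClosed Y y hy)
      refine ⟨x.pt, ?_⟩
      have := congrArg An.Pts.pt hx
      rw [An.Pts.pt_map, ptOfClosed_pt] at this
      exact this)
    intro y
    have : y ∈ Set.range f.base := huniv ▸ Set.mem_univ y
    exact this

end Groth.Agent.Lib.Helper4.AnSurj
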