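import Mathlib.AlgebraicGeometry.Morphisms.FormallyUnramified
import Mathlib.AlgebraicGeometry.Morphisms.Separated
import Mathlib.Tactic
import Groth.Prelude.Def_Grpd
import Groth.Agent.Lib.Helper4.GrpToGrpd
import Groth.Agent.Lib.Helper4.GrpdSepJ
import Groth.Agent.Lib.Helper4.GrpSchBasics

set_option autoImplicit false
universe u
open CategoryTheory MonoidalCategory CartesianMonoidalCategory MonObj GrpObj AlgebraicGeometry Limits

namespace Groth.Agent.Lib.Helper4.GrpSchUnram

open GrpToGrpd GrpSchBasics

/-- a section is the base change of the diagonal -/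
theorem isPullback_section {C : Type*} [Category C] [HasPullbacks C] {X Y : C} (π : X ⟶ Y)
    (e : Y ⟶ X) (he : e ≫ π = 𝟙 Y) (ψ : X ⟶ pullback π π)
    (hψ1 : ψ ≫ pullback.fst π π = π ≫ e) (hψ2 : ψ ≫ pullback.snd π π = 𝟙 X) :
    IsPullback e e (pullback.diagonal π) ψ := by
  have key : ∀ k : PullbackCone (pullback.diagonal π) ψ,
      k.fst = k.snd ≫ π ≫ e ∧ k.fst = k.snd := by
    intro k
    have h1 := congrArg (fun x => x ≫ pullback.fst π π) k.condition
    have h2 := congrArg (fun x => x ≫ pullback.snd π π) k.condition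
    simp only [Category.assoc, pullback.diagonal_fst, pullback.diagonal_snd, Category.comp_id,
      hψ1, hψ2] at h1 h2
    exact ⟨h1, h2⟩
  refine ⟨⟨?_⟩, ⟨PullbackCone.IsLimit.mk _ (fun k => k.snd ≫ π) ?_ ?_ ?_⟩⟩
  · apply pullback.hom_ext
    · rw [Category.assoc, Category.assoc, pullback.diagonal_fst, hψ1, Category.comp_id,
        ← Category.assoc, he, Category.id_comp]
    · rw [Category.assoc, Category.assoc, pullback.diagonal_snd, hψ2]
  · intro k
    rw [Category.assoc]; exact (key k).1.symm
  · intro k
    rw [Category.assoc, ← (key k).1]; exact (key k).2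
  · intro k m hm1 hm2
    have : m = (m ≫ e) ≫ π := by rw [Category.assoc, he, Category.comp_id]
    rw [this, hm1, (key k).2]

variable {S : Scheme.{u}} (G : Over S) [GrpObj G]

theorem diag_iff : IsOpenImmersion (pullback.diagonal G.hom) ↔ IsOpenImmersion η[G].left := by
  constructor
  · intro h
    exact MorphismProperty.of_isPullback (P := @IsOpenImmersion)
      (isPullback_section G.hom η[G].left (eta_hom G)
        (pullback.lift (G.hom ≫ η[G].left) (𝟙 _)
          (by rw [Category.assoc, eta_hom, Category.comp_id, Category.id_comp]))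
        (pullback.lift_fst _ _ _) (pullback.lift_snd _ _ _)) h
  · intro h
    have h1 := isIso_stab_fst G
    have h2 : IsOpenImmersion (ofGrp G).eStab := by
      have : IsOpenImmersion ((ofGrp G).eStab ≫ stabFst G) := by rw [eStab_fst]; exact h
      exact IsOpenImmersion.of_comp (ofGrp G).eStab (stabFst G)
    have h3 : IsOpenImmersion (pullback.diagonal (ofGrp G).j) :=
      MorphismProperty.of_isPullback (P := @IsOpenImmersion)
        (GrpdSepJ.isPullback_diag (ofGrp G)).flip h2
    have h4 : (MorphismProperty.diagonal @IsOpenImmersion) (ofGrp G).j := h3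
    have h5 : (MorphismProperty.diagonal @IsOpenImmersion)
        ((ofGrp G).j ≫ pullback.fst (ofGrp G).pU (ofGrp G).pU) :=
      (MorphismProperty.cancel_right_of_respectsIso _ _ _).mpr h4
    rw [j_fst] at h5
    exact h5

theorem main [LocallyOfFiniteType G.hom] :
    FormallyUnramified G.hom ↔ IsOpenImmersion η[G].left := by
  rw [← diag_iff]
  exact ⟨fun h => inferInstance, fun h => inferInstance⟩

end Groth.Agent.Lib.Helper4.GrpSchUnram
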