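import Mathlib.Tactic
import Mathlib.AlgebraicGeometry.Group.Smooth

open CategoryTheory AlgebraicGeometry Limits

namespace Groth.Agent.Lib.Helper4.GrpSmooth

universe u

variable {K : Type u} [Field K] {G : Scheme.{u}} (f : G ⟶ Spec (.of K))
    [LocallyOfFiniteType f] [GrpObj (Over.mk f)]

set_option backward.defeqAttrib.useBackward true in
set_option backward.isDefEq.respectTransparency false in
open MonObj MonoidalCategory CartesianMonoidalCategory in
/-- Copy of Mathlib's private lemma with the reducedness hypothesis replaced by nonemptiness of the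
smooth locus. -/
lemma smooth_of_nonempty_smoothLocus [IsAlgClosed K]
    (hne : (f.smoothLocus : Set G).Nonempty) : Smooth f := by
  have := LocallyOfFiniteType.jacobsonSpace f
  have : Nonempty G := ⟨η[Over.mk f].1 (IsLocalRing.closedPoint _)⟩
  rw [← Scheme.Hom.smoothLocus_eq_top_iff, ← TopologicalSpace.Opens.coe_eq_univ,
    ← not_ne_iff, ← Set.nonempty_compl]
  intro H
  obtain ⟨x, hx, hxc⟩ :=
    nonempty_inter_closedPoints H f.smoothLocus.2.isClosed_compl.isLocallyClosed
  obtain ⟨y, hy : y ∈ f.smoothLocus, hyc⟩ := nonempty_inter_closedPoints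
    hne f.smoothLocus.2.isLocallyClosed
  let x' : 𝟙_ _ ⟶ Over.mk f := Over.homMk _ ((pointEquivClosedPoint f).symm ⟨x, hxc⟩).2
  let y' : 𝟙_ _ ⟶ Over.mk f := Over.homMk _ ((pointEquivClosedPoint f).symm ⟨y, hyc⟩).2
  let α := (GrpObj.mulRight (A := Over.mk f) x').symm ≪≫
    (GrpObj.mulRight (A := Over.mk f) y')
  have hα : x' ≫ α.hom = y' := by
    dsimp only [Iso.trans_hom, Iso.symm_hom, α]
    rw [← Category.assoc, ← Iso.eq_comp_inv]
    simp [comp_lift_assoc]
  have hα' : α.hom.left x = y := by
    simpa [x', y', pointEquivClosedPoint] using congr(($hα).left (IsLocalRing.closedPoint K))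
  rw! [← hα', ← α.hom.left.mem_preimage, Scheme.Hom.preimage_smoothLocus_eq,
    show α.hom.left ≫ f = f from α.hom.w] at hy
  exact hx hy

end Groth.Agent.Lib.Helper4.GrpSmooth

namespace Groth.Agent.Lib.Helper4.GrpSmooth

universe u

open MonoidalCategory

set_option backward.isDefEq.respectTransparency.types false in
/-- The smooth locus of a base change contains the preimage of the smooth locus. -/
lemma mem_smoothLocus_pullback_snd {X S T : Scheme.{u}} (f : X ⟶ S) (g : T ⟶ S)
    [LocallyOfFinitePresentation f] (z : ↥(pullback f g))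
    (hz : (pullback.fst f g) z ∈ f.smoothLocus) :
    z ∈ (pullback.snd f g).smoothLocus := by
  set U := f.smoothLocus with hU
  have hsm : Smooth (U.ι ≫ f) := by
    rw [← Scheme.Hom.smoothLocus_eq_top_iff, ← Scheme.Hom.preimage_smoothLocus_eq]
    ext x
    simp only [Scheme.Hom.mem_preimage, Scheme.Opens.ι_apply, TopologicalSpace.Opens.coe_top,
      Set.mem_univ, iff_true]
    exact x.2
  let j : pullback (U.ι ≫ f) g ⟶ pullback f g :=
    pullback.map (U.ι ≫ f) g f g U.ι (𝟙 _) (𝟙 _) (by simp) (by simp)
  have hj : IsOpenImmersion j := by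
    dsimp only [j]; infer_instance
  have hjs : j ≫ pullback.snd f g = pullback.snd (U.ι ≫ f) g := by
    dsimp only [j, pullback.map]
    rw [pullback.lift_snd, Category.comp_id]
  have hsm' : Smooth (j ≫ pullback.snd f g) := by
    rw [hjs]; infer_instance
  have hpre := Scheme.Hom.preimage_smoothLocus_eq j (pullback.snd f g)
  rw [Scheme.Hom.smoothLocus_eq_top (j ≫ pullback.snd f g)] at hpre
  -- z is in the range of j
  have hzr : z ∈ Set.range j := by
    dsimp only [j]
    rw [Scheme.Pullback.range_map]
    refine ⟨?_, ?_⟩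
    · simp only [Set.mem_preimage, Scheme.Opens.range_ι]
      exact hz
    · simp
  obtain ⟨w, rfl⟩ := hzr
  have : w ∈ j ⁻¹ᵁ (pullback.snd f g).smoothLocus := by rw [hpre]; trivial
  exact this

end Groth.Agent.Lib.Helper4.GrpSmooth

namespace Groth.Agent.Lib.Helper4.GrpSmooth

universe u

open MonoidalCategory

theorem smooth_of_perfectField_reduced {K : Type u} [Field K] [PerfectField K]
    {G : Scheme.{u}} (f : G ⟶ Spec (.of K)) [LocallyOfFiniteType f] [GrpObj (Over.mk f)]
    [IsReduced G] : Smooth f := by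
  let Ω : Type u := AlgebraicClosure K
  let g : Spec (.of Ω) ⟶ Spec (.of K) := Spec.map (CommRingCat.ofHom <| algebraMap K Ω)
  apply MorphismProperty.of_pullback_snd_of_descendsAlong
    (Q := @Surjective ⊓ @Flat ⊓ @QuasiCompact) (g := g)
  · exact ⟨⟨inferInstance, inferInstance⟩, inferInstance⟩
  · let : GrpObj (Over.mk (Limits.pullback.snd f g)) := Over.grpObjMkPullbackSnd
    apply smooth_of_nonempty_smoothLocus
    have hG : Nonempty G := ⟨(MonObj.one (X := Over.mk f)).left (IsLocalRing.closedPoint _)⟩
    obtain ⟨y, hy⟩ := (f.dense_smoothLocus_of_perfectField).nonempty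
    have hsurj : Function.Surjective (pullback.fst f g) :=
      (inferInstance : Surjective (pullback.fst f g)).surj
    obtain ⟨z, rfl⟩ := hsurj y
    exact ⟨z, mem_smoothLocus_pullback_snd f g z hy⟩

end Groth.Agent.Lib.Helper4.GrpSmooth
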