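import Mathlib.Tactic
import Mathlib.AlgebraicGeometry.Group.Smooth
import Groth.Agent.Lib.Helper4.GrpSmooth

open CategoryTheory AlgebraicGeometry Limits

namespace Groth.Agent.Lib.Helper4.GrpSmooth2

universe u

open MonoidalCategory

/-- A locally of finite type group scheme over a field whose smooth locus is nonempty is smooth. -/
theorem smooth_of_nonempty_smoothLocus_field {K : Type u} [Field K]
    {G : Scheme.{u}} (f : G ⟶ Spec (.of K)) [LocallyOfFiniteType f] [GrpObj (Over.mk f)]
    (hne : (f.smoothLocus : Set G).Nonempty) : Smooth f := by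
  let Ω : Type u := AlgebraicClosure K
  let g : Spec (.of Ω) ⟶ Spec (.of K) := Spec.map (CommRingCat.ofHom <| algebraMap K Ω)
  apply MorphismProperty.of_pullback_snd_of_descendsAlong
    (Q := @Surjective ⊓ @Flat ⊓ @QuasiCompact) (g := g)
  · exact ⟨⟨inferInstance, inferInstance⟩, inferInstance⟩
  · let : GrpObj (Over.mk (Limits.pullback.snd f g)) := Over.grpObjMkPullbackSnd
    apply GrpSmooth.smooth_of_nonempty_smoothLocus
    obtain ⟨y, hy⟩ := hne
    have hsurj : Function.Surjective (pullback.fst f g) :=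
      (inferInstance : Surjective (pullback.fst f g)).surj
    obtain ⟨z, rfl⟩ := hsurj y
    exact ⟨z, GrpSmooth.mem_smoothLocus_pullback_snd f g z hy⟩

/-- If an open subscheme `V` of `X` has a point in the smooth locus of `V ⟶ S`, then the smooth
locus of `X ⟶ S` is nonempty. -/
lemma nonempty_smoothLocus_of_open {X S : Scheme.{u}} (f : X ⟶ S) [LocallyOfFinitePresentation f]
    (V : X.Opens) (h : ((V.ι ≫ f).smoothLocus : Set V.toScheme).Nonempty) :
    (f.smoothLocus : Set X).Nonempty := by
  obtain ⟨y, hy⟩ := h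
  rw [← Scheme.Hom.preimage_smoothLocus_eq] at hy
  exact ⟨V.ι y, hy⟩

/-- Same with an arbitrary open immersion. -/
lemma nonempty_smoothLocus_of_isOpenImmersion {U X S : Scheme.{u}} (j : U ⟶ X) [IsOpenImmersion j]
    (f : X ⟶ S) [LocallyOfFinitePresentation f]
    (h : ((j ≫ f).smoothLocus : Set U).Nonempty) :
    (f.smoothLocus : Set X).Nonempty := by
  obtain ⟨y, hy⟩ := h
  rw [← Scheme.Hom.preimage_smoothLocus_eq] at hy
  exact ⟨j y, hy⟩

end Groth.Agent.Lib.Helper4.GrpSmooth2
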