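import Mathlib.Tactic
import Mathlib.AlgebraicGeometry.Group.Smooth

open CategoryTheory AlgebraicGeometry Limits

namespace Groth.Agent.Lib.Helper4.RedNbhd

universe u

/-- In a noetherian ring, if the localization at a prime is reduced then some basic-open
localization is reduced. -/
lemma exists_isReduced_away {R : Type*} [CommRing R] [IsNoetherianRing R] (p : Ideal R) [p.IsPrime]
    (Rp : Type*) [CommRing Rp] [Algebra R Rp] [IsLocalization.AtPrime Rp p] [IsReduced Rp] :
    ∃ f : R, f ∉ p ∧ ∀ (Rf : Type*) [CommRing Rf] [Algebra R Rf] [IsLocalization.Away f Rf],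
      IsReduced Rf := by
  classical
  -- the nilradical is finitely generated
  obtain ⟨s, hs⟩ := (IsNoetherian.noetherian (nilradical R))
  -- each generator is killed by some element outside p
  have key : ∀ n ∈ nilradical R, ∃ t : R, t ∉ p ∧ t * n = 0 := by
    intro n hn
    have hnil : IsNilpotent (algebraMap R Rp n) := (mem_nilradical.mp hn).map _
    have h0 : algebraMap R Rp n = 0 := hnil.eq_zero
    rw [IsLocalization.map_eq_zero_iff p.primeCompl] at h0
    obtain ⟨t, ht⟩ := h0
    exact ⟨t.1, t.2, ht⟩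
  have : ∃ f : R, f ∉ p ∧ ∀ n ∈ (s : Set R), f * n = 0 := by
    have hsub : (s : Set R) ⊆ nilradical R := by
      rw [← hs]; exact Ideal.subset_span
    clear hs
    induction s using Finset.induction_on with
    | empty => exact ⟨1, by simpa using p.ne_top_iff_one.mp (Ideal.IsPrime.ne_top ‹_›), by simp⟩
    | insert a s ha ih =>
      obtain ⟨f, hf, hfs⟩ := ih (fun x hx => hsub (by simp [hx]))
      obtain ⟨t, ht, hta⟩ := key a (hsub (by simp))
      refine ⟨t * f, ?_, ?_⟩
      · exact fun h => (Ideal.IsPrime.mem_or_mem ‹_› h).elim ht hf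
      · intro n hn
        simp only [Finset.coe_insert, Set.mem_insert_iff] at hn
        rcases hn with rfl | hn
        · rw [mul_comm t f, mul_assoc, hta, mul_zero]
        · rw [mul_assoc, hfs n hn, mul_zero]
  obtain ⟨f, hf, hfs⟩ := this
  have hfN : ∀ n ∈ nilradical R, f * n = 0 := by
    intro n hn
    rw [← hs] at hn
    refine Submodule.span_induction (p := fun n _ => f * n = 0) ?_ ?_ ?_ ?_ hn
    · exact fun x hx => hfs x hx
    · simp
    · intro x y _ _ hx hy; rw [mul_add, hx, hy, add_zero]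
    · intro a x _ hx; rw [smul_eq_mul, mul_left_comm, hx, mul_zero]
  refine ⟨f, hf, ?_⟩
  intro Rf _ _ _
  constructor
  intro x hx
  obtain ⟨a, ⟨_, k, rfl⟩, rfl⟩ := IsLocalization.exists_mk'_eq (Submonoid.powers f) x
  obtain ⟨m, hm⟩ := hx
  rw [← IsLocalization.mk'_pow, IsLocalization.mk'_eq_zero_iff] at hm
  obtain ⟨⟨_, j, rfl⟩, hj⟩ := hm
  -- f^j * a^m = 0, so f * a is nilpotent
  have hnil : f * a ∈ nilradical R := by
    rw [mem_nilradical]
    refine ⟨j + m, ?_⟩
    rw [mul_pow, pow_add, pow_add]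
    calc f ^ j * f ^ m * (a ^ j * a ^ m) = (f ^ j * a ^ m) * (f ^ m * a ^ j) := by ring
      _ = 0 := by rw [hj, zero_mul]
  have h2 : f * (f * a) = 0 := hfN _ hnil
  rw [IsLocalization.mk'_eq_zero_iff]
  exact ⟨⟨f ^ 2, 2, rfl⟩, by simpa [pow_two, mul_assoc] using h2⟩

end Groth.Agent.Lib.Helper4.RedNbhd

namespace Groth.Agent.Lib.Helper4.RedNbhd

universe u

/-- A point with reduced stalk on a locally noetherian scheme has a reduced affine open
neighbourhood. -/
lemma exists_isReduced_nhd {X : Scheme.{u}} [IsLocallyNoetherian X] (x : X)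
    [hx : _root_.IsReduced (X.presheaf.stalk x)] :
    ∃ V : X.Opens, x ∈ V ∧ IsReduced V.toScheme := by
  obtain ⟨_, ⟨U, hU, rfl⟩, hxU, -⟩ :=
    X.isBasis_affineOpens.exists_subset_of_mem_open (Set.mem_univ x) isOpen_univ
  have hN : IsNoetherianRing Γ(X, U) := IsLocallyNoetherian.component_noetherian ⟨U, hU⟩
  let p := hU.primeIdealOf ⟨x, hxU⟩
  let := X.presheaf.algebra_section_stalk ⟨x, hxU⟩
  have : IsLocalization.AtPrime (X.presheaf.stalk x) p.asIdeal := hU.isLocalization_stalk ⟨x, hxU⟩
  obtain ⟨f, hf, hred⟩ := exists_isReduced_away p.asIdeal (X.presheaf.stalk x)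
  refine ⟨X.basicOpen f, ?_, ?_⟩
  · rw [Scheme.mem_basicOpen _ _ x hxU]
    exact (IsLocalization.AtPrime.isUnit_to_map_iff (X.presheaf.stalk x) p.asIdeal f).mpr hf
  · have hV : IsAffineOpen (X.basicOpen f) := hU.basicOpen f
    have : IsLocalization.Away f Γ(X, X.basicOpen f) := hU.isLocalization_basicOpen f
    have hr : _root_.IsReduced Γ(X, X.basicOpen f) := hred _
    have : IsAffine (X.basicOpen f).toScheme := hV
    have hr' : _root_.IsReduced Γ((X.basicOpen f).toScheme, ⊤) :=
      isReduced_of_injective (Scheme.Opens.topIso (X.basicOpen f)).hom.hom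
        (Scheme.Opens.topIso (X.basicOpen f)).commRingCatIsoToRingEquiv.injective
    exact isReduced_of_isAffine_isReduced _

/-- A locally of finite type scheme over a perfect field with a point whose stalk is reduced has
nonempty smooth locus. -/
lemma nonempty_smoothLocus_of_isReduced_stalk {K : Type u} [Field K] [PerfectField K]
    {X : Scheme.{u}} (f : X ⟶ Spec (.of K)) [LocallyOfFiniteType f] (x : X)
    [hx : _root_.IsReduced (X.presheaf.stalk x)] : (f.smoothLocus : Set X).Nonempty := by
  have : IsLocallyNoetherian X := LocallyOfFiniteType.isLocallyNoetherian f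
  obtain ⟨V, hxV, hV⟩ := exists_isReduced_nhd x
  have hd := (V.ι ≫ f).dense_smoothLocus_of_perfectField
  have hne : Nonempty V.toScheme := ⟨⟨x, hxV⟩⟩
  obtain ⟨y, hy⟩ := hd.nonempty
  rw [← Scheme.Hom.preimage_smoothLocus_eq] at hy
  exact ⟨V.ι y, hy⟩

end Groth.Agent.Lib.Helper4.RedNbhd
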