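import Mathlib.AlgebraicGeometry.Pullbacks
import Mathlib.Tactic
import Groth.Prelude.Def_Grpd
import Groth.Agent.Lib.Helper4.GrpdCalc

set_option autoImplicit false
universe u
open CategoryTheory AlgebraicGeometry TopologicalSpace Limits

namespace Groth.Agent.Lib.Helper4.GrpdHom

open Grpd GrpdCalc

variable {S : Scheme.{u}} {G₁ G₂ : GroupoidScheme S} (a : GroupoidScheme.Hom G₁ G₂)
  {T : Scheme.{u}}

theorem hom_cond (α β : T ⟶ G₁.R) (h : α ≫ G₁.s = β ≫ G₁.t) :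
    (α ≫ a.fR) ≫ G₂.s = (β ≫ a.fR) ≫ G₂.t := by
  rw [Category.assoc, Category.assoc, a.comm_s, a.comm_t, ← Category.assoc, ← Category.assoc, h]

theorem hom_cmp (α β : T ⟶ G₁.R) (h : α ≫ G₁.s = β ≫ G₁.t) :
    cmp G₁ α β h ≫ a.fR = cmp G₂ (α ≫ a.fR) (β ≫ a.fR) (hom_cond a α β h) :=
  a.comm_c α β h

theorem comm_e : G₁.e ≫ a.fR = a.fU ≫ G₂.e := by
  obtain ⟨e', he'⟩ : ∃ e', e' = G₁.e ≫ a.fR := ⟨_, rfl⟩
  have hs : e' ≫ G₂.s = a.fU := by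
    rw [he', Category.assoc, a.comm_s, ← Category.assoc, G₁.e_s, Category.id_comp]
  have ht : e' ≫ G₂.t = a.fU := by
    rw [he', Category.assoc, a.comm_t, ← Category.assoc, G₁.e_t, Category.id_comp]
  have hst : e' ≫ G₂.s = e' ≫ G₂.t := hs.trans ht.symm
  have h1 : cmp G₂ e' e' hst = e' := by
    have h0 : G₁.e ≫ G₁.s = G₁.e ≫ G₁.t := by rw [G₁.e_s, G₁.e_t]
    have := hom_cmp a G₁.e G₁.e h0
    rw [cmp_e G₁ G₁.e G₁.e (by rw [← Category.assoc, G₁.e_s, Category.id_comp]) h0] at this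
    subst he'
    exact this.symm
  have hi : (e' ≫ G₂.i) ≫ G₂.s = e' ≫ G₂.t := by rw [Category.assoc, G₂.i_s]
  have h2 := L1 G₂ e' e' hst (by rw [cmp_t]; exact hi)
  rw [cmp_congr G₂ rfl h1 _ hi, i_cmp, ← Category.assoc, hs] at h2
  rw [← he']
  exact h2.symm

theorem comm_i : a.fR ≫ G₂.i = G₁.i ≫ a.fR := by
  obtain ⟨ρ, hρ⟩ : ∃ ρ, ρ = a.fR := ⟨_, rfl⟩
  obtain ⟨ρ', hρ'⟩ : ∃ ρ', ρ' = G₁.i ≫ a.fR := ⟨_, rfl⟩
  have hc : ρ' ≫ G₂.s = ρ ≫ G₂.t := by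
    rw [hρ, hρ', Category.assoc, a.comm_s, a.comm_t, ← Category.assoc, G₁.i_s]
  have h1 : cmp G₂ ρ' ρ hc = ρ ≫ G₂.s ≫ G₂.e := by
    have h0 : G₁.i ≫ G₁.s = 𝟙 _ ≫ G₁.t := by rw [G₁.i_s, Category.id_comp]
    have := hom_cmp a G₁.i (𝟙 _) h0
    have h3 : cmp G₁ G₁.i (𝟙 _) h0 = G₁.s ≫ G₁.e :=
      (cmp_congr G₁ (Category.id_comp _).symm rfl h0 (by rw [Category.id_comp]; exact h0)).trans
        ((i_cmp G₁ (𝟙 G₁.R) _).trans (Category.id_comp _))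
    rw [h3, Category.assoc, comm_e, ← Category.assoc, ← a.comm_s, Category.assoc] at this
    subst hρ; subst hρ'
    rw [this]
    exact cmp_congr G₂ rfl (Category.id_comp _).symm _ _
  have hi : ρ ≫ G₂.s = (ρ ≫ G₂.i) ≫ G₂.t := by rw [Category.assoc, G₂.i_t]
  have h2 := L3 G₂ ρ ρ' hc (by rw [cmp_s]; exact hi)
  have hc' : (ρ ≫ G₂.s ≫ G₂.e) ≫ G₂.s = (ρ ≫ G₂.i) ≫ G₂.t := by
    rw [Category.assoc, Category.assoc, G₂.e_s, Category.comp_id]; exact hi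
  rw [cmp_congr G₂ h1 rfl _ hc'] at h2
  rw [e_cmp G₂ (ρ ≫ G₂.i) _ (by rw [Category.assoc, ← Category.assoc G₂.i, G₂.i_t]) hc'] at h2
  subst hρ; subst hρ'
  exact h2

end Groth.Agent.Lib.Helper4.GrpdHom
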