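import Mathlib.AlgebraicGeometry.Morphisms.UniversallyOpen
import Mathlib.AlgebraicGeometry.ResidueField
import Mathlib.AlgebraicGeometry.PullbackCarrier
import Mathlib.Tactic
import Groth.Prelude.Def_Grpd
import Groth.Agent.Lib.Helper4.GrpdCalc
import Groth.Agent.Lib.Helper4.GrpdHom
import Groth.Agent.Lib.Helper4.GrpdAct

set_option autoImplicit false
universe u
open CategoryTheory AlgebraicGeometry TopologicalSpace Limits

namespace Groth.Agent.Lib.Helper4.GrpdOpenClosed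

open Grpd GrpdCalc GrpdHom

variable {S : Scheme.{u}} {G₁ G₂ : GroupoidScheme S} (a : GroupoidScheme.Hom G₁ G₂)

section

variable {Z : Scheme.{u}} (a' : Z ⟶ G₂.R) (W : G₂.R.Opens)

/-- the translate map `(z, w) ↦ a'(z) ∘ w` -/
noncomputable def ν : pullback (a' ≫ G₂.s) (W.ι ≫ G₂.t) ⟶ G₂.R :=
  pullback.lift (pullback.fst (a' ≫ G₂.s) (W.ι ≫ G₂.t) ≫ a')
      (pullback.snd (a' ≫ G₂.s) (W.ι ≫ G₂.t) ≫ W.ι)
      ((Category.assoc _ _ _).trans (pullback.condition.trans (Category.assoc _ _ _).symm)) ≫ G₂.c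

theorem ν_eq : ν a' W = cmp G₂ (pullback.fst (a' ≫ G₂.s) (W.ι ≫ G₂.t) ≫ a')
      (pullback.snd (a' ≫ G₂.s) (W.ι ≫ G₂.t) ≫ W.ι)
      ((Category.assoc _ _ _).trans (pullback.condition.trans (Category.assoc _ _ _).symm)) := rfl

theorem N_cond {T : Scheme.{u}} (n : T ⟶ pullback (a' ≫ G₂.s) (W.ι ≫ G₂.t)) :
    (n ≫ pullback.fst (a' ≫ G₂.s) (W.ι ≫ G₂.t) ≫ a') ≫ G₂.s =
    (n ≫ pullback.snd (a' ≫ G₂.s) (W.ι ≫ G₂.t) ≫ W.ι) ≫ G₂.t := by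
  have := congrArg (fun x => n ≫ x) (pullback.condition (f := a' ≫ G₂.s) (g := W.ι ≫ G₂.t))
  simpa only [Category.assoc] using this

theorem precomp_ν {T : Scheme.{u}} (n : T ⟶ pullback (a' ≫ G₂.s) (W.ι ≫ G₂.t)) :
    n ≫ ν a' W = cmp G₂ (n ≫ pullback.fst (a' ≫ G₂.s) (W.ι ≫ G₂.t) ≫ a')
      (n ≫ pullback.snd (a' ≫ G₂.s) (W.ι ≫ G₂.t) ≫ W.ι) (N_cond a' W n) := by
  rw [ν_eq, precomp G₂ n _ _ _ (N_cond a' W n)]

/-- the translate contains `a'` if the identities lie in `W` -/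
theorem mem_range_ν (ε : Z ⟶ W) (hε : ε ≫ W.ι = a' ≫ G₂.s ≫ G₂.e) (z : Z) :
    a' z ∈ Set.range (ν a' W) := by
  have hcond : 𝟙 Z ≫ a' ≫ G₂.s = ε ≫ W.ι ≫ G₂.t := by
    rw [Category.id_comp, ← Category.assoc ε, hε, Category.assoc, Category.assoc, G₂.e_t,
      Category.comp_id]
  have h1 : pullback.lift (𝟙 Z) ε hcond ≫ ν a' W = a' := by
    rw [precomp_ν]
    rw [cmp_congr G₂ (by rw [pullback.lift_fst_assoc, Category.id_comp] :
        pullback.lift (𝟙 Z) ε hcond ≫ pullback.fst (a' ≫ G₂.s) (W.ι ≫ G₂.t) ≫ a' = a')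
      (by rw [pullback.lift_snd_assoc, hε] :
        pullback.lift (𝟙 Z) ε hcond ≫ pullback.snd (a' ≫ G₂.s) (W.ι ≫ G₂.t) ≫ W.ι =
          a' ≫ G₂.s ≫ G₂.e) _
      (by rw [Category.assoc, Category.assoc, G₂.e_t, Category.comp_id])]
    exact cmp_e G₂ a' _ rfl _
  refine ⟨pullback.lift (𝟙 Z) ε hcond z, ?_⟩
  rw [← Scheme.Hom.comp_apply, h1]

end

/-- if a translate of the image meets the image, then `a'` meets the image -/
theorem meets [Mono a.fU] {Z : Scheme.{u}} (a' : Z ⟶ G₂.R) (W : G₂.R.Opens)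
    (hW : (W : Set G₂.R) = Set.range a.fR)
    (n : G₂.R) (hn1 : n ∈ Set.range (ν a' W)) (hn2 : n ∈ Set.range a.fR) :
    ∃ z : Z, a' z ∈ Set.range a.fR := by
  obtain ⟨p, hp⟩ := hn1
  obtain ⟨x₁, hx₁⟩ := hn2
  obtain ⟨p₁, hp₁, -⟩ := Scheme.Pullback.exists_preimage_pullback (f := ν a' W) (g := a.fR) p x₁
    (hp.trans hx₁.symm)
  let q : pullback (ν a' W) a.fR ⟶ G₂.R :=
    pullback.fst (ν a' W) a.fR ≫ pullback.snd (a' ≫ G₂.s) (W.ι ≫ G₂.t) ≫ W.ι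
  have hq : q p₁ ∈ Set.range a.fR := by
    rw [← hW]
    show (pullback.fst (ν a' W) a.fR ≫ pullback.snd (a' ≫ G₂.s) (W.ι ≫ G₂.t) ≫ W.ι) p₁ ∈ _
    rw [← Category.assoc, Scheme.Hom.comp_apply]
    have := Set.mem_range_self (f := W.ι) ((pullback.fst (ν a' W) a.fR ≫
      pullback.snd (a' ≫ G₂.s) (W.ι ≫ G₂.t)) p₁)
    rwa [Scheme.Opens.range_ι] at this
  obtain ⟨y₁, hy₁⟩ := hq
  obtain ⟨p₂, -, -⟩ := Scheme.Pullback.exists_preimage_pullback (f := q) (g := a.fR) p₁ y₁ hy₁.symm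
  -- the test scheme
  obtain ⟨pT, hpT⟩ : ∃ pT : pullback q a.fR ⟶ pullback (a' ≫ G₂.s) (W.ι ≫ G₂.t),
      pT = pullback.fst q a.fR ≫ pullback.fst (ν a' W) a.fR := ⟨_, rfl⟩
  obtain ⟨x, hx⟩ : ∃ x : pullback q a.fR ⟶ G₁.R,
      x = pullback.fst q a.fR ≫ pullback.snd (ν a' W) a.fR := ⟨_, rfl⟩
  obtain ⟨y, hy⟩ : ∃ y : pullback q a.fR ⟶ G₁.R, y = pullback.snd q a.fR := ⟨_, rfl⟩
  have hA : pT ≫ ν a' W = x ≫ a.fR := by
    rw [hpT, hx, Category.assoc, Category.assoc, pullback.condition]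
  have hB : pT ≫ pullback.snd (a' ≫ G₂.s) (W.ι ≫ G₂.t) ≫ W.ι = y ≫ a.fR := by
    rw [hpT, hy, Category.assoc, ← pullback.condition]
  obtain ⟨α, hα⟩ : ∃ α, α = pT ≫ pullback.fst (a' ≫ G₂.s) (W.ι ≫ G₂.t) ≫ a' := ⟨_, rfl⟩
  have hαβ : α ≫ G₂.s = (y ≫ a.fR) ≫ G₂.t := by
    rw [hα, ← hB]; exact N_cond a' W pT
  have hcmp : cmp G₂ α (y ≫ a.fR) hαβ = x ≫ a.fR := by
    rw [← hA, precomp_ν]
    exact cmp_congr G₂ hα hB.symm _ _
  have hxy : x ≫ G₁.s = (y ≫ G₁.i) ≫ G₁.t := by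
    rw [Category.assoc, G₁.i_t, ← cancel_mono a.fU, Category.assoc, Category.assoc, ← a.comm_s,
      ← Category.assoc, ← Category.assoc, ← hcmp, cmp_s]
  have h3 := L3 G₂ (y ≫ a.fR) α hαβ (by rw [cmp_s, Category.assoc (y ≫ a.fR), G₂.i_t])
  have h4 : (y ≫ a.fR) ≫ G₂.i = (y ≫ G₁.i) ≫ a.fR := by
    rw [Category.assoc, comm_i, Category.assoc]
  have h5 : α = cmp G₁ x (y ≫ G₁.i) hxy ≫ a.fR := by
    rw [hom_cmp, ← h3]
    exact cmp_congr G₂ hcmp h4 _ _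
  refine ⟨(pT ≫ pullback.fst (a' ≫ G₂.s) (W.ι ≫ G₂.t)) p₂, ?_⟩
  rw [← Scheme.Hom.comp_apply, Category.assoc, ← hα, h5, Scheme.Hom.comp_apply]
  exact Set.mem_range_self _

theorem main (k : Type u) [Field k] (eU : G₂.U ≅ Spec (CommRingCat.of k)) [IsIso a.fU]
    (hopen : IsOpen (Set.range ⇑a.fR)) : IsClosed (Set.range ⇑a.fR) := by
  rw [← isOpen_compl_iff, isOpen_iff_forall_mem_open]
  intro r hr
  let W : G₂.R.Opens := ⟨Set.range a.fR, hopen⟩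
  let a' := G₂.R.fromSpecResidueField r
  -- identities lie in W
  have he : Set.range (a' ≫ G₂.s ≫ G₂.e) ⊆ Set.range W.ι := by
    rw [Scheme.Opens.range_ι]
    rintro _ ⟨z, rfl⟩
    have h1 : G₂.e = inv a.fU ≫ G₁.e ≫ a.fR := by
      rw [comm_e, IsIso.inv_hom_id_assoc]
    show (a' ≫ G₂.s ≫ G₂.e) z ∈ Set.range a.fR
    rw [h1, ← Category.assoc, ← Category.assoc, ← Category.assoc, Scheme.Hom.comp_apply]
    exact Set.mem_range_self _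
  let ε : Spec (G₂.R.residueField r) ⟶ W := IsOpenImmersion.lift W.ι (a' ≫ G₂.s ≫ G₂.e) he
  have hε : ε ≫ W.ι = a' ≫ G₂.s ≫ G₂.e := IsOpenImmersion.lift_fac _ _ _
  refine ⟨Set.range (ν a' W), ?_, GrpdAct.main G₂ a' k eU W, ?_⟩
  · intro n hn1 hn2
    obtain ⟨z, hz⟩ := meets a a' W rfl n hn1 hn2
    apply hr
    rwa [Scheme.fromSpecResidueField_apply] at hz
  · have := mem_range_ν a' W ε hε (default : Spec (G₂.R.residueField r))
    rwa [Scheme.fromSpecResidueField_apply] at this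

end Groth.Agent.Lib.Helper4.GrpdOpenClosed
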