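import Mathlib.AlgebraicGeometry.Morphisms.QuasiFinite
import Mathlib.AlgebraicGeometry.Noetherian
import Mathlib.Tactic

set_option autoImplicit false
universe u
open CategoryTheory AlgebraicGeometry TopologicalSpace

namespace Groth.Agent.Lib.Helper4.IsolatedPoint

theorem spec_case (A : Type u) [CommRing A] [IsNoetherianRing A] (q : PrimeSpectrum A)
    (hmax : q.asIdeal.IsMaximal) (hmin : ∀ q' : PrimeSpectrum A, q' ≤ q → q' = q) :
    IsOpen ({q} : Set (PrimeSpectrum A)) := by
  rw [← isClosed_compl_iff]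
  have hfin : {p ∈ minimalPrimes A | p ≠ q.asIdeal}.Finite :=
    (minimalPrimes.finite_of_isNoetherianRing A).subset (fun p hp => hp.1)
  have e : ({q} : Set (PrimeSpectrum A))ᶜ =
      ⋃ p ∈ {p ∈ minimalPrimes A | p ≠ q.asIdeal}, PrimeSpectrum.zeroLocus (p : Set A) := by
    ext r
    simp only [Set.mem_compl_iff, Set.mem_singleton_iff, Set.mem_iUnion, PrimeSpectrum.mem_zeroLocus,
      SetLike.coe_subset_coe, exists_prop]
    constructor
    · intro hr
      obtain ⟨p, hp, hpr⟩ := Ideal.exists_minimalPrimes_le (bot_le : (⊥ : Ideal A) ≤ r.asIdeal)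
      refine ⟨p, ⟨hp, ?_⟩, hpr⟩
      rintro rfl
      exact hr (PrimeSpectrum.ext (hmax.eq_of_le r.2.ne_top hpr).symm)
    · rintro ⟨p, ⟨hp, hpq⟩, hpr⟩ rfl
      have hpp : p.IsPrime := hp.1.1
      have := hmin ⟨p, hpp⟩ hpr
      exact hpq (congrArg PrimeSpectrum.asIdeal this)
  rw [e]
  exact hfin.isClosed_biUnion fun p _ => PrimeSpectrum.isClosed_zeroLocus _

theorem isOpen_singleton (F : Scheme.{u}) [IsLocallyNoetherian F] (z : F)
    (hcl : IsClosed ({z} : Set F)) (hgen : ∀ z' : F, z' ⤳ z → z' = z) :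
    IsOpen ({z} : Set F) := by
  obtain ⟨U, hU, hzU, -⟩ := exists_isAffineOpen_mem_and_subset (U := ⊤) (x := z) (by simp)
  have : IsNoetherianRing Γ(F, U) := IsLocallyNoetherian.component_noetherian ⟨U, hU⟩
  have hemb : Topology.IsOpenEmbedding hU.fromSpec := hU.fromSpec.isOpenEmbedding
  have hzr : z ∈ Set.range hU.fromSpec := by rw [hU.range_fromSpec]; exact hzU
  obtain ⟨q, rfl⟩ := hzr
  have hpre : ({q} : Set ↥(Spec Γ(F, U))) = hU.fromSpec ⁻¹' {hU.fromSpec q} := by
    ext r
    simp only [Set.mem_singleton_iff, Set.mem_preimage]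
    exact ⟨fun h => by rw [h], fun h => hemb.injective h⟩
  have hq : IsOpen ({q} : Set ↥(Spec Γ(F, U))) := by
    refine spec_case Γ(F, U) q ?_ ?_
    · apply (PrimeSpectrum.isClosed_singleton_iff_isMaximal (R := Γ(F, U)) q).mp
      show IsClosed ({q} : Set ↥(Spec Γ(F, U)))
      rw [hpre]
      exact hcl.preimage hU.fromSpec.continuous
    · intro q' hq'
      have h1 : @Specializes (PrimeSpectrum Γ(F, U)) _ q' q :=
        (PrimeSpectrum.le_iff_specializes _ _).mp hq'
      have h2 : hU.fromSpec q' ⤳ hU.fromSpec q := hemb.isInducing.specializes_iff.mpr h1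
      exact hemb.injective (hgen _ h2)
  have := hemb.isOpenMap _ hq
  rwa [Set.image_singleton] at this

theorem main {X S : Scheme.{u}} (f : X ⟶ S) [LocallyOfFiniteType f] (x : X) :
    f.QuasiFiniteAt x ↔
      (IsClosed ({f.asFiber x} : Set ↑(f.fiber (f.base x))) ∧
        ∀ x' : ↑(f.fiber (f.base x)), x' ⤳ f.asFiber x → x' = f.asFiber x) := by
  constructor
  · intro h
    have hc := h.isClopen_singleton_asFiber
    exact ⟨hc.1, fun x' hx' => hx'.mem_open hc.2 rfl⟩
  · rintro ⟨h1, h2⟩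
    rw [Scheme.Hom.quasiFiniteAt_iff_isOpen_singleton_asFiber]
    have : IsLocallyNoetherian (f.fiber (f.base x)) := by
      unfold Scheme.Hom.fiber
      infer_instance
    exact isOpen_singleton _ _ h1 h2

end Groth.Agent.Lib.Helper4.IsolatedPoint
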