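import Mathlib.Tactic
import Mathlib.RingTheory.Localization.BaseChange
import Mathlib.RingTheory.Nilpotent.Lemmas
import Mathlib.RingTheory.FiniteType
import Mathlib.RingTheory.FiniteStability
import Mathlib.RingTheory.Noetherian.Basic

open TensorProduct

namespace Groth.Agent.Lib.Helper4.RedTensor

universe u

/-- In a noetherian ring, if a localization is reduced then already some localization at one
element of the submonoid is reduced. -/
lemma exists_isReduced_away_of_submonoid {R : Type*} [CommRing R] [IsNoetherianRing R]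
    (M : Submonoid R) (RM : Type*) [CommRing RM] [Algebra R RM] [IsLocalization M RM]
    [IsReduced RM] :
    ∃ f ∈ M, ∀ (Rf : Type*) [CommRing Rf] [Algebra R Rf] [IsLocalization.Away f Rf],
      IsReduced Rf := by
  classical
  obtain ⟨s, hs⟩ := (IsNoetherian.noetherian (nilradical R))
  have key : ∀ n ∈ nilradical R, ∃ t ∈ M, t * n = 0 := by
    intro n hn
    have hnil : IsNilpotent (algebraMap R RM n) := (mem_nilradical.mp hn).map _
    have h0 : algebraMap R RM n = 0 := hnil.eq_zero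
    rw [IsLocalization.map_eq_zero_iff M] at h0
    obtain ⟨t, ht⟩ := h0
    exact ⟨t.1, t.2, ht⟩
  have : ∃ f ∈ M, ∀ n ∈ (s : Set R), f * n = 0 := by
    have hsub : (s : Set R) ⊆ nilradical R := by
      rw [← hs]; exact Ideal.subset_span
    clear hs
    induction s using Finset.induction_on with
    | empty => exact ⟨1, M.one_mem, by simp⟩
    | insert a s ha ih =>
      obtain ⟨f, hf, hfs⟩ := ih (fun x hx => hsub (by simp [hx]))
      obtain ⟨t, ht, hta⟩ := key a (hsub (by simp))
      refine ⟨t * f, M.mul_mem ht hf, ?_⟩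
      intro n hn
      simp only [Finset.coe_insert, Set.mem_insert_iff] at hn
      rcases hn with rfl | hn
      · rw [mul_comm t f, mul_assoc, hta, mul_zero]
      · rw [mul_assoc, hfs n hn, mul_zero]
  obtain ⟨f, hf, hfs⟩ := this
  have hfN : ∀ n ∈ nilradical R, f * n = 0 := by
    intro n hn
    rw [← hs] at hn
    refine Submodule.span_induction (p := fun n _ => f * n = 0) ?_ ?_ ?_ ?_ hn
    · exact fun x hx => hfs x hx
    · simp
    · intro x y _ _ hx hy; rw [mul_add, hx, hy, add_zero]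
    · intro a x _ hx; rw [smul_eq_mul, mul_left_comm, hx, mul_zero]
  refine ⟨f, hf, ?_⟩
  intro Rf _ _ _
  constructor
  intro x hx
  obtain ⟨a, ⟨_, k, rfl⟩, rfl⟩ := IsLocalization.exists_mk'_eq (Submonoid.powers f) x
  obtain ⟨m, hm⟩ := hx
  rw [← IsLocalization.mk'_pow, IsLocalization.mk'_eq_zero_iff] at hm
  obtain ⟨⟨_, j, rfl⟩, hj⟩ := hm
  have hnil : f * a ∈ nilradical R := by
    rw [mem_nilradical]
    refine ⟨j + m, ?_⟩
    rw [mul_pow, pow_add, pow_add]
    calc f ^ j * f ^ m * (a ^ j * a ^ m) = (f ^ j * a ^ m) * (f ^ m * a ^ j) := by ring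
      _ = 0 := by rw [hj, zero_mul]
  have h2 : f * (f * a) = 0 := hfN _ hnil
  rw [IsLocalization.mk'_eq_zero_iff]
  exact ⟨⟨f ^ 2, 2, rfl⟩, by simpa [pow_two, mul_assoc] using h2⟩

/-- Lemma D: if `B_M ⊗ K` is reduced (B of finite type over the field k) then `B_a ⊗ K` is reduced
for some `a ∈ M`. -/
lemma exists_isReduced_tensor_away {k : Type u} [Field k] {B : Type u} [CommRing B] [Algebra k B]
    [Algebra.FiniteType k B] (M : Submonoid B) (BM : Type u) [CommRing BM] [Algebra B BM]
    [Algebra k BM] [IsScalarTower k B BM] [IsLocalization M BM]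
    (K : Type u) [Field K] [Algebra k K] [IsReduced (BM ⊗[k] K)] :
    ∃ a ∈ M, ∀ (Ba : Type u) [CommRing Ba] [Algebra B Ba] [Algebra k Ba] [IsScalarTower k B Ba]
      [IsLocalization.Away a Ba], IsReduced (Ba ⊗[k] K) := by
  -- R = B ⊗ K is noetherian
  have hft : Algebra.FiniteType K (K ⊗[k] B) := inferInstance
  have hN' : IsNoetherianRing (K ⊗[k] B) := Algebra.FiniteType.isNoetherianRing K _
  have hN : IsNoetherianRing (B ⊗[k] K) :=
    isNoetherianRing_of_ringEquiv _ (Algebra.TensorProduct.comm k K B).toRingEquiv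
  let φ : B ⊗[k] K →ₐ[k] BM ⊗[k] K :=
    Algebra.TensorProduct.map (IsScalarTower.toAlgHom k B BM) (AlgHom.id k K)
  let : Algebra (B ⊗[k] K) (BM ⊗[k] K) := φ.toRingHom.toAlgebra
  have : IsScalarTower B (B ⊗[k] K) (BM ⊗[k] K) := IsScalarTower.of_algebraMap_eq' (by
    ext x; simp [RingHom.algebraMap_toAlgebra, φ])
  have : IsLocalization (Algebra.algebraMapSubmonoid (B ⊗[k] K) M) (BM ⊗[k] K) := by
    refine IsLocalization.tensorProduct_tensorProduct k K M BM ?_
    ext x; simp [RingHom.algebraMap_toAlgebra, φ]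
  obtain ⟨f, ⟨a, ha, rfl⟩, hf⟩ := exists_isReduced_away_of_submonoid
    (Algebra.algebraMapSubmonoid (B ⊗[k] K) M) (BM ⊗[k] K)
  refine ⟨a, ha, ?_⟩
  intro Ba _ _ _ _ _
  let ψ : B ⊗[k] K →ₐ[k] Ba ⊗[k] K :=
    Algebra.TensorProduct.map (IsScalarTower.toAlgHom k B Ba) (AlgHom.id k K)
  let : Algebra (B ⊗[k] K) (Ba ⊗[k] K) := ψ.toRingHom.toAlgebra
  have : IsScalarTower B (B ⊗[k] K) (Ba ⊗[k] K) := IsScalarTower.of_algebraMap_eq' (by
    ext x; simp [RingHom.algebraMap_toAlgebra, ψ])
  have : IsLocalization.Away (algebraMap B (B ⊗[k] K) a) (Ba ⊗[k] K) := by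
    have : Submonoid.powers (algebraMap B (B ⊗[k] K) a) =
        Algebra.algebraMapSubmonoid (B ⊗[k] K) (.powers a) := by simp
    rw [IsLocalization.Away, this]
    refine IsLocalization.tensorProduct_tensorProduct _ _ _ _ ?_
    ext x; simp [RingHom.algebraMap_toAlgebra, ψ]
  exact hf (Ba ⊗[k] K)

end Groth.Agent.Lib.Helper4.RedTensor
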