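import Mathlib.Tactic
import Mathlib.AlgebraicGeometry.Group.Smooth
import Groth.Agent.Lib.Helper4.RedTensor
import Groth.Agent.Lib.Helper4.GrpSmooth2

open CategoryTheory AlgebraicGeometry Limits TensorProduct

namespace Groth.Agent.Lib.Helper4.RedTensorSch

universe u

lemma lft_SpecMap {k A : Type u} [CommRing k] [CommRing A] [Algebra k A] [Algebra.FiniteType k A] :
    LocallyOfFiniteType (Spec.map (CommRingCat.ofHom (algebraMap k A))) :=
  (HasRingHomProperty.Spec_iff (P := @LocallyOfFiniteType)).mpr
    (RingHom.finiteType_algebraMap.mpr ‹_›)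

/-- Lemma R: for a nontrivial finite type `k`-algebra `A` with `A ⊗ K` reduced, `K` perfect, the base
change `Spec A ×ₖ Spec K → Spec K` has nonempty smooth locus. -/
lemma nonempty_smoothLocus_pullback_Spec {k K A : Type u} [Field k] [Field K] [Algebra k K]
    [PerfectField K] [CommRing A] [Algebra k A] [Algebra.FiniteType k A] [Nontrivial A]
    [_root_.IsReduced (A ⊗[k] K)]
    [LocallyOfFiniteType (Spec.map (CommRingCat.ofHom (algebraMap k A)))] :
    ((pullback.snd (Spec.map (CommRingCat.ofHom (algebraMap k A)))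
      (Spec.map (CommRingCat.ofHom (algebraMap k K)))).smoothLocus : Set ↑(pullback
        (Spec.map (CommRingCat.ofHom (algebraMap k A)))
        (Spec.map (CommRingCat.ofHom (algebraMap k K))))).Nonempty := by
  set h : Spec (.of A) ⟶ Spec (.of k) := Spec.map (CommRingCat.ofHom (algebraMap k A))
  set g : Spec (.of K) ⟶ Spec (.of k) := Spec.map (CommRingCat.ofHom (algebraMap k K))
  have hred : IsReduced (pullback h g) :=
    isReduced_of_isOpenImmersion (pullbackSpecIso k A K).hom
  have hne : Nonempty ↑(pullback h g) := by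
    have : Nonempty ↑(Spec (.of A)) := inferInstanceAs (Nonempty (PrimeSpectrum A))
    obtain ⟨y⟩ := this
    have hsurj : Function.Surjective (pullback.fst h g) :=
      (inferInstance : Surjective (pullback.fst h g)).surj
    obtain ⟨z, -⟩ := hsurj y
    exact ⟨z⟩
  exact ((pullback.snd h g).dense_smoothLocus_of_perfectField).nonempty

/-- Main lemma: if `K ⊗ₖ O_{X,x}` is reduced (K perfect), then the base change of `X` to `K` has
nonempty smooth locus. -/
theorem nonempty_smoothLocus_of_isReduced_tensor_stalk {k K : Type u} [Field k] [Field K]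
    [Algebra k K] [PerfectField K] {X : Scheme.{u}} (f : X ⟶ Spec (.of k)) [LocallyOfFiniteType f]
    (x : X)
    (h : letI := ((Scheme.ΓSpecIso (.of k)).inv ≫ f.appTop ≫
            X.presheaf.germ ⊤ x trivial).hom.toAlgebra
         _root_.IsReduced (K ⊗[k] X.presheaf.stalk x)) :
    ((pullback.snd f (Spec.map (CommRingCat.ofHom (algebraMap k K)))).smoothLocus :
      Set ↑(pullback f (Spec.map (CommRingCat.ofHom (algebraMap k K))))).Nonempty := by
  obtain ⟨_, ⟨U, hU, rfl⟩, hxU, -⟩ :=
    X.isBasis_affineOpens.exists_subset_of_mem_open (Set.mem_univ x) isOpen_univ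
  have hle : U ≤ f ⁻¹ᵁ ⊤ := le_top
  let φ : k →+* Γ(X, U) := ((Scheme.ΓSpecIso (.of k)).inv ≫ f.appLE ⊤ U hle).hom
  let algB : Algebra k Γ(X, U) := φ.toAlgebra
  let algS : Algebra k (X.presheaf.stalk x) :=
    ((Scheme.ΓSpecIso (.of k)).inv ≫ f.appTop ≫ X.presheaf.germ ⊤ x trivial).hom.toAlgebra
  let algBS : Algebra Γ(X, U) (X.presheaf.stalk x) := X.presheaf.algebra_section_stalk ⟨x, hxU⟩
  have tower : IsScalarTower k Γ(X, U) (X.presheaf.stalk x) := by
    refine IsScalarTower.of_algebraMap_eq' ?_
    ext r
    simp only [RingHom.algebraMap_toAlgebra, φ, algS, algB]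
    change _ = (X.presheaf.germ U x hxU).hom _
    simp only [CommRingCat.hom_comp, RingHom.comp_apply, Scheme.Hom.appLE, Scheme.Hom.appTop]
    rw [← CommRingCat.comp_apply (X.presheaf.map _) (X.presheaf.germ U x hxU),
      TopCat.Presheaf.germ_res]
    rfl
  let p := hU.primeIdealOf ⟨x, hxU⟩
  have loc : IsLocalization.AtPrime (X.presheaf.stalk x) p.asIdeal :=
    hU.isLocalization_stalk ⟨x, hxU⟩
  have ft : Algebra.FiniteType k Γ(X, U) := by
    have h1 : RingHom.FiniteType (f.appLE ⊤ U hle).hom :=
      HasRingHomProperty.appLE (P := @LocallyOfFiniteType) f inferInstance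
        ⟨⊤, isAffineOpen_top _⟩ ⟨U, hU⟩ hle
    have h2 : RingHom.FiniteType (Scheme.ΓSpecIso (CommRingCat.of k)).inv.hom :=
      RingHom.FiniteType.of_surjective _
        (Scheme.ΓSpecIso (CommRingCat.of k)).symm.commRingCatIsoToRingEquiv.surjective
    exact h1.comp h2
  have hred : _root_.IsReduced (X.presheaf.stalk x ⊗[k] K) := by
    have : _root_.IsReduced (K ⊗[k] X.presheaf.stalk x) := h
    exact isReduced_of_injective (Algebra.TensorProduct.comm k (X.presheaf.stalk x) K).toRingHom
      (Algebra.TensorProduct.comm k (X.presheaf.stalk x) K).injective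
  obtain ⟨a, ha, hA⟩ := RedTensor.exists_isReduced_tensor_away (k := k) p.asIdeal.primeCompl
    (X.presheaf.stalk x) K
  have hredA : _root_.IsReduced (Localization.Away a ⊗[k] K) := hA (Localization.Away a)
  have hnt : Nontrivial (Localization.Away a) := by
    have hu : IsUnit (algebraMap Γ(X, U) (X.presheaf.stalk x) a) :=
      (IsLocalization.AtPrime.isUnit_to_map_iff (X.presheaf.stalk x) p.asIdeal a).mpr ha
    exact (IsLocalization.Away.lift (S := Localization.Away a) a hu).domain_nontrivial
  have ftA : Algebra.FiniteType k (Localization.Away a) := by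
    have : Algebra.FinitePresentation Γ(X, U) (Localization.Away a) :=
      IsLocalization.Away.finitePresentation a
    exact Algebra.FiniteType.trans ft inferInstance
  let g : Spec (.of K) ⟶ Spec (.of k) := Spec.map (CommRingCat.ofHom (algebraMap k K))
  let j : Spec (.of (Localization.Away a)) ⟶ X :=
    Spec.map (CommRingCat.ofHom (algebraMap Γ(X, U) (Localization.Away a))) ≫ hU.fromSpec
  have hjo : IsOpenImmersion j := by
    have h1 : IsOpenImmersion
        (Spec.map (CommRingCat.ofHom (algebraMap Γ(X, U) (Localization.Away a)))) :=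
      Scheme.isOpenImmersion_SpecMap_localizationAway (R := Γ(X, U)) a
    have h2 : IsOpenImmersion hU.fromSpec := hU.isOpenImmersion_fromSpec
    dsimp only [j]
    exact IsOpenImmersion.comp _ _
  have hj : j ≫ f = Spec.map (CommRingCat.ofHom (algebraMap k (Localization.Away a))) := by
    dsimp only [j]
    rw [Category.assoc, ← (isAffineOpen_top (Spec (CommRingCat.of k))).SpecMap_appLE_fromSpec f hU hle,
      IsAffineOpen.fromSpec_top, Scheme.isoSpec_Spec_inv, ← Spec.map_comp, ← Spec.map_comp]
    congr 1
  have hlft : LocallyOfFiniteType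
      (Spec.map (CommRingCat.ofHom (algebraMap k (Localization.Away a)))) := lft_SpecMap
  have hne := nonempty_smoothLocus_pullback_Spec (k := k) (K := K) (A := Localization.Away a)
  -- transfer along the open immersion of pullbacks
  let J : pullback (Spec.map (CommRingCat.ofHom (algebraMap k (Localization.Away a)))) g ⟶
      pullback f g :=
    pullback.map _ g f g j (𝟙 _) (𝟙 _) (by rw [Category.comp_id, hj]) (by simp)
  have hJo : IsOpenImmersion J := by dsimp only [J]; infer_instance
  have hJs : J ≫ pullback.snd f g = pullback.snd _ g := by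
    dsimp only [J, pullback.map]
    rw [pullback.lift_snd, Category.comp_id]
  refine GrpSmooth2.nonempty_smoothLocus_of_isOpenImmersion J (pullback.snd f g) ?_
  obtain ⟨y, hy⟩ := hne
  refine ⟨y, ?_⟩
  rw [SetLike.mem_coe, Scheme.Hom.mem_smoothLocus] at hy ⊢
  have key : ∀ {Z W : Scheme.{u}} (a b : Z ⟶ W) (e : a = b) (z : Z),
      (a.stalkMap z).hom.FormallySmooth → (b.stalkMap z).hom.FormallySmooth := by
    intro Z W a b e z hz; subst e; exact hz
  exact key _ _ hJs.symm y hy

end Groth.Agent.Lib.Helper4.RedTensorSch
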