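import Mathlib.Tactic
import Mathlib.AlgebraicGeometry.Morphisms.Proper
import Mathlib.AlgebraicGeometry.Properties
import Mathlib.AlgebraicGeometry.Pullbacks
import Mathlib.CategoryTheory.Monoidal.Cartesian.Over
import Mathlib.Algebra.Polynomial.Div
import Mathlib.Algebra.Polynomial.Inductions

open CategoryTheory AlgebraicGeometry Limits TopologicalSpace MonoidalCategory CartesianMonoidalCategory

namespace Groth.Agent.Lib.Helper4.ProperAntiAff2

universe u

/-- A universally closed, reduced, connected scheme over a field with a rational point has only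
constant global functions. -/
theorem bijective_of_universallyClosed_of_point (k : Type u) [Field k]
    (X : Over (Spec (CommRingCat.of k))) [UniversallyClosed X.hom] [IsReduced X.left]
    [ConnectedSpace X.left] (e : 𝟙_ (Over (Spec (CommRingCat.of k))) ⟶ X) :
    Function.Bijective ((Scheme.ΓSpecIso (CommRingCat.of k)).inv ≫ X.hom.appTop).hom := by
  classical
  let F : k →+* Γ(X.left, ⊤) := ((Scheme.ΓSpecIso (CommRingCat.of k)).inv ≫ X.hom.appTop).hom
  let E : Γ(X.left, ⊤) →+* k := (e.left.appTop ≫ (Scheme.ΓSpecIso (CommRingCat.of k)).hom).hom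
  have hEF : ∀ c, E (F c) = c := by
    intro c
    let e' : Spec (CommRingCat.of k) ⟶ X.left := e.left
    have h1 : e' ≫ X.hom = 𝟙 (Spec (CommRingCat.of k)) := Over.w e
    have h2 : X.hom.appTop ≫ e'.appTop = 𝟙 _ := by
      rw [← Scheme.Hom.comp_appTop, h1, Scheme.Hom.id_appTop]
    have h3 : ((Scheme.ΓSpecIso (CommRingCat.of k)).inv ≫ X.hom.appTop) ≫
        (e'.appTop ≫ (Scheme.ΓSpecIso (CommRingCat.of k)).hom) = 𝟙 _ := by
      rw [Category.assoc, ← Category.assoc X.hom.appTop, h2, Category.id_comp, Iso.inv_hom_id]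
    have := congrArg (fun t => t.hom c) h3
    exact this
  have hFint : F.IsIntegral := by
    apply RingHom.isIntegral_respectsIso.2
      (e := (Scheme.ΓSpecIso (CommRingCat.of k)).symm.commRingCatIsoToRingEquiv)
    exact isIntegral_appTop_of_universallyClosed X.hom
  let x₀ : X.left := e.left (default : PrimeSpectrum k)
  haveI : Nontrivial Γ(X.left, ⊤) := by
    have : Nonempty (⊤ : X.left.Opens) := ⟨⟨x₀, trivial⟩⟩
    infer_instance
  refine ⟨F.injective, ?_⟩
  intro r
  refine ⟨E r, ?_⟩
  set r' : Γ(X.left, ⊤) := r - F (E r) with hr'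
  have hEr' : E r' = 0 := by rw [hr', map_sub, hEF, sub_self]
  suffices h : r' = 0 by exact (sub_eq_zero.mp h).symm
  -- `r'` vanishes at `x₀`
  have hx₀ : x₀ ∉ X.left.basicOpen r' := by
    intro hx
    let e' : Spec (CommRingCat.of k) ⟶ X.left := e.left
    have h2 : (default : PrimeSpectrum k) ∈ e' ⁻¹ᵁ X.left.basicOpen r' := hx
    rw [Scheme.preimage_basicOpen] at h2
    have h3 : (Spec (CommRingCat.of k)).basicOpen (e'.app ⊤ r') = PrimeSpectrum.basicOpen (E r') :=
      basicOpen_eq_of_affine' _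
    rw [h3, hEr'] at h2
    simp only [PrimeSpectrum.basicOpen_zero] at h2
    exact h2
  -- integral equation, with the powers of `X` split off
  obtain ⟨p, hpm, hpr⟩ := hFint r'
  obtain ⟨p₁, hp₁, hndvd⟩ := Polynomial.exists_eq_pow_rootMultiplicity_mul_and_not_dvd p hpm.ne_zero 0
  rw [Polynomial.C_0, sub_zero] at hp₁ hndvd
  set m := p.rootMultiplicity 0
  have hc₀ : p₁.coeff 0 ≠ 0 := fun h => hndvd (Polynomial.X_dvd_iff.mpr h)
  let s : Γ(X.left, ⊤) := Polynomial.eval₂ F r' p₁
  have hrs : r' ^ m * s = 0 := by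
    rw [← hpr, hp₁, Polynomial.eval₂_mul, Polynomial.eval₂_pow, Polynomial.eval₂_X]
  obtain ⟨t, ht⟩ : ∃ t : Γ(X.left, ⊤), s = t * r' + F (p₁.coeff 0) := by
    refine ⟨Polynomial.eval₂ F r' p₁.divX, ?_⟩
    conv_lhs => rw [show s = Polynomial.eval₂ F r' p₁ from rfl, ← Polynomial.divX_mul_X_add p₁]
    rw [Polynomial.eval₂_add, Polynomial.eval₂_mul, Polynomial.eval₂_X, Polynomial.eval₂_C]
  -- the non-vanishing locus of `r'` is the vanishing locus of `s`
  have hcompl : ((X.left.basicOpen r' : X.left.Opens) : Set X.left) =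
      ((X.left.basicOpen s : X.left.Opens) : Set X.left)ᶜ := by
    ext x
    let g := X.left.presheaf.germ ⊤ x trivial
    have hgr : x ∈ X.left.basicOpen r' ↔ IsUnit (g.hom r') := X.left.mem_basicOpen_top _ x
    have hgs : x ∈ X.left.basicOpen s ↔ IsUnit (g.hom s) := X.left.mem_basicOpen_top _ x
    simp only [SetLike.mem_coe, Set.mem_compl_iff]
    rw [hgr, hgs]
    constructor
    · intro hu hs
      have h1 : g.hom r' ^ m * g.hom s = 0 := by
        rw [← map_pow, ← map_mul, hrs, map_zero]
      have h2 : g.hom s = 0 := (hu.pow m).mul_right_eq_zero.mp h1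
      rw [h2] at hs
      exact not_isUnit_zero hs
    · intro hs
      by_contra hu
      apply hs
      have h1 : g.hom s = g.hom t * g.hom r' + g.hom (F (p₁.coeff 0)) := by
        rw [ht, map_add, map_mul]
      rw [h1]
      have h2 : IsUnit (g.hom (F (p₁.coeff 0))) := ((hc₀.isUnit).map F).map g.hom
      have h3 : g.hom t * g.hom r' ∈ IsLocalRing.maximalIdeal (X.left.presheaf.stalk x) :=
        Ideal.mul_mem_left _ _ ((IsLocalRing.mem_maximalIdeal _).mpr hu)
      by_contra h4
      have h5 : g.hom t * g.hom r' + g.hom (F (p₁.coeff 0)) ∈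
          IsLocalRing.maximalIdeal (X.left.presheaf.stalk x) :=
        (IsLocalRing.mem_maximalIdeal _).mpr h4
      have h6 := (Ideal.add_mem_iff_right _ h3).mp h5
      exact (IsLocalRing.mem_maximalIdeal _).mp h6 h2
  have hclopen : IsClopen (((X.left.basicOpen r' : X.left.Opens) : Set X.left)ᶜ) := by
    refine ⟨(X.left.basicOpen r').2.isClosed_compl, ?_⟩
    rw [hcompl, compl_compl]
    exact (X.left.basicOpen s).2
  have huniv := IsClopen.eq_univ hclopen ⟨x₀, hx₀⟩
  have hbot : X.left.basicOpen r' = ⊥ := by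
    ext x
    simp only [Opens.coe_bot, Set.mem_empty_iff_false, iff_false]
    intro hx
    have : x ∈ ((X.left.basicOpen r' : X.left.Opens) : Set X.left)ᶜ := by rw [huniv]; trivial
    exact this hx
  exact (basicOpen_eq_bot_iff r').mp hbot

end Groth.Agent.Lib.Helper4.ProperAntiAff2
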