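import Mathlib.AlgebraicGeometry.Morphisms.UniversallyOpen
import Mathlib.AlgebraicGeometry.ResidueField
import Mathlib.Tactic
import Groth.Prelude.Def_Grpd
import Groth.Agent.Lib.Helper4.GrpdCalc
import Groth.Agent.Lib.Helper4.GrpdHom
import Groth.Agent.Lib.Helper4.GrpdAct
import Groth.Agent.Lib.Helper4.GrpdDense
import Groth.Agent.Lib.Helper4.GrpdOpenClosed

set_option autoImplicit false
universe u
open CategoryTheory AlgebraicGeometry TopologicalSpace Limits

namespace Groth.Agent.Lib.Helper4.GrpdUO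

open Grpd GrpdCalc GrpdHom

/-- every morphism to `Y` is universally open (true for spectra of fields and of artinian local
rings) -/
def UOBase (Y : Scheme.{u}) : Prop := ∀ {Z : Scheme.{u}} (f : Z ⟶ Y), UniversallyOpen f

theorem uoBase_of_field {Y : Scheme.{u}} (k : Type u) [Field k]
    (eU : Y ≅ Spec (CommRingCat.of k)) : UOBase Y := by
  intro Z f
  have h1 : Nonempty Y := ⟨eU.inv (IsLocalRing.closedPoint k)⟩
  have h2 : IsIntegral Y := isIntegral_of_isOpenImmersion eU.hom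
  have : Subsingleton (Spec (CommRingCat.of k)) :=
    inferInstanceAs (Subsingleton (PrimeSpectrum k))
  have h3 : Subsingleton Y := eU.hom.homeomorph.subsingleton
  infer_instance

variable {S : Scheme.{u}} (G : GroupoidScheme S) (hUO : UOBase G.U)

include hUO in
theorem universallyOpen_μ {Z : Scheme.{u}} (a : Z ⟶ G.R) : UniversallyOpen (GrpdAct.μ G a) :=
  MorphismProperty.of_isPullback (P := @UniversallyOpen) (GrpdAct.isPullback_μ G a).flip
    (hUO (a ≫ G.t))

include hUO in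
theorem isOpen_range_ν {Z : Scheme.{u}} (a : Z ⟶ G.R) (W : G.R.Opens) :
    IsOpen (Set.range (GrpdOpenClosed.ν a W)) := by
  have hμ := universallyOpen_μ G hUO a
  let j : pullback (a ≫ G.s) (W.ι ≫ G.t) ⟶ pullback (a ≫ G.s) G.t :=
    pullback.map _ _ _ _ (𝟙 Z) W.ι (𝟙 G.U) (by simp) (by simp)
  have hj : IsOpenImmersion j := inferInstance
  have hfac : GrpdOpenClosed.ν a W = j ≫ GrpdAct.μ G a := by
    unfold GrpdOpenClosed.ν GrpdAct.μ GrpdCalc.cmp
    refine Eq.trans ?_ (Category.assoc _ _ _)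
    congr 1
    have hj1 : j ≫ pullback.fst (a ≫ G.s) G.t = pullback.fst _ _ := by
      simp only [j, pullback.lift_fst, Category.comp_id]
    have hj2 : j ≫ pullback.snd (a ≫ G.s) G.t = pullback.snd _ _ ≫ W.ι := by
      simp only [j, pullback.lift_snd]
    apply pullback.hom_ext
    · rw [pullback.lift_fst, Category.assoc, pullback.lift_fst, ← Category.assoc, hj1]
    · rw [pullback.lift_snd, Category.assoc, pullback.lift_snd, hj2]
  rw [hfac, Scheme.Hom.comp_base, TopCat.coe_comp, Set.range_comp]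
  exact (GrpdAct.μ G a).isOpenMap _ j.isOpenEmbedding.isOpen_range

include hUO in
/-- the product of two dense opens is everything -/
theorem dense_mul (U V : G.R.Opens) (hU : Dense (U : Set G.R)) (hV : Dense (V : Set G.R))
    (g : G.R) : ∃ z : (pullback G.s G.t : Scheme.{u}),
      pullback.fst G.s G.t z ∈ U ∧ pullback.snd G.s G.t z ∈ V ∧ G.c z = g := by
  let a := G.R.fromSpecResidueField g
  have hμ := universallyOpen_μ G hUO a
  have hpr : UniversallyOpen (pullback.snd (a ≫ G.s) G.t) :=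
    MorphismProperty.of_isPullback (P := @UniversallyOpen)
      (IsPullback.of_hasPullback (a ≫ G.s) G.t) (hUO _)
  have hi := GrpdDense.isIso_i G
  have hio : UniversallyOpen G.i := inferInstance
  have hA : Dense (GrpdAct.μ G a ⁻¹' (U : Set G.R)) :=
    hU.preimage (GrpdAct.μ G a).isOpenMap
  have hB : Dense ((pullback.snd (a ≫ G.s) G.t ≫ G.i) ⁻¹' (V : Set G.R)) :=
    hV.preimage (pullback.snd (a ≫ G.s) G.t ≫ G.i).isOpenMap
  have hAo : IsOpen (GrpdAct.μ G a ⁻¹' (U : Set G.R)) := U.2.preimage (GrpdAct.μ G a).continuous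
  have hcond : 𝟙 _ ≫ a ≫ G.s = (a ≫ G.s ≫ G.e) ≫ G.t := by
    rw [Category.id_comp, Category.assoc, Category.assoc, G.e_t, Category.comp_id]
  let m₀ : (pullback (a ≫ G.s) G.t : Scheme.{u}) :=
    (pullback.lift (𝟙 _) (a ≫ G.s ≫ G.e) hcond) (default : Spec (G.R.residueField g))
  have hne : Nonempty (pullback (a ≫ G.s) G.t : Scheme.{u}) := ⟨m₀⟩
  obtain ⟨m, hmA, hmB⟩ := (hA.inter_of_isOpen_left hB hAo).nonempty
  refine ⟨GrpdDense.Φ G a m, ?_, ?_, ?_⟩
  · rw [← Scheme.Hom.comp_apply, GrpdDense.Φ_fst]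
    exact hmA
  · rw [← Scheme.Hom.comp_apply, GrpdDense.Φ_snd]
    exact hmB
  · rw [← Scheme.Hom.comp_apply, GrpdDense.Φ_c, Scheme.Hom.comp_apply]
    exact Scheme.fromSpecResidueField_apply _ _

/-- open image of a groupoid hom is closed -/
theorem isClosed_of_isOpen {G₁ G₂ : GroupoidScheme S} (a : GroupoidScheme.Hom G₁ G₂)
    (hUO : UOBase G₂.U) [IsIso a.fU]
    (hopen : IsOpen (Set.range ⇑a.fR)) : IsClosed (Set.range ⇑a.fR) := by
  rw [← isOpen_compl_iff, isOpen_iff_forall_mem_open]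
  intro r hr
  let W : G₂.R.Opens := ⟨Set.range a.fR, hopen⟩
  let a' := G₂.R.fromSpecResidueField r
  have he : Set.range (a' ≫ G₂.s ≫ G₂.e) ⊆ Set.range W.ι := by
    rw [Scheme.Opens.range_ι]
    rintro _ ⟨z, rfl⟩
    have h1 : G₂.e = inv a.fU ≫ G₁.e ≫ a.fR := by
      rw [comm_e, IsIso.inv_hom_id_assoc]
    show (a' ≫ G₂.s ≫ G₂.e) z ∈ Set.range a.fR
    rw [h1, ← Category.assoc, ← Category.assoc, ← Category.assoc, Scheme.Hom.comp_apply]
    exact Set.mem_range_self _
  let ε : Spec (G₂.R.residueField r) ⟶ W := IsOpenImmersion.lift W.ι (a' ≫ G₂.s ≫ G₂.e) he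
  have hε : ε ≫ W.ι = a' ≫ G₂.s ≫ G₂.e := IsOpenImmersion.lift_fac _ _ _
  refine ⟨Set.range (GrpdOpenClosed.ν a' W), ?_, isOpen_range_ν G₂ hUO a' W, ?_⟩
  · intro n hn1 hn2
    obtain ⟨z, hz⟩ := GrpdOpenClosed.meets a a' W rfl n hn1 hn2
    apply hr
    rwa [Scheme.fromSpecResidueField_apply] at hz
  · have := GrpdOpenClosed.mem_range_ν a' W ε hε (default : Spec (G₂.R.residueField r))
    rwa [Scheme.fromSpecResidueField_apply] at this

end Groth.Agent.Lib.Helper4.GrpdUO
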