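import Mathlib.Tactic
import Groth.Prelude.Def_Grpd
import Groth.Agent.Lib.Helper4.GrpdUO
import Groth.Agent.Lib.Helper4.GrpToGrpd
import Groth.Agent.Lib.Helper4.GrpdInvariant

set_option autoImplicit false
universe u
open CategoryTheory AlgebraicGeometry TopologicalSpace Limits

namespace Groth.Agent.Lib.Helper4.GrpdSubmon

open Grpd GrpdCalc GrpdOpenClosed

variable {S : Scheme.{u}} (G : GroupoidScheme S)

theorem e_i : G.e ≫ G.i = G.e := by
  have h0 : (G.e ≫ G.i) ≫ G.s = G.e ≫ G.t := by rw [Category.assoc, G.i_s]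
  have h1 := i_cmp G G.e h0
  have h2 : G.e ≫ G.s ≫ G.e = G.e := by rw [← Category.assoc, G.e_s, Category.id_comp]
  rw [h2] at h1
  have h3 : GrpdCalc.cmp G (G.e ≫ G.i) G.e h0 = G.e ≫ G.i := by
    refine cmp_e G (G.e ≫ G.i) G.e ?_ h0
    rw [Category.assoc, ← Category.assoc G.i, G.i_s, ← Category.assoc, G.e_t, Category.id_comp]
  rw [← h3, h1]

/-- an open "submonoid" of the arrows of a groupoid over a universally-open base is closed -/
theorem isClosed_of_submonoid (hUO : GrpdUO.UOBase G.U) (W : G.R.Opens)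
    (he : ∀ u : G.U, G.e u ∈ W)
    (hc : ∀ z : ↑(pullback G.s G.t), pullback.fst G.s G.t z ∈ W → pullback.snd G.s G.t z ∈ W →
      G.c z ∈ W) : IsClosed (W : Set G.R) := by
  rw [← isOpen_compl_iff, isOpen_iff_forall_mem_open]
  intro r hr
  let W' : G.R.Opens := G.i ⁻¹ᵁ W
  let a' := G.R.fromSpecResidueField r
  have he' : Set.range (a' ≫ G.s ≫ G.e) ⊆ Set.range W'.ι := by
    rw [Scheme.Opens.range_ι]
    rintro _ ⟨z, rfl⟩
    show G.i ((a' ≫ G.s ≫ G.e) z) ∈ W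
    rw [← Scheme.Hom.comp_apply, Category.assoc, Category.assoc, e_i, ← Category.assoc,
      Scheme.Hom.comp_apply]
    exact he _
  let ε : Spec (G.R.residueField r) ⟶ W' := IsOpenImmersion.lift W'.ι (a' ≫ G.s ≫ G.e) he'
  have hε : ε ≫ W'.ι = a' ≫ G.s ≫ G.e := IsOpenImmersion.lift_fac _ _ _
  refine ⟨Set.range (ν a' W'), ?_, GrpdUO.isOpen_range_ν G hUO a' W', ?_⟩
  · rintro n ⟨p, rfl⟩ hn2
    apply hr
    -- α = (α β) β⁻¹
    obtain ⟨α, hα⟩ : ∃ α, α = pullback.fst (a' ≫ G.s) (W'.ι ≫ G.t) ≫ a' := ⟨_, rfl⟩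
    obtain ⟨β, hβ⟩ : ∃ β, β = pullback.snd (a' ≫ G.s) (W'.ι ≫ G.t) ≫ W'.ι := ⟨_, rfl⟩
    have hαβ : α ≫ G.s = β ≫ G.t := by
      rw [hα, hβ]
      exact (Category.assoc _ _ _).trans (pullback.condition.trans (Category.assoc _ _ _).symm)
    have hν : ν a' W' = cmp G α β hαβ := by
      rw [ν_eq]; exact cmp_congr G hα.symm hβ.symm _ _
    obtain ⟨γ, hγ⟩ : ∃ γ, γ = cmp G α β hαβ := ⟨_, rfl⟩
    have h2 : γ ≫ G.s = (β ≫ G.i) ≫ G.t := by
      rw [hγ, cmp_s, Category.assoc, G.i_t]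
    have h3 : cmp G γ (β ≫ G.i) h2 = α := by
      subst hγ
      exact L3 G β α hαβ h2
    have hr' : r = α p := by
      rw [hα, Scheme.Hom.comp_apply, Scheme.fromSpecResidueField_apply]
    rw [hr', ← h3]
    unfold GrpdCalc.cmp
    rw [Scheme.Hom.comp_apply]
    apply hc
    · rw [← Scheme.Hom.comp_apply, pullback.lift_fst, hγ, ← hν]
      exact hn2
    · rw [← Scheme.Hom.comp_apply, pullback.lift_snd, hβ, Scheme.Hom.comp_apply,
        Scheme.Hom.comp_apply]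
      exact (pullback.snd (a' ≫ G.s) (W'.ι ≫ G.t) p).2
  · have := mem_range_ν a' W' ε hε (default : Spec (G.R.residueField r))
    rwa [Scheme.fromSpecResidueField_apply] at this

/-- product of two sets of arrows -/
def prodSet (A B : Set G.R) : Set G.R :=
  G.c '' (pullback.fst G.s G.t ⁻¹' A ∩ pullback.snd G.s G.t ⁻¹' B)

theorem pt_cmp_e (x : G.R) : ∃ q : ↑(pullback G.s G.t), pullback.fst G.s G.t q = x ∧
    pullback.snd G.s G.t q = G.e (G.s x) ∧ G.c q = x := by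
  have h0 : 𝟙 G.R ≫ G.s = (𝟙 G.R ≫ G.s ≫ G.e) ≫ G.t := by
    rw [Category.id_comp, Category.id_comp, Category.assoc, G.e_t, Category.comp_id]
  refine ⟨pullback.lift (𝟙 G.R) (𝟙 G.R ≫ G.s ≫ G.e) h0 x, ?_, ?_, ?_⟩
  · rw [← Scheme.Hom.comp_apply, pullback.lift_fst]; rfl
  · rw [← Scheme.Hom.comp_apply, pullback.lift_snd, Category.id_comp, Scheme.Hom.comp_apply]
  · rw [← Scheme.Hom.comp_apply]
    have := G.comp_e (𝟙 G.R)
    rw [this]; rfl

section field
variable (k : Type u) [Field k] (eU : G.U ≅ Spec (CommRingCat.of k))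
include eU

theorem isOpenMap_c : IsOpenMap G.c := by
  obtain ⟨h1, h2⟩ := GrpdAct.field_facts G k eU
  have h3 : UniversallyOpen G.s := inferInstance
  have h4 : UniversallyOpen G.c :=
    MorphismProperty.of_isPullback (P := @UniversallyOpen)
      (GrpdInvariant.isPullback_c G).flip h3
  exact G.c.isOpenMap

theorem isOpen_prodSet (A B : Set G.R) (hA : IsOpen A) (hB : IsOpen B) :
    IsOpen (prodSet G A B) :=
  isOpenMap_c G k eU _ ((hA.preimage (pullback.fst G.s G.t).continuous).inter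
    (hB.preimage (pullback.snd G.s G.t).continuous))

theorem isCompact_prodSet (A B : G.R.Opens) (hA : IsCompact (A : Set G.R))
    (hB : IsCompact (B : Set G.R)) : IsCompact (prodSet G (A : Set G.R) B) := by
  have hUaff : IsAffine G.U := IsAffine.of_isIso eU.hom
  have hAc : CompactSpace A.toScheme := isCompact_iff_compactSpace.mp hA
  have hBc : CompactSpace B.toScheme := isCompact_iff_compactSpace.mp hB
  have hq : QuasiCompact (A.ι ≫ G.s) := inferInstance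
  let P := pullback (A.ι ≫ G.s) (B.ι ≫ G.t)
  have hPc : CompactSpace P := inferInstance
  let j : P ⟶ pullback G.s G.t :=
    pullback.map _ _ _ _ A.ι B.ι (𝟙 G.U) (by simp) (by simp)
  have hr : Set.range j = pullback.fst G.s G.t ⁻¹' (A : Set G.R) ∩
      pullback.snd G.s G.t ⁻¹' (B : Set G.R) := by
    have := Scheme.Pullback.range_map (f := A.ι ≫ G.s) (g := B.ι ≫ G.t) G.s G.t A.ι B.ι (𝟙 G.U)
      (by simp) (by simp)
    rw [Scheme.Opens.range_ι, Scheme.Opens.range_ι] at this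
    exact this
  unfold prodSet
  rw [← hr, ← Set.range_comp]
  have : (⇑G.c ∘ ⇑j) = ⇑(j ≫ G.c) := by
    ext y; simp
  rw [this]
  exact isCompact_range (j ≫ G.c).continuous

end field

/-- iterated products -/
def Vseq (V₀ : Set G.R) : ℕ → Set G.R
  | 0 => V₀
  | n + 1 => prodSet G (Vseq V₀ n) (Vseq V₀ n)

theorem Vseq_e (V₀ : Set G.R) (he : ∀ u : G.U, G.e u ∈ V₀) (n : ℕ) :
    (∀ u : G.U, G.e u ∈ Vseq G V₀ n) ∧ Vseq G V₀ n ⊆ Vseq G V₀ (n + 1) := by
  induction n with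
  | zero =>
    refine ⟨he, fun x hx => ?_⟩
    obtain ⟨q, h1, h2, h3⟩ := pt_cmp_e G x
    exact ⟨q, ⟨by rw [Set.mem_preimage, h1]; exact hx, by rw [Set.mem_preimage, h2]; exact he _⟩, h3⟩
  | succ n ih =>
    have h1 : ∀ u : G.U, G.e u ∈ Vseq G V₀ (n + 1) := fun u => ih.2 (ih.1 u)
    refine ⟨h1, fun x hx => ?_⟩
    obtain ⟨q, h1', h2, h3⟩ := pt_cmp_e G x
    exact ⟨q, ⟨by rw [Set.mem_preimage, h1']; exact hx, by rw [Set.mem_preimage, h2]; exact h1 _⟩, h3⟩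

theorem Vseq_mono (V₀ : Set G.R) (he : ∀ u : G.U, G.e u ∈ V₀) : Monotone (Vseq G V₀) :=
  monotone_nat_of_le_succ fun n => (Vseq_e G V₀ he n).2

theorem main_grpd (k : Type u) [Field k] (eU : G.U ≅ Spec (CommRingCat.of k)) :
    ∃ W : G.R.Opens, IsClosed (W : Set G.R) ∧ (∀ u : G.U, G.e u ∈ W) ∧
      ∃ V : ℕ → G.R.Opens, (∀ n, IsAffineOpen (V n)) ∧ (W : Set G.R) = ⋃ n, (V n : Set G.R) := by
  obtain ⟨hint, hsub⟩ := GrpdAct.field_facts G k eU
  have hne : Nonempty G.U := ⟨eU.inv (IsLocalRing.closedPoint k)⟩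
  obtain ⟨u₀⟩ := hne
  obtain ⟨V₀, hV₀, hxV₀⟩ : ∃ V : G.R.Opens, IsAffineOpen V ∧ G.e u₀ ∈ V := by
    obtain ⟨_, ⟨V, hV, rfl⟩, hxV, -⟩ :=
      G.R.isBasis_affineOpens.exists_subset_of_mem_open (Set.mem_univ (G.e u₀)) isOpen_univ
    exact ⟨V, hV, hxV⟩
  have he : ∀ u : G.U, G.e u ∈ (V₀ : Set G.R) := fun u => by
    rw [Subsingleton.elim u u₀]; exact hxV₀
  have hopen : ∀ n, IsOpen (Vseq G V₀ n) := by
    intro n
    induction n with
    | zero => exact V₀.2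
    | succ n ih => exact isOpen_prodSet G k eU _ _ ih ih
  have hcomp : ∀ n, IsCompact (Vseq G V₀ n) := by
    intro n
    induction n with
    | zero => exact hV₀.isCompact
    | succ n ih => exact isCompact_prodSet G k eU ⟨_, hopen n⟩ ⟨_, hopen n⟩ ih ih
  have hmono := Vseq_mono G V₀ he
  let W : G.R.Opens := ⟨⋃ n, Vseq G V₀ n, isOpen_iUnion hopen⟩
  have hW : ∀ x, x ∈ W ↔ ∃ n, x ∈ Vseq G V₀ n := fun x => Set.mem_iUnion
  have hclosed : IsClosed (W : Set G.R) := by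
    apply isClosed_of_submonoid G (GrpdUO.uoBase_of_field k eU) W
    · intro u; rw [hW]; exact ⟨0, he u⟩
    · intro z hz1 hz2
      rw [hW] at hz1 hz2 ⊢
      obtain ⟨m, hm⟩ := hz1
      obtain ⟨n, hn⟩ := hz2
      exact ⟨max m n + 1, z, ⟨hmono (le_max_left m n) hm, hmono (le_max_right m n) hn⟩, rfl⟩
  refine ⟨W, hclosed, fun u => (hW _).2 ⟨0, he u⟩, ?_⟩
  -- countable family of affine opens
  have hfin : ∀ n, ∃ s : Set G.R.affineOpens, s.Finite ∧ Vseq G V₀ n = ⋃ i ∈ s, (i : Set G.R) :=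
    fun n => isCompact_and_isOpen_iff_finite_and_eq_biUnion_affineOpens.mp ⟨hcomp n, hopen n⟩
  choose s hsfin hs using hfin
  let 𝒜 : Set G.R.affineOpens := insert ⟨V₀, hV₀⟩ (⋃ n, s n)
  have h𝒜c : 𝒜.Countable :=
    (Set.countable_iUnion fun n => (hsfin n).countable).insert _
  obtain ⟨f, hf⟩ := h𝒜c.exists_eq_range (Set.insert_nonempty _ _)
  refine ⟨fun n => (f n : G.R.Opens), fun n => (f n).2, ?_⟩
  ext x
  constructor
  · intro hx
    obtain ⟨n, hn⟩ := (hW x).1 hx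
    rw [hs n] at hn
    simp only [Set.mem_iUnion] at hn
    obtain ⟨i, hi, hxi⟩ := hn
    have : i ∈ 𝒜 := Set.mem_insert_of_mem _ (Set.mem_iUnion.2 ⟨n, hi⟩)
    rw [hf] at this
    obtain ⟨m, rfl⟩ := this
    exact Set.mem_iUnion.2 ⟨m, hxi⟩
  · intro hx
    obtain ⟨m, hm⟩ := Set.mem_iUnion.1 hx
    replace hm : x ∈ ((f m : G.R.Opens) : Set G.R) := hm
    have : f m ∈ 𝒜 := by rw [hf]; exact Set.mem_range_self m
    rcases this with h | h
    · rw [h] at hm
      exact (hW x).2 ⟨0, hm⟩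
    · obtain ⟨n, hn⟩ := Set.mem_iUnion.1 h
      refine (hW x).2 ⟨n, ?_⟩
      rw [hs n]
      simp only [Set.mem_iUnion]
      exact ⟨f m, hn, hm⟩

open MonoidalCategory CartesianMonoidalCategory MonObj GrpObj GrpToGrpd in
theorem main (K : Type u) [Field K] (G : Over (Spec (CommRingCat.of K))) [GrpObj G] :
    ∃ U : G.left.Opens, IsClosed (U : Set G.left) ∧
      η[G].left (IsLocalRing.closedPoint K) ∈ U ∧
      ∃ V : ℕ → G.left.Opens, (∀ n, IsAffineOpen (V n)) ∧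
        (U : Set G.left) = ⋃ n, (V n : Set G.left) := by
  obtain ⟨W, h1, h2, V, h3, h4⟩ := main_grpd (ofGrp G) K (Iso.refl _)
  exact ⟨W, h1, h2 _, V, h3, h4⟩

end Groth.Agent.Lib.Helper4.GrpdSubmon
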