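import Mathlib.Tactic
import Mathlib.AlgebraicGeometry.Sites.Fpqc
import Groth.Prelude.Def_NonAbH2
import Groth.Agent.Lib.Helper4.FpqcCov
import Groth.Agent.Lib.Helper4.MaxOpenGrp

set_option autoImplicit false
universe u
open CategoryTheory MonoidalCategory CartesianMonoidalCategory MonObj AlgebraicGeometry Limits

namespace Groth.Agent.Lib.Helper4.CovSieve

/-- the sieve generated by `p` is an fpqc covering sieve -/
def CovMor {X Y : Scheme.{u}} (p : X ⟶ Y) : Prop :=
  Sieve.generate (Presieve.singleton p) ∈ Scheme.fpqcTopology Y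

theorem mem_generate_singleton {X Y Z : Scheme.{u}} (p : X ⟶ Y) (h : Z ⟶ Y) :
    (Sieve.generate (Presieve.singleton p)).arrows h ↔ ∃ t : Z ⟶ X, t ≫ p = h := by
  constructor
  · rintro ⟨W, a, b, ⟨⟩, rfl⟩
    exact ⟨a, rfl⟩
  · rintro ⟨t, rfl⟩
    exact ⟨X, t, p, ⟨⟩, rfl⟩

theorem CovMor.effectiveEpi {X Y : Scheme.{u}} {p : X ⟶ Y} (hp : CovMor p) : EffectiveEpi p := by
  rw [← Sieve.effectiveEpimorphic_singleton,
    Presieve.EffectiveEpimorphic.iff_forall_isSheafFor_yoneda]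
  intro T
  exact (GrothendieckTopology.Subcanonical.isSheaf_of_isRepresentable _).isSheafFor _ hp

theorem CovMor.of_isPullback {P X Y Y' : Scheme.{u}} {p : X ⟶ Y} (hp : CovMor p) {g : Y' ⟶ Y}
    {a : P ⟶ X} {b : P ⟶ Y'} (sq : IsPullback a b p g) : CovMor b := by
  have h1 := Scheme.fpqcTopology.pullback_stable g hp
  refine Scheme.fpqcTopology.superset_covering ?_ h1
  intro Z h hh
  rw [Sieve.pullback_apply, mem_generate_singleton] at hh
  obtain ⟨t, ht⟩ := hh
  rw [mem_generate_singleton]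
  exact ⟨sq.lift t h ht, sq.lift_snd _ _ _⟩

theorem CovMor.comp {X Y Z : Scheme.{u}} {q : X ⟶ Y} {p : Y ⟶ Z} (hq : CovMor q) (hp : CovMor p) :
    CovMor (q ≫ p) := by
  refine Scheme.fpqcTopology.transitive hp _ ?_
  intro W f hf
  rw [mem_generate_singleton] at hf
  obtain ⟨t, rfl⟩ := hf
  have h1 := Scheme.fpqcTopology.pullback_stable t hq
  refine Scheme.fpqcTopology.superset_covering ?_ h1
  intro V h hh
  rw [Sieve.pullback_apply, mem_generate_singleton] at hh
  obtain ⟨s, hs⟩ := hh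
  rw [Sieve.pullback_apply, mem_generate_singleton]
  exact ⟨s, by rw [← Category.assoc, hs, Category.assoc]⟩

theorem covMor_of_isIso {X Y : Scheme.{u}} (p : X ⟶ Y) [IsIso p] : CovMor p := by
  refine Scheme.fpqcTopology.covering_of_eq_top ?_
  rw [← Sieve.id_mem_iff_eq_top, mem_generate_singleton]
  exact ⟨inv p, IsIso.inv_hom_id p⟩

/-- local sections over an fpqc covering family make `p` covering -/
theorem covMor_of_locSec {X Y : Scheme.{u}} (p : X ⟶ Y) (R : Presieve Y)
    (hR : R ∈ Scheme.fpqcPrecoverage Y)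
    (hs : ∀ ⦃Z : Scheme.{u}⦄ (f : Z ⟶ Y), R f → ∃ s : Z ⟶ X, s ≫ p = f) : CovMor p := by
  have h1 : Sieve.generate R ∈ Scheme.fpqcTopology Y := Precoverage.generate_mem_toGrothendieck hR
  refine Scheme.fpqcTopology.superset_covering ?_ h1
  rintro Z h ⟨W, a, f, hf, rfl⟩
  obtain ⟨s, hs⟩ := hs f hf
  rw [mem_generate_singleton]
  exact ⟨a ≫ s, by rw [Category.assoc, hs]⟩

theorem covMor_of_isLocallyTrivialFor_fpqc {X Y : Scheme.{u}} (p : X ⟶ Y)
    (h : NonAbH1.IsLocallyTrivialFor Scheme.fpqcPrecoverage (Over.mk p)) : CovMor p := by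
  obtain ⟨R, hR, hs⟩ := h
  exact covMor_of_locSec p R hR hs

theorem covMor_of_isLocallyTrivialFor_fppf {X Y : Scheme.{u}} (p : X ⟶ Y)
    (h : NonAbH1.IsLocallyTrivialFor Scheme.fppfPrecoverage (Over.mk p)) : CovMor p := by
  obtain ⟨R, hR, hs⟩ := h
  exact covMor_of_locSec p R (Scheme.fppfPrecoverage_le_fpqcPrecoverage _ hR) hs

variable {S : Scheme.{u}}

theorem covMor_tensorHom {A B A' B' : Over S} (f : A ⟶ A') (g : B ⟶ B') (hf : CovMor f.left)
    (hg : CovMor g.left) : CovMor (f ⊗ₘ g).left := by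
  rw [MonoidalCategory.tensorHom_def, Over.comp_left]
  exact CovMor.comp (CovMor.of_isPullback hf (FpqcCov.isPullback_whiskerRight B A A' f).flip)
    (CovMor.of_isPullback hg (MaxOpenGrp.isPullback_whiskerLeft A' B B' g).flip)

theorem covMor_whiskerRight {A A' : Over S} (f : A ⟶ A') (B : Over S) (hf : CovMor f.left) :
    CovMor (f ▷ B).left :=
  CovMor.of_isPullback hf (FpqcCov.isPullback_whiskerRight B A A' f).flip

end Groth.Agent.Lib.Helper4.CovSieve
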