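import Mathlib
import Groth.Agent.Lib.Helper4.LinLeray
import Groth.Agent.Lib.Helper4.ProperFinal
import Groth.Agent.Lib.Helper17.FinTypeConv
import Groth.Agent.Lib.Helper6.K0LocC

/-!
# Higher direct images of coherent modules under proper morphisms are coherent (helper4)
-/

set_option backward.isDefEq.respectTransparency.types false
set_option autoImplicit false
universe u
open CategoryTheory CategoryTheory.Limits AlgebraicGeometry Opposite TopologicalSpace Abelian

noncomputable section
namespace Groth.Agent.Lib.Helper4.RpushCoh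

variable {X S : Scheme.{u}} (f : X ⟶ S)

/-- affine base: the global sections of `R^n f_* M` form a finite module -/
theorem finite_sections_of_isAffine [IsAffine S] [IsLocallyNoetherian S] [IsProper f]
    [HasInjectiveResolutions X.Modules] (M : X.Modules) (hM : Coh.IsCoh M) (n : ℕ) :
    Module.Finite (S.ringCatSheaf.obj.obj (op ⊤)) (((Coh.Rpush f n).obj M).val.obj (op ⊤)) := by
  letI : X.Over (Spec (CommRingCat.of Γ(S, ⊤))) := ⟨f ≫ S.isoSpec.hom⟩
  haveI : IsNoetherianRing Γ(S, ⊤) :=
    IsLocallyNoetherian.component_noetherian ⟨⊤, isAffineOpen_top S⟩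
  haveI : IsProper (X ↘ Spec (CommRingCat.of Γ(S, ⊤))) :=
    inferInstanceAs (IsProper (f ≫ S.isoSpec.hom))
  haveI : M.IsQuasicoherent := hM.1
  exact LinLeray.finite_sections f rfl M n
    (Groth.Agent.Lib.Helper4.ProperFinal.finite_HH Γ(S, ⊤) X M hM n)

/-- **higher direct images of a coherent module under a proper morphism to a locally Noetherian
scheme are coherent** -/
theorem isCoh_Rpush [IsProper f] [IsLocallyNoetherian S] [HasInjectiveResolutions X.Modules]
    (M : X.Modules) (hM : Coh.IsCoh M) (n : ℕ) : Coh.IsCoh ((Coh.Rpush f n).obj M) := by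
  haveI : M.IsQuasicoherent := hM.1
  haveI hqc : ((Coh.Rpush f n).obj M).IsQuasicoherent :=
    Groth.Agent.Lib.Helper2.RpushQC6.isQuasicoherent_Rpush f M n
  refine ⟨hqc, ?_⟩
  have key : ∀ V : S.affineOpens, ∃ G : (((Coh.Rpush f n).obj M).restrict V.1.ι).GeneratingSections,
      G.IsFiniteType := by
    intro V
    haveI : IsAffine (V.1 : Scheme.{u}) := V.2
    obtain ⟨e⟩ := Groth.Agent.Lib.Helper2.RpushQC6.nonempty_restrict_Rpush_iso f V.1 M n
    have hM' : Coh.IsCoh (M.restrict (f ⁻¹ᵁ V.1).ι) :=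
      Groth.Agent.Lib.Helper6.K0LocC.isCoh_restrict _ M hM
    haveI : (M.restrict (f ⁻¹ᵁ V.1).ι).IsQuasicoherent := hM'.1
    haveI : ((Coh.Rpush (f ∣_ V.1) n).obj (M.restrict (f ⁻¹ᵁ V.1).ι)).IsQuasicoherent :=
      Groth.Agent.Lib.Helper2.RpushQC6.isQuasicoherent_Rpush _ _ n
    have hfin := finite_sections_of_isAffine (f ∣_ V.1) (M.restrict (f ⁻¹ᵁ V.1).ι) hM' n
    obtain ⟨G, hG⟩ := Groth.Agent.Lib.Helper17.FinTypeConv.exists_generatingSections_of_finite
      (X := (V.1 : Scheme.{u})) _ hfin
    exact ⟨G.ofEpi e.inv, inferInstance⟩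
  choose G hG using key
  exact Groth.Agent.Lib.Helper17.FinTypeConv.isFiniteType_of_generatingSections_cover _
    (fun V : S.affineOpens => V.1) (iSup_affineOpens_eq_top S) G hG

end Groth.Agent.Lib.Helper4.RpushCoh
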