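import Mathlib.Tactic
import Mathlib.AlgebraicGeometry.Normalization
import Mathlib.AlgebraicGeometry.Cover.Directed
import Mathlib.Topology.Sheaves.SheafCondition.Sites
import Groth.Prelude.Def_AffAlg

set_option autoImplicit false
universe u
open CategoryTheory AlgebraicGeometry TopologicalSpace Opposite Limits

namespace Groth.Agent.Lib.Helper4.AffAlgBij

variable {X Y S : Scheme.{u}}

/-- key formula -/
theorem ι_comp_eq (h : Y ⟶ X) (V : X.Opens) (hV : IsAffineOpen V) :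
    (h ⁻¹ᵁ V).ι ≫ h = (h ⁻¹ᵁ V).toSpecΓ ≫ Spec.map (h.app V) ≫ hV.fromSpec := by
  rw [Scheme.Opens.toSpecΓ_naturality_assoc, IsAffineOpen.toSpecΓ_fromSpec, morphismRestrict_ι]

theorem ι_comp_of_over (f : X ⟶ S) (g : Y ⟶ S) (h : Y ⟶ X) (w : h ≫ f = g) (U : S.Opens)
    (hV : IsAffineOpen (f ⁻¹ᵁ U)) :
    (g ⁻¹ᵁ U).ι ≫ h = (g ⁻¹ᵁ U).toSpecΓ ≫
      Spec.map ((AffAlg.algHom f g h w).app (op U)) ≫ hV.fromSpec := by
  subst w
  have : (AffAlg.algHom f (h ≫ f) h rfl).app (op U) = h.app (f ⁻¹ᵁ U) := by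
    simp only [AffAlg.algHom]
    simp
    rfl
  rw [this]
  exact ι_comp_eq h _ hV

/-- `a ↦ toSpecΓ ≫ Spec.map a` is injective. -/
theorem toSpecΓ_SpecMap_injective (W : Y.Opens) {R : CommRingCat.{u}} (a b : R ⟶ Γ(Y, W))
    (hab : W.toSpecΓ ≫ Spec.map a = W.toSpecΓ ≫ Spec.map b) : a = b := by
  have h1 := congrArg Scheme.Hom.appTop hab
  simp only [Scheme.Hom.comp_appTop, Scheme.Opens.toSpecΓ_appTop] at h1
  have ha : (Spec.map a).appTop = (Scheme.ΓSpecIso R).hom ≫ a ≫ (Scheme.ΓSpecIso _).inv := by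
    rw [← Scheme.ΓSpecIso_naturality_assoc]; simp
  have hb : (Spec.map b).appTop = (Scheme.ΓSpecIso R).hom ≫ b ≫ (Scheme.ΓSpecIso _).inv := by
    rw [← Scheme.ΓSpecIso_naturality_assoc]; simp
  rw [ha, hb] at h1
  simp only [Category.assoc, Iso.inv_hom_id_assoc] at h1
  rw [cancel_epi] at h1
  rwa [cancel_mono] at h1



/-- the local pieces -/
noncomputable def piece (f : X ⟶ S) [IsAffineHom f] (g : Y ⟶ S)
    (ω : AffAlg.alg f ⟶ AffAlg.alg g) (U : S.AffineZariskiSite) :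
    ((Scheme.AffineZariskiSite.directedCover S).pullback₁ g).X U ⟶ X :=
  (pullbackRestrictIsoRestrict g U.1).hom ≫ (g ⁻¹ᵁ U.1).toSpecΓ ≫
      Spec.map (ω.app (op U.1)) ≫ (U.2.preimage f).fromSpec

open Scheme.AffineZariskiSite in
set_option backward.defeqAttrib.useBackward true in
set_option backward.isDefEq.respectTransparency false in
theorem piece_compat (f : X ⟶ S) [IsAffineHom f] (g : Y ⟶ S)
    (ω : AffAlg.alg f ⟶ AffAlg.alg g) {U V : S.AffineZariskiSite} (i : U ⟶ V) :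
    Scheme.Cover.trans ((directedCover S).pullback₁ g) i ≫ piece f g ω V = piece f g ω U := by
  have : (pullbackRestrictIsoRestrict g U.1).inv ≫
      Scheme.Cover.trans ((directedCover S).pullback₁ g) i ≫
      (pullbackRestrictIsoRestrict g V.1).hom = Y.homOfLE
        (g.preimage_mono (toOpens_mono i.1.1)) := by
    rw [← cancel_mono (Scheme.Opens.ι _)]
    simp +instances [Scheme.Cover.trans, Scheme.Cover.locallyDirectedPullbackCover]
  unfold piece
  rw [← Iso.inv_comp_eq, reassoc_of% this, ← Scheme.Opens.toSpecΓ_SpecMap_presheaf_map_assoc,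
    ← Spec.map_comp_assoc]
  have nat := ω.naturality (homOfLE (toOpens_mono i.1.1)).op
  have e1 : ω.app (op V.1) ≫ Y.presheaf.map (homOfLE (g.preimage_mono (toOpens_mono i.1.1))).op =
      X.presheaf.map (homOfLE (f.preimage_mono (toOpens_mono i.1.1))).op ≫ ω.app (op U.1) :=
    nat.symm
  rw [e1, Spec.map_comp_assoc, IsAffineOpen.map_fromSpec]

/-- glue -/
noncomputable def glue (f : X ⟶ S) [IsAffineHom f] (g : Y ⟶ S)
    (ω : AffAlg.alg f ⟶ AffAlg.alg g) : Y ⟶ X :=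
  Scheme.OpenCover.glueMorphismsOfLocallyDirected
    ((Scheme.AffineZariskiSite.directedCover S).pullback₁ g)
    (piece f g ω) (fun i => piece_compat f g ω i)

open Scheme.AffineZariskiSite in
theorem ι_glue (f : X ⟶ S) [IsAffineHom f] (g : Y ⟶ S)
    (ω : AffAlg.alg f ⟶ AffAlg.alg g) (U : S.AffineZariskiSite) :
    (g ⁻¹ᵁ U.1).ι ≫ glue f g ω = (g ⁻¹ᵁ U.1).toSpecΓ ≫
      Spec.map (ω.app (op U.1)) ≫ (U.2.preimage f).fromSpec := by
  rw [← cancel_epi (pullbackRestrictIsoRestrict g U.1).hom, ← Category.assoc]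
  trans ((directedCover S).pullback₁ g).f U ≫ glue f g ω
  · congr 1; simp; rfl
  unfold glue
  exact Scheme.OpenCover.map_glueMorphismsOfLocallyDirected _ _ (fun i => piece_compat f g ω i) U



theorem glue_comp (f : X ⟶ S) [IsAffineHom f] (g : Y ⟶ S)
    (ω : AffAlg.alg f ⟶ AffAlg.alg g) (hω : f.c ≫ ω = g.c) : glue f g ω ≫ f = g := by
  apply Scheme.hom_ext_of_forall
  intro x
  obtain ⟨U, hxU⟩ := TopologicalSpace.Opens.mem_iSup.mp
      ((iSup_affineOpens_eq_top S).ge (Set.mem_univ (g x)))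
  refine ⟨g ⁻¹ᵁ U.1, hxU, ?_⟩
  rw [← Category.assoc, ι_glue f g ω ⟨U.1, U.2⟩]
  simp only [Category.assoc]
  have h1 : (U.2.preimage f).fromSpec ≫ f = Spec.map (f.app U.1) ≫ U.2.fromSpec := by
    rw [Scheme.Hom.app_eq_appLE]
    exact (IsAffineOpen.SpecMap_appLE_fromSpec f U.2 (U.2.preimage f) le_rfl).symm
  have h2 : f.app U.1 ≫ ω.app (op U.1) = g.app U.1 := congrArg (fun t => t.app (op U.1)) hω
  rw [h1, ← Spec.map_comp_assoc, h2]
  exact (ι_comp_eq g U.1 U.2).symm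

theorem main3569 (f : X ⟶ S) [IsAffineHom f] (g : Y ⟶ S) :
    Function.Bijective (AffAlg.algOf f g) := by
  constructor
  · rintro ⟨h₁, w₁⟩ ⟨h₂, w₂⟩ e
    have e' : AffAlg.algHom f g h₁ w₁ = AffAlg.algHom f g h₂ w₂ := congrArg Subtype.val e
    apply Subtype.ext
    show h₁ = h₂
    apply Scheme.hom_ext_of_forall
    intro x
    obtain ⟨U, hxU⟩ := TopologicalSpace.Opens.mem_iSup.mp
      ((iSup_affineOpens_eq_top S).ge (Set.mem_univ (g x)))
    refine ⟨g ⁻¹ᵁ U.1, hxU, ?_⟩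
    rw [ι_comp_of_over f g h₁ w₁ U.1 (U.2.preimage f),
      ι_comp_of_over f g h₂ w₂ U.1 (U.2.preimage f), e']
  · rintro ⟨ω, hω⟩
    refine ⟨⟨glue f g ω, glue_comp f g ω hω⟩, ?_⟩
    apply Subtype.ext
    show AffAlg.algHom f g (glue f g ω) (glue_comp f g ω hω) = ω
    have hB : Opens.IsBasis (Set.range (fun U : S.affineOpens => U.1)) := by
      rw [Subtype.range_coe]
      exact Scheme.isBasis_affineOpens S
    refine TopCat.Sheaf.hom_ext (AffAlg.alg f)
      ((TopCat.Sheaf.pushforward CommRingCat g.base).obj Y.sheaf) hB ?_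
    intro U
    apply toSpecΓ_SpecMap_injective
    have h1 := ι_comp_of_over f g (glue f g ω) (glue_comp f g ω hω) U.1 (U.2.preimage f)
    rw [ι_glue f g ω ⟨U.1, U.2⟩] at h1
    rw [← cancel_mono (U.2.preimage f).fromSpec]
    simpa using h1.symm

end Groth.Agent.Lib.Helper4.AffAlgBij
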