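import Mathlib.Tactic
import Mathlib.CategoryTheory.Limits.Shapes.Pullback.IsPullback.Defs
import Groth.Prelude.Def_RelSpec
import Groth.Agent.S8255
import Groth.Agent.Lib.Helper4.AffAlgBij

set_option autoImplicit false
universe u
open CategoryTheory AlgebraicGeometry TopologicalSpace Opposite Limits

namespace Groth.Agent.Lib.Helper4.QCAlgPushout

open RelSpec

variable {S : Scheme.{u}}

/-- algHom functoriality -/
theorem algHom_comp {X₁ X₂ X₃ : Scheme.{u}} (f₁ : X₁ ⟶ S) (f₂ : X₂ ⟶ S) (f₃ : X₃ ⟶ S)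
    (h : X₂ ⟶ X₁) (w : h ≫ f₁ = f₂) (k : X₃ ⟶ X₂) (w' : k ≫ f₂ = f₃) :
    AffAlg.algHom f₁ f₂ h w ≫ AffAlg.algHom f₂ f₃ k w' =
      AffAlg.algHom f₁ f₃ (k ≫ h) (by rw [Category.assoc, w, w']) := by
  subst w; subst w'
  ext U
  simp [AffAlg.algHom]
  rfl

/-- the QCAlg map of direct images induced by an S-morphism -/
noncomputable def dirMap {X₁ X₂ : Scheme.{u}} (f₁ : X₁ ⟶ S) (f₂ : X₂ ⟶ S)
    [QuasiCompact f₁] [QuasiSeparated f₁] [QuasiCompact f₂] [QuasiSeparated f₂]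
    (h : X₂ ⟶ X₁) (w : h ≫ f₁ = f₂) : QCAlg.directImage f₁ ⟶ QCAlg.directImage f₂ :=
  ⟨AffAlg.algHom f₁ f₂ h w, AffAlg.algHom_comm f₁ f₂ h w⟩

theorem dirMap_comp {X₁ X₂ X₃ : Scheme.{u}} (f₁ : X₁ ⟶ S) (f₂ : X₂ ⟶ S) (f₃ : X₃ ⟶ S)
    [QuasiCompact f₁] [QuasiSeparated f₁] [QuasiCompact f₂] [QuasiSeparated f₂]
    [QuasiCompact f₃] [QuasiSeparated f₃]
    (h : X₂ ⟶ X₁) (w : h ≫ f₁ = f₂) (k : X₃ ⟶ X₂) (w' : k ≫ f₂ = f₃) :
    dirMap f₁ f₂ h w ≫ dirMap f₂ f₃ k w' =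
      dirMap f₁ f₃ (k ≫ h) (by rw [Category.assoc, w, w']) := by
  apply QCAlg.hom_ext
  exact algHom_comp f₁ f₂ f₃ h w k w'

theorem isIso_gammaMap (D : QCAlg S) : IsIso D.gammaMap := Groth.Agent.S8255.result D

attribute [local instance] isIso_gammaMap

/-- inverse of gammaMap -/
noncomputable def gammaInvMap (D : QCAlg S) : D.presheaf ⟶ D.π.base _* D.spec.presheaf :=
  inv D.gammaMap

theorem gammaInvMap_comp (D : QCAlg S) : gammaInvMap D ≫ D.gammaMap = 𝟙 _ :=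
  IsIso.inv_hom_id D.gammaMap

theorem comp_gammaInvMap (D : QCAlg S) : D.gammaMap ≫ gammaInvMap D = 𝟙 _ :=
  IsIso.hom_inv_id D.gammaMap

theorem str_gammaInvMap (D : QCAlg S) : D.str ≫ gammaInvMap D = D.π.c := by
  rw [← D.π_c_gammaMap, Category.assoc, comp_gammaInvMap, Category.comp_id]

/-- inverse of gammaHom -/
noncomputable def gammaInv (D : QCAlg S) : D ⟶ QCAlg.directImage D.π :=
  ⟨gammaInvMap D, str_gammaInvMap D⟩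

theorem gammaInv_gammaHom (D : QCAlg S) : gammaInv D ≫ D.gammaHom = 𝟙 _ := by
  apply QCAlg.hom_ext
  exact gammaInvMap_comp D

theorem gammaHom_gammaInv (D : QCAlg S) : D.gammaHom ≫ gammaInv D = 𝟙 _ := by
  apply QCAlg.hom_ext
  exact comp_gammaInvMap D

/-- Φ -/
noncomputable def ofMor {X₁ : Scheme.{u}} (f₁ : X₁ ⟶ S) [QuasiCompact f₁] [QuasiSeparated f₁]
    (D : QCAlg S) (a : D.spec ⟶ X₁) (w : a ≫ f₁ = D.π) : QCAlg.directImage f₁ ⟶ D :=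
  dirMap f₁ D.π a w ≫ D.gammaHom

theorem exists_mor {X₁ : Scheme.{u}} (f₁ : X₁ ⟶ S) [IsAffineHom f₁]
    (D : QCAlg S) (φ : QCAlg.directImage f₁ ⟶ D) :
    ∃ (a : D.spec ⟶ X₁) (w : a ≫ f₁ = D.π), ofMor f₁ D a w = φ := by
  obtain ⟨⟨a, w⟩, ha⟩ := (AffAlgBij.main3569 f₁ D.π).2
    ⟨(φ ≫ gammaInv D).hom, (φ ≫ gammaInv D).comm⟩
  refine ⟨a, w, ?_⟩
  have h1 : dirMap f₁ D.π a w = φ ≫ gammaInv D := by
    apply QCAlg.hom_ext
    exact congrArg Subtype.val ha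
  unfold ofMor
  rw [h1, Category.assoc, gammaInv_gammaHom, Category.comp_id]

theorem ofMor_injective {X₁ : Scheme.{u}} (f₁ : X₁ ⟶ S) [IsAffineHom f₁]
    (D : QCAlg S) (a a' : D.spec ⟶ X₁) (w : a ≫ f₁ = D.π) (w' : a' ≫ f₁ = D.π)
    (h : ofMor f₁ D a w = ofMor f₁ D a' w') : a = a' := by
  unfold ofMor at h
  have h1 : dirMap f₁ D.π a w = dirMap f₁ D.π a' w' := by
    have := congrArg (· ≫ gammaInv D) h
    simpa [gammaHom_gammaInv] using this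
  have h2 : AffAlg.algOf f₁ D.π ⟨a, w⟩ = AffAlg.algOf f₁ D.π ⟨a', w'⟩ := by
    apply Subtype.ext
    exact congrArg QCAlg.Hom.hom h1
  exact congrArg Subtype.val ((AffAlgBij.main3569 f₁ D.π).1 h2)

theorem dirMap_ofMor {X₁ X₂ : Scheme.{u}} (f₁ : X₁ ⟶ S) (f₂ : X₂ ⟶ S)
    [QuasiCompact f₁] [QuasiSeparated f₁] [QuasiCompact f₂] [QuasiSeparated f₂]
    (h : X₂ ⟶ X₁) (w : h ≫ f₁ = f₂) (D : QCAlg S) (a : D.spec ⟶ X₂) (wa : a ≫ f₂ = D.π) :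
    dirMap f₁ f₂ h w ≫ ofMor f₂ D a wa = ofMor f₁ D (a ≫ h) (by rw [Category.assoc, w, wa]) := by
  unfold ofMor
  rw [← Category.assoc, dirMap_comp]


theorem dirMap_congr {X₁ X₂ : Scheme.{u}} (f₁ : X₁ ⟶ S) (f₂ : X₂ ⟶ S)
    [QuasiCompact f₁] [QuasiSeparated f₁] [QuasiCompact f₂] [QuasiSeparated f₂]
    (h h' : X₂ ⟶ X₁) (w : h ≫ f₁ = f₂) (w' : h' ≫ f₁ = f₂) (e : h = h') :
    dirMap f₁ f₂ h w = dirMap f₁ f₂ h' w' := by
  subst e; rfl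

theorem ofMor_congr {X₁ : Scheme.{u}} (f₁ : X₁ ⟶ S) [QuasiCompact f₁] [QuasiSeparated f₁]
    (D : QCAlg S) (a a' : D.spec ⟶ X₁) (w : a ≫ f₁ = D.π) (w' : a' ≫ f₁ = D.π) (e : a = a') :
    ofMor f₁ D a w = ofMor f₁ D a' w' := by
  subst e; rfl

theorem exists_desc {X X' Y Z : Scheme.{u}} (g : Y ⟶ S) [IsAffineHom g]
    (f : X ⟶ Y) [IsAffineHom f] (f' : X' ⟶ Y) [IsAffineHom f'] (p : Z ⟶ X) (p' : Z ⟶ X')
    [IsAffineHom p] (hZ : IsPullback p p' f f') (wZ : p' ≫ f' ≫ g = p ≫ f ≫ g)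
    (D : QCAlg S) (φ : QCAlg.directImage (f ≫ g) ⟶ D) (φ' : QCAlg.directImage (f' ≫ g) ⟶ D)
    (hc : dirMap g (f ≫ g) f rfl ≫ φ = dirMap g (f' ≫ g) f' rfl ≫ φ') :
    ∃ ψ : QCAlg.directImage (p ≫ f ≫ g) ⟶ D,
      dirMap (f ≫ g) (p ≫ f ≫ g) p rfl ≫ ψ = φ ∧
      dirMap (f' ≫ g) (p ≫ f ≫ g) p' wZ ≫ ψ = φ' ∧
      ∀ ψ' : QCAlg.directImage (p ≫ f ≫ g) ⟶ D,
        dirMap (f ≫ g) (p ≫ f ≫ g) p rfl ≫ ψ' = φ →
        dirMap (f' ≫ g) (p ≫ f ≫ g) p' wZ ≫ ψ' = φ' → ψ' = ψ := by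
  obtain ⟨a, wa, ha⟩ := exists_mor (f ≫ g) D φ
  obtain ⟨a', wa', ha'⟩ := exists_mor (f' ≫ g) D φ'
  have hY : a ≫ f = a' ≫ f' := by
    apply ofMor_injective g D (a ≫ f) (a' ≫ f') (by rw [Category.assoc, wa])
      (by rw [Category.assoc, wa'])
    rw [← dirMap_ofMor g (f ≫ g) f rfl D a wa, ← dirMap_ofMor g (f' ≫ g) f' rfl D a' wa', ha, ha', hc]
  have wb : hZ.lift a a' hY ≫ p ≫ f ≫ g = D.π := by
    rw [← Category.assoc, hZ.lift_fst, wa]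
  refine ⟨ofMor (p ≫ f ≫ g) D (hZ.lift a a' hY) wb, ?_, ?_, ?_⟩
  · rw [dirMap_ofMor, ← ha]
    exact ofMor_congr _ _ _ _ _ _ (hZ.lift_fst _ _ _)
  · rw [dirMap_ofMor, ← ha']
    exact ofMor_congr _ _ _ _ _ _ (hZ.lift_snd _ _ _)
  · intro ψ' h1 h2
    obtain ⟨b', wb', hb'⟩ := exists_mor (p ≫ f ≫ g) D ψ'
    rw [← hb']
    apply ofMor_congr
    apply hZ.hom_ext
    · rw [hZ.lift_fst]
      apply ofMor_injective (f ≫ g) D (b' ≫ p) a (by rw [Category.assoc, wb']) wa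
      rw [← dirMap_ofMor (f ≫ g) (p ≫ f ≫ g) p rfl D b' wb', hb', h1, ha]
    · rw [hZ.lift_snd]
      apply ofMor_injective (f' ≫ g) D (b' ≫ p') a' (by rw [Category.assoc, wZ, wb']) wa'
      rw [← dirMap_ofMor (f' ≫ g) (p ≫ f ≫ g) p' wZ D b' wb', hb', h2, ha']


theorem main8256 {X X' Y Z S : Scheme.{u}} (g : Y ⟶ S) [IsAffineHom g]
    (f : X ⟶ Y) [IsAffineHom f] (f' : X' ⟶ Y) [IsAffineHom f'] (p : Z ⟶ X) (p' : Z ⟶ X') [IsAffineHom p]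
    (hZ : IsPullback p p' f f') :
    IsPushout
      (C := RelSpec.QCAlg S)
      (⟨AffAlg.algHom g (f ≫ g) f rfl, AffAlg.algHom_comm g (f ≫ g) f rfl⟩ :
        RelSpec.QCAlg.directImage g ⟶ RelSpec.QCAlg.directImage (f ≫ g))
      (⟨AffAlg.algHom g (f' ≫ g) f' rfl, AffAlg.algHom_comm g (f' ≫ g) f' rfl⟩ :
        RelSpec.QCAlg.directImage g ⟶ RelSpec.QCAlg.directImage (f' ≫ g))
      (⟨AffAlg.algHom (f ≫ g) (p ≫ f ≫ g) p rfl, AffAlg.algHom_comm (f ≫ g) (p ≫ f ≫ g) p rfl⟩ :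
        RelSpec.QCAlg.directImage (f ≫ g) ⟶ RelSpec.QCAlg.directImage (p ≫ f ≫ g))
      (⟨AffAlg.algHom (f' ≫ g) (p ≫ f ≫ g) p'
          ((Category.assoc p' f' g).symm.trans ((congrArg (· ≫ g) hZ.w.symm).trans (Category.assoc p f g))),
        AffAlg.algHom_comm (f' ≫ g) (p ≫ f ≫ g) p'
          ((Category.assoc p' f' g).symm.trans ((congrArg (· ≫ g) hZ.w.symm).trans (Category.assoc p f g)))⟩ :
        RelSpec.QCAlg.directImage (f' ≫ g) ⟶ RelSpec.QCAlg.directImage (p ≫ f ≫ g)) := by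
  have wZ : p' ≫ f' ≫ g = p ≫ f ≫ g :=
    (Category.assoc p' f' g).symm.trans ((congrArg (· ≫ g) hZ.w.symm).trans (Category.assoc p f g))
  have hw : dirMap g (f ≫ g) f rfl ≫ dirMap (f ≫ g) (p ≫ f ≫ g) p rfl =
      dirMap g (f' ≫ g) f' rfl ≫ dirMap (f' ≫ g) (p ≫ f ≫ g) p' wZ := by
    rw [dirMap_comp, dirMap_comp]
    exact dirMap_congr _ _ _ _ _ _ hZ.w
  refine ⟨⟨hw⟩, ⟨PushoutCocone.IsColimit.mk hw
    (fun s => (exists_desc g f f' p p' hZ wZ s.pt s.inl s.inr s.condition).choose) ?_ ?_ ?_⟩⟩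
  · intro s
    exact (exists_desc g f f' p p' hZ wZ s.pt s.inl s.inr s.condition).choose_spec.1
  · intro s
    exact (exists_desc g f f' p p' hZ wZ s.pt s.inl s.inr s.condition).choose_spec.2.1
  · intro s m h1 h2
    exact (exists_desc g f f' p p' hZ wZ s.pt s.inl s.inr s.condition).choose_spec.2.2 m h1 h2

end Groth.Agent.Lib.Helper4.QCAlgPushout
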