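import Mathlib.Tactic
import Mathlib.AlgebraicGeometry.Morphisms.ClosedImmersion
import Mathlib.AlgebraicGeometry.Morphisms.IsIso
import Groth.Prelude.Def_AffAlg

set_option autoImplicit false
universe u
open CategoryTheory AlgebraicGeometry TopologicalSpace Opposite

namespace Groth.Agent.Lib.Helper4.AffAlgLocal

variable {X Y S : Scheme.{u}}

/-- unfolding algHom -/
theorem algHom_app (f : X ⟶ S) (g : Y ⟶ S) (h : Y ⟶ X) (w : h ≫ f = g) (U : S.Opens) :
    ∃ (e : Γ(Y, h ⁻¹ᵁ (f ⁻¹ᵁ U)) ≅ Γ(Y, g ⁻¹ᵁ U)),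
      (AffAlg.algHom f g h w).app (op U) = h.app (f ⁻¹ᵁ U) ≫ e.hom := by
  subst w
  refine ⟨Iso.refl _, ?_⟩
  simp only [AffAlg.algHom]
  simp
  rfl

theorem isClosedImmersion_restrict (h : Y ⟶ X) (V : X.Opens) (hV : IsAffineOpen V)
    (hV' : IsAffineOpen (h ⁻¹ᵁ V)) (hs : Function.Surjective (h.app V).hom) :
    IsClosedImmersion (h ∣_ V) := by
  have : IsAffine V := hV
  have : IsAffine (h ⁻¹ᵁ V) := hV'
  apply IsClosedImmersion.of_surjective_of_isAffine
  rw [morphismRestrict_appTop]
  have e : V.ι ''ᵁ ⊤ = V := by simp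
  have key : ∀ (W : X.Opens), W = V → Function.Surjective (h.app W).hom := by
    rintro W rfl; exact hs
  intro y
  obtain ⟨x, hx⟩ := key _ e
    ((inv (Y.presheaf.map (eqToHom (image_morphismRestrict_preimage h V ⊤)).op)).hom y)
  refine ⟨x, ?_⟩
  show (Y.presheaf.map (eqToHom (image_morphismRestrict_preimage h V ⊤)).op).hom ((h.app _).hom x) = y
  rw [hx]
  show ((inv (Y.presheaf.map (eqToHom (image_morphismRestrict_preimage h V ⊤)).op)) ≫
    (Y.presheaf.map (eqToHom (image_morphismRestrict_preimage h V ⊤)).op)).hom y = y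
  rw [IsIso.inv_hom_id]
  rfl

theorem iSup_preimage_affineOpens (f : X ⟶ S) :
    ⨆ U : S.affineOpens, f ⁻¹ᵁ U.1 = ⊤ := by
  rw [← Scheme.Hom.preimage_iSup, iSup_affineOpens_eq_top]
  rfl

theorem main3583 {X X' S : Scheme.{u}} (f : X ⟶ S) [IsAffineHom f]
    (f' : X' ⟶ S) [IsAffineHom f'] (h : X' ⟶ X) (w : h ≫ f = f')
    (hsurj : ∀ U : S.affineOpens,
      Function.Surjective ((AffAlg.algHom f f' h w).app (op U.1)).hom) :
    IsClosedImmersion h := by
  apply IsZariskiLocalAtTarget.of_iSup_eq_top (P := @IsClosedImmersion)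
    (fun U : S.affineOpens => f ⁻¹ᵁ U.1) (iSup_preimage_affineOpens f)
  intro U
  apply isClosedImmersion_restrict
  · exact U.2.preimage f
  · subst w; exact U.2.preimage (h ≫ f)
  · obtain ⟨e, he⟩ := algHom_app f f' h w U.1
    have hs := hsurj U
    rw [he] at hs
    intro y
    obtain ⟨x, hx⟩ := hs (e.hom.hom y)
    refine ⟨x, ?_⟩
    have hinj : Function.Injective e.hom.hom := by
      intro a b hab
      have := congrArg e.inv.hom hab
      simpa using this
    apply hinj
    exact hx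

theorem isIso_restrict (h : Y ⟶ X) (V : X.Opens) (hV : IsAffineOpen V)
    (hV' : IsAffineOpen (h ⁻¹ᵁ V)) (hs : IsIso (h.app V)) :
    IsIso (h ∣_ V) := by
  have : IsAffine V := hV
  have : IsAffine (h ⁻¹ᵁ V) := hV'
  have hiso : IsIso (h ∣_ V).appTop := by
    rw [morphismRestrict_appTop]
    have e : V.ι ''ᵁ ⊤ = V := by simp
    have key : ∀ (W : X.Opens), W = V → IsIso (h.app W) := by
      rintro W rfl; exact hs
    have := key _ e
    have h2 : IsIso (Y.presheaf.map (eqToHom (image_morphismRestrict_preimage h V ⊤)).op) := by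
      have : IsIso (eqToHom (image_morphismRestrict_preimage h V ⊤)).op := inferInstance
      exact Functor.map_isIso _ _
    exact IsIso.comp_isIso' this h2
  exact (MorphismProperty.arrow_mk_iso_iff (MorphismProperty.isomorphisms _)
    (arrowIsoSpecΓOfIsAffine (h ∣_ V))).mpr
    (inferInstanceAs (IsIso (Spec.map ((h ∣_ V).appTop))))

theorem main3570 {X Y S : Scheme.{u}} (f : X ⟶ S) [IsAffineHom f] (g : Y ⟶ S)
    [IsAffineHom g] (h : Y ⟶ X) (w : h ≫ f = g) :
    IsIso h ↔ IsIso (AffAlg.algHom f g h w) := by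
  constructor
  · intro hh
    have : ∀ U : (Opens S)ᵒᵖ, IsIso ((AffAlg.algHom f g h w).app U) := by
      intro U
      obtain ⟨e, he⟩ := algHom_app f g h w U.unop
      show IsIso ((AffAlg.algHom f g h w).app (op U.unop))
      rw [he]
      infer_instance
    exact NatIso.isIso_of_isIso_app _
  · intro hh
    show MorphismProperty.isomorphisms Scheme h
    apply IsZariskiLocalAtTarget.of_iSup_eq_top (P := MorphismProperty.isomorphisms Scheme)
      (fun U : S.affineOpens => f ⁻¹ᵁ U.1) (iSup_preimage_affineOpens f)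
    intro U
    apply isIso_restrict
    · exact U.2.preimage f
    · subst w; exact U.2.preimage (h ≫ f)
    · obtain ⟨e, he⟩ := algHom_app f g h w U.1
      have h1 : IsIso ((AffAlg.algHom f g h w).app (op U.1)) := inferInstance
      rw [he] at h1
      exact IsIso.of_isIso_comp_right _ e.hom

end Groth.Agent.Lib.Helper4.AffAlgLocal
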