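import Mathlib.Tactic
import Mathlib.AlgebraicGeometry.QuasiAffine
import Groth.Prelude.Def_RelSpec
import Groth.Prelude.Def_MoreMor
import Groth.Agent.Lib.Helper4.AffAlgBij
import Groth.Agent.Lib.Helper4.AffAlgLocal

set_option autoImplicit false
universe u
open CategoryTheory AlgebraicGeometry TopologicalSpace Opposite Limits

namespace Groth.Agent.Lib.Helper4.QAffRelSpec

open RelSpec

variable {S : Scheme.{u}} (A : QCAlg S)

/-- chart formula -/
theorem specMap_gammaAff_fromSpec (U : S.Opens) (hU : IsAffineOpen U) :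
    Spec.map (A.gammaAff U hU) ≫ (hU.preimage A.π).fromSpec = A.ι U hU := by
  unfold QCAlg.gammaAff
  rw [Spec.map_comp, Category.assoc,
    IsAffineOpen.SpecMap_appLE_fromSpec (A.ι U hU) (hU.preimage A.π) (isAffineOpen_top _) _,
    IsAffineOpen.fromSpec_top, Scheme.isoSpec_Spec_inv, ← Spec.map_comp_assoc]
  simp

/-- a morphism `c : X ⟶ Spec(A)` over `S` classified by `ω` restricted over an affine `U` -/
theorem ι_comp_classify {X : Scheme.{u}} (f : X ⟶ S) (c : X ⟶ A.spec) (e : c ≫ A.π = f)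
    (ω : A.presheaf ⟶ AffAlg.alg f)
    (hω : A.gammaMap ≫ ω = AffAlg.algHom A.π f c e) (U : S.Opens) (hU : IsAffineOpen U) :
    (f ⁻¹ᵁ U).ι ≫ c = (f ⁻¹ᵁ U).toSpecΓ ≫ Spec.map (ω.app (op U)) ≫ A.ι U hU := by
  rw [AffAlgBij.ι_comp_of_over A.π f c e U (hU.preimage A.π), ← hω, NatTrans.comp_app,
    A.gammaMap_app U hU, Spec.map_comp, Category.assoc, specMap_gammaAff_fromSpec]


theorem toSpecΓ_opens_eq {X : Scheme.{u}} (W : X.Opens) :
    W.toScheme.toSpecΓ = W.toSpecΓ ≫ Spec.map W.topIso.hom := by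
  have h0 : W.toSpecΓ = W.toScheme.toSpecΓ ≫ Spec.map W.topIso.inv := rfl
  rw [h0, Category.assoc, ← Spec.map_comp, Iso.hom_inv_id, Spec.map_id, Category.comp_id]

theorem isOpenImmersion_opens_toSpecΓ_iff {X : Scheme.{u}} (W : X.Opens) :
    IsOpenImmersion W.toScheme.toSpecΓ ↔ IsOpenImmersion W.toSpecΓ := by
  rw [toSpecΓ_opens_eq]
  constructor
  · intro h
    have : W.toSpecΓ = (W.toSpecΓ ≫ Spec.map W.topIso.hom) ≫ Spec.map W.topIso.inv := by
      rw [Category.assoc, ← Spec.map_comp, Iso.inv_hom_id, Spec.map_id, Category.comp_id]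
    rw [this]
    infer_instance
  · intro h
    infer_instance

theorem isOpenImmersion_ι_comp_of_eq {X Z : Scheme.{u}} (c : X ⟶ Z) (W W' : X.Opens) (h : W = W')
    (hW : IsOpenImmersion (W'.ι ≫ c)) : IsOpenImmersion (W.ι ≫ c) := by
  subst h; exact hW

theorem main9380 {X S : Scheme.{u}} (f : X ⟶ S) [QuasiCompact f] [QuasiSeparated f] :
    MoreMor.IsQuasiAffineHom f ↔
      ∃ (c : X ⟶ (QCAlg.directImage f).spec) (e : c ≫ (QCAlg.directImage f).π = f),
        (QCAlg.directImage f).gammaMap = AffAlg.algHom (QCAlg.directImage f).π f c e ∧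
          QuasiCompact c ∧ IsOpenImmersion c := by
  have key : ∀ (c : X ⟶ (QCAlg.directImage f).spec) (e : c ≫ (QCAlg.directImage f).π = f),
      (QCAlg.directImage f).gammaMap = AffAlg.algHom (QCAlg.directImage f).π f c e →
      ∀ (U : S.Opens) (hU : IsAffineOpen U),
        (f ⁻¹ᵁ U).ι ≫ c = (f ⁻¹ᵁ U).toSpecΓ ≫ (QCAlg.directImage f).ι U hU := by
    intro c e h U hU
    have := ι_comp_classify (QCAlg.directImage f) f c e (𝟙 (AffAlg.alg f))
      (by exact (Category.comp_id (QCAlg.directImage f).gammaMap).trans h) U hU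
    rw [this]
    show (f ⁻¹ᵁ U).toSpecΓ ≫ Spec.map (𝟙 Γ(X, f ⁻¹ᵁ U)) ≫ (QCAlg.directImage f).ι U hU = _
    rw [Spec.map_id]
    exact congrArg _ (Category.id_comp _)
  constructor
  · rintro ⟨_, hqa⟩
    obtain ⟨⟨c, e⟩, hc⟩ := (AffAlgBij.main3569 (QCAlg.directImage f).π f).2
      ⟨(QCAlg.directImage f).gammaMap, (QCAlg.directImage f).π_c_gammaMap⟩
    have hc' : AffAlg.algHom (QCAlg.directImage f).π f c e = (QCAlg.directImage f).gammaMap :=
      congrArg Subtype.val hc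
    refine ⟨c, e, hc'.symm, ?_, ?_⟩
    · have : QuasiCompact (c ≫ (QCAlg.directImage f).π) := by rw [e]; infer_instance
      exact QuasiCompact.of_comp c (QCAlg.directImage f).π
    · apply IsZariskiLocalAtTarget.of_iSup_eq_top (P := @IsOpenImmersion)
        (fun U : S.affineOpens => (QCAlg.directImage f).π ⁻¹ᵁ U.1)
        (AffAlgLocal.iSup_preimage_affineOpens (QCAlg.directImage f).π)
      intro U
      have h1 : IsOpenImmersion ((c ∣_ ((QCAlg.directImage f).π ⁻¹ᵁ U.1)) ≫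
          ((QCAlg.directImage f).π ⁻¹ᵁ U.1).ι) := by
        rw [morphismRestrict_ι]
        apply isOpenImmersion_ι_comp_of_eq c _ (f ⁻¹ᵁ U.1)
        · exact congrArg (fun t : X ⟶ S => t ⁻¹ᵁ U.1) e
        · rw [key c e hc'.symm U.1 U.2]
          have : (f ⁻¹ᵁ U.1).toScheme.IsQuasiAffine := hqa U.1 U.2
          have h5 : IsOpenImmersion (f ⁻¹ᵁ U.1).toSpecΓ :=
            (isOpenImmersion_opens_toSpecΓ_iff _).mp inferInstance
          have hι : IsOpenImmersion ((QCAlg.directImage f).ι U.1 U.2) :=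
            QCAlg.instIsOpenImmersionι _ _ _
          exact @IsOpenImmersion.comp _ _ _ (f ⁻¹ᵁ U.1).toSpecΓ
            ((QCAlg.directImage f).ι U.1 U.2) h5 hι
      exact IsOpenImmersion.of_comp _ ((QCAlg.directImage f).π ⁻¹ᵁ U.1).ι
  · rintro ⟨c, e, h, hqc, hoi⟩
    refine ⟨inferInstance, fun V hV => ?_⟩
    have hcpt : CompactSpace (f ⁻¹ᵁ V) :=
      isCompact_iff_compactSpace.mp (f.isCompact_preimage hV.isCompact)
    have h1 : IsOpenImmersion ((f ⁻¹ᵁ V).toSpecΓ ≫ (QCAlg.directImage f).ι V hV) := by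
      rw [← key c e h V hV]; infer_instance
    have hι : IsOpenImmersion ((QCAlg.directImage f).ι V hV) := inferInstance
    have h2 : IsOpenImmersion (f ⁻¹ᵁ V).toSpecΓ :=
      @IsOpenImmersion.of_comp _ _ _ (f ⁻¹ᵁ V).toSpecΓ ((QCAlg.directImage f).ι V hV) hι h1
    have h3 : IsOpenImmersion (f ⁻¹ᵁ V).toScheme.toSpecΓ :=
      (isOpenImmersion_opens_toSpecΓ_iff _).mpr h2
    exact { }

end Groth.Agent.Lib.Helper4.QAffRelSpec
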