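import Mathlib.AlgebraicGeometry.Restrict
import Mathlib.AlgebraicGeometry.Pullbacks
import Mathlib.Tactic
import Groth.Prelude.Def_Grpd
import Groth.Agent.Lib.Helper4.GrpdCalc

set_option autoImplicit false
universe u
open CategoryTheory AlgebraicGeometry TopologicalSpace Limits

namespace Groth.Agent.Lib.Helper4.GrpdWh

open Grpd GrpdCalc

section Abstract

variable (P Q : MorphismProperty Scheme.{u}) [P.RespectsIso]
  (W : ∀ {X Y : Scheme.{u}} (f : X ⟶ Y), Q f → X.Opens)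
  (hWP : ∀ {X Y : Scheme.{u}} (f : X ⟶ Y) (hf : Q f), P ((W f hf).ι ≫ f))
  (hWmax : ∀ {X Y : Scheme.{u}} (f : X ⟶ Y) (hf : Q f) (V : X.Opens), P (V.ι ≫ f) → V ≤ W f hf)

include hWP hWmax in
theorem W_iso_le {X' X Y : Scheme.{u}} (θ : X' ⟶ X) [IsIso θ] (f : X ⟶ Y) (hf : Q f)
    (hf' : Q (θ ≫ f)) : θ ⁻¹ᵁ W f hf ≤ W (θ ≫ f) hf' := by
  apply hWmax
  have h1 : (θ ⁻¹ᵁ W f hf).ι ≫ θ ≫ f = (θ ∣_ W f hf) ≫ ((W f hf).ι ≫ f) := by
    rw [← Category.assoc, ← morphismRestrict_ι, Category.assoc]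
  rw [h1]
  exact (P.cancel_left_of_respectsIso _ _).mpr (hWP f hf)

theorem W_congr {X Y : Scheme.{u}} {f f' : X ⟶ Y} (e : f = f') (hf : Q f) (hf' : Q f') :
    W f hf = W f' hf' := by
  subst e; rfl

include hWP hWmax in
theorem W_iso {X' X Y : Scheme.{u}} (θ : X' ⟶ X) [IsIso θ] (f : X ⟶ Y) (hf : Q f)
    (hf' : Q (θ ≫ f)) : θ ⁻¹ᵁ W f hf = W (θ ≫ f) hf' := by
  apply le_antisymm (W_iso_le P Q W hWP hWmax θ f hf hf')
  have hf'' : Q (inv θ ≫ θ ≫ f) := by rw [IsIso.inv_hom_id_assoc]; exact hf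
  have h1 := W_iso_le P Q W hWP hWmax (inv θ) (θ ≫ f) hf' hf''
  have h2 : W (inv θ ≫ θ ≫ f) hf'' = W f hf := W_congr Q W (IsIso.inv_hom_id_assoc θ f) _ _
  rw [h2] at h1
  intro x hx
  have := h1 (show θ x ∈ (inv θ) ⁻¹ᵁ W (θ ≫ f) hf' from by
    show (inv θ) (θ x) ∈ W (θ ≫ f) hf'
    rw [← Scheme.Hom.comp_apply, IsIso.hom_inv_id]
    exact hx)
  exact this

end Abstract

variable {S : Scheme.{u}} (G : GroupoidScheme S) {U' : Scheme.{u}} (g : U' ⟶ G.U)

/-- `h (u', r) = s r` -/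
noncomputable abbrev h : pullback g G.t ⟶ G.U := pullback.snd g G.t ≫ G.s

/-- `(u', r, r') ↦ (u', r ∘ r')` -/
noncomputable def m : pullback (h G g) G.t ⟶ pullback g G.t :=
  pullback.lift (pullback.fst (h G g) G.t ≫ pullback.fst g G.t)
    (cmp G (pullback.fst (h G g) G.t ≫ pullback.snd g G.t) (pullback.snd (h G g) G.t)
      (by rw [Category.assoc]; exact pullback.condition))
    (by rw [cmp_t, Category.assoc, Category.assoc, pullback.condition])

theorem m_fst : m G g ≫ pullback.fst g G.t =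
    pullback.fst (h G g) G.t ≫ pullback.fst g G.t := pullback.lift_fst _ _ _

theorem m_snd : m G g ≫ pullback.snd g G.t =
    cmp G (pullback.fst (h G g) G.t ≫ pullback.snd g G.t) (pullback.snd (h G g) G.t)
      (by rw [Category.assoc]; exact pullback.condition) := pullback.lift_snd _ _ _

theorem m_h : m G g ≫ h G g = pullback.snd (h G g) G.t ≫ G.s := by
  rw [← Category.assoc, m_snd, cmp_s]

theorem B_cond : (pullback.fst (h G g) G.t ≫ pullback.snd g G.t) ≫ G.s =
    pullback.snd (h G g) G.t ≫ G.t := by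
  rw [Category.assoc]; exact pullback.condition

theorem B_cond' {T : Scheme.{u}} (n : T ⟶ pullback (h G g) G.t) :
    (n ≫ pullback.fst (h G g) G.t ≫ pullback.snd g G.t) ≫ G.s =
    (n ≫ pullback.snd (h G g) G.t) ≫ G.t := by
  have := congrArg (fun x => n ≫ x) (B_cond G g)
  simpa only [Category.assoc] using this

theorem isPullback_m : IsPullback (m G g) (pullback.snd (h G g) G.t) (h G g) G.s := by
  refine ⟨⟨m_h G g⟩, ⟨PullbackCone.IsLimit.mk _
    (fun k => pullback.lift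
      (pullback.lift (k.fst ≫ pullback.fst g G.t)
        (cmp G (k.fst ≫ pullback.snd g G.t) (k.snd ≫ G.i) (by
          simp only [Category.assoc]; rw [G.i_t]; exact k.condition))
        (by rw [cmp_t, Category.assoc, Category.assoc, pullback.condition]))
      k.snd
      (by rw [← Category.assoc, pullback.lift_snd, cmp_s, Category.assoc, G.i_s])) ?_ ?_ ?_⟩⟩
  · intro k
    apply pullback.hom_ext
    · rw [Category.assoc, m_fst, pullback.lift_fst_assoc, pullback.lift_fst]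
    · rw [Category.assoc, m_snd]
      rw [precomp G _ _ _ _ (B_cond' G g _)]
      rw [cmp_congr G (by rw [pullback.lift_fst_assoc, pullback.lift_snd])
        (pullback.lift_snd _ _ _) _ (by rw [cmp_s, Category.assoc, G.i_s])]
      exact L4 G k.snd (k.fst ≫ pullback.snd g G.t) _ _
  · intro k
    exact pullback.lift_snd _ _ _
  · intro k n hn1 hn2
    apply pullback.hom_ext
    · rw [pullback.lift_fst]
      apply pullback.hom_ext
      · rw [pullback.lift_fst, ← hn1, Category.assoc, Category.assoc, m_fst]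
      · rw [pullback.lift_snd]
        obtain ⟨x, hx⟩ : ∃ x, x = n ≫ pullback.fst (h G g) G.t ≫ pullback.snd g G.t := ⟨_, rfl⟩
        have hxs : x ≫ G.s = k.snd ≫ G.t := by
          rw [hx, ← hn2]; exact B_cond' G g n
        have hρ : k.fst ≫ pullback.snd g G.t = cmp G x k.snd hxs := by
          rw [← hn1, Category.assoc, m_snd]
          rw [precomp G _ _ _ _ (B_cond' G g _)]
          exact cmp_congr G (by rw [hx]) hn2 _ _
        rw [Category.assoc, ← hx]
        have := L3 G k.snd x hxs (by rw [cmp_s, Category.assoc, G.i_t])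
        rw [← this]
        exact cmp_congr G hρ.symm rfl _ _
    · rw [pullback.lift_snd]; exact hn2

/-- `(u', r) ↦ (u', r, r⁻¹)` -/
noncomputable def τ : pullback g G.t ⟶ pullback (h G g) G.t :=
  pullback.lift (𝟙 _) (pullback.snd g G.t ≫ G.i) (by
    rw [Category.id_comp, Category.assoc, G.i_t])

/-- `u' ↦ (u', e (g u'))` -/
noncomputable def σ : U' ⟶ pullback g G.t :=
  pullback.lift (𝟙 _) (g ≫ G.e) (by rw [Category.id_comp, Category.assoc, G.e_t, Category.comp_id])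

theorem τ_fst : τ G g ≫ pullback.fst (h G g) G.t = 𝟙 _ := pullback.lift_fst _ _ _

theorem τ_m : τ G g ≫ m G g = pullback.fst g G.t ≫ σ G g := by
  apply pullback.hom_ext
  · rw [Category.assoc, m_fst, ← Category.assoc, τ_fst, Category.id_comp, Category.assoc]
    unfold σ
    rw [pullback.lift_fst, Category.comp_id]
  · rw [Category.assoc, m_snd]
    rw [precomp G _ _ _ _ (by
      rw [← Category.assoc, τ_fst, Category.id_comp]; unfold τ
      rw [pullback.lift_snd, Category.assoc, G.i_t])]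
    have e1 : τ G g ≫ pullback.fst (h G g) G.t ≫ pullback.snd g G.t = pullback.snd g G.t := by
      rw [← Category.assoc, τ_fst, Category.id_comp]
    have e2 : τ G g ≫ pullback.snd (h G g) G.t = pullback.snd g G.t ≫ G.i := by
      unfold τ; rw [pullback.lift_snd]
    rw [cmp_congr G e1 e2 _ (by rw [Category.assoc, G.i_t])]
    rw [cmp_i]
    unfold σ
    rw [Category.assoc, pullback.lift_snd, ← Category.assoc, ← Category.assoc, ← pullback.condition]

theorem main (P Q R : MorphismProperty Scheme.{u}) [P.RespectsIso]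
    [Q.IsStableUnderBaseChange]
    (W : ∀ {X Y : Scheme.{u}} (f : X ⟶ Y), Q f → X.Opens)
    (hWP : ∀ {X Y : Scheme.{u}} (f : X ⟶ Y) (hf : Q f), P ((W f hf).ι ≫ f))
    (hWmax : ∀ {X Y : Scheme.{u}} (f : X ⟶ Y) (hf : Q f) (V : X.Opens),
      P (V.ι ≫ f) → V ≤ W f hf)
    (hWbc : ∀ {X Y Y' : Scheme.{u}} (f : X ⟶ Y) (hf : Q f) (b : Y' ⟶ Y), R b →
      ∀ hf' : Q (pullback.snd f b), pullback.fst f b ⁻¹ᵁ W f hf = W (pullback.snd f b) hf')
    (hs : R G.s) (ht : R G.t) (hh : Q (pullback.snd g G.t ≫ G.s)) :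
    ∃ V : U'.Opens, pullback.fst g G.t ⁻¹ᵁ V = W (pullback.snd g G.t ≫ G.s) hh := by
  refine ⟨σ G g ⁻¹ᵁ W (h G g) hh, ?_⟩
  have hQt : Q (pullback.snd (h G g) G.t) :=
    MorphismProperty.of_isPullback (IsPullback.of_hasPullback (h G g) G.t) hh
  have hQs : Q (pullback.snd (h G g) G.s) :=
    MorphismProperty.of_isPullback (IsPullback.of_hasPullback (h G g) G.s) hh
  have b1 := hWbc (h G g) hh G.t ht hQt
  have b2 := hWbc (h G g) hh G.s hs hQs
  let θ := (isPullback_m G g).isoPullback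
  have θ1 : θ.hom ≫ pullback.fst (h G g) G.s = m G g := (isPullback_m G g).isoPullback_hom_fst
  have θ2 : θ.hom ≫ pullback.snd (h G g) G.s = pullback.snd (h G g) G.t :=
    (isPullback_m G g).isoPullback_hom_snd
  have hQ' : Q (θ.hom ≫ pullback.snd (h G g) G.s) := by rw [θ2]; exact hQt
  have b3 := W_iso P Q W hWP hWmax θ.hom (pullback.snd (h G g) G.s) hQs hQ'
  have b4 : W (θ.hom ≫ pullback.snd (h G g) G.s) hQ' = W (pullback.snd (h G g) G.t) hQt :=
    W_congr Q W θ2 _ _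
  have key : m G g ⁻¹ᵁ W (h G g) hh = pullback.fst (h G g) G.t ⁻¹ᵁ W (h G g) hh := by
    rw [b1, ← b4, ← b3, ← b2, ← Scheme.Hom.comp_preimage, θ1]
  calc pullback.fst g G.t ⁻¹ᵁ σ G g ⁻¹ᵁ W (h G g) hh
      = (pullback.fst g G.t ≫ σ G g) ⁻¹ᵁ W (h G g) hh := (Scheme.Hom.comp_preimage _ _ _).symm
    _ = (τ G g ≫ m G g) ⁻¹ᵁ W (h G g) hh := by rw [τ_m]
    _ = τ G g ⁻¹ᵁ (m G g ⁻¹ᵁ W (h G g) hh) := Scheme.Hom.comp_preimage _ _ _
    _ = τ G g ⁻¹ᵁ (pullback.fst (h G g) G.t ⁻¹ᵁ W (h G g) hh) := by rw [key]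
    _ = (τ G g ≫ pullback.fst (h G g) G.t) ⁻¹ᵁ W (h G g) hh :=
      (Scheme.Hom.comp_preimage _ _ _).symm
    _ = W (h G g) hh := by rw [τ_fst]; rfl

end Groth.Agent.Lib.Helper4.GrpdWh
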