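import Mathlib.RingTheory.Flat.Equalizer
import Mathlib.RingTheory.Ideal.Operations
import Mathlib.Tactic

namespace Groth.Agent.Lib.Helper4.ARFlat

open TensorProduct

universe u

variable {A B : Type u} [CommRing A] [CommRing B] [Algebra A B]

theorem tmul_mem_smul_top {M : Type u} [AddCommGroup M] [Module A M]
    (J : Ideal A) (b : B) (m : M) (hm : m ∈ J • (⊤ : Submodule A M)) :
    b ⊗ₜ[A] m ∈ (J.map (algebraMap A B)) • (⊤ : Submodule B (B ⊗[A] M)) := by
  refine Submodule.smul_induction_on hm ?_ ?_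
  · intro j hj m _
    have : b ⊗ₜ[A] (j • m) = algebraMap A B j • (b ⊗ₜ[A] m) := by
      rw [TensorProduct.tmul_smul, algebraMap_smul]
    rw [this]
    exact Submodule.smul_mem_smul (Ideal.mem_map_of_mem _ hj) Submodule.mem_top
  · intro x y hx hy
    rw [TensorProduct.tmul_add]
    exact add_mem hx hy

theorem smul_quot_eq_zero {N : Type u} [AddCommGroup N] [Module A N] (J : Ideal A)
    (r : B) (hr : r ∈ J.map (algebraMap A B))
    (w : B ⊗[A] (N ⧸ (J • (⊤ : Submodule A N)))) : r • w = 0 := by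
  induction hr using Submodule.span_induction with
  | mem r hr =>
    obtain ⟨j, hj, rfl⟩ := hr
    rw [algebraMap_smul]
    induction w using TensorProduct.induction_on with
    | zero => rw [smul_zero]
    | tmul b n =>
      obtain ⟨n, rfl⟩ := Submodule.Quotient.mk_surjective _ n
      rw [← TensorProduct.tmul_smul, ← Submodule.Quotient.mk_smul,
        (Submodule.Quotient.mk_eq_zero _).2 (Submodule.smul_mem_smul hj Submodule.mem_top),
        TensorProduct.tmul_zero]
    | add x y hx hy => rw [smul_add, hx, hy, add_zero]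
  | zero => rw [zero_smul]
  | add x y _ _ hx hy => rw [add_smul, hx, hy, add_zero]
  | smul a x _ hx => rw [smul_eq_mul, mul_smul, hx, smul_zero]

theorem mkQ_baseChange_eq_zero {N : Type u} [AddCommGroup N] [Module A N] (J : Ideal A)
    (y : B ⊗[A] N) (hy : y ∈ (J.map (algebraMap A B)) • (⊤ : Submodule B (B ⊗[A] N))) :
    (Submodule.mkQ (J • (⊤ : Submodule A N))).baseChange B y = 0 := by
  refine Submodule.smul_induction_on hy ?_ ?_
  · intro r hr y _
    rw [map_smul]
    exact smul_quot_eq_zero J r hr _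
  · intro x y hx hy
    rw [map_add, hx, hy, add_zero]

theorem main [Module.Flat A B] (I : Ideal A) {M N : Type u} [AddCommGroup M] [Module A M]
    [AddCommGroup N] [Module A N] (f : M →ₗ[A] N) (c : ℕ)
    (hf : (∀ n : ℕ, c ≤ n → LinearMap.range f ⊓ (I ^ n • (⊤ : Submodule A N)) ≤ Submodule.map f (I ^ (n - c) • (⊤ : Submodule A M)))) :
    ∀ n : ℕ, c ≤ n →
      LinearMap.range (f.baseChange B) ⊓ ((I.map (algebraMap A B)) ^ n • (⊤ : Submodule B (B ⊗[A] N))) ≤
        Submodule.map (f.baseChange B) ((I.map (algebraMap A B)) ^ (n - c) • (⊤ : Submodule B (B ⊗[A] M))) := by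
  intro n hn
  rw [← Ideal.map_pow, ← Ideal.map_pow]
  obtain ⟨J, hJ⟩ : ∃ J : Ideal A, J = I ^ n := ⟨_, rfl⟩
  obtain ⟨J', hJ'⟩ : ∃ J' : Ideal A, J' = I ^ (n - c) := ⟨_, rfl⟩
  have hfn := hf n hn
  rw [← hJ, ← hJ'] at hfn ⊢
  -- the composite
  obtain ⟨g, hg⟩ : ∃ g : M →ₗ[A] N ⧸ (J • (⊤ : Submodule A N)),
      g = (Submodule.mkQ (J • (⊤ : Submodule A N))).comp f := ⟨_, rfl⟩
  have hK : ∀ m ∈ LinearMap.ker g, ∃ m₁ ∈ J' • (⊤ : Submodule A M), f m = f m₁ := by
    intro m hm
    rw [LinearMap.mem_ker, hg, LinearMap.comp_apply, Submodule.mkQ_apply,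
      Submodule.Quotient.mk_eq_zero] at hm
    obtain ⟨m₁, hm₁, h⟩ := hfn ⟨⟨m, rfl⟩, hm⟩
    exact ⟨m₁, hm₁, h.symm⟩
  rintro x ⟨⟨z, rfl⟩, hx⟩
  have hz : z ∈ LinearMap.ker (TensorProduct.AlgebraTensorModule.lTensor B B g) := by
    rw [LinearMap.mem_ker]
    have h1 : (TensorProduct.AlgebraTensorModule.lTensor B B g) z =
        (Submodule.mkQ (J • (⊤ : Submodule A N))).baseChange B (f.baseChange B z) := by
      rw [hg]
      change (((Submodule.mkQ (J • (⊤ : Submodule A N))).comp f).baseChange B) z = _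
      rw [LinearMap.baseChange_comp]
      rfl
    rw [h1]
    exact mkQ_baseChange_eq_zero J _ hx
  clear hx
  rw [Module.Flat.ker_lTensor_eq] at hz
  obtain ⟨w, rfl⟩ := hz
  induction w using TensorProduct.induction_on with
  | zero =>
    rw [map_zero, map_zero]
    exact zero_mem _
  | tmul b k =>
    obtain ⟨m₁, hm₁, h⟩ := hK k.1 k.2
    refine ⟨b ⊗ₜ[A] m₁, tmul_mem_smul_top J' b m₁ hm₁, ?_⟩
    change b ⊗ₜ[A] f m₁ = b ⊗ₜ[A] f k.1
    rw [h]
  | add x y hx hy =>
    rw [map_add, map_add]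
    exact add_mem hx hy

end Groth.Agent.Lib.Helper4.ARFlat

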