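import Mathlib.Tactic
import Mathlib.AlgebraicGeometry.Pullbacks
import Mathlib.CategoryTheory.Monoidal.Cartesian.Over
import Groth.Agent.Lib.Helper4.AntiAffRigid

open CategoryTheory AlgebraicGeometry Limits TopologicalSpace MonoidalCategory CartesianMonoidalCategory

namespace Groth.Agent.Lib.Helper4.AntiAffOver

open Groth.Agent.Lib.Helper4.AntiAffRigid

universe u

theorem isIso_appTop_of_bijective (k : Type u) [Field k] (X : Over (Spec (CommRingCat.of k)))
    (hX : Function.Bijective ((Scheme.ΓSpecIso (CommRingCat.of k)).inv ≫ X.hom.appTop).hom) :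
    IsIso X.hom.appTop := by
  have h1 : IsIso ((Scheme.ΓSpecIso (CommRingCat.of k)).inv ≫ X.hom.appTop) :=
    (ConcreteCategory.isIso_iff_bijective _).mpr hX
  have h2 : X.hom.appTop = (Scheme.ΓSpecIso (CommRingCat.of k)).hom ≫
      ((Scheme.ΓSpecIso (CommRingCat.of k)).inv ≫ X.hom.appTop) := by
    rw [Iso.hom_inv_id_assoc]
  rw [h2]
  infer_instance

theorem over_rigidity (k : Type u) [Field k] (X Y Z : Over (Spec (CommRingCat.of k)))
    [CompactSpace X.left] [QuasiSeparatedSpace X.left]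
    (hX : Function.Bijective ((Scheme.ΓSpecIso (CommRingCat.of k)).inv ≫ X.hom.appTop).hom)
    [IsLocallyNoetherian Y.left] [PreconnectedSpace Y.left] [IsSeparated Z.hom]
    (x₀ : 𝟙_ (Over (Spec (CommRingCat.of k))) ⟶ X) (y₀ : 𝟙_ (Over (Spec (CommRingCat.of k))) ⟶ Y)
    (f : X ⊗ Y ⟶ Z)
    (hf : (X ◁ y₀) ≫ f = toUnit _ ≫ lift x₀ y₀ ≫ f) :
    f = snd X Y ≫ lift (toUnit Y ≫ x₀) (𝟙 Y) ≫ f := by
  have hXiso : IsIso X.hom.appTop := isIso_appTop_of_bijective k X hX
  let σ : Y.left ⟶ pullback X.hom Y.hom := (lift (toUnit Y ≫ x₀) (𝟙 Y)).left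
  have hσ : σ ≫ pullback.snd X.hom Y.hom = 𝟙 Y.left := by
    have := congrArg (fun t => t.left) (lift_snd (toUnit Y ≫ x₀) (𝟙 Y))
    exact this
  have hfw : f.left ≫ Z.hom = pullback.snd X.hom Y.hom ≫ Y.hom := by
    rw [Over.w f, Over.tensorObj_hom, pullback.condition]
  let pt : ↥(Spec (CommRingCat.of k)) := (default : PrimeSpectrum k)
  have hpt : ∀ w : ↥(Spec (CommRingCat.of k)), w = pt := fun w =>
    (Subsingleton.elim (α := PrimeSpectrum k) w pt)
  have hy₀σ : y₀.left ≫ σ = (lift x₀ y₀).left := by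
    rw [← Over.comp_left]
    congr 1
    rw [comp_lift, Category.comp_id, ← Category.assoc]
    congr 1
    rw [← Category.id_comp x₀]
    congr 1
    exact toUnit_unique _ _
  have key := rigidity X.hom Y.hom Z.hom hXiso f.left hfw σ hσ (y₀.left pt) ?_
  · ext1
    exact key
  · intro x hx
    have hxr : x ∈ Set.range (X ◁ y₀).left := by
      rw [Over.whiskerLeft_left, Scheme.Pullback.range_map]
      refine ⟨⟨pullback.fst X.hom Y.hom x, rfl⟩, ⟨pt, hx.symm⟩⟩
    obtain ⟨w, rfl⟩ := hxr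
    have h1 := congrArg (fun t => t.left) hf
    simp only [Over.comp_left] at h1
    rw [← Scheme.Hom.comp_apply, h1, Scheme.Hom.comp_apply, Scheme.Hom.comp_apply,
      ← Scheme.Hom.comp_apply y₀.left σ, hy₀σ]
    congr 2
    exact hpt _

end Groth.Agent.Lib.Helper4.AntiAffOver
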