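import Mathlib.Tactic
import Mathlib.AlgebraicGeometry.Group.Abelian
import Groth.Agent.Lib.Helper4.AntiAffGrp

open CategoryTheory AlgebraicGeometry Limits TopologicalSpace MonoidalCategory CartesianMonoidalCategory
  MonObj GrpObj

namespace Groth.Agent.Lib.Helper4.AntiAffFam

open Groth.Agent.Lib.Helper4.AntiAffOver Groth.Agent.Lib.Helper4.AntiAffOver2
  Groth.Agent.Lib.Helper4.AntiAffGrp

universe u

theorem main11421 (k : Type u) [Field k] [IsAlgClosed k]
    (G H S : Over (Spec (CommRingCat.of k))) [GrpObj G] [LocallyOfFiniteType G.hom] [QuasiCompact G.hom]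
    (hG : Function.Bijective ((Scheme.ΓSpecIso (CommRingCat.of k)).inv ≫ G.hom.appTop).hom)
    [GrpObj H] [LocallyOfFiniteType H.hom] [QuasiCompact H.hom] [ConnectedSpace ↥H.left]
    [LocallyOfFiniteType S.hom] [QuasiCompact S.hom] [ConnectedSpace ↥S.left]
    (f : G ⊗ S ⟶ H) :
    ∃ (φ : S ⟶ H) (ψ : G ⟶ H), IsMonHom ψ ∧ f = (snd G S ≫ φ) * (fst G S ≫ ψ) ∧
      ∀ (φ' : S ⟶ H) (ψ' : G ⟶ H), IsMonHom ψ' → f = (snd G S ≫ φ') * (fst G S ≫ ψ') →
        φ' = φ ∧ ψ' = ψ := by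
  haveI : CompactSpace G.left := QuasiCompact.compactSpace_of_compactSpace G.hom
  haveI : CompactSpace S.left := QuasiCompact.compactSpace_of_compactSpace S.hom
  haveI : IsLocallyNoetherian G.left := isLocallyNoetherian_of_lft k G
  haveI : IsLocallyNoetherian S.left := isLocallyNoetherian_of_lft k S
  haveI : IsSeparated H.hom := GrpFieldSep.isSeparated_of_field k H
  obtain ⟨s₀⟩ := exists_point k S
  let e : S ⟶ G ⊗ S := lift (toUnit S ≫ η[G]) (𝟙 S)
  let i : G ⟶ G ⊗ S := lift (𝟙 G) (toUnit G ≫ s₀)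
  have he_snd : e ≫ snd G S = 𝟙 S := lift_snd _ _
  have hi_fst : i ≫ fst G S = 𝟙 G := lift_fst _ _
  have hs₀e : s₀ ≫ e = lift η[G] s₀ := by
    simp only [e]
    rw [comp_lift, Category.comp_id, ← Category.assoc, toUnit_unique (s₀ ≫ toUnit S) (𝟙 _),
      Category.id_comp]
  have hηi : η[G] ≫ i = lift η[G] s₀ := by
    simp only [i]
    rw [comp_lift, Category.comp_id, ← Category.assoc, toUnit_unique (η[G] ≫ toUnit G) (𝟙 _),
      Category.id_comp]
  let φ : S ⟶ H := e ≫ f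
  let F : G ⊗ S ⟶ H := (snd G S ≫ φ)⁻¹ * f
  let ψ : G ⟶ H := i ≫ F
  let F' : G ⊗ S ⟶ H := (fst G S ≫ ψ)⁻¹ * F
  have heF : e ≫ F = 1 := by
    simp only [F]
    rw [comp_mul, GrpObj.comp_inv, ← Category.assoc, he_snd, Category.id_comp]
    exact inv_mul_cancel _
  have hηψ : η[G] ≫ ψ = 1 := by
    simp only [ψ]
    rw [← Category.assoc, hηi, ← hs₀e, Category.assoc, heF, comp_one]
  have hwi : fst G (𝟙_ (Over (Spec (CommRingCat.of k)))) ≫ i = G ◁ s₀ := by
    simp only [i]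
    ext
    · simp
    · simp only [Category.assoc, lift_snd, whiskerLeft_snd]
      rw [← Category.assoc]
      rw [toUnit_unique (fst G (𝟙_ (Over (Spec (CommRingCat.of k)))) ≫ toUnit G)
        (snd G (𝟙_ (Over (Spec (CommRingCat.of k)))))]
  have hF' : (G ◁ s₀) ≫ F' = toUnit _ ≫ lift η[G] s₀ ≫ F' := by
    have h1 : (G ◁ s₀) ≫ F' = 1 := by
      simp only [F']
      rw [comp_mul, GrpObj.comp_inv, whiskerLeft_fst_assoc]
      simp only [ψ]
      rw [← Category.assoc, hwi]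
      exact inv_mul_cancel _
    have h2 : lift η[G] s₀ ≫ F' = 1 := by
      simp only [F']
      rw [comp_mul, GrpObj.comp_inv, lift_fst_assoc, hηψ, ← hs₀e, Category.assoc, heF, comp_one]
      simp
    rw [h1, h2, comp_one]
  have key := over_rigidity k G S H hG η[G] s₀ F' hF'
  have h3 : e ≫ F' = 1 := by
    simp only [F']
    rw [comp_mul, GrpObj.comp_inv, heF]
    simp only [e]
    rw [lift_fst_assoc, Category.assoc, hηψ, comp_one]
    simp
  have h4 : F' = 1 := by
    rw [key]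
    change snd G S ≫ e ≫ F' = 1
    rw [h3, comp_one]
  have h5 : F = fst G S ≫ ψ := by
    have : (fst G S ≫ ψ)⁻¹ * F = 1 := h4
    exact (inv_mul_eq_one.mp this).symm
  have h6 : f = (snd G S ≫ φ) * (fst G S ≫ ψ) := by
    rw [← h5]
    simp only [F]
    rw [mul_inv_cancel_left]
  have hψhom : IsMonHom ψ := main14578 k G H hG ψ (by rw [hηψ, one_eq_one])
  refine ⟨φ, ψ, hψhom, h6, ?_⟩
  intro φ' ψ' hψ' hf'
  have h7 : φ' = φ := by
    have : e ≫ f = e ≫ ((snd G S ≫ φ') * (fst G S ≫ ψ')) := by rw [← hf']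
    have he_fst : e ≫ fst G S ≫ ψ' = 1 := by
      simp only [e]
      rw [lift_fst_assoc, Category.assoc, IsMonHom.one_hom ψ', Hom.one_def]
    rw [comp_mul, ← Category.assoc, he_snd, Category.id_comp, he_fst, _root_.mul_one] at this
    exact this.symm
  refine ⟨h7, ?_⟩
  have h8 : fst G S ≫ ψ' = fst G S ≫ ψ := by
    have h9 : (snd G S ≫ φ) * (fst G S ≫ ψ') = (snd G S ≫ φ) * (fst G S ≫ ψ) := by
      rw [← h6, hf', h7]
    exact mul_left_cancel h9
  have := congrArg (fun t => i ≫ t) h8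
  rw [← Category.assoc, ← Category.assoc, hi_fst, Category.id_comp, Category.id_comp] at this
  exact this

end Groth.Agent.Lib.Helper4.AntiAffFam
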