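import Mathlib.Tactic
import Mathlib.AlgebraicGeometry.Morphisms.Proper
import Mathlib.FieldTheory.IsAlgClosed.Basic
import Mathlib.Algebra.Polynomial.Splits
import Mathlib.AlgebraicGeometry.Properties

open CategoryTheory AlgebraicGeometry Limits TopologicalSpace

namespace Groth.Agent.Lib.Helper4.ProperAntiAff

universe u

/-- A proper, reduced, connected scheme over an algebraically closed field has only constant
global functions. -/
theorem bijective_of_universallyClosed (k : Type u) [Field k] [IsAlgClosed k]
    (X : Over (Spec (CommRingCat.of k))) [UniversallyClosed X.hom] [IsReduced X.left]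
    [ConnectedSpace X.left] :
    Function.Bijective ((Scheme.ΓSpecIso (CommRingCat.of k)).inv ≫ X.hom.appTop).hom := by
  classical
  let F : k →+* Γ(X.left, ⊤) := ((Scheme.ΓSpecIso (CommRingCat.of k)).inv ≫ X.hom.appTop).hom
  have hFint : F.IsIntegral := by
    apply RingHom.isIntegral_respectsIso.2
      (e := (Scheme.ΓSpecIso (CommRingCat.of k)).symm.commRingCatIsoToRingEquiv)
    exact isIntegral_appTop_of_universallyClosed X.hom
  obtain ⟨x₀⟩ : Nonempty X.left := inferInstance
  haveI : Nontrivial Γ(X.left, ⊤) := by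
    have : Nonempty (⊤ : X.left.Opens) := ⟨⟨x₀, trivial⟩⟩
    infer_instance
  refine ⟨F.injective, ?_⟩
  intro r
  obtain ⟨p, hpm, hpr⟩ := hFint r
  have hsplit : p.Splits := IsAlgClosed.splits p
  let s : Multiset k := p.roots
  have hprod : (s.map (fun c => r - F c)).prod = 0 := by
    rw [← hpr, Polynomial.eval₂_eq_eval_map]
    conv_rhs => rw [hsplit.eq_prod_roots_of_monic hpm]
    rw [Polynomial.map_multiset_prod, Polynomial.eval_multiset_prod, Multiset.map_map,
      Multiset.map_map]
    congr 1
    apply Multiset.map_congr rfl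
    intro c _
    simp
  -- for every point some factor vanishes there
  have hvan : ∀ x : X.left, ∃ c ∈ s, x ∉ X.left.basicOpen (r - F c) := by
    intro x
    by_contra hcon
    push Not at hcon
    let g := X.left.presheaf.germ ⊤ x trivial
    have h1 : ∀ c ∈ s, IsUnit (g.hom (r - F c)) := fun c hc =>
      (X.left.mem_basicOpen_top _ x).mp (hcon c hc)
    have h2 : IsUnit ((s.map (fun c => g.hom (r - F c))).prod) := by
      apply Multiset.prod_induction (p := IsUnit)
      · intro a b ha hb; exact ha.mul hb
      · exact isUnit_one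
      · intro a ha
        obtain ⟨c, hc, rfl⟩ := Multiset.mem_map.mp ha
        exact h1 c hc
    have h3 : (s.map (fun c => g.hom (r - F c))).prod = g.hom ((s.map (fun c => r - F c)).prod) := by
      rw [map_multiset_prod, Multiset.map_map]
      rfl
    rw [h3, hprod, map_zero] at h2
    exact not_isUnit_zero h2
  obtain ⟨c₀, hc₀s, hc₀⟩ := hvan x₀
  refine ⟨c₀, ?_⟩
  -- the vanishing locus of `r - F c₀` is clopen
  let Z : k → Set X.left := fun c => ((X.left.basicOpen (r - F c) : X.left.Opens) : Set X.left)ᶜ
  have hZcl : ∀ c, IsClosed (Z c) := fun c => (X.left.basicOpen (r - F c)).2.isClosed_compl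
  have hdisj : ∀ c, c ≠ c₀ → Disjoint (Z c) (Z c₀) := by
    intro c hc
    rw [Set.disjoint_left]
    intro x hx hx₀
    let g := X.left.presheaf.germ ⊤ x trivial
    have h1 : ¬ IsUnit (g.hom (r - F c)) := fun h => hx ((X.left.mem_basicOpen_top _ x).mpr h)
    have h2 : ¬ IsUnit (g.hom (r - F c₀)) := fun h => hx₀ ((X.left.mem_basicOpen_top _ x).mpr h)
    have h3 : g.hom (r - F c₀) - g.hom (r - F c) ∈ nonunits (X.left.presheaf.stalk x) := by
      have := IsLocalRing.nonunits_add (a := g.hom (r - F c₀)) (b := - g.hom (r - F c)) h2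
        (by rwa [mem_nonunits_iff, IsUnit.neg_iff])
      rwa [← sub_eq_add_neg] at this
    apply h3
    have h4 : g.hom (r - F c₀) - g.hom (r - F c) = g.hom (F (c - c₀)) := by
      rw [← map_sub]
      congr 1
      rw [map_sub]
      ring
    rw [h4]
    have h5 : IsUnit (c - c₀) := (sub_ne_zero.mpr hc).isUnit
    exact (h5.map F).map g.hom
  have hcompl : ((X.left.basicOpen (r - F c₀) : X.left.Opens) : Set X.left) =
      ⋃ c ∈ (s.toFinset.erase c₀ : Finset k), Z c := by
    ext x
    simp only [Set.mem_iUnion, Finset.mem_erase, Multiset.mem_toFinset, exists_prop]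
    constructor
    · intro hx
      obtain ⟨c, hcs, hc⟩ := hvan x
      refine ⟨c, ⟨?_, hcs⟩, hc⟩
      rintro rfl
      exact hc hx
    · rintro ⟨c, ⟨hcne, hcs⟩, hc⟩
      by_contra hx
      exact Set.disjoint_left.mp (hdisj c hcne) hc hx
  have hopen : IsOpen (Z c₀) := by
    have hcl : IsClosed ((X.left.basicOpen (r - F c₀) : X.left.Opens) : Set X.left) := by
      rw [hcompl]
      exact Set.Finite.isClosed_biUnion (Finset.finite_toSet _) (fun c _ => hZcl c)
    exact hcl.isOpen_compl
  have huniv : Z c₀ = Set.univ := IsClopen.eq_univ ⟨hZcl c₀, hopen⟩ ⟨x₀, hc₀⟩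
  have hbot : X.left.basicOpen (r - F c₀) = ⊥ := by
    ext x
    simp only [Opens.coe_bot, Set.mem_empty_iff_false, iff_false]
    intro hx
    have : x ∈ Z c₀ := by rw [huniv]; trivial
    exact this hx
  have := (basicOpen_eq_bot_iff (r - F c₀)).mp hbot
  exact (sub_eq_zero.mp this).symm

end Groth.Agent.Lib.Helper4.ProperAntiAff
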