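import Mathlib.Tactic
import Groth.Agent.Lib.Helper4.AntiAffFam
import Groth.Agent.Lib.Helper4.ProperAntiAff
import Groth.Agent.Lib.Helper4.SmoothRed

open CategoryTheory AlgebraicGeometry Limits TopologicalSpace MonoidalCategory CartesianMonoidalCategory
  MonObj GrpObj

namespace Groth.Agent.Lib.Helper4.AbVarAut

open Groth.Agent.Lib.Helper4.AntiAffOver Groth.Agent.Lib.Helper4.AntiAffOver2
  Groth.Agent.Lib.Helper4.AntiAffGrp Groth.Agent.Lib.Helper4.AntiAffFam
  Groth.Agent.Lib.Helper4.ProperAntiAff Groth.Agent.Lib.Helper4.SmoothRed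

universe u

/-- abelian varieties over an algebraically closed field are anti-affine -/
theorem bijective_of_abelianVariety (k : Type u) [Field k] [IsAlgClosed k]
    (A : Over (Spec (CommRingCat.of k))) [IsProper A.hom] [Smooth A.hom] [ConnectedSpace ↥A.left] :
    Function.Bijective ((Scheme.ΓSpecIso (CommRingCat.of k)).inv ≫ A.hom.appTop).hom := by
  haveI : IsReduced A.left := isReduced_of_smooth_to_field A.hom
  exact bijective_of_universallyClosed k A

theorem main11404 (k : Type u) [Field k] [IsAlgClosed k]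
    (A S : Over (Spec (CommRingCat.of k))) [GrpObj A] [IsProper A.hom] [Smooth A.hom] [ConnectedSpace ↥A.left]
    [LocallyOfFiniteType S.hom] [QuasiCompact S.hom] [ConnectedSpace ↥S.left]
    (f : A ⊗ S ≅ A ⊗ S) (hf : f.hom ≫ snd A S = snd A S) :
    ∃ (g : S ⟶ A) (h : A ⟶ A), IsMonHom h ∧ IsIso h ∧
      f.hom ≫ fst A S = (snd A S ≫ g) * (fst A S ≫ h) ∧
      ∀ (g' : S ⟶ A) (h' : A ⟶ A), IsMonHom h' →
        f.hom ≫ fst A S = (snd A S ≫ g') * (fst A S ≫ h') → g' = g ∧ h' = h := by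
  have hA := bijective_of_abelianVariety k A
  obtain ⟨φ, ψ, hψ, hfeq, huniq⟩ := main11421 k A A S hA (f.hom ≫ fst A S)
  refine ⟨φ, ψ, hψ, ?_, hfeq, huniq⟩
  haveI : CompactSpace S.left := QuasiCompact.compactSpace_of_compactSpace S.hom
  obtain ⟨s₀⟩ := exists_point k S
  let i : A ⟶ A ⊗ S := lift (𝟙 A) (toUnit A ≫ s₀)
  have hi_fst : i ≫ fst A S = 𝟙 A := lift_fst _ _
  have hi_snd : i ≫ snd A S = toUnit A ≫ s₀ := lift_snd _ _
  have hf' : f.inv ≫ snd A S = snd A S := by
    rw [Iso.inv_comp_eq, hf]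
  let u : A ⟶ A := i ≫ f.hom ≫ fst A S
  let v : A ⟶ A := i ≫ f.inv ≫ fst A S
  have htu : ∀ w : A ⟶ A, w ≫ toUnit A = toUnit A := fun w => toUnit_unique _ _
  have hiu : i ≫ f.hom = u ≫ i := by
    apply CartesianMonoidalCategory.hom_ext
    · rw [Category.assoc, Category.assoc, hi_fst, Category.comp_id]
    · rw [Category.assoc, Category.assoc, hf, hi_snd, ← Category.assoc, htu]
  have hiv : i ≫ f.inv = v ≫ i := by
    apply CartesianMonoidalCategory.hom_ext
    · rw [Category.assoc, Category.assoc, hi_fst, Category.comp_id]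
    · rw [Category.assoc, Category.assoc, hf', hi_snd, ← Category.assoc, htu]
  have huv : u ≫ v = 𝟙 A := by
    change u ≫ i ≫ f.inv ≫ fst A S = 𝟙 A
    rw [← Category.assoc, ← hiu, Category.assoc, Iso.hom_inv_id_assoc, hi_fst]
  have hvu : v ≫ u = 𝟙 A := by
    change v ≫ i ≫ f.hom ≫ fst A S = 𝟙 A
    rw [← Category.assoc, ← hiv, Category.assoc, Iso.inv_hom_id_assoc, hi_fst]
  let c : A ⟶ A := toUnit A ≫ s₀ ≫ φ
  have hcw : ∀ w : A ⟶ A, w ≫ c = c := by
    intro w
    simp only [c]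
    rw [← Category.assoc, htu]
  have hu : u = c * ψ := by
    change i ≫ f.hom ≫ fst A S = c * ψ
    rw [hfeq, comp_mul, ← Category.assoc, hi_snd, ← Category.assoc i, hi_fst, Category.id_comp,
      Category.assoc]
  let Lc : A ⟶ A := c * 𝟙 A
  let Lc' : A ⟶ A := c⁻¹ * 𝟙 A
  have hL1 : Lc ≫ Lc' = 𝟙 A := by
    simp only [Lc']
    rw [comp_mul, GrpObj.comp_inv, hcw, Category.comp_id]
    simp only [Lc]
    rw [inv_mul_cancel_left]
  have hL2 : Lc' ≫ Lc = 𝟙 A := by
    simp only [Lc]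
    rw [comp_mul, hcw, Category.comp_id]
    simp only [Lc']
    rw [mul_inv_cancel_left]
  have hψu : ψ = u ≫ Lc' := by
    simp only [Lc']
    rw [comp_mul, GrpObj.comp_inv, hcw, Category.comp_id, hu, inv_mul_cancel_left]
  refine ⟨Lc ≫ v, ?_, ?_⟩
  · rw [hψu, Category.assoc, ← Category.assoc Lc', hL2, Category.id_comp, huv]
  · rw [hψu, Category.assoc, ← Category.assoc v, hvu, Category.id_comp, hL1]

end Groth.Agent.Lib.Helper4.AbVarAut
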