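import Mathlib.AlgebraicGeometry.Morphisms.UniversallyOpen
import Mathlib.AlgebraicGeometry.PullbackCarrier
import Mathlib.Tactic
import Groth.Agent.Lib.Helper4.ActShear

set_option autoImplicit false
universe u
open CategoryTheory MonoidalCategory CartesianMonoidalCategory MonObj GrpObj AlgebraicGeometry Limits

namespace Groth.Agent.Lib.Helper4.ActOrbit

open ActShear

variable {S : Scheme.{u}} {G X : Over S} [GrpObj G] (a : AlgGrp.Action G X)

/-- the saturation `G · U` -/
def sat (U : Set X.left) : Set X.left := a.act.left.base '' ((snd G X).left.base ⁻¹' U)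

theorem subset_sat (U : Set X.left) : U ⊆ sat a U := by
  intro x hx
  refine ⟨(lift (toUnit X ≫ η[G]) (𝟙 X)).left x, ?_, ?_⟩
  · show (snd G X).left ((lift (toUnit X ≫ η[G]) (𝟙 X)).left x) ∈ U
    rw [← Scheme.Hom.comp_apply, ← Over.comp_left, lift_snd]
    exact hx
  · show a.act.left ((lift (toUnit X ≫ η[G]) (𝟙 X)).left x) = x
    rw [← Scheme.Hom.comp_apply, ← Over.comp_left]
    have := one_smul' a (𝟙 X)
    unfold smul at this
    rw [this]
    rfl

theorem sat_mono {U W : Set X.left} (h : U ⊆ W) : sat a U ⊆ sat a W :=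
  Set.image_mono (Set.preimage_mono h)

theorem sat_sat (U : Set X.left) : sat a (sat a U) ⊆ sat a U := by
  rintro _ ⟨z, ⟨w, hw, hwz⟩, rfl⟩
  -- a point of the fibre product over z and w
  obtain ⟨p, hp1, hp2⟩ := Scheme.Pullback.exists_preimage_pullback
    (f := (snd G X).left) (g := a.act.left) z w hwz.symm
  let P : Over S := Over.mk (pullback.fst (snd G X).left a.act.left ≫ (G ⊗ X).hom)
  let f₁ : P ⟶ G ⊗ X := Over.homMk (pullback.fst (snd G X).left a.act.left) rfl
  have hw₂ : pullback.snd (snd G X).left a.act.left ≫ (G ⊗ X).hom =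
      pullback.fst (snd G X).left a.act.left ≫ (G ⊗ X).hom := by
    have h1 : (G ⊗ X).hom = a.act.left ≫ X.hom := (Over.w a.act).symm
    have h2 : (G ⊗ X).hom = (snd G X).left ≫ X.hom := (Over.w (snd G X)).symm
    calc pullback.snd (snd G X).left a.act.left ≫ (G ⊗ X).hom
        = pullback.snd (snd G X).left a.act.left ≫ a.act.left ≫ X.hom := by rw [← h1]
      _ = pullback.fst (snd G X).left a.act.left ≫ (snd G X).left ≫ X.hom := by
          rw [← Category.assoc, ← pullback.condition, Category.assoc]
      _ = _ := by rw [← h2]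
  let f₂ : P ⟶ G ⊗ X := Over.homMk (pullback.snd (snd G X).left a.act.left) hw₂
  have hcond : f₁ ≫ snd G X = f₂ ≫ a.act := by
    ext1
    exact pullback.condition
  let g := f₁ ≫ fst G X
  let h := f₂ ≫ fst G X
  let x := f₂ ≫ snd G X
  have e1 : f₁ ≫ a.act = lift (lift g h ≫ μ[G]) x ≫ a.act := by
    have h3 : f₁ = lift g (f₁ ≫ snd G X) := by
      apply CartesianMonoidalCategory.hom_ext <;> simp [g]
    have h4 : f₂ = lift h x := by
      apply CartesianMonoidalCategory.hom_ext <;> simp [h, x]
    have := mul_smul' a g h x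
    unfold smul at this
    rw [this, ← h4, ← hcond, ← h3]
  refine ⟨(lift (lift g h ≫ μ[G]) x).left p, ?_, ?_⟩
  · show (snd G X).left ((lift (lift g h ≫ μ[G]) x).left p) ∈ U
    rw [← Scheme.Hom.comp_apply, ← Over.comp_left, lift_snd]
    show (f₂ ≫ snd G X).left p ∈ U
    rw [Over.comp_left, Scheme.Hom.comp_apply]
    show (snd G X).left (pullback.snd (snd G X).left a.act.left p) ∈ U
    rw [hp2]
    exact hw
  · show a.act.left ((lift (lift g h ≫ μ[G]) x).left p) = a.act.left z
    rw [← Scheme.Hom.comp_apply, ← Over.comp_left, ← e1, Over.comp_left, Scheme.Hom.comp_apply]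
    show a.act.left (pullback.fst (snd G X).left a.act.left p) = _
    rw [hp1]

theorem main (k : Type u) [Field k]
    (G X : Over (Spec (CommRingCat.of k))) [GrpObj G] (a : AlgGrp.Action G X)
    (U : Set ↥X.left) (hU : IsOpen U) :
    IsOpen (a.act.left.base '' ((CartesianMonoidalCategory.snd G X).left.base ⁻¹' U)) ∧
      U ⊆ a.act.left.base '' ((CartesianMonoidalCategory.snd G X).left.base ⁻¹' U) ∧
      a.act.left.base '' ((CartesianMonoidalCategory.snd G X).left.base ⁻¹'
          (a.act.left.base '' ((CartesianMonoidalCategory.snd G X).left.base ⁻¹' U))) ⊆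
        a.act.left.base '' ((CartesianMonoidalCategory.snd G X).left.base ⁻¹' U) ∧
      ∀ W : Set ↥X.left, IsOpen W → U ⊆ W →
        a.act.left.base '' ((CartesianMonoidalCategory.snd G X).left.base ⁻¹' W) ⊆ W →
          a.act.left.base '' ((CartesianMonoidalCategory.snd G X).left.base ⁻¹' U) ⊆ W := by
  refine ⟨?_, subset_sat a U, sat_sat a U, fun W _ hUW hW => (sat_mono a hUW).trans hW⟩
  have : Subsingleton (Spec (CommRingCat.of k)) :=
    inferInstanceAs (Subsingleton (PrimeSpectrum k))
  have h1 : UniversallyOpen G.hom := inferInstance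
  have h2 : UniversallyOpen a.act.left := of_base_change a @UniversallyOpen h1
  exact a.act.left.isOpenMap _ (hU.preimage (snd G X).left.continuous)

end Groth.Agent.Lib.Helper4.ActOrbit
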