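import Mathlib.Tactic
import Mathlib.Algebra.Homology.ShortComplex.Ab
import Mathlib.Algebra.Homology.ShortComplex.HomologicalComplex
import Mathlib.Algebra.Category.Grp.Abelian

namespace Groth.Agent.Lib.Helper4.AcycChase

open CategoryTheory CategoryTheory.Limits Opposite

universe u

/-- elementwise exactness in degree `p+1` -/
def ExactSucc (L : CochainComplex AddCommGrpCat.{u} ℕ) (p : ℕ) : Prop :=
  ∀ c : L.X (p + 1), L.d (p + 1) (p + 2) c = 0 → ∃ b : L.X p, L.d p (p + 1) b = c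

lemma isZero_homology_succ_iff (L : CochainComplex AddCommGrpCat.{u} ℕ) (p : ℕ) :
    IsZero (L.homology (p + 1)) ↔ ExactSucc L p := by
  rw [← HomologicalComplex.exactAt_iff_isZero_homology,
    HomologicalComplex.exactAt_iff' _ p (p + 1) (p + 2) (by simp) (by simp),
    ShortComplex.ab_exact_iff]
  rfl

variable {L' L L'' : CochainComplex AddCommGrpCat.{u} ℕ} (f : L' ⟶ L) (g : L ⟶ L'')

lemma comm_apply {A B : CochainComplex AddCommGrpCat.{u} ℕ} (h : A ⟶ B) (i j : ℕ) (x : A.X i) :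
    B.d i j (h.f i x) = h.f j (A.d i j x) := by
  have := ConcreteCategory.congr_hom (h.comm i j) x
  rw [ConcreteCategory.comp_apply, ConcreteCategory.comp_apply] at this
  exact this

lemma d_d_apply (A : CochainComplex AddCommGrpCat.{u} ℕ) (i j k : ℕ) (x : A.X i) :
    A.d j k (A.d i j x) = 0 := by
  have := ConcreteCategory.congr_hom (A.d_comp_d i j k) x
  rw [ConcreteCategory.comp_apply] at this
  exact this

lemma chase (p : ℕ) (hinj : Function.Injective (f.f (p + 1)))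
    (hex : ∀ x : L.X p, g.f p x = 0 → ∃ w, f.f p w = x)
    (hfg : ∀ w : L'.X (p + 1), g.f (p + 1) (f.f (p + 1) w) = 0)
    (hL : ExactSucc L p)
    (hlift : ∀ y'' : L''.X p, L''.d p (p + 1) y'' = 0 →
      ∃ y : L.X p, L.d p (p + 1) y = 0 ∧ g.f p y = y'') :
    ExactSucc L' p := by
  intro c hc
  have h1 : L.d (p + 1) (p + 2) (f.f (p + 1) c) = 0 := by
    rw [comm_apply, hc, map_zero]
  obtain ⟨b, hb⟩ := hL _ h1
  have h2 : L''.d p (p + 1) (g.f p b) = 0 := by
    rw [comm_apply, hb, hfg]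
  obtain ⟨y, hy0, hy⟩ := hlift _ h2
  obtain ⟨a, ha⟩ := hex (b - y) (by rw [map_sub, hy, sub_self])
  refine ⟨a, hinj ?_⟩
  rw [← comm_apply, ha, map_sub, hy0, sub_zero, hb]

lemma lift_of_exact (p : ℕ) (hsurj : Function.Surjective (g.f p)) (hL'' : ExactSucc L'' p)
    (y'' : L''.X (p + 1)) (hy'' : L''.d (p + 1) (p + 2) y'' = 0) :
    ∃ y : L.X (p + 1), L.d (p + 1) (p + 2) y = 0 ∧ g.f (p + 1) y = y'' := by
  obtain ⟨e'', he''⟩ := hL'' y'' hy''
  obtain ⟨e, he⟩ := hsurj e''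
  refine ⟨L.d p (p + 1) e, d_d_apply L _ _ _ e, ?_⟩
  rw [← comm_apply, he, he'']

end Groth.Agent.Lib.Helper4.AcycChase
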