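import Mathlib.Tactic
import Groth.Agent.Lib.Helper6.SheafCoh
import Groth.Prelude.Def_CohSite

namespace Groth.Agent.Lib.Helper4.AcycShift

open CategoryTheory CategoryTheory.Limits Opposite Abelian
open Groth.Agent.Lib.Helper6.SheafCoh

universe u

variable {C : Type u} [SmallCategory C] (J : GrothendieckTopology C)

/-- acyclic sheaves -/
def Acyc (F : Sheaf J AddCommGrpCat.{u}) : Prop :=
  ∀ (U : C) (q : ℕ), Subsingleton (CohSite.HU F (q + 1) U)

lemma acyc_iff (F : Sheaf J AddCommGrpCat.{u}) :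
    Acyc J F ↔ ∀ (U : C) (q : ℕ) (x : Ext.{u} (Zfree J U) F (q + 1)), x = 0 := by
  constructor
  · intro h U q x
    have := h U q
    exact Subsingleton.elim (α := CohSite.HU F (q + 1) U) x 0
  · intro h U q
    refine ⟨fun a b => ?_⟩
    exact (h U q a).trans (h U q b).symm

variable (S : ShortComplex (Sheaf J AddCommGrpCat.{u})) (hS : S.ShortExact)

include hS in
lemma sections_surjective (hF : Acyc J S.X₁) (U : C) :
    Function.Surjective (S.g.hom.app (op U)) := by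
  intro s
  rw [acyc_iff] at hF
  let ψ : Zfree J U ⟶ S.X₃ := (homEquiv J U S.X₃).symm s
  have h0 : (Ext.mk₀ ψ).comp hS.extClass (zero_add 1) = 0 := hF U 0 _
  obtain ⟨y, hy⟩ := Ext.covariant_sequence_exact₃ (Zfree J U) hS (Ext.mk₀ ψ) (zero_add 1) h0
  obtain ⟨h, rfl⟩ := (Ext.mk₀_bijective _ _).2 y
  rw [Ext.mk₀_comp_mk₀] at hy
  have hy' : h ≫ S.g = ψ := (Ext.mk₀_bijective _ _).1 hy
  refine ⟨homEquiv J U S.X₂ h, ?_⟩
  rw [← homEquiv_naturality_right, hy', Equiv.apply_symm_apply]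

include hS in
lemma acyc_X₃ [Injective S.X₂] (hF : Acyc J S.X₁) : Acyc J S.X₃ := by
  rw [acyc_iff] at hF ⊢
  intro U q x
  have h0 : x.comp hS.extClass (rfl : q + 1 + 1 = q + 2) = 0 := hF U (q + 1) _
  obtain ⟨y, hy⟩ := Ext.covariant_sequence_exact₃ (Zfree J U) hS x rfl h0
  rw [← hy, Ext.eq_zero_of_injective y, Ext.zero_comp]

end Groth.Agent.Lib.Helper4.AcycShift
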