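import Mathlib.Tactic
import Mathlib.AlgebraicTopology.SimplicialObject.Coskeletal
import Groth.Agent.S6800
import Groth.Agent.S6811

namespace Groth.Agent.Lib.Helper4.CoskTower

open CategoryTheory CategoryTheory.Limits Opposite Simplicial

universe v' u'

variable {E : Type u'} [Category.{v'} E] [HasFiniteLimits E]
  [∀ (n : ℕ) (F : (SimplexCategory.Truncated n)ᵒᵖ ⥤ E),
    (SimplexCategory.Truncated.inclusion n).op.HasRightKanExtension F]
  (K : SimplicialObject E)

/-- the unit -/
noncomputable abbrev η (n : ℕ) : K ⟶ (SimplicialObject.cosk n).obj K :=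
  (SimplicialObject.coskAdj n).unit.app K

lemma isIso_counit_app (n : ℕ) (Y : SimplicialObject.Truncated E n) :
    IsIso ((SimplicialObject.coskAdj n).counit.app Y) := by
  haveI : ∀ (F : (SimplexCategory.Truncated n)ᵒᵖ ⥤ E),
      (SimplexCategory.Truncated.inclusion n).op.HasPointwiseRightKanExtension F :=
    fun F => Groth.Agent.S6800.result n F
  haveI : IsIso (SimplicialObject.coskAdj (C := E) n).counit :=
    SimplicialObject.Truncated.cosk_reflective n
  infer_instance

instance isIso_truncation_unit (n : ℕ) : IsIso ((SimplicialObject.truncation n).map (η K n)) := by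
  have h := (SimplicialObject.coskAdj n).left_triangle_components K
  have : IsIso ((SimplicialObject.coskAdj n).counit.app ((SimplicialObject.truncation n).obj K)) :=
    isIso_counit_app n _
  exact IsIso.of_isIso_fac_right h

lemma isIso_unit_app (n : ℕ) (d : SimplexCategory) (hd : d.len ≤ n) :
    IsIso ((η K n).app (op d)) := by
  have : IsIso (((SimplicialObject.truncation n).map (η K n)).app (op ⟨d, hd⟩)) := inferInstance
  exact this

instance isIso_unit_cosk (n : ℕ) :
    IsIso ((SimplicialObject.coskAdj n).unit.app ((SimplicialObject.cosk n).obj K)) := by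
  have h := (SimplicialObject.coskAdj n).right_triangle_components
    ((SimplicialObject.truncation n).obj K)
  haveI := isIso_counit_app n ((SimplicialObject.truncation n).obj K)
  show IsIso ((SimplicialObject.coskAdj n).unit.app
    ((SimplicialObject.Truncated.cosk n).obj ((SimplicialObject.truncation n).obj K)))
  have hη : (SimplicialObject.coskAdj n).unit.app
      ((SimplicialObject.Truncated.cosk n).obj ((SimplicialObject.truncation n).obj K)) =
      inv ((SimplicialObject.Truncated.cosk n).map
        ((SimplicialObject.coskAdj n).counit.app ((SimplicialObject.truncation n).obj K))) := by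
    have := congrArg (· ≫ inv ((SimplicialObject.Truncated.cosk n).map
        ((SimplicialObject.coskAdj n).counit.app ((SimplicialObject.truncation n).obj K)))) h
    simp
  rw [hη]
  infer_instance

instance isIso_truncation_unit_succ (n : ℕ) :
    IsIso ((SimplicialObject.truncation n).map (η K (n + 1))) := by
  rw [NatTrans.isIso_iff_isIso_app]
  intro k
  exact isIso_unit_app K (n + 1) k.unop.obj (k.unop.property.trans (Nat.le_succ n))

/-- the transition map -/
noncomputable def t (n : ℕ) : (SimplicialObject.cosk (n + 1)).obj K ⟶ (SimplicialObject.cosk n).obj K :=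
  (SimplicialObject.coskAdj n).homEquiv _ _ (inv ((SimplicialObject.truncation n).map (η K (n + 1))))

lemma η_t (n : ℕ) : η K (n + 1) ≫ t K n = η K n := by
  unfold t
  rw [← Adjunction.homEquiv_naturality_left, IsIso.hom_inv_id, Adjunction.homEquiv_id]

lemma isIso_t_app (n : ℕ) (d : SimplexCategory) (hd : d.len ≤ n) : IsIso ((t K n).app (op d)) := by
  have h := NatTrans.congr_app (η_t K n) (op d)
  rw [NatTrans.comp_app] at h
  haveI := isIso_unit_app K (n + 1) d (hd.trans (Nat.le_succ n))
  haveI := isIso_unit_app K n d hd
  exact IsIso.of_isIso_fac_left h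

lemma t_app_succ (n : ℕ) :
    haveI := isIso_unit_app K (n + 1) ⦋n + 1⦌ le_rfl
    (t K n).app (op ⦋n + 1⦌) = inv ((η K (n + 1)).app (op ⦋n + 1⦌)) ≫ (η K n).app (op ⦋n + 1⦌) := by
  haveI := isIso_unit_app K (n + 1) ⦋n + 1⦌ le_rfl
  rw [IsIso.eq_inv_comp, ← NatTrans.comp_app, η_t]

instance isCoskeletal_cosk (n : ℕ) :
    SimplicialObject.IsCoskeletal ((SimplicialObject.cosk n).obj K) n :=
  (SimplicialObject.isCoskeletal_iff_isIso _ n).2 (isIso_unit_cosk K n)

lemma isCoskeletal_cosk_succ (n : ℕ) :
    SimplicialObject.IsCoskeletal ((SimplicialObject.cosk n).obj K) (n + 1) :=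
  Groth.Agent.S6811.result _ (Nat.le_succ n)

end Groth.Agent.Lib.Helper4.CoskTower
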