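import Mathlib.Tactic
import Mathlib.AlgebraicTopology.ExtraDegeneracy
import Mathlib.Algebra.Homology.SingleHomology
import Mathlib.Algebra.Homology.QuasiIso

namespace Groth.Agent.Lib.Helper4.HomRange

open CategoryTheory CategoryTheory.Limits Opposite

universe v u

variable {E : Type u} [Category.{v} E] [Abelian E]

theorem isIso_homologyMap_of_isIso_le {X Y : ChainComplex E ℕ} (φ : X ⟶ Y) (i : ℕ)
    (h : ∀ j, j ≤ i + 1 → IsIso (φ.f j)) : IsIso (HomologicalComplex.homologyMap φ i) := by
  rw [← quasiIsoAt_iff_isIso_homologyMap, quasiIsoAt_iff]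
  have h1 : (ComplexShape.down ℕ).prev i ≤ i + 1 := by
    rw [ChainComplex.prev]
  have h3 : (ComplexShape.down ℕ).next i ≤ i + 1 := by
    cases i with
    | zero => rw [ChainComplex.next_nat_zero]; omega
    | succ k => rw [ChainComplex.next_nat_succ]; omega
  haveI : IsIso ((HomologicalComplex.shortComplexFunctor E (ComplexShape.down ℕ) i).map φ).τ₁ :=
    h _ h1
  haveI : IsIso ((HomologicalComplex.shortComplexFunctor E (ComplexShape.down ℕ) i).map φ).τ₂ :=
    h _ (Nat.le_succ i)
  haveI : IsIso ((HomologicalComplex.shortComplexFunctor E (ComplexShape.down ℕ) i).map φ).τ₃ :=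
    h _ h3
  haveI := ShortComplex.isIso_of_isIso
    ((HomologicalComplex.shortComplexFunctor E (ComplexShape.down ℕ) i).map φ)
  infer_instance

end Groth.Agent.Lib.Helper4.HomRange

namespace Groth.Agent.Lib.Helper4.HomRange

open CategoryTheory CategoryTheory.Limits Opposite

universe v u

variable {E : Type u} [Category.{v} E] [Abelian E]

/-- homology of the constant simplicial object -/
noncomputable def constHomotopyEquiv (B : E) :
    HomotopyEquiv ((AlgebraicTopology.alternatingFaceMapComplex E).obj
      ((SimplicialObject.const E).obj B)) ((ChainComplex.single₀ E).obj B) :=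
  (SimplicialObject.Augmented.ExtraDegeneracy.const B).homotopyEquiv

lemma isZero_const_homology_succ (B : E) (i : ℕ) :
    IsZero (((AlgebraicTopology.alternatingFaceMapComplex E).obj
      ((SimplicialObject.const E).obj B)).homology (i + 1)) :=
  IsZero.of_iso (HomologicalComplex.isZero_single_obj_homology (ComplexShape.down ℕ) 0 B (i + 1)
    (Nat.succ_ne_zero i)) ((constHomotopyEquiv B).toHomologyIso (i + 1))

/-- the degree zero homology -/
noncomputable def constHomologyZeroIso (B : E) :
    ((AlgebraicTopology.alternatingFaceMapComplex E).obj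
      ((SimplicialObject.const E).obj B)).homology 0 ≅ B :=
  (constHomotopyEquiv B).toHomologyIso 0 ≪≫
    HomologicalComplex.singleObjHomologySelfIso (ComplexShape.down ℕ) 0 B

end Groth.Agent.Lib.Helper4.HomRange
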