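import Mathlib.Tactic
import Mathlib.CategoryTheory.Limits.Preserves.Finite
import Mathlib.AlgebraicTopology.SimplicialObject.Coskeletal
import Mathlib.CategoryTheory.Functor.KanExtension.Preserves
import Groth.Agent.S6800

namespace Groth.Agent.Lib.Helper4.CoskComp

open CategoryTheory CategoryTheory.Limits Opposite Simplicial

universe v u v' u'

theorem isCoskeletal_comp {E : Type u} [Category.{v} E] [HasFiniteLimits E]
    {E' : Type u'} [Category.{v'} E'] (G : E ⥤ E') [PreservesFiniteLimits G]
    (V : SimplicialObject E) (n : ℕ) [V.IsCoskeletal n] :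
    SimplicialObject.IsCoskeletal (V ⋙ G) n := by
  have hpw : (SimplexCategory.Truncated.inclusion n).op.HasPointwiseRightKanExtension
      ((SimplexCategory.Truncated.inclusion n).op ⋙ V) := Groth.Agent.S6800.result n _
  have hpres : ∀ m : SimplexCategoryᵒᵖ, PreservesLimitsOfShape
      (StructuredArrow m (SimplexCategory.Truncated.inclusion n).op) G := fun m => by
    have := Groth.Agent.S6800.finite_structuredArrow n m
    have : Fintype (StructuredArrow m (SimplexCategory.Truncated.inclusion n).op) :=
      Fintype.ofFinite _
    have : FinCategory (StructuredArrow m (SimplexCategory.Truncated.inclusion n).op) :=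
      { fintypeHom := fun A B => by
          have := Groth.Agent.S6800.finite_structuredArrow_hom n m A B
          exact Fintype.ofFinite _ }
    infer_instance
  have : G.PreservesRightKanExtension
      ((SimplexCategory.Truncated.inclusion n).op ⋙ V) (SimplexCategory.Truncated.inclusion n).op :=
    inferInstance
  have h := Functor.PreservesRightKanExtension.preserves (G := G) V
    (𝟙 ((SimplexCategory.Truncated.inclusion n).op ⋙ V))
  have heq : (((SimplexCategory.Truncated.inclusion n).op.associator V G).inv ≫
      Functor.whiskerRight (𝟙 ((SimplexCategory.Truncated.inclusion n).op ⋙ V)) G) =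
      𝟙 (((SimplexCategory.Truncated.inclusion n).op ⋙ V) ⋙ G) := by
    ext x
    simp
  rw [heq] at h
  exact ⟨h⟩

/-- variant with unit isomorphisms -/
theorem isIso_unit_comp {E : Type u} [Category.{v} E] [HasFiniteLimits E]
    {E' : Type u'} [Category.{v'} E'] (G : E ⥤ E') [PreservesFiniteLimits G]
    (n : ℕ)
    [∀ (F : (SimplexCategory.Truncated n)ᵒᵖ ⥤ E),
      (SimplexCategory.Truncated.inclusion n).op.HasRightKanExtension F]
    (V : SimplicialObject E) (h : IsIso ((SimplicialObject.coskAdj n).unit.app V)) :
    SimplicialObject.IsCoskeletal (V ⋙ G) n := by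
  have : V.IsCoskeletal n := (SimplicialObject.isCoskeletal_iff_isIso V n).2 h
  exact isCoskeletal_comp G V n

end Groth.Agent.Lib.Helper4.CoskComp
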