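import Mathlib.Tactic
import Mathlib.CategoryTheory.Sites.LocallyBijective
import Mathlib.Algebra.Category.Grp.Adjunctions
import Mathlib.Algebra.Category.Grp.FilteredColimits
import Mathlib.CategoryTheory.Sites.Abelian
import Groth.Prelude.Def_Hyper

namespace Groth.Agent.Lib.Helper4.FreeLocBij

open CategoryTheory CategoryTheory.Limits Opposite

universe u

lemma freeMap_injective {α β : Type u} (f : α → β) (hf : Function.Injective f) :
    Function.Injective (FreeAbelianGroup.map f) := by
  rcases isEmpty_or_nonempty α with h | h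
  · intro x y _
    have : ∀ z : FreeAbelianGroup α, z = 0 := by
      intro z
      induction z using FreeAbelianGroup.induction_on with
      | zero => rfl
      | of x => exact (h.false x).elim
      | neg x _ => exact (h.false x).elim
      | add x y hx hy => rw [hx, hy, add_zero]
    rw [this x, this y]
  · obtain ⟨g, hg⟩ := hf.hasLeftInverse
    have : ∀ x, FreeAbelianGroup.map g (FreeAbelianGroup.map f x) = x := fun x => by
      rw [← FreeAbelianGroup.map_comp_apply, hg.comp_eq_id, FreeAbelianGroup.map_id_apply]
    exact Function.LeftInverse.injective this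

variable {C : Type u} [SmallCategory C] (J : GrothendieckTopology C)

/-- free abelian presheaf functor -/
abbrev freePsh : (Cᵒᵖ ⥤ Type u) ⥤ (Cᵒᵖ ⥤ AddCommGrpCat.{u}) :=
  (Functor.whiskeringRight Cᵒᵖ (Type u) AddCommGrpCat.{u}).obj AddCommGrpCat.free.{u}

variable {P' P : Cᵒᵖ ⥤ Type u} (φ : P' ⟶ P)

lemma freePsh_app_apply (U : Cᵒᵖ) (t : FreeAbelianGroup (P'.obj U)) :
    ((freePsh.map φ).app U) t = FreeAbelianGroup.map (φ.app U) t := rfl

lemma freePsh_res_apply {U V : Cᵒᵖ} (g : U ⟶ V) (z : FreeAbelianGroup (P.obj U)) :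
    ((freePsh.obj P).map g) z = FreeAbelianGroup.map (P.map g) z := rfl

lemma isLocallyInjective_freePsh (h : ∀ U, Function.Injective (φ.app U)) :
    Presheaf.IsLocallyInjective J (freePsh.map φ) := by
  apply Presheaf.isLocallyInjective_of_injective
  intro U
  exact freeMap_injective _ (h U)

lemma imageSieve_freePsh_mem [Presheaf.IsLocallySurjective J φ] {U : C}
    (z : FreeAbelianGroup (P.obj (op U))) :
    Presheaf.imageSieve (freePsh.map φ) (U := U) z ∈ J U := by
  induction z using FreeAbelianGroup.induction_on with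
  | zero =>
    refine J.superset_covering ?_ (J.top_mem U)
    intro V g _
    refine ⟨(0 : FreeAbelianGroup (P'.obj (op V))), ?_⟩
    rw [freePsh_app_apply, freePsh_res_apply, map_zero, map_zero]
  | of x =>
    refine J.superset_covering ?_ (Presheaf.imageSieve_mem J φ (U := op U) x)
    intro V g hg
    obtain ⟨t, ht⟩ := hg
    refine ⟨FreeAbelianGroup.of t, ?_⟩
    rw [freePsh_app_apply, freePsh_res_apply, FreeAbelianGroup.map_of_apply,
      FreeAbelianGroup.map_of_apply]
    exact congrArg _ ht
  | neg x ih =>
    refine J.superset_covering ?_ ih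
    intro V g hg
    obtain ⟨t, ht⟩ := hg
    refine ⟨-t, ?_⟩
    exact (map_neg _ t).trans ((congrArg Neg.neg ht).trans (map_neg _ _).symm)
  | add x y hx hy =>
    refine J.superset_covering ?_ (J.intersection_covering hx hy)
    rintro V g ⟨⟨t, ht⟩, ⟨t', ht'⟩⟩
    refine ⟨t + t', ?_⟩
    exact (map_add _ t t').trans ((congrArg₂ (· + ·) ht ht').trans (map_add _ _ _).symm)

lemma isLocallySurjective_freePsh [Presheaf.IsLocallySurjective J φ] :
    Presheaf.IsLocallySurjective J (freePsh.map φ) where
  imageSieve_mem z := imageSieve_freePsh_mem J φ z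

theorem isIso_sheafify_free (h : ∀ U, Function.Injective (φ.app U))
    [Presheaf.IsLocallySurjective J φ] :
    IsIso ((presheafToSheaf J AddCommGrpCat.{u}).map (freePsh.map φ)) := by
  rw [← J.W_iff, J.W_iff_isLocallyBijective]
  exact ⟨isLocallyInjective_freePsh J φ h, isLocallySurjective_freePsh J φ⟩

end Groth.Agent.Lib.Helper4.FreeLocBij
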