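import Mathlib.Tactic
import Mathlib.AlgebraicTopology.SimplicialObject.ChainHomotopy
import Mathlib.Algebra.Homology.QuasiIso
import Mathlib.Algebra.Category.Grp.Abelian
import Mathlib.CategoryTheory.Abelian.FunctorCategory
import Mathlib.Algebra.Homology.ShortComplex.PreservesHomology

namespace Groth.Agent.Lib.Helper4.HtpyQI

open CategoryTheory CategoryTheory.Limits Opposite Simplicial

universe v u w

section A

variable {E : Type u} [Category.{v} E] [Abelian E] {X Y : SimplicialObject E}
  (a : X ⟶ Y) (b : Y ⟶ X) (hba : b ≫ a = 𝟙 Y)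
  (H : SimplicialObject.Homotopy (a ≫ b) (𝟙 X))

include hba H in
theorem isIso_homologyMap (i : ℕ) :
    IsIso (HomologicalComplex.homologyMap
      ((AlgebraicTopology.alternatingFaceMapComplex E).map a) i) := by
  refine ⟨HomologicalComplex.homologyMap
      ((AlgebraicTopology.alternatingFaceMapComplex E).map b) i, ?_, ?_⟩
  · rw [← HomologicalComplex.homologyMap_comp, ← Functor.map_comp]
    have := H.map_homology_eq i
    simp only [HomologicalComplex.homologyFunctor_map] at this
    rw [this, CategoryTheory.Functor.map_id, HomologicalComplex.homologyMap_id]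
  · rw [← HomologicalComplex.homologyMap_comp, ← Functor.map_comp, hba, CategoryTheory.Functor.map_id,
      HomologicalComplex.homologyMap_id]

include hba H in
theorem quasiIso : QuasiIso ((AlgebraicTopology.alternatingFaceMapComplex E).map a) := by
  rw [quasiIso_iff]
  intro i
  rw [quasiIsoAt_iff_isIso_homologyMap]
  exact isIso_homologyMap a b hba H i

end A

section B

variable {C : Type u} [Category.{v} C]

lemma sc_quasiIso_of_sectionwise {S₁ S₂ : ShortComplex (Cᵒᵖ ⥤ AddCommGrpCat.{w})} (φ : S₁ ⟶ S₂)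
    (h : ∀ U : Cᵒᵖ, ShortComplex.QuasiIso
      (((evaluation Cᵒᵖ AddCommGrpCat.{w}).obj U).mapShortComplex.map φ)) :
    ShortComplex.QuasiIso φ := by
  have γ : ShortComplex.LeftHomologyMapData φ S₁.leftHomologyData S₂.leftHomologyData := default
  rw [γ.quasiIso_iff, NatTrans.isIso_iff_isIso_app]
  intro U
  have := h U
  rw [(γ.map ((evaluation Cᵒᵖ AddCommGrpCat.{w}).obj U)).quasiIso_iff,
    ShortComplex.LeftHomologyMapData.map_φH] at this
  exact this

lemma quasiIso_of_sectionwise {ι : Type*} {c : ComplexShape ι}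
    {X Y : HomologicalComplex (Cᵒᵖ ⥤ AddCommGrpCat.{w}) c} (φ : X ⟶ Y)
    (h : ∀ U : Cᵒᵖ, QuasiIso
      ((((evaluation Cᵒᵖ AddCommGrpCat.{w}).obj U).mapHomologicalComplex c).map φ)) :
    QuasiIso φ := by
  rw [quasiIso_iff]
  intro i
  rw [quasiIsoAt_iff]
  apply sc_quasiIso_of_sectionwise
  intro U
  have := (quasiIso_iff _).1 (h U) i
  rw [quasiIsoAt_iff] at this
  exact this

end B

end Groth.Agent.Lib.Helper4.HtpyQI
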