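import Mathlib.Tactic
import Mathlib.AlgebraicTopology.SimplicialObject.Basic
import Mathlib.CategoryTheory.Sites.LocallySurjective

namespace Groth.Agent.Lib.Helper4.SPshImage

open CategoryTheory CategoryTheory.Limits Opposite Simplicial

universe u

variable {C : Type u} [SmallCategory C] {L K : SimplicialObject (Cᵒᵖ ⥤ Type u)} (f : L ⟶ K) (n : ℕ)

/-- the predicate: all `n`-dimensional faces lift -/
def P (m : SimplexCategoryᵒᵖ) (U : Cᵒᵖ) (x : (K.obj m).obj U) : Prop :=
  ∀ σ : ⦋n⦌ ⟶ m.unop, (K.map σ.op).app U x ∈ Set.range ((f.app (op ⦋n⦌)).app U)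

lemma K_map_res {m m' : SimplexCategoryᵒᵖ} (θ : m ⟶ m') {U V : Cᵒᵖ} (g : U ⟶ V)
    (x : (K.obj m).obj U) :
    (K.map θ).app V ((K.obj m).map g x) = (K.obj m').map g ((K.map θ).app U x) :=
  ConcreteCategory.congr_hom ((K.map θ).naturality g) x

lemma f_res (m : SimplexCategoryᵒᵖ) {U V : Cᵒᵖ} (g : U ⟶ V) (y : (L.obj m).obj U) :
    (f.app m).app V ((L.obj m).map g y) = (K.obj m).map g ((f.app m).app U y) :=
  ConcreteCategory.congr_hom ((f.app m).naturality g) y

lemma f_map {m m' : SimplexCategoryᵒᵖ} (θ : m ⟶ m') (U : Cᵒᵖ) (y : (L.obj m).obj U) :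
    (f.app m').app U ((L.map θ).app U y) = (K.map θ).app U ((f.app m).app U y) :=
  ConcreteCategory.congr_hom (NatTrans.congr_app (f.naturality θ) U) y

lemma K_map_comp {m m' m'' : SimplexCategoryᵒᵖ} (θ : m ⟶ m') (θ' : m' ⟶ m'') (U : Cᵒᵖ)
    (x : (K.obj m).obj U) :
    (K.map (θ ≫ θ')).app U x = (K.map θ').app U ((K.map θ).app U x) := by
  rw [K.map_comp]
  rfl

lemma P_res {m : SimplexCategoryᵒᵖ} {U V : Cᵒᵖ} (g : U ⟶ V) (x : (K.obj m).obj U)
    (hx : P f n m U x) : P f n m V ((K.obj m).map g x) := by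
  intro σ
  obtain ⟨y, hy⟩ := hx σ
  refine ⟨(L.obj _).map g y, ?_⟩
  rw [f_res, hy, K_map_res]

lemma P_map {m m' : SimplexCategoryᵒᵖ} (θ : m ⟶ m') (U : Cᵒᵖ) (x : (K.obj m).obj U)
    (hx : P f n m U x) : P f n m' U ((K.map θ).app U x) := by
  intro σ
  obtain ⟨y, hy⟩ := hx (σ ≫ θ.unop)
  refine ⟨y, ?_⟩
  rw [hy, ← K_map_comp]
  rfl

lemma P_f (m : SimplexCategoryᵒᵖ) (U : Cᵒᵖ) (y : (L.obj m).obj U) :
    P f n m U ((f.app m).app U y) := by
  intro σ
  exact ⟨(L.map σ.op).app U y, f_map f σ.op U y⟩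

/-- the subpresheaf in degree `m` -/
def K'obj (m : SimplexCategoryᵒᵖ) : Cᵒᵖ ⥤ Type u where
  obj U := {x : (K.obj m).obj U // P f n m U x}
  map {U V} g := ↾(fun x => ⟨(K.obj m).map g x.1, P_res f n g x.1 x.2⟩)
  map_id U := by
    ext x
    show (K.obj m).map (𝟙 U) x.1 = x.1
    rw [(K.obj m).map_id]
    rfl
  map_comp g g' := by
    ext x
    show (K.obj m).map (g ≫ g') x.1 = (K.obj m).map g' ((K.obj m).map g x.1)
    rw [(K.obj m).map_comp]
    rfl

/-- the simplicial structure maps -/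
def K'map {m m' : SimplexCategoryᵒᵖ} (θ : m ⟶ m') : K'obj f n m ⟶ K'obj f n m' where
  app U := ↾(fun x => ⟨(K.map θ).app U x.1, P_map f n θ U x.1 x.2⟩)
  naturality U V g := by
    ext x
    apply Subtype.ext
    exact K_map_res θ g x.1

/-- the simplicial sub-presheaf -/
def K' : SimplicialObject (Cᵒᵖ ⥤ Type u) where
  obj m := K'obj f n m
  map θ := K'map f n θ
  map_id m := by
    ext U x
    apply Subtype.ext
    show (K.map (𝟙 m)).app U x.1 = x.1
    rw [K.map_id]
    rfl
  map_comp θ θ' := by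
    ext U x
    apply Subtype.ext
    exact K_map_comp θ θ' U x.1

/-- the corestriction -/
def q : L ⟶ K' f n where
  app m :=
    { app := fun U => ↾(fun y => ⟨(f.app m).app U y, P_f f n m U y⟩)
      naturality := fun U V g => by
        ext y
        apply Subtype.ext
        exact f_res f m g y }
  naturality m m' θ := by
    ext U y
    apply Subtype.ext
    exact f_map f θ U y

/-- the inclusion -/
def ι : K' f n ⟶ K where
  app _ :=
    { app := fun _ => ↾(fun x => x.1)
      naturality := fun _ _ _ => rfl }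
  naturality _ _ _ := rfl

lemma q_ι : q f n ≫ ι f n = f := rfl

lemma ι_injective (m : SimplexCategoryᵒᵖ) (U : Cᵒᵖ) :
    Function.Injective (((ι f n).app m).app U) := fun _ _ h => Subtype.ext h

lemma q_surjective_n (U : Cᵒᵖ) :
    Function.Surjective (((q f n).app (op ⦋n⦌)).app U) := by
  intro x
  obtain ⟨y, hy⟩ := x.2 (𝟙 _)
  refine ⟨y, Subtype.ext ?_⟩
  refine hy.trans ?_
  show (K.map (𝟙 (op ⦋n⦌))).app U x.1 = x.1
  rw [K.map_id]
  rfl

lemma q_injective (m : SimplexCategoryᵒᵖ) (U : Cᵒᵖ)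
    (h : Function.Injective ((f.app m).app U)) :
    Function.Injective (((q f n).app m).app U) := fun _ _ h' =>
  h (congrArg Subtype.val h')

lemma q_surjective (m : SimplexCategoryᵒᵖ) (U : Cᵒᵖ)
    (h : Function.Surjective ((f.app m).app U)) :
    Function.Surjective (((q f n).app m).app U) := by
  intro x
  obtain ⟨y, hy⟩ := h x.1
  exact ⟨y, Subtype.ext hy⟩

lemma iInf_mem {ι : Type*} [Finite ι] (J : GrothendieckTopology C) {U : C} (S : ι → Sieve U)
    (h : ∀ i, S i ∈ J U) : (⨅ i, S i) ∈ J U := by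
  classical
  cases nonempty_fintype ι
  have h1 : ∀ s : Finset ι, s.inf S ∈ J U := by
    intro s
    induction s using Finset.induction_on with
    | empty => simp
    | insert a s _ ih =>
      rw [Finset.inf_insert]
      exact J.intersection_covering (h a) ih
  have h2 : (⨅ i, S i) = Finset.univ.inf S := (Finset.inf_univ_eq_iInf S).symm
  rw [h2]
  exact h1 _

lemma ι_locallySurjective (J : GrothendieckTopology C)
    (h2 : Presheaf.IsLocallySurjective J (f.app (op ⦋n⦌))) (m : SimplexCategoryᵒᵖ) :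
    Presheaf.IsLocallySurjective J ((ι f n).app m) where
  imageSieve_mem {U} x := by
    have hcov : (⨅ σ : ⦋n⦌ ⟶ m.unop,
        Presheaf.imageSieve (f.app (op ⦋n⦌)) ((K.map σ.op).app (op U) x)) ∈ J U :=
      iInf_mem J _ (fun σ => h2.imageSieve_mem _)
    refine J.superset_covering ?_ hcov
    intro V g hg
    have hP : P f n m (op V) ((K.obj m).map g.op x) := by
      intro σ
      have hle := iInf_le (fun σ : ⦋n⦌ ⟶ m.unop =>
        Presheaf.imageSieve (f.app (op ⦋n⦌)) ((K.map σ.op).app (op U) x)) σ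
      obtain ⟨y, hy⟩ := hle _ hg
      refine ⟨y, hy.trans ?_⟩
      exact (K_map_res σ.op g.op x).symm
    exact ⟨⟨_, hP⟩, rfl⟩

end Groth.Agent.Lib.Helper4.SPshImage
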