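import Mathlib.Tactic
import Mathlib.AlgebraicTopology.SimplicialObject.Coskeletal
import Mathlib.CategoryTheory.Functor.KanExtension.Pointwise
import Groth.Agent.S6800

namespace Groth.Agent.Lib.Helper4.CoskUP

open CategoryTheory CategoryTheory.Limits Opposite Simplicial

universe v u

variable {E : Type u} [Category.{v} E] [HasFiniteLimits E] (n : ℕ)
  [∀ (F : (SimplexCategory.Truncated n)ᵒᵖ ⥤ E),
    (SimplexCategory.Truncated.inclusion n).op.HasRightKanExtension F]
  (K : SimplicialObject E)

/-- index category -/
abbrev Idx (m : SimplexCategoryᵒᵖ) := StructuredArrow m (SimplexCategory.Truncated.inclusion n).op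

/-- the counit -/
noncomputable abbrev ε : (SimplicialObject.truncation n).obj ((SimplicialObject.cosk n).obj K) ⟶
    (SimplicialObject.truncation n).obj K :=
  (SimplicialObject.coskAdj n).counit.app ((SimplicialObject.truncation n).obj K)

/-- the unit -/
noncomputable abbrev η : K ⟶ (SimplicialObject.cosk n).obj K :=
  (SimplicialObject.coskAdj n).unit.app K

/-- the limit cone property -/
noncomputable def isLimitConeAt (m : SimplexCategoryᵒᵖ) :
    IsLimit ((Functor.RightExtension.mk ((SimplicialObject.cosk n).obj K) (ε n K)).coneAt m) := by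
  have : (SimplexCategory.Truncated.inclusion n).op.HasPointwiseRightKanExtension
      ((SimplicialObject.truncation n).obj K) := Groth.Agent.S6800.result n _
  exact Functor.isPointwiseRightKanExtensionOfIsRightKanExtension
    ((SimplicialObject.cosk n).obj K) (ε n K) m

/-- projections -/
noncomputable def π {m : SimplexCategoryᵒᵖ} (A : Idx n m) :
    ((SimplicialObject.cosk n).obj K).obj m ⟶ K.obj ((SimplexCategory.Truncated.inclusion n).op.obj A.right) :=
  ((SimplicialObject.cosk n).obj K).map A.hom ≫ (ε n K).app A.right

lemma hom_ext {m : SimplexCategoryᵒᵖ} {T : E} (f g : T ⟶ ((SimplicialObject.cosk n).obj K).obj m)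
    (h : ∀ A : Idx n m, f ≫ π n K A = g ≫ π n K A) : f = g :=
  (isLimitConeAt n K m).hom_ext h

lemma η_π {m : SimplexCategoryᵒᵖ} (A : Idx n m) :
    (η n K).app m ≫ π n K A = K.map A.hom := by
  have h1 := (η n K).naturality A.hom
  have h2 : (η n K).app ((SimplexCategory.Truncated.inclusion n).op.obj A.right) ≫
      (ε n K).app A.right = 𝟙 _ :=
    NatTrans.congr_app ((SimplicialObject.coskAdj n).left_triangle_components K) A.right
  exact (Category.assoc _ _ _).symm.trans
    ((congrArg (fun z => z ≫ (ε n K).app A.right) h1.symm).trans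
      ((Category.assoc _ _ _).trans
        ((congrArg (fun z => K.map A.hom ≫ z) h2).trans (Category.comp_id _))))

lemma map_π {m m' : SimplexCategoryᵒᵖ} (g : m ⟶ m') (A : Idx n m') :
    ((SimplicialObject.cosk n).obj K).map g ≫ π n K A =
      π n K (StructuredArrow.mk (g ≫ A.hom)) :=
  (Category.assoc _ _ _).symm.trans
    (congrArg (fun z => z ≫ (ε n K).app A.right)
      (((SimplicialObject.cosk n).obj K).map_comp g A.hom).symm)

/-- lifting -/
noncomputable def lift {m : SimplexCategoryᵒᵖ}
    (c : Cone (StructuredArrow.proj m (SimplexCategory.Truncated.inclusion n).op ⋙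
      (SimplicialObject.truncation n).obj K)) :
    c.pt ⟶ ((SimplicialObject.cosk n).obj K).obj m :=
  (isLimitConeAt n K m).lift c

lemma lift_π {m : SimplexCategoryᵒᵖ}
    (c : Cone (StructuredArrow.proj m (SimplexCategory.Truncated.inclusion n).op ⋙
      (SimplicialObject.truncation n).obj K)) (A : Idx n m) :
    lift n K c ≫ π n K A = c.π.app A :=
  (isLimitConeAt n K m).fac c A

end Groth.Agent.Lib.Helper4.CoskUP
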