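import Mathlib.Tactic
import Groth.Agent.Lib.Helper4.CoskUP

namespace Groth.Agent.Lib.Helper4.CoskUP

open CategoryTheory CategoryTheory.Limits Opposite Simplicial

universe v u

variable {E : Type u} [Category.{v} E] (n : ℕ)
  [∀ (F : (SimplexCategory.Truncated n)ᵒᵖ ⥤ E),
    (SimplexCategory.Truncated.inclusion n).op.HasRightKanExtension F]
  (K : SimplicialObject E)

/-- cone naturality of the projections -/
lemma π_map {m : SimplexCategoryᵒᵖ} (A : Idx n m) {r : (SimplexCategory.Truncated n)ᵒᵖ}
    (u : A.right ⟶ r) :
    π n K A ≫ K.map ((SimplexCategory.Truncated.inclusion n).op.map u) =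
      π n K (StructuredArrow.mk (A.hom ≫ (SimplexCategory.Truncated.inclusion n).op.map u)) := by
  have h1 := (ε n K).naturality u
  have h1' : ((SimplicialObject.cosk n).obj K).map ((SimplexCategory.Truncated.inclusion n).op.map u) ≫
      (ε n K).app r = (ε n K).app A.right ≫
        K.map ((SimplexCategory.Truncated.inclusion n).op.map u) := h1
  unfold π
  exact (Category.assoc _ _ _).trans ((congrArg (fun z => _ ≫ z) h1'.symm).trans
    ((Category.assoc _ _ _).symm.trans (congrArg (fun z => z ≫ (ε n K).app r)
      (((SimplicialObject.cosk n).obj K).map_comp A.hom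
        ((SimplexCategory.Truncated.inclusion n).op.map u)).symm)))

variable {K} in
/-- compatibility of the projections with `cosk.map` -/
lemma coskMap_π {K' : SimplicialObject E} (g : K ⟶ K') {m : SimplexCategoryᵒᵖ} (A : Idx n m) :
    ((SimplicialObject.cosk n).map g).app m ≫ π n K' A =
      π n K A ≫ g.app ((SimplexCategory.Truncated.inclusion n).op.obj A.right) := by
  have h1 := ((SimplicialObject.cosk n).map g).naturality A.hom
  have h2 := NatTrans.congr_app
    ((SimplicialObject.coskAdj n).counit.naturality ((SimplicialObject.truncation n).map g)) A.right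
  have h2' : ((SimplicialObject.cosk n).map g).app
      ((SimplexCategory.Truncated.inclusion n).op.obj A.right) ≫ (ε n K').app A.right =
      (ε n K).app A.right ≫ g.app ((SimplexCategory.Truncated.inclusion n).op.obj A.right) := h2
  unfold π
  exact (Category.assoc _ _ _).symm.trans ((congrArg (fun z => z ≫ (ε n K').app A.right) h1.symm).trans
    ((Category.assoc _ _ _).trans ((congrArg (fun z => _ ≫ z) h2').trans
      (Category.assoc _ _ _).symm)))

end Groth.Agent.Lib.Helper4.CoskUP
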