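import Mathlib.Tactic
import Mathlib.AlgebraicTopology.SimplicialObject.Homotopy
import Groth.Agent.Lib.Helper4.CoskUP2

namespace Groth.Agent.Lib.Helper4.CoskHtpyE

open CategoryTheory CategoryTheory.Limits Opposite Simplicial

universe v u

variable {E : Type u} [Category.{v} E] [HasFiniteLimits E] (n : ℕ)
  [∀ (F : (SimplexCategory.Truncated n)ᵒᵖ ⥤ E),
    (SimplexCategory.Truncated.inclusion n).op.HasRightKanExtension F]
  {X X' : SimplicialObject E} (f g : X ⟶ X')

open Classical in
/-- choose `f` or `g` -/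
noncomputable def fg (c : Prop) : X ⟶ X' := if c then f else g

lemma fg_true : fg f g True = f := by simp [fg]
lemma fg_false : fg f g False = g := by simp [fg]

/-- the basic building block -/
noncomputable def T {M : SimplexCategoryᵒᵖ} (r : (SimplexCategory.Truncated n)ᵒᵖ)
    (a : M ⟶ (SimplexCategory.Truncated.inclusion n).op.obj r) (c : Prop) :
    ((SimplicialObject.cosk n).obj X).obj M ⟶
      X'.obj ((SimplexCategory.Truncated.inclusion n).op.obj r) :=
  CoskUP.π n X (StructuredArrow.mk a) ≫
    (fg f g c).app ((SimplexCategory.Truncated.inclusion n).op.obj r)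

lemma T_congr {M : SimplexCategoryᵒᵖ} (r : (SimplexCategory.Truncated n)ᵒᵖ)
    {a a' : M ⟶ (SimplexCategory.Truncated.inclusion n).op.obj r} {c c' : Prop}
    (h1 : a = a') (h2 : c ↔ c') : T n f g r a c = T n f g r a' c' := by
  subst h1
  rw [propext h2]

lemma map_T {M M' : SimplexCategoryᵒᵖ} (u : M ⟶ M') (r : (SimplexCategory.Truncated n)ᵒᵖ)
    (a : M' ⟶ (SimplexCategory.Truncated.inclusion n).op.obj r) (c : Prop) :
    ((SimplicialObject.cosk n).obj X).map u ≫ T n f g r a c = T n f g r (u ≫ a) c := by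
  unfold T
  rw [← Category.assoc, CoskUP.map_π]
  rfl


section L1

variable (hfg : ∀ p : ℕ, p < n → f.app (op (SimplexCategory.mk p)) = g.app (op (SimplexCategory.mk p)))
include hfg

omit [HasFiniteLimits E] [∀ (F : (SimplexCategory.Truncated n)ᵒᵖ ⥤ E),
    (SimplexCategory.Truncated.inclusion n).op.HasRightKanExtension F] in
lemma app_eq_of_lt (k : SimplexCategory) (hk : k.len < n) : f.app (op k) = g.app (op k) := by
  obtain ⟨p, rfl⟩ : ∃ p, k = SimplexCategory.mk p := ⟨k.len, (SimplexCategory.mk_len k).symm⟩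
  exact hfg p hk

omit [HasFiniteLimits E] [∀ (F : (SimplexCategory.Truncated n)ᵒᵖ ⥤ E),
    (SimplexCategory.Truncated.inclusion n).op.HasRightKanExtension F] in
lemma map_app_eq (k k' : SimplexCategory) (w : k' ⟶ k) (hk' : k'.len ≤ n)
    (hw : k'.len < n ∨ ¬ Function.Injective w.toOrderHom) :
    X.map w.op ≫ f.app (op k') = X.map w.op ≫ g.app (op k') := by
  rcases hw with hlt | hinj
  · rw [app_eq_of_lt n f g hfg k' hlt]
  · obtain ⟨p, rfl⟩ : ∃ p, k' = SimplexCategory.mk p := ⟨k'.len, (SimplexCategory.mk_len k').symm⟩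
    rcases p with _ | p
    · exfalso
      apply hinj
      intro a b _
      have ha : (a : ℕ) < 1 := a.isLt
      have hb : (b : ℕ) < 1 := b.isLt
      exact Fin.ext (by omega)
    · obtain ⟨j, w', rfl⟩ := SimplexCategory.eq_σ_comp_of_not_injective w hinj
      have hp : p < n := hk'
      rw [op_comp, X.map_comp, Category.assoc, Category.assoc, f.naturality, g.naturality,
        hfg p hp]

end L1


/-- colour: all vertices of `θ` are `≤ i`. -/
def col {a : SimplexCategory} {m : ℕ} (i : ℕ) (θ : a ⟶ ⦋m⦌) : Prop :=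
  ∀ v, (θ.toOrderHom v : ℕ) ≤ i

lemma T_eq_of_eq {M : SimplexCategoryᵒᵖ} (r : (SimplexCategory.Truncated n)ᵒᵖ)
    (a : M ⟶ (SimplexCategory.Truncated.inclusion n).op.obj r) (c c' : Prop)
    (h : CoskUP.π n X (StructuredArrow.mk a) ≫
        f.app ((SimplexCategory.Truncated.inclusion n).op.obj r) =
      CoskUP.π n X (StructuredArrow.mk a) ≫
        g.app ((SimplexCategory.Truncated.inclusion n).op.obj r)) :
    T n f g r a c = T n f g r a c' := by
  unfold T fg
  by_cases hc : c <;> by_cases hc' : c'
  · simp [hc, hc']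
  · simp only [hc, hc', if_true, if_false]; exact h
  · simp only [hc, hc', if_true, if_false]; exact h.symm
  · simp [hc, hc']

section Cone

variable (hfg : ∀ p : ℕ, p < n → f.app (op (SimplexCategory.mk p)) = g.app (op (SimplexCategory.mk p)))

/-- the cone defining `h i`. -/
noncomputable def hCone (m : ℕ) (i : Fin (m + 1)) :
    Cone (StructuredArrow.proj (op ⦋m + 1⦌) (SimplexCategory.Truncated.inclusion n).op ⋙
      (SimplicialObject.truncation n).obj X') where
  pt := ((SimplicialObject.cosk n).obj X).obj (op ⦋m⦌)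
  π :=
    { app := fun A => T n f g A.right ((SimplexCategory.σ i).op ≫ A.hom) (col (i : ℕ) A.hom.unop)
      naturality := by
        intro A A' ψ
        let u := (SimplexCategory.Truncated.inclusion n).op.map ψ.right
        have hw : A.hom ≫ u = A'.hom := StructuredArrow.w ψ
        have hθ : A'.hom.unop = u.unop ≫ A.hom.unop := by rw [← hw]; rfl
        -- step 1: move `X'.map u` inside
        have step1 : T n f g A.right ((SimplexCategory.σ i).op ≫ A.hom) (col (i : ℕ) A.hom.unop) ≫
            X'.map u = T n f g A'.right ((SimplexCategory.σ i).op ≫ A'.hom)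
              (col (i : ℕ) A.hom.unop) := by
          unfold T
          rw [Category.assoc, ← (fg f g _).naturality, ← Category.assoc, CoskUP.π_map]
          have : (StructuredArrow.mk ((SimplexCategory.σ i).op ≫ A.hom)).hom ≫ u =
              (SimplexCategory.σ i).op ≫ A'.hom := by
            rw [← hw]; exact Category.assoc _ _ _
          rw [this]
        refine (Category.id_comp _).trans (Eq.trans ?_ step1.symm)
        by_cases hcase : A'.right.unop.obj.len < n ∨ ¬ Function.Injective u.unop.toOrderHom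
        · apply T_eq_of_eq
          have h1 := map_app_eq n f g hfg A.right.unop.obj A'.right.unop.obj u.unop
            A'.right.unop.property hcase
          have h2 : CoskUP.π n X (StructuredArrow.mk ((SimplexCategory.σ i).op ≫ A'.hom)) =
              CoskUP.π n X (StructuredArrow.mk ((SimplexCategory.σ i).op ≫ A.hom)) ≫ X.map u := by
            rw [CoskUP.π_map]
            have : (StructuredArrow.mk ((SimplexCategory.σ i).op ≫ A.hom)).hom ≫ u =
                (SimplexCategory.σ i).op ≫ A'.hom := by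
              rw [← hw]; exact Category.assoc _ _ _
            rw [this]
          rw [h2, Category.assoc, Category.assoc]
          exact congrArg (fun z => _ ≫ z) h1
        · apply T_congr n f g _ rfl
          rw [not_or, not_lt, not_not] at hcase
          obtain ⟨hlen, hinj⟩ := hcase
          have hk' : A'.right.unop.obj.len = n := le_antisymm A'.right.unop.property hlen
          have hcard : A'.right.unop.obj.len ≤ A.right.unop.obj.len := by
            have := Fintype.card_le_of_injective _ hinj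
            simpa using this
          have hk : A.right.unop.obj.len = A'.right.unop.obj.len :=
            le_antisymm (by rw [hk']; exact A.right.unop.property) hcard
          have hbij : Function.Bijective u.unop.toOrderHom :=
            (Fintype.bijective_iff_injective_and_card _).2 ⟨hinj, by simp [hk]⟩
          constructor
          · intro h v
            obtain ⟨v', rfl⟩ := hbij.2 v
            have := h v'
            rw [hθ] at this
            exact this
          · intro h v
            rw [hθ]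
            exact h _ }

end Cone


section Vals

lemma δ_val {m : ℕ} (i : Fin (m + 2)) (x : Fin (m + 1)) :
    (((SimplexCategory.δ i).toOrderHom x : Fin (m + 2)) : ℕ) = if (x : ℕ) < i then (x : ℕ) else x + 1 := by
  change ((i.succAbove x : Fin (m + 2)) : ℕ) = _
  unfold Fin.succAbove
  split_ifs with h1 h2 h2
  · rfl
  · exact absurd (Fin.lt_def.1 h1) h2
  · exact absurd (Fin.lt_def.2 h2) h1
  · rfl

lemma σ_val {m : ℕ} (i : Fin (m + 1)) (x : Fin (m + 2)) :
    (((SimplexCategory.σ i).toOrderHom x : Fin (m + 1)) : ℕ) = if (i : ℕ) < x then (x : ℕ) - 1 else x := by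
  change ((i.predAbove x : Fin (m + 1)) : ℕ) = _
  unfold Fin.predAbove
  split_ifs with h1 h2 h2
  · rfl
  · exact absurd (Fin.lt_def.1 h1) h2
  · exact absurd (Fin.lt_def.2 h2) h1
  · rfl

lemma col_comp {a : SimplexCategory} {m m' : ℕ} (θ : a ⟶ ⦋m⦌) (β : ⦋m⦌ ⟶ ⦋m'⦌) (i i' : ℕ)
    (h : ∀ x : Fin (m + 1), ((β.toOrderHom x : Fin (m' + 1)) : ℕ) ≤ i ↔ (x : ℕ) ≤ i') :
    col i (θ ≫ β) ↔ col i' θ := by
  constructor
  · intro hc v
    exact (h _).1 (hc v)
  · intro hc v
    exact (h _).2 (hc v)

end Vals


section Htpy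

variable (hfg : ∀ p : ℕ, p < n → f.app (op (SimplexCategory.mk p)) = g.app (op (SimplexCategory.mk p)))

/-- the homotopy components -/
noncomputable def hh (m : ℕ) (i : Fin (m + 1)) :
    ((SimplicialObject.cosk n).obj X).obj (op ⦋m⦌) ⟶
      ((SimplicialObject.cosk n).obj X').obj (op ⦋m + 1⦌) :=
  CoskUP.lift n X' (hCone n f g hfg m i)

lemma hh_π (m : ℕ) (i : Fin (m + 1)) (A : CoskUP.Idx n (op ⦋m + 1⦌)) :
    hh n f g hfg m i ≫ CoskUP.π n X' A =
      T n f g A.right ((SimplexCategory.σ i).op ≫ A.hom) (col (i : ℕ) A.hom.unop) :=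
  CoskUP.lift_π n X' _ A

/-- `hh` followed by a map of `cosk X'`, then projected -/
lemma hh_map_π (m : ℕ) (i : Fin (m + 1)) {M' : SimplexCategoryᵒᵖ} (β : op ⦋m + 1⦌ ⟶ M')
    (B : CoskUP.Idx n M') :
    hh n f g hfg m i ≫ ((SimplicialObject.cosk n).obj X').map β ≫ CoskUP.π n X' B =
      T n f g B.right ((SimplexCategory.σ i).op ≫ β ≫ B.hom) (col (i : ℕ) (B.hom.unop ≫ β.unop)) := by
  rw [CoskUP.map_π, hh_π]
  rfl

/-- a map of `cosk X` followed by `hh`, then projected -/
lemma map_hh_π (m : ℕ) (i : Fin (m + 1)) {M : SimplexCategoryᵒᵖ} (α : M ⟶ op ⦋m⦌)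
    (B : CoskUP.Idx n (op ⦋m + 1⦌)) :
    ((SimplicialObject.cosk n).obj X).map α ≫ hh n f g hfg m i ≫ CoskUP.π n X' B =
      T n f g B.right (α ≫ (SimplexCategory.σ i).op ≫ B.hom) (col (i : ℕ) B.hom.unop) := by
  rw [hh_π, map_T]

lemma cosk_f_π {M : SimplexCategoryᵒᵖ} (B : CoskUP.Idx n M) :
    ((SimplicialObject.cosk n).map f).app M ≫ CoskUP.π n X' B = T n f g B.right B.hom True := by
  rw [CoskUP.coskMap_π]
  unfold T
  rw [fg_true]
  rfl

lemma cosk_g_π {M : SimplexCategoryᵒᵖ} (B : CoskUP.Idx n M) :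
    ((SimplicialObject.cosk n).map g).app M ≫ CoskUP.π n X' B = T n f g B.right B.hom False := by
  rw [CoskUP.coskMap_π]
  unfold T
  rw [fg_false]
  rfl

end Htpy


section Main

variable (hfg : ∀ p : ℕ, p < n → f.app (op (SimplexCategory.mk p)) = g.app (op (SimplexCategory.mk p)))

lemma op_comp_eq {a b c : SimplexCategory} {u : a ⟶ b} {v : b ⟶ c} {w : a ⟶ c} (h : u ≫ v = w) :
    v.op ≫ u.op = w.op := by
  rw [← op_comp, h]

lemma op_comp_eq' {a b c d : SimplexCategory} {u : a ⟶ b} {v : b ⟶ c} {u' : a ⟶ d} {v' : d ⟶ c}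
    (h : u ≫ v = u' ≫ v') : v.op ≫ u.op = v'.op ≫ u'.op := by
  rw [← op_comp, ← op_comp, h]

theorem h_zero (m : ℕ) :
    hh n f g hfg m 0 ≫ ((SimplicialObject.cosk n).obj X').δ 0 =
      ((SimplicialObject.cosk n).map g).app (op ⦋m⦌) := by
  apply CoskUP.hom_ext n X'
  intro B
  rw [Category.assoc]
  change hh n f g hfg m 0 ≫ ((SimplicialObject.cosk n).obj X').map (SimplexCategory.δ 0).op ≫ _ = _
  rw [hh_map_π, cosk_g_π]
  apply T_congr
  · have := op_comp_eq (SimplexCategory.δ_comp_σ_self (i := (0 : Fin (m + 1))))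
    rw [← Category.assoc]
    erw [this]
    simp
  · constructor
    · intro h
      have h1 := h 0
      change (((SimplexCategory.δ 0).toOrderHom _ : Fin (m + 2)) : ℕ) ≤ _ at h1
      rw [δ_val] at h1
      simp at h1
    · intro h
      exact h.elim


theorem h_last (m : ℕ) :
    hh n f g hfg m (Fin.last m) ≫ ((SimplicialObject.cosk n).obj X').δ (Fin.last (m + 1)) =
      ((SimplicialObject.cosk n).map f).app (op ⦋m⦌) := by
  apply CoskUP.hom_ext n X'
  intro B
  rw [Category.assoc]
  change hh n f g hfg m (Fin.last m) ≫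
    ((SimplicialObject.cosk n).obj X').map (SimplexCategory.δ (Fin.last (m + 1))).op ≫ _ = _
  rw [hh_map_π, cosk_f_π]
  apply T_congr
  · have := op_comp_eq (SimplexCategory.δ_comp_σ_succ (i := Fin.last m))
    rw [← Category.assoc]
    erw [this]
    simp
  · constructor
    · intro _
      trivial
    · intro _ v
      change (((SimplexCategory.δ (Fin.last (m + 1))).toOrderHom _ : Fin (m + 2)) : ℕ) ≤ _
      rw [δ_val]
      have : ((B.hom.unop.toOrderHom v : Fin (m + 1)) : ℕ) < m + 1 := (B.hom.unop.toOrderHom v).isLt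
      simp only [Fin.val_last]
      split_ifs <;> omega

theorem h_succ_castSucc_of_le (m : ℕ) (i : Fin (m + 2)) (j : Fin (m + 1)) (hij : i ≤ j.castSucc) :
    hh n f g hfg (m + 1) j.succ ≫ ((SimplicialObject.cosk n).obj X').δ i.castSucc =
      ((SimplicialObject.cosk n).obj X).δ i ≫ hh n f g hfg m j := by
  apply CoskUP.hom_ext n X'
  intro B
  rw [Category.assoc, Category.assoc]
  change hh n f g hfg (m + 1) j.succ ≫
    ((SimplicialObject.cosk n).obj X').map (SimplexCategory.δ i.castSucc).op ≫ _ =
    ((SimplicialObject.cosk n).obj X).map (SimplexCategory.δ i).op ≫ _ ≫ _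
  rw [hh_map_π, map_hh_π]
  apply T_congr
  · have := op_comp_eq' (SimplexCategory.δ_comp_σ_of_le hij)
    rw [← Category.assoc, ← Category.assoc]
    erw [this]
  · refine col_comp B.hom.unop (SimplexCategory.δ i.castSucc) _ _ ?_
    intro x
    rw [δ_val]
    have h1 : (i : ℕ) ≤ j := hij
    simp only [Fin.val_succ, Fin.val_castSucc]
    split_ifs <;> omega


theorem h_succ_castSucc_succ (m : ℕ) (j : Fin (m + 1)) :
    hh n f g hfg (m + 1) j.succ ≫ ((SimplicialObject.cosk n).obj X').δ j.castSucc.succ =
      hh n f g hfg (m + 1) j.castSucc ≫ ((SimplicialObject.cosk n).obj X').δ j.castSucc.succ := by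
  apply CoskUP.hom_ext n X'
  intro B
  rw [Category.assoc, Category.assoc]
  change hh n f g hfg (m + 1) j.succ ≫
    ((SimplicialObject.cosk n).obj X').map (SimplexCategory.δ j.castSucc.succ).op ≫ _ =
    hh n f g hfg (m + 1) j.castSucc ≫
    ((SimplicialObject.cosk n).obj X').map (SimplexCategory.δ j.castSucc.succ).op ≫ _
  rw [hh_map_π, hh_map_π]
  apply T_congr
  · have h1 := op_comp_eq (SimplexCategory.δ_comp_σ_self (i := j.succ))
    have h2 := op_comp_eq (SimplexCategory.δ_comp_σ_succ (i := j.castSucc))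
    rw [← Category.assoc, ← Category.assoc]
    erw [h1, h2]
  · have e1 : col ((j.succ : Fin (m + 2)) : ℕ) (B.hom.unop ≫ SimplexCategory.δ j.castSucc.succ) ↔
        col (j : ℕ) B.hom.unop := by
      refine col_comp B.hom.unop (SimplexCategory.δ j.castSucc.succ) _ _ ?_
      intro x
      rw [δ_val]
      simp only [Fin.val_succ, Fin.val_castSucc]
      split_ifs <;> omega
    have e2 : col ((j.castSucc : Fin (m + 2)) : ℕ) (B.hom.unop ≫ SimplexCategory.δ j.castSucc.succ) ↔
        col (j : ℕ) B.hom.unop := by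
      refine col_comp B.hom.unop (SimplexCategory.δ j.castSucc.succ) _ _ ?_
      intro x
      rw [δ_val]
      simp only [Fin.val_succ, Fin.val_castSucc]
      split_ifs <;> omega
    exact e1.trans e2.symm

theorem h_castSucc_succ_of_lt (m : ℕ) (i : Fin (m + 2)) (j : Fin (m + 1)) (hji : j.castSucc < i) :
    hh n f g hfg (m + 1) j.castSucc ≫ ((SimplicialObject.cosk n).obj X').δ i.succ =
      ((SimplicialObject.cosk n).obj X).δ i ≫ hh n f g hfg m j := by
  apply CoskUP.hom_ext n X'
  intro B
  rw [Category.assoc, Category.assoc]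
  change hh n f g hfg (m + 1) j.castSucc ≫
    ((SimplicialObject.cosk n).obj X').map (SimplexCategory.δ i.succ).op ≫ _ =
    ((SimplicialObject.cosk n).obj X).map (SimplexCategory.δ i).op ≫ _ ≫ _
  rw [hh_map_π, map_hh_π]
  apply T_congr
  · have := op_comp_eq' (SimplexCategory.δ_comp_σ_of_gt hji)
    rw [← Category.assoc, ← Category.assoc]
    erw [this]
  · refine col_comp B.hom.unop (SimplexCategory.δ i.succ) _ _ ?_
    intro x
    rw [δ_val]
    have h1 : (j : ℕ) < i := hji
    simp only [Fin.val_succ, Fin.val_castSucc]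
    split_ifs <;> omega

theorem h_σ_castSucc_of_le (m : ℕ) (i j : Fin (m + 1)) (hij : i ≤ j) :
    hh n f g hfg m j ≫ ((SimplicialObject.cosk n).obj X').σ i.castSucc =
      ((SimplicialObject.cosk n).obj X).σ i ≫ hh n f g hfg (m + 1) j.succ := by
  apply CoskUP.hom_ext n X'
  intro B
  rw [Category.assoc, Category.assoc]
  change hh n f g hfg m j ≫
    ((SimplicialObject.cosk n).obj X').map (SimplexCategory.σ i.castSucc).op ≫ _ =
    ((SimplicialObject.cosk n).obj X).map (SimplexCategory.σ i).op ≫ _ ≫ _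
  rw [hh_map_π, map_hh_π]
  apply T_congr
  · have := op_comp_eq' (SimplexCategory.σ_comp_σ hij)
    rw [← Category.assoc, ← Category.assoc]
    erw [this]
  · refine (col_comp B.hom.unop (SimplexCategory.σ i.castSucc) _ _ ?_)
    intro x
    rw [σ_val]
    have h1 : (i : ℕ) ≤ j := hij
    simp only [Fin.val_succ, Fin.val_castSucc]
    split_ifs <;> omega

theorem h_σ_succ_of_le (m : ℕ) (i j : Fin (m + 1)) (hji : j ≤ i) :
    hh n f g hfg m j ≫ ((SimplicialObject.cosk n).obj X').σ i.succ =
      ((SimplicialObject.cosk n).obj X).σ i ≫ hh n f g hfg (m + 1) j.castSucc := by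
  apply CoskUP.hom_ext n X'
  intro B
  rw [Category.assoc, Category.assoc]
  change hh n f g hfg m j ≫
    ((SimplicialObject.cosk n).obj X').map (SimplexCategory.σ i.succ).op ≫ _ =
    ((SimplicialObject.cosk n).obj X).map (SimplexCategory.σ i).op ≫ _ ≫ _
  rw [hh_map_π, map_hh_π]
  apply T_congr
  · have := op_comp_eq' (SimplexCategory.σ_comp_σ hji)
    rw [← Category.assoc, ← Category.assoc]
    erw [this]
  · refine (col_comp B.hom.unop (SimplexCategory.σ i.succ) _ _ ?_)
    intro x
    rw [σ_val]
    have h1 : (j : ℕ) ≤ i := hji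
    simp only [Fin.val_succ, Fin.val_castSucc]
    split_ifs <;> omega

/-- the homotopy -/
noncomputable def homotopy :
    SimplicialObject.Homotopy ((SimplicialObject.cosk n).map f) ((SimplicialObject.cosk n).map g) where
  h {m} i := hh n f g hfg m i
  h_zero_comp_δ_zero m := h_zero n f g hfg m
  h_last_comp_δ_last m := h_last n f g hfg m
  h_succ_comp_δ_castSucc_of_lt {m} i j hij := h_succ_castSucc_of_le n f g hfg m i j hij
  h_succ_comp_δ_castSucc_succ {m} j := h_succ_castSucc_succ n f g hfg m j
  h_castSucc_comp_δ_succ_of_lt {m} i j hji := h_castSucc_succ_of_lt n f g hfg m i j hji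
  h_comp_σ_castSucc_of_le {m} i j hij := h_σ_castSucc_of_le n f g hfg m i j hij
  h_comp_σ_succ_of_lt {m} i j hji := h_σ_succ_of_le n f g hfg m i j hji

include hfg in
theorem main8565 :
    Nonempty (SimplicialObject.Homotopy ((SimplicialObject.cosk n).map f)
      ((SimplicialObject.cosk n).map g)) :=
  ⟨homotopy n f g hfg⟩

end Main

end Groth.Agent.Lib.Helper4.CoskHtpyE
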