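import Mathlib.Tactic
import Mathlib.AlgebraicTopology.SimplicialSet.Degenerate
import Mathlib.AlgebraicTopology.SimplexCategory.MorphismProperty
import Groth.Agent.Lib.Helper4.CoskHtpyE

namespace Groth.Agent.Lib.Helper4.SSetSec

open CategoryTheory CategoryTheory.Limits Opposite Simplicial

universe u

variable {A B : SSet.{u}} (p : A ⟶ B)

lemma app_map {d d' : SimplexCategoryᵒᵖ} (θ : d ⟶ d') (x : A.obj d) :
    p.app d' (A.map θ x) = B.map θ (p.app d x) :=
  ConcreteCategory.congr_hom (p.naturality θ) x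

/-- nondegenerate simplices map to nondegenerate simplices in a range where `p` is bijective -/
lemma nondeg_image (k : ℕ) (hinj : Function.Injective (p.app (op ⦋k⦌)))
    (hsurj : ∀ i, i < k → Function.Surjective (p.app (op ⦋i⦌)))
    (c : A _⦋k⦌) (hc : c ∈ A.nonDegenerate k) : p.app _ c ∈ B.nonDegenerate k := by
  intro hdeg
  apply hc
  obtain ⟨i, hi, f, e, he⟩ := hdeg
  obtain ⟨e', rfl⟩ := hsurj i hi e
  refine ⟨i, hi, f, e', ?_⟩
  apply hinj
  rw [app_map]
  exact he

lemma deg_unique (m : ℕ) (hbij : ∀ i, i < m → Function.Bijective (p.app (op ⦋i⦌)))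
    (x y : A _⦋m⦌) (hx : x ∈ A.degenerate m) (hy : y ∈ A.degenerate m)
    (h : p.app _ x = p.app _ y) : x = y := by
  obtain ⟨k₁, f₁, hf₁, c₁, rfl⟩ := A.exists_nonDegenerate x
  obtain ⟨k₂, f₂, hf₂, c₂, rfl⟩ := A.exists_nonDegenerate y
  have hk₁ : k₁ < m := by
    have h1 : k₁ ≤ m := SimplexCategory.len_le_of_epi f₁
    rcases Nat.lt_or_ge k₁ m with h2 | h2
    · exact h2
    · exfalso
      have h3 : k₁ = m := le_antisymm h1 h2
      subst h3
      have h4 : f₁ = 𝟙 _ := SimplexCategory.eq_id_of_epi f₁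
      subst h4
      apply c₁.2
      simpa using hx
  have hk₂ : k₂ < m := by
    have h1 : k₂ ≤ m := SimplexCategory.len_le_of_epi f₂
    rcases Nat.lt_or_ge k₂ m with h2 | h2
    · exact h2
    · exfalso
      have h3 : k₂ = m := le_antisymm h1 h2
      subst h3
      have h4 : f₂ = 𝟙 _ := SimplexCategory.eq_id_of_epi f₂
      subst h4
      apply c₂.2
      simpa using hy
  have hn₁ : p.app _ c₁.1 ∈ B.nonDegenerate k₁ :=
    nondeg_image p k₁ (hbij k₁ hk₁).1 (fun i hi => (hbij i (hi.trans hk₁)).2) c₁.1 c₁.2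
  have hn₂ : p.app _ c₂.1 ∈ B.nonDegenerate k₂ :=
    nondeg_image p k₂ (hbij k₂ hk₂).1 (fun i hi => (hbij i (hi.trans hk₂)).2) c₂.1 c₂.2
  have e₁ : p.app _ (A.map f₁.op c₁.1) = B.map f₁.op (p.app _ c₁.1) := app_map p _ _
  have e₂ : p.app _ (A.map f₁.op c₁.1) = B.map f₂.op (p.app _ c₂.1) :=
    h.trans (app_map p _ _)
  have hk : k₁ = k₂ := B.unique_nonDegenerate_dim _ f₁ ⟨_, hn₁⟩ e₁ f₂ ⟨_, hn₂⟩ e₂
  subst hk
  have hc := B.unique_nonDegenerate_simplex _ f₁ ⟨_, hn₁⟩ e₁ f₂ ⟨_, hn₂⟩ e₂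
  have hf := B.unique_nonDegenerate_map _ f₁ ⟨_, hn₁⟩ e₁ f₂ ⟨_, hn₂⟩ e₂
  subst hf
  have hc' : c₁.1 = c₂.1 := (hbij k₁ hk₁).1 (congrArg Subtype.val hc)
  rw [hc']

variable (n : ℕ)
  (hinj : ∀ i, i < n → Function.Injective (p.app (op ⦋i⦌)))
  (hsurj : ∀ i, i ≤ n → Function.Surjective (p.app (op ⦋i⦌)))

include hsurj in
lemma exists_goodLift (m : ℕ) (hm : m ≤ n) (b : B _⦋m⦌) :
    ∃ a : A _⦋m⦌, p.app _ a = b ∧ (b ∈ B.degenerate m → a ∈ A.degenerate m) := by
  by_cases hb : b ∈ B.degenerate m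
  · obtain ⟨i, hi, f, e, he⟩ := hb
    obtain ⟨e', rfl⟩ := hsurj i (hi.le.trans hm) e
    refine ⟨A.map f.op e', ?_, fun _ => ⟨i, hi, f, e', rfl⟩⟩
    rw [app_map]
    exact he
  · obtain ⟨a, ha⟩ := hsurj m hm b
    exact ⟨a, ha, fun h => absurd h hb⟩

/-- the chosen lift -/
noncomputable def tt (d : SimplexCategory.Truncated n) (b : B.obj (op d.obj)) : A.obj (op d.obj) :=
  Classical.choose (exists_goodLift p n hsurj d.obj.len d.property b)

lemma p_tt (d : SimplexCategory.Truncated n) (b : B.obj (op d.obj)) :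
    p.app _ (tt p n hsurj d b) = b :=
  (Classical.choose_spec (exists_goodLift p n hsurj d.obj.len d.property b)).1

lemma tt_deg (d : SimplexCategory.Truncated n) (b : B.obj (op d.obj))
    (hb : b ∈ B.degenerate d.obj.len) : tt p n hsurj d b ∈ A.degenerate d.obj.len :=
  (Classical.choose_spec (exists_goodLift p n hsurj d.obj.len d.property b)).2 hb

/-- the naturality property -/
def W : MorphismProperty (SimplexCategory.Truncated n) := fun d' d θ =>
  ∀ b : B.obj (op d.obj), A.map θ.hom.op (tt p n hsurj d b) = tt p n hsurj d' (B.map θ.hom.op b)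

instance : (W p n hsurj).IsMultiplicative where
  id_mem d := by
    intro b
    show A.map (𝟙 _) _ = tt p n hsurj d (B.map (𝟙 _) b)
    rw [A.map_id, B.map_id]
    rfl
  comp_mem {d'' d' d} θ' θ h' h := by
    intro b
    show A.map (θ'.hom ≫ θ.hom).op _ = tt p n hsurj d'' (B.map (θ'.hom ≫ θ.hom).op b)
    rw [op_comp, A.map_comp, B.map_comp]
    exact (congrArg (A.map θ'.hom.op) (h b)).trans (h' _)

include hinj in
lemma W_eq_top : W p n hsurj = ⊤ := by
  apply SimplexCategory.Truncated.morphismProperty_eq_top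
  · intro m hm i b
    apply hinj m hm
    refine (app_map p _ _).trans ?_
    refine (congrArg _ (p_tt p n hsurj _ b)).trans ?_
    exact (p_tt p n hsurj ⟨⦋m⦌, by simp; omega⟩ _).symm
  · intro m hm i b
    have hbij : ∀ i, i < m + 1 → Function.Bijective (p.app (op ⦋i⦌)) := fun i hi =>
      ⟨hinj i (by omega), hsurj i (by omega)⟩
    apply deg_unique p (m + 1) hbij
    · exact A.σ_mem_degenerate i _
    · exact tt_deg p n hsurj ⟨⦋m + 1⦌, by simp; omega⟩ _ (B.σ_mem_degenerate i b)
    · refine (app_map p _ _).trans ?_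
      refine (congrArg _ (p_tt p n hsurj _ b)).trans ?_
      exact (p_tt p n hsurj ⟨⦋m + 1⦌, by simp; omega⟩ _).symm

include hinj in
lemma tt_natural {d' d : SimplexCategory.Truncated n} (θ : d' ⟶ d) (b : B.obj (op d.obj)) :
    A.map θ.hom.op (tt p n hsurj d b) = tt p n hsurj d' (B.map θ.hom.op b) := by
  have : W p n hsurj θ := by
    rw [W_eq_top p n hinj hsurj]
    trivial
  exact this b

/-- the truncated section -/
noncomputable def tsec : (SimplexCategory.Truncated.inclusion n).op ⋙ B ⟶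
    (SimplexCategory.Truncated.inclusion n).op ⋙ A where
  app k := ↾(tt p n hsurj k.unop)
  naturality k k' φ := by
    ext b
    exact (tt_natural p n hinj hsurj φ.unop b).symm

section Sec

variable [SimplicialObject.IsCoskeletal A n]

/-- the section -/
noncomputable def sec : B ⟶ A :=
  Functor.liftOfIsRightKanExtension A (𝟙 ((SimplexCategory.Truncated.inclusion n).op ⋙ A)) B
    (tsec p n hinj hsurj)

lemma sec_app (k : (SimplexCategory.Truncated n)ᵒᵖ) :
    (sec p n hinj hsurj).app ((SimplexCategory.Truncated.inclusion n).op.obj k) =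
      (tsec p n hinj hsurj).app k := by
  have := Functor.liftOfIsRightKanExtension_fac_app A
    (𝟙 ((SimplexCategory.Truncated.inclusion n).op ⋙ A)) B (tsec p n hinj hsurj) k
  exact (Category.comp_id _).symm.trans this

lemma sec_p {D : SSet.{u}} [SimplicialObject.IsCoskeletal D n] (j : B ⟶ D)
    (hj : ∀ m, Function.Injective (j.app m)) : sec p n hinj hsurj ≫ p = 𝟙 B := by
  have h : (sec p n hinj hsurj ≫ p) ≫ j = 𝟙 B ≫ j := by
    apply Functor.hom_ext_of_isRightKanExtension D
      (𝟙 ((SimplexCategory.Truncated.inclusion n).op ⋙ D))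
    ext k b
    simp only [Functor.whiskerLeft_app, NatTrans.comp_app, NatTrans.id_app]
    rw [sec_app]
    show j.app _ (p.app _ (tt p n hsurj k.unop b)) = j.app _ b
    rw [p_tt]
    rfl
  ext m b
  apply hj m
  exact ConcreteCategory.congr_hom (NatTrans.congr_app h m) b

end Sec

section Htpy

universe v' u'

variable {E : Type u'} [Category.{v'} E] [HasFiniteLimits E] (n : ℕ)
  [∀ (F : (SimplexCategory.Truncated n)ᵒᵖ ⥤ E),
    (SimplexCategory.Truncated.inclusion n).op.HasRightKanExtension F]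
  {X X' : SimplicialObject E} (f g : X ⟶ X')
  [IsIso ((SimplicialObject.coskAdj n).unit.app X')]
  (hfg : ∀ p : ℕ, p < n → f.app (op ⦋p⦌) = g.app (op ⦋p⦌))

include hfg in
theorem nonempty_homotopy : Nonempty (SimplicialObject.Homotopy f g) := by
  have hf : f = (SimplicialObject.coskAdj n).unit.app X ≫ (SimplicialObject.cosk n).map f ≫
      inv ((SimplicialObject.coskAdj n).unit.app X') := by
    rw [← Category.assoc, IsIso.eq_comp_inv]
    exact (SimplicialObject.coskAdj n).unit.naturality f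
  have hg : g = (SimplicialObject.coskAdj n).unit.app X ≫ (SimplicialObject.cosk n).map g ≫
      inv ((SimplicialObject.coskAdj n).unit.app X') := by
    rw [← Category.assoc, IsIso.eq_comp_inv]
    exact (SimplicialObject.coskAdj n).unit.naturality g
  rw [hf, hg]
  exact ⟨((CoskHtpyE.homotopy n f g hfg).postcomp
    (inv ((SimplicialObject.coskAdj n).unit.app X'))).precomp
      ((SimplicialObject.coskAdj n).unit.app X)⟩

end Htpy

section Main

variable [SimplicialObject.IsCoskeletal A n]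

include hinj in
lemma p_sec_app_lt (i : ℕ) (hi : i < n) :
    (p ≫ sec p n hinj hsurj).app (op ⦋i⦌) = (𝟙 A : A ⟶ A).app (op ⦋i⦌) := by
  ext a
  apply hinj i hi
  have h1 := sec_app p n hinj hsurj (op ⟨⦋i⦌, by simp; omega⟩)
  show p.app _ ((sec p n hinj hsurj).app _ (p.app _ a)) = p.app _ a
  have h2 : (sec p n hinj hsurj).app (op ⦋i⦌) (p.app _ a) =
      tt p n hsurj ⟨⦋i⦌, by simp; omega⟩ (p.app _ a) := ConcreteCategory.congr_hom h1 _
  rw [h2]
  exact p_tt p n hsurj ⟨⦋i⦌, by simp; omega⟩ _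

include hinj hsurj in
theorem main {D : SSet.{u}} [SimplicialObject.IsCoskeletal D n] (j : B ⟶ D)
    (hj : ∀ m, Function.Injective (j.app m)) :
    ∃ s : B ⟶ A, s ≫ p = 𝟙 B ∧ Nonempty (SimplicialObject.Homotopy (p ≫ s) (𝟙 A)) := by
  refine ⟨sec p n hinj hsurj, sec_p p n hinj hsurj j hj, ?_⟩
  haveI : ∀ (F : (SimplexCategory.Truncated n)ᵒᵖ ⥤ Type u),
      (SimplexCategory.Truncated.inclusion n).op.HasRightKanExtension F := fun F => by
    have := Groth.Agent.S6800.result n F
    infer_instance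
  haveI : IsIso ((SimplicialObject.coskAdj n).unit.app A) :=
    (SimplicialObject.isCoskeletal_iff_isIso A n).1 inferInstance
  exact nonempty_homotopy n _ _ (p_sec_app_lt p n hinj hsurj)

end Main

end Groth.Agent.Lib.Helper4.SSetSec
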