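import Mathlib.Tactic
import Mathlib.AlgebraicTopology.AlternatingFaceMapComplex
import Groth.Agent.Lib.Helper4.SSetSec
import Groth.Agent.Lib.Helper4.CoskComp
import Groth.Agent.Lib.Helper4.SPshImage
import Groth.Agent.Lib.Helper4.FreeLocBij
import Groth.Agent.Lib.Helper4.HtpyQI

namespace Groth.Agent.Lib.Helper4.HyperQI

open CategoryTheory CategoryTheory.Limits Opposite Simplicial
open Groth.Agent.Lib.Helper4.SPshImage Groth.Agent.Lib.Helper4.FreeLocBij

universe u

variable {C : Type u} [SmallCategory C] {L K : SimplicialObject (Cᵒᵖ ⥤ Type u)} (f : L ⟶ K) (n : ℕ)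

/-- evaluation on presheaves of sets -/
abbrev evT (U : Cᵒᵖ) : (Cᵒᵖ ⥤ Type u) ⥤ Type u := (evaluation Cᵒᵖ (Type u)).obj U

/-- evaluation on presheaves of abelian groups -/
abbrev evA (U : Cᵒᵖ) : (Cᵒᵖ ⥤ AddCommGrpCat.{u}) ⥤ AddCommGrpCat.{u} :=
  (evaluation Cᵒᵖ AddCommGrpCat.{u}).obj U

lemma quasiIso_of_functor_eq {D : Type*} [Category D] {ι : Type*} {c : ComplexShape ι}
    {E : Type*} [Category E] [Abelian E]
    {F F' : D ⥤ HomologicalComplex E c} (h : F = F') {x y : D} (g : x ⟶ y)
    (hq : QuasiIso (F'.map g)) : QuasiIso (F.map g) := by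
  subst h
  exact hq

section Sect

variable [∀ (F : (SimplexCategory.Truncated n)ᵒᵖ ⥤ (Cᵒᵖ ⥤ Type u)),
      (SimplexCategory.Truncated.inclusion n).op.HasRightKanExtension F]
  (h1 : ∀ i : ℕ, i < n → IsIso (f.app (op (SimplexCategory.mk i))))
  (h3 : IsIso ((SimplicialObject.coskAdj n).unit.app L))
  (h4 : IsIso ((SimplicialObject.coskAdj n).unit.app K))

include h1 h3 h4 in
lemma sect (U : Cᵒᵖ) :
    ∃ s : (K' f n ⋙ evT U) ⟶ (L ⋙ evT U),
      s ≫ Functor.whiskerRight (q f n) (evT U) = 𝟙 _ ∧
      Nonempty (SimplicialObject.Homotopy (Functor.whiskerRight (q f n) (evT U) ≫ s) (𝟙 _)) := by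
  haveI : SimplicialObject.IsCoskeletal (L ⋙ evT U) n :=
    Groth.Agent.Lib.Helper4.CoskComp.isIso_unit_comp (evT U) n L h3
  haveI : SimplicialObject.IsCoskeletal (K ⋙ evT U) n :=
    Groth.Agent.Lib.Helper4.CoskComp.isIso_unit_comp (evT U) n K h4
  have hbij : ∀ i, i < n → Function.Bijective ((f.app (op ⦋i⦌)).app U) := by
    intro i hi
    have := h1 i hi
    have : IsIso ((f.app (op ⦋i⦌)).app U) := inferInstance
    exact (isIso_iff_bijective _).1 this
  refine Groth.Agent.Lib.Helper4.SSetSec.main (A := (L ⋙ evT U : SSet.{u}))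
    (B := (K' f n ⋙ evT U : SSet.{u})) (Functor.whiskerRight (q f n) (evT U)) n ?_ ?_
    (D := (K ⋙ evT U : SSet.{u})) (Functor.whiskerRight (ι f n) (evT U)) ?_
  · intro i hi
    exact q_injective f n _ U (hbij i hi).1
  · intro i hi
    rcases Nat.lt_or_ge i n with h | h
    · exact q_surjective f n _ U (hbij i h).2
    · have : i = n := le_antisymm hi h
      subst this
      exact q_surjective_n f i U
  · intro m
    exact ι_injective f n m U

include h1 h3 h4 in
lemma sectQI (U : Cᵒᵖ) :
    QuasiIso ((AlgebraicTopology.alternatingFaceMapComplex AddCommGrpCat.{u}).map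
      (((SimplicialObject.whiskering (Type u) AddCommGrpCat.{u}).obj AddCommGrpCat.free.{u}).map
        (Functor.whiskerRight (q f n) (evT U)))) := by
  obtain ⟨s, hs, ⟨H⟩⟩ := sect f n h1 h3 h4 U
  have H' := H.whiskerRight AddCommGrpCat.free.{u}
  rw [Functor.map_comp, CategoryTheory.Functor.map_id] at H'
  refine Groth.Agent.Lib.Helper4.HtpyQI.quasiIso _
    (((SimplicialObject.whiskering (Type u) AddCommGrpCat.{u}).obj AddCommGrpCat.free.{u}).map s)
    ?_ H'
  rw [← Functor.map_comp, hs, CategoryTheory.Functor.map_id]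

include h1 h3 h4 in
lemma pshQI :
    QuasiIso ((AlgebraicTopology.alternatingFaceMapComplex (Cᵒᵖ ⥤ AddCommGrpCat.{u})).map
      (Functor.whiskerRight (q f n) freePsh)) := by
  apply Groth.Agent.Lib.Helper4.HtpyQI.quasiIso_of_sectionwise
  intro U
  exact quasiIso_of_functor_eq
    (AlgebraicTopology.map_alternatingFaceMapComplex (evA U))
    (Functor.whiskerRight (q f n) freePsh) (sectQI f n h1 h3 h4 U)

variable (J : GrothendieckTopology C)

include h1 h3 h4 in
lemma shQI_q :
    QuasiIso ((AlgebraicTopology.alternatingFaceMapComplex (Sheaf J AddCommGrpCat.{u})).map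
      (Functor.whiskerRight (q f n) (freePsh ⋙ presheafToSheaf J AddCommGrpCat.{u}))) := by
  haveI := pshQI f n h1 h3 h4
  have h := quasiIso_of_functor_eq
    (AlgebraicTopology.map_alternatingFaceMapComplex (presheafToSheaf J AddCommGrpCat.{u})).symm
    (Functor.whiskerRight (q f n) freePsh) (by
      show QuasiIso (((presheafToSheaf J AddCommGrpCat.{u}).mapHomologicalComplex _).map _)
      infer_instance)
  exact h

omit [∀ (F : (SimplexCategory.Truncated n)ᵒᵖ ⥤ (Cᵒᵖ ⥤ Type u)),
      (SimplexCategory.Truncated.inclusion n).op.HasRightKanExtension F] in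
lemma isIso_ι (h2 : Presheaf.IsLocallySurjective J (f.app (op (SimplexCategory.mk n)))) :
    IsIso (Functor.whiskerRight (ι f n) (freePsh ⋙ presheafToSheaf J AddCommGrpCat.{u})) := by
  rw [NatTrans.isIso_iff_isIso_app]
  intro m
  haveI := ι_locallySurjective f n J h2 m
  exact isIso_sheafify_free J ((ι f n).app m) (fun U => ι_injective f n m U)

include h1 h3 h4 in
theorem main6529 (h2 : Presheaf.IsLocallySurjective J (f.app (op (SimplexCategory.mk n))))
    (i : ℕ) :
    IsIso (HomologicalComplex.homologyMap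
      ((AlgebraicTopology.alternatingFaceMapComplex (Sheaf J AddCommGrpCat.{u})).map
        (Functor.whiskerRight f (freePsh ⋙ presheafToSheaf J AddCommGrpCat.{u}))) i) := by
  have hf : Functor.whiskerRight f (freePsh ⋙ presheafToSheaf J AddCommGrpCat.{u}) =
      Functor.whiskerRight (q f n) (freePsh ⋙ presheafToSheaf J AddCommGrpCat.{u}) ≫
      Functor.whiskerRight (ι f n) (freePsh ⋙ presheafToSheaf J AddCommGrpCat.{u}) := by
    rw [← Functor.whiskerRight_comp, q_ι]
  rw [hf, Functor.map_comp, HomologicalComplex.homologyMap_comp]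
  haveI := shQI_q f n h1 h3 h4 J
  haveI := isIso_ι f n J h2
  haveI : IsIso (HomologicalComplex.homologyMap
      ((AlgebraicTopology.alternatingFaceMapComplex (Sheaf J AddCommGrpCat.{u})).map
        (Functor.whiskerRight (q f n) (freePsh ⋙ presheafToSheaf J AddCommGrpCat.{u}))) i) := by
    rw [← quasiIsoAt_iff_isIso_homologyMap]
    exact (quasiIso_iff _).1 (shQI_q f n h1 h3 h4 J) i
  infer_instance

end Sect

end Groth.Agent.Lib.Helper4.HyperQI
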