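import Mathlib.Tactic
import Mathlib.CategoryTheory.Sites.Grothendieck
import Groth.Prelude.Def_Hyper

namespace Groth.Agent.Lib.Helper4.SRCov

open CategoryTheory CategoryTheory.Limits Opposite

universe u

variable {C : Type u} [SmallCategory C] (J : GrothendieckTopology C)

/-- the sieve attached to `f` over index `j` -/
abbrev srSieve {K L : FormalCoproduct.{u} C} (f : K ⟶ L) (j : L.I) : Sieve (L.obj j) :=
  Sieve.ofArrows (fun i : {i : K.I // f.f i = j} => K.obj i.1)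
      (fun i => f.φ i.1 ≫ eqToHom (congrArg L.obj i.2))

lemma isSRCovering_iff {K L : FormalCoproduct.{u} C} (f : K ⟶ L) :
    Hyper.IsSRCovering J f ↔ ∀ j, srSieve f j ∈ J (L.obj j) := Iff.rfl

lemma mem_srSieve {K L : FormalCoproduct.{u} C} (f : K ⟶ L) (i : K.I) {W : C}
    (a : W ⟶ K.obj i) : srSieve f (f.f i) (a ≫ f.φ i) := by
  rw [Sieve.mem_ofArrows_iff]
  exact ⟨⟨i, rfl⟩, a, by simp⟩

lemma srSieve_exists {K L : FormalCoproduct.{u} C} (f : K ⟶ L) (j : L.I) {W : C}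
    (h : W ⟶ L.obj j) (hh : srSieve f j h) :
    ∃ (i : K.I) (hi : f.f i = j) (a : W ⟶ K.obj i), h = a ≫ f.φ i ≫ eqToHom (congrArg L.obj hi) := by
  rw [Sieve.mem_ofArrows_iff] at hh
  obtain ⟨⟨i, hi⟩, a, ha⟩ := hh
  exact ⟨i, hi, a, ha⟩

theorem comp {K L M : FormalCoproduct.{u} C} (f : K ⟶ L) (g : L ⟶ M)
    (hf : Hyper.IsSRCovering J f) (hg : Hyper.IsSRCovering J g) :
    Hyper.IsSRCovering J (f ≫ g) := by
  intro m
  refine J.transitive (hg m) _ ?_
  intro Y a ha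
  obtain ⟨l, hl, b, rfl⟩ := srSieve_exists g m a ha
  subst hl
  refine J.superset_covering ?_ (J.pullback_stable b (hf l))
  intro Z c hc
  obtain ⟨k, hk, d, hd⟩ := srSieve_exists f l _ hc
  subst hk
  change srSieve (f ≫ g) _ _
  have : c ≫ b ≫ g.φ (f.f k) ≫ eqToHom rfl = d ≫ (f ≫ g).φ k := by
    simp only [eqToHom_refl, Category.comp_id] at hd ⊢
    rw [← Category.assoc, hd]
    simp
  rw [this]
  exact mem_srSieve (f ≫ g) k d


theorem of_iso {K L : FormalCoproduct.{u} C} (e : K ≅ L) : Hyper.IsSRCovering J e.hom := by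
  intro j
  obtain ⟨h₁, h₂⟩ := (FormalCoproduct.hom_ext_iff' (e.inv ≫ e.hom) (𝟙 L)).1 e.inv_hom_id j
  have h₁' : e.hom.f (e.inv.f j) = j := h₁
  have h₂' : e.inv.φ j ≫ e.hom.φ (e.inv.f j) ≫ eqToHom (congrArg L.obj h₁') = 𝟙 (L.obj j) := by
    simpa using h₂
  have hmem : srSieve e.hom j (𝟙 (L.obj j)) := by
    rw [Sieve.mem_ofArrows_iff]
    exact ⟨⟨e.inv.f j, h₁'⟩, e.inv.φ j, h₂'.symm⟩
  have : srSieve e.hom j = ⊤ := (Sieve.id_mem_iff_eq_top).1 hmem
  change srSieve e.hom j ∈ J _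
  rw [this]
  exact J.top_mem _

variable [HasPullbacks C]

theorem pullbackCone_fst {K L L' : FormalCoproduct.{u} C} (f : K ⟶ L) (g : L' ⟶ L)
    (hf : Hyper.IsSRCovering J f) :
    Hyper.IsSRCovering J
      (FormalCoproduct.pullbackCone g f (fun _ => pullback.cone _ _)).fst := by
  intro j'
  refine J.superset_covering ?_ (J.pullback_stable (g.φ j') (hf (g.f j')))
  intro Z c hc
  obtain ⟨k, hk, d, hd⟩ := srSieve_exists f (g.f j') _ hc
  change srSieve _ _ _
  rw [Sieve.mem_ofArrows_iff]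
  have hd' : c ≫ g.φ j' ≫ eqToHom (congrArg L.obj hk.symm) = d ≫ f.φ k := by
    rw [← Category.assoc, hd]
    simp
  refine ⟨⟨⟨(j', k), hk.symm⟩, rfl⟩, pullback.lift c d hd', ?_⟩
  show c = pullback.lift c d hd' ≫
    pullback.fst (g.φ j' ≫ eqToHom (congrArg L.obj hk.symm)) (f.φ k) ≫ 𝟙 (L'.obj j')
  rw [Category.comp_id, pullback.lift_fst]

theorem pullback_fst {K L L' : FormalCoproduct.{u} C} (f : K ⟶ L) (g : L' ⟶ L)
    (hf : Hyper.IsSRCovering J f) [HasPullback g f] :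
    Hyper.IsSRCovering J (pullback.fst g f) := by
  let hQ := FormalCoproduct.isLimitPullbackCone g f (fun _ => pullback.cone _ _)
    (fun _ => pullback.isLimit _ _)
  let e := (limit.isLimit (cospan g f)).conePointUniqueUpToIso hQ
  have : pullback.fst g f = e.hom ≫
      (FormalCoproduct.pullbackCone g f (fun _ => pullback.cone _ _)).fst :=
    ((limit.isLimit (cospan g f)).conePointUniqueUpToIso_hom_comp hQ WalkingCospan.left).symm
  rw [this]
  exact comp J _ _ (of_iso J e) (pullbackCone_fst J f g hf)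

theorem main0898 :
    (∀ {K L M : FormalCoproduct.{u} C} (f : K ⟶ L) (g : L ⟶ M),
      Hyper.IsSRCovering J f → Hyper.IsSRCovering J g → Hyper.IsSRCovering J (f ≫ g)) ∧
    (∀ {K L L' : FormalCoproduct.{u} C} (f : K ⟶ L) (g : L' ⟶ L),
      Hyper.IsSRCovering J f → HasPullback g f ∧
        ∀ [HasPullback g f], Hyper.IsSRCovering J (pullback.fst g f)) :=
  ⟨fun f g hf hg => comp J f g hf hg,
   fun f g hf => ⟨inferInstance, pullback_fst J f g hf⟩⟩

end Groth.Agent.Lib.Helper4.SRCov
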