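import Mathlib.Tactic
import Mathlib.AlgebraicTopology.SimplicialObject.Coskeletal
import Mathlib.CategoryTheory.Limits.Preserves.FunctorCategory
import Groth.Agent.Lib.Helper4.SRCov

namespace Groth.Agent.Lib.Helper4.HyperPB

open CategoryTheory CategoryTheory.Limits Opposite Groth.Agent.Lib.Helper4.SRCov

universe u

section Abstract

variable {C : Type u} [SmallCategory C] [HasPullbacks C] (J : GrothendieckTopology C)

/-- base change in `IsPullback` form -/
theorem cov_of_isPullback {K L L' P : FormalCoproduct.{u} C} {fst : P ⟶ L'} {snd : P ⟶ K}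
    {g : L' ⟶ L} {f : K ⟶ L} (h : IsPullback fst snd g f) (hf : Hyper.IsSRCovering J f) :
    Hyper.IsSRCovering J fst := by
  have : fst = h.isoPullback.hom ≫ pullback.fst g f := (h.isoPullback_hom_fst).symm
  rw [this]
  exact comp J _ _ (of_iso J _) (pullback_fst J f g hf)

variable {Kn Ln Mn Pn cK cL cM cP : FormalCoproduct.{u} C}
  {a : Kn ⟶ Ln} {b : Mn ⟶ Ln} {p1 : Pn ⟶ Kn} {p2 : Pn ⟶ Mn}
  {ca : cK ⟶ cL} {cb : cM ⟶ cL} {cp1 : cP ⟶ cK} {cp2 : cP ⟶ cM}
  {uK : Kn ⟶ cK} {uL : Ln ⟶ cL} {uM : Mn ⟶ cM} {uP : Pn ⟶ cP}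

theorem paste (hP : IsPullback p1 p2 a b) (hcP : IsPullback cp1 cp2 ca cb)
    (nK : uK ≫ ca = a ≫ uL) (nM : uM ≫ cb = b ≫ uL)
    (nP1 : uP ≫ cp1 = p1 ≫ uK) (nP2 : uP ≫ cp2 = p2 ≫ uM)
    (hK : Hyper.IsSRCovering J uK)
    (hγ : ∀ (Q : FormalCoproduct.{u} C) (q1 : Q ⟶ Ln) (q2 : Q ⟶ cM) (γ : Mn ⟶ Q),
      IsPullback q1 q2 uL cb → γ ≫ q1 = b → γ ≫ q2 = uM → Hyper.IsSRCovering J γ) :
    Hyper.IsSRCovering J uP := by
  -- Q
  let q1 := pullback.fst uL cb
  let q2 := pullback.snd uL cb
  have hQ : IsPullback q1 q2 uL cb := IsPullback.of_hasPullback uL cb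
  let γ : Mn ⟶ pullback uL cb := pullback.lift b uM nM.symm
  have γ1 : γ ≫ q1 = b := pullback.lift_fst _ _ _
  have γ2 : γ ≫ q2 = uM := pullback.lift_snd _ _ _
  have hγ' : Hyper.IsSRCovering J γ := hγ _ q1 q2 γ hQ γ1 γ2
  -- R
  let r1 := pullback.fst a q1
  let r2 := pullback.snd a q1
  have hR : IsPullback r1 r2 a q1 := IsPullback.of_hasPullback a q1
  let φ : Pn ⟶ pullback a q1 := pullback.lift p1 (p2 ≫ γ) (by rw [Category.assoc, γ1]; exact hP.w)
  have φ1 : φ ≫ r1 = p1 := pullback.lift_fst _ _ _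
  have φ2 : φ ≫ r2 = p2 ≫ γ := pullback.lift_snd _ _ _
  have hφ : IsPullback φ p2 r2 γ := by
    refine IsPullback.of_right ?_ φ2 hR
    rw [φ1, γ1]
    exact hP
  have covφ : Hyper.IsSRCovering J φ := cov_of_isPullback J hφ hγ'
  -- ψ
  have wψ : (r1 ≫ uK) ≫ ca = (r2 ≫ q2) ≫ cb := by
    rw [Category.assoc, nK, ← Category.assoc, hR.w, Category.assoc, Category.assoc, hQ.w]
  let ψ : pullback a q1 ⟶ cP := hcP.lift (r1 ≫ uK) (r2 ≫ q2) wψ
  have ψ1 : ψ ≫ cp1 = r1 ≫ uK := hcP.lift_fst _ _ _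
  have ψ2 : ψ ≫ cp2 = r2 ≫ q2 := hcP.lift_snd _ _ _
  have hψ : IsPullback ψ r1 cp1 uK := by
    refine IsPullback.of_right ?_ ψ1 hcP.flip
    rw [ψ2, nK]
    exact (hR.flip.paste_horiz hQ.flip)
  have covψ : Hyper.IsSRCovering J ψ := cov_of_isPullback J hψ hK
  have : uP = φ ≫ ψ := by
    apply hcP.hom_ext
    · rw [nP1, Category.assoc, ψ1, ← Category.assoc, φ1]
    · rw [nP2, Category.assoc, ψ2, ← Category.assoc, φ2, Category.assoc, γ2]
  rw [this]
  exact comp J _ _ covφ covψ

end Abstract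



section Level0

variable {C : Type u} [SmallCategory C] (J : GrothendieckTopology C) (X : C)

/-- `T` covers `X` -/
def Covers (T : FormalCoproduct.{u} (Over X)) : Prop :=
  Sieve.ofArrows (fun i => (T.obj i).left) (fun i => (T.obj i).hom) ∈ J X

theorem covers_of_srCovering {T' T : FormalCoproduct.{u} (Over X)} (f : T' ⟶ T)
    (hf : Hyper.IsSRCovering (J.over X) f) (hT : Covers J X T) : Covers J X T' := by
  refine J.transitive hT _ ?_
  intro Y g hg
  rw [Sieve.mem_ofArrows_iff] at hg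
  obtain ⟨i, c, rfl⟩ := hg
  have h1 : Sieve.overEquiv _ (srSieve f i) ∈ J (T.obj i).left :=
    (GrothendieckTopology.mem_over_iff J _).1 (hf i)
  refine J.superset_covering ?_ (J.pullback_stable c h1)
  intro Z d hd
  have hd' : Sieve.overEquiv _ (srSieve f i) (d ≫ c) := hd
  rw [Sieve.overEquiv_iff] at hd'
  obtain ⟨k, hk, a', ha'⟩ := srSieve_exists f i _ hd'
  change Sieve.ofArrows _ _ (d ≫ c ≫ (T.obj i).hom)
  rw [Sieve.mem_ofArrows_iff]
  refine ⟨k, a'.left, ?_⟩
  have := Over.w a'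
  simp only [Over.mk_hom] at this
  rw [this, Category.assoc]

end Level0

section Simp

variable {C : Type u} [SmallCategory C] [HasPullbacks C] (J : GrothendieckTopology C) (X : C)

abbrev E (X : C) := FormalCoproduct.{u} (Over X)

instance : HasPullbacks (E X) := inferInstance

variable [∀ (n : ℕ) (F : (SimplexCategory.Truncated n)ᵒᵖ ⥤ FormalCoproduct.{u} (Over X)),
      (SimplexCategory.Truncated.inclusion n).op.HasRightKanExtension F]

omit [∀ (n : ℕ) (F : (SimplexCategory.Truncated n)ᵒᵖ ⥤ FormalCoproduct.{u} (Over X)),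
      (SimplexCategory.Truncated.inclusion n).op.HasRightKanExtension F] in
theorem isPullback_eval {K L M P : SimplicialObject (E X)} {a : K ⟶ L} {b : M ⟶ L}
    {p1 : P ⟶ K} {p2 : P ⟶ M} (hP : IsPullback p1 p2 a b) (m : SimplexCategoryᵒᵖ) :
    IsPullback (p1.app m) (p2.app m) (a.app m) (b.app m) :=
  hP.map ((evaluation _ _).obj m)

theorem isPullback_cosk {K L M P : SimplicialObject (E X)} {a : K ⟶ L} {b : M ⟶ L}
    {p1 : P ⟶ K} {p2 : P ⟶ M} (hP : IsPullback p1 p2 a b) (n : ℕ) :
    IsPullback ((SimplicialObject.truncation n ⋙ SimplicialObject.Truncated.cosk n).map p1)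
      ((SimplicialObject.truncation n ⋙ SimplicialObject.Truncated.cosk n).map p2)
      ((SimplicialObject.truncation n ⋙ SimplicialObject.Truncated.cosk n).map a)
      ((SimplicialObject.truncation n ⋙ SimplicialObject.Truncated.cosk n).map b) := by
  have : PreservesLimitsOfShape WalkingCospan (SimplicialObject.truncation (C := E X) n) :=
    inferInstanceAs (PreservesLimitsOfShape WalkingCospan
      ((Functor.whiskeringLeft _ _ _).obj (SimplexCategory.Truncated.inclusion n).op))
  have h1 : IsPullback ((SimplicialObject.truncation n).map p1)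
      ((SimplicialObject.truncation n).map p2) ((SimplicialObject.truncation n).map a)
      ((SimplicialObject.truncation n).map b) := hP.map (SimplicialObject.truncation n)
  have : (SimplicialObject.Truncated.cosk (C := E X) n).IsRightAdjoint :=
    (SimplicialObject.coskAdj n).isRightAdjoint
  exact h1.map (SimplicialObject.Truncated.cosk n)

theorem main6535
    {K L M P : SimplicialObject (FormalCoproduct.{u} (Over X))} (a : K ⟶ L) (b : M ⟶ L)
    (p1 : P ⟶ K) (p2 : P ⟶ M) (hP : IsPullback p1 p2 a b)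
    (hK : Hyper.IsHypercovering J X K)
    (h0 : Hyper.IsSRCovering (J.over X) (b.app (op (SimplexCategory.mk 0))))
    (hγ : ∀ (n : ℕ) (Q : FormalCoproduct.{u} (Over X))
      (q1 : Q ⟶ L.obj (op (SimplexCategory.mk (n + 1))))
      (q2 : Q ⟶ ((SimplicialObject.truncation n ⋙ SimplicialObject.Truncated.cosk n).obj M).obj
        (op (SimplexCategory.mk (n + 1))))
      (γ : M.obj (op (SimplexCategory.mk (n + 1))) ⟶ Q),
      IsPullback q1 q2 (((SimplicialObject.coskAdj n).unit.app L).app (op (SimplexCategory.mk (n + 1))))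
        (((SimplicialObject.truncation n ⋙ SimplicialObject.Truncated.cosk n).map b).app
          (op (SimplexCategory.mk (n + 1)))) →
      γ ≫ q1 = b.app (op (SimplexCategory.mk (n + 1))) →
      γ ≫ q2 = ((SimplicialObject.coskAdj n).unit.app M).app (op (SimplexCategory.mk (n + 1))) →
      Hyper.IsSRCovering (J.over X) γ) :
    Hyper.IsHypercovering J X P := by
  refine ⟨?_, ?_⟩
  · have h1 := isPullback_eval X hP (op (SimplexCategory.mk 0))
    exact covers_of_srCovering J X _ (cov_of_isPullback (J.over X) h1 h0) hK.1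
  · intro n
    have e1 := isPullback_eval X hP (op (SimplexCategory.mk (n + 1)))
    have e2 := isPullback_eval X (isPullback_cosk X hP n) (op (SimplexCategory.mk (n + 1)))
    refine paste (J.over X) e1 e2 ?_ ?_ ?_ ?_ (hK.2 n) (hγ n)
    · exact (NatTrans.congr_app ((SimplicialObject.coskAdj n).unit.naturality a) _).symm
    · exact (NatTrans.congr_app ((SimplicialObject.coskAdj n).unit.naturality b) _).symm
    · exact (NatTrans.congr_app ((SimplicialObject.coskAdj n).unit.naturality p1) _).symm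
    · exact (NatTrans.congr_app ((SimplicialObject.coskAdj n).unit.naturality p2) _).symm

end Simp

end Groth.Agent.Lib.Helper4.HyperPB
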