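import Mathlib.Tactic
import Groth.Agent.Lib.Helper4.CoskUP
import Groth.Agent.Lib.Helper4.HyperPB

namespace Groth.Agent.Lib.Helper4.PairLift

open CategoryTheory CategoryTheory.Limits Opposite Simplicial Groth.Agent.Lib.Helper4.SRCov

universe u

instance {C : Type u} [SmallCategory C] [HasPullbacks C] (X : C) :
    HasFiniteLimits (FormalCoproduct.{u} (Over X)) :=
  hasFiniteLimits_of_hasTerminal_and_pullbacks

variable {D : Type u} [SmallCategory D]

variable (K : SimplicialObject (FormalCoproduct.{u} D)) {T : FormalCoproduct.{u} D}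
  (s t : T ⟶ K.obj (op ⦋0⦌))

/-- pick `s` or `t` depending on a vertex of `Δ[1]` -/
def pick (v : Fin 2) : T ⟶ K.obj (op ⦋0⦌) := if v = 0 then s else t

lemma len_eq_zero (k : SimplexCategory.Truncated 0) : k.obj.len = 0 := Nat.le_zero.1 k.property

lemma vertex_eq {k : SimplexCategory.Truncated 0} (a b : Fin (k.obj.len + 1)) : a = b := by
  have h := len_eq_zero k
  apply Fin.ext
  have := a.isLt
  have := b.isLt
  omega

lemma const_unique {a : SimplexCategory} (f g : a ⟶ ⦋0⦌) : f = g :=
  SimplexCategory.isTerminalZero.hom_ext f g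

/-- the cone over the index category of `(cosk_0 K)_1` given by a pair `s, t`. -/
noncomputable def pairCone : Cone (StructuredArrow.proj (op ⦋1⦌)
    (SimplexCategory.Truncated.inclusion 0).op ⋙ (SimplicialObject.truncation 0).obj K) where
  pt := T
  π :=
    { app := fun A => pick K s t (A.hom.unop.toOrderHom 0) ≫
        K.map (SimplexCategory.const A.right.unop.obj ⦋0⦌ 0).op
      naturality := by
        intro A A' φ
        have hv : A'.hom.unop.toOrderHom 0 = A.hom.unop.toOrderHom 0 := by
          have hw := StructuredArrow.w φ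
          have hw' : A'.hom.unop = ((SimplexCategory.Truncated.inclusion 0).op.map φ.right).unop ≫
              A.hom.unop := by
            rw [← hw]; rfl
          rw [hw']
          change A.hom.unop.toOrderHom _ = _
          exact congrArg _ (vertex_eq _ _)
        have hc : K.map (SimplexCategory.const A.right.unop.obj ⦋0⦌ 0).op ≫
            K.map ((SimplexCategory.Truncated.inclusion 0).op.map φ.right) =
            K.map (SimplexCategory.const A'.right.unop.obj ⦋0⦌ 0).op := by
          rw [← K.map_comp]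
          congr 1
        exact (Category.id_comp _).trans
          ((congrArg (fun z => pick K s t z ≫
              K.map (SimplexCategory.const A'.right.unop.obj ⦋0⦌ 0).op) hv).trans
            ((congrArg (fun z => pick K s t (A.hom.unop.toOrderHom 0) ≫ z) hc.symm).trans
              (Category.assoc _ _ _).symm)) }


variable [HasFiniteLimits (FormalCoproduct.{u} D)]
  [∀ (n : ℕ) (F : (SimplexCategory.Truncated n)ᵒᵖ ⥤ FormalCoproduct.{u} D),
      (SimplexCategory.Truncated.inclusion n).op.HasRightKanExtension F]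

/-- the face index objects -/
def faceIdx (i : Fin 2) : CoskUP.Idx 0 (op ⦋1⦌) :=
  StructuredArrow.mk (Y := op (⟨⦋0⦌, le_rfl⟩ : SimplexCategory.Truncated 0))
    (SimplexCategory.δ i).op

/-- the face projections `(cosk_0 K)_1 ⟶ K_0` -/
noncomputable def faceπ (i : Fin 2) :
    ((SimplicialObject.cosk 0).obj K).obj (op ⦋1⦌) ⟶ K.obj (op ⦋0⦌) :=
  CoskUP.π 0 K (faceIdx i)

lemma η_faceπ (i : Fin 2) : (CoskUP.η 0 K).app (op ⦋1⦌) ≫ faceπ K i = K.δ i :=
  CoskUP.η_π 0 K (faceIdx i)

/-- the pair map -/
noncomputable def pairMap : T ⟶ ((SimplicialObject.cosk 0).obj K).obj (op ⦋1⦌) :=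
  CoskUP.lift 0 K (pairCone K s t)

lemma pairMap_faceπ (i : Fin 2) :
    pairMap K s t ≫ faceπ K i = pick K s t ((SimplexCategory.δ i).toOrderHom 0) := by
  have h := CoskUP.lift_π 0 K (pairCone K s t) (faceIdx i)
  have h2 : (pairCone K s t).π.app (faceIdx i) =
      pick K s t ((SimplexCategory.δ i).toOrderHom 0) ≫
        K.map (SimplexCategory.const ⦋0⦌ ⦋0⦌ 0).op := rfl
  have h3 : SimplexCategory.const ⦋0⦌ ⦋0⦌ 0 = 𝟙 _ := const_unique _ _
  rw [h3, op_id, K.map_id, Category.comp_id] at h2
  exact h.trans h2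

lemma pairMap_faceπ_one : pairMap K s t ≫ faceπ K 1 = s := by
  rw [pairMap_faceπ]
  rfl

lemma pairMap_faceπ_zero : pairMap K s t ≫ faceπ K 0 = t := by
  rw [pairMap_faceπ]
  rfl


/-- The sieve of those `g : V ⟶ U` over which the pair `(s, t)` lifts to `K_1`. -/
def liftSieve {U : D} (s t : (FormalCoproduct.incl D).obj U ⟶ K.obj (op ⦋0⦌)) : Sieve U where
  arrows V g := ∃ b : (FormalCoproduct.incl D).obj V ⟶ K.obj (op ⦋1⦌),
    b ≫ K.δ 1 = (FormalCoproduct.incl D).map g ≫ s ∧
    b ≫ K.δ 0 = (FormalCoproduct.incl D).map g ≫ t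
  downward_closed := by
    rintro V W g ⟨b, h1, h0⟩ f
    refine ⟨(FormalCoproduct.incl D).map f ≫ b, ?_, ?_⟩
    · rw [Category.assoc, h1, Functor.map_comp, Category.assoc]
    · rw [Category.assoc, h0, Functor.map_comp, Category.assoc]

theorem pair_lift (JD : GrothendieckTopology D)
    (hK : Hyper.IsSRCovering JD ((CoskUP.η 0 K).app (op ⦋1⦌)))
    {U : D} (s t : (FormalCoproduct.incl D).obj U ⟶ K.obj (op ⦋0⦌)) :
    liftSieve K s t ∈ JD U := by
  let a := pairMap K s t
  have hR := hK (a.f PUnit.unit)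
  refine JD.superset_covering ?_ (JD.pullback_stable (a.φ PUnit.unit) hR)
  intro V g hg
  obtain ⟨k, hk, c, hc⟩ := srSieve_exists _ _ _ hg
  let b : (FormalCoproduct.incl D).obj V ⟶ K.obj (op ⦋1⦌) := FormalCoproduct.Hom.fromIncl k c
  have hb : b ≫ (CoskUP.η 0 K).app (op ⦋1⦌) = (FormalCoproduct.incl D).map g ≫ a := by
    refine FormalCoproduct.hom_ext ?_ ?_
    · funext x
      exact hk
    · intro x
      cases x
      exact (Category.assoc _ _ _).trans hc.symm
  refine ⟨b, ?_, ?_⟩
  · rw [← η_faceπ, ← Category.assoc, hb, Category.assoc, pairMap_faceπ_one]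
  · rw [← η_faceπ, ← Category.assoc, hb, Category.assoc, pairMap_faceπ_zero]

end Groth.Agent.Lib.Helper4.PairLift
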