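import Mathlib.Tactic
import Mathlib.CategoryTheory.Limits.FormalCoproducts.Basic
import Mathlib.CategoryTheory.Limits.Types.Colimits
import Mathlib.CategoryTheory.Limits.FunctorCategory.Basic

namespace Groth.Agent.Lib.Helper4.YonElt

open CategoryTheory CategoryTheory.Limits Opposite

universe u

variable {D : Type u} [SmallCategory D]

/-- The element of `y(Y)(U)` attached to a morphism `incl U ⟶ Y`. -/
noncomputable def mk {Y : FormalCoproduct.{u} D} {U : D} (b : (FormalCoproduct.incl D).obj U ⟶ Y) :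
    (FormalCoproduct.yoneda.obj Y).obj (op U) :=
  (Sigma.ι (fun i => yoneda.obj (Y.obj i)) (b.f PUnit.unit)).app (op U) (b.φ PUnit.unit)

lemma map_mk {Y Z : FormalCoproduct.{u} D} {U : D} (b : (FormalCoproduct.incl D).obj U ⟶ Y)
    (f : Y ⟶ Z) :
    (FormalCoproduct.yoneda.map f).app (op U) (mk b) = mk (b ≫ f) := by
  have h : Sigma.ι (fun i => yoneda.obj (Y.obj i)) (b.f PUnit.unit) ≫ FormalCoproduct.yoneda.map f =
      yoneda.map (f.φ (b.f PUnit.unit)) ≫ Sigma.ι (fun i => yoneda.obj (Z.obj i)) (f.f (b.f PUnit.unit)) := by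
    exact Sigma.ι_desc _ _
  have h2 := ConcreteCategory.congr_hom (NatTrans.congr_app h (op U)) (b.φ PUnit.unit)
  exact h2

lemma res_mk {Y : FormalCoproduct.{u} D} {U V : D} (b : (FormalCoproduct.incl D).obj U ⟶ Y)
    (g : V ⟶ U) :
    (FormalCoproduct.yoneda.obj Y).map g.op (mk b) = mk ((FormalCoproduct.incl D).map g ≫ b) := by
  have h := (Sigma.ι (fun i => yoneda.obj (Y.obj i)) (b.f PUnit.unit)).naturality g.op
  have h2 := ConcreteCategory.congr_hom h (b.φ PUnit.unit)
  exact h2.symm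

lemma exists_mk {Y : FormalCoproduct.{u} D} {U : D} (x : (FormalCoproduct.yoneda.obj Y).obj (op U)) :
    ∃ b : (FormalCoproduct.incl D).obj U ⟶ Y, mk b = x := by
  let F : Discrete Y.I ⥤ (Dᵒᵖ ⥤ Type u) := Discrete.functor (fun i => yoneda.obj (Y.obj i))
  have hc : IsColimit (((evaluation Dᵒᵖ (Type u)).obj (op U)).mapCocone (colimit.cocone F)) :=
    isColimitOfPreserves _ (colimit.isColimit F)
  obtain ⟨⟨i⟩, a, ha⟩ := Types.jointly_surjective_of_isColimit hc x
  exact ⟨FormalCoproduct.Hom.fromIncl i a, ha⟩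

end Groth.Agent.Lib.Helper4.YonElt
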