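import Mathlib.Tactic
import Mathlib.CategoryTheory.Sites.LocallySurjective
import Mathlib.CategoryTheory.Limits.Shapes.FunctorToTypes
import Groth.Agent.Lib.Helper4.PairLift
import Groth.Agent.Lib.Helper4.YonElt

namespace Groth.Agent.Lib.Helper4.HyperSite

open CategoryTheory CategoryTheory.Limits Opposite Simplicial Groth.Agent.Lib.Helper4.SRCov
  Groth.Agent.Lib.Helper4

universe u

section General

variable {D : Type u} [SmallCategory D] (JD : GrothendieckTopology D)

lemma fromIncl_comp_eq {Y Z : FormalCoproduct.{u} D} (f : Y ⟶ Z) {U V : D} (g : V ⟶ U)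
    (b : (FormalCoproduct.incl D).obj U ⟶ Z) (i : Y.I) (hi : f.f i = b.f PUnit.unit)
    (c : V ⟶ Y.obj i)
    (hc : g ≫ b.φ PUnit.unit = c ≫ f.φ i ≫ eqToHom (congrArg Z.obj hi)) :
    FormalCoproduct.Hom.fromIncl i c ≫ f = (FormalCoproduct.incl D).map g ≫ b := by
  refine FormalCoproduct.hom_ext ?_ ?_
  · funext x
    exact hi
  · intro x
    cases x
    exact (Category.assoc _ _ _).trans hc.symm

/-- SR coverings induce locally surjective maps of presheaves. -/
theorem locallySurjective_of_srCovering {Y Z : FormalCoproduct.{u} D} (f : Y ⟶ Z)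
    (hf : Hyper.IsSRCovering JD f) :
    Presheaf.IsLocallySurjective JD (FormalCoproduct.yoneda.map f) := by
  constructor
  intro U x
  obtain ⟨b, rfl⟩ := YonElt.exists_mk x
  refine JD.superset_covering ?_ (JD.pullback_stable (b.φ PUnit.unit) (hf (b.f PUnit.unit)))
  intro V g hg
  obtain ⟨i, hi, c, hc⟩ := srSieve_exists f _ _ hg
  refine ⟨YonElt.mk (FormalCoproduct.Hom.fromIncl i c), ?_⟩
  rw [YonElt.map_mk, YonElt.res_mk, fromIncl_comp_eq f g b i hi c hc]

lemma terminal_elt_eq {V : Dᵒᵖ} (z w : (⊤_ (Dᵒᵖ ⥤ Type u)).obj V) : z = w := by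
  obtain ⟨V⟩ := V
  apply yonedaEquiv.symm.injective
  exact terminal.hom_ext _ _

end General


section Pair

variable {D : Type u} [SmallCategory D] (JD : GrothendieckTopology D)
  (K : SimplicialObject (FormalCoproduct.{u} D))

theorem locallySurjective_prodLift
    (h : ∀ (U : D) (s t : (FormalCoproduct.incl D).obj U ⟶ K.obj (op ⦋0⦌)),
      PairLift.liftSieve K s t ∈ JD U) :
    Presheaf.IsLocallySurjective JD
      (prod.lift (FormalCoproduct.yoneda.map (K.δ (1 : Fin 2)))
        (FormalCoproduct.yoneda.map (K.δ (0 : Fin 2)))) := by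
  constructor
  intro U x
  obtain ⟨s, hs⟩ := YonElt.exists_mk
    ((prod.fst (X := FormalCoproduct.yoneda.obj (K.obj (op ⦋0⦌)))
      (Y := FormalCoproduct.yoneda.obj (K.obj (op ⦋0⦌)))).app (op U) x)
  obtain ⟨t, ht⟩ := YonElt.exists_mk
    ((prod.snd (X := FormalCoproduct.yoneda.obj (K.obj (op ⦋0⦌)))
      (Y := FormalCoproduct.yoneda.obj (K.obj (op ⦋0⦌)))).app (op U) x)
  refine JD.superset_covering ?_ (h U s t)
  rintro V g ⟨b, h1, h0⟩
  refine ⟨YonElt.mk b, ?_⟩
  apply FunctorToTypes.prod_ext'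
  · have e1 := ConcreteCategory.congr_hom (NatTrans.congr_app (prod.lift_fst
      (FormalCoproduct.yoneda.map (K.δ (1 : Fin 2)))
      (FormalCoproduct.yoneda.map (K.δ (0 : Fin 2)))) (op V)) (YonElt.mk b)
    have e2 := ConcreteCategory.congr_hom ((prod.fst (X := FormalCoproduct.yoneda.obj (K.obj (op ⦋0⦌)))
      (Y := FormalCoproduct.yoneda.obj (K.obj (op ⦋0⦌)))).naturality g.op) x
    refine e1.trans ?_
    refine Eq.trans ?_ e2.symm
    rw [YonElt.map_mk, h1]
    exact (YonElt.res_mk s g).symm.trans (congrArg _ hs)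
  · have e1 := ConcreteCategory.congr_hom (NatTrans.congr_app (prod.lift_snd
      (FormalCoproduct.yoneda.map (K.δ (1 : Fin 2)))
      (FormalCoproduct.yoneda.map (K.δ (0 : Fin 2)))) (op V)) (YonElt.mk b)
    have e2 := ConcreteCategory.congr_hom ((prod.snd (X := FormalCoproduct.yoneda.obj (K.obj (op ⦋0⦌)))
      (Y := FormalCoproduct.yoneda.obj (K.obj (op ⦋0⦌)))).naturality g.op) x
    refine e1.trans ?_
    refine Eq.trans ?_ e2.symm
    rw [YonElt.map_mk, h0]
    exact (YonElt.res_mk t g).symm.trans (congrArg _ ht)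

end Pair


section Main

variable {C : Type u} [SmallCategory C] [HasPullbacks C] (J : GrothendieckTopology C) (X : C)
  (K : SimplicialObject (FormalCoproduct.{u} (Over X)))
  [∀ (n : ℕ) (F : (SimplexCategory.Truncated n)ᵒᵖ ⥤ FormalCoproduct.{u} (Over X)),
      (SimplexCategory.Truncated.inclusion n).op.HasRightKanExtension F]

omit [HasPullbacks C] [∀ (n : ℕ) (F : (SimplexCategory.Truncated n)ᵒᵖ ⥤ FormalCoproduct.{u} (Over X)),
      (SimplexCategory.Truncated.inclusion n).op.HasRightKanExtension F] in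
theorem locallySurjective_terminal (T : FormalCoproduct.{u} (Over X))
    (hT : HyperPB.Covers J X T) :
    Presheaf.IsLocallySurjective (J.over X) (terminal.from (FormalCoproduct.yoneda.obj T)) := by
  constructor
  intro U x
  rw [GrothendieckTopology.mem_over_iff]
  refine J.superset_covering ?_ (J.pullback_stable U.hom hT)
  intro V' g hg
  rw [Sieve.overEquiv_iff]
  have hg' : Sieve.ofArrows (fun i => (T.obj i).left) (fun i => (T.obj i).hom) (g ≫ U.hom) := hg
  rw [Sieve.mem_ofArrows_iff] at hg'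
  obtain ⟨i, c, hc⟩ := hg'
  let c' : Over.mk (g ≫ U.hom) ⟶ T.obj i := Over.homMk c hc.symm
  exact ⟨YonElt.mk (FormalCoproduct.Hom.fromIncl i c'), terminal_elt_eq _ _⟩

theorem main6504 (hK : Hyper.IsHypercovering J X K) :
    Hyper.IsHypercoveringSite (J.over X) K := by
  refine ⟨locallySurjective_terminal J X _ hK.1, ?_, ?_⟩
  · apply locallySurjective_prodLift
    intro U s t
    exact PairLift.pair_lift K (J.over X) (hK.2 0) s t
  · intro n _
    exact locallySurjective_of_srCovering (J.over X) _ (hK.2 n)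

end Main

end Groth.Agent.Lib.Helper4.HyperSite
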