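import Mathlib.Tactic
import Mathlib.CategoryTheory.Limits.Yoneda
import Mathlib.CategoryTheory.Limits.FunctorCategory.Basic
import Mathlib.CategoryTheory.Limits.Preserves.Finite
import Mathlib.CategoryTheory.Limits.Preserves.FunctorCategory
import Mathlib.CategoryTheory.Limits.Types.Limits
import Groth.Agent.Lib.Helper4.YonElt

namespace Groth.Agent.Lib.Helper4.YonPres

open CategoryTheory CategoryTheory.Limits Opposite Groth.Agent.Lib.Helper4

universe u

variable {D : Type u} [SmallCategory D]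

/-- explicit sigma presheaf -/
def sig (A : FormalCoproduct.{u} D) : Dᵒᵖ ⥤ Type u where
  obj U := Σ i : A.I, (U.unop ⟶ A.obj i)
  map g := ↾(fun x => ⟨x.1, g.unop ≫ x.2⟩)
  map_id U := by
    ext x : 3
    obtain ⟨i, g⟩ := x
    show (⟨i, (𝟙 U).unop ≫ g⟩ : Σ i : A.I, (U.unop ⟶ A.obj i)) = ⟨i, g⟩
    rw [unop_id, Category.id_comp]
  map_comp {U V W} g g' := by
    ext x : 3
    obtain ⟨i, h⟩ := x
    show (⟨i, (g ≫ g').unop ≫ h⟩ : Σ i : A.I, (W.unop ⟶ A.obj i)) = ⟨i, g'.unop ≫ g.unop ≫ h⟩
    rw [unop_comp, Category.assoc]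

/-- the inclusion of a summand -/
def sigι (A : FormalCoproduct.{u} D) (i : A.I) : yoneda.obj (A.obj i) ⟶ sig A where
  app U := ↾(fun g => ⟨i, g⟩)
  naturality U V g := by
    ext x
    rfl

/-- comparison to the sigma presheaf -/
noncomputable def toSig (A : FormalCoproduct.{u} D) : FormalCoproduct.yoneda.obj A ⟶ sig A :=
  Sigma.desc (sigι A)

lemma toSig_mk {A : FormalCoproduct.{u} D} {U : D} (b : (FormalCoproduct.incl D).obj U ⟶ A) :
    (toSig A).app (op U) (YonElt.mk b) = ⟨b.f PUnit.unit, b.φ PUnit.unit⟩ := by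
  have h : Sigma.ι (fun i => yoneda.obj (A.obj i)) (b.f PUnit.unit) ≫ toSig A =
      sigι A (b.f PUnit.unit) := Sigma.ι_desc _ _
  exact ConcreteCategory.congr_hom (NatTrans.congr_app h (op U)) (b.φ PUnit.unit)

lemma mk_injective {A : FormalCoproduct.{u} D} {U : D} :
    Function.Injective (YonElt.mk (Y := A) (U := U)) := by
  intro b b' h
  have h2 := congrArg ((toSig A).app (op U)) h
  rw [toSig_mk, toSig_mk] at h2
  exact (FormalCoproduct.inclHomEquiv U A).injective h2

/-- the bijection -/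
noncomputable def mkEquiv (A : FormalCoproduct.{u} D) (U : D) :
    ((FormalCoproduct.incl D).obj U ⟶ A) ≃ (FormalCoproduct.yoneda.obj A).obj (op U) :=
  Equiv.ofBijective YonElt.mk ⟨mk_injective, fun x => YonElt.exists_mk x⟩

/-- restricted yoneda -/
abbrev rY : FormalCoproduct.{u} D ⥤ (Dᵒᵖ ⥤ Type u) :=
  yoneda ⋙ (Functor.whiskeringLeft Dᵒᵖ (FormalCoproduct.{u} D)ᵒᵖ (Type u)).obj
    (FormalCoproduct.incl D).op

/-- componentwise iso -/
noncomputable def isoObj (A : FormalCoproduct.{u} D) :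
    (rY (D := D)).obj A ≅ FormalCoproduct.yoneda.obj A :=
  NatIso.ofComponents (fun U => (mkEquiv A U.unop).toIso) (by
    intro U V g
    ext b
    exact (YonElt.res_mk b g.unop).symm)

/-- the iso -/
noncomputable def iso : rY (D := D) ≅ FormalCoproduct.yoneda :=
  NatIso.ofComponents isoObj (by
    intro A B f
    ext U b
    exact (YonElt.map_mk b f).symm)

noncomputable instance : PreservesLimitsOfSize.{u, u} (FormalCoproduct.yoneda (C := D)) :=
  preservesLimits_of_natIso iso

noncomputable instance : PreservesFiniteLimits (FormalCoproduct.yoneda (C := D)) :=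
  PreservesLimitsOfSize.preservesFiniteLimits _

end Groth.Agent.Lib.Helper4.YonPres
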