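import Mathlib.Tactic
import Groth.Agent.Lib.Helper4.HyperQI
import Groth.Agent.Lib.Helper4.YonPres
import Groth.Agent.Lib.Helper4.CoskTower
import Groth.Agent.Lib.Helper4.HomRange
import Groth.Agent.Lib.Helper4.HyperSite

namespace Groth.Agent.Lib.Helper4.HyperAcyc

open CategoryTheory CategoryTheory.Limits Opposite Simplicial
open Groth.Agent.Lib.Helper4.FreeLocBij Groth.Agent.Lib.Helper4.CoskTower

universe u

variable {D : Type u} [SmallCategory D] (JD : GrothendieckTopology D)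

/-- the functor to abelian sheaves -/
noncomputable abbrev G : (Dᵒᵖ ⥤ Type u) ⥤ Sheaf JD AddCommGrpCat.{u} :=
  freePsh ⋙ presheafToSheaf JD AddCommGrpCat.{u}

/-- the chain complex of a simplicial presheaf -/
noncomputable abbrev Zc (P : SimplicialObject (Dᵒᵖ ⥤ Type u)) :
    ChainComplex (Sheaf JD AddCommGrpCat.{u}) ℕ :=
  (AlgebraicTopology.alternatingFaceMapComplex _).obj (P ⋙ G JD)

/-- the relation: homology in degree `i` isomorphic -/
def HEq' (i : ℕ) (P P' : SimplicialObject (Dᵒᵖ ⥤ Type u)) : Prop :=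
  Nonempty ((Zc JD P).homology i ≅ (Zc JD P').homology i)

lemma HEq'.trans {i : ℕ} {P P' P'' : SimplicialObject (Dᵒᵖ ⥤ Type u)}
    (h : HEq' JD i P P') (h' : HEq' JD i P' P'') : HEq' JD i P P'' :=
  ⟨h.some ≪≫ h'.some⟩

lemma HEq'.of_isIso {i : ℕ} {P P' : SimplicialObject (Dᵒᵖ ⥤ Type u)} (f : P ⟶ P')
    (h : IsIso (HomologicalComplex.homologyMap
      ((AlgebraicTopology.alternatingFaceMapComplex _).map (Functor.whiskerRight f (G JD))) i)) :
    HEq' JD i P P' :=
  ⟨asIso (HomologicalComplex.homologyMap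
      ((AlgebraicTopology.alternatingFaceMapComplex _).map (Functor.whiskerRight f (G JD))) i)⟩

/-- iso in low degrees gives iso in homology -/
lemma HEq'.of_isIso_le {i : ℕ} {P P' : SimplicialObject (Dᵒᵖ ⥤ Type u)} (f : P ⟶ P')
    (h : ∀ j, j ≤ i + 1 → IsIso (f.app (op ⦋j⦌))) : HEq' JD i P P' := by
  apply HEq'.of_isIso JD f
  apply Groth.Agent.Lib.Helper4.HomRange.isIso_homologyMap_of_isIso_le
  intro j hj
  haveI := h j hj
  show IsIso ((G JD).map (f.app (op ⦋j⦌)))
  infer_instance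

section Pt

/-- the point presheaf -/
abbrev pt : Dᵒᵖ ⥤ Type u := (Functor.const Dᵒᵖ).obj PUnit.{u + 1}

/-- the map to the point -/
def toPt (P : Dᵒᵖ ⥤ Type u) : P ⟶ pt where
  app _ := ↾(fun _ => PUnit.unit)

lemma toPt_ext {P : Dᵒᵖ ⥤ Type u} (a b : P ⟶ pt) : a = b := by
  ext U x
  exact Subsingleton.elim (α := PUnit.{u + 1}) _ _

/-- `pt` is terminal -/
def ptIsTerminal : IsTerminal (pt (D := D)) :=
  IsTerminal.ofUniqueHom toPt (fun _ _ => toPt_ext _ _)

/-- constant simplicial presheaf -/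
abbrev cpt : SimplicialObject (Dᵒᵖ ⥤ Type u) := (SimplicialObject.const _).obj pt

/-- the map to the constant simplicial presheaf -/
def toCpt (P : SimplicialObject (Dᵒᵖ ⥤ Type u)) : P ⟶ cpt where
  app m := toPt (P.obj m)
  naturality _ _ _ := toPt_ext _ _

universe v' u'

/-- the constant simplicial object at a terminal object is coskeletal -/
theorem isCoskeletal_const {E' : Type u'} [Category.{v'} E'] {T : E'} (hT : IsTerminal T) (n : ℕ) :
    SimplicialObject.IsCoskeletal ((SimplicialObject.const E').obj T) n := by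
  refine ⟨Functor.RightExtension.IsPointwiseRightKanExtension.isRightKanExtension
    (E := Functor.RightExtension.mk ((SimplicialObject.const E').obj T) (𝟙 _)) ?_⟩
  intro m
  exact
    { lift := fun c => hT.from c.pt
      fac := fun c A => hT.hom_ext _ _
      uniq := fun c l _ => hT.hom_ext _ _ }

end Pt

section Tower

variable [HasFiniteLimits (FormalCoproduct.{u} D)]
  [∀ (n : ℕ) (F : (SimplexCategory.Truncated n)ᵒᵖ ⥤ FormalCoproduct.{u} D),
    (SimplexCategory.Truncated.inclusion n).op.HasRightKanExtension F]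
  (K : SimplicialObject (FormalCoproduct.{u} D))

/-- the yoneda functor -/
noncomputable abbrev Y : FormalCoproduct.{u} D ⥤ (Dᵒᵖ ⥤ Type u) := FormalCoproduct.yoneda

/-- the `n`-th coskeleton -/
noncomputable abbrev Q (n : ℕ) : SimplicialObject (FormalCoproduct.{u} D) :=
  (SimplicialObject.cosk n).obj K

lemma step_unit (i : ℕ) : HEq' JD i (K ⋙ Y) (Q K (i + 1) ⋙ Y) := by
  apply HEq'.of_isIso_le JD (Functor.whiskerRight (η K (i + 1)) Y)
  intro j hj
  haveI := isIso_unit_app K (i + 1) ⦋j⦌ hj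
  show IsIso (Y.map ((η K (i + 1)).app (op ⦋j⦌)))
  infer_instance

lemma step_t (hK : ∀ n : ℕ, Presheaf.IsLocallySurjective JD
      (Y.map ((η K n).app (op (SimplexCategory.mk (n + 1)))))) (i n : ℕ) :
    HEq' JD i (Q K (n + 1) ⋙ Y) (Q K n ⋙ Y) := by
  apply HEq'.of_isIso JD (Functor.whiskerRight (t K n) Y)
  haveI : ∀ (F : (SimplexCategory.Truncated (n + 1))ᵒᵖ ⥤ (Dᵒᵖ ⥤ Type u)),
      (SimplexCategory.Truncated.inclusion (n + 1)).op.HasRightKanExtension F := fun F => by
    have := Groth.Agent.S6800.result (n + 1) F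
    infer_instance
  have h3 : SimplicialObject.IsCoskeletal (Q K (n + 1) ⋙ Y) (n + 1) :=
    Groth.Agent.Lib.Helper4.CoskComp.isCoskeletal_comp Y (Q K (n + 1)) (n + 1)
  haveI := isCoskeletal_cosk_succ K n
  have h4 : SimplicialObject.IsCoskeletal (Q K n ⋙ Y) (n + 1) :=
    Groth.Agent.Lib.Helper4.CoskComp.isCoskeletal_comp Y (Q K n) (n + 1)
  refine Groth.Agent.Lib.Helper4.HyperQI.main6529 (Functor.whiskerRight (t K n) Y) (n + 1) ?_
    ((SimplicialObject.isCoskeletal_iff_isIso _ _).1 h3)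
    ((SimplicialObject.isCoskeletal_iff_isIso _ _).1 h4) JD ?_ i
  · intro j hj
    haveI := isIso_t_app K n ⦋j⦌ (Nat.lt_succ_iff.1 hj)
    show IsIso (Y.map ((t K n).app (op ⦋j⦌)))
    infer_instance
  · show Presheaf.IsLocallySurjective JD (Y.map ((t K n).app (op ⦋n + 1⦌)))
    rw [t_app_succ, Functor.map_comp]
    haveI := hK n
    haveI := isIso_unit_app K (n + 1) ⦋n + 1⦌ le_rfl
    infer_instance

lemma tower (hK : ∀ n : ℕ, Presheaf.IsLocallySurjective JD
      (Y.map ((η K n).app (op (SimplexCategory.mk (n + 1)))))) (i n : ℕ) :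
    HEq' JD i (Q K n ⋙ Y) (Q K 0 ⋙ Y) := by
  induction n with
  | zero => exact ⟨Iso.refl _⟩
  | succ n ih => exact (step_t JD K hK i n).trans JD ih

lemma step_bottom (h0 : Presheaf.IsLocallySurjective JD
      (toPt (Y.obj (K.obj (op (SimplexCategory.mk 0)))))) (i : ℕ) :
    HEq' JD i (Q K 0 ⋙ Y) cpt := by
  apply HEq'.of_isIso JD (toCpt (Q K 0 ⋙ Y))
  haveI : ∀ (F : (SimplexCategory.Truncated 0)ᵒᵖ ⥤ (Dᵒᵖ ⥤ Type u)),
      (SimplexCategory.Truncated.inclusion 0).op.HasRightKanExtension F := fun F => by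
    have := Groth.Agent.S6800.result 0 F
    infer_instance
  have h3 : SimplicialObject.IsCoskeletal (Q K 0 ⋙ Y) 0 :=
    Groth.Agent.Lib.Helper4.CoskComp.isCoskeletal_comp Y (Q K 0) 0
  have h4 : SimplicialObject.IsCoskeletal (cpt (D := D)) 0 := isCoskeletal_const ptIsTerminal 0
  refine Groth.Agent.Lib.Helper4.HyperQI.main6529 (toCpt (Q K 0 ⋙ Y)) 0 ?_
    ((SimplicialObject.isCoskeletal_iff_isIso _ _).1 h3)
    ((SimplicialObject.isCoskeletal_iff_isIso _ _).1 h4) JD ?_ i
  · intro j hj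
    exact absurd hj (Nat.not_lt_zero j)
  · show Presheaf.IsLocallySurjective JD (toPt (Y.obj ((Q K 0).obj (op ⦋0⦌))))
    have fac : Y.map ((η K 0).app (op ⦋0⦌)) ≫ toPt (Y.obj ((Q K 0).obj (op ⦋0⦌))) =
        toPt (Y.obj (K.obj (op ⦋0⦌))) := toPt_ext _ _
    exact Presheaf.isLocallySurjective_of_isLocallySurjective_fac JD fac

/-- the constant simplicial sheaf -/
noncomputable def cptIso :
    cpt (D := D) ⋙ G JD ≅ (SimplicialObject.const _).obj ((G JD).obj pt) :=
  NatIso.ofComponents (fun _ => Iso.refl _) (by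
    intro m m' θ
    show (G JD).map (𝟙 _) ≫ 𝟙 _ = 𝟙 _ ≫ 𝟙 _
    rw [CategoryTheory.Functor.map_id])

/-- the value on the point -/
noncomputable def GptIso : (G JD).obj pt ≅
    (presheafToSheaf JD AddCommGrpCat.{u}).obj
      ((Functor.const Dᵒᵖ).obj (AddCommGrpCat.free.{u}.obj PUnit.{u + 1})) :=
  (presheafToSheaf JD AddCommGrpCat.{u}).mapIso (Functor.constComp _ _ _)

omit [HasFiniteLimits (FormalCoproduct.{u} D)]
  [∀ (n : ℕ) (F : (SimplexCategory.Truncated n)ᵒᵖ ⥤ FormalCoproduct.{u} D),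
    (SimplexCategory.Truncated.inclusion n).op.HasRightKanExtension F] in
lemma cpt_isZero (i : ℕ) : IsZero ((Zc JD cpt).homology (i + 1)) := by
  refine IsZero.of_iso
    (Groth.Agent.Lib.Helper4.HomRange.isZero_const_homology_succ ((G JD).obj pt) i) ?_
  exact (HomologicalComplex.homologyFunctor _ _ (i + 1)).mapIso
    ((AlgebraicTopology.alternatingFaceMapComplex _).mapIso (cptIso JD))

omit [HasFiniteLimits (FormalCoproduct.{u} D)]
  [∀ (n : ℕ) (F : (SimplexCategory.Truncated n)ᵒᵖ ⥤ FormalCoproduct.{u} D),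
    (SimplexCategory.Truncated.inclusion n).op.HasRightKanExtension F] in
lemma cpt_zero : Nonempty ((Zc JD cpt).homology 0 ≅
    (presheafToSheaf JD AddCommGrpCat.{u}).obj
      ((Functor.const Dᵒᵖ).obj (AddCommGrpCat.free.{u}.obj PUnit.{u + 1}))) :=
  ⟨(HomologicalComplex.homologyFunctor _ _ 0).mapIso
    ((AlgebraicTopology.alternatingFaceMapComplex _).mapIso (cptIso JD)) ≪≫
    Groth.Agent.Lib.Helper4.HomRange.constHomologyZeroIso ((G JD).obj pt) ≪≫ GptIso JD⟩

theorem main (h0 : Presheaf.IsLocallySurjective JD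
      (toPt (Y.obj (K.obj (op (SimplexCategory.mk 0))))))
    (hK : ∀ n : ℕ, Presheaf.IsLocallySurjective JD
      (Y.map ((η K n).app (op (SimplexCategory.mk (n + 1)))))) :
    (∀ i : ℕ, IsZero ((Zc JD (K ⋙ Y)).homology (i + 1))) ∧
    Nonempty ((Zc JD (K ⋙ Y)).homology 0 ≅
      (presheafToSheaf JD AddCommGrpCat.{u}).obj
        ((Functor.const Dᵒᵖ).obj (AddCommGrpCat.free.{u}.obj PUnit.{u + 1}))) := by
  have key : ∀ i, HEq' JD i (K ⋙ Y) cpt := fun i =>
    ((step_unit JD K i).trans JD (tower JD K hK i (i + 1))).trans JD (step_bottom JD K h0 i)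
  constructor
  · intro i
    exact IsZero.of_iso (cpt_isZero JD i) (key (i + 1)).some
  · exact ⟨(key 0).some ≪≫ (cpt_zero JD).some⟩

end Tower

end Groth.Agent.Lib.Helper4.HyperAcyc

namespace Groth.Agent.Lib.Helper4.HyperAcyc

open CategoryTheory CategoryTheory.Limits Opposite Simplicial
open Groth.Agent.Lib.Helper4.FreeLocBij Groth.Agent.Lib.Helper4.CoskTower

universe u

lemma toPt_locallySurjective {D : Type u} [SmallCategory D] (JD : GrothendieckTopology D)
    (P : Dᵒᵖ ⥤ Type u) (h : Presheaf.IsLocallySurjective JD (terminal.from P)) :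
    Presheaf.IsLocallySurjective JD (toPt P) := by
  constructor
  intro U x
  let z : (⊤_ (Dᵒᵖ ⥤ Type u)).obj (op U) := yonedaEquiv (terminal.from (yoneda.obj U))
  refine JD.superset_covering ?_ (h.imageSieve_mem z)
  rintro V g ⟨t, _⟩
  exact ⟨t, Subsingleton.elim (α := PUnit.{u + 1}) _ _⟩

theorem main6505 {C : Type u} [SmallCategory C] [HasPullbacks C]
    (J : GrothendieckTopology C) (X : C) (K : SimplicialObject (FormalCoproduct.{u} (Over X)))
    [∀ (n : ℕ) (F : (SimplexCategory.Truncated n)ᵒᵖ ⥤ FormalCoproduct.{u} (Over X)),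
      (SimplexCategory.Truncated.inclusion n).op.HasRightKanExtension F]
    (hK : Hyper.IsHypercovering J X K) :
    (∀ i : ℕ, IsZero ((Hyper.freeChainCx (J.over X) K).homology (i + 1))) ∧
    Nonempty ((Hyper.freeChainCx (J.over X) K).homology 0 ≅
      (presheafToSheaf (J.over X) AddCommGrpCat.{u}).obj
        ((Functor.const (Over X)ᵒᵖ).obj (AddCommGrpCat.free.{u}.obj PUnit.{u + 1}))) := by
  have h0 : Presheaf.IsLocallySurjective (J.over X)
      (toPt (Y.obj (K.obj (op (SimplexCategory.mk 0))))) :=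
    toPt_locallySurjective _ _ (Groth.Agent.Lib.Helper4.HyperSite.locallySurjective_terminal J X _ hK.1)
  have hn : ∀ n : ℕ, Presheaf.IsLocallySurjective (J.over X)
      (Y.map ((η K n).app (op (SimplexCategory.mk (n + 1))))) := fun n =>
    Groth.Agent.Lib.Helper4.HyperSite.locallySurjective_of_srCovering (J.over X) _ (hK.2 n)
  exact main (J.over X) K h0 hn

end Groth.Agent.Lib.Helper4.HyperAcyc
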