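import Mathlib.Tactic
import Groth.Agent.Lib.Helper4.HyperAcyc

namespace Groth.Agent.Lib.Helper4.CechDict

open CategoryTheory CategoryTheory.Limits Opposite Simplicial
open Groth.Agent.Lib.Helper4.FreeLocBij Groth.Agent.Lib.Helper4.HyperAcyc

universe u

variable {D : Type u} [SmallCategory D] (JD : GrothendieckTopology D)
  (A : Sheaf JD AddCommGrpCat.{u})

/-- the yoneda generator -/
noncomputable def ygen (T : FormalCoproduct.{u} D) (i : T.I) : (Y.obj T).obj (op (T.obj i)) :=
  YonElt.mk (FormalCoproduct.Hom.fromIncl i (𝟙 _))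

lemma mk_fromIncl (T : FormalCoproduct.{u} D) (i : T.I) {U : D} (g : U ⟶ T.obj i) :
    YonElt.mk (FormalCoproduct.Hom.fromIncl i g) = (Y.obj T).map g.op (ygen T i) := by
  unfold ygen
  rw [YonElt.res_mk]
  congr 1
  apply (FormalCoproduct.inclHomEquiv U T).injective
  show (⟨i, g⟩ : Σ i, U ⟶ T.obj i) = ⟨i, g ≫ 𝟙 _⟩
  rw [Category.comp_id]

lemma exists_eq_res (T : FormalCoproduct.{u} D) {U : D} (x : (Y.obj T).obj (op U)) :
    ∃ (i : T.I) (g : U ⟶ T.obj i), x = (Y.obj T).map g.op (ygen T i) := by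
  obtain ⟨b, rfl⟩ := YonElt.exists_mk x
  refine ⟨b.f PUnit.unit, b.φ PUnit.unit, ?_⟩
  refine Eq.trans ?_ (mk_fromIncl T (b.f PUnit.unit) (b.φ PUnit.unit))
  congr 1

lemma map_ygen {T T' : FormalCoproduct.{u} D} (h : T ⟶ T') (i : T.I) :
    (Y.map h).app (op (T.obj i)) (ygen T i) = (Y.obj T').map (h.φ i).op (ygen T' (h.f i)) := by
  unfold ygen
  rw [YonElt.map_mk, YonElt.res_mk]
  congr 1
  apply (FormalCoproduct.inclHomEquiv (T.obj i) T').injective
  show (⟨h.f i, 𝟙 _ ≫ h.φ i⟩ : Σ j, T.obj i ⟶ T'.obj j) = ⟨h.f i, h.φ i ≫ 𝟙 _⟩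
  rw [Category.comp_id, Category.id_comp]

/-- the free abelian sheaf on a formal coproduct -/
noncomputable abbrev S (T : FormalCoproduct.{u} D) : Sheaf JD AddCommGrpCat.{u} :=
  (G JD).obj (Y.obj T)

/-- the unit -/
noncomputable abbrev un (T : FormalCoproduct.{u} D) :
    freePsh.obj (Y.obj T) ⟶ (S JD T).obj :=
  toSheafify JD (freePsh.obj (Y.obj T))

/-- free generator -/
noncomputable def fgen (T : FormalCoproduct.{u} D) (i : T.I) :
    (freePsh.obj (Y.obj T)).obj (op (T.obj i)) :=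
  (FreeAbelianGroup.of (ygen T i) : FreeAbelianGroup ((Y.obj T).obj (op (T.obj i))))

/-- the generator -/
noncomputable def gen (T : FormalCoproduct.{u} D) (i : T.I) :
    (S JD T).obj.obj (op (T.obj i)) :=
  (un JD T).app (op (T.obj i)) (fgen T i)

variable {JD A}

/-- evaluation on generators -/
noncomputable def ev {T : FormalCoproduct.{u} D} (φ : S JD T ⟶ A) (i : T.I) :
    A.obj.obj (op (T.obj i)) :=
  φ.hom.app (op (T.obj i)) (gen JD T i)

lemma un_map {T T' : FormalCoproduct.{u} D} (h : T ⟶ T') :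
    un JD T ≫ ((G JD).map (Y.map h)).hom = freePsh.map (Y.map h) ≫ un JD T' :=
  ((sheafificationAdjunction JD AddCommGrpCat.{u}).unit.naturality (freePsh.map (Y.map h))).symm

lemma freePsh_map_of {P P' : Dᵒᵖ ⥤ Type u} (f : P ⟶ P') (U : Dᵒᵖ) (y : P.obj U) :
    (freePsh.map f).app U (FreeAbelianGroup.of y : FreeAbelianGroup (P.obj U)) =
      (FreeAbelianGroup.of (f.app U y) : FreeAbelianGroup (P'.obj U)) := by
  rw [freePsh_app_apply, FreeAbelianGroup.map_of_apply]

lemma freePsh_res_of {P : Dᵒᵖ ⥤ Type u} {U V : Dᵒᵖ} (g : U ⟶ V) (y : P.obj U) :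
    (freePsh.obj P).map g (FreeAbelianGroup.of y : FreeAbelianGroup (P.obj U)) =
      (FreeAbelianGroup.of (P.map g y) : FreeAbelianGroup (P.obj V)) := by
  rw [freePsh_res_apply, FreeAbelianGroup.map_of_apply]

lemma map_gen {T T' : FormalCoproduct.{u} D} (h : T ⟶ T') (i : T.I) :
    ((G JD).map (Y.map h)).hom.app (op (T.obj i)) (gen JD T i) =
      (S JD T').obj.map (h.φ i).op (gen JD T' (h.f i)) := by
  unfold gen fgen
  have h1 := ConcreteCategory.congr_hom (NatTrans.congr_app (un_map (JD := JD) h) (op (T.obj i)))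
    (FreeAbelianGroup.of (ygen T i) : FreeAbelianGroup ((Y.obj T).obj (op (T.obj i))))
  refine h1.trans ?_
  have h2 : (freePsh.map (Y.map h)).app (op (T.obj i))
      (FreeAbelianGroup.of (ygen T i) : FreeAbelianGroup ((Y.obj T).obj (op (T.obj i)))) =
      (freePsh.obj (Y.obj T')).map (h.φ i).op
        (FreeAbelianGroup.of (ygen T' (h.f i)) :
          FreeAbelianGroup ((Y.obj T').obj (op (T'.obj (h.f i))))) := by
    rw [freePsh_map_of, freePsh_res_of, map_ygen]
  have h3 := ConcreteCategory.congr_hom ((un JD T').naturality (h.φ i).op)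
    (FreeAbelianGroup.of (ygen T' (h.f i)) :
      FreeAbelianGroup ((Y.obj T').obj (op (T'.obj (h.f i)))))
  exact (congrArg ((un JD T').app (op (T.obj i))) h2).trans h3

lemma ev_map {T T' : FormalCoproduct.{u} D} (h : T ⟶ T') (φ : S JD T' ⟶ A) (i : T.I) :
    ev ((G JD).map (Y.map h) ≫ φ) i = A.obj.map (h.φ i).op (ev φ (h.f i)) := by
  unfold ev
  have h1 : ((G JD).map (Y.map h) ≫ φ).hom.app (op (T.obj i)) (gen JD T i) =
      φ.hom.app (op (T.obj i)) (((G JD).map (Y.map h)).hom.app (op (T.obj i)) (gen JD T i)) := rfl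
  rw [h1, map_gen]
  exact ConcreteCategory.congr_hom (φ.hom.naturality (h.φ i).op) (gen JD T' (h.f i))

/-- value of a morphism on an arbitrary free generator -/
lemma un_comp_apply_of {T : FormalCoproduct.{u} D} (φ : S JD T ⟶ A) {U : D} (i : T.I)
    (g : U ⟶ T.obj i) :
    (un JD T ≫ φ.hom).app (op U)
      (FreeAbelianGroup.of ((Y.obj T).map g.op (ygen T i)) :
        FreeAbelianGroup ((Y.obj T).obj (op U))) = A.obj.map g.op (ev φ i) := by
  have h1 : (FreeAbelianGroup.of ((Y.obj T).map g.op (ygen T i)) :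
        FreeAbelianGroup ((Y.obj T).obj (op U))) =
      (freePsh.obj (Y.obj T)).map g.op (fgen T i) := (freePsh_res_of g.op (ygen T i)).symm
  rw [h1]
  exact ConcreteCategory.congr_hom ((un JD T ≫ φ.hom).naturality g.op) (fgen T i)

lemma hom_ext_of_ev {T : FormalCoproduct.{u} D} (φ φ' : S JD T ⟶ A)
    (h : ∀ i, ev φ i = ev φ' i) : φ = φ' := by
  apply ((sheafificationAdjunction JD AddCommGrpCat.{u}).homEquiv _ _).injective
  rw [Adjunction.homEquiv_unit, Adjunction.homEquiv_unit]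
  show un JD T ≫ φ.hom = un JD T ≫ φ'.hom
  ext U : 2
  apply AddCommGrpCat.hom_ext
  apply FreeAbelianGroup.lift_ext
  intro x
  obtain ⟨U⟩ := U
  obtain ⟨i, g, rfl⟩ := exists_eq_res T x
  exact (un_comp_apply_of φ i g).trans ((congrArg _ (h i)).trans (un_comp_apply_of φ' i g).symm)

lemma ev_add {T : FormalCoproduct.{u} D} (φ φ' : S JD T ⟶ A) (i : T.I) :
    ev (φ + φ') i = ev φ i + ev φ' i := rfl

/-- evaluation as an additive map -/
noncomputable def evHom (T : FormalCoproduct.{u} D) :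
    (S JD T ⟶ A) →+ (∀ i : T.I, A.obj.obj (op (T.obj i))) where
  toFun φ := ev φ
  map_zero' := rfl
  map_add' _ _ := rfl

lemma evHom_apply {T : FormalCoproduct.{u} D} (φ : S JD T ⟶ A) (i : T.I) :
    evHom (JD := JD) (A := A) T φ i = ev φ i := rfl

section Surj

variable {T : FormalCoproduct.{u} D} (c : ∀ i : T.I, A.obj.obj (op (T.obj i)))

/-- the map of presheaves of sets attached to a family of sections -/
noncomputable def ψ₀ : Y.obj T ⟶ A.obj ⋙ forget AddCommGrpCat.{u} :=
  Sigma.desc (fun i => yonedaEquiv.symm (c i))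

lemma ψ₀_ygen (i : T.I) : (ψ₀ c).app (op (T.obj i)) (ygen T i) = c i := by
  have h : Sigma.ι (fun i => yoneda.obj (T.obj i)) i ≫ ψ₀ c = yonedaEquiv.symm (c i) :=
    Sigma.ι_desc _ _
  have h2 := ConcreteCategory.congr_hom (NatTrans.congr_app h (op (T.obj i))) (𝟙 (T.obj i))
  refine Eq.trans ?_ (h2.trans ?_)
  · rfl
  · exact (yonedaEquiv (F := A.obj ⋙ forget AddCommGrpCat.{u}) (X := T.obj i)).apply_symm_apply (c i)

/-- the map of presheaves of abelian groups -/
noncomputable def ψ₁ : freePsh.obj (Y.obj T) ⟶ A.obj where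
  app U := AddCommGrpCat.ofHom (FreeAbelianGroup.lift (fun y => (ψ₀ c).app U y))
  naturality U V g := by
    apply AddCommGrpCat.hom_ext
    apply FreeAbelianGroup.lift_ext
    intro y
    show (FreeAbelianGroup.lift (fun y => (ψ₀ c).app V y))
        ((freePsh.obj (Y.obj T)).map g (FreeAbelianGroup.of y : FreeAbelianGroup _)) =
      A.obj.map g ((FreeAbelianGroup.lift (fun y => (ψ₀ c).app U y)) (FreeAbelianGroup.of y))
    rw [freePsh_res_of, FreeAbelianGroup.lift_apply_of, FreeAbelianGroup.lift_apply_of]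
    exact ConcreteCategory.congr_hom ((ψ₀ c).naturality g) y

/-- the morphism of sheaves -/
noncomputable def mkHom : S JD T ⟶ A :=
  ((sheafificationAdjunction JD AddCommGrpCat.{u}).homEquiv _ _).symm (ψ₁ c)

lemma un_mkHom : un JD T ≫ (mkHom c).hom = ψ₁ c := by
  have h := ((sheafificationAdjunction JD AddCommGrpCat.{u}).homEquiv _ _).apply_symm_apply (ψ₁ c)
  rw [Adjunction.homEquiv_unit] at h
  exact h

lemma ev_mkHom (i : T.I) : ev (mkHom c) i = c i := by
  unfold ev gen
  have h1 := ConcreteCategory.congr_hom (NatTrans.congr_app (un_mkHom c) (op (T.obj i))) (fgen T i)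
  refine Eq.trans ?_ (h1.trans ?_)
  · rfl
  · unfold fgen
    show (FreeAbelianGroup.lift (fun y => (ψ₀ c).app (op (T.obj i)) y))
      (FreeAbelianGroup.of (ygen T i)) = c i
    rw [FreeAbelianGroup.lift_apply_of]
    exact ψ₀_ygen c i

end Surj

end Groth.Agent.Lib.Helper4.CechDict
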