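import Mathlib.Tactic
import Mathlib.CategoryTheory.Sites.SheafCohomology.Cech
import Mathlib.Algebra.Category.Grp.Limits
import Mathlib.Algebra.Category.Grp.EpiMono
import Mathlib.Algebra.Category.Grp.Abelian
import Mathlib.Algebra.Homology.ShortComplex.HomologicalComplex
import Mathlib.CategoryTheory.Limits.Shapes.ConcreteCategory

namespace Groth.Agent.Lib.Helper4.CechH0

open CategoryTheory CategoryTheory.Limits Opposite

universe u

/-- H^0 of a cochain complex of abelian groups from an explicit kernel. -/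
theorem nonempty_homology_zero_iso (Kc : CochainComplex AddCommGrpCat.{u} ℕ) (G : AddCommGrpCat.{u})
    (φ : G ⟶ Kc.X 0) (hφ : φ ≫ Kc.d 0 1 = 0) (inj : Function.Injective φ)
    (surj : ∀ y : Kc.X 0, Kc.d 0 1 y = 0 → ∃ s, φ s = y) :
    Nonempty (Kc.homology 0 ≅ G) := by
  let ψ : G ⟶ Kc.cycles 0 := Kc.liftCycles φ 1 (by simp) hφ
  have hψ : ψ ≫ Kc.iCycles 0 = φ := Kc.liftCycles_i _ _ _ _
  have hψ' : ∀ s, Kc.iCycles 0 (ψ s) = φ s := fun s => ConcreteCategory.congr_hom hψ s
  have hmono : Function.Injective (Kc.iCycles 0) :=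
    (AddCommGrpCat.mono_iff_injective _).1 inferInstance
  have hbij : Function.Bijective ψ := by
    constructor
    · intro a b hab
      apply inj
      rw [← hψ', ← hψ', hab]
    · intro z
      have hz : Kc.d 0 1 (Kc.iCycles 0 z) = 0 :=
        ConcreteCategory.congr_hom (Kc.iCycles_d 0 1) z
      obtain ⟨s, hs⟩ := surj _ hz
      refine ⟨s, hmono ?_⟩
      rw [hψ', hs]
  have : IsIso ψ := (ConcreteCategory.isIso_iff_bijective ψ).2 hbij
  exact ⟨Kc.isoHomologyπ₀.symm ≪≫ (asIso ψ).symm⟩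


section Cech

variable {D : Type u} [SmallCategory D] (K : SimplicialObject (FormalCoproduct.{u} D))
  (P : Dᵒᵖ ⥤ AddCommGrpCat.{u})

/-- the Cech complex -/
noncomputable abbrev Kc : CochainComplex AddCommGrpCat.{u} ℕ :=
  (FormalCoproduct.cochainComplexFunctor K).obj P

open Simplicial in
/-- coface maps -/
noncomputable abbrev cof (i : Fin 2) : (Kc K P).X 0 ⟶ (Kc K P).X 1 :=
  Pi.lift fun k : (K.obj (op ⦋1⦌)).I => Pi.π _ ((K.δ i).f k) ≫ P.map ((K.δ i).φ k).op

open Simplicial in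
lemma d01 : (Kc K P).d 0 1 = cof K P 0 - cof K P 1 := by
  have h1 : (Kc K P).d 0 1 = AlgebraicTopology.AlternatingCofaceMapComplex.objD
      ((FormalCoproduct.cosimplicialObjectFunctor K).obj P) 0 :=
    CochainComplex.of_d (fun n => ((FormalCoproduct.cosimplicialObjectFunctor K).obj P).obj (SimplexCategory.mk n))
      (AlgebraicTopology.AlternatingCofaceMapComplex.objD
        ((FormalCoproduct.cosimplicialObjectFunctor K).obj P)) 0
  have h2 : ((FormalCoproduct.cosimplicialObjectFunctor K).obj P).δ 0 = cof K P 0 := rfl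
  have h3 : ((FormalCoproduct.cosimplicialObjectFunctor K).obj P).δ 1 = cof K P 1 := rfl
  have h4 : AlgebraicTopology.AlternatingCofaceMapComplex.objD
      ((FormalCoproduct.cosimplicialObjectFunctor K).obj P) 0 =
      ((FormalCoproduct.cosimplicialObjectFunctor K).obj P).δ 0 -
        ((FormalCoproduct.cosimplicialObjectFunctor K).obj P).δ 1 := by
    rw [AlgebraicTopology.AlternatingCofaceMapComplex.objD, Fin.sum_univ_two]
    simp [sub_eq_add_neg]
  rw [h1, h4, h2, h3]
  rfl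


open Simplicial in
lemma π_cof (i : Fin 2) (x : (Kc K P).X 0) (k : (K.obj (op ⦋1⦌)).I) :
    Pi.π (fun k : (K.obj (op ⦋1⦌)).I => P.obj (op ((K.obj (op ⦋1⦌)).obj k))) k (cof K P i x) =
      P.map ((K.δ i).φ k).op
        (Pi.π (fun j : (K.obj (op ⦋0⦌)).I => P.obj (op ((K.obj (op ⦋0⦌)).obj j))) ((K.δ i).f k) x) :=
  ConcreteCategory.congr_hom (Pi.lift_π _ k) x

open Simplicial in
lemma kernel_cond (x : (Kc K P).X 0) (hx : (Kc K P).d 0 1 x = 0) (k : (K.obj (op ⦋1⦌)).I) :
    P.map ((K.δ 0).φ k).op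
        (Pi.π (fun j : (K.obj (op ⦋0⦌)).I => P.obj (op ((K.obj (op ⦋0⦌)).obj j))) ((K.δ 0).f k) x) =
    P.map ((K.δ 1).φ k).op
        (Pi.π (fun j : (K.obj (op ⦋0⦌)).I => P.obj (op ((K.obj (op ⦋0⦌)).obj j))) ((K.δ 1).f k) x) := by
  rw [d01] at hx
  have h1 : cof K P 0 x - cof K P 1 x = 0 := hx
  have h2 : cof K P 0 x = cof K P 1 x := sub_eq_zero.1 h1
  rw [← π_cof, ← π_cof, h2]

lemma elt_ext {ι : Type u} (f : ι → AddCommGrpCat.{u}) (a b : (∏ᶜ f : AddCommGrpCat.{u}))
    (h : ∀ i, Pi.π f i a = Pi.π f i b) : a = b := by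
  apply (Concrete.productEquiv f).injective
  funext i
  rw [Concrete.productEquiv_apply_apply, Concrete.productEquiv_apply_apply, h]

end Cech

end Groth.Agent.Lib.Helper4.CechH0
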