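import Mathlib.Tactic
import Mathlib.CategoryTheory.Sites.Over
import Mathlib.CategoryTheory.Preadditive.Injective.Basic
import Mathlib.CategoryTheory.Limits.Constructions.Over.Connected
import Groth.Agent.Lib.Helper1.LanExact

namespace Groth.Agent.Lib.Helper4.RestrInj

open CategoryTheory CategoryTheory.Limits Opposite

universe u

variable {C : Type u} [SmallCategory C] [HasPullbacks C] (J : GrothendieckTopology C) (X : C)

/-- restriction to the slice site -/
noncomputable abbrev restr : Sheaf J AddCommGrpCat.{u} ⥤ Sheaf (J.over X) AddCommGrpCat.{u} :=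
  (Over.forget X).sheafPushforwardContinuous AddCommGrpCat.{u} (J.over X) J

omit [HasPullbacks C] in
lemma restr_obj (I : Sheaf J AddCommGrpCat.{u}) :
    ((restr J X).obj I).obj = (Over.forget X).op ⋙ I.obj := rfl

instance : HasFiniteLimits (Over X) := hasFiniteLimits_of_hasTerminal_and_pullbacks

theorem injective_restr (I : Sheaf J AddCommGrpCat.{u}) [Injective I] :
    Injective ((restr J X).obj I) := by
  haveI : PreservesFiniteLimits
      ((Over.forget X).sheafPullback AddCommGrpCat.{u} (J.over X) J) :=
    Groth.Agent.Lib.Helper1.LanExact.sheafPullback_preservesFiniteLimits (J.over X) J (Over.forget X)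
  exact Injective.injective_of_adjoint
    ((Over.forget X).sheafAdjunctionContinuous AddCommGrpCat.{u} (J.over X) J) I

end Groth.Agent.Lib.Helper4.RestrInj
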