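import Mathlib.Tactic
import Groth.Agent.Lib.Helper4.CechDict
import Groth.Agent.Lib.Helper4.CechH0
import Groth.Agent.Lib.Helper4.RestrInj
import Groth.Agent.Lib.Helper4.HyperSite
import Groth.Agent.Lib.Helper4.PairLift
import Groth.Prelude

namespace Groth.Agent.Lib.Helper4.CechInj

open CategoryTheory CategoryTheory.Limits Opposite Simplicial
open Groth.Agent.Lib.Helper4.FreeLocBij Groth.Agent.Lib.Helper4.HyperAcyc
open Groth.Agent.Lib.Helper4.CechDict

universe u

variable {D : Type u} [SmallCategory D] (JD : GrothendieckTopology D)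
  (A : Sheaf JD AddCommGrpCat.{u}) (K : SimplicialObject (FormalCoproduct.{u} D))

/-- the Cech complex -/
noncomputable abbrev Kc : CochainComplex AddCommGrpCat.{u} ℕ :=
  (FormalCoproduct.cochainComplexFunctor K).obj A.obj

/-- the chain complex of free sheaves -/
noncomputable abbrev Z : ChainComplex (Sheaf JD AddCommGrpCat.{u}) ℕ := Zc JD (K ⋙ Y)

/-- the family type in degree `m` -/
abbrev Fam (m : ℕ) : Type u :=
  ∀ i : (K.obj (op ⦋m⦌)).I, A.obj.obj (op ((K.obj (op ⦋m⦌)).obj i))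

/-- from families to Cech cochains -/
noncomputable def toC (m : ℕ) : Fam JD A K m ≃
    (∏ᶜ fun i : (K.obj (op ⦋m⦌)).I => A.obj.obj (op ((K.obj (op ⦋m⦌)).obj i)) : AddCommGrpCat.{u}) :=
  (Concrete.productEquiv
    (fun i : (K.obj (op ⦋m⦌)).I => A.obj.obj (op ((K.obj (op ⦋m⦌)).obj i)))).symm

lemma π_toC (m : ℕ) (v : Fam JD A K m) (i : (K.obj (op ⦋m⦌)).I) :
    Pi.π (fun i : (K.obj (op ⦋m⦌)).I => A.obj.obj (op ((K.obj (op ⦋m⦌)).obj i))) i
      (toC JD A K m v) = v i := by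
  have := Concrete.productEquiv_apply_apply
    (fun i : (K.obj (op ⦋m⦌)).I => A.obj.obj (op ((K.obj (op ⦋m⦌)).obj i))) (toC JD A K m v) i
  rw [← this]
  exact congrFun ((Concrete.productEquiv
    (fun i : (K.obj (op ⦋m⦌)).I => A.obj.obj (op ((K.obj (op ⦋m⦌)).obj i)))).apply_symm_apply v) i

lemma sum_zsmul_apply {M N : AddCommGrpCat.{u}} {ι : Type*} (s : Finset ι) (c : ι → ℤ)
    (g : ι → (M ⟶ N)) (x : M) : (∑ k ∈ s, c k • g k) x = ∑ k ∈ s, c k • (g k x) := by
  classical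
  induction s using Finset.induction_on with
  | empty => simp
  | insert a s ha ih =>
    rw [Finset.sum_insert ha, Finset.sum_insert ha, ← ih]
    rfl

/-- the Cech cochain groups -/
noncomputable abbrev CX (m : ℕ) : AddCommGrpCat.{u} :=
  ∏ᶜ fun i : (K.obj (op ⦋m⦌)).I => A.obj.obj (op ((K.obj (op ⦋m⦌)).obj i))

/-- coface maps -/
noncomputable abbrev cof (m : ℕ) (k : Fin (m + 2)) : CX JD A K m ⟶ CX JD A K (m + 1) :=
  Pi.lift fun j : (K.obj (op ⦋m + 1⦌)).I =>
    Pi.π (fun i : (K.obj (op ⦋m⦌)).I => A.obj.obj (op ((K.obj (op ⦋m⦌)).obj i))) ((K.δ k).f j) ≫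
      A.obj.map ((K.δ k).φ j).op

/-- the Cech differential -/
noncomputable def dC (m : ℕ) : CX JD A K m ⟶ CX JD A K (m + 1) :=
  ∑ k : Fin (m + 2), ((-1 : ℤ) ^ (k : ℕ)) • cof JD A K m k

lemma Kc_d (m : ℕ) : (Kc JD A K).d m (m + 1) = dC JD A K m := by
  have h1 : (Kc JD A K).d m (m + 1) = AlgebraicTopology.AlternatingCofaceMapComplex.objD
      ((FormalCoproduct.cosimplicialObjectFunctor K).obj A.obj) m :=
    CochainComplex.of_d
      (fun n => ((FormalCoproduct.cosimplicialObjectFunctor K).obj A.obj).obj (SimplexCategory.mk n))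
      (AlgebraicTopology.AlternatingCofaceMapComplex.objD
        ((FormalCoproduct.cosimplicialObjectFunctor K).obj A.obj)) m
  rw [h1]
  rfl

lemma dC_π (m : ℕ) (j : (K.obj (op ⦋m + 1⦌)).I) :
    dC JD A K m ≫
      Pi.π (fun i : (K.obj (op ⦋m + 1⦌)).I => A.obj.obj (op ((K.obj (op ⦋m + 1⦌)).obj i))) j =
    ∑ k : Fin (m + 2), ((-1 : ℤ) ^ (k : ℕ)) •
      (Pi.π (fun i : (K.obj (op ⦋m⦌)).I => A.obj.obj (op ((K.obj (op ⦋m⦌)).obj i)))
        ((K.δ k).f j) ≫ A.obj.map ((K.δ k).φ j).op) := by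
  unfold dC
  rw [Preadditive.sum_comp]
  apply Finset.sum_congr rfl
  intro k _
  rw [Preadditive.zsmul_comp]
  congr 1
  exact Pi.lift_π _ j

lemma Z_d (m : ℕ) :
    (Z JD K).d (m + 1) m =
      ∑ k : Fin (m + 2), ((-1 : ℤ) ^ (k : ℕ)) • (G JD).map (Y.map (K.δ k)) :=
  AlgebraicTopology.AlternatingFaceMapComplex.obj_d_eq _ m

/-- the differential of the free complex -/
noncomputable def ZD (m : ℕ) : S JD (K.obj (op ⦋m + 1⦌)) ⟶ S JD (K.obj (op ⦋m⦌)) :=
  ∑ k : Fin (m + 2), ((-1 : ℤ) ^ (k : ℕ)) • (G JD).map (Y.map (K.δ k))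

lemma Z_d' (m : ℕ) : (Z JD K).d (m + 1) m = ZD JD K m := Z_d JD K m

lemma dC_toC_ev (m : ℕ) (φ : S JD (K.obj (op ⦋m⦌)) ⟶ A) :
    dC JD A K m (toC JD A K m (ev φ)) = toC JD A K (m + 1) (ev (ZD JD K m ≫ φ)) := by
  apply Groth.Agent.Lib.Helper4.CechH0.elt_ext
  intro j
  rw [π_toC]
  have h1 := ConcreteCategory.congr_hom (dC_π JD A K m j) (toC JD A K m (ev φ))
  refine h1.trans ?_
  rw [sum_zsmul_apply]
  have h2 : ev (ZD JD K m ≫ φ) j =
      ∑ k : Fin (m + 2), ((-1 : ℤ) ^ (k : ℕ)) • ev ((G JD).map (Y.map (K.δ k)) ≫ φ) j := by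
    unfold ZD
    rw [Preadditive.sum_comp]
    have h3 := congrFun (map_sum (evHom (JD := JD) (A := A) (K.obj (op ⦋m + 1⦌)))
      (fun k : Fin (m + 2) => (((-1 : ℤ) ^ (k : ℕ)) • (G JD).map (Y.map (K.δ k))) ≫ φ)
      Finset.univ) j
    rw [Finset.sum_apply] at h3
    refine h3.trans ?_
    apply Finset.sum_congr rfl
    intro k _
    rw [Preadditive.zsmul_comp, map_zsmul]
    rfl
  rw [h2]
  apply Finset.sum_congr rfl
  intro k _
  congr 1
  rw [ev_map]
  show A.obj.map ((K.δ k).φ j).op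
    ((Pi.π (fun i : (K.obj (op ⦋m⦌)).I => A.obj.obj (op ((K.obj (op ⦋m⦌)).obj i)))
      ((K.δ k).f j)) (toC JD A K m (ev φ))) = _
  rw [π_toC]

theorem isZero_homology_succ [Injective A]
    (hZ : ∀ i : ℕ, IsZero ((Z JD K).homology (i + 1))) (p : ℕ) :
    IsZero ((Kc JD A K).homology (p + 1)) := by
  rw [← HomologicalComplex.exactAt_iff_isZero_homology,
    HomologicalComplex.exactAt_iff' _ p (p + 1) (p + 2) (by simp) (by simp),
    ShortComplex.ab_exact_iff]
  intro c hc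
  have hc' : dC JD A K (p + 1) c = 0 := by
    rw [← Kc_d]
    exact hc
  -- the cocycle as a morphism
  obtain ⟨v, rfl⟩ := (toC JD A K (p + 1)).surjective c
  let c' : S JD (K.obj (op ⦋p + 1⦌)) ⟶ A := mkHom v
  have hv : ev c' = v := funext (ev_mkHom v)
  have hzero : ZD JD K (p + 1) ≫ c' = 0 := by
    apply hom_ext_of_ev
    intro i
    have h1 := dC_toC_ev JD A K (p + 1) c'
    rw [hv, hc'] at h1
    have h2 := congrArg (Pi.π (fun i : (K.obj (op ⦋p + 2⦌)).I =>
      A.obj.obj (op ((K.obj (op ⦋p + 2⦌)).obj i))) i) h1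
    rw [π_toC, map_zero] at h2
    exact h2.symm
  -- exactness of the free complex
  have hex : ((Z JD K).sc' (p + 2) (p + 1) p).Exact := by
    rw [← HomologicalComplex.exactAt_iff' _ (p + 2) (p + 1) p (by simp) (by simp),
      HomologicalComplex.exactAt_iff_isZero_homology]
    exact hZ p
  have hzero' : ((Z JD K).sc' (p + 2) (p + 1) p).f ≫ c' = 0 := by
    show (Z JD K).d (p + 2) (p + 1) ≫ c' = 0
    rw [Z_d']
    exact hzero
  let b' : S JD (K.obj (op ⦋p⦌)) ⟶ A := hex.descToInjective c' hzero'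
  have hb' : ZD JD K p ≫ b' = c' := by
    have := hex.comp_descToInjective c' hzero'
    rw [← Z_d']
    exact this
  refine ⟨toC JD A K p (ev b'), ?_⟩
  have e1 : dC JD A K p (toC JD A K p (ev b')) = toC JD A K (p + 1) v := by
    rw [dC_toC_ev, hb', hv]
  refine Eq.trans ?_ e1
  exact ConcreteCategory.congr_hom (Kc_d JD A K p) (toC JD A K p (ev b'))

theorem main0895 {C : Type u} [SmallCategory C] [HasPullbacks C]
    (J : GrothendieckTopology C) (X : C) (K : SimplicialObject (FormalCoproduct.{u} (Over X)))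
    [∀ (n : ℕ) (F : (SimplexCategory.Truncated n)ᵒᵖ ⥤ Limits.FormalCoproduct.{u} (Over X)),
      (SimplexCategory.Truncated.inclusion n).op.HasRightKanExtension F]
    (hK : Hyper.IsHypercovering J X K) (I : Sheaf J AddCommGrpCat.{u}) [Injective I] :
    ∀ p : ℕ, IsZero (Hyper.cechH X K I.obj (p + 1)) := by
  intro p
  haveI : Injective ((Groth.Agent.Lib.Helper4.RestrInj.restr J X).obj I) :=
    Groth.Agent.Lib.Helper4.RestrInj.injective_restr J X I
  have h0 : Presheaf.IsLocallySurjective (J.over X)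
      (toPt (Y.obj (K.obj (op (SimplexCategory.mk 0))))) :=
    toPt_locallySurjective _ _ (Groth.Agent.Lib.Helper4.HyperSite.locallySurjective_terminal J X _ hK.1)
  have hn : ∀ n : ℕ, Presheaf.IsLocallySurjective (J.over X)
      (Y.map ((Groth.Agent.Lib.Helper4.CoskTower.η K n).app (op (SimplexCategory.mk (n + 1))))) := fun n =>
    Groth.Agent.Lib.Helper4.HyperSite.locallySurjective_of_srCovering (J.over X) _ (hK.2 n)
  have hZ := (Groth.Agent.Lib.Helper4.HyperAcyc.main (J.over X) K h0 hn).1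
  exact isZero_homology_succ (J.over X) ((Groth.Agent.Lib.Helper4.RestrInj.restr J X).obj I) K hZ p

end Groth.Agent.Lib.Helper4.CechInj
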