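import Mathlib.Tactic
import Mathlib.CategoryTheory.Sites.Sheaf
import Mathlib.CategoryTheory.Sites.Over
import Mathlib.CategoryTheory.Sites.IsSheafFor
import Groth.Agent.Lib.Helper4.CechH0
import Groth.Agent.Lib.Helper4.PairLift

namespace Groth.Agent.Lib.Helper4.HyperH0

open CategoryTheory CategoryTheory.Limits Opposite Simplicial Groth.Agent.Lib.Helper4

universe u

variable {C : Type u} [SmallCategory C] (J : GrothendieckTopology C) (X : C)
  (K : SimplicialObject (FormalCoproduct.{u} (Over X)))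
  (F : Sheaf J AddCommGrpCat.{u})

/-- the restricted presheaf -/
abbrev P' : (Over X)ᵒᵖ ⥤ AddCommGrpCat.{u} := (Over.forget X).op ⋙ F.obj

/-- degree 0 term -/
noncomputable abbrev X0 : AddCommGrpCat.{u} :=
  ∏ᶜ fun i : (K.obj (op ⦋0⦌)).I => F.obj.obj (op ((K.obj (op ⦋0⦌)).obj i).left)

/-- degree 1 term -/
noncomputable abbrev X1 : AddCommGrpCat.{u} :=
  ∏ᶜ fun k : (K.obj (op ⦋1⦌)).I => F.obj.obj (op ((K.obj (op ⦋1⦌)).obj k).left)

example : (CechH0.Kc K (P' J X F)).X 0 = X0 J X K F := rfl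
example : (CechH0.Kc K (P' J X F)).X 1 = X1 J X K F := rfl

/-- cofaces -/
noncomputable def cof' (i : Fin 2) : X0 J X K F ⟶ X1 J X K F :=
  Pi.lift fun k : (K.obj (op ⦋1⦌)).I => Pi.π _ ((K.δ i).f k) ≫ F.obj.map ((K.δ i).φ k).left.op

example (i : Fin 2) : CechH0.cof K (P' J X F) i = cof' J X K F i := rfl

lemma d01' : (CechH0.Kc K (P' J X F)).d 0 1 = cof' J X K F 0 - cof' J X K F 1 :=
  CechH0.d01 K (P' J X F)

/-- the comparison map -/
noncomputable def φ : F.obj.obj (op X) ⟶ X0 J X K F :=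
  Pi.lift fun i : (K.obj (op ⦋0⦌)).I => F.obj.map ((K.obj (op ⦋0⦌)).obj i).hom.op

lemma π_φ (i : (K.obj (op ⦋0⦌)).I) (s : F.obj.obj (op X)) :
    Pi.π (fun j : (K.obj (op ⦋0⦌)).I => F.obj.obj (op ((K.obj (op ⦋0⦌)).obj j).left)) i
      (φ J X K F s) = F.obj.map ((K.obj (op ⦋0⦌)).obj i).hom.op s :=
  ConcreteCategory.congr_hom (Pi.lift_π _ i) s

lemma φ_cof (i : Fin 2) :
    φ J X K F ≫ cof' J X K F i =
      Pi.lift fun k : (K.obj (op ⦋1⦌)).I => F.obj.map ((K.obj (op ⦋1⦌)).obj k).hom.op := by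
  apply Pi.hom_ext
  intro k
  rw [Category.assoc, Pi.lift_π, cof', Pi.lift_π, φ, Pi.lift_π_assoc]
  rw [← F.obj.map_comp, ← op_comp, Over.w]

lemma φ_d : φ J X K F ≫ (cof' J X K F 0 - cof' J X K F 1) = 0 := by
  rw [Preadditive.comp_sub, φ_cof, φ_cof, sub_self]


/-- the presieve of `K_0` over `X` -/
abbrev R0 : Presieve X :=
  Presieve.ofArrows (fun i : (K.obj (op ⦋0⦌)).I => ((K.obj (op ⦋0⦌)).obj i).left)
    (fun i => ((K.obj (op ⦋0⦌)).obj i).hom)

lemma isSheaf_forget : Presieve.IsSheaf J (F.obj ⋙ forget AddCommGrpCat.{u}) :=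
  (isSheaf_iff_isSheaf_of_type J _).1
    ((Presheaf.isSheaf_iff_isSheaf_forget J F.obj (forget AddCommGrpCat.{u})).1 F.property)

lemma isSheafFor_R0 (hK0 : HyperPB.Covers J X (K.obj (op ⦋0⦌))) :
    (R0 X K).IsSheafFor (F.obj ⋙ forget AddCommGrpCat.{u}) := by
  rw [Presieve.isSheafFor_iff_generate]
  exact isSheaf_forget J F _ hK0

lemma φ_injective (hK0 : HyperPB.Covers J X (K.obj (op ⦋0⦌))) :
    Function.Injective (φ J X K F) := by
  intro s s' h
  have hs := isSheafFor_R0 J X K F hK0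
  refine hs.isSeparatedFor.ext ?_
  rintro Y f ⟨i⟩
  change F.obj.map _ s = F.obj.map _ s'
  rw [← π_φ, ← π_φ, h]

lemma kernel_cond' (y : X0 J X K F) (hy : (cof' J X K F 0 - cof' J X K F 1) y = 0)
    (k : (K.obj (op ⦋1⦌)).I) :
    F.obj.map ((K.δ 0).φ k).left.op
        (Pi.π (fun j : (K.obj (op ⦋0⦌)).I => F.obj.obj (op ((K.obj (op ⦋0⦌)).obj j).left))
          ((K.δ 0).f k) y) =
    F.obj.map ((K.δ 1).φ k).left.op
        (Pi.π (fun j : (K.obj (op ⦋0⦌)).I => F.obj.obj (op ((K.obj (op ⦋0⦌)).obj j).left))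
          ((K.δ 1).f k) y) :=
  CechH0.kernel_cond K (P' J X F) y (by rw [CechH0.d01]; exact hy) k


lemma transport (x : ∀ i : (K.obj (op ⦋0⦌)).I, F.obj.obj (op ((K.obj (op ⦋0⦌)).obj i).left))
    {V : Over X} {i' i : (K.obj (op ⦋0⦌)).I} (h : i' = i) (m : V ⟶ (K.obj (op ⦋0⦌)).obj i') :
    F.obj.map (m ≫ eqToHom (congrArg (K.obj (op ⦋0⦌)).obj h)).left.op (x i) =
      F.obj.map m.left.op (x i') := by
  subst h
  simp

lemma map_map_apply {A B D : C} (f : A ⟶ B) (g : B ⟶ D) (z : F.obj.obj (op D)) :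
    F.obj.map f.op (F.obj.map g.op z) = F.obj.map (f ≫ g).op z := by
  rw [op_comp, F.obj.map_comp]
  rfl

section

variable [HasPullbacks C]
  [∀ (n : ℕ) (F : (SimplexCategory.Truncated n)ᵒᵖ ⥤ FormalCoproduct.{u} (Over X)),
      (SimplexCategory.Truncated.inclusion n).op.HasRightKanExtension F]

lemma compat (hK : Hyper.IsHypercovering J X K) (y : X0 J X K F)
    (hy : (cof' J X K F 0 - cof' J X K F 1) y = 0) :
    Presieve.Arrows.Compatible (F.obj ⋙ forget AddCommGrpCat.{u})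
      (fun i : (K.obj (op ⦋0⦌)).I => ((K.obj (op ⦋0⦌)).obj i).hom)
      (fun i => Pi.π (fun j : (K.obj (op ⦋0⦌)).I =>
        F.obj.obj (op ((K.obj (op ⦋0⦌)).obj j).left)) i y) := by
  intro i j Z gi gj h
  set x : ∀ i : (K.obj (op ⦋0⦌)).I, F.obj.obj (op ((K.obj (op ⦋0⦌)).obj i).left) :=
    fun i => Pi.π (fun j : (K.obj (op ⦋0⦌)).I =>
        F.obj.obj (op ((K.obj (op ⦋0⦌)).obj j).left)) i y with hx
  change F.obj.map gi.op (x i) = F.obj.map gj.op (x j)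
  let U : Over X := Over.mk (gi ≫ ((K.obj (op ⦋0⦌)).obj i).hom)
  let si : U ⟶ (K.obj (op ⦋0⦌)).obj i := Over.homMk gi rfl
  let sj : U ⟶ (K.obj (op ⦋0⦌)).obj j := Over.homMk gj h.symm
  let s : (FormalCoproduct.incl (Over X)).obj U ⟶ K.obj (op ⦋0⦌) :=
    FormalCoproduct.Hom.fromIncl i si
  let t : (FormalCoproduct.incl (Over X)).obj U ⟶ K.obj (op ⦋0⦌) :=
    FormalCoproduct.Hom.fromIncl j sj
  have hcov := PairLift.pair_lift K (J.over X) (hK.2 0) s t
  rw [GrothendieckTopology.mem_over_iff] at hcov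
  refine (isSheaf_forget J F _ hcov).isSeparatedFor.ext ?_
  intro W g hg
  rw [Sieve.overEquiv_iff] at hg
  obtain ⟨b, h1, h0⟩ := hg
  obtain ⟨hi1, e1⟩ := (FormalCoproduct.hom_ext_iff' _ _).1 h1 PUnit.unit
  obtain ⟨hi0, e0⟩ := (FormalCoproduct.hom_ext_iff' _ _).1 h0 PUnit.unit
  have hi1' : (K.δ 1).f (b.f PUnit.unit) = i := hi1
  have hi0' : (K.δ 0).f (b.f PUnit.unit) = j := hi0
  have e1' : (b.φ PUnit.unit ≫ (K.δ 1).φ (b.f PUnit.unit)) ≫
      eqToHom (congrArg (K.obj (op ⦋0⦌)).obj hi1') =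
      (Over.homMk g : Over.mk (g ≫ U.hom) ⟶ U) ≫ si := e1
  have e0' : (b.φ PUnit.unit ≫ (K.δ 0).φ (b.f PUnit.unit)) ≫
      eqToHom (congrArg (K.obj (op ⦋0⦌)).obj hi0') =
      (Over.homMk g : Over.mk (g ≫ U.hom) ⟶ U) ≫ sj := e0
  change F.obj.map g.op (F.obj.map gi.op (x i)) = F.obj.map g.op (F.obj.map gj.op (x j))
  rw [map_map_apply, map_map_apply]
  have l1 : g ≫ gi = ((Over.homMk g : Over.mk (g ≫ U.hom) ⟶ U) ≫ si).left := rfl
  have l0 : g ≫ gj = ((Over.homMk g : Over.mk (g ≫ U.hom) ⟶ U) ≫ sj).left := rfl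
  rw [l1, l0, ← e1', ← e0']
  have t1 := transport J X K F x hi1' (V := Over.mk (g ≫ U.hom))
    (b.φ PUnit.unit ≫ (K.δ 1).φ (b.f PUnit.unit))
  have t0 := transport J X K F x hi0' (V := Over.mk (g ≫ U.hom))
    (b.φ PUnit.unit ≫ (K.δ 0).φ (b.f PUnit.unit))
  refine t1.trans (Eq.trans ?_ t0.symm)
  have k1 := kernel_cond' J X K F y hy (b.f PUnit.unit)
  have m1 := map_map_apply J F (b.φ PUnit.unit).left ((K.δ 1).φ (b.f PUnit.unit)).left
    (x ((K.δ 1).f (b.f PUnit.unit)))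
  have m0 := map_map_apply J F (b.φ PUnit.unit).left ((K.δ 0).φ (b.f PUnit.unit)).left
    (x ((K.δ 0).f (b.f PUnit.unit)))
  exact m1.symm.trans ((congrArg _ k1.symm).trans m0)

end


section

variable [HasPullbacks C]
  [∀ (n : ℕ) (F : (SimplexCategory.Truncated n)ᵒᵖ ⥤ FormalCoproduct.{u} (Over X)),
      (SimplexCategory.Truncated.inclusion n).op.HasRightKanExtension F]

lemma φ_surj (hK : Hyper.IsHypercovering J X K) (y : X0 J X K F)
    (hy : (cof' J X K F 0 - cof' J X K F 1) y = 0) : ∃ s, φ J X K F s = y := by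
  have hs := isSheafFor_R0 J X K F hK.1
  rw [Presieve.isSheafFor_arrows_iff] at hs
  obtain ⟨s, hs1, -⟩ := hs _ (compat J X K F hK y hy)
  refine ⟨s, ?_⟩
  apply CechH0.elt_ext
  intro i
  rw [π_φ]
  exact hs1 i

theorem main0906 (hK : Hyper.IsHypercovering J X K) :
    Nonempty (Hyper.cechH X K F.obj 0 ≅ F.obj.obj (op X)) := by
  refine CechH0.nonempty_homology_zero_iso (CechH0.Kc K (P' J X F)) (F.obj.obj (op X))
    (φ J X K F) ?_ (φ_injective J X K F hK.1) ?_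
  · rw [d01']
    exact φ_d J X K F
  · intro y hy
    rw [d01'] at hy
    exact φ_surj J X K F hK y hy

end

end Groth.Agent.Lib.Helper4.HyperH0
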