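import Mathlib.Tactic
import Groth.Agent.Lib.Helper4.CechInj
import Groth.Agent.Lib.Helper4.HyperH0
import Groth.Agent.Lib.Helper6.SheafCoh
import Groth.Agent.Lib.Helper4.AcycShift
import Groth.Agent.Lib.Helper4.AcycChase

namespace Groth.Agent.Lib.Helper4.AcycCech

open CategoryTheory CategoryTheory.Limits Opposite Simplicial

universe u

section Cech

variable {D : Type u} [SmallCategory D] (K : SimplicialObject (FormalCoproduct.{u} D))

/-- the Cech complex -/
noncomputable abbrev Kc (P : Dᵒᵖ ⥤ AddCommGrpCat.{u}) : CochainComplex AddCommGrpCat.{u} ℕ :=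
  (FormalCoproduct.cochainComplexFunctor K).obj P

/-- the map of Cech complexes -/
noncomputable abbrev Km {P Q : Dᵒᵖ ⥤ AddCommGrpCat.{u}} (α : P ⟶ Q) : Kc K P ⟶ Kc K Q :=
  (FormalCoproduct.cochainComplexFunctor K).map α

/-- the Cech cochain groups -/
noncomputable abbrev CX (P : Dᵒᵖ ⥤ AddCommGrpCat.{u}) (m : ℕ) : AddCommGrpCat.{u} :=
  ∏ᶜ fun i : (K.obj (op ⦋m⦌)).I => P.obj (op ((K.obj (op ⦋m⦌)).obj i))

variable {P Q R : Dᵒᵖ ⥤ AddCommGrpCat.{u}} (α : P ⟶ Q) (β : Q ⟶ R)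

/-- the degreewise maps -/
noncomputable abbrev KmF (m : ℕ) : CX K P m ⟶ CX K Q m :=
  Limits.Pi.map (fun i : (K.obj (op ⦋m⦌)).I => α.app (op ((K.obj (op ⦋m⦌)).obj i)))

lemma Km_f (m : ℕ) : (Km K α).f m = KmF K α m := rfl

lemma π_KmF (m : ℕ) (x : CX K P m) (i : (K.obj (op ⦋m⦌)).I) :
    Pi.π (fun i : (K.obj (op ⦋m⦌)).I => Q.obj (op ((K.obj (op ⦋m⦌)).obj i))) i
      (KmF K α m x) =
    α.app (op ((K.obj (op ⦋m⦌)).obj i))
      (Pi.π (fun i : (K.obj (op ⦋m⦌)).I => P.obj (op ((K.obj (op ⦋m⦌)).obj i))) i x) := by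
  have h : KmF K α m ≫ Pi.π (fun i : (K.obj (op ⦋m⦌)).I => Q.obj (op ((K.obj (op ⦋m⦌)).obj i))) i =
      Pi.π (fun i : (K.obj (op ⦋m⦌)).I => P.obj (op ((K.obj (op ⦋m⦌)).obj i))) i ≫
        α.app (op ((K.obj (op ⦋m⦌)).obj i)) := Limits.Pi.map_π _ i
  exact ConcreteCategory.congr_hom h x

/-- build an element of a product -/
noncomputable def mkElt {ι : Type u} (f : ι → AddCommGrpCat.{u}) (v : ∀ i, f i) :
    (∏ᶜ f : AddCommGrpCat.{u}) := (Concrete.productEquiv f).symm v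

lemma π_mkElt {ι : Type u} (f : ι → AddCommGrpCat.{u}) (v : ∀ i, f i) (i : ι) :
    Pi.π f i (mkElt f v) = v i := by
  have := Concrete.productEquiv_apply_apply f (mkElt f v) i
  rw [← this]
  exact congrFun ((Concrete.productEquiv f).apply_symm_apply v) i

lemma KmF_injective (h : ∀ U : Dᵒᵖ, Function.Injective (α.app U)) (m : ℕ) :
    Function.Injective (KmF K α m) := by
  intro a b hab
  apply Groth.Agent.Lib.Helper4.CechH0.elt_ext
    (fun i : (K.obj (op ⦋m⦌)).I => P.obj (op ((K.obj (op ⦋m⦌)).obj i)))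
  intro i
  apply h
  rw [← π_KmF, ← π_KmF, hab]

lemma KmF_surjective (h : ∀ U : Dᵒᵖ, Function.Surjective (α.app U)) (m : ℕ) :
    Function.Surjective (KmF K α m) := by
  intro y
  choose v hv using fun i : (K.obj (op ⦋m⦌)).I => h (op ((K.obj (op ⦋m⦌)).obj i))
    (Pi.π (fun i : (K.obj (op ⦋m⦌)).I => Q.obj (op ((K.obj (op ⦋m⦌)).obj i))) i y)
  refine ⟨mkElt (fun i : (K.obj (op ⦋m⦌)).I => P.obj (op ((K.obj (op ⦋m⦌)).obj i))) v, ?_⟩
  apply Groth.Agent.Lib.Helper4.CechH0.elt_ext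
    (fun i : (K.obj (op ⦋m⦌)).I => Q.obj (op ((K.obj (op ⦋m⦌)).obj i)))
  intro i
  rw [π_KmF, π_mkElt, hv]

lemma KmF_exact (h : ∀ (U : Dᵒᵖ) (x : Q.obj U), β.app U x = 0 → ∃ w, α.app U w = x) (m : ℕ)
    (x : CX K Q m) (hx : KmF K β m x = 0) : ∃ w, KmF K α m w = x := by
  have hx' : ∀ i : (K.obj (op ⦋m⦌)).I, β.app (op ((K.obj (op ⦋m⦌)).obj i))
      (Pi.π (fun i : (K.obj (op ⦋m⦌)).I => Q.obj (op ((K.obj (op ⦋m⦌)).obj i))) i x) = 0 := by
    intro i
    rw [← π_KmF, hx, map_zero]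
  choose v hv using fun i : (K.obj (op ⦋m⦌)).I => h (op ((K.obj (op ⦋m⦌)).obj i)) _ (hx' i)
  refine ⟨mkElt (fun i : (K.obj (op ⦋m⦌)).I => P.obj (op ((K.obj (op ⦋m⦌)).obj i))) v, ?_⟩
  apply Groth.Agent.Lib.Helper4.CechH0.elt_ext
    (fun i : (K.obj (op ⦋m⦌)).I => Q.obj (op ((K.obj (op ⦋m⦌)).obj i)))
  intro i
  rw [π_KmF, π_mkElt, hv]

lemma KmF_comp_zero (h : α ≫ β = 0) (m : ℕ) (w : CX K P m) :
    KmF K β m (KmF K α m w) = 0 := by
  apply Groth.Agent.Lib.Helper4.CechH0.elt_ext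
    (fun i : (K.obj (op ⦋m⦌)).I => R.obj (op ((K.obj (op ⦋m⦌)).obj i)))
  intro i
  rw [π_KmF, π_KmF, map_zero]
  have h1 := ConcreteCategory.congr_hom (congrArg (fun t => t.app (op ((K.obj (op ⦋m⦌)).obj i))) h)
    (Pi.π (fun i : (K.obj (op ⦋m⦌)).I => P.obj (op ((K.obj (op ⦋m⦌)).obj i))) i w)
  exact h1

end Cech

section Main

open Groth.Agent.Lib.Helper4.AcycShift Groth.Agent.Lib.Helper4.AcycChase

variable {C : Type u} [SmallCategory C] (J : GrothendieckTopology C)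

lemma sections_injective (S : ShortComplex (Sheaf J AddCommGrpCat.{u})) (hS : S.ShortExact)
    (U : Cᵒᵖ) : Function.Injective (S.f.hom.app U) := by
  haveI := hS.mono_f
  have h1 : Mono ((sheafToPresheaf J AddCommGrpCat.{u}).map S.f) := inferInstance
  have h2 : Mono (((sheafToPresheaf J AddCommGrpCat.{u}).map S.f).app U) := by
    rw [NatTrans.mono_iff_mono_app] at h1
    exact h1 U
  exact (AddCommGrpCat.mono_iff_injective _).1 h2

lemma sections_exact (S : ShortComplex (Sheaf J AddCommGrpCat.{u})) (hS : S.ShortExact)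
    (U : Cᵒᵖ) (x : S.X₂.obj.obj U) (hx : S.g.hom.app U x = 0) :
    ∃ w, S.f.hom.app U w = x := by
  let F := sheafToPresheaf J AddCommGrpCat.{u} ⋙ (evaluation Cᵒᵖ AddCommGrpCat.{u}).obj U
  haveI : PreservesFiniteLimits F := inferInstance
  have hm : Mono S.f := hS.mono_f
  have hex : (S.map F).Exact := hS.exact.map_of_mono_of_preservesKernel F hm inferInstance
  exact (ShortComplex.ab_exact_iff _).1 hex x hx

variable (X : C) (K : SimplicialObject (FormalCoproduct.{u} (Over X)))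
  [HasPullbacks C]
  [∀ (n : ℕ) (F : (SimplexCategory.Truncated n)ᵒᵖ ⥤ FormalCoproduct.{u} (Over X)),
      (SimplexCategory.Truncated.inclusion n).op.HasRightKanExtension F]

/-- restriction of a sheaf to `Over X` as a presheaf -/
abbrev Pr (F : Sheaf J AddCommGrpCat.{u}) : (Over X)ᵒᵖ ⥤ AddCommGrpCat.{u} :=
  (Over.forget X).op ⋙ F.obj

/-- restriction of a morphism of sheaves -/
abbrev PrMap {F G : Sheaf J AddCommGrpCat.{u}} (f : F ⟶ G) : Pr J X F ⟶ Pr J X G :=
  Functor.whiskerLeft (Over.forget X).op f.hom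

lemma step (hK : Hyper.IsHypercovering J X K) (p : ℕ)
    (S : ShortComplex (Sheaf J AddCommGrpCat.{u})) (hS : S.ShortExact) [Injective S.X₂]
    (hlift : ∀ y'' : (Kc K (Pr J X S.X₃)).X p, (Kc K (Pr J X S.X₃)).d p (p + 1) y'' = 0 →
      ∃ y : (Kc K (Pr J X S.X₂)).X p, (Kc K (Pr J X S.X₂)).d p (p + 1) y = 0 ∧
        (Km K (PrMap J X S.g)).f p y = y'') :
    ExactSucc (Kc K (Pr J X S.X₁)) p := by
  have hzero : PrMap J X S.f ≫ PrMap J X S.g = 0 := by
    have h1 : S.f.hom ≫ S.g.hom = 0 := congrArg (fun t => t.hom) S.zero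
    ext U : 2
    exact congrArg (fun t => t.app ((Over.forget X).op.obj U)) h1
  exact chase (Km K (PrMap J X S.f)) (Km K (PrMap J X S.g)) p
    (KmF_injective K (PrMap J X S.f) (fun U => sections_injective J S hS _) (p + 1))
    (KmF_exact K (PrMap J X S.f) (PrMap J X S.g)
      (fun U x hx => sections_exact J S hS _ x hx) p)
    (KmF_comp_zero K (PrMap J X S.f) (PrMap J X S.g) hzero (p + 1))
    ((isZero_homology_succ_iff _ p).1
      (Groth.Agent.Lib.Helper4.CechInj.main0895 J X K hK S.X₂ p))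
    hlift

/-- the injective embedding sequence -/
noncomputable def emb (F : Sheaf J AddCommGrpCat.{u}) : ShortComplex (Sheaf J AddCommGrpCat.{u}) :=
  ShortComplex.mk (Injective.ι F) (cokernel.π (Injective.ι F)) (cokernel.condition _)

omit [HasPullbacks C] in
lemma emb_shortExact (F : Sheaf J AddCommGrpCat.{u}) : (emb J F).ShortExact where
  exact := ShortComplex.exact_cokernel _
  mono_f := by dsimp [emb]; infer_instance
  epi_g := by dsimp [emb]; infer_instance

instance (F : Sheaf J AddCommGrpCat.{u}) : Injective (emb J F).X₂ := by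
  dsimp [emb]; infer_instance

theorem exactSucc_of_acyc (hK : Hyper.IsHypercovering J X K) (p : ℕ) :
    ∀ F : Sheaf J AddCommGrpCat.{u}, Acyc J F →
      ExactSucc (Kc K (Pr J X F)) p := by
  induction p with
  | zero =>
    intro F hF
    have hS := emb_shortExact J F
    refine step J X K hK 0 (emb J F) hS ?_
    intro y'' hy''
    have hy2 : (HyperH0.cof' J X K (emb J F).X₃ 0 - HyperH0.cof' J X K (emb J F).X₃ 1) y'' = 0 := by
      rw [← HyperH0.d01']
      exact hy''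
    obtain ⟨s'', hs''⟩ := HyperH0.φ_surj J X K (emb J F).X₃ hK y'' hy2
    obtain ⟨s, hs⟩ := sections_surjective J (emb J F) hS hF X s''
    refine ⟨HyperH0.φ J X K (emb J F).X₂ s, ?_, ?_⟩
    · have h1 := ConcreteCategory.congr_hom (HyperH0.φ_d J X K (emb J F).X₂) s
      have h2 : (Kc K (Pr J X (emb J F).X₂)).d 0 1 =
          HyperH0.cof' J X K (emb J F).X₂ 0 - HyperH0.cof' J X K (emb J F).X₂ 1 :=
        HyperH0.d01' J X K (emb J F).X₂
      rw [h2]
      exact h1
    · rw [← hs'', ← hs]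
      apply Groth.Agent.Lib.Helper4.CechH0.elt_ext
        (fun i : (K.obj (op ⦋0⦌)).I => (Pr J X (emb J F).X₃).obj (op ((K.obj (op ⦋0⦌)).obj i)))
      intro i
      have h3 := π_KmF K (PrMap J X (emb J F).g) 0 (HyperH0.φ J X K (emb J F).X₂ s) i
      refine h3.trans ?_
      have h4 := HyperH0.π_φ J X K (emb J F).X₂ i s
      have h5 := HyperH0.π_φ J X K (emb J F).X₃ i ((emb J F).g.hom.app (op X) s)
      refine Eq.trans ?_ h5.symm
      refine (congrArg ((PrMap J X (emb J F).g).app (op ((K.obj (op ⦋0⦌)).obj i))) h4).trans ?_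
      have h6 := ConcreteCategory.congr_hom
        ((emb J F).g.hom.naturality ((K.obj (op ⦋0⦌)).obj i).hom.op) s
      rw [ConcreteCategory.comp_apply, ConcreteCategory.comp_apply] at h6
      exact h6
  | succ p ih =>
    intro F hF
    have hS := emb_shortExact J F
    have hQ : Acyc J (emb J F).X₃ := acyc_X₃ J (emb J F) hS hF
    refine step J X K hK (p + 1) (emb J F) hS ?_
    intro y'' hy''
    exact lift_of_exact (Km K (PrMap J X (emb J F).g)) p
      (KmF_surjective K (PrMap J X (emb J F).g)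
        (fun U => sections_surjective J (emb J F) hS hF U.unop.left) p)
      (ih _ hQ) y'' hy''

theorem main3893 (F : Sheaf J AddCommGrpCat.{u})
    (hF : ∀ (U : C) (q : ℕ), Subsingleton (CohSite.HU F (q + 1) U))
    (hK : Hyper.IsHypercovering J X K) (p : ℕ) :
    IsZero (Hyper.cechH X K F.obj (p + 1)) :=
  (isZero_homology_succ_iff _ p).2 (exactSucc_of_acyc J X K hK p F hF)

end Main

end Groth.Agent.Lib.Helper4.AcycCech
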