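import Mathlib.LinearAlgebra.Matrix.NonsingularInverse
import Mathlib.LinearAlgebra.Matrix.Adjugate
import Mathlib.Tactic

namespace Groth.Agent.Lib.Helper4.AdjWeights

open Matrix

section
variable {R : Type*} [CommRing R] {ι : Type*} [AddCommGroup ι]
    (E : ι → AddSubgroup R) (h0 : E 0 = ⊤)
    (hmul : ∀ a b : ι, ∀ x ∈ E a, ∀ y ∈ E b, x * y ∈ E (a + b))

include h0 hmul in
theorem prod_mem {κ : Type*} [DecidableEq κ] (s : Finset κ) (x : κ → R) (w : κ → ι)
    (hx : ∀ k ∈ s, x k ∈ E (w k)) : ∏ k ∈ s, x k ∈ E (∑ k ∈ s, w k) := by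
  induction s using Finset.induction_on with
  | empty => simp [h0]
  | insert a s ha ih =>
    rw [Finset.prod_insert ha, Finset.sum_insert ha]
    exact hmul _ _ _ (hx a (Finset.mem_insert_self a s)) _
      (ih fun k hk => hx k (Finset.mem_insert_of_mem hk))

variable {r : ℕ} (wβ wγ : Fin r → ι) (hsum : ∑ j, wβ j = ∑ i, wγ i)
    (ϑ : Matrix (Fin r) (Fin r) R) (hϑ : ∀ i j, ϑ i j ∈ E (wγ i - wβ j))

include h0 hmul hsum hϑ in
theorem adjugate_mem (i j : Fin r) : ϑ.adjugate i j ∈ E (wβ i - wγ j) := by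
  rw [adjugate_apply, det_apply]
  refine AddSubgroup.sum_mem _ fun σ _ => ?_
  rw [Units.smul_def]
  refine AddSubgroup.zsmul_mem _ ?_ _
  by_cases hσ : σ i = j
  · rw [← Finset.mul_prod_erase Finset.univ _ (Finset.mem_univ i)]
    have h1 : (ϑ.updateRow j (Pi.single i 1)) (σ i) i = 1 := by
      rw [hσ, updateRow_self, Pi.single_eq_same]
    rw [h1, one_mul]
    have h2 : ∏ k ∈ Finset.univ.erase i, (ϑ.updateRow j (Pi.single i 1)) (σ k) k =
        ∏ k ∈ Finset.univ.erase i, ϑ (σ k) k := by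
      refine Finset.prod_congr rfl fun k hk => ?_
      have hki : k ≠ i := Finset.ne_of_mem_erase hk
      have : σ k ≠ j := fun h => hki (σ.injective (h.trans hσ.symm))
      rw [updateRow_ne this]
    rw [h2]
    have h3 := prod_mem E h0 hmul (Finset.univ.erase i) (fun k => ϑ (σ k) k)
      (fun k => wγ (σ k) - wβ k) (fun k _ => hϑ (σ k) k)
    have h4 : ∑ k ∈ Finset.univ.erase i, (wγ (σ k) - wβ k) = wβ i - wγ j := by
      rw [Finset.sum_sub_distrib]
      have e1 : ∑ k ∈ Finset.univ.erase i, wγ (σ k) = ∑ k, wγ k - wγ j := by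
        rw [eq_sub_iff_add_eq, ← hσ, Finset.sum_erase_add _ _ (Finset.mem_univ i)]
        exact Equiv.sum_comp σ wγ
      have e2 : ∑ k ∈ Finset.univ.erase i, wβ k = ∑ k, wβ k - wβ i := by
        rw [eq_sub_iff_add_eq, Finset.sum_erase_add _ _ (Finset.mem_univ i)]
      rw [e1, e2, hsum]
      abel
    rw [h4] at h3
    exact h3
  · have hk : σ (σ.symm j) = j := σ.apply_symm_apply j
    have hne : σ.symm j ≠ i := fun h => hσ (by rw [← h, hk])
    rw [Finset.prod_eq_zero (Finset.mem_univ (σ.symm j))]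
    · exact zero_mem _
    · rw [hk, updateRow_self, Pi.single_eq_of_ne hne]

include h0 hmul hsum hϑ in
theorem main (hdet : IsUnit ϑ.det) (u : Fin r → R) :
    (∀ j, u j ∈ E (wβ j)) ↔ ∀ i, ϑ.mulVec u i ∈ E (wγ i) := by
  constructor
  · intro hu i
    rw [mulVec, dotProduct]
    refine AddSubgroup.sum_mem _ fun j _ => ?_
    have := hmul _ _ _ (hϑ i j) _ (hu j)
    rwa [sub_add_cancel] at this
  · intro hv j
    have hinv : ϑ⁻¹.mulVec (ϑ.mulVec u) = u := by
      rw [mulVec_mulVec, nonsing_inv_mul _ hdet, one_mulVec]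
    rw [← hinv, mulVec, dotProduct]
    refine AddSubgroup.sum_mem _ fun i _ => ?_
    rw [inv_def, Matrix.smul_apply, smul_eq_mul, mul_assoc]
    have h1 := hmul _ _ _ (adjugate_mem E h0 hmul wβ wγ hsum ϑ hϑ j i) _ (hv i)
    rw [sub_add_cancel] at h1
    have h2 : Ring.inverse ϑ.det ∈ E 0 := by rw [h0]; trivial
    have h3 := hmul _ _ _ h2 _ h1
    rwa [zero_add] at h3

end

end Groth.Agent.Lib.Helper4.AdjWeights
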