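import Mathlib.Tactic
import Mathlib.AlgebraicGeometry.AffineScheme
import Mathlib.Topology.Algebra.MvPolynomial
import Groth.Prelude.Def_AnPts

namespace Groth.Agent.Lib.Helper4.AnEv
open AlgebraicGeometry CategoryTheory TopologicalSpace Opposite An Topology

variable {X : Scheme.{0}} [X.Over SC]

/-- `ev` as a ring homomorphism. -/
noncomputable def evHom (x : Pts X) (U : X.Opens) (h : x.pt ∈ U) : Γ(X, U) →+* ℂ :=
  (Scheme.ΓSpecIso (CommRingCat.of ℂ)).hom.hom.comp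
    (x.1.appLE U ⊤ (Pts.top_le_preimage x h)).hom

lemma evHom_apply (x : Pts X) (U : X.Opens) (h : x.pt ∈ U) (f : Γ(X, U)) :
    evHom x U h f = x.ev U h f := rfl

lemma ev_add (x : Pts X) (U : X.Opens) (h : x.pt ∈ U) (f g : Γ(X, U)) :
    x.ev U h (f + g) = x.ev U h f + x.ev U h g := map_add (evHom x U h) f g

lemma ev_mul (x : Pts X) (U : X.Opens) (h : x.pt ∈ U) (f g : Γ(X, U)) :
    x.ev U h (f * g) = x.ev U h f * x.ev U h g := map_mul (evHom x U h) f g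

lemma ev_neg (x : Pts X) (U : X.Opens) (h : x.pt ∈ U) (f : Γ(X, U)) :
    x.ev U h (-f) = - x.ev U h f := map_neg (evHom x U h) f

lemma ev_one (x : Pts X) (U : X.Opens) (h : x.pt ∈ U) :
    x.ev U h (1 : Γ(X, U)) = 1 := map_one (evHom x U h)

lemma ev_zero (x : Pts X) (U : X.Opens) (h : x.pt ∈ U) :
    x.ev U h (0 : Γ(X, U)) = 0 := map_zero (evHom x U h)

lemma ev_pow (x : Pts X) (U : X.Opens) (h : x.pt ∈ U) (f : Γ(X, U)) (m : ℕ) :
    x.ev U h (f ^ m) = x.ev U h f ^ m := map_pow (evHom x U h) f m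

/-- Compatibility of `ev` with restriction. -/
lemma ev_res (x : Pts X) {U U' : X.Opens} (hUU' : U' ≤ U) (h' : x.pt ∈ U') (f : Γ(X, U)) :
    x.ev U' h' (X.presheaf.map (homOfLE hUU').op f) = x.ev U (hUU' h') f := by
  unfold Pts.ev
  congr 1
  rw [← CommRingCat.comp_apply, Scheme.Hom.map_appLE]

/-- `ev` on the structure map. -/
lemma evTop_strHom (x : Pts X) (c : ℂ) : x.evTop (strHom X c) = c := by
  have h1 : x.1.appLE ⊤ ⊤ (Pts.top_le_preimage x (Opens.mem_top _)) = x.1.appTop :=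
    (Scheme.Hom.app_eq_appLE ..).symm
  have h2 : (X ↘ SC).appTop ≫ x.1.appTop = 𝟙 _ := by
    rw [← Scheme.Hom.comp_appTop, x.2]; rfl
  have h3 : x.1.appTop ((X ↘ SC).appTop ((Scheme.ΓSpecIso (CommRingCat.of ℂ)).inv c)) =
      (Scheme.ΓSpecIso (CommRingCat.of ℂ)).inv c := by
    rw [← CommRingCat.comp_apply, h2]; rfl
  show (Scheme.ΓSpecIso (CommRingCat.of ℂ)).hom (x.1.appLE ⊤ ⊤ _ (strHom X c)) = c
  rw [h1]
  show (Scheme.ΓSpecIso (CommRingCat.of ℂ)).hom (x.1.appTop ((X ↘ SC).appTop ((Scheme.ΓSpecIso (CommRingCat.of ℂ)).inv c))) = c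
  rw [h3]
  simp

/-- Evaluation of a polynomial expression in global sections. -/
lemma evTop_eval₂ {ι : Type*} (x : Pts X) (s : ι → Γ(X, ⊤)) (p : MvPolynomial ι ℂ) :
    x.evTop (MvPolynomial.eval₂Hom (strHom X) s p) =
      MvPolynomial.eval (fun i => x.evTop (s i)) p := by
  have : (evHom x ⊤ (Opens.mem_top _)).comp (MvPolynomial.eval₂Hom (strHom X) s) =
      MvPolynomial.eval (fun i => x.evTop (s i)) := by
    apply MvPolynomial.ringHom_ext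
    · intro c
      simp only [RingHom.coe_comp, Function.comp_apply, MvPolynomial.eval₂Hom_C,
        MvPolynomial.eval_C]
      exact evTop_strHom x c
    · intro i
      simp only [RingHom.coe_comp, Function.comp_apply, MvPolynomial.eval₂Hom_X',
        MvPolynomial.eval_X]
      rfl
  exact congrArg (fun φ : MvPolynomial ι ℂ →+* ℂ => φ p) this

lemma cpt_mem_basicOpen_iff (c : ℂ) :
    cpt ∈ SC.basicOpen ((Scheme.ΓSpecIso (CommRingCat.of ℂ)).inv c) ↔ c ≠ 0 := by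
  rw [basicOpen_eq_of_affine]
  have key : ∀ p : PrimeSpectrum ℂ, c ∈ p.asIdeal ↔ c = 0 := fun p => by
    rw [(Ideal.eq_bot_or_top _).resolve_right p.2.ne_top]; simp
  unfold cpt
  erw [PrimeSpectrum.mem_basicOpen]
  exact not_congr (key _)

lemma mem_basicOpen_iff (x : Pts X) (U : X.Opens) (h : x.pt ∈ U) (f : Γ(X, U)) :
    x.pt ∈ X.basicOpen f ↔ x.ev U h f ≠ 0 := by
  rw [← cpt_mem_basicOpen_iff]
  have h1 : (Scheme.ΓSpecIso (CommRingCat.of ℂ)).inv (x.ev U h f) =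
      x.1.appLE U ⊤ (Pts.top_le_preimage x h) f := by
    unfold Pts.ev
    simp
  rw [h1, Scheme.Hom.appLE, CommRingCat.comp_apply, Scheme.basicOpen_res,
    ← Scheme.preimage_basicOpen]
  show _ ↔ cpt ∈ (⊤ : SC.Opens) ∧ x.1 cpt ∈ X.basicOpen f
  simp [Pts.pt]

/-- The "rational" basic sets on an open `U₁`. -/
def ratSet (U₁ : X.Opens) (g c : Γ(X, U₁)) (m : ℕ) (V : Set ℂ) : Set (Pts X) :=
  {y | ∃ h : y.pt ∈ U₁, y.ev U₁ h g ≠ 0 ∧ y.ev U₁ h c / (y.ev U₁ h g) ^ m ∈ V}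

theorem exists_ratSet {U₁ : X.Opens} (hU₁ : IsAffineOpen U₁) (x : Pts X) (hx : x.pt ∈ U₁)
    (U : X.Opens) (a : Γ(X, U)) (V : Set ℂ) (hxa : x ∈ Pts.basicSet U a V) :
    ∃ g c m, x ∈ ratSet U₁ g c m V ∧ ratSet U₁ g c m V ⊆ Pts.basicSet U a V := by
  obtain ⟨h, hV⟩ := hxa
  obtain ⟨g, hgU, hxg⟩ := hU₁.exists_basicOpen_le ⟨x.pt, h⟩ hx
  have hloc := hU₁.isLocalization_basicOpen g
  obtain ⟨⟨c, ⟨_, m, rfl⟩⟩, hc⟩ := IsLocalization.surj (Submonoid.powers g)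
    (X.presheaf.map (homOfLE hgU).op a)
  simp only [RingHom.algebraMap_toAlgebra] at hc
  have hle : X.basicOpen g ≤ U₁ := X.basicOpen_le g
  have key : ∀ (y : Pts X) (hy1 : y.pt ∈ U₁) (hyg : y.ev U₁ hy1 g ≠ 0),
      ∃ hyU : y.pt ∈ U, y.ev U hyU a = y.ev U₁ hy1 c / (y.ev U₁ hy1 g) ^ m := by
    intro y hy1 hyg
    have hyD : y.pt ∈ X.basicOpen g := (mem_basicOpen_iff y U₁ hy1 g).2 hyg
    refine ⟨hgU hyD, ?_⟩
    have := congrArg (y.ev (X.basicOpen g) hyD) hc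
    rw [ev_mul, ev_res, ev_res, ev_res, ev_pow] at this
    rw [eq_div_iff (pow_ne_zero _ hyg)]
    exact this
  refine ⟨g, c, m, ⟨hx, (mem_basicOpen_iff x U₁ hx g).1 hxg, ?_⟩, ?_⟩
  · obtain ⟨hyU, e⟩ := key x hx ((mem_basicOpen_iff x U₁ hx g).1 hxg)
    rw [← e]; exact hV
  · rintro y ⟨hy1, hyg, hyV⟩
    obtain ⟨hyU, e⟩ := key y hy1 hyg
    exact ⟨hyU, by rw [e]; exact hyV⟩

lemma isOpen_omega (m : ℕ) {V : Set ℂ} (hV : IsOpen V) :
    IsOpen {p : ℂ × ℂ | p.1 ≠ 0 ∧ p.2 / p.1 ^ m ∈ V} := by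
  have h1 : IsOpen {p : ℂ × ℂ | p.1 ≠ 0} := isOpen_ne_fun continuous_fst continuous_const
  have h2 : ContinuousOn (fun p : ℂ × ℂ => p.2 / p.1 ^ m) {p : ℂ × ℂ | p.1 ≠ 0} :=
    ContinuousOn.div continuous_snd.continuousOn (continuous_fst.pow m).continuousOn
      (fun p hp => pow_ne_zero _ hp)
  exact h2.isOpen_inter_preimage h1 hV

/-- `e` factors through `Φ` on `O`. -/
def FactorsOn {T : Type*} [TopologicalSpace T] (Φ : Pts X → T) (U₁ : X.Opens) (O : Set T)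
    (e : Γ(X, U₁)) : Prop :=
  ∃ φ : T → ℂ, ContinuousOn φ O ∧ ∀ (y : Pts X) (h : y.pt ∈ U₁), y.ev U₁ h e = φ (Φ y)

section FactorsOn
variable {T : Type*} [TopologicalSpace T] {Φ : Pts X → T} {U₁ : X.Opens} {O : Set T}

lemma FactorsOn.zero : FactorsOn Φ U₁ O 0 :=
  ⟨fun _ => 0, continuousOn_const, fun y h => ev_zero y U₁ h⟩

lemma FactorsOn.one : FactorsOn Φ U₁ O 1 :=
  ⟨fun _ => 1, continuousOn_const, fun y h => ev_one y U₁ h⟩

lemma FactorsOn.add {e e' : Γ(X, U₁)} (h : FactorsOn Φ U₁ O e) (h' : FactorsOn Φ U₁ O e') :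
    FactorsOn Φ U₁ O (e + e') := by
  obtain ⟨φ, hφ, h1⟩ := h
  obtain ⟨φ', hφ', h2⟩ := h'
  exact ⟨fun t => φ t + φ' t, hφ.add hφ', fun y h => by rw [ev_add, h1, h2]⟩

lemma FactorsOn.mul {e e' : Γ(X, U₁)} (h : FactorsOn Φ U₁ O e) (h' : FactorsOn Φ U₁ O e') :
    FactorsOn Φ U₁ O (e * e') := by
  obtain ⟨φ, hφ, h1⟩ := h
  obtain ⟨φ', hφ', h2⟩ := h'
  exact ⟨fun t => φ t * φ' t, hφ.mul hφ', fun y h => by rw [ev_mul, h1, h2]⟩

lemma FactorsOn.neg {e : Γ(X, U₁)} (h : FactorsOn Φ U₁ O e) :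
    FactorsOn Φ U₁ O (-e) := by
  obtain ⟨φ, hφ, h1⟩ := h
  exact ⟨fun t => - φ t, hφ.neg, fun y h => by rw [ev_neg, h1]⟩

end FactorsOn

theorem isOpen_induced_basicSet {T : Type*} [TopologicalSpace T] (Φ : Pts X → T)
    (H : ∀ x₀ : Pts X, ∃ (U₁ : X.Opens) (O : Set T), IsAffineOpen U₁ ∧ x₀.pt ∈ U₁ ∧ IsOpen O ∧
      Φ ⁻¹' O = Pts.pt ⁻¹' (U₁ : Set X) ∧ ∀ e, FactorsOn Φ U₁ O e)
    (U : X.Opens) (a : Γ(X, U)) {V : Set ℂ} (hV : IsOpen V) :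
    IsOpen[TopologicalSpace.induced Φ inferInstance] (Pts.basicSet U a V) := by
  rw [@isOpen_iff_forall_mem_open]
  intro x₀ hx₀
  obtain ⟨U₁, O, hU₁, hx₁, hO, hΦO, hF⟩ := H x₀
  obtain ⟨g, c, m, hxN, hN⟩ := exists_ratSet hU₁ x₀ hx₁ U a V hx₀
  obtain ⟨φg, hφg, hg⟩ := hF g
  obtain ⟨φc, hφc, hc⟩ := hF c
  have hW : IsOpen (O ∩ (fun t => (φg t, φc t)) ⁻¹' {p : ℂ × ℂ | p.1 ≠ 0 ∧ p.2 / p.1 ^ m ∈ V}) :=
    (hφg.prodMk hφc).isOpen_inter_preimage hO (isOpen_omega m hV)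
  have hEq : ratSet U₁ g c m V =
      Φ ⁻¹' (O ∩ (fun t => (φg t, φc t)) ⁻¹' {p : ℂ × ℂ | p.1 ≠ 0 ∧ p.2 / p.1 ^ m ∈ V}) := by
    ext y
    constructor
    · rintro ⟨h, h1, h2⟩
      have hyO : Φ y ∈ O := by
        have : y ∈ Φ ⁻¹' O := by rw [hΦO]; exact h
        exact this
      refine ⟨hyO, ?_⟩
      show φg (Φ y) ≠ 0 ∧ φc (Φ y) / φg (Φ y) ^ m ∈ V
      rw [← hg y h, ← hc y h]
      exact ⟨h1, h2⟩
    · rintro ⟨hyO, h12⟩
      have h : y.pt ∈ U₁ := by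
        have : y ∈ Φ ⁻¹' O := hyO
        rw [hΦO] at this; exact this
      refine ⟨h, ?_⟩
      rw [hg y h, hc y h]
      exact h12
  refine ⟨ratSet U₁ g c m V, hN, ?_, hxN⟩
  rw [hEq]
  exact isOpen_induced_iff.2 ⟨_, hW, rfl⟩

theorem isInducing_of_factorsOn {T : Type*} [TopologicalSpace T] (Φ : Pts X → T)
    (hΦ : Continuous Φ)
    (H : ∀ x₀ : Pts X, ∃ (U₁ : X.Opens) (O : Set T), IsAffineOpen U₁ ∧ x₀.pt ∈ U₁ ∧ IsOpen O ∧
      Φ ⁻¹' O = Pts.pt ⁻¹' (U₁ : Set X) ∧ ∀ e, FactorsOn Φ U₁ O e) :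
    Topology.IsInducing Φ := by
  refine ⟨le_antisymm hΦ.le_induced ?_⟩
  refine le_generateFrom ?_
  rintro _ ⟨U, a, V, hV, rfl⟩
  exact isOpen_induced_basicSet Φ H U a hV

/-- Total version of `ev`. -/
noncomputable def evD (x : Pts X) (U : X.Opens) (f : Γ(X, U)) : ℂ := by
  classical exact if h : x.pt ∈ U then x.ev U h f else 0

lemma evD_of_mem (x : Pts X) (U : X.Opens) (f : Γ(X, U)) (h : x.pt ∈ U) :
    evD x U f = x.ev U h f := by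
  unfold evD; exact dif_pos h

lemma continuousOn_evD (U : X.Opens) (f : Γ(X, U)) :
    ContinuousOn (fun x : Pts X => evD x U f) (Pts.pt ⁻¹' (U : Set X)) := by
  rw [continuousOn_iff']
  intro V hV
  refine ⟨Pts.basicSet U f V, Pts.isOpen_basicSet U f hV, ?_⟩
  ext x
  constructor
  · rintro ⟨hxV, hxU⟩
    exact ⟨⟨hxU, by rw [← evD_of_mem x U f hxU]; exact hxV⟩, hxU⟩
  · rintro ⟨⟨hxU, hxV⟩, -⟩
    exact ⟨by show evD x U f ∈ V; rw [evD_of_mem x U f hxU]; exact hxV, hxU⟩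

lemma continuous_evTop (f : Γ(X, ⊤)) : Continuous (fun x : Pts X => x.evTop f) := by
  refine continuous_def.2 fun V hV => ?_
  have : (fun x : Pts X => x.evTop f) ⁻¹' V = Pts.basicSet ⊤ f V := by
    ext x
    constructor
    · intro h; exact ⟨Opens.mem_top _, h⟩
    · rintro ⟨_, h⟩; exact h
  rw [this]
  exact Pts.isOpen_basicSet ⊤ f hV

end Groth.Agent.Lib.Helper4.AnEv
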