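import Mathlib.Tactic
import Mathlib.AlgebraicGeometry.OpenImmersion
import Groth.Agent.Lib.Helper4.AnEv

namespace Groth.Agent.Lib.Helper4.AnOpen
open AlgebraicGeometry CategoryTheory TopologicalSpace Opposite An Topology
open Groth.Agent.Lib.Helper4.AnEv

variable {X Y : Scheme.{0}} [X.Over SC] [Y.Over SC]

lemma ev_eqToHom (x : Pts X) {U U' : X.Opens} (e : U' = U) (h' : x.pt ∈ U') (a : Γ(X, U)) :
    x.ev U' h' (X.presheaf.map (eqToHom e).op a) = x.ev U (e ▸ h') a := by
  subst e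
  simp

lemma range_eq_singleton (y : Pts Y) : Set.range y.1 = {y.pt} := by
  ext p
  constructor
  · rintro ⟨q, rfl⟩
    rw [eq_cpt q]; rfl
  · rintro rfl
    exact ⟨cpt, rfl⟩

lemma map_injective_of_mono (f : X ⟶ Y) [f.IsOver SC] [Mono f] :
    Function.Injective (Pts.map f) := by
  intro x y h
  apply Subtype.ext
  have : x.1 ≫ f = y.1 ≫ f := congrArg Subtype.val h
  exact (cancel_mono f).1 this

/-- Lifting `ℂ`-points through an open immersion. -/
theorem exists_lift_of_isOpenImmersion (f : X ⟶ Y) [f.IsOver SC] [IsOpenImmersion f]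
    (y : Pts Y) (hy : y.pt ∈ Set.range f) : ∃ x : Pts X, Pts.map f x = y := by
  have H : Set.range y.1 ⊆ Set.range f := by
    rw [range_eq_singleton]; exact Set.singleton_subset_iff.2 hy
  refine ⟨⟨IsOpenImmersion.lift f y.1 H, ?_⟩, Subtype.ext (IsOpenImmersion.lift_fac f y.1 H)⟩
  rw [← comp_over f SC, ← Category.assoc, IsOpenImmersion.lift_fac, y.2]

theorem range_map_of_isOpenImmersion (f : X ⟶ Y) [f.IsOver SC] [IsOpenImmersion f] :
    Set.range (Pts.map f) = Pts.pt ⁻¹' (Set.range f) := by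
  ext y
  constructor
  · rintro ⟨x, rfl⟩
    show (Pts.map f x).pt ∈ Set.range f
    rw [Pts.pt_map]; exact ⟨_, rfl⟩
  · intro hy
    exact exists_lift_of_isOpenImmersion f y hy

theorem isInducing_map_of_isOpenImmersion (f : X ⟶ Y) [f.IsOver SC] [IsOpenImmersion f] :
    Topology.IsInducing (Pts.map f) := by
  refine ⟨le_antisymm (Pts.continuous_map f).le_induced ?_⟩
  refine le_generateFrom ?_
  rintro _ ⟨U, a, V, hV, rfl⟩
  refine isOpen_induced_iff.2 ⟨Pts.basicSet (f ''ᵁ U) ((f.appIso U).inv a) V,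
    Pts.isOpen_basicSet _ _ hV, ?_⟩
  rw [Pts.preimage_basicSet]
  have h1 : f.app (f ''ᵁ U) ((f.appIso U).inv a) =
      X.presheaf.map (eqToHom (f.preimage_image_eq U)).op a := by
    rw [← CommRingCat.comp_apply, Scheme.Hom.appIso_inv_app]
  rw [h1]
  ext y
  constructor
  · rintro ⟨h, hv⟩
    rw [ev_eqToHom] at hv
    exact ⟨_, hv⟩
  · rintro ⟨h, hv⟩
    have h' : y.pt ∈ f ⁻¹ᵁ f ''ᵁ U := by rw [f.preimage_image_eq U]; exact h
    refine ⟨h', ?_⟩
    rw [ev_eqToHom]
    exact hv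

theorem main4196 (f : X ⟶ Y) [f.IsOver SC] [IsOpenImmersion f] :
    Topology.IsOpenEmbedding (Pts.map f) := by
  refine ⟨⟨isInducing_map_of_isOpenImmersion f, map_injective_of_mono f⟩, ?_⟩
  rw [range_map_of_isOpenImmersion]
  exact f.opensRange.2.preimage Pts.continuous_pt

end Groth.Agent.Lib.Helper4.AnOpen
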