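import Mathlib.Tactic
import Mathlib.AlgebraicGeometry.AffineScheme
import Mathlib.Topology.Algebra.MvPolynomial
import Groth.Agent.Lib.Helper4.AnEv

namespace Groth.Agent.Lib.Helper4.AnGen
open AlgebraicGeometry CategoryTheory TopologicalSpace Opposite An Topology
open Groth.Agent.Lib.Helper4.AnEv

variable {X : Scheme.{0}} [X.Over SC]

lemma evTop_eq (x : Pts X) (r : Γ(X, ⊤)) :
    x.evTop r = (Scheme.ΓSpecIso (CommRingCat.of ℂ)).hom (x.1.appTop r) := by
  have h1 : x.1.appLE ⊤ ⊤ (Pts.top_le_preimage x (Opens.mem_top _)) = x.1.appTop :=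
    (Scheme.Hom.app_eq_appLE ..).symm
  show (Scheme.ΓSpecIso (CommRingCat.of ℂ)).hom (x.1.appLE ⊤ ⊤ _ r) = _
  rw [h1]

theorem exists_pt_of_ringHom [IsAffine X] (ψ : Γ(X, ⊤) →+* ℂ) (hψ : ∀ c, ψ (strHom X c) = c) :
    ∃ x : Pts X, ∀ r, x.evTop r = ψ r := by
  let g : SC ⟶ X := Spec.map (CommRingCat.ofHom ψ) ≫ X.isoSpec.inv
  have hg : ∀ r : Γ(X, ⊤), (Scheme.ΓSpecIso (CommRingCat.of ℂ)).hom (g.appTop r) = ψ r := by
    intro r
    have h1 : g.appTop = X.isoSpec.inv.appTop ≫ (Spec.map (CommRingCat.ofHom ψ)).appTop :=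
      Scheme.Hom.comp_appTop _ _
    have h2 : X.isoSpec.inv.appTop = (Scheme.ΓSpecIso Γ(X, ⊤)).inv := by
      have h3 : X.isoSpec.hom.appTop ≫ X.isoSpec.inv.appTop = 𝟙 _ := by
        rw [← Scheme.Hom.comp_appTop]; simp
      rw [Scheme.isoSpec_hom, Scheme.toSpecΓ_appTop] at h3
      rw [← cancel_epi (Scheme.ΓSpecIso Γ(X, ⊤)).hom, h3]; simp
    rw [h1, h2, CommRingCat.comp_apply, ← CommRingCat.comp_apply _ (Scheme.ΓSpecIso _).hom,
      Scheme.ΓSpecIso_naturality, CommRingCat.comp_apply]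
    have h4 : (Scheme.ΓSpecIso Γ(X, ⊤)).hom ((Scheme.ΓSpecIso Γ(X, ⊤)).inv r) = r := by
      rw [← CommRingCat.comp_apply, Iso.inv_hom_id]; rfl
    erw [h4]
    rfl
  have hsec : g ≫ X ↘ SC = 𝟙 SC := by
    apply ext_of_isAffine
    rw [Scheme.Hom.comp_appTop]
    ext c'
    obtain ⟨c, rfl⟩ : ∃ c, (Scheme.ΓSpecIso (CommRingCat.of ℂ)).inv c = c' :=
      ⟨(Scheme.ΓSpecIso (CommRingCat.of ℂ)).hom c', by simp⟩
    apply (ConcreteCategory.bijective_of_isIso (Scheme.ΓSpecIso (CommRingCat.of ℂ)).hom).1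
    show (Scheme.ΓSpecIso (CommRingCat.of ℂ)).hom (g.appTop (strHom X c)) = _
    rw [hg, hψ]
    simp
  refine ⟨⟨g, hsec⟩, fun r => ?_⟩
  exact (evTop_eq (X := X) ⟨g, hsec⟩ r).trans (hg r)

theorem ext_of_evTop [IsAffine X] (x y : Pts X) (h : ∀ r, x.evTop r = y.evTop r) : x = y := by
  apply Subtype.ext
  apply ext_of_isAffine
  ext r
  apply (ConcreteCategory.bijective_of_isIso (Scheme.ΓSpecIso (CommRingCat.of ℂ)).hom).1
  have := h r
  rw [evTop_eq, evTop_eq] at this
  exact this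

/-- S4184 for a general index type. -/
theorem isClosedEmbedding_of_generators [IsAffine X] {ι : Type*} (s : ι → Γ(X, ⊤))
    (hs : Function.Surjective (MvPolynomial.eval₂Hom (strHom X) s)) :
    Topology.IsClosedEmbedding (fun (x : Pts X) (i : ι) => x.evTop (s i)) := by
  set Φ : Pts X → (ι → ℂ) := fun x i => x.evTop (s i) with hΦdef
  have hΦ : Continuous Φ := continuous_pi fun i => continuous_evTop (s i)
  have hind : Topology.IsInducing Φ := by
    refine isInducing_of_factorsOn Φ hΦ fun x₀ => ?_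
    refine ⟨⊤, Set.univ, isAffineOpen_top X, Opens.mem_top _, isOpen_univ, ?_, fun e => ?_⟩
    · ext y; simp
    · obtain ⟨E, rfl⟩ := hs e
      exact ⟨fun z => MvPolynomial.eval z E, (MvPolynomial.continuous_eval E).continuousOn,
        fun y h => evTop_eval₂ y s E⟩
  have hinj : Function.Injective Φ := by
    intro x y hxy
    apply ext_of_evTop
    intro r
    obtain ⟨E, rfl⟩ := hs r
    rw [evTop_eval₂, evTop_eval₂]
    exact congrArg (fun z => MvPolynomial.eval z E) hxy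
  have hrange : Set.range Φ =
      ⋂ p ∈ {p : MvPolynomial ι ℂ | MvPolynomial.eval₂Hom (strHom X) s p = 0},
        {z : ι → ℂ | MvPolynomial.eval z p = 0} := by
    ext z
    simp only [Set.mem_range, Set.mem_iInter, Set.mem_ofPred_eq]
    constructor
    · rintro ⟨x, rfl⟩ p hp
      have := evTop_eval₂ x s p
      rw [hp] at this
      rw [← this]
      exact ev_zero x ⊤ _
    · intro hz
      let ψ : Γ(X, ⊤) →+* ℂ := RingHom.liftOfSurjective (MvPolynomial.eval₂Hom (strHom X) s) hs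
        ⟨MvPolynomial.eval z, fun p hp => hz p hp⟩
      have hψ : ∀ p, ψ (MvPolynomial.eval₂Hom (strHom X) s p) = MvPolynomial.eval z p := fun p =>
        RingHom.liftOfRightInverse_comp_apply _ _ _ _ p
      obtain ⟨x, hx⟩ := exists_pt_of_ringHom ψ (fun c => by
        have := hψ (MvPolynomial.C c)
        simpa using this)
      refine ⟨x, funext fun i => ?_⟩
      show x.evTop (s i) = z i
      rw [hx]
      have := hψ (MvPolynomial.X i)
      simpa using this
  refine ⟨⟨hind, hinj⟩, ?_⟩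
  rw [hrange]
  refine isClosed_biInter fun p _ => ?_
  exact isClosed_eq (MvPolynomial.continuous_eval p) continuous_const

end Groth.Agent.Lib.Helper4.AnGen
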