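import Mathlib.Tactic
import Mathlib.AlgebraicGeometry.Morphisms.FiniteType
import Mathlib.RingTheory.FiniteType
import Groth.Agent.Lib.Helper4.AnGen
import Groth.Agent.Lib.Helper4.AnOpen

namespace Groth.Agent.Lib.Helper4.AnLC
open AlgebraicGeometry CategoryTheory TopologicalSpace Opposite An Topology Limits
open Groth.Agent.Lib.Helper4.AnEv Groth.Agent.Lib.Helper4.AnOpen Groth.Agent.Lib.Helper4.AnGen

/-- Generators of the coordinate ring of an affine scheme locally of finite type over `ℂ`. -/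
theorem exists_generators (X : Scheme.{0}) [X.Over SC] [IsAffine X]
    [LocallyOfFiniteType (X ↘ SC)] :
    ∃ (n : ℕ) (s : Fin n → Γ(X, ⊤)),
      Function.Surjective (MvPolynomial.eval₂Hom (strHom X) s) := by
  have h1 : (X ↘ SC).appTop.hom.FiniteType :=
    (HasRingHomProperty.iff_of_isAffine (P := @LocallyOfFiniteType)).1 inferInstance
  have h2 : (strHom X).FiniteType := by
    unfold strHom
    refine h1.comp (RingHom.FiniteType.of_surjective _ ?_)
    exact (ConcreteCategory.bijective_of_isIso (Scheme.ΓSpecIso (CommRingCat.of ℂ)).inv).2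
  letI : Algebra ℂ Γ(X, ⊤) := (strHom X).toAlgebra
  have h3 : Algebra.FiniteType ℂ Γ(X, ⊤) := h2
  obtain ⟨n, f, hf⟩ := Algebra.FiniteType.iff_quotient_mvPolynomial''.1 h3
  refine ⟨n, fun i => f (MvPolynomial.X i), ?_⟩
  have : (MvPolynomial.eval₂Hom (strHom X) fun i => f (MvPolynomial.X i)) = f.toRingHom := by
    apply MvPolynomial.ringHom_ext
    · intro c
      simp only [MvPolynomial.eval₂Hom_C, AlgHom.toRingHom_eq_coe, RingHom.coe_coe]
      exact (f.commutes c).symm
    · intro i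
      simp
  rw [this]
  exact hf

theorem locallyCompactSpace_of_isAffine (X : Scheme.{0}) [X.Over SC] [IsAffine X]
    [LocallyOfFiniteType (X ↘ SC)] : LocallyCompactSpace (Pts X) := by
  obtain ⟨n, s, hs⟩ := exists_generators X
  exact (isClosedEmbedding_of_generators s hs).locallyCompactSpace

lemma exists_affineOpen_mem (X : Scheme.{0}) (p : X) : ∃ U : X.Opens, IsAffineOpen U ∧ p ∈ U := by
  obtain ⟨_, ⟨U₁, hU₁, rfl⟩, hxU₁, -⟩ :=
    X.isBasis_affineOpens.exists_subset_of_mem_open (Set.mem_univ p) isOpen_univ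
  exact ⟨U₁, hU₁, hxU₁⟩

theorem main4185 (X : Scheme.{0}) [X.Over SC] [LocallyOfFiniteType (X ↘ SC)] :
    LocallyCompactSpace (Pts X) := by
  refine ⟨fun x n hn => ?_⟩
  obtain ⟨U₁, hU₁, hxU₁⟩ := exists_affineOpen_mem X x.pt
  haveI : IsAffine U₁.toScheme := hU₁
  haveI : LocallyOfFiniteType (U₁.toScheme ↘ SC) :=
    inferInstanceAs (LocallyOfFiniteType (U₁.ι ≫ X ↘ SC))
  haveI := locallyCompactSpace_of_isAffine U₁.toScheme
  have hj := main4196 U₁.ι
  obtain ⟨x', rfl⟩ := exists_lift_of_isOpenImmersion U₁.ι x (by simpa using hxU₁)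
  have hn' : Pts.map U₁.ι ⁻¹' n ∈ 𝓝 x' := hj.continuous.continuousAt hn
  obtain ⟨s', hs', hs'n, hs'c⟩ := LocallyCompactSpace.local_compact_nhds x' _ hn'
  exact ⟨Pts.map U₁.ι '' s', hj.isOpenMap.image_mem_nhds hs', Set.image_subset_iff.2 hs'n,
    hs'c.image hj.continuous⟩

end Groth.Agent.Lib.Helper4.AnLC
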