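import Mathlib

namespace Groth.Agent.Lib.Helper4.DensA1
open Polynomial

/-- A `ℂ`-algebra hom to `ℂ` is determined by its kernel. -/
lemma algHom_eq_of_ker_le {B : Type*} [CommRing B] [Algebra ℂ B] (χ₁ χ₂ : B →ₐ[ℂ] ℂ)
    (h : RingHom.ker χ₁ ≤ RingHom.ker χ₂) : χ₁ = χ₂ := by
  ext b
  have h1 : b - algebraMap ℂ B (χ₁ b) ∈ RingHom.ker χ₁ := by
    rw [RingHom.mem_ker, map_sub, AlgHom.commutes]
    simp
  have h2 := h h1
  rw [RingHom.mem_ker, map_sub, AlgHom.commutes, sub_eq_zero] at h2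
  simpa using h2.symm

lemma ringHom_eq_of_ker_le {B : Type*} [CommRing B] (c : ℂ →+* B) (χ₁ χ₂ : B →+* ℂ)
    (h₁ : ∀ z, χ₁ (c z) = z) (h₂ : ∀ z, χ₂ (c z) = z)
    (h : RingHom.ker χ₁ ≤ RingHom.ker χ₂) : χ₁ = χ₂ := by
  ext b
  have h1 : b - c (χ₁ b) ∈ RingHom.ker χ₁ := by
    rw [RingHom.mem_ker, map_sub, h₁, sub_self]
  have h2 := h h1
  rw [RingHom.mem_ker, map_sub, h₂, sub_eq_zero] at h2
  exact h2.symm

/-- Nullstellensatz: a maximal ideal of a finite type `ℂ`-algebra is the kernel of a `ℂ`-point. -/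
lemma exists_algHom_ker_eq (A : Type*) [CommRing A] [Algebra ℂ A] [Algebra.FiniteType ℂ A]
    (m : Ideal A) [hm : m.IsMaximal] : ∃ φ : A →ₐ[ℂ] ℂ, RingHom.ker φ = m := by
  letI : Field (A ⧸ m) := Ideal.Quotient.field m
  haveI : Algebra.FiniteType ℂ (A ⧸ m) :=
    Algebra.FiniteType.of_surjective (Ideal.Quotient.mkₐ ℂ m) Ideal.Quotient.mk_surjective
  haveI : Module.Finite ℂ (A ⧸ m) := finite_of_finite_type_of_isJacobsonRing ℂ (A ⧸ m)
  haveI : Algebra.IsIntegral ℂ (A ⧸ m) := Algebra.IsIntegral.of_finite ℂ (A ⧸ m)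
  have hb : Function.Bijective (algebraMap ℂ (A ⧸ m)) :=
    IsAlgClosed.algebraMap_bijective_of_isIntegral
  let e : ℂ ≃ₐ[ℂ] (A ⧸ m) := AlgEquiv.ofBijective (Algebra.ofId ℂ (A ⧸ m)) hb
  refine ⟨(e.symm : (A ⧸ m) →ₐ[ℂ] ℂ).comp (Ideal.Quotient.mkₐ ℂ m), ?_⟩
  ext a
  simp only [RingHom.mem_ker, AlgHom.coe_comp, AlgEquiv.coe_toAlgHom, Function.comp_apply,
    Ideal.Quotient.mkₐ_eq_mk, EmbeddingLike.map_eq_zero_iff, Ideal.Quotient.eq_zero_iff_mem]

section Setup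
variable {d : ℕ} {A : Type*} [CommRing A] [Algebra ℂ A]
  [Algebra (MvPolynomial (Fin d) ℂ) A] [IsScalarTower ℂ (MvPolynomial (Fin d) ℂ) A]

variable (d) in
/-- The image of a `ℂ`-point of `A` in affine `d`-space. -/
noncomputable def tOf (φ : A →ₐ[ℂ] ℂ) : Fin d → ℂ :=
  fun j => φ (algebraMap (MvPolynomial (Fin d) ℂ) A (MvPolynomial.X j))

lemma apply_algebraMap (φ : A →ₐ[ℂ] ℂ) (r : MvPolynomial (Fin d) ℂ) :
    φ (algebraMap _ A r) = MvPolynomial.eval (tOf d φ) r := by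
  have : φ.comp (IsScalarTower.toAlgHom ℂ (MvPolynomial (Fin d) ℂ) A) =
      MvPolynomial.aeval (tOf d φ) := by
    apply MvPolynomial.algHom_ext
    intro j
    simp [tOf]
  have h2 := congrArg (fun χ : MvPolynomial (Fin d) ℂ →ₐ[ℂ] ℂ => χ r) this
  simpa [MvPolynomial.coe_aeval_eq_eval] using h2

lemma comp_algebraMap (φ : A →ₐ[ℂ] ℂ) :
    (φ : A →+* ℂ).comp (algebraMap (MvPolynomial (Fin d) ℂ) A) = MvPolynomial.eval (tOf d φ) :=
  RingHom.ext fun r => apply_algebraMap φ r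

lemma eval₂_minpoly (φ : A →ₐ[ℂ] ℂ) (h : A) :
    eval₂ (MvPolynomial.eval (tOf d φ)) (φ h) (minpoly (MvPolynomial (Fin d) ℂ) h) = 0 := by
  have := Polynomial.hom_eval₂ (minpoly (MvPolynomial (Fin d) ℂ) h)
    (algebraMap (MvPolynomial (Fin d) ℂ) A) (φ : A →+* ℂ) h
  rw [comp_algebraMap] at this
  rw [← aeval_def, minpoly.aeval, map_zero] at this
  exact this.symm

theorem exists_lift [IsDomain A] [Algebra.FiniteType ℂ A]
    [Algebra.IsIntegral (MvPolynomial (Fin d) ℂ) A]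
    [FaithfulSMul (MvPolynomial (Fin d) ℂ) A] (t : Fin d → ℂ) (h : A) (T : ℂ)
    (hT : eval₂ (MvPolynomial.eval t) T (minpoly (MvPolynomial (Fin d) ℂ) h) = 0) :
    ∃ φ : A →ₐ[ℂ] ℂ, tOf d φ = t ∧ φ h = T := by
  set P := minpoly (MvPolynomial (Fin d) ℂ) h with hP
  have hint : IsIntegral (MvPolynomial (Fin d) ℂ) h := Algebra.IsIntegral.isIntegral h
  have hroot : eval₂ (algebraMap (MvPolynomial (Fin d) ℂ) A) h P = 0 := by
    rw [← aeval_def]; exact minpoly.aeval _ _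
  let θ : AdjoinRoot P →+* A := AdjoinRoot.lift (algebraMap (MvPolynomial (Fin d) ℂ) A) h hroot
  have hθinj : Function.Injective θ := by
    rw [injective_iff_map_eq_zero]
    intro b hb
    obtain ⟨Q, rfl⟩ := AdjoinRoot.mk_surjective b
    rw [AdjoinRoot.lift_mk, ← aeval_def] at hb
    rw [AdjoinRoot.mk_eq_zero]
    exact minpoly.isIntegrallyClosed_dvd hint hb
  letI : Algebra (AdjoinRoot P) A := θ.toAlgebra
  haveI : IsScalarTower (MvPolynomial (Fin d) ℂ) (AdjoinRoot P) A :=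
    IsScalarTower.of_algebraMap_eq fun r => by
      show _ = θ (AdjoinRoot.of P r)
      rw [AdjoinRoot.lift_of]
  haveI : Algebra.IsIntegral (AdjoinRoot P) A :=
    ⟨fun a => (Algebra.IsIntegral.isIntegral (R := MvPolynomial (Fin d) ℂ) a).tower_top⟩
  let ψ : AdjoinRoot P →+* ℂ := AdjoinRoot.lift (MvPolynomial.eval t) T hT
  have hψsurj : Function.Surjective ψ := fun z =>
    ⟨AdjoinRoot.of P (MvPolynomial.C z), by simp [ψ]⟩
  haveI : (RingHom.ker ψ).IsMaximal := RingHom.ker_isMaximal_of_surjective ψ hψsurj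
  obtain ⟨𝔪, h𝔪max, h𝔪⟩ := Ideal.exists_ideal_over_maximal_of_isIntegral (S := A)
    (RingHom.ker ψ) (by
      have : RingHom.ker (algebraMap (AdjoinRoot P) A) = ⊥ :=
        (RingHom.injective_iff_ker_eq_bot _).1 hθinj
      rw [this]; exact bot_le)
  obtain ⟨φ, hφ⟩ := exists_algHom_ker_eq A 𝔪
  have key : ψ = (φ : A →+* ℂ).comp θ := by
    apply ringHom_eq_of_ker_le ((AdjoinRoot.of P).comp MvPolynomial.C)
    · intro z; simp [ψ]
    · intro z
      simp only [RingHom.coe_comp, RingHom.coe_coe, Function.comp_apply, θ, AdjoinRoot.lift_of]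
      rw [← MvPolynomial.algebraMap_eq, ← IsScalarTower.algebraMap_apply, AlgHom.commutes]
      simp
    · intro b hb
      rw [← h𝔪, ← hφ] at hb
      exact hb
  refine ⟨φ, ?_, ?_⟩
  · funext j
    show φ (algebraMap (MvPolynomial (Fin d) ℂ) A (MvPolynomial.X j)) = t j
    have : θ (AdjoinRoot.of P (MvPolynomial.X j)) =
        algebraMap (MvPolynomial (Fin d) ℂ) A (MvPolynomial.X j) := AdjoinRoot.lift_of _
    rw [← this]
    have h2 := congrArg (fun χ : AdjoinRoot P →+* ℂ => χ (AdjoinRoot.of P (MvPolynomial.X j))) key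
    simp only [RingHom.coe_comp, RingHom.coe_coe, Function.comp_apply] at h2
    rw [← h2]
    simp [ψ]
  · have : θ (AdjoinRoot.root P) = h := AdjoinRoot.lift_root _
    rw [← this]
    have h2 := congrArg (fun χ : AdjoinRoot P →+* ℂ => χ (AdjoinRoot.root P)) key
    simp only [RingHom.coe_comp, RingHom.coe_coe, Function.comp_apply] at h2
    rw [← h2]
    simp [ψ]

lemma apply_ne_zero_of_eval_ne_zero (a : A) (φ : A →ₐ[ℂ] ℂ)
    (hq : MvPolynomial.eval (tOf d φ) ((minpoly (MvPolynomial (Fin d) ℂ) a).coeff 0) ≠ 0) :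
    φ a ≠ 0 := by
  intro h0
  apply hq
  have := eval₂_minpoly (d := d) φ a
  rw [h0, eval₂_at_zero] at this
  exact this

/-- the fibre of `tOf` is finite -/
lemma finite_fibre [Algebra.FiniteType ℂ A] [Algebra.IsIntegral (MvPolynomial (Fin d) ℂ) A]
    (t₀ : Fin d → ℂ) : {φ : A →ₐ[ℂ] ℂ | tOf d φ = t₀}.Finite := by
  obtain ⟨S, hS⟩ := (Algebra.FiniteType.out : (⊤ : Subalgebra ℂ A).FG)
  let rs : {x // x ∈ S} → Set ℂ := fun s =>
    {z | ((minpoly (MvPolynomial (Fin d) ℂ) (s : A)).map (MvPolynomial.eval t₀)).IsRoot z}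
  have hrs : ∀ s, (rs s).Finite := fun s => by
    apply Polynomial.finite_setOfPred_isRoot
    exact ((minpoly.monic (Algebra.IsIntegral.isIntegral (s : A))).map _).ne_zero
  have hpi : (Set.pi Set.univ rs).Finite := Set.Finite.pi fun s => hrs s
  let F : (A →ₐ[ℂ] ℂ) → ({x // x ∈ S} → ℂ) := fun φ s => φ s
  have hFinj : Set.InjOn F {φ : A →ₐ[ℂ] ℂ | tOf d φ = t₀} := by
    intro φ _ φ' _ h
    apply AlgHom.ext_of_adjoin_eq_top hS
    intro s hs
    exact congrFun h ⟨s, hs⟩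
  have hFimg : F '' {φ : A →ₐ[ℂ] ℂ | tOf d φ = t₀} ⊆ Set.pi Set.univ rs := by
    rintro _ ⟨φ, hφ, rfl⟩ s _
    show ((minpoly (MvPolynomial (Fin d) ℂ) (s : A)).map (MvPolynomial.eval t₀)).IsRoot (φ s)
    rw [IsRoot, eval_map, ← (show tOf d φ = t₀ from hφ)]
    exact eval₂_minpoly φ s
  exact Set.Finite.of_finite_image (hpi.subset hFimg) hFinj

/-- a function vanishing at `φ₀` and at no other point of its fibre -/
lemma exists_separating [Algebra.FiniteType ℂ A]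
    [Algebra.IsIntegral (MvPolynomial (Fin d) ℂ) A] (φ₀ : A →ₐ[ℂ] ℂ) :
    ∃ h : A, φ₀ h = 0 ∧ ∀ φ : A →ₐ[ℂ] ℂ, tOf d φ = tOf d φ₀ → φ h = 0 → φ = φ₀ := by
  classical
  have hfin := finite_fibre (A := A) (tOf d φ₀)
  let s : Finset (A →ₐ[ℂ] ℂ) := hfin.toFinset.erase φ₀
  by_contra hcon
  push Not at hcon
  have hsub : ((RingHom.ker φ₀ : Ideal A) : Set A) ⊆ ⋃ φ ∈ (s : Set (A →ₐ[ℂ] ℂ)),
      ((RingHom.ker φ : Ideal A) : Set A) := by
    intro h hh
    obtain ⟨φ, hφt, hφh, hne⟩ := hcon h hh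
    simp only [Set.mem_iUnion]
    refine ⟨φ, ?_, hφh⟩
    simp only [s, Finset.coe_erase, Set.mem_sdiff, Finset.mem_coe, Set.Finite.mem_toFinset,
      Set.mem_ofPred_eq, Set.mem_singleton_iff]
    exact ⟨hφt, hne⟩
  have := (Ideal.subset_union_prime (R := A) (s := s) (f := fun φ => RingHom.ker φ) φ₀ φ₀
    (fun φ _ _ _ => RingHom.ker_isPrime _)).1 hsub
  obtain ⟨φ, hφs, hle⟩ := this
  have : φ₀ = φ := algHom_eq_of_ker_le φ₀ φ hle
  simp only [s, Finset.mem_erase] at hφs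
  exact hφs.1 this.symm

end Setup

end Groth.Agent.Lib.Helper4.DensA1
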