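import Mathlib

namespace Groth.Agent.Lib.Helper4.DensA2
open Polynomial Filter Topology

/-- A monic polynomial over `ℂ` of positive degree has a root `z` with `‖z‖ ^ deg ≤ ‖p(0)‖`. -/
lemma exists_root_norm_pow_le (p : ℂ[X]) (hp : p.Monic) (hd : 0 < p.natDegree) :
    ∃ z, p.IsRoot z ∧ ‖z‖ ^ p.natDegree ≤ ‖p.coeff 0‖ := by
  have hs : p.Splits := IsAlgClosed.splits p
  have hc := hs.coeff_zero_eq_prod_roots_of_monic hp
  have hcard : Multiset.card p.roots = p.natDegree := hs.natDegree_eq_card_roots.symm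
  have hne : p.roots ≠ 0 := by
    intro h0; rw [h0] at hcard; simp at hcard; omega
  have hne' : p.roots.toFinset.Nonempty := by
    obtain ⟨w, hw⟩ := Multiset.exists_mem_of_ne_zero hne
    exact ⟨w, Multiset.mem_toFinset.2 hw⟩
  obtain ⟨z, hz, hmin⟩ := Finset.exists_min_image p.roots.toFinset (fun z => ‖z‖₊) hne'
  refine ⟨z, (mem_roots hp.ne_zero).1 (Multiset.mem_toFinset.1 hz), ?_⟩
  have h1 : ‖p.coeff 0‖₊ = (p.roots.map (fun z => ‖z‖₊)).prod := by
    rw [hc, nnnorm_mul, nnnorm_pow, nnnorm_neg, nnnorm_one, one_pow, one_mul]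
    exact map_multiset_prod (nnnormHom : ℂ →*₀ NNReal) p.roots
  have h2 : ‖z‖₊ ^ Multiset.card (p.roots.map (fun z => ‖z‖₊)) ≤
      (p.roots.map (fun z => ‖z‖₊)).prod := by
    apply Multiset.pow_card_le_prod
    intro x hx
    obtain ⟨w, hw, rfl⟩ := Multiset.mem_map.1 hx
    exact hmin w (Multiset.mem_toFinset.2 hw)
  rw [Multiset.card_map, hcard, ← h1] at h2
  exact_mod_cast h2

/-- Roots of a monic polynomial are bounded by the sum of the norms of the lower coefficients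
plus one. -/
lemma norm_root_lt (p : ℂ[X]) (hp : p.Monic) (z : ℂ) (hz : p.IsRoot z) :
    ‖z‖ < (∑ j ∈ Finset.range p.natDegree, ‖p.coeff j‖) + 1 := by
  have h1 := hz.norm_lt_cauchyBound hp.ne_zero
  have h2 : (p.cauchyBound : ℝ) ≤ (∑ j ∈ Finset.range p.natDegree, ‖p.coeff j‖) + 1 := by
    unfold cauchyBound
    rw [hp.leadingCoeff, nnnorm_one, div_one]
    push_cast
    gcongr
    have : (Finset.range p.natDegree).sup (fun x => ‖p.coeff x‖₊) ≤
        ∑ j ∈ Finset.range p.natDegree, ‖p.coeff j‖₊ := by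
      apply Finset.sup_le
      intro j hj
      exact Finset.single_le_sum (f := fun j => ‖p.coeff j‖₊) (fun _ _ => bot_le) hj
    have h3 : (((Finset.range p.natDegree).sup (fun x => ‖p.coeff x‖₊) : NNReal) : ℝ) ≤
        ((∑ j ∈ Finset.range p.natDegree, ‖p.coeff j‖₊ : NNReal) : ℝ) := by exact_mod_cast this
    simpa using h3
  exact lt_of_lt_of_le h1 h2

/-- The non-vanishing locus of a nonzero polynomial is dense in `ℂ^d`. -/
lemma exists_seq_eval_ne_zero {d : ℕ} (q : MvPolynomial (Fin d) ℂ) (hq : q ≠ 0)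
    (t₀ : Fin d → ℂ) :
    ∃ t : ℕ → (Fin d → ℂ), (∀ k, MvPolynomial.eval (t k) q ≠ 0) ∧ Tendsto t atTop (𝓝 t₀) := by
  have key : ∀ k : ℕ, ∃ t ∈ Metric.ball t₀ (1 / ((k : ℝ) + 1)), MvPolynomial.eval t q ≠ 0 := by
    intro k
    by_contra hcon
    push Not at hcon
    apply hq
    have hpos : (0 : ℝ) < 1 / ((k : ℝ) + 1) := by positivity
    refine MvPolynomial.funext_set (fun j => Metric.ball (t₀ j) (1 / ((k : ℝ) + 1)))
      (fun j => infinite_of_mem_nhds (t₀ j) (Metric.ball_mem_nhds _ hpos)) ?_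
    intro x hx
    rw [map_zero]
    apply hcon
    rw [ball_pi _ hpos]
    exact hx
  choose t ht1 ht2 using key
  refine ⟨t, ht2, ?_⟩
  rw [tendsto_iff_dist_tendsto_zero]
  refine squeeze_zero (fun _ => dist_nonneg) (fun k => (Metric.mem_ball.1 (ht1 k)).le) ?_
  exact tendsto_one_div_add_atTop_nhds_zero_nat

end Groth.Agent.Lib.Helper4.DensA2
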