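import Mathlib
import Groth.Agent.Lib.Helper4.DensA1
import Groth.Agent.Lib.Helper4.DensA2

namespace Groth.Agent.Lib.Helper4.DensA3
open Polynomial Filter Topology
open Groth.Agent.Lib.Helper4.DensA1 Groth.Agent.Lib.Helper4.DensA2

lemma minpoly_coeff_zero_ne_zero {R A : Type*} [CommRing R] [CommRing A] [IsDomain A]
    [Algebra R A] [Nontrivial R] {a : A} (hint : IsIntegral R a) (ha : a ≠ 0) :
    (minpoly R a).coeff 0 ≠ 0 := by
  intro h0
  have hmon := minpoly.monic hint
  obtain ⟨Q, hQ⟩ := X_dvd_iff.2 h0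
  have hQmon : Q.Monic := by
    have := hmon
    rw [hQ] at this
    exact Monic.of_mul_monic_left monic_X this
  have h1 : aeval a (minpoly R a) = 0 := minpoly.aeval R a
  rw [hQ, map_mul, aeval_X] at h1
  have h2 : aeval a Q = 0 := (mul_eq_zero.1 h1).resolve_left ha
  have h3 := minpoly.min R a hQmon h2
  have h5 : (minpoly R a).natDegree = Q.natDegree + 1 := by
    rw [hQ, mul_comm, hQmon.natDegree_mul monic_X, natDegree_X]
  have h6 := natDegree_le_natDegree h3
  omega


/-- lifting an evaluation through a surjection from a polynomial ring -/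
lemma exists_algHom_of_ker {A : Type*} [CommRing A] [Algebra ℂ A] {n : ℕ}
    (π : MvPolynomial (Fin n) ℂ →ₐ[ℂ] A) (hπ : Function.Surjective π) (zs : Fin n → ℂ)
    (hker : ∀ p, π p = 0 → MvPolynomial.eval zs p = 0) :
    ∃ χ : A →ₐ[ℂ] ℂ, ∀ p, χ (π p) = MvPolynomial.eval zs p := by
  let ψ : A →+* ℂ := RingHom.liftOfSurjective (π : MvPolynomial (Fin n) ℂ →+* A) hπ
    ⟨MvPolynomial.eval zs, fun p hp => hker p hp⟩
  have hψ : ∀ p, ψ (π p) = MvPolynomial.eval zs p := fun p =>
    RingHom.liftOfRightInverse_comp_apply _ _ _ _ p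
  refine ⟨{ ψ with commutes' := fun c => ?_ }, hψ⟩
  have : algebraMap ℂ A c = π (MvPolynomial.C c) := by
    rw [← MvPolynomial.algebraMap_eq, AlgHom.commutes]
  show ψ (algebraMap ℂ A c) = _
  rw [this, hψ]
  simp

theorem exists_seq_tendsto (A : Type*) [CommRing A] [IsDomain A] [Algebra ℂ A]
    [hft : Algebra.FiniteType ℂ A] (a : A) (ha : a ≠ 0) (φ₀ : A →ₐ[ℂ] ℂ) :
    ∃ φ : ℕ → (A →ₐ[ℂ] ℂ), (∀ k, φ k a ≠ 0) ∧
      ∀ b : A, Tendsto (fun k => φ k b) atTop (𝓝 (φ₀ b)) := by
  obtain ⟨d, ρ, hρinj, hρfin⟩ := exists_finite_inj_algHom_of_fg ℂ A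
  letI : Algebra (MvPolynomial (Fin d) ℂ) A := ρ.toRingHom.toAlgebra
  haveI : IsScalarTower ℂ (MvPolynomial (Fin d) ℂ) A :=
    IsScalarTower.of_algebraMap_eq fun c => (ρ.commutes c).symm
  haveI : Module.Finite (MvPolynomial (Fin d) ℂ) A := hρfin
  haveI : Algebra.IsIntegral (MvPolynomial (Fin d) ℂ) A := Algebra.IsIntegral.of_finite _ _
  haveI : FaithfulSMul (MvPolynomial (Fin d) ℂ) A :=
    (faithfulSMul_iff_algebraMap_injective _ _).2 hρinj
  set q := (minpoly (MvPolynomial (Fin d) ℂ) a).coeff 0 with hqdef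
  have hq : q ≠ 0 := minpoly_coeff_zero_ne_zero (Algebra.IsIntegral.isIntegral a) ha
  set t₀ := tOf d φ₀ with ht₀
  obtain ⟨t, ht_ne, ht_lim⟩ := exists_seq_eval_ne_zero q hq t₀
  obtain ⟨h, hh0, hsep⟩ := exists_separating (d := d) φ₀
  set P := minpoly (MvPolynomial (Fin d) ℂ) h with hPdef
  have hPmonic : P.Monic := minpoly.monic (Algebra.IsIntegral.isIntegral h)
  have hPdeg : 0 < P.natDegree := minpoly.natDegree_pos (Algebra.IsIntegral.isIntegral h)
  have hroot : ∀ k, ∃ T : ℂ, eval₂ (MvPolynomial.eval (t k)) T P = 0 ∧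
      ‖T‖ ^ P.natDegree ≤ ‖MvPolynomial.eval (t k) (P.coeff 0)‖ := by
    intro k
    obtain ⟨z, hz, hzn⟩ := exists_root_norm_pow_le (P.map (MvPolynomial.eval (t k)))
      (hPmonic.map _) (by rw [hPmonic.natDegree_map]; exact hPdeg)
    refine ⟨z, by rwa [IsRoot, eval_map] at hz, ?_⟩
    rw [hPmonic.natDegree_map, coeff_map] at hzn
    exact hzn
  choose T hT1 hT2 using hroot
  have hlift : ∀ k, ∃ φ : A →ₐ[ℂ] ℂ, tOf d φ = t k ∧ φ h = T k :=
    fun k => exists_lift (t k) h (T k) (hT1 k)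
  choose φ hφt hφh using hlift
  refine ⟨φ, fun k => apply_ne_zero_of_eval_ne_zero (d := d) a (φ k)
    (by rw [hφt]; exact ht_ne k), ?_⟩
  -- `T k → 0`
  have hc0 : MvPolynomial.eval t₀ (P.coeff 0) = 0 := by
    have := eval₂_minpoly (d := d) φ₀ h
    rw [hh0, eval₂_at_zero] at this
    exact this
  have hclim : Tendsto (fun k => ‖MvPolynomial.eval (t k) (P.coeff 0)‖) atTop (𝓝 0) := by
    have h1 : Tendsto (fun k => MvPolynomial.eval (t k) (P.coeff 0)) atTop
        (𝓝 (MvPolynomial.eval t₀ (P.coeff 0))) :=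
      ((MvPolynomial.continuous_eval (P.coeff 0)).tendsto _).comp ht_lim
    rw [hc0] at h1
    simpa using h1.norm
  have hT0 : Tendsto T atTop (𝓝 0) := by
    rw [tendsto_zero_iff_norm_tendsto_zero, Metric.tendsto_atTop]
    intro ε hε
    have hε' : 0 < ε ^ P.natDegree := pow_pos hε _
    obtain ⟨N, hN⟩ := (Metric.tendsto_atTop.1 hclim) _ hε'
    refine ⟨N, fun k hk => ?_⟩
    have h1 := hN k hk
    rw [Real.dist_eq, sub_zero, abs_of_nonneg (norm_nonneg _)] at h1
    rw [Real.dist_eq, sub_zero, abs_of_nonneg (norm_nonneg _)]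
    exact lt_of_pow_lt_pow_left₀ _ hε.le (lt_of_le_of_lt (hT2 k) h1)
  -- generators
  obtain ⟨n, π, hπ⟩ := Algebra.FiniteType.iff_quotient_mvPolynomial''.1 hft
  let z : (A →ₐ[ℂ] ℂ) → (Fin n → ℂ) := fun χ i => χ (π (MvPolynomial.X i))
  have hz : ∀ (χ : A →ₐ[ℂ] ℂ) p, χ (π p) = MvPolynomial.eval (z χ) p := by
    intro χ p
    have : χ.comp π = MvPolynomial.aeval (z χ) := by
      apply MvPolynomial.algHom_ext
      intro j
      simp [z]
    have h2 := congrArg (fun ξ : MvPolynomial (Fin n) ℂ →ₐ[ℂ] ℂ => ξ p) this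
    simpa [MvPolynomial.coe_aeval_eq_eval] using h2
  -- boundedness
  have hbdd : ∃ M : ℝ, ∀ k, ‖z (φ k)‖ ≤ M := by
    have hcompact : IsCompact (insert t₀ (Set.range t)) := ht_lim.isCompact_insert_range
    have hbi : ∀ i : Fin n, ∃ Mi : ℝ, ∀ k, ‖φ k (π (MvPolynomial.X i))‖ ≤ Mi := by
      intro i
      set Pi := minpoly (MvPolynomial (Fin d) ℂ) (π (MvPolynomial.X i)) with hPi
      have hPim : Pi.Monic := minpoly.monic (Algebra.IsIntegral.isIntegral _)
      let g : (Fin d → ℂ) → ℝ := fun s =>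
        ∑ j ∈ Finset.range Pi.natDegree, ‖MvPolynomial.eval s (Pi.coeff j)‖
      have hg : Continuous g := continuous_finsetSum _ fun j _ =>
        continuous_norm.comp (MvPolynomial.continuous_eval _)
      obtain ⟨C, hC⟩ := hcompact.bddAbove_image hg.continuousOn
      refine ⟨C + 1, fun k => ?_⟩
      have hr : ((Pi.map (MvPolynomial.eval (t k))).IsRoot (φ k (π (MvPolynomial.X i)))) := by
        rw [IsRoot, eval_map, ← hφt k]
        exact eval₂_minpoly (d := d) (φ k) _
      have h1 := norm_root_lt _ (hPim.map _) _ hr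
      rw [hPim.natDegree_map] at h1
      simp only [coeff_map] at h1
      have h2 : g (t k) ≤ C := hC ⟨t k, Set.mem_insert_of_mem _ ⟨k, rfl⟩, rfl⟩
      linarith
    choose Mi hMi using hbi
    refine ⟨∑ i, |Mi i|, fun k => ?_⟩
    rw [pi_norm_le_iff_of_nonneg (Finset.sum_nonneg fun i _ => abs_nonneg _)]
    intro i
    calc ‖z (φ k) i‖ ≤ Mi i := hMi i k
      _ ≤ |Mi i| := le_abs_self _
      _ ≤ ∑ i, |Mi i| := Finset.single_le_sum (f := fun i => |Mi i|)
          (fun _ _ => abs_nonneg _) (Finset.mem_univ i)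
  obtain ⟨M, hM⟩ := hbdd
  have hzlim : Tendsto (fun k => z (φ k)) atTop (𝓝 (z φ₀)) := by
    apply tendsto_of_subseq_tendsto
    intro ns hns
    obtain ⟨zs, -, ms, hms, hlim⟩ := tendsto_subseq_of_bounded
      (Metric.isBounded_closedBall (x := (0 : Fin n → ℂ)) (r := M))
      (x := fun k => z (φ (ns k))) (fun k => by simpa using hM _)
    refine ⟨ms, ?_⟩
    have hker : ∀ p, π p = 0 → MvPolynomial.eval zs p = 0 := by
      intro p hp
      have h1 : Tendsto (fun k => MvPolynomial.eval (z (φ (ns (ms k)))) p) atTop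
          (𝓝 (MvPolynomial.eval zs p)) :=
        ((MvPolynomial.continuous_eval p).tendsto _).comp hlim
      have h2 : ∀ k, MvPolynomial.eval (z (φ (ns (ms k)))) p = 0 := fun k => by
        rw [← hz, hp, map_zero]
      simp only [h2] at h1
      exact tendsto_nhds_unique tendsto_const_nhds h1 |>.symm
    obtain ⟨φs, hφs⟩ := exists_algHom_of_ker π hπ zs hker
    have hconv : ∀ b, Tendsto (fun k => φ (ns (ms k)) b) atTop (𝓝 (φs b)) := by
      intro b
      obtain ⟨p, rfl⟩ := hπ b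
      rw [hφs p]
      have h5 : ∀ k, φ (ns (ms k)) (π p) = MvPolynomial.eval (z (φ (ns (ms k)))) p :=
        fun k => hz _ p
      simp only [h5]
      exact ((MvPolynomial.continuous_eval p).tendsto _).comp hlim
    have hsub : Tendsto (fun k => ns (ms k)) atTop atTop := hns.comp hms.tendsto_atTop
    have h1 : tOf d φs = tOf d φ₀ := by
      funext j
      refine tendsto_nhds_unique (hconv _) ?_
      have h3 : ∀ k, φ (ns (ms k)) (algebraMap (MvPolynomial (Fin d) ℂ) A (MvPolynomial.X j)) =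
          t (ns (ms k)) j := fun k => congrFun (hφt (ns (ms k))) j
      simp only [h3]
      exact (tendsto_pi_nhds.1 (ht_lim.comp hsub)) j
    have h2 : φs h = 0 := by
      refine tendsto_nhds_unique (hconv h) ?_
      simp only [hφh]
      exact hT0.comp hsub
    have h3 : φs = φ₀ := hsep φs h1 h2
    have h4 : zs = z φ₀ := by
      funext i
      have := hφs (MvPolynomial.X i)
      rw [MvPolynomial.eval_X] at this
      rw [← this, h3]
    rw [← h4]
    exact hlim
  intro b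
  obtain ⟨p, rfl⟩ := hπ b
  simp only [hz]
  exact ((MvPolynomial.continuous_eval p).tendsto _).comp hzlim

end Groth.Agent.Lib.Helper4.DensA3
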