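import Mathlib
import Groth.Agent.Lib.Helper4.AnGen
import Groth.Agent.Lib.Helper4.AnLC
import Groth.Agent.Lib.Helper4.DensA3

namespace Groth.Agent.Lib.Helper4.DensSch1
open AlgebraicGeometry CategoryTheory TopologicalSpace Opposite An Topology Filter
open Groth.Agent.Lib.Helper4.AnEv Groth.Agent.Lib.Helper4.AnGen Groth.Agent.Lib.Helper4.AnLC
open Groth.Agent.Lib.Helper4.DensA3

/-- Topological lemma: a point in the closure of a locally closed set `Z ∩ O` of a Noetherian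
space lies in an irreducible closed subset of `Z` meeting `O`. -/
lemma exists_irreducible_of_mem_closure {α : Type*} [TopologicalSpace α] [NoetherianSpace α]
    {Z O : Set α} (hZ : IsClosed Z) {p : α} (hp : p ∈ closure (Z ∩ O)) :
    ∃ C : Set α, IsClosed C ∧ IsIrreducible C ∧ p ∈ C ∧ C ⊆ Z ∧ (C ∩ O).Nonempty := by
  obtain ⟨S, hSf, hSc, hSi, hS⟩ :=
    NoetherianSpace.exists_finite_set_isClosed_irreducible (isClosed_closure (s := Z ∩ O))
  set S' := {t ∈ S | (t ∩ (Z ∩ O)).Nonempty} with hS'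
  have hS'f : S'.Finite := hSf.subset (Set.sep_subset _ _)
  have hcl : IsClosed (⋃₀ S') := by
    rw [Set.sUnion_eq_biUnion]
    exact hS'f.isClosed_biUnion fun t ht => hSc t ht.1
  have hsub : Z ∩ O ⊆ ⋃₀ S' := by
    intro y hy
    have hy' : y ∈ ⋃₀ S := by rw [← hS]; exact subset_closure hy
    obtain ⟨t, ht, hyt⟩ := hy'
    exact ⟨t, ⟨ht, ⟨y, hyt, hy⟩⟩, hyt⟩
  obtain ⟨C, hC, hpC⟩ := (closure_minimal hsub hcl) hp
  refine ⟨C, hSc C hC.1, hSi C hC.1, hpC, ?_, ?_⟩
  · have : C ⊆ closure (Z ∩ O) := by rw [hS]; exact Set.subset_sUnion_of_mem hC.1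
    exact this.trans (closure_minimal Set.inter_subset_left hZ)
  · obtain ⟨y, hyC, hy⟩ := hC.2
    exact ⟨y, hyC, hy.2⟩

variable {X : Scheme.{0}}

/-- the ideal of global functions vanishing on a subset -/
def vanIdeal (X : Scheme.{0}) (C : Set X) : Ideal Γ(X, ⊤) where
  carrier := {b | ∀ p ∈ C, p ∉ X.basicOpen b}
  zero_mem' := fun p _ => by rw [Scheme.basicOpen_zero]; exact fun h => h
  add_mem' := fun {b b'} hb hb' p hp h => by
    rcases X.basicOpen_add_le b b' h with h1 | h1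
    · exact hb p hp h1
    · exact hb' p hp h1
  smul_mem' := fun c b hb p hp h => by
    rw [smul_eq_mul, Scheme.basicOpen_mul] at h
    exact hb p hp h.2

lemma mem_vanIdeal {C : Set X} {b : Γ(X, ⊤)} :
    b ∈ vanIdeal X C ↔ ∀ p ∈ C, p ∉ X.basicOpen b := Iff.rfl

lemma vanIdeal_isPrime {C : Set X} (hC : IsIrreducible C) : (vanIdeal X C).IsPrime := by
  refine ⟨?_, ?_⟩
  · intro h
    obtain ⟨p, hp⟩ := hC.1
    have h1 : (1 : Γ(X, ⊤)) ∈ vanIdeal X C := by rw [h]; trivial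
    apply h1 p hp
    rw [Scheme.basicOpen_of_isUnit X isUnit_one]
    trivial
  · intro b b' hbb'
    have h1 : C ⊆ ((X.basicOpen b : Set X))ᶜ ∪ ((X.basicOpen b' : Set X))ᶜ := by
      intro p hp
      by_contra hcon
      simp only [Set.mem_union, Set.mem_compl_iff, not_or, not_not] at hcon
      apply hbb' p hp
      rw [Scheme.basicOpen_mul]
      exact hcon
    rcases (isPreirreducible_iff_isClosed_union_isClosed.1 hC.2) _ _
      (X.basicOpen b).2.isClosed_compl (X.basicOpen b').2.isClosed_compl h1 with h2 | h2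
    · left; intro p hp; exact h2 hp
    · right; intro p hp; exact h2 hp

lemma mem_of_forall_vanIdeal [IsAffine X] {C : Set X} (hC : IsClosed C) {p : X}
    (hp : ∀ b ∈ vanIdeal X C, p ∉ X.basicOpen b) : p ∈ C := by
  by_contra hpC
  obtain ⟨_, ⟨_, ⟨b, rfl⟩, rfl⟩, hpb, hbC⟩ :=
    (isBasis_basicOpen X).exists_subset_of_mem_open (show p ∈ Cᶜ from hpC) hC.isOpen_compl
  refine hp b ?_ hpb
  intro q hq hqb
  exact hbC hqb hq

lemma finiteType_strHom (X : Scheme.{0}) [X.Over SC] [IsAffine X]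
    [LocallyOfFiniteType (X ↘ SC)] : (strHom X).FiniteType := by
  have h1 : (X ↘ SC).appTop.hom.FiniteType :=
    (HasRingHomProperty.iff_of_isAffine (P := @LocallyOfFiniteType)).1 inferInstance
  unfold strHom
  refine h1.comp (RingHom.FiniteType.of_surjective _ ?_)
  exact (ConcreteCategory.bijective_of_isIso (Scheme.ΓSpecIso (CommRingCat.of ℂ)).inv).2

lemma noetherianSpace_of_isAffine (X : Scheme.{0}) [X.Over SC] [IsAffine X]
    [LocallyOfFiniteType (X ↘ SC)] : NoetherianSpace X := by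
  haveI : IsLocallyNoetherian X := LocallyOfFiniteType.isLocallyNoetherian (X ↘ SC)
  haveI : IsNoetherian X := {}
  infer_instance

theorem mem_closure_locallyClosed_of_isAffine (X : Scheme.{0}) [X.Over SC] [IsAffine X]
    [LocallyOfFiniteType (X ↘ SC)] {Z O : Set X} (hZ : IsClosed Z) (hO : IsOpen O) (x : Pts X)
    (hx : x.pt ∈ closure (Z ∩ O)) : x ∈ closure (Pts.pt ⁻¹' (Z ∩ O)) := by
  haveI := noetherianSpace_of_isAffine X
  obtain ⟨C, hCc, hCi, hxC, hCZ, ⟨y, hyC, hyO⟩⟩ := exists_irreducible_of_mem_closure hZ hx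
  obtain ⟨_, ⟨_, ⟨a, rfl⟩, rfl⟩, hya, haO⟩ :=
    (isBasis_basicOpen X).exists_subset_of_mem_open hyO hO
  haveI hprime : (vanIdeal X C).IsPrime := vanIdeal_isPrime hCi
  letI : Algebra ℂ Γ(X, ⊤) := (strHom X).toAlgebra
  haveI : Algebra.FiniteType ℂ Γ(X, ⊤) := finiteType_strHom X
  haveI : Algebra.FiniteType ℂ (Γ(X, ⊤) ⧸ vanIdeal X C) :=
    Algebra.FiniteType.of_surjective (Ideal.Quotient.mkₐ ℂ (vanIdeal X C))
      Ideal.Quotient.mk_surjective
  let evAlg : Γ(X, ⊤) →ₐ[ℂ] ℂ :=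
    { evHom x ⊤ (Opens.mem_top _) with commutes' := fun c => evTop_strHom x c }
  have hev : ∀ r, evAlg r = x.evTop r := fun r => rfl
  have hvan : ∀ b ∈ vanIdeal X C, evAlg b = 0 := by
    intro b hb
    rw [hev]
    by_contra hne
    exact hb x.pt hxC ((mem_basicOpen_iff x ⊤ (Opens.mem_top _) b).2 hne)
  let φ₀ : (Γ(X, ⊤) ⧸ vanIdeal X C) →ₐ[ℂ] ℂ := Ideal.Quotient.liftₐ (vanIdeal X C) evAlg hvan
  have hā : (Ideal.Quotient.mk (vanIdeal X C) a) ≠ 0 := by
    rw [Ne, Ideal.Quotient.eq_zero_iff_mem]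
    intro ha
    exact ha y hyC hya
  obtain ⟨φ, hφa, hφlim⟩ := exists_seq_tendsto (Γ(X, ⊤) ⧸ vanIdeal X C) _ hā φ₀
  have hpts : ∀ k, ∃ yk : Pts X, ∀ r, yk.evTop r = φ k (Ideal.Quotient.mk (vanIdeal X C) r) := by
    intro k
    refine exists_pt_of_ringHom
      (((φ k).comp (Ideal.Quotient.mkₐ ℂ (vanIdeal X C)) : Γ(X, ⊤) →ₐ[ℂ] ℂ) : Γ(X, ⊤) →+* ℂ) ?_
    intro c
    exact ((φ k).comp (Ideal.Quotient.mkₐ ℂ (vanIdeal X C))).commutes c
  choose yk hyk using hpts
  have hyT : ∀ k, (yk k).pt ∈ Z ∩ O := by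
    intro k
    constructor
    · apply hCZ
      apply mem_of_forall_vanIdeal hCc
      intro b hb hmem
      rw [mem_basicOpen_iff (yk k) ⊤ (Opens.mem_top _) b] at hmem
      apply hmem
      show (yk k).evTop b = 0
      rw [hyk, (Ideal.Quotient.eq_zero_iff_mem).2 hb, map_zero]
    · apply haO
      show (yk k).pt ∈ X.basicOpen a
      rw [mem_basicOpen_iff (yk k) ⊤ (Opens.mem_top _) a]
      show (yk k).evTop a ≠ 0
      rw [hyk]
      exact hφa k
  have hlim : Tendsto yk atTop (𝓝 x) := by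
    obtain ⟨n, s, hs⟩ := exists_generators X
    rw [(isClosedEmbedding_of_generators s hs).isInducing.tendsto_nhds_iff]
    rw [tendsto_pi_nhds]
    intro i
    have h1 := hφlim (Ideal.Quotient.mk (vanIdeal X C) (s i))
    have h2 : φ₀ (Ideal.Quotient.mk (vanIdeal X C) (s i)) = x.evTop (s i) := by
      rfl
    rw [h2] at h1
    simpa only [Function.comp_def, hyk] using h1
  exact mem_closure_of_tendsto hlim (Eventually.of_forall hyT)

end Groth.Agent.Lib.Helper4.DensSch1
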