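import Mathlib
import Groth.Agent.Lib.Helper4.DensSch1
import Groth.Agent.Lib.Helper4.AnSurj
import Groth.Agent.Lib.Helper4.AnOpen

namespace Groth.Agent.Lib.Helper4.DensSch2
open AlgebraicGeometry CategoryTheory TopologicalSpace Opposite An Topology Filter
open Groth.Agent.Lib.Helper4.AnEv Groth.Agent.Lib.Helper4.AnGen Groth.Agent.Lib.Helper4.AnLC
open Groth.Agent.Lib.Helper4.DensSch1 Groth.Agent.Lib.Helper4.AnSurj Groth.Agent.Lib.Helper4.AnOpen

/-- affine case for constructible sets -/
theorem mem_closure_constructible_of_isAffine (X : Scheme.{0}) [X.Over SC] [IsAffine X]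
    [LocallyOfFiniteType (X ↘ SC)] {T : Set X} (hT : IsConstructible T) (x : Pts X)
    (hx : x.pt ∈ closure T) : x ∈ closure (Pts.pt ⁻¹' T) := by
  obtain ⟨F, hF, rfl⟩ := (IsConstructible.finLC hT).1
  rw [F.finite_toSet.closure_sUnion] at hx
  simp only [Set.mem_iUnion] at hx
  obtain ⟨A, hA, hxA⟩ := hx
  obtain ⟨O, Z, hO, hZ, rfl⟩ := hF A hA
  rw [Set.inter_comm] at hxA
  have := mem_closure_locallyClosed_of_isAffine X hZ hO x hxA
  refine closure_mono ?_ this
  apply Set.preimage_mono
  rw [Set.inter_comm]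
  exact Set.subset_sUnion_of_mem hA

/-- **Density theorem**: the `ℂ`-points of the Zariski closure of a locally constructible set lie
in the closure (for the complex topology) of its `ℂ`-points. -/
theorem preimage_closure_subset (X : Scheme.{0}) [X.Over SC] [LocallyOfFiniteType (X ↘ SC)]
    {T : Set X} (hT : IsLocallyConstructible T) :
    (Pts.pt ⁻¹' closure T : Set (Pts X)) ⊆ closure (Pts.pt ⁻¹' T) := by
  intro x hx
  obtain ⟨U, hU, hxU⟩ := exists_affineOpen_mem X x.pt
  haveI : IsAffine U.toScheme := hU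
  haveI : LocallyOfFiniteType (U.toScheme ↘ SC) :=
    inferInstanceAs (LocallyOfFiniteType (U.ι ≫ X ↘ SC))
  obtain ⟨x', rfl⟩ := exists_lift_of_isOpenImmersion U.ι x (by simpa using hxU)
  have hT' : IsConstructible (U.ι ⁻¹' T) :=
    (hT.preimage_of_isOpenEmbedding U.ι.isOpenEmbedding).isConstructible
  have hx' : x'.pt ∈ closure (U.ι ⁻¹' T) := by
    rw [← U.ι.isOpenEmbedding.isOpenMap.preimage_closure_eq_closure_preimage U.ι.continuous]
    show U.ι x'.pt ∈ closure T
    rw [← Pts.pt_map]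
    exact hx
  have h1 := mem_closure_constructible_of_isAffine U.toScheme hT' x' hx'
  have h2 : Pts.map U.ι x' ∈ closure (Pts.map U.ι '' (Pts.pt ⁻¹' (U.ι ⁻¹' T))) :=
    image_closure_subset_closure_image (Pts.continuous_map U.ι) ⟨x', h1, rfl⟩
  refine closure_mono ?_ h2
  rintro _ ⟨y, hy, rfl⟩
  show (Pts.map U.ι y).pt ∈ T
  rw [Pts.pt_map]
  exact hy

theorem preimage_closure_eq (X : Scheme.{0}) [X.Over SC] [LocallyOfFiniteType (X ↘ SC)]
    (T : Set X) (hT : IsLocallyConstructible T) :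
    (Pts.pt ⁻¹' closure T : Set (Pts X)) = closure (Pts.pt ⁻¹' T) :=
  (preimage_closure_subset X hT).antisymm (Pts.continuous_pt.closure_preimage_subset T)

end Groth.Agent.Lib.Helper4.DensSch2
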