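import Mathlib
import Groth.Agent.Lib.Helper4.DensSch2

namespace Groth.Agent.Lib.Helper4.DensSch3
open AlgebraicGeometry CategoryTheory TopologicalSpace Opposite An Topology Filter
open Groth.Agent.Lib.Helper4.AnEv Groth.Agent.Lib.Helper4.AnGen Groth.Agent.Lib.Helper4.AnLC
open Groth.Agent.Lib.Helper4.DensSch1 Groth.Agent.Lib.Helper4.DensSch2
open Groth.Agent.Lib.Helper4.AnSurj Groth.Agent.Lib.Helper4.AnOpen
open Groth.Agent.Lib.Helper4.AnBasic Groth.Agent.Lib.Helper4.AnInj

section top
variable {α : Type*} [TopologicalSpace α]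

lemma IsLocallyConstructible.compl' {s : Set α} (hs : IsLocallyConstructible s) :
    IsLocallyConstructible sᶜ := by
  intro x
  obtain ⟨U, hU, hUo, hUc⟩ := hs x
  exact ⟨U, hU, hUo, by simpa using hUc.compl⟩

end top

lemma isLocallyConstructible_of_isOpen (X : Scheme.{0}) [IsLocallyNoetherian X] {O : Set X}
    (hO : IsOpen O) : IsLocallyConstructible O := by
  intro x
  obtain ⟨U, hU, hxU⟩ := exists_affineOpen_mem X x
  haveI : IsNoetherianRing Γ(X, U) := IsLocallyNoetherian.component_noetherian ⟨U, hU⟩
  haveI : NoetherianSpace ((U : Set X) : Type) := noetherianSpace_of_isAffineOpen U hU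
  refine ⟨U, U.2.mem_nhds hxU, U.2, ?_⟩
  have hopen : IsOpen (Subtype.val ⁻¹' O : Set (U : Set X)) := hO.preimage continuous_subtype_val
  exact IsRetrocompact.isConstructible hopen (fun V _ _ => NoetherianSpace.isCompact _)

lemma isLocallyConstructible_of_isClosed (X : Scheme.{0}) [IsLocallyNoetherian X] {Z : Set X}
    (hZ : IsClosed Z) : IsLocallyConstructible Z := by
  have := IsLocallyConstructible.compl' (isLocallyConstructible_of_isOpen X hZ.isOpen_compl)
  rwa [compl_compl] at this

variable (X : Scheme.{0}) [X.Over SC] [LocallyOfFiniteType (X ↘ SC)]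

lemma isLocallyNoetherian_of_lft : IsLocallyNoetherian X :=
  LocallyOfFiniteType.isLocallyNoetherian (X ↘ SC)

lemma jacobsonSpace_of_lft : JacobsonSpace X := LocallyOfFiniteType.jacobsonSpace (X ↘ SC)

/-- a locally constructible set without `ℂ`-points is empty -/
lemma eq_empty_of_forall_pt_notMem {W : Set X} (hW : IsLocallyConstructible W)
    (h : ∀ x : Pts X, x.pt ∉ W) : W = ∅ := by
  haveI := jacobsonSpace_of_lft X
  have h1 := eq_univ_of_isLocallyConstructible (IsLocallyConstructible.compl' hW) (by
    intro p hp hpW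
    have hpc : IsClosed ({p} : Set X) := hp
    exact h (ptOfClosed X p hpc) (by rw [ptOfClosed_pt]; exact hpW))
  exact Set.compl_univ_iff.1 h1

/-- closedness can be tested on `ℂ`-points for locally constructible sets -/
theorem isClosed_of_isClosed_preimage {T : Set X} (hT : IsLocallyConstructible T)
    (h : IsClosed (Pts.pt ⁻¹' T : Set (Pts X))) : IsClosed T := by
  haveI := isLocallyNoetherian_of_lft X
  have h1 := preimage_closure_eq X T hT
  rw [h.closure_eq] at h1
  have hW : IsLocallyConstructible (closure T ∩ Tᶜ) :=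
    (isLocallyConstructible_of_isClosed X isClosed_closure).inter (IsLocallyConstructible.compl' hT)
  have h2 := eq_empty_of_forall_pt_notMem X hW (by
    rintro x ⟨hx1, hx2⟩
    have : x ∈ (Pts.pt ⁻¹' closure T : Set (Pts X)) := hx1
    rw [h1] at this
    exact hx2 this)
  have h3 : closure T ⊆ T := by
    intro p hp
    by_contra hpT
    have : p ∈ closure T ∩ Tᶜ := ⟨hp, hpT⟩
    rw [h2] at this
    exact this
  exact closure_subset_iff_isClosed.1 h3

theorem main4189 (T : Set X) (hT : IsLocallyConstructible T) :
    IsOpen T ↔ IsOpen (Pts.pt ⁻¹' T : Set (Pts X)) := by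
  constructor
  · intro h; exact h.preimage Pts.continuous_pt
  · intro h
    rw [← isClosed_compl_iff]
    apply isClosed_of_isClosed_preimage X (IsLocallyConstructible.compl' hT)
    rw [Set.preimage_compl]
    exact h.isClosed_compl

theorem main4190 (T : Set X) (hT : IsLocallyConstructible T) :
    Dense T ↔ Dense (Pts.pt ⁻¹' T : Set (Pts X)) := by
  haveI := jacobsonSpace_of_lft X
  rw [dense_iff_closure_eq, dense_iff_closure_eq, ← preimage_closure_eq X T hT]
  constructor
  · intro h; rw [h]; rfl
  · intro h
    apply Set.eq_univ_of_univ_subset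
    rw [← closure_closedPoints]
    apply closure_minimal _ isClosed_closure
    intro p hp
    have hpc : IsClosed ({p} : Set X) := hp
    have : ptOfClosed X p hpc ∈ (Pts.pt ⁻¹' closure T : Set (Pts X)) := by rw [h]; trivial
    have h2 : (ptOfClosed X p hpc).pt ∈ closure T := this
    rwa [ptOfClosed_pt] at h2

theorem main4187 : DiscreteTopology ↥X ↔ DiscreteTopology (Pts X) := by
  haveI := jacobsonSpace_of_lft X
  haveI := isLocallyNoetherian_of_lft X
  constructor
  · intro h
    exact DiscreteTopology.of_continuous_injective Pts.continuous_pt (pt_injective X)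
  · intro h
    have hcl : ∀ p : X, IsClosed ({p} : Set X) → IsOpen ({p} : Set X) := by
      intro p hp
      rw [main4189 X {p} (isLocallyConstructible_of_isClosed X hp)]
      exact isOpen_discrete _
    rw [discreteTopology_iff_isOpen_singleton]
    intro q
    obtain ⟨p, hpq, hpc⟩ := nonempty_inter_closedPoints (X := X) (Z := closure {q})
      ⟨q, subset_closure rfl⟩ isClosed_closure.isLocallyClosed
    have hpc' : IsClosed ({p} : Set X) := hpc
    have hpo := hcl p hpc'
    have : q ∈ ({p} : Set X) := by
      have := mem_closure_iff.1 hpq {p} hpo rfl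
      obtain ⟨y, hy1, hy2⟩ := this
      rw [Set.mem_singleton_iff] at hy1 hy2
      rw [Set.mem_singleton_iff, ← hy2, hy1]
    rw [Set.mem_singleton_iff] at this
    rw [this]
    exact hpo

end Groth.Agent.Lib.Helper4.DensSch3
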