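import Mathlib.Tactic
import Mathlib.AlgebraicGeometry.Morphisms.Flat
import Groth.Agent.Lib.Helper4.AnEv

namespace Groth.Agent.Lib.Helper4.AnPB
open AlgebraicGeometry CategoryTheory TopologicalSpace Opposite An Topology Limits
open Groth.Agent.Lib.Helper4.AnEv

variable {X Y S : Scheme.{0}} [X.Over SC] [Y.Over SC] [S.Over SC]
  (f : X ⟶ S) (g : Y ⟶ S) [f.IsOver SC] [g.IsOver SC]

lemma exists_affineOpen_mem_le (X : Scheme.{0}) (p : X) (W : X.Opens) (hp : p ∈ W) :
    ∃ U : X.Opens, IsAffineOpen U ∧ p ∈ U ∧ U ≤ W := by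
  obtain ⟨_, ⟨U₁, hU₁, rfl⟩, hxU₁, hle⟩ :=
    X.isBasis_affineOpens.exists_subset_of_mem_open hp W.2
  exact ⟨U₁, hU₁, hxU₁, hle⟩

/-- the product map -/
noncomputable def psi (z : Pts (pullback f g)) : Pts X × Pts Y :=
  (Pts.map (pullback.fst f g) z, Pts.map (pullback.snd f g) z)

lemma continuous_psi : Continuous (psi f g) :=
  (Pts.continuous_map _).prodMk (Pts.continuous_map _)

theorem isAffineOpen_chart {US : S.Opens} {UX : X.Opens} {UT : Y.Opens}
    (hUS : IsAffineOpen US) (hUX : IsAffineOpen UX) (hUT : IsAffineOpen UT)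
    (hUSX : UX ≤ f ⁻¹ᵁ US) (hUST : UT ≤ g ⁻¹ᵁ US) :
    IsAffineOpen (pullback.fst f g ⁻¹ᵁ UX ⊓ pullback.snd f g ⁻¹ᵁ UT) := by
  have : IsAffine US.toScheme := hUS
  have : IsAffine UT.toScheme := hUT
  have : IsAffine UX.toScheme := hUX
  exact .of_isIso (Scheme.Hom.isPullback_resLE (IsPullback.of_hasPullback f g)
    hUST hUSX rfl).isoPullback.hom

theorem closure_chart {US : S.Opens} {UX : X.Opens} {UT : Y.Opens}
    (hUS : IsAffineOpen US) (hUX : IsAffineOpen UX) (hUT : IsAffineOpen UT)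
    (hUSX : UX ≤ f ⁻¹ᵁ US) (hUST : UT ≤ g ⁻¹ᵁ US) :
    Subring.closure
      (Set.range ((pullback.fst f g).appLE UX (pullback.fst f g ⁻¹ᵁ UX ⊓ pullback.snd f g ⁻¹ᵁ UT)
        inf_le_left) ∪
       Set.range ((pullback.snd f g).appLE UT (pullback.fst f g ⁻¹ᵁ UX ⊓ pullback.snd f g ⁻¹ᵁ UT)
        inf_le_right)) = ⊤ := by
  have H := IsPullback.of_hasPullback f g
  have h1 := isIso_pushoutSection_of_isAffineOpen H hUST hUSX rfl hUS hUT hUX
  have h2 := (isIso_pushoutSection_iff H hUST hUSX rfl).1 h1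
  exact CommRingCat.closure_range_union_range_eq_top_of_isPushout h2

theorem isInducing_psi : Topology.IsInducing (psi f g) := by
  refine isInducing_of_factorsOn (psi f g) (continuous_psi f g) fun z₀ => ?_
  obtain ⟨US, hUS, hsUS, -⟩ := exists_affineOpen_mem_le S (f (pullback.fst f g z₀.pt)) ⊤ trivial
  obtain ⟨UX, hUX, hxUX, hUSX⟩ := exists_affineOpen_mem_le X (pullback.fst f g z₀.pt)
    (f ⁻¹ᵁ US) hsUS
  have hsUS' : g (pullback.snd f g z₀.pt) ∈ US := by
    rw [← Scheme.Hom.comp_apply, ← pullback.condition, Scheme.Hom.comp_apply]; exact hsUS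
  obtain ⟨UT, hUT, hyUT, hUST⟩ := exists_affineOpen_mem_le Y (pullback.snd f g z₀.pt)
    (g ⁻¹ᵁ US) hsUS'
  set UP := pullback.fst f g ⁻¹ᵁ UX ⊓ pullback.snd f g ⁻¹ᵁ UT with hUP
  set O : Set (Pts X × Pts Y) := (Pts.pt ⁻¹' (UX : Set X)) ×ˢ (Pts.pt ⁻¹' (UT : Set Y)) with hO
  refine ⟨UP, O, isAffineOpen_chart f g hUS hUX hUT hUSX hUST, ⟨hxUX, hyUT⟩,
    (Pts.isOpen_preimage_pt UX).prod (Pts.isOpen_preimage_pt UT), ?_, fun e => ?_⟩
  · ext z
    show ((Pts.map (pullback.fst f g) z).pt ∈ UX ∧ (Pts.map (pullback.snd f g) z).pt ∈ UT) ↔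
      (pullback.fst f g z.pt ∈ UX ∧ pullback.snd f g z.pt ∈ UT)
    rw [Pts.pt_map, Pts.pt_map]
  · have hcl := closure_chart f g hUS hUX hUT hUSX hUST
    have he : e ∈ Subring.closure
      (Set.range ((pullback.fst f g).appLE UX UP inf_le_left) ∪
       Set.range ((pullback.snd f g).appLE UT UP inf_le_right)) := by
      rw [hcl]; trivial
    induction he using Subring.closure_induction with
    | mem e he =>
      rcases he with ⟨α, rfl⟩ | ⟨β, rfl⟩
      · refine ⟨fun q => evD q.1 UX α, (continuousOn_evD UX α).comp continuousOn_fst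
          (fun q hq => hq.1), fun z h => ?_⟩
        have h' : (Pts.map (pullback.fst f g) z).pt ∈ UX := by rw [Pts.pt_map]; exact h.1
        show _ = evD (Pts.map (pullback.fst f g) z) UX α
        rw [evD_of_mem _ _ _ h', Pts.ev_map, Scheme.Hom.appLE, CommRingCat.comp_apply, ev_res]
      · refine ⟨fun q => evD q.2 UT β, (continuousOn_evD UT β).comp continuousOn_snd
          (fun q hq => hq.2), fun z h => ?_⟩
        have h' : (Pts.map (pullback.snd f g) z).pt ∈ UT := by rw [Pts.pt_map]; exact h.2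
        show _ = evD (Pts.map (pullback.snd f g) z) UT β
        rw [evD_of_mem _ _ _ h', Pts.ev_map, Scheme.Hom.appLE, CommRingCat.comp_apply, ev_res]
    | zero => exact FactorsOn.zero
    | one => exact FactorsOn.one
    | add a b _ _ ha hb => exact ha.add hb
    | neg a _ ha => exact ha.neg
    | mul a b _ _ ha hb => exact ha.mul hb

theorem main4193 :
    IsHomeomorph (fun z : An.Pts (Limits.pullback f g) =>
      (⟨(An.Pts.map (Limits.pullback.fst f g) z, An.Pts.map (Limits.pullback.snd f g) z),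
        An.Pts.map_pullback_condition f g z⟩ :
        {q : An.Pts X × An.Pts Y // An.Pts.map f q.1 = An.Pts.map g q.2})) := by
  set Ψ : An.Pts (Limits.pullback f g) →
      {q : An.Pts X × An.Pts Y // An.Pts.map f q.1 = An.Pts.map g q.2} := fun z =>
    ⟨(An.Pts.map (Limits.pullback.fst f g) z, An.Pts.map (Limits.pullback.snd f g) z),
        An.Pts.map_pullback_condition f g z⟩ with hΨ
  rw [isHomeomorph_iff_isEmbedding_surjective]
  refine ⟨⟨?_, ?_⟩, ?_⟩
  · have h1 : Topology.IsInducing (Subtype.val ∘ Ψ) := isInducing_psi f g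
    exact (Topology.IsInducing.of_comp_iff Topology.IsInducing.subtypeVal).1 h1
  · intro z z' h
    have h1 : z.1 ≫ pullback.fst f g = z'.1 ≫ pullback.fst f g :=
      congrArg (fun q => (q.1.1 : Pts X).1) h
    have h2 : z.1 ≫ pullback.snd f g = z'.1 ≫ pullback.snd f g :=
      congrArg (fun q => (q.1.2 : Pts Y).1) h
    exact Subtype.ext (pullback.hom_ext h1 h2)
  · rintro ⟨⟨x, y⟩, h⟩
    have hc : x.1 ≫ f = y.1 ≫ g := congrArg Subtype.val h
    refine ⟨⟨pullback.lift x.1 y.1 hc, ?_⟩, ?_⟩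
    · show pullback.lift x.1 y.1 hc ≫ (pullback.fst f g ≫ X ↘ SC) = 𝟙 SC
      rw [← Category.assoc, pullback.lift_fst, x.2]
    · apply Subtype.ext
      apply Prod.ext
      · exact Subtype.ext (pullback.lift_fst _ _ _)
      · exact Subtype.ext (pullback.lift_snd _ _ _)

end Groth.Agent.Lib.Helper4.AnPB
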