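import Mathlib

namespace Groth.Agent.Lib.Helper4.EtIFT
open Topology Filter

/-- The universal polynomial map `(c, ξ) ↦ ∑ j, c j * ξ ^ j`. -/
noncomputable def F (d : ℕ) (p : (Fin (d+1) → ℂ) × ℂ) : ℂ := ∑ j : Fin (d+1), p.1 j * p.2 ^ (j : ℕ)

lemma contDiff_F (d : ℕ) : ContDiff ℂ ⊤ (F d) := by
  unfold F
  fun_prop

lemma hasDerivAt_F (d : ℕ) (c : Fin (d+1) → ℂ) (ξ : ℂ) :
    HasDerivAt (fun z => F d (c, z)) (∑ j : Fin (d+1), c j * ((j : ℂ) * ξ ^ ((j : ℕ) - 1))) ξ := by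
  unfold F
  simp only
  refine HasDerivAt.fun_sum fun j _ => ?_
  exact (hasDerivAt_pow (j : ℕ) ξ).const_mul (c j)

theorem exists_root_fn (d : ℕ) (c₀ : Fin (d+1) → ℂ) (ξ₀ : ℂ)
    (h0 : F d (c₀, ξ₀) = 0)
    (h1 : ∑ j : Fin (d+1), c₀ j * ((j : ℂ) * ξ₀ ^ ((j : ℕ) - 1)) ≠ 0) :
    ∃ (N : Set (Fin (d+1) → ℂ)) (D : Set ℂ) (ρ : (Fin (d+1) → ℂ) → ℂ), IsOpen N ∧ IsOpen D ∧
      c₀ ∈ N ∧ ξ₀ ∈ D ∧ ContinuousOn ρ N ∧ (∀ c ∈ N, ρ c ∈ D) ∧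
      ∀ c ∈ N, ∀ ξ ∈ D, (F d (c, ξ) = 0 ↔ ξ = ρ c) := by
  set u : (Fin (d+1) → ℂ) × ℂ := (c₀, ξ₀) with hu
  have hF : HasStrictFDerivAt (F d) (fderiv ℂ (F d) u) u :=
    (contDiff_F d).contDiffAt.hasStrictFDerivAt (by simp)
  have hval : (fderiv ℂ (F d) u) ((0 : Fin (d+1) → ℂ), (1 : ℂ)) =
      ∑ j : Fin (d+1), c₀ j * ((j : ℂ) * ξ₀ ^ ((j : ℕ) - 1)) := by
    have hpath : HasDerivAt (fun z : ℂ => ((c₀, z) : (Fin (d+1) → ℂ) × ℂ)) (0, 1) ξ₀ :=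
      (hasDerivAt_const ξ₀ c₀).prodMk (hasDerivAt_id ξ₀)
    have h2 := hF.hasFDerivAt.comp_hasDerivAt ξ₀ hpath
    exact h2.unique (hasDerivAt_F d c₀ ξ₀)
  have hinv : ((fderiv ℂ (F d) u) ∘L (ContinuousLinearMap.inr ℂ (Fin (d+1) → ℂ) ℂ)).IsInvertible := by
    set L := (fderiv ℂ (F d) u) ∘L (ContinuousLinearMap.inr ℂ (Fin (d+1) → ℂ) ℂ) with hL
    have hL1 : L 1 ≠ 0 := by
      have : L 1 = (fderiv ℂ (F d) u) ((0 : Fin (d+1) → ℂ), (1 : ℂ)) := by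
        simp [hL]
      rw [this, hval]; exact h1
    refine ⟨ContinuousLinearEquiv.unitsEquivAut ℂ (Units.mk0 (L 1) hL1), ?_⟩
    apply ContinuousLinearMap.ext_ring
    simp
  set ψ := hF.implicitFunctionOfProdDomain hinv with hψ
  have ev1 := hF.eventually_apply_eq_iff_implicitFunctionOfProdDomain hinv
  have hψ0 : ψ c₀ = ξ₀ := (ev1.self_of_nhds).1 rfl
  have hsd := hF.hasStrictFDerivAt_implicitFunctionOfProdDomain hinv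
  obtain ⟨K, s, hs, hlip⟩ := hsd.exists_lipschitzOnWith
  have ev1' : {v : (Fin (d+1) → ℂ) × ℂ | F d v = F d u ↔ ψ v.1 = v.2} ∈ 𝓝 (c₀, ξ₀) := ev1
  obtain ⟨N₁, D, hN₁, hc₀N₁, hD, hξ₀D, hsub⟩ := mem_nhds_prod_iff'.1 ev1'
  have hcont : ContinuousOn ψ (interior s) := hlip.continuousOn.mono interior_subset
  have hopen : IsOpen (interior s ∩ ψ ⁻¹' D) := hcont.isOpen_inter_preimage isOpen_interior hD
  refine ⟨N₁ ∩ (interior s ∩ ψ ⁻¹' D), D, ψ, hN₁.inter hopen, hD,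
    ⟨hc₀N₁, mem_interior_iff_mem_nhds.2 hs, ?_⟩, hξ₀D, hcont.mono (fun c hc => hc.2.1),
    fun c hc => hc.2.2, ?_⟩
  · show ψ c₀ ∈ D
    rw [hψ0]; exact hξ₀D
  · intro c hc ξ hξ
    have := hsub (Set.mk_mem_prod hc.1 hξ)
    simp only [Set.mem_ofPred_eq] at this
    rw [h0] at this
    rw [this]
    exact eq_comm

end Groth.Agent.Lib.Helper4.EtIFT
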