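import Mathlib
import Groth.Agent.Lib.Helper4.AnGen
import Groth.Agent.Lib.Helper4.EtIFT

namespace Groth.Agent.Lib.Helper4.EtStd
open AlgebraicGeometry CategoryTheory TopologicalSpace Opposite An Topology Polynomial
open Groth.Agent.Lib.Helper4.AnEv Groth.Agent.Lib.Helper4.AnGen Groth.Agent.Lib.Helper4.EtIFT

/-- Concrete "standard étale" data for a ring map, phrased through `ℂ`-valued characters. -/
structure StdEt {R S : Type} [CommRing R] [CommRing S] (φ : R →+* S) (f g : R[X]) (t : S) :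
    Prop where
  hf : (f.map φ).eval t = 0
  hg : IsUnit ((g.map φ).eval t)
  hf' : IsUnit ((f.derivative.map φ).eval t)
  uniq : ∀ ψ₁ ψ₂ : S →+* ℂ, ψ₁.comp φ = ψ₂.comp φ → ψ₁ t = ψ₂ t → ψ₁ = ψ₂
  exist : ∀ (χ : R →+* ℂ) (ξ : ℂ), (f.map χ).eval ξ = 0 → (g.map χ).eval ξ ≠ 0 →
    ∃ ψ : S →+* ℂ, ψ.comp φ = χ ∧ ψ t = ξ
  frac : ∀ s : S, ∃ (p : R[X]) (n : ℕ), s * ((g.map φ).eval t) ^ n = (p.map φ).eval t

theorem exists_stdEt {R S : Type} [CommRing R] [CommRing S] [Algebra R S]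
    [Algebra.IsStandardEtale R S] : ∃ f g t, StdEt (algebraMap R S) f g t := by
  obtain ⟨P⟩ := Algebra.IsStandardEtale.nonempty_standardEtalePresentation (R := R) (S := S)
  refine ⟨P.f, P.g, P.x, ?_⟩
  have key : ∀ p : R[X], (p.map (algebraMap R S)).eval P.x = aeval P.x p := fun p => by
    rw [Polynomial.eval_map, aeval_def]
  constructor
  · rw [key]; exact P.hasMap.1
  · rw [key]; exact P.hasMap.2
  · rw [key]; exact P.hasMap.isUnit_derivative_f
  · intro ψ₁ ψ₂ h12 ht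
    letI : Algebra R ℂ := (ψ₁.comp (algebraMap R S)).toAlgebra
    let a₁ : S →ₐ[R] ℂ := { ψ₁ with commutes' := fun r => rfl }
    have hc : ∀ r : R, ψ₂ (algebraMap R S r) = ψ₁ (algebraMap R S r) := fun r =>
      (RingHom.congr_fun h12 r).symm
    let a₂ : S →ₐ[R] ℂ := { ψ₂ with commutes' := hc }
    have h : a₁ = a₂ := P.hom_ext ht
    ext s
    exact DFunLike.congr_fun h s
  · intro χ ξ h0 h1
    letI : Algebra R ℂ := χ.toAlgebra
    have hm : P.P.HasMap ξ :=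
      ⟨by rw [aeval_def, ← Polynomial.eval_map]; exact h0,
        by rw [aeval_def, ← Polynomial.eval_map]; exact isUnit_iff_ne_zero.2 h1⟩
    let a : S →ₐ[R] ℂ := (P.P.lift ξ hm).comp P.equivRing.toAlgHom
    refine ⟨a.toRingHom, ?_, ?_⟩
    · ext r; exact a.commutes r
    · show P.P.lift ξ hm (P.equivRing P.x) = ξ
      rw [P.equivRing_x, P.P.lift_X]
  · intro s
    obtain ⟨p, n, hpn⟩ := P.exists_mul_aeval_x_g_pow_eq_aeval_x s
    exact ⟨p, n, by rw [key, key]; exact hpn⟩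


variable {X Y : Scheme.{0}} [X.Over SC] [Y.Over SC]

lemma strHom_comp (h : X ⟶ Y) [h.IsOver SC] : h.appTop.hom.comp (strHom Y) = strHom X := by
  unfold strHom
  rw [← RingHom.comp_assoc, ← CommRingCat.hom_comp, ← Scheme.Hom.comp_appTop, comp_over]

/-- The character of a `ℂ`-point. -/
noncomputable abbrev chi (y : Pts Y) : Γ(Y, ⊤) →+* ℂ := evHom y ⊤ (Opens.mem_top _)

lemma chi_apply (y : Pts Y) (r : Γ(Y, ⊤)) : chi y r = y.evTop r := rfl

lemma chi_map (h : X ⟶ Y) [h.IsOver SC] (x : Pts X) :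
    (chi x).comp h.appTop.hom = chi (Pts.map h x) := by
  ext r
  show x.evTop (h.appTop r) = (Pts.map h x).evTop r
  exact (Pts.ev_map h x ⊤ (Opens.mem_top _) r).symm

/-- Evaluate a polynomial with coefficients in `Γ(Y, ⊤)` at a pair (point, complex number). -/
noncomputable def pe (p : Γ(Y, ⊤)[X]) (w : Pts Y × ℂ) : ℂ := (p.map (chi w.1)).eval w.2

lemma pe_eq_sum (p : Γ(Y, ⊤)[X]) (w : Pts Y × ℂ) :
    pe p w = ∑ i ∈ Finset.range (p.natDegree + 1), (chi w.1) (p.coeff i) * w.2 ^ i := by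
  simp only [pe, Polynomial.eval_map, eval₂_eq_sum_range]

lemma continuous_pe (p : Γ(Y, ⊤)[X]) : Continuous (pe p) := by
  have : pe p = fun w => ∑ i ∈ Finset.range (p.natDegree + 1), (chi w.1) (p.coeff i) * w.2 ^ i :=
    funext fun w => pe_eq_sum p w
  rw [this]
  refine continuous_finsetSum _ fun i _ => ?_
  exact ((continuous_evTop (p.coeff i)).comp continuous_fst).mul (continuous_snd.pow i)

section T1
variable [IsAffine X] [IsAffine Y] (h : X ⟶ Y) [h.IsOver SC]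

/-- The chart `x ↦ (h x, t(x))`. -/
noncomputable def Psi (t : Γ(X, ⊤)) (x : Pts X) : Pts Y × ℂ := (Pts.map h x, x.evTop t)

lemma continuous_Psi (t : Γ(X, ⊤)) : Continuous (Psi h t) :=
  (Pts.continuous_map h).prodMk (continuous_evTop t)

lemma evTop_eval_map (t : Γ(X, ⊤)) (x : Pts X) (p : Γ(Y, ⊤)[X]) :
    x.evTop ((p.map h.appTop.hom).eval t) = pe p (Psi h t x) := by
  unfold pe Psi
  rw [← chi_map h x]
  show chi x _ = _
  rw [Polynomial.eval_map, Polynomial.eval_map, Polynomial.hom_eval₂]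
  rfl

variable {f g : Γ(Y, ⊤)[X]} {t : Γ(X, ⊤)} (H : StdEt h.appTop.hom f g t)
include H

lemma pe_f_Psi (x : Pts X) : pe f (Psi h t x) = 0 := by
  rw [← evTop_eval_map, H.hf]; exact ev_zero x ⊤ _

lemma pe_g_Psi (x : Pts X) : pe g (Psi h t x) ≠ 0 := by
  rw [← evTop_eval_map]
  exact (H.hg.map (chi x)).ne_zero

lemma pe_f'_Psi (x : Pts X) : pe f.derivative (Psi h t x) ≠ 0 := by
  rw [← evTop_eval_map]
  exact (H.hf'.map (chi x)).ne_zero

lemma Psi_injective : Function.Injective (Psi h t) := by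
  intro x₁ x₂ h12
  have e1 : Pts.map h x₁ = Pts.map h x₂ := congrArg Prod.fst h12
  have e2 : x₁.evTop t = x₂.evTop t := congrArg Prod.snd h12
  have : chi x₁ = chi x₂ := by
    refine H.uniq _ _ ?_ e2
    rw [chi_map, chi_map, e1]
  exact ext_of_evTop x₁ x₂ fun r => RingHom.congr_fun this r

lemma exists_Psi_eq (w : Pts Y × ℂ) (h0 : pe f w = 0) (h1 : pe g w ≠ 0) :
    ∃ x : Pts X, Psi h t x = w := by
  obtain ⟨y, ξ⟩ := w
  obtain ⟨ψ, hψ, hψt⟩ := H.exist (chi y) ξ h0 h1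
  have hstr : ∀ c, ψ (strHom X c) = c := fun c => by
    rw [← strHom_comp h]
    show (ψ.comp h.appTop.hom) (strHom Y c) = c
    rw [hψ]
    exact evTop_strHom y c
  obtain ⟨x, hx⟩ := exists_pt_of_ringHom ψ hstr
  refine ⟨x, Prod.ext ?_ ?_⟩
  · refine ext_of_evTop _ _ fun r => ?_
    show chi (Pts.map h x) r = chi y r
    rw [← chi_map, ← hψ]
    exact hx _
  · show x.evTop t = ξ
    rw [hx, hψt]

lemma isInducing_Psi : IsInducing (Psi h t) := by
  refine isInducing_of_factorsOn (Psi h t) (continuous_Psi h t) fun x₀ => ?_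
  refine ⟨⊤, {w | pe g w ≠ 0}, isAffineOpen_top X, Opens.mem_top _,
    isOpen_ne_fun (continuous_pe g) continuous_const, ?_, fun e => ?_⟩
  · ext x
    simp only [Set.mem_preimage, Set.mem_ofPred_eq, Opens.coe_top, Set.mem_univ, iff_true]
    exact pe_g_Psi h H x
  · obtain ⟨p, n, hpn⟩ := H.frac e
    refine ⟨fun w => pe p w / (pe g w) ^ n, ?_, fun x hx => ?_⟩
    · exact (continuous_pe p).continuousOn.div ((continuous_pe g).pow n).continuousOn
        fun w hw => pow_ne_zero _ hw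
    · have h1 : x.evTop e * x.evTop ((g.map h.appTop.hom).eval t) ^ n =
          x.evTop ((p.map h.appTop.hom).eval t) := by
        rw [← ev_pow, ← ev_mul, hpn]
      rw [evTop_eval_map, evTop_eval_map] at h1
      show x.evTop e = pe p (Psi h t x) / pe g (Psi h t x) ^ n
      rw [← h1]
      exact (mul_div_cancel_right₀ _ (pow_ne_zero _ (pe_g_Psi h H x))).symm


lemma F_eq_pe (y : Pts Y) (ξ : ℂ) :
    F f.natDegree ((fun j : Fin (f.natDegree + 1) => chi y (f.coeff j)), ξ) = pe f (y, ξ) := by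
  rw [pe_eq_sum]
  unfold F
  exact Fin.sum_univ_eq_sum_range (fun i => chi y (f.coeff i) * ξ ^ i) (f.natDegree + 1)

lemma deriv_sum_eq_pe (y : Pts Y) (ξ : ℂ) :
    ∑ j : Fin (f.natDegree + 1), chi y (f.coeff j) * ((j : ℂ) * ξ ^ ((j : ℕ) - 1)) =
      pe f.derivative (y, ξ) := by
  have h1 := hasDerivAt_F f.natDegree (fun j : Fin (f.natDegree + 1) => chi y (f.coeff j)) ξ
  have h2 : (fun z => F f.natDegree ((fun j : Fin (f.natDegree + 1) => chi y (f.coeff j)), z)) =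
      fun z => (f.map (chi y)).eval z := by
    funext z
    rw [F_eq_pe h H]; rfl
  rw [h2] at h1
  have h3 := (f.map (chi y)).hasDerivAt ξ
  rw [h1.unique h3, Polynomial.derivative_map]
  rfl

theorem isLocalHomeomorph_of_stdEt : IsLocalHomeomorph (Pts.map h) := by
  classical
  refine IsLocalHomeomorph.mk _ fun x₀ => ?_
  set d := f.natDegree with hd
  set cf : Pts Y → Fin (d + 1) → ℂ := fun y j => chi y (f.coeff j) with hcfdef
  have hcf : Continuous cf := continuous_pi fun j => continuous_evTop _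
  have hF : ∀ y ξ, F d (cf y, ξ) = pe f (y, ξ) := fun y ξ => F_eq_pe h H y ξ
  set y₀ := Pts.map h x₀ with hy₀
  set ξ₀ := x₀.evTop t with hξ₀
  have h0 : F d (cf y₀, ξ₀) = 0 := by rw [hF]; exact pe_f_Psi h H x₀
  have h1 : ∑ j : Fin (d + 1), cf y₀ j * ((j : ℂ) * ξ₀ ^ ((j : ℕ) - 1)) ≠ 0 := by
    rw [deriv_sum_eq_pe h H y₀ ξ₀]; exact pe_f'_Psi h H x₀
  obtain ⟨N, D, ρ, hN, hD, hc₀, hξ₀D, hρ, hρD, hiff⟩ := exists_root_fn d (cf y₀) ξ₀ h0 h1
  set OY : Set (Pts Y) := {y | cf y ∈ N ∧ pe g (y, ρ (cf y)) ≠ 0} with hOYdef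
  have hsecC : ContinuousOn (fun y => ((y, ρ (cf y)) : Pts Y × ℂ)) (cf ⁻¹' N) :=
    continuousOn_id.prodMk (hρ.comp hcf.continuousOn (fun y hy => hy))
  have hOY : IsOpen OY := by
    have h1 : IsOpen (cf ⁻¹' N) := hN.preimage hcf
    have h2 : ContinuousOn (fun y => pe g (y, ρ (cf y))) (cf ⁻¹' N) :=
      (continuous_pe g).comp_continuousOn hsecC
    exact h2.isOpen_inter_preimage h1 isOpen_compl_singleton
  have hsec : ∀ y ∈ OY, ∃ x, Psi h t x = (y, ρ (cf y)) := fun y hy => by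
    refine exists_Psi_eq h H _ ?_ hy.2
    rw [← hF]
    exact (hiff _ hy.1 _ (hρD _ hy.1)).2 rfl
  set σ : Pts Y → Pts X := fun y => if hy : y ∈ OY then (hsec y hy).choose else x₀ with hσdef
  have hσ : ∀ y (hy : y ∈ OY), Psi h t (σ y) = (y, ρ (cf y)) := fun y hy => by
    simp only [hσdef, dif_pos hy]
    exact (hsec y hy).choose_spec
  set E : Set (Pts X) := Psi h t ⁻¹' ((cf ⁻¹' N) ×ˢ D) with hEdef
  have hEroot : ∀ x ∈ E, x.evTop t = ρ (cf (Pts.map h x)) := fun x hx => by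
    have hx' : cf (Pts.map h x) ∈ N ∧ x.evTop t ∈ D := hx
    refine (hiff _ hx'.1 _ hx'.2).1 ?_
    rw [hF]
    exact pe_f_Psi h H x
  have hsrc : ∀ x ∈ E, Pts.map h x ∈ OY := fun x hx => by
    have hx' : cf (Pts.map h x) ∈ N ∧ x.evTop t ∈ D := hx
    refine ⟨hx'.1, ?_⟩
    rw [← hEroot x hx]
    exact pe_g_Psi h H x
  refine ⟨⟨⟨⟨Pts.map h, σ, E, OY, hsrc, ?_, ?_, ?_⟩,
    (Pts.continuous_map h).continuousOn, ?_⟩, ?_, hOY⟩, ?_, fun _ _ => rfl⟩
  · intro y hy
    show Psi h t (σ y) ∈ (cf ⁻¹' N) ×ˢ D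
    rw [hσ y hy]
    exact ⟨hy.1, hρD _ hy.1⟩
  · intro x hx
    apply Psi_injective h H
    rw [hσ _ (hsrc x hx), ← hEroot x hx]
    rfl
  · intro y hy
    exact congrArg Prod.fst (hσ y hy)
  · rw [(isInducing_Psi h H).continuousOn_iff]
    refine (hsecC.mono fun y hy => hy.1).congr fun y hy => ?_
    exact hσ y hy
  · exact ((hN.preimage hcf).prod hD).preimage (continuous_Psi h t)
  · exact ⟨hc₀, hξ₀D⟩

end T1

end Groth.Agent.Lib.Helper4.EtStd
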