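import Mathlib
import Groth.Agent.Lib.Helper4.AnOpen
import Groth.Agent.Lib.Helper4.AnPB
import Groth.Agent.Lib.Helper4.EtStd

namespace Groth.Agent.Lib.Helper4.EtLH
open AlgebraicGeometry CategoryTheory TopologicalSpace Opposite An Topology Polynomial
open Groth.Agent.Lib.Helper4.AnEv Groth.Agent.Lib.Helper4.AnGen Groth.Agent.Lib.Helper4.EtStd
open Groth.Agent.Lib.Helper4.AnOpen

variable {X' X Y : Scheme.{0}} [X'.Over SC] [X.Over SC] [Y.Over SC]

/-- Transport of local homeomorphy along an open immersion at the source. -/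
lemma isLocalHomeomorphOn_of_comp (j : X' ⟶ X) [j.IsOver SC] [IsOpenImmersion j]
    (h : X ⟶ Y) [h.IsOver SC] (H : IsLocalHomeomorph (Pts.map h ∘ Pts.map j)) (x₀ : Pts X)
    (hx₀ : x₀.pt ∈ Set.range j) : IsLocalHomeomorphOn (Pts.map h) {x₀} := by
  have h1 : IsLocalHomeomorphOn (Pts.map h ∘ Pts.map j) Set.univ := H.isLocalHomeomorphOn
  have h2 : IsLocalHomeomorphOn (Pts.map j) Set.univ :=
    (main4196 j).isLocalHomeomorph.isLocalHomeomorphOn
  have h3 := IsLocalHomeomorphOn.of_comp_right h1 h2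
  refine h3.mono ?_
  obtain ⟨x', rfl⟩ := exists_lift_of_isOpenImmersion j x₀ hx₀
  rintro _ rfl
  exact ⟨x', Set.mem_univ _, rfl⟩

theorem isLocalHomeomorph_of_etale_of_isAffine [IsAffine X] [IsAffine Y] (h : X ⟶ Y)
    [h.IsOver SC] [Etale h] : IsLocalHomeomorph (Pts.map h) := by
  rw [isLocalHomeomorph_iff_isLocalHomeomorphOn_univ]
  intro x₀ _
  have hφ : h.appTop.hom.Etale := (HasRingHomProperty.iff_of_isAffine (P := @Etale)).1 inferInstance
  algebraize [h.appTop.hom]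
  set Q : Ideal Γ(X, ⊤) := RingHom.ker (chi x₀) with hQ
  haveI : Q.IsPrime := RingHom.ker_isPrime _
  haveI : Algebra.IsEtaleAt Γ(Y, ⊤) Q := by
    have := (Algebra.etaleLocus_eq_univ_iff_etale (R := Γ(Y, ⊤)) (A := Γ(X, ⊤))).2 inferInstance
    have h2 : (⟨Q, inferInstance⟩ : PrimeSpectrum Γ(X, ⊤)) ∈ Algebra.etaleLocus Γ(Y, ⊤) Γ(X, ⊤) := by
      rw [this]; trivial
    exact h2
  obtain ⟨a, haQ, hstd⟩ := Algebra.IsEtaleAt.exists_isStandardEtale (R := Γ(Y, ⊤)) Q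
  set U : X.Opens := X.basicOpen a with hU
  have hx₀U : x₀.pt ∈ U := by
    rw [hU, mem_basicOpen_iff x₀ ⊤ (Opens.mem_top _) a]
    intro h0
    exact haQ h0
  haveI : IsAffine U.toScheme := (isAffineOpen_top X).basicOpen a
  -- the algebra structures
  letI alg : Algebra Γ(Y, ⊤) Γ(U, ⊤) := (U.ι ≫ h).appTop.hom.toAlgebra
  haveI : IsScalarTower Γ(Y, ⊤) Γ(X, ⊤) Γ(U, ⊤) := by
    refine IsScalarTower.of_algebraMap_eq' ?_
    simp only [RingHom.algebraMap_toAlgebra]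
    rw [Scheme.Hom.comp_appTop, CommRingCat.hom_comp]
  haveI : IsLocalization.Away a Γ(U, ⊤) := Γ_restrict_isLocalization X a
  let e : Localization.Away a ≃ₐ[Γ(X, ⊤)] Γ(U, ⊤) :=
    IsLocalization.algEquiv (Submonoid.powers a) _ _
  haveI : Algebra.IsStandardEtale Γ(Y, ⊤) Γ(U, ⊤) :=
    Algebra.IsStandardEtale.of_equiv (e.restrictScalars Γ(Y, ⊤))
  obtain ⟨f, g, t, H⟩ := exists_stdEt (R := Γ(Y, ⊤)) (S := Γ(U, ⊤))
  have H' : StdEt (U.ι ≫ h).appTop.hom f g t := H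
  have h1 := isLocalHomeomorph_of_stdEt (U.ι ≫ h) H'
  have h2 : Pts.map (U.ι ≫ h) = Pts.map h ∘ Pts.map U.ι := funext fun x => Pts.map_comp _ _ x
  rw [h2] at h1
  exact isLocalHomeomorphOn_of_comp U.ι h h1 x₀ (by simpa using hx₀U) x₀ rfl

theorem isLocalHomeomorph_of_etale (g : X ⟶ Y) [g.IsOver SC] [Etale g] :
    IsLocalHomeomorph (Pts.map g) := by
  rw [isLocalHomeomorph_iff_isLocalHomeomorphOn_univ]
  intro x₀ _
  obtain ⟨V, hV, hxV⟩ := Groth.Agent.Lib.Helper4.AnPB.exists_affineOpen_mem_le Y (g x₀.pt) ⊤ trivial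
  obtain ⟨U, hU, hxU, hUV⟩ :=
    Groth.Agent.Lib.Helper4.AnPB.exists_affineOpen_mem_le X x₀.pt (g ⁻¹ᵁ V) hxV.1
  haveI : IsAffine U.toScheme := hU
  haveI : IsAffine V.toScheme := hV
  haveI : (g.resLE V U hUV).IsOver SC := ⟨by
    show g.resLE V U hUV ≫ V.ι ≫ (Y ↘ SC) = U.ι ≫ (X ↘ SC)
    rw [← Category.assoc, Scheme.Hom.resLE_comp_ι, Category.assoc, comp_over]⟩
  have h1 := isLocalHomeomorph_of_etale_of_isAffine (g.resLE V U hUV)
  have h2 : IsLocalHomeomorph (Pts.map V.ι) := (main4196 V.ι).isLocalHomeomorph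
  have h3 : Pts.map g ∘ Pts.map U.ι = Pts.map V.ι ∘ Pts.map (g.resLE V U hUV) := by
    funext x
    apply Subtype.ext
    show (x.1 ≫ U.ι) ≫ g = (x.1 ≫ g.resLE V U hUV) ≫ V.ι
    rw [Category.assoc, Category.assoc, Scheme.Hom.resLE_comp_ι]
  have h4 : IsLocalHomeomorph (Pts.map g ∘ Pts.map U.ι) := by
    rw [h3]; exact h2.comp h1
  exact isLocalHomeomorphOn_of_comp U.ι g h4 x₀ (by simpa using hxU) x₀ rfl

end Groth.Agent.Lib.Helper4.EtLH
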