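import Mathlib
import Groth.Agent.Lib.Helper4.AnLC
import Groth.Agent.Lib.Helper4.DensA2
import Groth.Agent.Lib.Helper4.EtStd
import Groth.Agent.Lib.Helper4.EtLH

namespace Groth.Agent.Lib.Helper4.FinProper
open AlgebraicGeometry CategoryTheory TopologicalSpace Opposite An Topology Polynomial
open Groth.Agent.Lib.Helper4.AnEv Groth.Agent.Lib.Helper4.AnGen Groth.Agent.Lib.Helper4.EtStd
open Groth.Agent.Lib.Helper4.AnLC

variable {X Y : Scheme.{0}} [X.Over SC] [Y.Over SC]

/-- All global sections as coordinates: a closed embedding of the points of an affine scheme. -/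
theorem isClosedEmbedding_all [IsAffine X] :
    IsClosedEmbedding (fun (x : Pts X) (r : Γ(X, ⊤)) => x.evTop r) := by
  refine isClosedEmbedding_of_generators (fun r : Γ(X, ⊤) => r) fun r => ?_
  exact ⟨MvPolynomial.X r, by simp⟩

theorem t2Space_of_isAffine [IsAffine X] : T2Space (Pts X) :=
  (isClosedEmbedding_all (X := X)).isEmbedding.t2Space

/-- Root bound, uniformly on a compact set. -/
lemma exists_bound [IsAffine X] [IsAffine Y] (f : X ⟶ Y) [f.IsOver SC]
    (hint : f.appTop.hom.IsIntegral) {K : Set (Pts Y)} (hK : IsCompact K) (r : Γ(X, ⊤)) :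
    ∃ M : ℝ, ∀ x : Pts X, Pts.map f x ∈ K → ‖x.evTop r‖ ≤ M := by
  obtain ⟨p, hp, hpr⟩ := hint r
  set β : Pts Y → ℝ := fun y => (∑ j ∈ Finset.range p.natDegree, ‖y.evTop (p.coeff j)‖) + 1
    with hβ
  have hβc : Continuous β := by
    refine (continuous_finsetSum _ fun j _ => ?_).add continuous_const
    exact (continuous_evTop (p.coeff j)).norm
  obtain ⟨M, hM⟩ := hK.exists_bound_of_continuousOn hβc.continuousOn
  refine ⟨M, fun x hx => ?_⟩
  set y := Pts.map f x with hy
  have hq : (p.map (chi y)).Monic := hp.map _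
  have hroot : (p.map (chi y)).IsRoot (x.evTop r) := by
    have h1 := evTop_eval_map f r x p
    rw [Polynomial.eval_map, hpr] at h1
    have h2 : x.evTop (0 : Γ(X, ⊤)) = 0 := ev_zero x ⊤ _
    rw [h2] at h1
    exact h1.symm
  have h3 := Groth.Agent.Lib.Helper4.DensA2.norm_root_lt _ hq _ hroot
  rw [hp.natDegree_map] at h3
  have h4 : ∀ j, (p.map (chi y)).coeff j = y.evTop (p.coeff j) := fun j => by
    rw [Polynomial.coeff_map]; rfl
  simp only [h4] at h3
  have h5 := hM y hx
  have h6 : β y ≤ M := le_trans (le_abs_self _) (by simpa using h5)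
  exact le_trans h3.le h6

theorem isCompact_preimage [IsAffine X] [IsAffine Y] (f : X ⟶ Y) [f.IsOver SC]
    (hint : f.appTop.hom.IsIntegral) {K : Set (Pts Y)} (hK : IsCompact K) :
    IsCompact (Pts.map f ⁻¹' K) := by
  haveI := t2Space_of_isAffine (X := Y)
  have hΦ := isClosedEmbedding_all (X := X)
  set Φ : Pts X → (Γ(X, ⊤) → ℂ) := fun x r => x.evTop r with hΦdef
  choose M hM using fun r => exists_bound f hint hK r
  have hcl : IsClosed (Pts.map f ⁻¹' K) := hK.isClosed.preimage (Pts.continuous_map f)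
  have h1 : IsClosed (Φ '' (Pts.map f ⁻¹' K)) := hΦ.isClosedMap _ hcl
  have h2 : Φ '' (Pts.map f ⁻¹' K) ⊆ Set.pi Set.univ fun r => Metric.closedBall (0 : ℂ) (M r) := by
    rintro _ ⟨x, hx, rfl⟩ r -
    simp only [Metric.mem_closedBall, dist_zero_right]
    exact hM r x hx
  have h3 : IsCompact (Set.pi Set.univ fun r : Γ(X, ⊤) => Metric.closedBall (0 : ℂ) (M r)) :=
    isCompact_univ_pi fun r => isCompact_closedBall _ _
  have h4 : IsCompact (Φ '' (Pts.map f ⁻¹' K)) := h3.of_isClosed_subset h1 h2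
  exact hΦ.isInducing.isCompact_iff.2 h4

theorem isProperMap_of_integral [IsAffine X] [IsAffine Y] [LocallyOfFiniteType (Y ↘ SC)]
    (f : X ⟶ Y) [f.IsOver SC] (hint : f.appTop.hom.IsIntegral) : IsProperMap (Pts.map f) := by
  haveI := t2Space_of_isAffine (X := Y)
  haveI := locallyCompactSpace_of_isAffine Y
  rw [isProperMap_iff_isCompact_preimage]
  exact ⟨Pts.continuous_map f, fun K hK => isCompact_preimage f hint hK⟩


open Groth.Agent.Lib.Helper4.AnOpen Groth.Agent.Lib.Helper4.EtLH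

theorem isCoveringMap_of_isAffine [IsAffine Y] [LocallyOfFiniteType (Y ↘ SC)] (f : X ⟶ Y)
    [f.IsOver SC] [IsFinite f] [Etale f] :
    IsCoveringMap (Pts.map f) ∧ ∀ y, (Pts.map f ⁻¹' {y}).Finite := by
  haveI : IsAffine X := isAffine_of_isAffineHom f
  haveI := t2Space_of_isAffine (X := X)
  have hint : f.appTop.hom.IsIntegral := f.finite_appTop.to_isIntegral
  have hprop := isProperMap_of_integral f hint
  have hLH : IsLocalHomeomorph (Pts.map f) := isLocalHomeomorph_of_etale f
  have hfin : ∀ y, (Pts.map f ⁻¹' {y}).Finite := fun y => by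
    refine (hprop.isCompact_preimage isCompact_singleton).finite ?_
    refine IsDiscrete.of_openPartialHomeomorph (Pts.map f) subset_rfl fun e _ => ?_
    obtain ⟨φ, hφ, h⟩ := hLH e
    exact ⟨φ, hφ, h.symm⟩
  refine ⟨?_, hfin⟩
  rw [isCoveringMap_iff_isCoveringMapOn_univ]
  refine hprop.isClosedMap.isCoveringMapOn_of_isLocalHomeomorphOn (fun y _ => hfin y) ?_
  rw [Set.preimage_univ]
  exact hLH.isLocalHomeomorphOn

theorem main4206 [LocallyOfFiniteType (Y ↘ SC)] (f : X ⟶ Y)
    [f.IsOver SC] [IsFinite f] [Etale f] :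
    IsCoveringMap (Pts.map f) ∧ ∀ y, (Pts.map f ⁻¹' {y}).Finite := by
  have key : ∀ y₀ : Pts Y, IsEvenlyCovered (Pts.map f) y₀ (Pts.map f ⁻¹' {y₀}) ∧
      (Pts.map f ⁻¹' {y₀}).Finite := by
    intro y₀
    obtain ⟨V, hV, hyV⟩ := exists_affineOpen_mem Y y₀.pt
    haveI : IsAffine V.toScheme := hV
    haveI : LocallyOfFiniteType (V.toScheme ↘ SC) :=
      inferInstanceAs (LocallyOfFiniteType (V.ι ≫ Y ↘ SC))
    set U : X.Opens := f ⁻¹ᵁ V with hU
    haveI : (f ∣_ V).IsOver SC := ⟨by
      show (f ∣_ V) ≫ V.ι ≫ (Y ↘ SC) = U.ι ≫ (X ↘ SC)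
      rw [morphismRestrict_ι_assoc, comp_over]⟩
    obtain ⟨hcov, hfin⟩ := isCoveringMap_of_isAffine (f ∣_ V)
    have hsq : ∀ x' : Pts U.toScheme,
        Pts.map f (Pts.map U.ι x') = Pts.map V.ι (Pts.map (f ∣_ V) x') := fun x' => by
      apply Subtype.ext
      show (x'.1 ≫ U.ι) ≫ f = (x'.1 ≫ (f ∣_ V)) ≫ V.ι
      rw [Category.assoc, Category.assoc, morphismRestrict_ι]
    have embV := main4196 V.ι
    have embU := main4196 U.ι
    set s : Set (Pts Y) := Set.range (Pts.map V.ι) with hs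
    have hsopen : IsOpen s := embV.isOpen_range
    have hpre : Pts.map f ⁻¹' s = Set.range (Pts.map U.ι) := by
      rw [hs, range_map_of_isOpenImmersion, range_map_of_isOpenImmersion]
      ext x
      simp only [Set.mem_preimage, Scheme.Opens.range_ι, SetLike.mem_coe, Pts.pt_map]
      rfl
    have hy₀s : y₀ ∈ s := by
      rw [hs, range_map_of_isOpenImmersion]
      simpa using hyV
    let eV : Pts V.toScheme ≃ₜ s := embV.isEmbedding.toHomeomorph
    let eU : Pts U.toScheme ≃ₜ (Pts.map f ⁻¹' s) :=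
      embU.isEmbedding.toHomeomorph.trans (Homeomorph.setCongr hpre.symm)
    have hcomm : s.restrictPreimage (Pts.map f) ∘ eU = eV ∘ Pts.map (f ∣_ V) := by
      funext x'
      apply Subtype.ext
      exact hsq x'
    have h1 : IsCoveringMap (s.restrictPreimage (Pts.map f)) := by
      rw [← IsCoveringMap.comp_homeomorph_iff eU, hcomm]
      exact hcov.homeomorph_comp eV
    have h2 : IsCoveringMapOn (Pts.map f) s :=
      IsCoveringMapOn.of_isCoveringMap_restrictPreimage _ hsopen
        (hsopen.preimage (Pts.continuous_map f)) h1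
    refine ⟨h2 y₀ hy₀s, ?_⟩
    obtain ⟨y', rfl⟩ := hy₀s
    refine ((hfin y').image (Pts.map U.ι)).subset ?_
    intro x hx
    have hx' : x ∈ Pts.map f ⁻¹' s := by
      show Pts.map f x ∈ s
      rw [hx]; exact ⟨y', rfl⟩
    rw [hpre] at hx'
    obtain ⟨x', rfl⟩ := hx'
    refine ⟨x', ?_, rfl⟩
    apply embV.injective
    rw [← hsq]; exact hx
  exact ⟨fun y₀ => (key y₀).1, fun y₀ => (key y₀).2⟩

end Groth.Agent.Lib.Helper4.FinProper
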