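import Mathlib

namespace Groth.Agent.Lib.Helper4.LieOver
open Polynomial

/-- Lying over for points: a root of the minimal polynomial comes from a `ℂ`-point. -/
theorem exists_algHom_of_root (B : Type) [CommRing B] [Algebra ℂ B] [Algebra.FiniteType ℂ B]
    {n : ℕ} (g : MvPolynomial (Fin n) ℂ →ₐ[ℂ] B) (hint : g.toRingHom.IsIntegral) (t : B)
    (P : (MvPolynomial (Fin n) ℂ)[X])
    (hdvd : ∀ q : (MvPolynomial (Fin n) ℂ)[X], q.eval₂ g.toRingHom t = 0 → P ∣ q)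
    (v : Fin n → ℂ) (τ : ℂ) (hroot : (P.map (MvPolynomial.eval v)).eval τ = 0) :
    ∃ ψ : B →ₐ[ℂ] ℂ, (∀ r, ψ (g r) = MvPolynomial.eval v r) ∧ ψ t = τ := by
  set θ : (MvPolynomial (Fin n) ℂ)[X] →+* B := Polynomial.eval₂RingHom g.toRingHom t with hθ
  set ε : (MvPolynomial (Fin n) ℂ)[X] →+* ℂ :=
    Polynomial.eval₂RingHom (MvPolynomial.eval v) τ with hε
  have hεC : ∀ c : ℂ, ε (C (MvPolynomial.C c)) = c := fun c => by simp [hε]
  have hθC : ∀ c : ℂ, θ (C (MvPolynomial.C c)) = algebraMap ℂ B c := fun c => by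
    simp only [hθ, Polynomial.coe_eval₂RingHom, eval₂_C]
    exact g.commutes c
  have hεsurj : Function.Surjective ε := fun c => ⟨C (MvPolynomial.C c), hεC c⟩
  haveI hmax : (RingHom.ker ε).IsMaximal := RingHom.ker_isMaximal_of_surjective ε hεsurj
  have hker : RingHom.ker θ ≤ RingHom.ker ε := by
    intro q hq
    obtain ⟨q', rfl⟩ := hdvd q hq
    rw [RingHom.mem_ker, map_mul]
    have : ε P = 0 := by
      rw [← hroot, Polynomial.eval_map]
      rfl
    rw [this, zero_mul]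
  letI : Algebra (MvPolynomial (Fin n) ℂ)[X] B := θ.toAlgebra
  haveI : Algebra.IsIntegral (MvPolynomial (Fin n) ℂ)[X] B := by
    rw [Algebra.isIntegral_def]
    show θ.IsIntegral
    refine RingHom.IsIntegral.tower_top (C : MvPolynomial (Fin n) ℂ →+* _) θ ?_
    have : θ.comp C = g.toRingHom := by
      ext <;> simp [hθ]
    rw [this]
    exact hint
  obtain ⟨Q, hQmax, hQ⟩ := Ideal.exists_ideal_over_maximal_of_isIntegral
    (S := B) (RingHom.ker ε) hker
  letI := Ideal.Quotient.field Q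
  haveI : Algebra.FiniteType ℂ (B ⧸ Q) :=
    Algebra.FiniteType.of_surjective (Ideal.Quotient.mkₐ ℂ Q) (Ideal.Quotient.mkₐ_surjective ℂ Q)
  haveI : Module.Finite ℂ (B ⧸ Q) := finite_of_finite_type_of_isJacobsonRing ℂ (B ⧸ Q)
  haveI : Algebra.IsIntegral ℂ (B ⧸ Q) := Algebra.IsIntegral.of_finite ℂ (B ⧸ Q)
  have hbij : Function.Bijective (algebraMap ℂ (B ⧸ Q)) :=
    IsAlgClosed.algebraMap_bijective_of_isIntegral
  let e : ℂ ≃ₐ[ℂ] (B ⧸ Q) := AlgEquiv.ofBijective (Algebra.ofId ℂ (B ⧸ Q)) hbij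
  let ψ : B →ₐ[ℂ] ℂ := (e.symm : (B ⧸ Q) →ₐ[ℂ] ℂ).comp (Ideal.Quotient.mkₐ ℂ Q)
  have key : ∀ a : (MvPolynomial (Fin n) ℂ)[X], ψ (θ a) = ε a := by
    intro a
    have h1 : a - C (MvPolynomial.C (ε a)) ∈ RingHom.ker ε := by
      rw [RingHom.mem_ker, map_sub, hεC, sub_self]
    rw [← hQ] at h1
    have h2 : θ (a - C (MvPolynomial.C (ε a))) ∈ Q := h1
    rw [map_sub, hθC] at h2
    have h3 : Ideal.Quotient.mk Q (θ a) = algebraMap ℂ (B ⧸ Q) (ε a) := by
      rw [← sub_eq_zero]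
      have := (Ideal.Quotient.eq_zero_iff_mem).2 h2
      rwa [map_sub] at this
    show e.symm (Ideal.Quotient.mk Q (θ a)) = ε a
    rw [h3]
    exact e.symm_apply_apply (ε a)
  refine ⟨ψ, fun r => ?_, ?_⟩
  · have := key (C r)
    simpa [hθ, hε] using this
  · have := key X
    simpa [hθ, hε] using this

end Groth.Agent.Lib.Helper4.LieOver
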