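import Mathlib

namespace Groth.Agent.Lib.Helper4.NormData
open Polynomial nonZeroDivisors

attribute [local instance] FractionRing.liftAlgebra FractionRing.isScalarTower_liftAlgebra

variable (R B : Type) [CommRing R] [IsDomain R] [CommRing B] [IsDomain B] [Algebra R B]
  [Module.Finite R B] [FaithfulSMul R B]

/-- The fraction field of a finite extension domain is the localization at the nonzero elements
of the base. -/
theorem isLocalization_fractionRing :
    IsLocalization (Algebra.algebraMapSubmonoid B R⁰) (FractionRing B) := by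
  haveI : Algebra.IsIntegral R B := Algebra.IsIntegral.of_finite R B
  haveI : Algebra.IsAlgebraic R B := Algebra.IsIntegral.isAlgebraic
  have hinj : Function.Injective (algebraMap R B) := FaithfulSMul.algebraMap_injective R B
  have hle : Algebra.algebraMapSubmonoid B R⁰ ≤ B⁰ := by
    rintro _ ⟨r, hr, rfl⟩
    exact map_mem_nonZeroDivisors _ hinj hr
  refine ⟨fun y => ?_, fun z => ?_, fun {x y} hxy => ?_⟩
  · exact IsLocalization.map_units (FractionRing B) (⟨y.1, hle y.2⟩ : B⁰)
  · obtain ⟨⟨a, b'⟩, hz⟩ := IsLocalization.surj B⁰ z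
    obtain ⟨c, d, hd, hcd⟩ := Algebra.IsAlgebraic.exists_smul_eq_mul R (1 : B)
      (nonZeroDivisors.ne_zero b'.2)
    refine ⟨(a * c, ⟨algebraMap R B d, d, mem_nonZeroDivisors_of_ne_zero hd, rfl⟩), ?_⟩
    simp only
    have h1 : algebraMap R B d = b'.1 * c := by
      rw [← hcd, Algebra.smul_def, mul_one]
    rw [h1, map_mul, map_mul, ← mul_assoc, hz]
  · exact ⟨1, by simpa using IsFractionRing.injective B (FractionRing B) hxy⟩

instance finiteDimensional_fractionRing :
    FiniteDimensional (FractionRing R) (FractionRing B) := by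
  haveI := isLocalization_fractionRing R B
  exact Module.Finite.of_isLocalization R B R⁰


variable [CharZero R] [IsIntegrallyClosed R]

/-- Everything in `B` becomes a polynomial in a primitive element after multiplying by a fixed
nonzero element of the base. -/
theorem exists_primitive :
    ∃ (t : B) (h : R), h ≠ 0 ∧
      Irreducible ((minpoly R t).map (algebraMap R (FractionRing R))) ∧
      (∃ w : B, aeval t (derivative (minpoly R t)) * w = algebraMap R B h) ∧
      (∀ b : B, ∃ q : R[X], algebraMap R B h * b = aeval t q) := by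
  classical
  set K := FractionRing R with hK
  set L := FractionRing B with hL
  haveI : Algebra.IsIntegral R B := Algebra.IsIntegral.of_finite R B
  haveI : Algebra.IsAlgebraic R B := Algebra.IsIntegral.isAlgebraic
  have hinjRB : Function.Injective (algebraMap R B) := FaithfulSMul.algebraMap_injective R B
  have hinjBL : Function.Injective (algebraMap B L) := IsFractionRing.injective B L
  haveI : CharZero K := charZero_of_injective_algebraMap (IsFractionRing.injective R K)
  haveI : Algebra.IsSeparable K L := inferInstance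
  obtain ⟨θ, hθ⟩ := Field.exists_primitive_element K L
  haveI := isLocalization_fractionRing R B
  obtain ⟨⟨a, s⟩, hz⟩ := IsLocalization.surj (Algebra.algebraMapSubmonoid B R⁰) θ
  obtain ⟨r, hr, hrs⟩ := s.2
  simp only at hz
  have hr0 : r ≠ 0 := nonZeroDivisors.ne_zero hr
  set t : B := a with ht
  set t' : L := algebraMap B L t with ht'
  have hrL : algebraMap K L (algebraMap R K r) ≠ 0 := by
    rw [← IsScalarTower.algebraMap_apply R K L, IsScalarTower.algebraMap_apply R B L]
    exact fun h0 => hr0 (hinjRB (hinjBL (by rw [h0, map_zero, map_zero])))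
  have hθt' : θ = t' * (algebraMap K L (algebraMap R K r))⁻¹ := by
    rw [eq_mul_inv_iff_mul_eq₀ hrL, ← hz, ← hrs, ← IsScalarTower.algebraMap_apply R K L,
      IsScalarTower.algebraMap_apply R B L]
  have htop : IntermediateField.adjoin K {t'} = ⊤ := by
    rw [eq_top_iff, ← hθ, IntermediateField.adjoin_simple_le_iff, hθt']
    exact mul_mem (IntermediateField.mem_adjoin_simple_self K t')
      (inv_mem (IntermediateField.algebraMap_mem _ _))
  have hint' : IsIntegral K t' := Algebra.IsIntegral.isIntegral t'
  have hall : ∀ z : L, ∃ p : K[X], aeval t' p = z := by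
    intro z
    have h1 : z ∈ (IntermediateField.adjoin K {t'}).toSubalgebra := by rw [htop]; trivial
    rw [IntermediateField.adjoin_simple_toSubalgebra_of_isAlgebraic hint'.isAlgebraic,
      Algebra.adjoin_singleton_eq_range_aeval] at h1
    exact h1
  have htint : IsIntegral R t := Algebra.IsIntegral.isIntegral t
  -- irreducibility
  have hirr : Irreducible ((minpoly R t).map (algebraMap R K)) := by
    rw [← minpoly.isIntegrallyClosed_eq_field_fractions K L htint]
    exact minpoly.irreducible hint'
  -- the derivative does not vanish at t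
  have hder : aeval t (derivative (minpoly R t)) ≠ 0 := by
    intro h0
    have hdvd := minpoly.isIntegrallyClosed_dvd htint h0
    have hpos : 0 < (minpoly R t).natDegree := minpoly.natDegree_pos htint
    have hne : derivative (minpoly R t) ≠ 0 := by
      intro hd0
      have := Polynomial.derivative_eq_zero.1 hd0
      omega
    have h1 := Polynomial.natDegree_le_of_dvd hdvd hne
    have h2 := Polynomial.natDegree_derivative_lt (p := minpoly R t) (by omega)
    omega
  obtain ⟨w, h₂, hh₂, hw⟩ := Algebra.IsAlgebraic.exists_smul_eq_mul R (1 : B) hder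
  -- generators
  obtain ⟨m, bs, hbs⟩ := Module.Finite.exists_fin (R := R) (M := B)
  have hgen : ∀ i : Fin m, ∃ (q : R[X]) (s : R), s ≠ 0 ∧ s • bs i = aeval t q := by
    intro i
    obtain ⟨p, hp⟩ := hall (algebraMap B L (bs i))
    obtain ⟨b, hbM, hb⟩ := IsLocalization.integerNormalization_spec R⁰ p
    refine ⟨IsLocalization.integerNormalization R⁰ p, b, nonZeroDivisors.ne_zero hbM, ?_⟩
    apply hinjBL
    have h1 : aeval t' ((IsLocalization.integerNormalization R⁰ p).map (algebraMap R K)) =
        algebraMap R L b * algebraMap B L (bs i) := by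
      rw [hb, Algebra.smul_def, map_mul, hp]
      congr 1
      rw [IsScalarTower.algebraMap_apply R K K[X], ← Polynomial.C_eq_algebraMap, aeval_C,
        ← IsScalarTower.algebraMap_apply]
    rw [aeval_map_algebraMap, aeval_algebraMap_apply] at h1
    rw [h1, Algebra.smul_def, map_mul, ← IsScalarTower.algebraMap_apply]
  choose qs ss hss hqs using hgen
  set h₁ : R := ∏ i, ss i with hh₁
  have hh₁0 : h₁ ≠ 0 := Finset.prod_ne_zero_iff.2 fun i _ => hss i
  -- the submodule of good elements
  let N : Submodule R B :=
    { carrier := {b | ∃ q : R[X], h₁ • b = aeval t q}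
      add_mem' := by
        rintro b b' ⟨q, hq⟩ ⟨q', hq'⟩
        exact ⟨q + q', by rw [smul_add, hq, hq', map_add]⟩
      zero_mem' := ⟨0, by simp⟩
      smul_mem' := by
        rintro c b ⟨q, hq⟩
        exact ⟨C c * q, by rw [smul_comm, hq, map_mul, aeval_C, Algebra.smul_def]⟩ }
  have hN : N = ⊤ := by
    rw [eq_top_iff, ← hbs, Submodule.span_le]
    rintro _ ⟨i, rfl⟩
    refine ⟨C (∏ j ∈ Finset.univ.erase i, ss j) * qs i, ?_⟩
    rw [map_mul, aeval_C, ← hqs i, ← Algebra.smul_def, smul_smul, hh₁,
      Finset.prod_erase_mul _ _ (Finset.mem_univ i)]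
  refine ⟨t, h₁ * h₂, mul_ne_zero hh₁0 hh₂, hirr, ⟨h₁ • w, ?_⟩, fun b => ?_⟩
  · rw [mul_smul_comm, ← hw, map_mul, Algebra.smul_def, Algebra.smul_def, mul_one]
  · have hb : b ∈ N := by rw [hN]; trivial
    obtain ⟨q, hq⟩ := hb
    refine ⟨C h₂ * q, ?_⟩
    have e : aeval t (C h₂ * q) = algebraMap R B h₂ * (algebraMap R B h₁ * b) := by
      rw [_root_.map_mul, aeval_C, ← hq, Algebra.smul_def]
    rw [e, _root_.map_mul]
    ring

end Groth.Agent.Lib.Helper4.NormData
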