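import Mathlib
import Groth.Agent.Lib.Helper4.NormData

namespace Groth.Agent.Lib.Helper4.NormData2
open Polynomial
open Groth.Agent.Lib.Helper4.NormData

/-- Noether normalization with a primitive element, for finitely generated `ℂ`-domains. -/
theorem exists_normalization_data (B : Type) [CommRing B] [IsDomain B] [Algebra ℂ B]
    [Algebra.FiniteType ℂ B] :
    ∃ (n : ℕ) (g : MvPolynomial (Fin n) ℂ →ₐ[ℂ] B) (t : B) (P : (MvPolynomial (Fin n) ℂ)[X])
      (h : MvPolynomial (Fin n) ℂ),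
      Function.Injective g ∧ g.toRingHom.IsIntegral ∧ P.Monic ∧ h ≠ 0 ∧
      P.eval₂ g.toRingHom t = 0 ∧ (∀ q : (MvPolynomial (Fin n) ℂ)[X],
        q.eval₂ g.toRingHom t = 0 → P ∣ q) ∧
      Irreducible (P.map (algebraMap _ (FractionRing (MvPolynomial (Fin n) ℂ)))) ∧
      (∃ w, (derivative P).eval₂ g.toRingHom t * w = g h) ∧
      (∀ b, ∃ q : (MvPolynomial (Fin n) ℂ)[X], g h * b = q.eval₂ g.toRingHom t) := by
  obtain ⟨n, g, ginj, gfin⟩ := exists_finite_inj_algHom_of_fg ℂ B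
  letI : Algebra (MvPolynomial (Fin n) ℂ) B := g.toRingHom.toAlgebra
  haveI : Module.Finite (MvPolynomial (Fin n) ℂ) B := gfin
  haveI : FaithfulSMul (MvPolynomial (Fin n) ℂ) B :=
    (faithfulSMul_iff_algebraMap_injective _ _).2 ginj
  haveI : Algebra.IsIntegral (MvPolynomial (Fin n) ℂ) B := Algebra.IsIntegral.of_finite _ B
  obtain ⟨t, h, hh, hirr, hw, hall⟩ := exists_primitive (MvPolynomial (Fin n) ℂ) B
  have htint : IsIntegral (MvPolynomial (Fin n) ℂ) t := Algebra.IsIntegral.isIntegral t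
  refine ⟨n, g, t, minpoly (MvPolynomial (Fin n) ℂ) t, h, ginj, ?_, minpoly.monic htint, hh,
    ?_, ?_, hirr, hw, hall⟩
  · exact gfin.to_isIntegral
  · exact minpoly.aeval _ t
  · intro q hq
    exact minpoly.isIntegrallyClosed_dvd htint hq

end Groth.Agent.Lib.Helper4.NormData2
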