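import Mathlib

namespace Groth.Agent.Lib.Helper4.HypCompl
open Topology Filter Polynomial

/-- The restriction of a polynomial to the line through `u` and `w`. -/
noncomputable def segPoly {n : ℕ} (h : MvPolynomial (Fin n) ℂ) (u w : Fin n → ℂ) : ℂ[X] :=
  MvPolynomial.aeval (fun j => C (u j) + X * C (w j - u j)) h

lemma segPoly_eval {n : ℕ} (h : MvPolynomial (Fin n) ℂ) (u w : Fin n → ℂ) (s : ℂ) :
    (segPoly h u w).eval s = MvPolynomial.eval (fun j => u j + s * (w j - u j)) h := by
  unfold segPoly
  have h1 : (Polynomial.evalRingHom s).comp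
      (MvPolynomial.aeval (fun j => C (u j) + X * C (w j - u j)) :
        MvPolynomial (Fin n) ℂ →ₐ[ℂ] ℂ[X]).toRingHom =
      MvPolynomial.eval (fun j => u j + s * (w j - u j)) := by
    apply MvPolynomial.ringHom_ext
    · intro a
      simp
    · intro j
      simp
  exact congrArg (fun φ : MvPolynomial (Fin n) ℂ →+* ℂ => φ h) h1

/-- The complement of a hypersurface in `ℂⁿ` is preconnected. -/
theorem isPreconnected_compl {n : ℕ} (h : MvPolynomial (Fin n) ℂ) :
    IsPreconnected {v : Fin n → ℂ | MvPolynomial.eval v h ≠ 0} := by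
  refine isPreconnected_of_forall_pair fun u hu w hw => ?_
  set η := segPoly h u w with hη
  have hη0 : η ≠ 0 := by
    intro h0
    apply hu
    have := segPoly_eval h u w 0
    rw [← hη, h0, eval_zero] at this
    simpa using this.symm
  set T : Set ℂ := ((η.roots.toFinset : Set ℂ))ᶜ with hT
  have hTc : IsPreconnected T := by
    have h1 : (η.roots.toFinset : Set ℂ).Countable := (Finset.finite_toSet _).countable
    have h2 : 1 < Module.rank ℝ ℂ := by
      rw [Complex.rank_real_complex]; norm_num
    exact (h1.isConnected_compl_of_one_lt_rank h2).isPreconnected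
  set lam : ℂ → (Fin n → ℂ) := fun s j => u j + s * (w j - u j) with hlam
  have hlamc : Continuous lam := by
    refine continuous_pi fun j => ?_
    fun_prop
  have hmemT : ∀ s, s ∈ T ↔ η.eval s ≠ 0 := by
    intro s
    simp only [hT, Set.mem_compl_iff, Finset.mem_coe, Multiset.mem_toFinset,
      Polynomial.mem_roots hη0, IsRoot.def]
  refine ⟨lam '' T, ?_, ⟨0, ?_, ?_⟩, ⟨1, ?_, ?_⟩, hTc.image lam hlamc.continuousOn⟩
  · rintro _ ⟨s, hs, rfl⟩
    show MvPolynomial.eval (lam s) h ≠ 0
    rw [← segPoly_eval]
    exact (hmemT s).1 hs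
  · rw [hmemT, segPoly_eval]
    simpa using hu
  · funext j; simp [hlam]
  · rw [hmemT, segPoly_eval]
    simpa using hw
  · funext j; simp [hlam]

end Groth.Agent.Lib.Helper4.HypCompl
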