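import Mathlib

namespace Groth.Agent.Lib.Helper4.PolyGrowth
open Topology Filter Polynomial

/-- Continuous and differentiable off a finite set implies entire. -/
theorem differentiable_of_off_finite {γ : ℂ → ℂ} (hc : Continuous γ) {S : Set ℂ} (hS : S.Finite)
    (hd : ∀ s, s ∉ S → DifferentiableAt ℂ γ s) : Differentiable ℂ γ := by
  intro s₀
  by_cases hs : s₀ ∈ S
  · refine (Complex.analyticAt_of_differentiable_on_punctured_nhds_of_continuousAt ?_
      hc.continuousAt).differentiableAt
    have hopen : IsOpen (S \ {s₀})ᶜ := (hS.subset Set.sdiff_subset).isClosed.isOpen_compl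
    have hmem : (S \ {s₀})ᶜ ∈ 𝓝 s₀ := hopen.mem_nhds (by simp)
    rw [eventually_nhdsWithin_iff]
    filter_upwards [hmem] with z hz hz'
    refine hd z fun hzS => hz ⟨hzS, hz'⟩
  · exact hd s₀ hs

/-- An entire function of polynomial growth is a polynomial. -/
theorem poly_of_growth (N : ℕ) : ∀ (f : ℂ → ℂ) (_ : Differentiable ℂ f) (C : ℝ)
    (_ : ∀ s, ‖f s‖ ≤ C * (1 + ‖s‖) ^ N),
    ∃ q : ℂ[X], q.natDegree ≤ N ∧ ∀ s, f s = q.eval s := by
  induction N with
  | zero =>
    intro f hf C hC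
    have hb : Bornology.IsBounded (Set.range f) := by
      rw [isBounded_iff_forall_norm_le]
      refine ⟨C, ?_⟩
      rintro _ ⟨s, rfl⟩
      simpa using hC s
    obtain ⟨c, hc⟩ := hf.exists_const_forall_eq_of_bounded hb
    exact ⟨Polynomial.C c, by simp, fun s => by simp [hc s]⟩
  | succ N ih =>
    intro f hf C hC
    set g : ℂ → ℂ := dslope f 0 with hg
    have hgd : Differentiable ℂ g := by
      rw [← differentiableOn_univ]
      exact (Complex.differentiableOn_dslope Filter.univ_mem).2 hf.differentiableOn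
    have hC0 : 0 ≤ C := by
      have := hC 0
      simp only [norm_zero, add_zero, one_pow, mul_one] at this
      exact (norm_nonneg _).trans this
    obtain ⟨M, hM⟩ := (isCompact_closedBall (0 : ℂ) 1).exists_bound_of_continuousOn
      hgd.continuous.continuousOn
    have hM0 : 0 ≤ M := (norm_nonneg _).trans (hM 0 (by simp))
    have hbound : ∀ s, ‖g s‖ ≤ (max (2 * C + ‖f 0‖) M) * (1 + ‖s‖) ^ N := by
      intro s
      have hpos : (1 : ℝ) ≤ (1 + ‖s‖) ^ N := one_le_pow₀ (by linarith [norm_nonneg s])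
      by_cases hs : ‖s‖ ≤ 1
      · have h1 : ‖g s‖ ≤ M := hM s (by simpa using hs)
        calc ‖g s‖ ≤ M := h1
          _ ≤ max (2 * C + ‖f 0‖) M := le_max_right _ _
          _ = max (2 * C + ‖f 0‖) M * 1 := (mul_one _).symm
          _ ≤ max (2 * C + ‖f 0‖) M * (1 + ‖s‖) ^ N :=
            mul_le_mul_of_nonneg_left hpos (hM0.trans (le_max_right _ _))
      · push Not at hs
        have hs0 : s ≠ 0 := by
          rintro rfl
          simp at hs
          linarith
        have hsn : 0 < ‖s‖ := by linarith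
        have h1 : g s = s⁻¹ * (f s - f 0) := by
          rw [hg, dslope_of_ne _ hs0, slope_def_field, sub_zero]
          field_simp
        have h2 : ‖g s‖ ≤ (C * (1 + ‖s‖) ^ (N + 1) + ‖f 0‖) / ‖s‖ := by
          rw [h1, norm_mul, norm_inv, inv_mul_eq_div]
          gcongr
          exact (norm_sub_le _ _).trans (add_le_add (hC s) le_rfl)
        have h3 : (C * (1 + ‖s‖) ^ (N + 1) + ‖f 0‖) / ‖s‖ ≤ (2 * C + ‖f 0‖) * (1 + ‖s‖) ^ N := by
          rw [div_le_iff₀ hsn]
          have hA : (1 + ‖s‖) ^ (N + 1) ≤ 2 * ‖s‖ * (1 + ‖s‖) ^ N := by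
            rw [pow_succ]
            have : 1 + ‖s‖ ≤ 2 * ‖s‖ := by linarith
            nlinarith [pow_nonneg (by linarith : (0:ℝ) ≤ 1 + ‖s‖) N]
          have hB : ‖f 0‖ ≤ ‖f 0‖ * (1 + ‖s‖) ^ N * ‖s‖ := by
            have : (1 : ℝ) ≤ (1 + ‖s‖) ^ N * ‖s‖ := by nlinarith
            nlinarith [norm_nonneg (f 0)]
          nlinarith [mul_le_mul_of_nonneg_left hA hC0]
        calc ‖g s‖ ≤ (2 * C + ‖f 0‖) * (1 + ‖s‖) ^ N := h2.trans h3
          _ ≤ max (2 * C + ‖f 0‖) M * (1 + ‖s‖) ^ N := by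
            gcongr
            exact le_max_left _ _
    obtain ⟨q', hq'd, hq'⟩ := ih g hgd _ hbound
    refine ⟨Polynomial.C (f 0) + X * q', ?_, fun s => ?_⟩
    · refine (natDegree_add_le _ _).trans (max_le (by simp) ?_)
      refine natDegree_mul_le.trans ?_
      have := natDegree_X_le (R := ℂ)
      omega
    · have h1 : (s - 0) • dslope f 0 s = f s - f 0 := sub_smul_dslope f 0 s
      simp only [sub_zero, smul_eq_mul] at h1
      simp only [eval_add, eval_C, eval_mul, eval_X, ← hq' s]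
      rw [← hg] at h1
      rw [h1]; ring

end Groth.Agent.Lib.Helper4.PolyGrowth
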