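import Mathlib

namespace Groth.Agent.Lib.Helper4.SepPoly
open Polynomial

lemma eval_aeval_X {n : ℕ} (v : Fin n → ℂ) (i : Fin n) (p : ℂ[X]) :
    MvPolynomial.eval v (Polynomial.aeval (MvPolynomial.X i : MvPolynomial (Fin n) ℂ) p) =
      p.eval (v i) := by
  have h := Polynomial.aeval_algHom_apply (MvPolynomial.aeval v : MvPolynomial (Fin n) ℂ →ₐ[ℂ] ℂ)
    (MvPolynomial.X i) p
  rw [MvPolynomial.aeval_X] at h
  have h2 : (MvPolynomial.aeval v : MvPolynomial (Fin n) ℂ →ₐ[ℂ] ℂ)
      (Polynomial.aeval (MvPolynomial.X i) p) =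
      MvPolynomial.eval v (Polynomial.aeval (MvPolynomial.X i) p) := by
    rw [MvPolynomial.aeval_eq_eval]
  rw [← h2, ← h]
  simp [Polynomial.aeval_def]

/-- Lagrange interpolation at the nodes `0, …, N`. -/
lemma eval_eq_sum_basis (N : ℕ) (q : ℂ[X]) (hq : q.natDegree ≤ N) (s : ℂ) :
    q.eval s = ∑ a ∈ Finset.range (N + 1),
      q.eval (a : ℂ) * (Lagrange.basis (Finset.range (N + 1)) (fun a : ℕ => (a : ℂ)) a).eval s := by
  have hinj : Set.InjOn (fun a : ℕ => (a : ℂ)) (Finset.range (N + 1) : Set ℕ) :=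
    fun a _ b _ h => Nat.cast_injective h
  have hdeg : q.degree < (Finset.range (N + 1)).card := by
    rw [Finset.card_range]
    exact lt_of_le_of_lt Polynomial.degree_le_natDegree (by exact_mod_cast Nat.lt_succ_of_le hq)
  have h := Lagrange.eq_interpolate hinj hdeg
  conv_lhs => rw [h]
  rw [Lagrange.interpolate_apply, Polynomial.eval_finsetSum]
  refine Finset.sum_congr rfl fun a _ => ?_
  rw [Polynomial.eval_mul, Polynomial.eval_C]

/-- A separately polynomial function (of bounded degree) is a polynomial. -/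
theorem mvPoly_of_sep (N : ℕ) : ∀ (n : ℕ) (g : (Fin n → ℂ) → ℂ),
    (∀ i v, ∃ q : ℂ[X], q.natDegree ≤ N ∧ ∀ s, g (Function.update v i s) = q.eval s) →
    ∃ G : MvPolynomial (Fin n) ℂ, ∀ v, g v = MvPolynomial.eval v G := by
  intro n
  induction n with
  | zero =>
    intro g _
    refine ⟨MvPolynomial.C (g default), fun v => ?_⟩
    rw [MvPolynomial.eval_C, Subsingleton.elim v default]
  | succ n ih =>
    intro g hg
    have hga : ∀ a : ℕ, ∃ G : MvPolynomial (Fin n) ℂ,
        ∀ w, g (Fin.cons (a : ℂ) w) = MvPolynomial.eval w G := by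
      intro a
      refine ih (fun w => g (Fin.cons (a : ℂ) w)) fun i w => ?_
      obtain ⟨q, hqd, hq⟩ := hg i.succ (Fin.cons (a : ℂ) w)
      refine ⟨q, hqd, fun s => ?_⟩
      rw [← hq s, Fin.cons_update]
    choose Ga hGa using hga
    refine ⟨∑ a ∈ Finset.range (N + 1), MvPolynomial.rename Fin.succ (Ga a) *
      Polynomial.aeval (MvPolynomial.X 0 : MvPolynomial (Fin (n+1)) ℂ)
        (Lagrange.basis (Finset.range (N + 1)) (fun a : ℕ => (a : ℂ)) a), fun v => ?_⟩
    obtain ⟨q, hqd, hq⟩ := hg 0 v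
    have h1 : g v = q.eval (v 0) := by
      rw [← hq (v 0), Function.update_eq_self]
    rw [h1, eval_eq_sum_basis N q hqd (v 0), map_sum]
    refine Finset.sum_congr rfl fun a _ => ?_
    rw [map_mul, eval_aeval_X, MvPolynomial.eval_rename]
    congr 1
    rw [← hq (a : ℂ), ← hGa a (v ∘ Fin.succ)]
    congr 1
    funext j
    refine Fin.cases ?_ (fun k => ?_) j
    · simp
    · simp [Function.update_of_ne]

end Groth.Agent.Lib.Helper4.SepPoly
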