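import Mathlib
import Groth.Agent.Lib.Helper4.PolyGrowth
import Groth.Agent.Lib.Helper4.SepPoly

namespace Groth.Agent.Lib.Helper4.RatFun
open Topology Filter Polynomial
open Groth.Agent.Lib.Helper4.PolyGrowth Groth.Agent.Lib.Helper4.SepPoly

/-- Polynomial growth of polynomial functions. -/
theorem mv_growth {n : ℕ} (p : MvPolynomial (Fin n) ℂ) :
    ∃ (C : ℝ) (N : ℕ), 0 ≤ C ∧ ∀ v : Fin n → ℂ, ‖MvPolynomial.eval v p‖ ≤ C * (1 + ‖v‖) ^ N := by
  induction p using MvPolynomial.induction_on with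
  | C a => exact ⟨‖a‖, 0, norm_nonneg _, fun v => by simp⟩
  | add p q hp hq =>
    obtain ⟨C, N, hC, hp⟩ := hp
    obtain ⟨C', N', hC', hq⟩ := hq
    refine ⟨C + C', max N N', by positivity, fun v => ?_⟩
    have h1 : (1 : ℝ) ≤ 1 + ‖v‖ := by linarith [norm_nonneg v]
    rw [map_add]
    calc ‖MvPolynomial.eval v p + MvPolynomial.eval v q‖
        ≤ C * (1 + ‖v‖) ^ N + C' * (1 + ‖v‖) ^ N' := (norm_add_le _ _).trans (add_le_add (hp v) (hq v))
      _ ≤ C * (1 + ‖v‖) ^ (max N N') + C' * (1 + ‖v‖) ^ (max N N') := by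
        have e1 : (1 + ‖v‖) ^ N ≤ (1 + ‖v‖) ^ (max N N') := pow_le_pow_right₀ h1 (le_max_left _ _)
        have e2 : (1 + ‖v‖) ^ N' ≤ (1 + ‖v‖) ^ (max N N') := pow_le_pow_right₀ h1 (le_max_right _ _)
        exact add_le_add (mul_le_mul_of_nonneg_left e1 hC) (mul_le_mul_of_nonneg_left e2 hC')
      _ = (C + C') * (1 + ‖v‖) ^ (max N N') := by ring
  | mul_X p i hp =>
    obtain ⟨C, N, hC, hp⟩ := hp
    refine ⟨C, N + 1, hC, fun v => ?_⟩
    rw [map_mul, MvPolynomial.eval_X, norm_mul, pow_succ, ← mul_assoc]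
    have h1 : ‖v i‖ ≤ 1 + ‖v‖ := (norm_le_pi_norm v i).trans (by linarith)
    exact mul_le_mul (hp v) h1 (norm_nonneg _) (by positivity)

/-- The restriction of a polynomial to a coordinate line. -/
noncomputable def linePoly {n : ℕ} (h : MvPolynomial (Fin n) ℂ) (v : Fin n → ℂ) (i : Fin n) : ℂ[X] :=
  MvPolynomial.aeval (fun j => if j = i then (X : ℂ[X]) else C (v j)) h

lemma linePoly_eval {n : ℕ} (h : MvPolynomial (Fin n) ℂ) (v : Fin n → ℂ) (i : Fin n) (s : ℂ) :
    (linePoly h v i).eval s = MvPolynomial.eval (Function.update v i s) h := by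
  unfold linePoly
  have h1 : (Polynomial.evalRingHom s).comp
      (MvPolynomial.aeval (fun j => if j = i then (X : ℂ[X]) else C (v j)) :
        MvPolynomial (Fin n) ℂ →ₐ[ℂ] ℂ[X]).toRingHom =
      MvPolynomial.eval (Function.update v i s) := by
    apply MvPolynomial.ringHom_ext
    · intro a
      simp
    · intro j
      by_cases hj : j = i
      · subst hj; simp
      · simp [hj]
  exact congrArg (fun φ : MvPolynomial (Fin n) ℂ →+* ℂ => φ h) h1

lemma norm_update_le {n : ℕ} (v : Fin n → ℂ) (i : Fin n) (s : ℂ) :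
    ‖Function.update v i s‖ ≤ ‖v‖ + ‖s‖ := by
  rw [pi_norm_le_iff_of_nonneg (by positivity)]
  intro j
  by_cases hj : j = i
  · subst hj
    simp only [Function.update_self]
    linarith [norm_nonneg v]
  · rw [Function.update_of_ne hj]
    exact (norm_le_pi_norm v j).trans (by linarith [norm_nonneg s])

lemma differentiable_update {n : ℕ} (v : Fin n → ℂ) (i : Fin n) :
    Differentiable ℂ (fun s : ℂ => Function.update v i s) := by
  rw [differentiable_pi]
  intro j
  by_cases hj : j = i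
  · subst hj
    simp only [Function.update_self]
    exact differentiable_id
  · simp only [Function.update_of_ne hj]
    exact differentiable_const _

/-- A differentiable function of polynomial growth on the complement of a hypersurface becomes a
polynomial after multiplication with the equation of the hypersurface. -/
theorem exists_mvPoly_of_diff_growth {n : ℕ} (h : MvPolynomial (Fin n) ℂ)
    (c : (Fin n → ℂ) → ℂ) (hc : DifferentiableOn ℂ c {v | MvPolynomial.eval v h ≠ 0})
    (C : ℝ) (hC : 0 ≤ C) (N : ℕ)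
    (hgrow : ∀ v, MvPolynomial.eval v h ≠ 0 → ‖c v‖ ≤ C * (1 + ‖v‖) ^ N) :
    ∃ G : MvPolynomial (Fin n) ℂ, ∀ v, MvPolynomial.eval v h ≠ 0 →
      MvPolynomial.eval v h * c v = MvPolynomial.eval v G := by
  classical
  obtain ⟨Ch, Nh, hCh, hhg⟩ := mv_growth h
  have hVopen : IsOpen {v : Fin n → ℂ | MvPolynomial.eval v h ≠ 0} :=
    isOpen_ne_fun (MvPolynomial.continuous_eval h) continuous_const
  set g : (Fin n → ℂ) → ℂ := fun v =>
    if MvPolynomial.eval v h ≠ 0 then MvPolynomial.eval v h * c v else 0 with hg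
  have hgb : ∀ v, ‖g v‖ ≤ ‖MvPolynomial.eval v h‖ * (C * (1 + ‖v‖) ^ N) := by
    intro v
    by_cases hv : MvPolynomial.eval v h ≠ 0
    · simp only [hg, if_pos hv, norm_mul]
      exact mul_le_mul_of_nonneg_left (hgrow v hv) (norm_nonneg _)
    · simp only [hg, if_neg hv, norm_zero]
      positivity
  suffices hsep : ∀ i v, ∃ q : ℂ[X], q.natDegree ≤ Nh + N ∧
      ∀ s, g (Function.update v i s) = q.eval s by
    obtain ⟨G, hG⟩ := mvPoly_of_sep (Nh + N) n g hsep
    refine ⟨G, fun v hv => ?_⟩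
    rw [← hG v]
    simp only [hg, if_pos hv]
  intro i v
  set η : ℂ[X] := linePoly h v i with hη
  set γ : ℂ → ℂ := fun s => g (Function.update v i s) with hγ
  by_cases hη0 : η = 0
  · refine ⟨0, by simp, fun s => ?_⟩
    have : MvPolynomial.eval (Function.update v i s) h = 0 := by
      rw [← linePoly_eval, ← hη, hη0, eval_zero]
    simp [hg, this]
  -- differentiability off the finite set of roots
  have hdiff : ∀ s, s ∉ (η.roots.toFinset : Set ℂ) → DifferentiableAt ℂ γ s := by
    intro s hs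
    have hs' : η.eval s ≠ 0 := by
      intro h0
      apply hs
      simp only [Finset.mem_coe, Multiset.mem_toFinset]
      exact (Polynomial.mem_roots hη0).2 h0
    have hmem : Function.update v i s ∈ {v : Fin n → ℂ | MvPolynomial.eval v h ≠ 0} := by
      show MvPolynomial.eval (Function.update v i s) h ≠ 0
      rwa [← linePoly_eval]
    have hev : γ =ᶠ[𝓝 s] fun s' => η.eval s' * c (Function.update v i s') := by
      have hopen : IsOpen {s' : ℂ | η.eval s' ≠ 0} :=
        isOpen_ne_fun (Polynomial.continuous η) continuous_const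
      filter_upwards [hopen.mem_nhds hs'] with s' hs''
      have : MvPolynomial.eval (Function.update v i s') h ≠ 0 := by
        rwa [← linePoly_eval]
      simp only [hγ, hg, ← linePoly_eval, ← hη, if_pos hs'']
    refine DifferentiableAt.congr_of_eventuallyEq ?_ hev
    refine (Polynomial.differentiable η).differentiableAt.mul ?_
    exact ((hc _ hmem).differentiableAt (hVopen.mem_nhds hmem)).comp s
      (differentiable_update v i).differentiableAt
  -- the bound
  have hγb : ∀ s, ‖γ s‖ ≤ ‖η.eval s‖ * (C * (1 + (‖v‖ + ‖s‖)) ^ N) := by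
    intro s
    refine (hgb _).trans ?_
    rw [← linePoly_eval, ← hη]
    gcongr
    exact norm_update_le v i s
  -- continuity
  have hcont : Continuous γ := by
    rw [continuous_iff_continuousAt]
    intro s
    by_cases hs : s ∈ (η.roots.toFinset : Set ℂ)
    · have hs0 : η.eval s = 0 := by
        simp only [Finset.mem_coe, Multiset.mem_toFinset] at hs
        exact (Polynomial.mem_roots hη0).1 hs
      have hγs : γ s = 0 := by
        have : MvPolynomial.eval (Function.update v i s) h = 0 := by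
          rw [← linePoly_eval, ← hη, hs0]
        simp [hγ, hg, this]
      have hβ : Continuous fun s' : ℂ => ‖η.eval s'‖ * (C * (1 + (‖v‖ + ‖s'‖)) ^ N) := by
        have := Polynomial.continuous η
        fun_prop
      have hβ0 : Tendsto (fun s' : ℂ => ‖η.eval s'‖ * (C * (1 + (‖v‖ + ‖s'‖)) ^ N)) (𝓝 s) (𝓝 0) := by
        have := hβ.tendsto s
        simpa [hs0] using this
      show Tendsto γ (𝓝 s) (𝓝 (γ s))
      rw [hγs]
      exact squeeze_zero_norm hγb hβ0
    · exact (hdiff s hs).continuousAt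
  have hentire : Differentiable ℂ γ :=
    differentiable_of_off_finite hcont (Finset.finite_toSet _) hdiff
  -- growth
  have hgrowth : ∀ s, ‖γ s‖ ≤ (Ch * C * (1 + ‖v‖) ^ (Nh + N)) * (1 + ‖s‖) ^ (Nh + N) := by
    intro s
    have h1 : ‖η.eval s‖ ≤ Ch * (1 + (‖v‖ + ‖s‖)) ^ Nh := by
      rw [hη, linePoly_eval]
      refine (hhg _).trans ?_
      gcongr
      exact norm_update_le v i s
    have h2 : 1 + (‖v‖ + ‖s‖) ≤ (1 + ‖v‖) * (1 + ‖s‖) := by
      nlinarith [norm_nonneg v, norm_nonneg s]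
    have h3 : (0 : ℝ) ≤ 1 + (‖v‖ + ‖s‖) := by positivity
    calc ‖γ s‖ ≤ ‖η.eval s‖ * (C * (1 + (‖v‖ + ‖s‖)) ^ N) := hγb s
      _ ≤ (Ch * (1 + (‖v‖ + ‖s‖)) ^ Nh) * (C * (1 + (‖v‖ + ‖s‖)) ^ N) := by gcongr
      _ = Ch * C * (1 + (‖v‖ + ‖s‖)) ^ (Nh + N) := by rw [pow_add]; ring
      _ ≤ Ch * C * ((1 + ‖v‖) * (1 + ‖s‖)) ^ (Nh + N) := by gcongr
      _ = (Ch * C * (1 + ‖v‖) ^ (Nh + N)) * (1 + ‖s‖) ^ (Nh + N) := by rw [mul_pow]; ring
  exact poly_of_growth (Nh + N) γ hentire _ hgrowth

end Groth.Agent.Lib.Helper4.RatFun
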