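import Mathlib
import Groth.Agent.Lib.Helper4.EtIFT

namespace Groth.Agent.Lib.Helper4.RootDiff
open Topology Filter
open Groth.Agent.Lib.Helper4.EtIFT

/-- Simple roots vary continuously, and differentiably at the base point. -/
theorem exists_root_fn_diffAt (d : ℕ) (c₀ : Fin (d+1) → ℂ) (ξ₀ : ℂ)
    (h0 : F d (c₀, ξ₀) = 0)
    (h1 : ∑ j : Fin (d+1), c₀ j * ((j : ℂ) * ξ₀ ^ ((j : ℕ) - 1)) ≠ 0) :
    ∃ (N : Set (Fin (d+1) → ℂ)) (D : Set ℂ) (ρ : (Fin (d+1) → ℂ) → ℂ), IsOpen N ∧ IsOpen D ∧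
      c₀ ∈ N ∧ ξ₀ ∈ D ∧ ContinuousOn ρ N ∧ DifferentiableAt ℂ ρ c₀ ∧ (∀ c ∈ N, ρ c ∈ D) ∧
      ∀ c ∈ N, ∀ ξ ∈ D, (F d (c, ξ) = 0 ↔ ξ = ρ c) := by
  set u : (Fin (d+1) → ℂ) × ℂ := (c₀, ξ₀) with hu
  have hF : HasStrictFDerivAt (F d) (fderiv ℂ (F d) u) u :=
    (contDiff_F d).contDiffAt.hasStrictFDerivAt (by simp)
  have hval : (fderiv ℂ (F d) u) ((0 : Fin (d+1) → ℂ), (1 : ℂ)) =
      ∑ j : Fin (d+1), c₀ j * ((j : ℂ) * ξ₀ ^ ((j : ℕ) - 1)) := by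
    have hpath : HasDerivAt (fun z : ℂ => ((c₀, z) : (Fin (d+1) → ℂ) × ℂ)) (0, 1) ξ₀ :=
      (hasDerivAt_const ξ₀ c₀).prodMk (hasDerivAt_id ξ₀)
    have h2 := hF.hasFDerivAt.comp_hasDerivAt ξ₀ hpath
    exact h2.unique (hasDerivAt_F d c₀ ξ₀)
  have hinv : ((fderiv ℂ (F d) u) ∘L (ContinuousLinearMap.inr ℂ (Fin (d+1) → ℂ) ℂ)).IsInvertible := by
    set L := (fderiv ℂ (F d) u) ∘L (ContinuousLinearMap.inr ℂ (Fin (d+1) → ℂ) ℂ) with hL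
    have hL1 : L 1 ≠ 0 := by
      have : L 1 = (fderiv ℂ (F d) u) ((0 : Fin (d+1) → ℂ), (1 : ℂ)) := by
        simp [hL]
      rw [this, hval]; exact h1
    refine ⟨ContinuousLinearEquiv.unitsEquivAut ℂ (Units.mk0 (L 1) hL1), ?_⟩
    apply ContinuousLinearMap.ext_ring
    simp
  set ψ := hF.implicitFunctionOfProdDomain hinv with hψ
  have ev1 := hF.eventually_apply_eq_iff_implicitFunctionOfProdDomain hinv
  have hψ0 : ψ c₀ = ξ₀ := (ev1.self_of_nhds).1 rfl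
  have hsd := hF.hasStrictFDerivAt_implicitFunctionOfProdDomain hinv
  obtain ⟨K, s, hs, hlip⟩ := hsd.exists_lipschitzOnWith
  have ev1' : {v : (Fin (d+1) → ℂ) × ℂ | F d v = F d u ↔ ψ v.1 = v.2} ∈ 𝓝 (c₀, ξ₀) := ev1
  obtain ⟨N₁, D, hN₁, hc₀N₁, hD, hξ₀D, hsub⟩ := mem_nhds_prod_iff'.1 ev1'
  have hcont : ContinuousOn ψ (interior s) := hlip.continuousOn.mono interior_subset
  have hopen : IsOpen (interior s ∩ ψ ⁻¹' D) := hcont.isOpen_inter_preimage isOpen_interior hD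
  refine ⟨N₁ ∩ (interior s ∩ ψ ⁻¹' D), D, ψ, hN₁.inter hopen, hD,
    ⟨hc₀N₁, mem_interior_iff_mem_nhds.2 hs, ?_⟩, hξ₀D, hcont.mono (fun c hc => hc.2.1),
    hsd.hasFDerivAt.differentiableAt, fun c hc => hc.2.2, ?_⟩
  · show ψ c₀ ∈ D
    rw [hψ0]; exact hξ₀D
  · intro c hc ξ hξ
    have := hsub (Set.mk_mem_prod hc.1 hξ)
    simp only [Set.mem_ofPred_eq] at this
    rw [h0] at this
    rw [this]
    exact eq_comm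

/-- The derivative of the universal polynomial in the variable. -/
noncomputable def dF (d : ℕ) (p : (Fin (d+1) → ℂ) × ℂ) : ℂ :=
  ∑ j : Fin (d+1), p.1 j * ((j : ℂ) * p.2 ^ ((j : ℕ) - 1))

lemma continuous_dF (d : ℕ) : Continuous (dF d) := by
  unfold dF
  fun_prop

/-- Simple roots vary differentiably. -/
theorem exists_root_fn_diff (d : ℕ) (c₀ : Fin (d+1) → ℂ) (ξ₀ : ℂ)
    (h0 : F d (c₀, ξ₀) = 0) (h1 : dF d (c₀, ξ₀) ≠ 0) :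
    ∃ (N : Set (Fin (d+1) → ℂ)) (D : Set ℂ) (ρ : (Fin (d+1) → ℂ) → ℂ), IsOpen N ∧ IsOpen D ∧
      c₀ ∈ N ∧ ξ₀ ∈ D ∧ DifferentiableOn ℂ ρ N ∧ (∀ c ∈ N, ρ c ∈ D) ∧
      ∀ c ∈ N, ∀ ξ ∈ D, (F d (c, ξ) = 0 ↔ ξ = ρ c) := by
  obtain ⟨N, D, ρ, hN, hD, hc₀, hξ₀, hρc, -, hρD, hiff⟩ := exists_root_fn_diffAt d c₀ ξ₀ h0 h1
  have hρ0 : ρ c₀ = ξ₀ := ((hiff c₀ hc₀ ξ₀ hξ₀).1 h0).symm
  -- the set where the derivative stays nonzero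
  have hcomp : ContinuousOn (fun c => dF d (c, ρ c)) N :=
    (continuous_dF d).comp_continuousOn (continuousOn_id.prodMk hρc)
  have hopen : IsOpen (N ∩ (fun c => dF d (c, ρ c)) ⁻¹' {0}ᶜ) :=
    hcomp.isOpen_inter_preimage hN isOpen_compl_singleton
  refine ⟨N ∩ (fun c => dF d (c, ρ c)) ⁻¹' {0}ᶜ, D, ρ, hopen, hD, ⟨hc₀, ?_⟩, hξ₀, ?_,
    fun c hc => hρD c hc.1, fun c hc ξ hξ => hiff c hc.1 ξ hξ⟩
  · show dF d (c₀, ρ c₀) ≠ 0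
    rw [hρ0]; exact h1
  · intro c₁ hc₁
    have hroot : F d (c₁, ρ c₁) = 0 := (hiff c₁ hc₁.1 (ρ c₁) (hρD c₁ hc₁.1)).2 rfl
    obtain ⟨N', D', ρ', hN', hD', hc₁N', hξD', -, hdiff, hρD', hiff'⟩ :=
      exists_root_fn_diffAt d c₁ (ρ c₁) hroot hc₁.2
    have hev : ρ =ᶠ[𝓝 c₁] ρ' := by
      have h2 : ∀ᶠ c in 𝓝 c₁, c ∈ N ∩ N' := (hN.inter hN').mem_nhds ⟨hc₁.1, hc₁N'⟩
      have h3 : ∀ᶠ c in 𝓝 c₁, ρ c ∈ D' :=
        (hρc.continuousAt (hN.mem_nhds hc₁.1)).eventually (hD'.mem_nhds hξD')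
      filter_upwards [h2, h3] with c hc hcD'
      have hr : F d (c, ρ c) = 0 := (hiff c hc.1 (ρ c) (hρD c hc.1)).2 rfl
      exact (hiff' c hc.2 (ρ c) hcD').1 hr
    exact (hdiff.congr_of_eventuallyEq hev).differentiableWithinAt

end Groth.Agent.Lib.Helper4.RootDiff
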