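import Mathlib
import Groth.Agent.Lib.Helper4.RootDiff

namespace Groth.Agent.Lib.Helper4.Sheets
open Topology Filter Polynomial
open Groth.Agent.Lib.Helper4.EtIFT Groth.Agent.Lib.Helper4.RootDiff

variable {n : ℕ} (P : (MvPolynomial (Fin n) ℂ)[X])

/-- Specialization of the coefficients at a point. -/
noncomputable def Pv (v : Fin n → ℂ) : ℂ[X] := P.map (MvPolynomial.eval v)

lemma Pv_monic (hP : P.Monic) (v : Fin n → ℂ) : (Pv P v).Monic := hP.map _

lemma Pv_natDegree (hP : P.Monic) (v : Fin n → ℂ) : (Pv P v).natDegree = P.natDegree :=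
  hP.natDegree_map _

lemma Pv_coeff (v : Fin n → ℂ) (j : ℕ) : (Pv P v).coeff j = MvPolynomial.eval v (P.coeff j) := by
  unfold Pv; rw [coeff_map]

/-- The coefficient vector. -/
noncomputable def cf (v : Fin n → ℂ) : Fin (P.natDegree + 1) → ℂ := fun j => (Pv P v).coeff j

lemma differentiable_cf : Differentiable ℂ (cf P) := by
  rw [differentiable_pi]
  intro j
  simp only [cf, Pv_coeff]
  intro v
  exact ((AnalyticOnNhd.eval_mvPolynomial (𝕜 := ℂ) (P.coeff j)) v (Set.mem_univ v)).differentiableAt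

lemma F_cf (hP : P.Monic) (v : Fin n → ℂ) (τ : ℂ) :
    F P.natDegree (cf P v, τ) = (Pv P v).eval τ := by
  unfold F cf
  simp only
  rw [Fin.sum_univ_eq_sum_range (fun j => (Pv P v).coeff j * τ ^ j) (P.natDegree + 1)]
  rw [Polynomial.eval_eq_sum_range' (by rw [Pv_natDegree P hP]; exact Nat.lt_succ_self _)]

lemma dF_cf (hP : P.Monic) (v : Fin n → ℂ) (τ : ℂ) :
    dF P.natDegree (cf P v, τ) = (Pv P v).derivative.eval τ := by
  unfold dF cf
  simp only
  rw [Fin.sum_univ_eq_sum_range (fun j => (Pv P v).coeff j * ((j : ℂ) * τ ^ (j - 1)))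
    (P.natDegree + 1)]
  rw [Finset.sum_range_succ']
  have hdeg : (Pv P v).derivative.natDegree < P.natDegree ∨ P.natDegree = 0 := by
    by_cases h0 : P.natDegree = 0
    · exact Or.inr h0
    · left
      have := Polynomial.natDegree_derivative_lt (p := Pv P v) (by rw [Pv_natDegree P hP]; exact h0)
      rwa [Pv_natDegree P hP] at this
  rcases hdeg with hdeg | hdeg
  · rw [Polynomial.eval_eq_sum_range' hdeg]
    simp only [Nat.cast_zero, zero_mul, mul_zero, add_zero, Nat.add_sub_cancel]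
    refine Finset.sum_congr rfl fun i _ => ?_
    rw [Polynomial.coeff_derivative]
    push_cast
    ring
  · rw [hdeg]
    simp only [Finset.range_zero, Finset.sum_empty, Nat.cast_zero, zero_mul, mul_zero, add_zero]
    have : (Pv P v).derivative = 0 := by
      apply Polynomial.derivative_of_natDegree_zero
      rw [Pv_natDegree P hP, hdeg]
    rw [this, eval_zero]

/-- Local sheet through a simple root. -/
theorem exists_sheet (hP : P.Monic) (v₀ : Fin n → ℂ) (τ₀ : ℂ) (h0 : (Pv P v₀).eval τ₀ = 0)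
    (h1 : (Pv P v₀).derivative.eval τ₀ ≠ 0) :
    ∃ (N : Set (Fin n → ℂ)) (D : Set ℂ) (ρ : (Fin n → ℂ) → ℂ), IsOpen N ∧ IsOpen D ∧
      v₀ ∈ N ∧ τ₀ ∈ D ∧ DifferentiableOn ℂ ρ N ∧ (∀ v ∈ N, ρ v ∈ D) ∧
      ∀ v ∈ N, ∀ τ ∈ D, ((Pv P v).eval τ = 0 ↔ τ = ρ v) := by
  obtain ⟨N, D, ρ, hN, hD, hc₀, hτ₀, hρ, hρD, hiff⟩ :=
    exists_root_fn_diff P.natDegree (cf P v₀) τ₀ (by rw [F_cf P hP]; exact h0)
      (by rw [dF_cf P hP]; exact h1)
  refine ⟨cf P ⁻¹' N, D, ρ ∘ cf P, hN.preimage (differentiable_cf P).continuous, hD, hc₀, hτ₀,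
    ?_, fun v hv => hρD _ hv, fun v hv τ hτ => ?_⟩
  · exact hρ.comp (differentiable_cf P).differentiableOn (fun v hv => hv)
  · rw [← F_cf P hP]
    exact hiff _ hv τ hτ

end Groth.Agent.Lib.Helper4.Sheets
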