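import Mathlib
import Groth.Agent.Lib.Helper4.Sheets

namespace Groth.Agent.Lib.Helper4.Sheets2
open Topology Filter Polynomial
open Groth.Agent.Lib.Helper4.Sheets

variable {n : ℕ} (P : (MvPolynomial (Fin n) ℂ)[X]) (h : MvPolynomial (Fin n) ℂ)

/-- The complement of the hypersurface. -/
def VV : Set (Fin n → ℂ) := {v | MvPolynomial.eval v h ≠ 0}

/-- The covering space. -/
def ZZ : Set ((Fin n → ℂ) × ℂ) :=
  {p | MvPolynomial.eval p.1 h ≠ 0 ∧ (Pv P p.1).eval p.2 = 0}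

lemma isOpen_VV : IsOpen (VV h) :=
  isOpen_ne_fun (MvPolynomial.continuous_eval h) continuous_const

/-- Standing hypotheses: monic with simple roots over `VV`. -/
structure Hyp : Prop where
  monic : P.Monic
  sep : ∀ p ∈ ZZ P h, (Pv P p.1).derivative.eval p.2 ≠ 0

variable {P h}

lemma mem_roots_iff (hyp : Hyp P h) (v : Fin n → ℂ) (τ : ℂ) :
    τ ∈ (Pv P v).roots.toFinset ↔ (Pv P v).eval τ = 0 := by
  rw [Multiset.mem_toFinset, Polynomial.mem_roots (Pv_monic P hyp.monic v).ne_zero]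
  rfl

lemma nodup_roots (hyp : Hyp P h) {v : Fin n → ℂ} (hv : v ∈ VV h) : (Pv P v).roots.Nodup := by
  rw [Multiset.nodup_iff_count_le_one]
  intro τ
  rw [Polynomial.count_roots]
  by_contra hcon
  push Not at hcon
  have hne : Pv P v ≠ 0 := (Pv_monic P hyp.monic v).ne_zero
  obtain ⟨hr, hdr⟩ := (Polynomial.one_lt_rootMultiplicity_iff_isRoot hne).1 hcon
  exact hyp.sep (v, τ) ⟨hv, hr⟩ hdr

lemma card_roots (hyp : Hyp P h) {v : Fin n → ℂ} (hv : v ∈ VV h) :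
    (Pv P v).roots.toFinset.card = P.natDegree := by
  rw [Multiset.toFinset_card_of_nodup (nodup_roots hyp hv)]
  have hs : (Pv P v).Splits := IsAlgClosed.splits _
  rw [Polynomial.splits_iff_card_roots.1 hs, Pv_natDegree P hyp.monic]

/-- Local structure of a clopen subset of the covering space. -/
theorem local_structure (hyp : Hyp P h) (A : Set ((Fin n → ℂ) × ℂ))
    (O O' : Set ((Fin n → ℂ) × ℂ)) (hO : IsOpen O) (hO' : IsOpen O')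
    (hA : A = ZZ P h ∩ O) (hA' : ZZ P h \ A = ZZ P h ∩ O') (v₀ : Fin n → ℂ) (hv₀ : v₀ ∈ VV h) :
    ∃ N : Set (Fin n → ℂ), IsOpen N ∧ v₀ ∈ N ∧ N ⊆ VV h ∧
      ∃ (S : Finset ℂ) (ρ : ℂ → (Fin n → ℂ) → ℂ), (∀ τ ∈ S, DifferentiableOn ℂ (ρ τ) N) ∧
        ∀ v ∈ N, Set.InjOn (fun τ => ρ τ v) (S : Set ℂ) ∧
          ∀ t, (v, t) ∈ A ↔ ∃ τ ∈ S, t = ρ τ v := by
  classical
  set R₀ : Finset ℂ := (Pv P v₀).roots.toFinset with hR₀
  have hR₀mem : ∀ τ, τ ∈ R₀ ↔ (Pv P v₀).eval τ = 0 := mem_roots_iff hyp v₀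
  -- local sheets
  have hsheet : ∀ τ : ℂ, τ ∈ R₀ → ∃ (N : Set (Fin n → ℂ)) (D : Set ℂ) (ρ : (Fin n → ℂ) → ℂ),
      IsOpen N ∧ IsOpen D ∧ v₀ ∈ N ∧ τ ∈ D ∧ DifferentiableOn ℂ ρ N ∧ (∀ v ∈ N, ρ v ∈ D) ∧
      ∀ v ∈ N, ∀ t ∈ D, ((Pv P v).eval t = 0 ↔ t = ρ v) := fun τ hτ =>
    exists_sheet P hyp.monic v₀ τ ((hR₀mem τ).1 hτ) (hyp.sep (v₀, τ) ⟨hv₀, (hR₀mem τ).1 hτ⟩)
  choose! Nf Df ρ hNf hDf hv₀Nf hτDf hρd hρD hiff using hsheet
  -- separate the roots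
  obtain ⟨U, hU, hUdisj⟩ := (Finset.finite_toSet R₀).t2_separation
  -- the open set attached to each root
  set Ok : ℂ → Set ((Fin n → ℂ) × ℂ) := fun τ => if (v₀, τ) ∈ A then O else O' with hOk
  have hOkopen : ∀ τ, IsOpen (Ok τ) := fun τ => by
    simp only [hOk]; split_ifs <;> assumption
  have hρv₀ : ∀ τ ∈ R₀, ρ τ v₀ = τ := fun τ hτ =>
    ((hiff τ hτ v₀ (hv₀Nf τ hτ) τ (hτDf τ hτ)).1 ((hR₀mem τ).1 hτ)).symm
  have hOkmem : ∀ τ ∈ R₀, (v₀, τ) ∈ Ok τ := fun τ hτ => by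
    have hZ : (v₀, τ) ∈ ZZ P h := ⟨hv₀, (hR₀mem τ).1 hτ⟩
    simp only [hOk]
    split_ifs with hmem
    · rw [hA] at hmem; exact hmem.2
    · have : (v₀, τ) ∈ ZZ P h \ A := ⟨hZ, hmem⟩
      rw [hA'] at this; exact this.2
  -- the neighbourhood
  set Nτ : ℂ → Set (Fin n → ℂ) := fun τ =>
    Nf τ ∩ (fun v => (v, ρ τ v)) ⁻¹' ((Set.univ ×ˢ U τ) ∩ Ok τ) with hNτ
  have hNτopen : ∀ τ ∈ R₀, IsOpen (Nτ τ) := fun τ hτ => by
    have hc : ContinuousOn (fun v => (v, ρ τ v)) (Nf τ) :=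
      continuousOn_id.prodMk (hρd τ hτ).continuousOn
    exact hc.isOpen_inter_preimage (hNf τ hτ)
      ((isOpen_univ.prod (hU τ).2).inter (hOkopen τ))
  set N : Set (Fin n → ℂ) := VV h ∩ ⋂ τ ∈ R₀, Nτ τ with hN
  have hNopen : IsOpen N := (isOpen_VV h).inter (isOpen_biInter_finset hNτopen)
  have hv₀N : v₀ ∈ N := by
    refine ⟨hv₀, Set.mem_iInter₂.2 fun τ hτ => ⟨hv₀Nf τ hτ, ?_⟩⟩
    show (v₀, ρ τ v₀) ∈ (Set.univ ×ˢ U τ) ∩ Ok τ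
    rw [hρv₀ τ hτ]
    exact ⟨⟨trivial, (hU τ).1⟩, hOkmem τ hτ⟩
  have hNmem : ∀ v ∈ N, ∀ τ ∈ R₀, v ∈ Nf τ ∧ ρ τ v ∈ U τ ∧ (v, ρ τ v) ∈ Ok τ := by
    intro v hv τ hτ
    have := Set.mem_iInter₂.1 hv.2 τ hτ
    exact ⟨this.1, this.2.1.2, this.2.2⟩
  refine ⟨N, hNopen, hv₀N, fun v hv => hv.1, R₀.filter (fun τ => (v₀, τ) ∈ A), ρ, ?_, ?_⟩
  · intro τ hτ
    exact (hρd τ (Finset.mem_filter.1 hτ).1).mono fun v hv => (hNmem v hv τ (Finset.mem_filter.1 hτ).1).1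
  intro v hv
  have hvV : v ∈ VV h := hv.1
  -- injectivity on all of R₀
  have hinj : Set.InjOn (fun τ => ρ τ v) (R₀ : Set ℂ) := by
    intro τ hτ τ' hτ' heq
    by_contra hne
    have hd := hUdisj hτ hτ' hne
    have h1 : ρ τ v ∈ U τ := (hNmem v hv τ hτ).2.1
    have h2 : ρ τ v ∈ U τ' := by
      have : ρ τ v = ρ τ' v := heq
      rw [this]; exact (hNmem v hv τ' hτ').2.1
    exact Set.disjoint_left.1 hd h1 h2
  -- the sheet values are roots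
  have hroot : ∀ τ ∈ R₀, (Pv P v).eval (ρ τ v) = 0 := fun τ hτ =>
    (hiff τ hτ v (hNmem v hv τ hτ).1 (ρ τ v) (hρD τ hτ v (hNmem v hv τ hτ).1)).2 rfl
  -- all roots are sheet values
  have hall : (Pv P v).roots.toFinset = R₀.image (fun τ => ρ τ v) := by
    symm
    apply Finset.eq_of_subset_of_card_le
    · intro t ht
      obtain ⟨τ, hτ, rfl⟩ := Finset.mem_image.1 ht
      exact (mem_roots_iff hyp v _).2 (hroot τ hτ)
    · rw [Finset.card_image_of_injOn hinj, card_roots hyp hvV, hR₀, card_roots hyp hv₀]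
  refine ⟨hinj.mono (fun τ hτ => (Finset.mem_filter.1 (Finset.mem_coe.1 hτ)).1), fun t => ?_⟩
  constructor
  · intro htA
    have htZ : (v, t) ∈ ZZ P h := by rw [hA] at htA; exact htA.1
    have : t ∈ (Pv P v).roots.toFinset := (mem_roots_iff hyp v t).2 htZ.2
    rw [hall] at this
    obtain ⟨τ, hτ, rfl⟩ := Finset.mem_image.1 this
    refine ⟨τ, Finset.mem_filter.2 ⟨hτ, ?_⟩, rfl⟩
    by_contra hnot
    have hOk' : Ok τ = O' := by simp only [hOk, if_neg hnot]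
    have h1 : (v, ρ τ v) ∈ O' := hOk' ▸ (hNmem v hv τ hτ).2.2
    have h2 : (v, ρ τ v) ∈ ZZ P h \ A := by rw [hA']; exact ⟨htZ, h1⟩
    exact h2.2 htA
  · rintro ⟨τ, hτ, rfl⟩
    obtain ⟨hτR, hτA⟩ := Finset.mem_filter.1 hτ
    have hOk' : Ok τ = O := by simp only [hOk, if_pos hτA]
    have h1 : (v, ρ τ v) ∈ O := hOk' ▸ (hNmem v hv τ hτR).2.2
    rw [hA]
    exact ⟨⟨hvV, hroot τ hτR⟩, h1⟩

end Groth.Agent.Lib.Helper4.Sheets2
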