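import Mathlib
import Groth.Agent.Lib.Helper4.Sheets2
import Groth.Agent.Lib.Helper4.HypCompl
import Groth.Agent.Lib.Helper4.RatFun
import Groth.Agent.Lib.Helper4.DensA2

namespace Groth.Agent.Lib.Helper4.Sheets3
open Topology Filter Polynomial
open Groth.Agent.Lib.Helper4.Sheets Groth.Agent.Lib.Helper4.Sheets2
open Groth.Agent.Lib.Helper4.RatFun

variable {n : ℕ} {P : (MvPolynomial (Fin n) ℂ)[X]} {h : MvPolynomial (Fin n) ℂ}

/-- Coefficients of a product of linear factors depending differentiably on a parameter. -/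
lemma differentiableOn_coeff_prod {E : Type*} [NormedAddCommGroup E] [NormedSpace ℂ E]
    (N : Set E) (S : Finset ℂ) (ρ : ℂ → E → ℂ) (hρ : ∀ τ ∈ S, DifferentiableOn ℂ (ρ τ) N) :
    ∀ j : ℕ, DifferentiableOn ℂ (fun v => (∏ τ ∈ S, (X - C (ρ τ v))).coeff j) N := by
  classical
  induction S using Finset.induction_on with
  | empty =>
    intro j
    simp only [Finset.prod_empty]
    exact differentiableOn_const _
  | insert a S ha ih =>
    intro j
    have ih' := ih fun τ hτ => hρ τ (Finset.mem_insert_of_mem hτ)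
    have ha' := hρ a (Finset.mem_insert_self a S)
    simp only [Finset.prod_insert ha, sub_mul, coeff_sub, coeff_C_mul]
    cases j with
    | zero =>
      simp only [coeff_X_mul_zero, zero_sub]
      exact (ha'.mul (ih' 0)).neg
    | succ j =>
      simp only [coeff_X_mul]
      exact (ih' j).sub (ha'.mul (ih' (j + 1)))

section clopen

variable (A : Set ((Fin n → ℂ) × ℂ))

open Classical in
/-- The roots belonging to the clopen piece. -/
noncomputable def RA (P : (MvPolynomial (Fin n) ℂ)[X]) (v : Fin n → ℂ) : Finset ℂ :=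
  (Pv P v).roots.toFinset.filter fun t => (v, t) ∈ A

/-- The polynomial of the clopen piece. -/
noncomputable def PA (P : (MvPolynomial (Fin n) ℂ)[X]) (v : Fin n → ℂ) : ℂ[X] :=
  ∏ t ∈ RA A P v, (X - C t)

lemma PA_monic (v : Fin n → ℂ) : (PA A P v).Monic :=
  monic_prod_of_monic _ _ fun t _ => monic_X_sub_C t

lemma PA_natDegree (v : Fin n → ℂ) : (PA A P v).natDegree = (RA A P v).card :=
  natDegree_finsetProd_X_sub_C_eq_card _ _

variable {A}

theorem local_PA (hyp : Hyp P h)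
    (O O' : Set ((Fin n → ℂ) × ℂ)) (hO : IsOpen O) (hO' : IsOpen O')
    (hA : A = ZZ P h ∩ O) (hA' : ZZ P h \ A = ZZ P h ∩ O') (v₀ : Fin n → ℂ) (hv₀ : v₀ ∈ VV h) :
    ∃ N : Set (Fin n → ℂ), IsOpen N ∧ v₀ ∈ N ∧ N ⊆ VV h ∧
      ∃ (S : Finset ℂ) (ρ : ℂ → (Fin n → ℂ) → ℂ), (∀ τ ∈ S, DifferentiableOn ℂ (ρ τ) N) ∧
        ∀ v ∈ N, PA A P v = ∏ τ ∈ S, (X - C (ρ τ v)) ∧ (RA A P v).card = S.card := by
  classical
  obtain ⟨N, hN, hv₀N, hNV, S, ρ, hρ, hloc⟩ :=
    local_structure hyp A O O' hO hO' hA hA' v₀ hv₀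
  refine ⟨N, hN, hv₀N, hNV, S, ρ, hρ, fun v hv => ?_⟩
  obtain ⟨hinj, hmem⟩ := hloc v hv
  have hRA : RA A P v = S.image (fun τ => ρ τ v) := by
    ext t
    simp only [RA, Finset.mem_filter, Finset.mem_image]
    constructor
    · rintro ⟨-, htA⟩
      obtain ⟨τ, hτ, rfl⟩ := (hmem t).1 htA
      exact ⟨τ, hτ, rfl⟩
    · rintro ⟨τ, hτ, rfl⟩
      have htA : (v, ρ τ v) ∈ A := (hmem _).2 ⟨τ, hτ, rfl⟩
      refine ⟨?_, htA⟩
      have hZ : (v, ρ τ v) ∈ ZZ P h := by rw [hA] at htA; exact htA.1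
      exact (mem_roots_iff hyp v _).2 hZ.2
  refine ⟨?_, ?_⟩
  · unfold PA
    rw [hRA, Finset.prod_image hinj]
  · rw [hRA, Finset.card_image_of_injOn hinj]

theorem card_RA_const (hyp : Hyp P h)
    (O O' : Set ((Fin n → ℂ) × ℂ)) (hO : IsOpen O) (hO' : IsOpen O')
    (hA : A = ZZ P h ∩ O) (hA' : ZZ P h \ A = ZZ P h ∩ O') {v w : Fin n → ℂ}
    (hv : v ∈ VV h) (hw : w ∈ VV h) : (RA A P v).card = (RA A P w).card := by
  have hpre : IsPreconnected (VV h) := Groth.Agent.Lib.Helper4.HypCompl.isPreconnected_compl h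
  refine hpre.constant (f := fun v => (RA A P v).card) ?_ hv hw
  intro v₀ hv₀
  obtain ⟨N, hN, hv₀N, -, S, ρ, -, hloc⟩ := local_PA hyp O O' hO hO' hA hA' v₀ hv₀
  have hev : (fun v => (RA A P v).card) =ᶠ[𝓝 v₀] fun _ => S.card := by
    filter_upwards [hN.mem_nhds hv₀N] with v hv
    exact (hloc v hv).2
  exact (continuousAt_const.congr hev.symm).continuousWithinAt

theorem differentiableOn_coeff_PA (hyp : Hyp P h)
    (O O' : Set ((Fin n → ℂ) × ℂ)) (hO : IsOpen O) (hO' : IsOpen O')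
    (hA : A = ZZ P h ∩ O) (hA' : ZZ P h \ A = ZZ P h ∩ O') (j : ℕ) :
    DifferentiableOn ℂ (fun v => (PA A P v).coeff j) (VV h) := by
  intro v₀ hv₀
  obtain ⟨N, hN, hv₀N, -, S, ρ, hρ, hloc⟩ := local_PA hyp O O' hO hO' hA hA' v₀ hv₀
  have h1 := differentiableOn_coeff_prod N S ρ hρ j
  have h2 : DifferentiableAt ℂ (fun v => (∏ τ ∈ S, (X - C (ρ τ v))).coeff j) v₀ :=
    (h1 v₀ hv₀N).differentiableAt (hN.mem_nhds hv₀N)
  have hev : (fun v => (PA A P v).coeff j) =ᶠ[𝓝 v₀]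
      fun v => (∏ τ ∈ S, (X - C (ρ τ v))).coeff j := by
    filter_upwards [hN.mem_nhds hv₀N] with v hv
    rw [(hloc v hv).1]
  exact (h2.congr_of_eventuallyEq hev).differentiableWithinAt

end clopen

end Groth.Agent.Lib.Helper4.Sheets3
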