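import Mathlib
import Groth.Agent.Lib.Helper4.Sheets3

namespace Groth.Agent.Lib.Helper4.Sheets4
open Topology Filter Polynomial
open Groth.Agent.Lib.Helper4.Sheets Groth.Agent.Lib.Helper4.Sheets2 Groth.Agent.Lib.Helper4.Sheets3
open Groth.Agent.Lib.Helper4.RatFun

variable {n : ℕ} {P : (MvPolynomial (Fin n) ℂ)[X]} {h : MvPolynomial (Fin n) ℂ}

lemma sum_growth (s : Finset ℕ) (p : ℕ → MvPolynomial (Fin n) ℂ) :
    ∃ (C : ℝ) (N : ℕ), 0 ≤ C ∧ ∀ v : Fin n → ℂ,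
      ∑ i ∈ s, ‖MvPolynomial.eval v (p i)‖ ≤ C * (1 + ‖v‖) ^ N := by
  classical
  induction s using Finset.induction_on with
  | empty => exact ⟨0, 0, le_rfl, fun v => by simp⟩
  | insert a s ha ih =>
    obtain ⟨C, N, hC, hs⟩ := ih
    obtain ⟨C', N', hC', hp⟩ := mv_growth (p a)
    refine ⟨C' + C, max N' N, by positivity, fun v => ?_⟩
    have h1 : (1 : ℝ) ≤ 1 + ‖v‖ := by linarith [norm_nonneg v]
    rw [Finset.sum_insert ha]
    have e1 : (1 + ‖v‖) ^ N' ≤ (1 + ‖v‖) ^ (max N' N) := pow_le_pow_right₀ h1 (le_max_left _ _)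
    have e2 : (1 + ‖v‖) ^ N ≤ (1 + ‖v‖) ^ (max N' N) := pow_le_pow_right₀ h1 (le_max_right _ _)
    calc _ ≤ C' * (1 + ‖v‖) ^ N' + C * (1 + ‖v‖) ^ N := add_le_add (hp v) (hs v)
      _ ≤ C' * (1 + ‖v‖) ^ (max N' N) + C * (1 + ‖v‖) ^ (max N' N) :=
        add_le_add (mul_le_mul_of_nonneg_left e1 hC') (mul_le_mul_of_nonneg_left e2 hC)
      _ = (C' + C) * (1 + ‖v‖) ^ (max N' N) := by ring

variable (A : Set ((Fin n → ℂ) × ℂ))

lemma root_PA_mem {v : Fin n → ℂ} {z : ℂ} (hz : z ∈ (PA A P v).roots) : z ∈ RA A P v := by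
  have hne : PA A P v ≠ 0 := (PA_monic A v).ne_zero
  have h0 : (PA A P v).eval z = 0 := (Polynomial.mem_roots hne).1 hz
  unfold PA at h0
  rw [eval_prod, Finset.prod_eq_zero_iff] at h0
  obtain ⟨t, ht, h1⟩ := h0
  simp only [eval_sub, eval_X, eval_C, sub_eq_zero] at h1
  rw [h1]; exact ht

theorem bound_coeff_PA (hyp : Hyp P h) (j : ℕ) :
    ∃ (C : ℝ) (N : ℕ), 0 ≤ C ∧ ∀ v, v ∈ VV h → ‖(PA A P v).coeff j‖ ≤ C * (1 + ‖v‖) ^ N := by
  classical
  set d := P.natDegree with hd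
  obtain ⟨C₀, N₀, hC₀, hB⟩ := sum_growth (Finset.range d) (fun i => P.coeff i)
  refine ⟨(C₀ + 1) ^ d * (d.choose (d / 2)), N₀ * d, by positivity, fun v hv => ?_⟩
  set B : ℝ := (∑ i ∈ Finset.range d, ‖MvPolynomial.eval v (P.coeff i)‖) + 1 with hBdef
  have hB1 : 1 ≤ B := by
    have : 0 ≤ ∑ i ∈ Finset.range d, ‖MvPolynomial.eval v (P.coeff i)‖ :=
      Finset.sum_nonneg fun i _ => norm_nonneg _
    linarith
  have h1v : (1 : ℝ) ≤ (1 + ‖v‖) ^ N₀ := one_le_pow₀ (by linarith [norm_nonneg v])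
  have hBle : B ≤ (C₀ + 1) * (1 + ‖v‖) ^ N₀ := by
    have := hB v
    rw [hBdef]
    nlinarith
  have hroots : ∀ z ∈ ((PA A P v).map (RingHom.id ℂ)).roots, ‖z‖ ≤ B := by
    intro z hz
    rw [Polynomial.map_id] at hz
    have hzR := root_PA_mem A hz
    have hzroot : (Pv P v).IsRoot z := by
      have := (Finset.mem_filter.1 hzR).1
      exact (mem_roots_iff hyp v z).1 this
    have := Groth.Agent.Lib.Helper4.DensA2.norm_root_lt (Pv P v) (Pv_monic P hyp.monic v) z hzroot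
    rw [Pv_natDegree P hyp.monic] at this
    simp only [Pv_coeff] at this
    exact this.le
  have hdeg : (PA A P v).natDegree ≤ d := by
    rw [PA_natDegree, hd, ← card_roots hyp hv]
    exact Finset.card_le_card (Finset.filter_subset _ _)
  have hsplit : ((PA A P v).map (RingHom.id ℂ)).Splits := IsAlgClosed.splits _
  have := Polynomial.coeff_bdd_of_roots_le (RingHom.id ℂ) (PA_monic A v) hsplit hdeg hroots j
  rw [Polynomial.map_id, max_eq_left hB1] at this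
  refine this.trans ?_
  have h2 : B ^ d ≤ ((C₀ + 1) * (1 + ‖v‖) ^ N₀) ^ d :=
    pow_le_pow_left₀ (by linarith) hBle d
  calc B ^ d * (d.choose (d / 2) : ℝ) ≤ ((C₀ + 1) * (1 + ‖v‖) ^ N₀) ^ d * (d.choose (d / 2) : ℝ) := by
        gcongr
    _ = (C₀ + 1) ^ d * (d.choose (d / 2) : ℝ) * (1 + ‖v‖) ^ (N₀ * d) := by
        rw [mul_pow, ← pow_mul]; ring


lemma PA_dvd (hyp : Hyp P h) {v : Fin n → ℂ} (hv : v ∈ VV h) : PA A P v ∣ Pv P v := by
  classical
  have hs : (Pv P v).Splits := IsAlgClosed.splits _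
  have h1 := hs.eq_prod_roots_of_monic (Pv_monic P hyp.monic v)
  have h2 : ((Pv P v).roots.map (X - C ·)).prod = ∏ t ∈ (Pv P v).roots.toFinset, (X - C t) := by
    rw [Finset.prod_eq_multiset_prod, Multiset.toFinset_val,
      Multiset.dedup_eq_self.2 (nodup_roots hyp hv)]
  rw [h2] at h1
  rw [h1]
  exact Finset.prod_dvd_prod_of_subset _ _ _ (Finset.filter_subset _ _)

end Groth.Agent.Lib.Helper4.Sheets4
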