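import Mathlib
import Groth.Agent.Lib.Helper4.Sheets4

namespace Groth.Agent.Lib.Helper4.Sheets5
open Topology Filter Polynomial
open Groth.Agent.Lib.Helper4.Sheets Groth.Agent.Lib.Helper4.Sheets2 Groth.Agent.Lib.Helper4.Sheets3
open Groth.Agent.Lib.Helper4.Sheets4 Groth.Agent.Lib.Helper4.RatFun

variable {n : ℕ} {P : (MvPolynomial (Fin n) ℂ)[X]} {h : MvPolynomial (Fin n) ℂ}

/-- The candidate factor. -/
noncomputable def QQ (m : ℕ) (G : ℕ → MvPolynomial (Fin n) ℂ) (h : MvPolynomial (Fin n) ℂ) :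
    (MvPolynomial (Fin n) ℂ)[X] :=
  X ^ m + ∑ j ∈ Finset.range m, C (G j * h ^ (m - 1 - j)) * X ^ j

lemma QQ_degree_lt (m : ℕ) (G : ℕ → MvPolynomial (Fin n) ℂ) :
    (∑ j ∈ Finset.range m, C (G j * h ^ (m - 1 - j)) * X ^ j).degree < (m : WithBot ℕ) := by
  refine (Polynomial.degree_sum_le _ _).trans_lt ?_
  refine (Finset.sup_lt_iff (WithBot.bot_lt_coe m)).2 ?_
  intro j hj
  refine (Polynomial.degree_C_mul_X_pow_le _ _).trans_lt ?_
  exact WithBot.coe_lt_coe.2 (Finset.mem_range.1 hj)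

lemma QQ_monic (m : ℕ) (G : ℕ → MvPolynomial (Fin n) ℂ) : (QQ m G h).Monic :=
  Polynomial.monic_X_pow_add (QQ_degree_lt m G)

lemma QQ_natDegree (m : ℕ) (G : ℕ → MvPolynomial (Fin n) ℂ) : (QQ m G h).natDegree = m := by
  unfold QQ
  rw [Polynomial.natDegree_add_eq_left_of_degree_lt]
  · exact natDegree_X_pow m
  · rw [degree_X_pow]
    exact QQ_degree_lt m G

lemma QQ_coeff (m : ℕ) (G : ℕ → MvPolynomial (Fin n) ℂ) (i : ℕ) :
    (QQ m G h).coeff i =
      if i = m then 1 else if i < m then G i * h ^ (m - 1 - i) else 0 := by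
  unfold QQ
  rw [coeff_add, coeff_X_pow, Polynomial.finsetSum_coeff]
  simp only [coeff_C_mul, coeff_X_pow]
  by_cases him : i = m
  · subst him
    simp
  · rw [if_neg him, if_neg him, zero_add]
    by_cases hlt : i < m
    · rw [if_pos hlt, Finset.sum_eq_single i]
      · simp
      · intro b _ hb
        rw [if_neg (Ne.symm hb), mul_zero]
      · intro hi
        exact absurd (Finset.mem_range.2 hlt) hi
    · rw [if_neg hlt]
      refine Finset.sum_eq_zero fun b hb => ?_
      have : i ≠ b := fun e => hlt (e ▸ Finset.mem_range.1 hb)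
      rw [if_neg this, mul_zero]

lemma mem_RA (A : Set ((Fin n → ℂ) × ℂ)) (v : Fin n → ℂ) (t : ℂ) :
    t ∈ RA A P v ↔ t ∈ (Pv P v).roots.toFinset ∧ (v, t) ∈ A := by
  classical
  unfold RA
  rw [Finset.mem_filter]

lemma RA_subset (A : Set ((Fin n → ℂ) × ℂ)) (v : Fin n → ℂ) :
    RA A P v ⊆ (Pv P v).roots.toFinset := by
  intro t ht
  exact ((mem_RA A v t).1 ht).1

lemma QQ_map (A : Set ((Fin n → ℂ) × ℂ)) (m : ℕ) (G : ℕ → MvPolynomial (Fin n) ℂ)
    (v : Fin n → ℂ) (hm : (RA A P v).card = m)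
    (hG : ∀ j, MvPolynomial.eval v h * (PA A P v).coeff j = MvPolynomial.eval v (G j)) :
    (QQ m G h).map (MvPolynomial.eval v) = (PA A P v).scaleRoots (MvPolynomial.eval v h) := by
  have hdeg : (PA A P v).natDegree = m := by rw [PA_natDegree, hm]
  ext i
  rw [coeff_map, QQ_coeff, coeff_scaleRoots, hdeg]
  by_cases him : i = m
  · subst him
    have : (PA A P v).coeff i = 1 := by
      have := (PA_monic A v (P := P)).coeff_natDegree
      rwa [hdeg] at this
    simp [this]
  · rw [if_neg him]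
    by_cases hlt : i < m
    · rw [if_pos hlt, map_mul, map_pow, ← hG i]
      have : m - i = (m - 1 - i) + 1 := by omega
      rw [this, pow_succ]
      ring
    · rw [if_neg hlt, map_zero]
      have : (PA A P v).coeff i = 0 :=
        coeff_eq_zero_of_natDegree_lt (by rw [hdeg]; omega)
      rw [this, zero_mul]

/-- The covering space of an irreducible polynomial is preconnected. -/
theorem isPreconnected_ZZ {K : Type*} [Field K] [Algebra (MvPolynomial (Fin n) ℂ) K]
    (hinj : Function.Injective (algebraMap (MvPolynomial (Fin n) ℂ) K))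
    (hyp : Hyp P h) (hirr : Irreducible (P.map (algebraMap (MvPolynomial (Fin n) ℂ) K))) :
    IsPreconnected (ZZ P h) := by
  classical
  rw [isPreconnected_iff_subset_of_disjoint]
  intro O O' hO hO' hcov hdisj
  by_contra hcon
  push Not at hcon
  obtain ⟨hnO, hnO'⟩ := hcon
  set A : Set ((Fin n → ℂ) × ℂ) := ZZ P h ∩ O with hAdef
  have hA' : ZZ P h \ A = ZZ P h ∩ O' := by
    ext z
    constructor
    · rintro ⟨hz, hzA⟩
      refine ⟨hz, ?_⟩
      rcases hcov hz with h1 | h1
      · exact absurd ⟨hz, h1⟩ hzA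
      · exact h1
    · rintro ⟨hz, hzO'⟩
      refine ⟨hz, fun hzA => ?_⟩
      have : z ∈ ZZ P h ∩ (O ∩ O') := ⟨hz, hzA.2, hzO'⟩
      rw [hdisj] at this
      exact this
  obtain ⟨z₁, hz₁Z, hz₁O⟩ := Set.not_subset.1 hnO
  obtain ⟨z₂, hz₂Z, hz₂O'⟩ := Set.not_subset.1 hnO'
  have hz₂A : z₂ ∈ A := by
    refine ⟨hz₂Z, ?_⟩
    rcases hcov hz₂Z with h1 | h1
    · exact h1
    · exact absurd h1 hz₂O'
  have hz₁A : z₁ ∉ A := fun hc => hz₁O hc.2
  have hv₁ : z₁.1 ∈ VV h := hz₁Z.1
  have hv₂ : z₂.1 ∈ VV h := hz₂Z.1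
  set m := (RA A P z₂.1).card with hm
  have hconst : ∀ v, v ∈ VV h → (RA A P v).card = m := fun v hv =>
    card_RA_const hyp O O' hO hO' hAdef hA' hv hv₂
  have hmpos : 0 < m := by
    rw [hm, Finset.card_pos]
    refine ⟨z₂.2, ?_⟩
    rw [mem_RA]
    exact ⟨(mem_roots_iff hyp _ _).2 hz₂Z.2, hz₂A⟩
  have hmlt : m < P.natDegree := by
    rw [← hconst z₁.1 hv₁, ← card_roots hyp hv₁]
    apply Finset.card_lt_card
    refine ⟨RA_subset A _, fun hsub => ?_⟩
    have h1 : z₁.2 ∈ (Pv P z₁.1).roots.toFinset := (mem_roots_iff hyp _ _).2 hz₁Z.2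
    have h2 := hsub h1
    rw [mem_RA] at h2
    exact hz₁A h2.2
  -- the rational coefficient functions
  have hex : ∀ j, ∃ G : MvPolynomial (Fin n) ℂ, ∀ v, MvPolynomial.eval v h ≠ 0 →
      MvPolynomial.eval v h * (PA A P v).coeff j = MvPolynomial.eval v G := by
    intro j
    obtain ⟨C₁, N₁, hC₁, hb⟩ := bound_coeff_PA A hyp j
    exact exists_mvPoly_of_diff_growth h (fun v => (PA A P v).coeff j)
      (differentiableOn_coeff_PA hyp O O' hO hO' hAdef hA' j) C₁ hC₁ N₁ hb
  choose G hG using hex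
  have hh0 : h ≠ 0 := by
    rintro rfl
    exact hv₂ (by simp)
  set Q := QQ m G h with hQ
  have hQmonic : Q.Monic := QQ_monic m G
  have hQmap : ∀ v, v ∈ VV h →
      Q.map (MvPolynomial.eval v) = (PA A P v).scaleRoots (MvPolynomial.eval v h) :=
    fun v hv => QQ_map A m G v (hconst v hv) fun j => hG j v hv
  set Pt := P.scaleRoots h with hPt
  have hPtmap : ∀ v, Pt.map (MvPolynomial.eval v) =
      (Pv P v).scaleRoots (MvPolynomial.eval v h) := fun v => by
    rw [hPt, map_scaleRoots]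
    · rfl
    · rw [hyp.monic.leadingCoeff, map_one]; exact one_ne_zero
  have hrem : Pt %ₘ Q = 0 := by
    refine Polynomial.ext fun i => ?_
    rw [coeff_zero]
    set r := (Pt %ₘ Q).coeff i with hr
    have hrh : r * h = 0 := by
      apply MvPolynomial.funext
      intro v
      rw [map_mul, map_zero]
      by_cases hv : MvPolynomial.eval v h = 0
      · rw [hv, mul_zero]
      · have h1 : (Pt %ₘ Q).map (MvPolynomial.eval v) = 0 := by
          rw [Polynomial.map_modByMonic _ hQmonic,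
            Polynomial.modByMonic_eq_zero_iff_dvd (hQmonic.map _), hQmap v hv, hPtmap]
          exact scaleRoots_dvd _ _ (PA_dvd A hyp hv)
        have h2 : MvPolynomial.eval v r = 0 := by
          rw [hr, ← coeff_map, h1, coeff_zero]
        rw [h2, zero_mul]
    exact (mul_eq_zero.1 hrh).resolve_right hh0
  have hQdvd : Q ∣ Pt := (Polynomial.modByMonic_eq_zero_iff_dvd hQmonic).1 hrem
  -- pass to the field and scale back
  set φ := algebraMap (MvPolynomial (Fin n) ℂ) K with hφ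
  have hφh : φ h ≠ 0 := fun h0 => hh0 (hinj (by rw [h0, map_zero]))
  have hu : IsUnit (φ h) := hφh.isUnit
  have h1 : Q.map φ ∣ (P.map φ).scaleRoots (φ h) := by
    rw [← map_scaleRoots]
    · exact Polynomial.map_dvd φ hQdvd
    · rw [hyp.monic.leadingCoeff, map_one]; exact one_ne_zero
  have h2 : ((Q.map φ).scaleRoots (φ h)⁻¹).scaleRoots (φ h) = Q.map φ := by
    rw [← scaleRoots_mul, inv_mul_cancel₀ hφh, scaleRoots_one]
  rw [← h2, scaleRoots_dvd_iff _ _ hu] at h1
  set Q' := (Q.map φ).scaleRoots (φ h)⁻¹ with hQ'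
  have hQ'monic : Q'.Monic := (monic_scaleRoots_iff _).2 (hQmonic.map φ)
  have hQ'deg : Q'.natDegree = m := by
    rw [hQ', natDegree_scaleRoots, (hQmonic).natDegree_map, hQ, QQ_natDegree]
  obtain ⟨W, hW⟩ := h1
  have hPdeg : (P.map φ).natDegree = P.natDegree := hyp.monic.natDegree_map φ
  have hW0 : W ≠ 0 := by
    rintro rfl
    rw [mul_zero] at hW
    exact (hyp.monic.map φ).ne_zero hW
  have hdegsum : P.natDegree = m + W.natDegree := by
    rw [← hPdeg, hW, Polynomial.natDegree_mul hQ'monic.ne_zero hW0, hQ'deg]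
  rcases hirr.isUnit_or_isUnit hW with hU | hU
  · have := Polynomial.natDegree_eq_zero_of_isUnit hU
    omega
  · have := Polynomial.natDegree_eq_zero_of_isUnit hU
    omega

end Groth.Agent.Lib.Helper4.Sheets5
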