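import Mathlib
import Groth.Agent.Lib.Helper4.Sheets5
import Groth.Agent.Lib.Helper4.NormData2
import Groth.Agent.Lib.Helper4.LieOver
import Groth.Agent.Lib.Helper4.FinProper
import Groth.Agent.Lib.Helper4.DensSch3

namespace Groth.Agent.Lib.Helper4.ConnAff
open AlgebraicGeometry CategoryTheory TopologicalSpace Opposite An Topology Polynomial
open Groth.Agent.Lib.Helper4.AnEv Groth.Agent.Lib.Helper4.AnGen
open Groth.Agent.Lib.Helper4.Sheets Groth.Agent.Lib.Helper4.Sheets2
open Groth.Agent.Lib.Helper4.Sheets5 Groth.Agent.Lib.Helper4.NormData2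
open Groth.Agent.Lib.Helper4.LieOver Groth.Agent.Lib.Helper4.FinProper
open Groth.Agent.Lib.Helper4.DensSch3

variable {X : Scheme.{0}} [X.Over SC]

theorem finiteType_top [IsAffine X] [LocallyOfFiniteType (X ↘ SC)] :
    @Algebra.FiniteType ℂ Γ(X, ⊤) _ _ (strHom X).toAlgebra := by
  have h1 : (X ↘ SC).appTop.hom.FiniteType :=
    (HasRingHomProperty.iff_of_isAffine (P := @LocallyOfFiniteType)).1 inferInstance
  have h2 : (strHom X).FiniteType := by
    unfold strHom
    refine h1.comp (RingHom.FiniteType.of_surjective _ ?_)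
    exact (ConcreteCategory.bijective_of_isIso (Scheme.ΓSpecIso (CommRingCat.of ℂ)).inv).2
  exact h2

section data

variable {n : ℕ} (g : MvPolynomial (Fin n) ℂ →+* Γ(X, ⊤)) (t : Γ(X, ⊤))

/-- The coordinate map. -/
noncomputable def Psi (ξ : Pts X) : (Fin n → ℂ) × ℂ :=
  (fun i => ξ.evTop (g (MvPolynomial.X i)), ξ.evTop t)

lemma continuous_Psi : Continuous (Psi g t) :=
  (continuous_pi fun i => continuous_evTop _).prodMk (continuous_evTop t)

variable {g t}

lemma evTop_g (hg : ∀ c, g (MvPolynomial.C c) = strHom X c) (ξ : Pts X)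
    (r : MvPolynomial (Fin n) ℂ) :
    ξ.evTop (g r) = MvPolynomial.eval (Psi g t ξ).1 r := by
  have h1 : (evHom ξ ⊤ (Opens.mem_top _)).comp g = MvPolynomial.eval (Psi g t ξ).1 := by
    apply MvPolynomial.ringHom_ext
    · intro c
      rw [RingHom.comp_apply, hg, MvPolynomial.eval_C]
      exact evTop_strHom ξ c
    · intro i
      rw [RingHom.comp_apply, MvPolynomial.eval_X]
      rfl
  exact congrArg (fun φ : MvPolynomial (Fin n) ℂ →+* ℂ => φ r) h1

lemma evTop_eval₂ (hg : ∀ c, g (MvPolynomial.C c) = strHom X c) (ξ : Pts X)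
    (q : (MvPolynomial (Fin n) ℂ)[X]) :
    ξ.evTop (q.eval₂ g t) = (Pv q (Psi g t ξ).1).eval (Psi g t ξ).2 := by
  have h1 : (evHom ξ ⊤ (Opens.mem_top _)).comp g = MvPolynomial.eval (Psi g t ξ).1 :=
    RingHom.ext fun r => evTop_g (t := t) hg ξ r
  unfold Pv
  rw [Polynomial.eval_map, ← h1]
  exact Polynomial.hom_eval₂ q g (evHom ξ ⊤ (Opens.mem_top _)) t

end data


lemma continuous_Pv_eval {n : ℕ} (q : (MvPolynomial (Fin n) ℂ)[X]) :
    Continuous fun p : (Fin n → ℂ) × ℂ => (Pv q p.1).eval p.2 := by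
  have : (fun p : (Fin n → ℂ) × ℂ => (Pv q p.1).eval p.2) = fun p =>
      ∑ i ∈ Finset.range (q.natDegree + 1), MvPolynomial.eval p.1 (q.coeff i) * p.2 ^ i := by
    funext p
    unfold Pv
    rw [Polynomial.eval_map, Polynomial.eval₂_eq_sum_range]
  rw [this]
  refine continuous_finsetSum _ fun i _ => ?_
  exact ((MvPolynomial.continuous_eval (q.coeff i)).comp continuous_fst).mul
    (continuous_snd.pow i)

/-- The `ℂ`-points of an integral affine scheme of finite type over `ℂ` form a preconnected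
space. -/
theorem preconnectedSpace_of_isIntegral_of_isAffine [IsAffine X] [IsIntegral X]
    [LocallyOfFiniteType (X ↘ SC)] : PreconnectedSpace (Pts X) := by
  letI : Algebra ℂ Γ(X, ⊤) := (strHom X).toAlgebra
  haveI : Algebra.FiniteType ℂ Γ(X, ⊤) := finiteType_top
  obtain ⟨n, g, t, P, h, ginj, gint, hmon, hh, hroot, hdvd, hirr, ⟨w, hw⟩, hall⟩ :=
    exists_normalization_data Γ(X, ⊤)
  have hg : ∀ c, g.toRingHom (MvPolynomial.C c) = strHom X c := fun c => g.commutes c
  set Ψ := Psi g.toRingHom t with hΨ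
  -- surjectivity onto roots
  have hsurj : ∀ v τ, (Pv P v).eval τ = 0 → ∃ ξ : Pts X, Ψ ξ = (v, τ) := by
    intro v τ hvt
    obtain ⟨ψ, hψg, hψt⟩ := exists_algHom_of_root Γ(X, ⊤) g gint t P hdvd v τ hvt
    obtain ⟨ξ, hξ⟩ := exists_pt_of_ringHom (X := X) ψ.toRingHom (fun c => ψ.commutes c)
    refine ⟨ξ, Prod.ext (funext fun i => ?_) ?_⟩
    · show ξ.evTop (g (MvPolynomial.X i)) = v i
      rw [hξ]
      exact (hψg _).trans (MvPolynomial.eval_X i)
    · show ξ.evTop t = τ
      rw [hξ]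
      exact hψt
  -- the standing hypotheses
  have hyp : Hyp P h := by
    refine ⟨hmon, fun p hp h0 => ?_⟩
    obtain ⟨ξ, hξ⟩ := hsurj p.1 p.2 hp.2
    have h1 : ξ.evTop (eval₂ g.toRingHom t (derivative P)) * ξ.evTop w = ξ.evTop (g h) :=
      (AnEv.ev_mul ξ ⊤ (Opens.mem_top _) _ w).symm.trans (congrArg ξ.evTop hw)
    have h2 := evTop_eval₂ (t := t) hg ξ (derivative P)
    have h3 := evTop_g (t := t) hg ξ h
    rw [← hΨ, hξ] at h2 h3
    have h4 : Pv (derivative P) p.1 = derivative (Pv P p.1) := by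
      unfold Pv
      rw [Polynomial.derivative_map]
    rw [h4, h0] at h2
    have h5 : ξ.evTop (g h) = 0 := by
      rw [← h1, h2, zero_mul]
    exact hp.1 (h3 ▸ h5)
  have hZ : IsPreconnected (ZZ P h) :=
    isPreconnected_ZZ (K := FractionRing (MvPolynomial (Fin n) ℂ))
      (IsFractionRing.injective _ _) hyp hirr
  -- the dense open subset
  set U : Set (Pts X) := {ξ | ξ.evTop (g h) ≠ 0} with hU
  have hUZ : ∀ ξ ∈ U, Ψ ξ ∈ ZZ P h := by
    intro ξ hξ
    refine ⟨?_, ?_⟩
    · rw [hΨ, ← evTop_g (t := t) hg ξ h]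
      exact hξ
    · rw [hΨ, ← evTop_eval₂ hg ξ P, hroot]
      exact AnEv.ev_zero ξ ⊤ _
  let Ψ' : U → ZZ P h := fun ξ => ⟨Ψ ξ.1, hUZ ξ.1 ξ.2⟩
  have hΨ'c : Continuous Ψ' :=
    ((continuous_Psi g.toRingHom t).comp continuous_subtype_val).subtype_mk _
  have hΨ'surj : Function.Surjective Ψ' := by
    rintro ⟨p, hp⟩
    obtain ⟨ξ, hξ⟩ := hsurj p.1 p.2 hp.2
    have hξU : ξ ∈ U := by
      show ξ.evTop (g h) ≠ 0
      have h3 := evTop_g (t := t) hg ξ h
      rw [← hΨ, hξ] at h3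
      exact h3 ▸ hp.1
    exact ⟨⟨ξ, hξU⟩, Subtype.ext hξ⟩
  choose qf hqf using hall
  let Θ : ZZ P h → (Γ(X, ⊤) → ℂ) := fun p b =>
    (Pv (qf b) p.1.1).eval p.1.2 / MvPolynomial.eval p.1.1 h
  have hΘc : Continuous Θ := by
    refine continuous_pi fun b => ?_
    refine Continuous.div ?_ ?_ fun p => p.2.1
    · exact (continuous_Pv_eval (qf b)).comp continuous_subtype_val
    · exact (MvPolynomial.continuous_eval h).comp (continuous_fst.comp continuous_subtype_val)
  have hΦ : IsInducing (fun (ξ : Pts X) (r : Γ(X, ⊤)) => ξ.evTop r) :=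
    (isClosedEmbedding_all (X := X)).isInducing
  have hcomp : (fun (ξ : Pts X) (r : Γ(X, ⊤)) => ξ.evTop r) ∘ (Subtype.val : U → Pts X) =
      Θ ∘ Ψ' := by
    funext ξ b
    show ξ.1.evTop b = (Pv (qf b) (Ψ ξ.1).1).eval (Ψ ξ.1).2 / MvPolynomial.eval (Ψ ξ.1).1 h
    have h1 : ξ.1.evTop (g h) * ξ.1.evTop b = ξ.1.evTop (eval₂ g.toRingHom t (qf b)) :=
      (AnEv.ev_mul ξ.1 ⊤ (Opens.mem_top _) _ b).symm.trans (congrArg ξ.1.evTop (hqf b))
    have h2 : ξ.1.evTop (eval₂ g.toRingHom t (qf b)) = _ := evTop_eval₂ (t := t) hg ξ.1 (qf b)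
    have h3 := evTop_g (t := t) hg ξ.1 h
    rw [← hΨ] at h2 h3
    rw [eq_div_iff (by rw [← h3]; exact ξ.2), ← h3, ← h2, mul_comm]
    exact h1
  have hind : IsInducing Ψ' := by
    refine IsInducing.of_comp hΨ'c hΘc ?_
    rw [← hcomp]
    exact hΦ.comp IsInducing.subtypeVal
  have hUpre : IsPreconnected U := by
    haveI : PreconnectedSpace (ZZ P h) := isPreconnected_iff_preconnectedSpace.1 hZ
    have h1 : IsPreconnected (Ψ' '' Set.univ) := by
      rw [Set.image_univ_of_surjective hΨ'surj]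
      exact isPreconnected_univ
    have h2 : IsPreconnected (Set.univ : Set U) := (hind.isPreconnected_image).1 h1
    haveI : PreconnectedSpace U := ⟨h2⟩
    exact isPreconnected_iff_preconnectedSpace.2 inferInstance
  -- density
  have hUeq : U = Pts.pt ⁻¹' (X.basicOpen (g h) : Set X) := by
    ext ξ
    exact (mem_basicOpen_iff ξ ⊤ (Opens.mem_top _) (g h)).symm
  have hdense : Dense U := by
    haveI := isLocallyNoetherian_of_lft X
    rw [hUeq]
    refine (main4190 X (X.basicOpen (g h) : Set X)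
      (isLocallyConstructible_of_isOpen X (X.basicOpen (g h)).2)).1 ?_
    refine IsOpen.dense (X.basicOpen (g h)).2 ?_
    have hne : X.basicOpen (g h) ≠ ⊥ := by
      rw [Ne, basicOpen_eq_bot_iff]
      intro h0
      exact hh (ginj (by rw [h0, map_zero]))
    by_contra hcon
    apply hne
    ext x
    simp only [Opens.coe_bot, Set.mem_empty_iff_false, iff_false]
    exact fun hx => hcon ⟨x, hx⟩
  exact ⟨by rw [← hdense.closure_eq]; exact hUpre.closure⟩

end Groth.Agent.Lib.Helper4.ConnAff
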