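import Mathlib
import Groth.Agent.Lib.Helper4.ConnAff

namespace Groth.Agent.Lib.Helper4.AffCover
open AlgebraicGeometry CategoryTheory TopologicalSpace Opposite An Topology
open Groth.Agent.Lib.Helper4.AnEv Groth.Agent.Lib.Helper4.AnGen

variable {X : Scheme.{0}} [X.Over SC] [IsAffine X]
variable {R' : Type} [CommRing R'] (f : Γ(X, ⊤) →+* R')

/-- The projection. -/
noncomputable def proj : Spec (CommRingCat.of R') ⟶ X :=
  Spec.map (CommRingCat.ofHom f) ≫ X.isoSpec.inv

@[reducible] noncomputable def overY : (Spec (CommRingCat.of R')).Over SC :=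
  ⟨proj f ≫ X ↘ SC⟩

lemma proj_isOver : @Scheme.Hom.IsOver _ _ (proj f) SC (overY f) _ :=
  letI := overY f
  ⟨rfl⟩

/-- the element of the global sections attached to a ring element -/
noncomputable def gam : R' →+* Γ(Spec (CommRingCat.of R'), ⊤) :=
  (Scheme.ΓSpecIso (CommRingCat.of R')).inv.hom

lemma isoSpec_inv_appTop : X.isoSpec.inv.appTop = (Scheme.ΓSpecIso Γ(X, ⊤)).inv := by
  have h3 : X.isoSpec.hom.appTop ≫ X.isoSpec.inv.appTop = 𝟙 _ := by
    rw [← Scheme.Hom.comp_appTop]; simp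
  rw [Scheme.isoSpec_hom, Scheme.toSpecΓ_appTop] at h3
  rw [← cancel_epi (Scheme.ΓSpecIso Γ(X, ⊤)).hom, h3]; simp

lemma proj_appTop (b : Γ(X, ⊤)) : (proj f).appTop b = gam (f b) := by
  have h1 : (proj f).appTop = X.isoSpec.inv.appTop ≫ (Spec.map (CommRingCat.ofHom f)).appTop :=
    Scheme.Hom.comp_appTop _ _
  rw [h1, isoSpec_inv_appTop, CommRingCat.comp_apply]
  have h2 := Scheme.ΓSpecIso_inv_naturality (CommRingCat.ofHom f)
  have h3 := congrArg (fun φ => φ b) h2
  simp only [CommRingCat.comp_apply] at h3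
  exact h3.symm

lemma gam_surjective : Function.Surjective (gam (R' := R')) :=
  (ConcreteCategory.bijective_of_isIso (Scheme.ΓSpecIso (CommRingCat.of R')).inv).2

lemma hom_gam (r : R') : (Scheme.ΓSpecIso (CommRingCat.of R')).hom (gam r) = r := by
  show (Scheme.ΓSpecIso (CommRingCat.of R')).hom ((Scheme.ΓSpecIso (CommRingCat.of R')).inv r) = r
  rw [← CommRingCat.comp_apply, Iso.inv_hom_id]; rfl

section
lemma evTop_map_proj :
    letI := overY f
    haveI := proj_isOver f
    ∀ (y : Pts (Spec (CommRingCat.of R'))) (b : Γ(X, ⊤)),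
    (Pts.map (proj f) y).evTop b = y.evTop (gam (f b)) := by
  letI := overY f
  haveI := proj_isOver f
  intro y b
  rw [← proj_appTop]
  exact Pts.ev_map (proj f) y ⊤ (Opens.mem_top _) b

lemma strHom_YY :
    letI := overY f
    ∀ (c : ℂ), strHom (Spec (CommRingCat.of R')) c = gam (f (strHom X c)) := by
  letI := overY f
  intro c
  rw [← proj_appTop]
  show ((proj f ≫ X ↘ SC).appTop) ((Scheme.ΓSpecIso (CommRingCat.of ℂ)).inv c) = _
  rw [Scheme.Hom.comp_appTop]
  rfl

theorem exists_pt_over :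
    letI := overY f
    haveI := proj_isOver f
    ∀ (x : Pts X) (ρ : R' →+* ℂ) (_ : ∀ b, ρ (f b) = x.evTop b),
    ∃ y : Pts (Spec (CommRingCat.of R')), Pts.map (proj f) y = x ∧
      ∀ r, y.evTop (gam r) = ρ r := by
  letI := overY f
  haveI := proj_isOver f
  intro x ρ h
  obtain ⟨y, hy⟩ := exists_pt_of_ringHom (X := Spec (CommRingCat.of R'))
    (ρ.comp (Scheme.ΓSpecIso (CommRingCat.of R')).hom.hom) (by
      intro c
      rw [strHom_YY, RingHom.comp_apply]
      show ρ ((Scheme.ΓSpecIso (CommRingCat.of R')).hom (gam (f (strHom X c)))) = c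
      rw [hom_gam, h, evTop_strHom])
  have hy' : ∀ r, y.evTop (gam r) = ρ r := by
    intro r
    rw [hy, RingHom.comp_apply]
    show ρ ((Scheme.ΓSpecIso (CommRingCat.of R')).hom (gam r)) = ρ r
    rw [hom_gam]
  refine ⟨y, ?_, hy'⟩
  apply ext_of_evTop
  intro b
  rw [evTop_map_proj, hy', h]

theorem lft_YY [LocallyOfFiniteType (X ↘ SC)] (hf : f.FiniteType) :
    letI := overY f
    LocallyOfFiniteType (Spec (CommRingCat.of R') ↘ SC) := by
  letI := overY f
  haveI : LocallyOfFiniteType (Spec.map (CommRingCat.ofHom f)) := by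
    rw [HasRingHomProperty.Spec_iff (P := @LocallyOfFiniteType)]
    exact hf
  haveI : LocallyOfFiniteType (proj f) := by unfold proj; infer_instance
  exact inferInstanceAs (LocallyOfFiniteType (proj f ≫ X ↘ SC))
end

end Groth.Agent.Lib.Helper4.AffCover
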