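import Mathlib.Tactic
import Mathlib.AlgebraicGeometry.Morphisms.Smooth
import Groth.Prelude.Def_AlgGrp
import Groth.Agent.Lib.Helper4.KerPts

set_option autoImplicit false
universe u
open CategoryTheory MonoidalCategory CartesianMonoidalCategory MonObj AlgebraicGeometry Limits

namespace Groth.Agent.Lib.Helper4.Affinization

variable {S : Scheme.{u}}

theorem fac_of_isAffine {X Y : Scheme.{u}} (f : X ⟶ Y) [IsAffine Y] :
    f = X.toSpecΓ ≫ Spec.map f.appTop ≫ inv Y.toSpecΓ := by
  rw [← Category.assoc, ← Scheme.toSpecΓ_naturality, Category.assoc, IsIso.hom_inv_id,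
    Category.comp_id]

/-- part 1: the fibre of `G ⟶ Spec Γ(G)` through the unit lies in the kernel of every homomorphism
to an affine group. -/
theorem part1 [IsAffine S] {G H Q : Over S} [GrpObj G] [GrpObj Q] (h : H ⟶ G) (q : G ⟶ Q)
    [IsMonHom q]
    (hk : AlgGrp.IsKernel h q) (hQ : IsAffine Q.left) :
    ∃ f : pullback G.left.toSpecΓ (η[G].left ≫ G.left.toSpecΓ) ⟶ H.left,
      f ≫ h.left = pullback.fst G.left.toSpecΓ (η[G].left ≫ G.left.toSpecΓ) := by
  rw [KerPts.isKernel_iff] at hk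
  set P := pullback G.left.toSpecΓ (η[G].left ≫ G.left.toSpecΓ) with hP
  let p1 : P ⟶ G.left := pullback.fst _ _
  let p2 : P ⟶ (𝟙_ (Over S)).left := pullback.snd _ _
  have hcond : p1 ≫ G.left.toSpecΓ = p2 ≫ η[G].left ≫ G.left.toSpecΓ := pullback.condition
  have hq1 : p1 ≫ q.left = p2 ≫ η[G].left ≫ q.left := by
    rw [fac_of_isAffine q.left, ← Category.assoc, hcond]
    simp only [Category.assoc]
  have hη : η[G].left ≫ G.hom = 𝟙 S := Over.w η[G]
  let T : Over S := Over.mk (p1 ≫ G.hom)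
  let x : T ⟶ G := Over.homMk p1 rfl
  have hp2 : p1 ≫ G.hom = p2 := by
    have h1 : p1 ≫ G.hom = p2 ≫ η[G].left ≫ G.hom := by
      rw [fac_of_isAffine G.hom, ← Category.assoc, hcond]
      simp only [Category.assoc]
    rw [h1, hη]; exact Category.comp_id _
  have hx : x ≫ q = 1 := by
    ext
    show p1 ≫ q.left = _
    rw [hq1, Hom.one_def, ← IsMonHom.one_hom (f := q)]
    show _ = T.hom ≫ η[G].left ≫ q.left
    show _ = (p1 ≫ G.hom) ≫ η[G].left ≫ q.left
    rw [hp2]
  obtain ⟨y, hy, -⟩ := hk.2 T x hx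
  exact ⟨y.left, congrArg CommaMorphism.left hy⟩

theorem part2 [IsAffine S] {G M : Over S} [GrpObj G] [GrpObj M] (j : M ⟶ G) [IsMonHom j]
    (hM : Function.Surjective M.hom.appTop.hom) :
    ∃ f : M.left ⟶ pullback G.left.toSpecΓ (η[G].left ≫ G.left.toSpecΓ),
      f ≫ pullback.fst G.left.toSpecΓ (η[G].left ≫ G.left.toSpecΓ) = j.left := by
  have hη : η[M].left ≫ M.hom = 𝟙 S := Over.w η[M]
  have hinj : Function.Injective η[M].left.appTop.hom := by
    intro a b hab
    obtain ⟨a', rfl⟩ := hM a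
    obtain ⟨b', rfl⟩ := hM b
    have h1 : M.hom.appTop ≫ η[M].left.appTop = 𝟙 _ := by
      rw [← Scheme.Hom.comp_appTop, hη]; rfl
    have h2 : ∀ c, η[M].left.appTop.hom (M.hom.appTop.hom c) = c := fun c => by
      have := congrArg (fun φ => φ.hom c) h1
      simpa using this
    rw [h2, h2] at hab
    rw [hab]
  have hmono : Mono η[M].left.appTop := by
    exact ConcreteCategory.mono_of_injective _ hinj
  have happ : j.left.appTop = (M.hom ≫ η[G].left).appTop := by
    apply (cancel_mono η[M].left.appTop).1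
    calc j.left.appTop ≫ η[M].left.appTop = (η[M].left ≫ j.left).appTop :=
          (Scheme.Hom.comp_appTop _ _).symm
      _ = η[G].left.appTop := by rw [← Over.comp_left, IsMonHom.one_hom]
      _ = ((η[M].left ≫ M.hom) ≫ η[G].left).appTop := by
          rw [hη]; congr 1
      _ = _ := by rw [Category.assoc, Scheme.Hom.comp_appTop]
  have key : j.left ≫ G.left.toSpecΓ = M.hom ≫ η[G].left ≫ G.left.toSpecΓ := by
    rw [Scheme.toSpecΓ_naturality, ← Category.assoc M.hom, Scheme.toSpecΓ_naturality, happ]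
  exact ⟨pullback.lift j.left M.hom key, pullback.lift_fst _ _ _⟩

theorem main11411 (k : Type u) [Field k] [IsAlgClosed k]
    (G : Over (Spec (CommRingCat.of k))) [GrpObj G] [Smooth G.hom] [QuasiCompact G.hom] :
    (∀ (H Q : Over (Spec (CommRingCat.of k))) [GrpObj H] [GrpObj Q] (h : H ⟶ G) [IsMonHom h] [IsClosedImmersion h.left]
        [LocallyOfFiniteType Q.hom] [QuasiCompact Q.hom] (q : G ⟶ Q) [IsMonHom q] [Surjective q.left] [Flat q.left],
        AlgGrp.IsKernel h q → IsAffine Q.left →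
        ∃ f : pullback G.left.toSpecΓ (η[G].left ≫ G.left.toSpecΓ) ⟶ H.left, f ≫ h.left = pullback.fst G.left.toSpecΓ (η[G].left ≫ G.left.toSpecΓ)) ∧
    (∀ (M : Over (Spec (CommRingCat.of k))) [GrpObj M] (j : M ⟶ G) [IsMonHom j] [IsClosedImmersion j.left],
        Function.Bijective ((Scheme.ΓSpecIso (CommRingCat.of k)).inv ≫ M.hom.appTop).hom →
        ∃ f : M.left ⟶ pullback G.left.toSpecΓ (η[G].left ≫ G.left.toSpecΓ), f ≫ pullback.fst G.left.toSpecΓ (η[G].left ≫ G.left.toSpecΓ) = j.left) := by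
  refine ⟨fun H Q _ _ h _ _ _ _ q _ _ _ hk hQ => part1 h q hk hQ, fun M _ j _ _ hM => part2 j ?_⟩
  intro a
  obtain ⟨b, hb⟩ := hM.2 a
  exact ⟨(Scheme.ΓSpecIso (CommRingCat.of k)).inv.hom b, hb⟩

end Groth.Agent.Lib.Helper4.Affinization
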