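import Mathlib.CategoryTheory.Monoidal.Cartesian.Grp
import Mathlib.Tactic

set_option autoImplicit false
universe u v
open CategoryTheory MonoidalCategory CartesianMonoidalCategory MonObj GrpObj

namespace Groth.Agent.Lib.Helper4.AlbBase

variable {C : Type u} [Category.{v} C] [CartesianMonoidalCategory C]

theorem pt_toUnit {X : C} (x : 𝟙_ C ⟶ X) {Y : C} (y : 𝟙_ C ⟶ Y) : x ≫ toUnit X ≫ y = y := by
  rw [← Category.assoc, toUnit_unique (x ≫ toUnit X) (𝟙 _), Category.id_comp]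

theorem part1 {X A : C} [GrpObj A] (alb : X ⟶ A) (x₁ : 𝟙_ C ⟶ X) :
    x₁ ≫ (alb * (toUnit X ≫ x₁ ≫ alb)⁻¹) = η[A] := by
  rw [MonObj.comp_mul, GrpObj.comp_inv, pt_toUnit, mul_inv_cancel, MonObj.one_eq_one]

theorem part2 {X A B : C} [GrpObj A] [GrpObj B] (x₀ x₁ : 𝟙_ C ⟶ X) (alb : X ⟶ A)
    (halb : x₀ ≫ alb = η[A])
    (huniv : ∀ g : X ⟶ B, x₀ ≫ g = η[B] → ∃! h : A ⟶ B, IsMonHom h ∧ alb ≫ h = g)
    (g : X ⟶ B) (hg : x₁ ≫ g = η[B]) :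
    ∃! h : A ⟶ B, IsMonHom h ∧ (alb * (toUnit X ≫ x₁ ≫ alb)⁻¹) ≫ h = g := by
  obtain ⟨q, hq⟩ : ∃ q, q = x₀ ≫ g := ⟨_, rfl⟩
  obtain ⟨g', hg'⟩ : ∃ g', g' = g * (toUnit X ≫ q)⁻¹ := ⟨_, rfl⟩
  have h0 : x₀ ≫ g' = η[B] := by
    rw [hg', MonObj.comp_mul, GrpObj.comp_inv, pt_toUnit, ← hq, mul_inv_cancel, MonObj.one_eq_one]
  have h1 : x₁ ≫ g' = q⁻¹ := by
    rw [hg', MonObj.comp_mul, GrpObj.comp_inv, pt_toUnit, hg, MonObj.one_eq_one, _root_.one_mul]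
  obtain ⟨h, ⟨hh1, hh2⟩, hh3⟩ := huniv g' h0
  refine ⟨h, ⟨hh1, ?_⟩, ?_⟩
  · rw [MonObj.mul_comp, GrpObj.inv_comp, hh2, Category.assoc, Category.assoc, hh2, h1,
      GrpObj.comp_inv, hg', _root_.inv_inv, inv_mul_cancel_right]
  · rintro h' ⟨hm, hh'⟩
    apply hh3
    refine ⟨hm, ?_⟩
    obtain ⟨r, hr⟩ : ∃ r, r = x₁ ≫ alb ≫ h' := ⟨_, rfl⟩
    have e1 : alb ≫ h' = g * (toUnit X ≫ r) := by
      rw [← hh', MonObj.mul_comp, GrpObj.inv_comp, Category.assoc, Category.assoc, ← hr,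
        inv_mul_cancel_right]
    have e2 : q * r = 1 := by
      have h3 : x₀ ≫ (alb ≫ h') = x₀ ≫ (g * (toUnit X ≫ r)) := by rw [e1]
      rw [← Category.assoc, halb, IsMonHom.one_hom, MonObj.comp_mul, pt_toUnit, ← hq,
        MonObj.one_eq_one] at h3
      exact h3.symm
    have e3 : r = q⁻¹ := (eq_inv_of_mul_eq_one_right e2)
    rw [e1, e3, hg', GrpObj.comp_inv]

end Groth.Agent.Lib.Helper4.AlbBase
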