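import Groth.Agent.Lib.Helper28.VeryAmpleImm
import Groth.Agent.Lib.Helper28.ProjSpaceBasic
import Groth.Agent.S3572
import Groth.Agent.S3573
import Mathlib.AlgebraicGeometry.ZariskisMainTheorem

set_option autoImplicit false
universe u
open CategoryTheory CategoryTheory.Limits Opposite TopologicalSpace AlgebraicGeometry

noncomputable section

namespace Groth.Agent.Lib.Helper4.Bridge

open Groth.Agent.Lib.Helper28 Groth.Agent.Lib.Helper28.QCohLoc Groth.Agent.Lib.Helper28.GenLocus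
  Groth.Agent.Lib.Helper28.PullbackInv

section PC

variable {X Y Z : Scheme.{u}} (f : X ⟶ Y) (g : Y ⟶ Z) (M : Z.Modules)

/-- inverse images of sections are compatible with composition -/
theorem pbs_comp (U : Z.Opens) (s : Γ(M, U)) :
    ((Scheme.Modules.pullbackComp f g).inv.app M).app (f ⁻¹ᵁ (g ⁻¹ᵁ U)) (pbs (f ≫ g) M U s) =
      pbs f _ (g ⁻¹ᵁ U) (pbs g M U s) := by
  have h := unit_conjugateEquiv ((Scheme.Modules.pullbackPushforwardAdjunction g).comp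
    (Scheme.Modules.pullbackPushforwardAdjunction f))
    (Scheme.Modules.pullbackPushforwardAdjunction (f ≫ g)) (Scheme.Modules.pullbackComp f g).inv M
  rw [Scheme.Modules.conjugateEquiv_pullbackComp_inv] at h
  have h2 := congrArg (fun θ => (Scheme.Modules.Hom.app θ U) s) h
  exact h2.symm

theorem pbs_comp' (U : Z.Opens) (s : Γ(M, U)) :
    ((Scheme.Modules.pullbackComp f g).hom.app M).app (f ⁻¹ᵁ (g ⁻¹ᵁ U)) (pbs f _ (g ⁻¹ᵁ U) (pbs g M U s)) =
      pbs (f ≫ g) M U s := by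
  rw [← pbs_comp]
  have : (Scheme.Modules.pullbackComp f g).inv.app M ≫ (Scheme.Modules.pullbackComp f g).hom.app M = 𝟙 _ :=
    Iso.inv_hom_id_app _ _
  exact congrArg (fun θ => (Scheme.Modules.Hom.app θ (f ⁻¹ᵁ (g ⁻¹ᵁ U))) (pbs (f ≫ g) M U s)) this

end PC

section Br

variable (N : ℕ) (B : Type u) [CommRing B]

/-- `ℤ` in the universe `u` -/
abbrev Zu : Type u := ULift.{u} ℤ

/-- the base -/
abbrev SB : Scheme.{u} := Spec (CommRingCat.of B)

/-- the graded polynomial ring over `ℤ` -/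
abbrev gZ : ℕ → Submodule Zu (MvPolynomial (Fin (N + 1)) Zu) := CohB1.polyGrading N Zu

/-- `O(1)` on `P^N_ℤ` -/
abbrev OZ : (Proj (gZ N)).Modules := Twist.twist (gZ N) ((1 : ℕ) : ℤ)

/-- the first projection `P^N_S ⟶ P^N_ℤ` -/
abbrev pr₁ (S : Scheme.{u}) : CohB1.ProjSpaceOver N S ⟶ Proj (gZ N) :=
  pullback.fst (CohB1.ProjSpace.toSpec N Zu) (specULiftZIsTerminal.from S)

theorem twistOver_eq (S : Scheme.{u}) :
    Twist.twistOver N S 1 = (Scheme.Modules.pullback (pr₁ N S)).obj (OZ N) := rfl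

theorem isInvertible_OZ : PicF.IsInvertible (OZ N) :=
  TwistCov.isInvertible_twist (gZ N) (VeryAmpleImm.projSpace_cover N Zu) ((1 : ℕ) : ℤ)

theorem isInvertible_twistOver (S : Scheme.{u}) : PicF.IsInvertible (Twist.twistOver N S 1) :=
  isInvertible_pullback (pr₁ N S) (isInvertible_OZ N)

theorem hX (R : Type u) [CommRing R] (i : Fin (N + 1)) :
    (MvPolynomial.X i : MvPolynomial (Fin (N + 1)) R) ∈ CohB1.polyGrading N R 1 :=
  MvPolynomial.isHomogeneous_X R i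

/-- the coordinate sections of `O(1)` on `P^N_S` -/
def σ (S : Scheme.{u}) (i : Fin (N + 1)) :
    Coh.structureModule (CohB1.ProjSpaceOver N S) ⟶ (Scheme.Modules.pullback (pr₁ N S)).obj (OZ N) :=
  pbSec (pr₁ N S) (TwistAmple.secHom (gZ N) (hX N Zu i))

theorem secOf_σ (S : Scheme.{u}) (i : Fin (N + 1)) :
    secOf (σ N S i) = pbs (pr₁ N S) (OZ N) ⊤ (TwistGen.gsec (gZ N) _ (hX N Zu i)) := by
  unfold σ
  rw [secOf_pbSec]
  unfold TwistAmple.secHom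
  rw [secOf_ofSection]

theorem genLocus_σ (S : Scheme.{u}) (i : Fin (N + 1)) :
    CohB1.genLocus _ (σ N S i) = (pr₁ N S) ⁻¹ᵁ Proj.basicOpen (gZ N) (MvPolynomial.X i) := by
  unfold σ
  rw [genLocus_pbSec (pr₁ N S) (isInvertible_OZ N)]
  rw [ProjUPUniq.genLocus_secHom (gZ N) (VeryAmpleImm.projSpace_cover N Zu)]

theorem cover_σ (S : Scheme.{u}) (x : CohB1.ProjSpaceOver N S) : ∃ i, x ∈ CohB1.genLocus _ (σ N S i) := by
  obtain ⟨j, hj⟩ := Segre5.cover_of_adjoin (gZ N)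
    (fun k : Fin (N + 1) => (MvPolynomial.X k : MvPolynomial (Fin (N + 1)) Zu))
    (fun k => MvPolynomial.isHomogeneous_X Zu k) (MvPolynomial.adjoin_range_X) ((pr₁ N S).base x)
  exact ⟨j, by rw [genLocus_σ]; exact hj⟩

/-- `O(1)` on `P^N_B` -/
abbrev OB : (Proj (CohB1.polyGrading N B)).Modules := Twist.twist (CohB1.polyGrading N B) ((1 : ℕ) : ℤ)

/-- the structure morphism, typed on `Proj` -/
abbrev tB : Proj (CohB1.polyGrading N B) ⟶ SB B := CohB1.ProjSpace.toSpec N B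

theorem exists_map :
    ∃ (i₀ : CohB1.ProjSpaceOver N (SB B) ⟶ Proj (CohB1.polyGrading N B))
      (_ : i₀ ≫ tB N B = CohB1.ProjSpaceOver.toBase N (SB B))
      (τ : (Scheme.Modules.pullback i₀).obj (OB N B) ≅ (Scheme.Modules.pullback (pr₁ N (SB B))).obj (OZ N)),
      ∀ k, τ.hom.app ⊤ (pbs i₀ (OB N B) ⊤ (TwistGen.gsec (CohB1.polyGrading N B) _ (hX N B k))) =
        pbs (pr₁ N (SB B)) (OZ N) ⊤ (TwistGen.gsec (gZ N) _ (hX N Zu k)) := by
  obtain ⟨r, hr, τ, hτ⟩ := Groth.Agent.S3572.result (R := B) N (CohB1.ProjSpaceOver.toBase N (SB B))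
    ((Scheme.Modules.pullback (pr₁ N (SB B))).obj (OZ N)) (isInvertible_twistOver N (SB B))
    (fun k => (secOf (σ N (SB B) k) : ProjUP.Γm _))
    (VeryAmpleImm.generatedBy_of_cover (σ N (SB B)) (cover_σ N (SB B)))
  refine ⟨r, hr, τ, fun k => ?_⟩
  rw [← secOf_σ]
  exact hτ k

section Mono

variable {N B}
variable (i₀ : CohB1.ProjSpaceOver N (SB B) ⟶ Proj (CohB1.polyGrading N B))
  (τ : (Scheme.Modules.pullback i₀).obj (OB N B) ≅ (Scheme.Modules.pullback (pr₁ N (SB B))).obj (OZ N))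
  (hτ : ∀ k, τ.hom.app ⊤ (pbs i₀ (OB N B) ⊤ (TwistGen.gsec (CohB1.polyGrading N B) _ (hX N B k))) =
        pbs (pr₁ N (SB B)) (OZ N) ⊤ (TwistGen.gsec (gZ N) _ (hX N Zu k)))

include hτ in
theorem exists_omega {T : Scheme.{u}} (c : T ⟶ CohB1.ProjSpaceOver N (SB B)) (f : T ⟶ Proj (CohB1.polyGrading N B))
    (hc : c ≫ i₀ = f) :
    ∃ ω : (Scheme.Modules.pullback (c ≫ pr₁ N (SB B))).obj (OZ N) ≅ (Scheme.Modules.pullback f).obj (OB N B),
      ∀ k, ω.hom.app ⊤ (pbs (c ≫ pr₁ N (SB B)) (OZ N) ⊤ (TwistGen.gsec (gZ N) _ (hX N Zu k))) =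
        pbs f (OB N B) ⊤ (TwistGen.gsec (CohB1.polyGrading N B) _ (hX N B k)) := by
  subst hc
  refine ⟨(Scheme.Modules.pullbackComp c (pr₁ N (SB B))).symm.app (OZ N) ≪≫
    (Scheme.Modules.pullback c).mapIso τ.symm ≪≫ (Scheme.Modules.pullbackComp c i₀).app (OB N B), fun k => ?_⟩
  have h1 := pbs_comp c (pr₁ N (SB B)) (OZ N) ⊤ (TwistGen.gsec (gZ N) _ (hX N Zu k))
  have h2 := pbs_map c τ.inv ⊤ (pbs (pr₁ N (SB B)) (OZ N) ⊤ (TwistGen.gsec (gZ N) _ (hX N Zu k)))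
  have h3 : τ.inv.app ⊤ (pbs (pr₁ N (SB B)) (OZ N) ⊤ (TwistGen.gsec (gZ N) _ (hX N Zu k))) =
      pbs i₀ (OB N B) ⊤ (TwistGen.gsec (CohB1.polyGrading N B) _ (hX N B k)) := by
    rw [← hτ k]
    have : τ.hom ≫ τ.inv = 𝟙 _ := τ.hom_inv_id
    exact congrArg (fun θ => (Scheme.Modules.Hom.app θ ⊤)
      (pbs i₀ (OB N B) ⊤ (TwistGen.gsec (CohB1.polyGrading N B) _ (hX N B k)))) this
  have h4 := pbs_comp' c i₀ (OB N B) ⊤ (TwistGen.gsec (CohB1.polyGrading N B) _ (hX N B k))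
  rw [h3] at h2
  show ((Scheme.Modules.pullbackComp c i₀).hom.app (OB N B)).app ⊤
    (((Scheme.Modules.pullback c).map τ.inv).app ⊤
      (((Scheme.Modules.pullbackComp c (pr₁ N (SB B))).inv.app (OZ N)).app ⊤ _)) = _
  erw [h1, h2, h4]

include hτ in
theorem mono_of (hi₀ : i₀ ≫ tB N B = CohB1.ProjSpaceOver.toBase N (SB B)) : Mono i₀ := by
  constructor
  intro T a b hab
  apply pullback.hom_ext
  · obtain ⟨ωa, hωa⟩ := exists_omega i₀ τ hτ a (a ≫ i₀) rfl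
    obtain ⟨ωb, hωb⟩ := exists_omega i₀ τ hτ b (a ≫ i₀) hab.symm
    refine Groth.Agent.S3573.result (R := Zu) N (a ≫ pr₁ N (SB B)) (b ≫ pr₁ N (SB B))
      (specULiftZIsTerminal.hom_ext _ _) (ωa ≪≫ ωb.symm) (fun k => ?_)
    have h1 := hωa k
    have h2 := hωb k
    have h3 : ωb.inv.app ⊤ (pbs (a ≫ i₀) (OB N B) ⊤ (TwistGen.gsec (CohB1.polyGrading N B) _ (hX N B k))) =
        pbs (b ≫ pr₁ N (SB B)) (OZ N) ⊤ (TwistGen.gsec (gZ N) _ (hX N Zu k)) := by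
      rw [← h2]
      have : ωb.hom ≫ ωb.inv = 𝟙 _ := ωb.hom_inv_id
      exact congrArg (fun θ => (Scheme.Modules.Hom.app θ ⊤)
        (pbs (b ≫ pr₁ N (SB B)) (OZ N) ⊤ (TwistGen.gsec (gZ N) _ (hX N Zu k)))) this
    show ωb.inv.app ⊤ (ωa.hom.app ⊤ (pbs (a ≫ pr₁ N (SB B)) (OZ N) ⊤ (TwistGen.gsec (gZ N) _ (hX N Zu k)))) = _
    rw [h1, h3]
    rfl
  · have h1 : a ≫ i₀ ≫ tB N B = b ≫ i₀ ≫ tB N B := by
      rw [← Category.assoc, hab, Category.assoc]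
    rw [hi₀] at h1
    exact h1

end Mono

/-- **the bridge**: projective space over `Spec B` as a base change from `ℤ` embeds as a closed subscheme of `Proj B[T]`,
compatibly with `O(1)`. -/
theorem exists_bridge :
    ∃ (i₀ : CohB1.ProjSpaceOver N (SB B) ⟶ CohB1.ProjSpace N B), IsClosedImmersion i₀ ∧
      i₀ ≫ CohB1.ProjSpace.toSpec N B = CohB1.ProjSpaceOver.toBase N (SB B) ∧
      Nonempty ((Scheme.Modules.pullback i₀).obj (Twist.twistProjSpace N B 1) ≅ Twist.twistOver N (SB B) 1) := by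
  obtain ⟨i₀, hi₀, τ, hτ⟩ := exists_map N B
  have hmono : Mono i₀ := mono_of i₀ τ hτ hi₀
  have hp1 : IsProper (tB N B) := ProjSpaceBasic.isProper_toSpec N B
  have hp2 : IsProper (i₀ ≫ tB N B) := hi₀ ▸ ProjSpaceBasic.isProper_toBase N (SB B)
  have hp : IsProper i₀ := IsProper.of_comp i₀ (tB N B)
  exact ⟨i₀, (IsClosedImmersion.iff_isProper_and_mono i₀).2 ⟨hp, hmono⟩, hi₀, ⟨τ⟩⟩

end Br

end Groth.Agent.Lib.Helper4.Bridge
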