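import Groth.Agent.S2330
import Groth.Agent.Lib.Helper4.Bridge
import Groth.Agent.Lib.Helper28.ProjSpaceBasic
import Groth.Agent.Lib.Helper28.PullbackInv2

set_option autoImplicit false
universe u
open CategoryTheory CategoryTheory.Limits Opposite TopologicalSpace AlgebraicGeometry

noncomputable section

namespace Groth.Agent.Lib.Helper4.AmpleEmb

open Groth.Agent.Lib.Helper28 Groth.Agent.Lib.Helper4.Bridge

/-- an ample invertible module on a scheme proper over a Noetherian (indeed any) ring has a positive power that is the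
inverse image of `O(1)` under a closed immersion into a projective space `Proj R[T₀..T_m]`. -/
theorem exists_closedImmersion (R : Type u) [CommRing R]
    (X : Scheme.{u}) (f : X ⟶ Spec (CommRingCat.of R)) [IsProper f] (L : X.Modules)
    (hL : CohB1.IsAmple L) :
    ∃ (N m : ℕ) (k : X ⟶ CohB1.ProjSpace m R), 0 < N ∧ IsClosedImmersion k ∧
      k ≫ CohB1.ProjSpace.toSpec m R = f ∧
      Nonempty (CohB1.tensorPow L N ≅ (Scheme.Modules.pullback k).obj (Twist.twistProjSpace m R 1)) := by
  obtain ⟨n₀, hn₀⟩ := (Groth.Agent.S2330.result f L hL.1).2 hL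
  obtain ⟨m, i, hi, hcomp, ⟨e⟩⟩ := hn₀ (n₀ + 1) (Nat.le_succ _)
  obtain ⟨i₀, hi₀, hi₀', ⟨τ⟩⟩ := exists_bridge m R
  have hp1 : IsProper (CohB1.ProjSpaceOver.toBase m (Spec (CommRingCat.of R))) :=
    ProjSpaceBasic.isProper_toBase m _
  have hp2 : IsProper (i ≫ CohB1.ProjSpaceOver.toBase m (Spec (CommRingCat.of R))) := by
    show IsProper (i ≫ pullback.snd _ _)
    rw [hcomp]; infer_instance
  have hp : IsProper i := IsProper.of_comp i (CohB1.ProjSpaceOver.toBase m (Spec (CommRingCat.of R)))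
  haveI : IsClosedImmersion i := (IsClosedImmersion.iff_isProper_and_mono i).2 ⟨hp, inferInstance⟩
  refine ⟨n₀ + 1, m, i ≫ i₀, Nat.succ_pos _, inferInstance, ?_, ?_⟩
  · rw [Category.assoc, hi₀']
    exact hcomp
  · exact ⟨e ≪≫ (Scheme.Modules.pullback i).mapIso τ.symm ≪≫
      ((Scheme.Modules.pullbackComp i i₀).app _)⟩

end Groth.Agent.Lib.Helper4.AmpleEmb
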