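import Mathlib.Tactic
import Mathlib.AlgebraicGeometry.AffineSpace
import Groth.Agent.Lib.Helper4.AnGen

namespace Groth.Agent.Lib.Helper4.AnAff
open AlgebraicGeometry CategoryTheory TopologicalSpace Opposite An Topology
open Groth.Agent.Lib.Helper4.AnEv Groth.Agent.Lib.Helper4.AnGen

theorem bijective_eval₂Hom_coord (n : Type) :
    Function.Bijective (MvPolynomial.eval₂Hom (strHom (𝔸(n; SC))) (AffineSpace.coord SC)) := by
  have h := AffineSpace.SpecIso_hom_appTop (n := n) (CommRingCat.of ℂ)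
  haveI h0 : IsIso (AffineSpace.SpecIso n (CommRingCat.of ℂ)).hom := inferInstance
  have hiso : IsIso ((AffineSpace.SpecIso n (CommRingCat.of ℂ)).hom.appTop) :=
    inferInstanceAs (IsIso ((AffineSpace.SpecIso n (CommRingCat.of ℂ)).hom.app ⊤))
  rw [h] at hiso
  have h2 : IsIso (CommRingCat.ofHom (MvPolynomial.eval₂Hom ((Scheme.ΓSpecIso (CommRingCat.of ℂ)).inv ≫
        (𝔸(n; Spec (CommRingCat.of ℂ)) ↘ Spec (CommRingCat.of ℂ)).appTop).hom
        (AffineSpace.coord (Spec (CommRingCat.of ℂ))))) := by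
    exact IsIso.of_isIso_comp_left (Scheme.ΓSpecIso _).hom _
  exact ConcreteCategory.bijective_of_isIso (CommRingCat.ofHom (MvPolynomial.eval₂Hom ((Scheme.ΓSpecIso (CommRingCat.of ℂ)).inv ≫
        (𝔸(n; Spec (CommRingCat.of ℂ)) ↘ Spec (CommRingCat.of ℂ)).appTop).hom
        (AffineSpace.coord (Spec (CommRingCat.of ℂ)))))


theorem main4183 (n : ℕ) :
    IsHomeomorph (fun (x : An.Pts (𝔸(Fin n; An.SC))) (i : Fin n) =>
      x.evTop (AffineSpace.coord An.SC i)) := by
  have hb := bijective_eval₂Hom_coord (Fin n)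
  have hce := isClosedEmbedding_of_generators (X := 𝔸(Fin n; An.SC)) (AffineSpace.coord An.SC) hb.2
  rw [isHomeomorph_iff_isEmbedding_surjective]
  refine ⟨hce.isEmbedding, fun z => ?_⟩
  let θ := RingEquiv.ofBijective _ hb
  let ψ : Γ(𝔸(Fin n; An.SC), ⊤) →+* ℂ := (MvPolynomial.eval z).comp θ.symm.toRingHom
  have hψ : ∀ p, ψ (MvPolynomial.eval₂Hom (strHom (𝔸(Fin n; SC))) (AffineSpace.coord SC) p) =
      MvPolynomial.eval z p := by
    intro p
    show MvPolynomial.eval z (θ.symm (θ p)) = _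
    rw [RingEquiv.symm_apply_apply]
  obtain ⟨x, hx⟩ := exists_pt_of_ringHom ψ (fun c => by
    have := hψ (MvPolynomial.C c)
    simpa using this)
  refine ⟨x, funext fun i => ?_⟩
  show x.evTop (AffineSpace.coord An.SC i) = z i
  rw [hx]
  have := hψ (MvPolynomial.X i)
  simpa using this

end Groth.Agent.Lib.Helper4.AnAff
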