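import Mathlib.Tactic
import Mathlib.AlgebraicGeometry.Morphisms.ClosedImmersion
import Mathlib.AlgebraicGeometry.PullbackCarrier
import Groth.Agent.Lib.Helper4.AnOpen

namespace Groth.Agent.Lib.Helper4.AnClosed
open AlgebraicGeometry CategoryTheory TopologicalSpace Opposite An Topology Limits
open Groth.Agent.Lib.Helper4.AnEv Groth.Agent.Lib.Helper4.AnOpen

variable {X Y : Scheme.{0}} [X.Over SC] [Y.Over SC]

/-- Lifting `ℂ`-points through a closed immersion. -/
theorem exists_lift_of_isClosedImmersion (f : X ⟶ Y) [f.IsOver SC] [IsClosedImmersion f]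
    (y : Pts Y) (hy : y.pt ∈ Set.range f) : ∃ x : Pts X, Pts.map f x = y := by
  obtain ⟨p, hp⟩ := hy
  haveI : IsClosedImmersion (pullback.snd f y.1) := inferInstance
  haveI : Surjective (pullback.snd f y.1) := by
    constructor
    intro q
    obtain ⟨z, -, hz⟩ := Scheme.Pullback.exists_preimage_pullback (f := f) (g := y.1) p q
      (by rw [hp, eq_cpt q]; rfl)
    exact ⟨z, hz⟩
  haveI : IsReduced SC := inferInstance
  haveI : IsIso (pullback.snd f y.1) := isIso_of_isClosedImmersion_of_surjective _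
  let l : SC ⟶ X := inv (pullback.snd f y.1) ≫ pullback.fst f y.1
  have hl : l ≫ f = y.1 := by
    simp only [l, Category.assoc, pullback.condition]
    simp
  refine ⟨⟨l, ?_⟩, Subtype.ext hl⟩
  rw [← comp_over f SC, ← Category.assoc, hl, y.2]

theorem range_map_of_isClosedImmersion (f : X ⟶ Y) [f.IsOver SC] [IsClosedImmersion f] :
    Set.range (Pts.map f) = Pts.pt ⁻¹' (Set.range f) := by
  ext y
  constructor
  · rintro ⟨x, rfl⟩
    show (Pts.map f x).pt ∈ Set.range f
    rw [Pts.pt_map]; exact ⟨_, rfl⟩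
  · intro hy
    exact exists_lift_of_isClosedImmersion f y hy

theorem isInducing_map_of_isClosedImmersion (f : X ⟶ Y) [f.IsOver SC] [IsClosedImmersion f] :
    Topology.IsInducing (Pts.map f) := by
  refine isInducing_of_factorsOn (Pts.map f) (Pts.continuous_map f) fun x₀ => ?_
  obtain ⟨_, ⟨V₁, hV₁, rfl⟩, hxV₁, -⟩ :=
    Y.isBasis_affineOpens.exists_subset_of_mem_open (Set.mem_univ (f x₀.pt)) isOpen_univ
  refine ⟨f ⁻¹ᵁ V₁, Pts.pt ⁻¹' (V₁ : Set Y), hV₁.preimage f, hxV₁,
    Pts.isOpen_preimage_pt V₁, ?_, fun e => ?_⟩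
  · ext y
    show (Pts.map f y).pt ∈ V₁ ↔ y.pt ∈ f ⁻¹ᵁ V₁
    rw [Pts.pt_map]; rfl
  · obtain ⟨e', rfl⟩ := f.app_surjective V₁ hV₁ e
    refine ⟨fun y => evD y V₁ e', continuousOn_evD V₁ e', fun y h => ?_⟩
    have h' : (Pts.map f y).pt ∈ V₁ := by rw [Pts.pt_map]; exact h
    show _ = evD (Pts.map f y) V₁ e'
    rw [evD_of_mem _ _ _ h', Pts.ev_map]

theorem main4200 (f : X ⟶ Y) [f.IsOver SC] [IsClosedImmersion f] :
    Topology.IsClosedEmbedding (Pts.map f) := by
  refine ⟨⟨isInducing_map_of_isClosedImmersion f, map_injective_of_mono f⟩, ?_⟩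
  rw [range_map_of_isClosedImmersion]
  exact f.isClosedEmbedding.isClosed_range.preimage Pts.continuous_pt

end Groth.Agent.Lib.Helper4.AnClosed
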