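import Mathlib
import Groth.Agent.Lib.Helper4.DensSch3

namespace Groth.Agent.Lib.Helper4.DensSch4
open AlgebraicGeometry CategoryTheory TopologicalSpace Opposite An Topology Filter
open Groth.Agent.Lib.Helper4.DensSch3
open Groth.Agent.Lib.Helper4.AnSurj Groth.Agent.Lib.Helper4.AnOpen
open Groth.Agent.Lib.Helper4.AnBasic Groth.Agent.Lib.Helper4.AnInj

variable {X Y : Scheme.{0}} [X.Over SC] [LocallyOfFiniteType (X ↘ SC)]
  [Y.Over SC] [LocallyOfFiniteType (Y ↘ SC)]

/-- the range on `ℂ`-points is the set of `ℂ`-points of the range -/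
theorem range_map_eq (f : X ⟶ Y) [f.IsOver SC] :
    Set.range (Pts.map f) = Pts.pt ⁻¹' (Set.range f) := by
  ext y
  constructor
  · rintro ⟨x, rfl⟩
    show (Pts.map f x).pt ∈ Set.range f
    rw [Pts.pt_map]; exact ⟨_, rfl⟩
  · rintro ⟨x₀, hx₀⟩
    have hyc : IsClosed ({y.pt} : Set Y) := pt_mem_closedPoints Y y
    have hpre : IsClosed (f ⁻¹' {y.pt}) := hyc.preimage f.continuous
    obtain ⟨x, hx, hxc⟩ := exists_closedPoint_of_nonempty X (f ⁻¹' {y.pt})
      hpre.isLocallyClosed ⟨x₀, hx₀⟩
    refine ⟨ptOfClosed X x hxc, ?_⟩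
    apply pt_injective Y
    rw [An.Pts.pt_map, ptOfClosed_pt]
    exact hx

theorem isLocallyConstructible_range (f : X ⟶ Y) [f.IsOver SC] [QuasiCompact f] :
    IsLocallyConstructible (Set.range f) := by
  have hflft : LocallyOfFiniteType f := by
    have : LocallyOfFiniteType (f ≫ (Y ↘ An.SC)) := by rw [comp_over]; infer_instance
    exact locallyOfFiniteType_of_comp f (Y ↘ An.SC)
  have hN : IsLocallyNoetherian Y := LocallyOfFiniteType.isLocallyNoetherian (Y ↘ An.SC)
  have hlfp : LocallyOfFinitePresentation f := lfp_of_noeth f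
  rw [← Set.image_univ]
  exact f.isLocallyConstructible_image IsLocallyConstructible.univ

theorem main4199 (f : X ⟶ Y) [f.IsOver SC] [QuasiCompact f] :
    DenseRange f.base ↔ DenseRange (An.Pts.map f) := by
  unfold DenseRange
  rw [range_map_eq f]
  exact main4190 Y _ (isLocallyConstructible_range f)

end Groth.Agent.Lib.Helper4.DensSch4
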