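import Mathlib
import Groth.Agent.S9205
import Groth.Agent.Lib.Helper4.AnPB
import Groth.Agent.Lib.Helper4.AnClosed
import Groth.Agent.Lib.Helper4.DensSch4

namespace Groth.Agent.Lib.Helper4.AnProper
open AlgebraicGeometry CategoryTheory TopologicalSpace Opposite An Topology Limits
open Groth.Agent.Lib.Helper4.AnPB Groth.Agent.Lib.Helper4.AnClosed
open Groth.Agent.Lib.Helper4.DensSch3 Groth.Agent.Lib.Helper4.DensSch4

/-- Base change of a proper map is a closed map. -/
lemma isClosedMap_pullback_snd {A B C : Type*} [TopologicalSpace A] [TopologicalSpace B]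
    [TopologicalSpace C] {F : A → B} (hF : IsProperMap F) {G : C → B} (hG : Continuous G) :
    IsClosedMap (fun q : {q : A × C // F q.1 = G q.2} => q.1.2) := by
  intro Z hZ
  obtain ⟨Z', hZ', rfl⟩ := isClosed_induced_iff.1 hZ
  have hK := hF.universally_closed C
  have h1 : IsClosed (Prod.map F id '' Z') := hK _ hZ'
  have h2 : (fun q : {q : A × C // F q.1 = G q.2} => q.1.2) '' (Subtype.val ⁻¹' Z') =
      (fun c => (G c, c)) ⁻¹' (Prod.map F id '' Z') := by
    ext c
    constructor
    · rintro ⟨⟨⟨a, c'⟩, hq⟩, hqZ, rfl⟩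
      exact ⟨(a, c'), hqZ, Prod.ext hq rfl⟩
    · rintro ⟨⟨a, c'⟩, hZ'', he⟩
      have e1 : F a = G c := congrArg Prod.fst he
      have e2 : c' = c := congrArg Prod.snd he
      subst e2
      exact ⟨⟨(a, c'), e1⟩, hZ'', rfl⟩
  rw [h2]
  exact h1.preimage (hG.prodMk continuous_id)

variable {X Y : Scheme.{0}} [X.Over SC] [Y.Over SC]

/-- The map on points of a base change of `f` is closed when `Pts.map f` is proper. -/
lemma isClosedMap_map_pullback_snd {S' : Scheme.{0}} [S'.Over SC] (f : X ⟶ Y) [f.IsOver SC]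
    (g : S' ⟶ Y) [g.IsOver SC] (hF : IsProperMap (Pts.map f)) :
    IsClosedMap (Pts.map (pullback.snd f g)) := by
  have h1 := main4193 f g
  have h2 := isClosedMap_pullback_snd hF (Pts.continuous_map g)
  have h3 := h2.comp h1.isClosedMap
  exact h3


/-- A closed subset of a scheme locally of finite type over `ℂ`, pushed forward along a
quasi-compact morphism over `ℂ` whose map on points is closed, is closed. -/
theorem isClosedMap_of_isClosedMap_map {X' S' : Scheme.{0}} [X'.Over SC] [S'.Over SC]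
    [LocallyOfFiniteType (X' ↘ SC)] [LocallyOfFiniteType (S' ↘ SC)]
    (f' : X' ⟶ S') [f'.IsOver SC] [QuasiCompact f'] (hcl : IsClosedMap (Pts.map f')) :
    IsClosedMap f' := by
  intro Z hZ
  set I := Scheme.IdealSheafData.vanishingIdeal ⟨Z, hZ⟩ with hI
  have hr : Set.range I.subschemeι = Z := by
    rw [Scheme.IdealSheafData.range_subschemeι]
    rfl
  letI : I.subscheme.Over SC := ⟨I.subschemeι ≫ X' ↘ SC⟩
  haveI : I.subschemeι.IsOver SC := ⟨rfl⟩
  haveI : LocallyOfFiniteType (I.subscheme ↘ SC) :=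
    inferInstanceAs (LocallyOfFiniteType (I.subschemeι ≫ X' ↘ SC))
  have hc : IsLocallyConstructible (Set.range (I.subschemeι ≫ f')) :=
    isLocallyConstructible_range (I.subschemeι ≫ f')
  have hrange : Set.range (I.subschemeι ≫ f') = f' '' Z := by
    rw [Scheme.Hom.comp_base, TopCat.coe_comp, Set.range_comp, hr]
  rw [hrange] at hc
  refine isClosed_of_isClosed_preimage S' hc ?_
  have h1 : Pts.pt ⁻¹' (f' '' Z) = Pts.map f' '' (Pts.pt ⁻¹' Z) := by
    rw [← hrange, ← range_map_eq (I.subschemeι ≫ f')]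
    have h2 : Pts.map (I.subschemeι ≫ f') = Pts.map f' ∘ Pts.map I.subschemeι :=
      funext fun x => Pts.map_comp _ _ x
    rw [h2, Set.range_comp, range_map_of_isClosedImmersion, hr]
  rw [h1]
  exact hcl _ (hZ.preimage Pts.continuous_pt)

theorem universallyClosed_of_isProperMap [LocallyOfFiniteType (X ↘ SC)]
    [LocallyOfFiniteType (Y ↘ SC)] (f : X ⟶ Y) [f.IsOver SC] [QuasiCompact f]
    (hF : IsProperMap (Pts.map f)) : UniversallyClosed f := by
  rw [(Groth.Agent.S9205.result f).1]
  intro S' g hg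
  letI : S'.Over SC := ⟨g ≫ Y ↘ SC⟩
  haveI : g.IsOver SC := ⟨rfl⟩
  haveI : LocallyOfFiniteType g := inferInstance
  haveI : LocallyOfFiniteType (S' ↘ SC) := inferInstanceAs (LocallyOfFiniteType (g ≫ Y ↘ SC))
  haveI : LocallyOfFiniteType (pullback f g ↘ SC) :=
    inferInstanceAs (LocallyOfFiniteType (pullback.fst f g ≫ X ↘ SC))
  exact isClosedMap_of_isClosedMap_map (pullback.snd f g) (isClosedMap_map_pullback_snd f g hF)

end Groth.Agent.Lib.Helper4.AnProper
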