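import Mathlib
import Groth.Agent.Lib.Helper4.DensSch4
import Groth.Agent.Lib.Helper4.AnPB
import Groth.Agent.Lib.Helper4.AnClosed

namespace Groth.Agent.Lib.Helper4.DensSep
open AlgebraicGeometry CategoryTheory TopologicalSpace Opposite An Topology Filter Limits
open Groth.Agent.Lib.Helper4.DensSch3 Groth.Agent.Lib.Helper4.DensSch4
open Groth.Agent.Lib.Helper4.AnPB Groth.Agent.Lib.Helper4.AnClosed

variable {X Y : Scheme.{0}} [X.Over SC] [LocallyOfFiniteType (X ↘ SC)]
  [Y.Over SC] [LocallyOfFiniteType (Y ↘ SC)]

instance diagonal_isOver (f : X ⟶ Y) [f.IsOver SC] : (pullback.diagonal f).IsOver SC :=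
  ⟨by
    show pullback.diagonal f ≫ (pullback.fst f f ≫ X ↘ SC) = X ↘ SC
    rw [← Category.assoc, pullback.diagonal_fst, Category.id_comp]⟩

instance lft_pullback (f : X ⟶ Y) [f.IsOver SC] :
    LocallyOfFiniteType ((pullback f f) ↘ SC) := by
  have hflft : LocallyOfFiniteType f := by
    have : LocallyOfFiniteType (f ≫ (Y ↘ An.SC)) := by rw [comp_over]; infer_instance
    exact locallyOfFiniteType_of_comp f (Y ↘ An.SC)
  show LocallyOfFiniteType (pullback.fst f f ≫ X ↘ SC)
  infer_instance

theorem main4195 (f : X ⟶ Y) [f.IsOver SC] :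
    IsSeparated f ↔ IsSeparatedMap (An.Pts.map f) := by
  have hΨ := main4193 f f
  set Ψ : Pts (pullback f f) → (Pts.map f).Pullback (Pts.map f) := fun z =>
    ⟨(Pts.map (pullback.fst f f) z, Pts.map (pullback.snd f f) z),
      Pts.map_pullback_condition f f z⟩ with hΨdef
  have hcomp : Ψ ∘ Pts.map (pullback.diagonal f) = toPullbackDiag (Pts.map f) := by
    funext x
    apply Subtype.ext
    apply Prod.ext
    · apply Subtype.ext
      show (x.1 ≫ pullback.diagonal f) ≫ pullback.fst f f = x.1
      rw [Category.assoc, pullback.diagonal_fst, Category.comp_id]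
    · apply Subtype.ext
      show (x.1 ≫ pullback.diagonal f) ≫ pullback.snd f f = x.1
      rw [Category.assoc, pullback.diagonal_snd, Category.comp_id]
  constructor
  · intro hsep
    haveI : IsClosedImmersion (pullback.diagonal f) := hsep.isClosedImmersion_diagonal
    rw [isSeparatedMap_iff_isClosedEmbedding, ← hcomp]
    exact hΨ.isClosedEmbedding.comp (main4200 (pullback.diagonal f))
  · intro hsep
    rw [isSeparatedMap_iff_isClosed_diagonal] at hsep
    have h1 : IsClosed (Ψ ⁻¹' (Pts.map f).pullbackDiagonal) := hsep.preimage hΨ.continuous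
    have h2 : Ψ ⁻¹' (Pts.map f).pullbackDiagonal = Set.range (Pts.map (pullback.diagonal f)) := by
      ext z
      constructor
      · intro hz
        have hz' : Pts.map (pullback.fst f f) z = Pts.map (pullback.snd f f) z := hz
        refine ⟨Pts.map (pullback.fst f f) z, ?_⟩
        apply Subtype.ext
        show (z.1 ≫ pullback.fst f f) ≫ pullback.diagonal f = z.1
        apply pullback.hom_ext
        · rw [Category.assoc, pullback.diagonal_fst, Category.comp_id]
        · rw [Category.assoc, pullback.diagonal_snd, Category.comp_id]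
          exact congrArg Subtype.val hz'
      · rintro ⟨x, rfl⟩
        have := congrFun hcomp x
        show (Ψ (Pts.map (pullback.diagonal f) x)).fst = (Ψ (Pts.map (pullback.diagonal f) x)).snd
        rw [Function.comp_apply] at this
        rw [this]
        rfl
    rw [h2, range_map_eq] at h1
    haveI : IsLocallyNoetherian (pullback f f) := isLocallyNoetherian_of_lft _
    have hlc : IsLocallyConstructible (Set.range (pullback.diagonal f)) := by
      obtain ⟨O, Z, hO, hZ, hOZ⟩ := IsImmersion.isLocallyClosed_range (f := pullback.diagonal f)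
      rw [hOZ]
      exact (isLocallyConstructible_of_isOpen _ hO).inter (isLocallyConstructible_of_isClosed _ hZ)
    have h3 := isClosed_of_isClosed_preimage (pullback f f) hlc h1
    exact ⟨IsClosedImmersion.of_isPreimmersion _ h3⟩

theorem main4204 (X : Scheme.{0}) [X.Over SC] [LocallyOfFiniteType (X ↘ SC)] :
    IsSeparated (X ↘ An.SC) ↔ T2Space (An.Pts X) := by
  letI iSC : SC.Over SC := ⟨𝟙 SC⟩
  haveI : LocallyOfFiniteType (SC ↘ SC) := by
    show LocallyOfFiniteType (𝟙 SC)
    infer_instance
  haveI : (X ↘ SC).IsOver SC := ⟨Category.comp_id _⟩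
  rw [main4195 (X ↘ SC)]
  have hsub : ∀ y y' : Pts SC, y = y' := by
    intro y y'
    apply Subtype.ext
    have h1 : y.1 = 𝟙 SC := by
      have := y.2
      change y.1 ≫ 𝟙 SC = 𝟙 SC at this
      rwa [Category.comp_id] at this
    have h2 : y'.1 = 𝟙 SC := by
      have := y'.2
      change y'.1 ≫ 𝟙 SC = 𝟙 SC at this
      rwa [Category.comp_id] at this
    rw [h1, h2]
  let y₀ : Pts SC := ⟨𝟙 SC, Category.id_comp _⟩
  have : Pts.map (X ↘ SC) = fun _ => y₀ := funext fun x => hsub _ _
  rw [this]
  exact (t2space_iff_isSeparatedMap y₀).symm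

end Groth.Agent.Lib.Helper4.DensSep
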