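import Mathlib
import Groth.Agent.Lib.Helper4.FinProper
import Groth.Agent.Lib.Helper4.AnProper
import Groth.Agent.Lib.Helper4.DensSep
import Groth.Agent.Lib.Helper4.AnInj

namespace Groth.Agent.Lib.Helper4.AnFinite
open AlgebraicGeometry CategoryTheory TopologicalSpace Opposite An Topology
open Groth.Agent.Lib.Helper4.AnLC Groth.Agent.Lib.Helper4.AnOpen Groth.Agent.Lib.Helper4.FinProper
open Groth.Agent.Lib.Helper4.AnInj

variable {X Y : Scheme.{0}} [X.Over SC] [Y.Over SC]

/-- Finite morphisms give closed maps on points. -/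
theorem isClosedMap_of_isFinite [LocallyOfFiniteType (Y ↘ SC)] (f : X ⟶ Y)
    [f.IsOver SC] [IsFinite f] : IsClosedMap (Pts.map f) := by
  let U : Y.affineOpens → Opens (Pts Y) := fun V =>
    ⟨Set.range (Pts.map V.1.ι), (main4196 V.1.ι).isOpen_range⟩
  have hU : IsOpenCover U := by
    refine IsOpenCover.mk (top_unique fun y _ => ?_)
    obtain ⟨V, hV, hyV⟩ := exists_affineOpen_mem Y y.pt
    refine Opens.mem_iSup.2 ⟨⟨V, hV⟩, ?_⟩
    show y ∈ Set.range (Pts.map V.ι)
    rw [range_map_of_isOpenImmersion]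
    simpa using hyV
  rw [hU.isClosedMap_iff_restrictPreimage]
  rintro ⟨V, hV⟩
  haveI : IsAffine V.toScheme := hV
  haveI : LocallyOfFiniteType (V.toScheme ↘ SC) :=
    inferInstanceAs (LocallyOfFiniteType (V.ι ≫ Y ↘ SC))
  set W : X.Opens := f ⁻¹ᵁ V with hW
  haveI : (f ∣_ V).IsOver SC := ⟨by
    show (f ∣_ V) ≫ V.ι ≫ (Y ↘ SC) = W.ι ≫ (X ↘ SC)
    rw [morphismRestrict_ι_assoc, comp_over]⟩
  haveI : IsAffine W.toScheme := isAffine_of_isAffineHom (f ∣_ V)
  have hint : (f ∣_ V).appTop.hom.IsIntegral := (f ∣_ V).finite_appTop.to_isIntegral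
  have hprop := isProperMap_of_integral (f ∣_ V) hint
  have hsq : ∀ x' : Pts W.toScheme,
      Pts.map f (Pts.map W.ι x') = Pts.map V.ι (Pts.map (f ∣_ V) x') := fun x' => by
    apply Subtype.ext
    show (x'.1 ≫ W.ι) ≫ f = (x'.1 ≫ (f ∣_ V)) ≫ V.ι
    rw [Category.assoc, Category.assoc, morphismRestrict_ι]
  have embV := main4196 V.ι
  have embU := main4196 W.ι
  set s : Set (Pts Y) := Set.range (Pts.map V.ι) with hs
  have hpre : Pts.map f ⁻¹' s = Set.range (Pts.map W.ι) := by
    rw [hs, range_map_of_isOpenImmersion, range_map_of_isOpenImmersion]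
    ext x
    simp only [Set.mem_preimage, Scheme.Opens.range_ι, SetLike.mem_coe, Pts.pt_map]
    rfl
  let eV : Pts V.toScheme ≃ₜ s := embV.isEmbedding.toHomeomorph
  let eU : Pts W.toScheme ≃ₜ (Pts.map f ⁻¹' s) :=
    embU.isEmbedding.toHomeomorph.trans (Homeomorph.setCongr hpre.symm)
  have hcomm : s.restrictPreimage (Pts.map f) ∘ eU = eV ∘ Pts.map (f ∣_ V) := by
    funext x'
    apply Subtype.ext
    exact hsq x'
  have h1 : IsClosedMap (s.restrictPreimage (Pts.map f) ∘ eU) := by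
    rw [hcomm]
    exact eV.isClosedMap.comp hprop.isClosedMap
  have h2 : s.restrictPreimage (Pts.map f) = (s.restrictPreimage (Pts.map f) ∘ eU) ∘ eU.symm := by
    funext x; simp
  show IsClosedMap (s.restrictPreimage (Pts.map f))
  rw [h2]
  exact h1.comp eU.symm.isClosedMap

theorem finite_fibre_of_isFinite [LocallyOfFiniteType (X ↘ SC)] (f : X ⟶ Y) [f.IsOver SC] [IsFinite f] (y : Pts Y) :
    (Pts.map f ⁻¹' {y}).Finite := by
  have h1 : (f ⁻¹' {y.pt}).Finite := f.finite_preimage_singleton y.pt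
  refine (h1.preimage (pt_injective X).injOn).subset ?_
  intro x hx
  show f x.pt = y.pt
  rw [← Pts.pt_map, hx]

end Groth.Agent.Lib.Helper4.AnFinite

namespace Groth.Agent.Lib.Helper4.AnFinite
open AlgebraicGeometry CategoryTheory TopologicalSpace Opposite An Topology
open Groth.Agent.Lib.Helper4.AnLC Groth.Agent.Lib.Helper4.AnOpen Groth.Agent.Lib.Helper4.FinProper
open Groth.Agent.Lib.Helper4.AnInj Groth.Agent.Lib.Helper4.AnBasic
open Groth.Agent.Lib.Helper4.DensSep Groth.Agent.Lib.Helper4.AnProper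

variable {X Y : Scheme.{0}} [X.Over SC] [Y.Over SC]
  [LocallyOfFiniteType (X ↘ SC)] [LocallyOfFiniteType (Y ↘ SC)]

theorem quasiFiniteAt_of_closed (f : X ⟶ Y) [f.IsOver SC] [LocallyOfFiniteType f]
    (hF : ∀ y, (Pts.map f ⁻¹' {y}).Finite) (x : X) (hx : x ∈ closedPoints X) :
    f.QuasiFiniteAt x := by
  haveI : JacobsonSpace X := LocallyOfFiniteType.jacobsonSpace (X ↘ SC)
  haveI : JacobsonSpace Y := LocallyOfFiniteType.jacobsonSpace (Y ↘ SC)
  have hy : f x ∈ closedPoints Y := f.closePoints_subset_preimage_closedPoints hx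
  set y' : Pts Y := ptOfClosed Y (f x) hy with hy'
  have hy'pt : y'.pt = f x := ptOfClosed_pt Y (f x) hy
  set T : Set X := f ⁻¹' {f x} with hTdef
  have hT : IsClosed T := IsClosed.preimage f.continuous hy
  have hsub : T ∩ closedPoints X ⊆ Pts.pt '' (Pts.map f ⁻¹' {y'}) := by
    rintro z ⟨hzT, hzc⟩
    refine ⟨ptOfClosed X z hzc, ?_, ptOfClosed_pt X z hzc⟩
    apply pt_injective Y
    rw [Pts.pt_map, hy'pt]
    exact (congrArg (fun w => f w) (ptOfClosed_pt X z hzc)).trans hzT
  have hfin : (T ∩ closedPoints X).Finite := ((hF y').image _).subset hsub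
  have hcl : IsClosed (T ∩ closedPoints X) := by
    have := hfin.isClosed_biUnion (f := fun z => ({z} : Set X)) (fun z hz => hz.2)
    rwa [Set.biUnion_of_singleton] at this
  have hTeq : T ∩ closedPoints X = T := by
    have := closure_inter_closedPoints hT
    rwa [hcl.closure_eq] at this
  have hTfin : T.Finite := hTeq ▸ hfin
  have hTsub : T ⊆ closedPoints X := fun z hz => (hTeq.symm ▸ hz : z ∈ T ∩ closedPoints X).2
  have hdisc : _root_.IsDiscrete T := hTfin.isDiscrete_of_subset_closedPoints hTsub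
  rw [isDiscrete_iff_discreteTopology] at hdisc
  rw [Scheme.Hom.quasiFiniteAt_iff_isOpen_singleton_asFiber]
  rw [← (f.fiberHomeo (f x)).isOpen_image]
  exact isOpen_discrete _

theorem locallyQuasiFinite_of_pts (f : X ⟶ Y) [f.IsOver SC] [LocallyOfFiniteType f]
    (hF : ∀ y, (Pts.map f ⁻¹' {y}).Finite) : LocallyQuasiFinite f := by
  rw [← Scheme.Hom.quasiFiniteLocus_eq_top_iff]
  by_contra h
  have hne : ((f.quasiFiniteLocus : Set X)ᶜ).Nonempty := by
    rw [Set.nonempty_compl]
    intro h'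
    exact h (top_unique fun z _ => (h' ▸ Set.mem_univ z : z ∈ (f.quasiFiniteLocus : Set X)))
  obtain ⟨z, hz, hzc⟩ := exists_closedPoint_of_nonempty X _
    f.quasiFiniteLocus.isOpen.isClosed_compl.isLocallyClosed hne
  exact hz (quasiFiniteAt_of_closed f hF z hzc)

theorem isFinite_of_pts (f : X ⟶ Y) [f.IsOver SC] [QuasiCompact f]
    (hP : IsProperMap (Pts.map f)) (hS : IsSeparatedMap (Pts.map f))
    (hF : ∀ y, (Pts.map f ⁻¹' {y}).Finite) : IsFinite f := by
  haveI : LocallyOfFiniteType f := by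
    have : LocallyOfFiniteType (f ≫ (Y ↘ SC)) := by rw [comp_over]; infer_instance
    exact locallyOfFiniteType_of_comp f (Y ↘ SC)
  haveI : IsSeparated f := (main4195 f).2 hS
  haveI : UniversallyClosed f := universallyClosed_of_isProperMap f hP
  haveI : IsProper f := {}
  haveI : LocallyQuasiFinite f := locallyQuasiFinite_of_pts f hF
  exact IsFinite.of_isProper_of_locallyQuasiFinite f

theorem main4203 (f : X ⟶ Y) [f.IsOver SC] [QuasiCompact f] :
    IsFinite f ↔ IsProperMap (Pts.map f) ∧ IsSeparatedMap (Pts.map f) ∧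
      ∀ y : Pts Y, (Pts.map f ⁻¹' {y}).Finite := by
  constructor
  · intro hf
    refine ⟨?_, (main4195 f).1 inferInstance, finite_fibre_of_isFinite f⟩
    rw [isProperMap_iff_isClosedMap_and_compact_fibers]
    exact ⟨Pts.continuous_map f, isClosedMap_of_isFinite f,
      fun y => (finite_fibre_of_isFinite f y).isCompact⟩
  · rintro ⟨hP, hS, hF⟩
    exact isFinite_of_pts f hP hS hF

end Groth.Agent.Lib.Helper4.AnFinite
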