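import Mathlib.Tactic
import Mathlib.AlgebraicGeometry.Morphisms.Immersion
import Groth.Agent.Lib.Helper4.AnClosed

namespace Groth.Agent.Lib.Helper4.AnImm
open AlgebraicGeometry CategoryTheory TopologicalSpace Opposite An Topology Limits
open Groth.Agent.Lib.Helper4.AnEv Groth.Agent.Lib.Helper4.AnOpen Groth.Agent.Lib.Helper4.AnClosed

variable {X Y : Scheme.{0}} [X.Over SC] [Y.Over SC]

instance liftCoborder_isOver (f : X ⟶ Y) [f.IsOver SC] [IsImmersion f] :
    f.liftCoborder.IsOver SC :=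
  ⟨by
    show f.liftCoborder ≫ (f.coborderRange.ι ≫ Y ↘ SC) = X ↘ SC
    rw [← Category.assoc, f.liftCoborder_ι, comp_over f SC]⟩

lemma map_eq_comp (f : X ⟶ Y) [f.IsOver SC] [IsImmersion f] :
    Pts.map f = Pts.map f.coborderRange.ι ∘ Pts.map f.liftCoborder := by
  funext x
  apply Subtype.ext
  show x.1 ≫ f = (x.1 ≫ f.liftCoborder) ≫ f.coborderRange.ι
  rw [Category.assoc, f.liftCoborder_ι]

theorem range_map_of_isImmersion (f : X ⟶ Y) [f.IsOver SC] [IsImmersion f] :
    Set.range (Pts.map f) = Pts.pt ⁻¹' (Set.range f) := by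
  ext y
  constructor
  · rintro ⟨x, rfl⟩
    show (Pts.map f x).pt ∈ Set.range f
    rw [Pts.pt_map]; exact ⟨_, rfl⟩
  · rintro ⟨p, hp⟩
    have hp' : f.coborderRange.ι (f.liftCoborder p) = y.pt := by
      rw [← Scheme.Hom.comp_apply, f.liftCoborder_ι]; exact hp
    obtain ⟨z, hz⟩ := exists_lift_of_isOpenImmersion f.coborderRange.ι y ⟨_, hp'⟩
    have hzpt : z.pt = f.liftCoborder p := by
      apply f.coborderRange.ι.isOpenEmbedding.injective
      rw [← Pts.pt_map, hz, hp']
    obtain ⟨x, hx⟩ := exists_lift_of_isClosedImmersion f.liftCoborder z ⟨p, hzpt.symm⟩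
    refine ⟨x, ?_⟩
    rw [map_eq_comp, Function.comp_apply, hx, hz]

theorem main4201 (f : X ⟶ Y) [f.IsOver SC] [IsImmersion f] :
    Topology.IsEmbedding (Pts.map f) ∧ IsLocallyClosed (Set.range (Pts.map f)) := by
  constructor
  · rw [map_eq_comp]
    exact (main4196 f.coborderRange.ι).isEmbedding.comp (main4200 f.liftCoborder).isEmbedding
  · rw [range_map_of_isImmersion]
    exact (IsImmersion.isLocallyClosed_range (f := f)).preimage Pts.continuous_pt

end Groth.Agent.Lib.Helper4.AnImm
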