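import Mathlib
import Groth.Agent.Lib.Helper4.AnOpen
import Groth.Agent.Lib.Helper4.AnPB

namespace Groth.Agent.Lib.Helper4.AnPBGen
open AlgebraicGeometry CategoryTheory TopologicalSpace Opposite An Topology Limits
open Groth.Agent.Lib.Helper4.AnEv Groth.Agent.Lib.Helper4.AnOpen Groth.Agent.Lib.Helper4.AnPB

/-- An isomorphism over `ℂ` induces a homeomorphism on points. -/
theorem isHomeomorph_map_of_isIso {P P' : Scheme.{0}} [P.Over SC] [P'.Over SC] (e : P ⟶ P')
    [e.IsOver SC] [IsIso e] : IsHomeomorph (Pts.map e) := by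
  rw [isHomeomorph_iff_isEmbedding_surjective]
  refine ⟨(main4196 e).isEmbedding, fun y => ?_⟩
  exact exists_lift_of_isOpenImmersion e y ((ConcreteCategory.bijective_of_isIso e.base).2 _ |>.imp fun _ h => h)

variable {P X Y S : Scheme.{0}} [P.Over SC] [X.Over SC] [Y.Over SC] [S.Over SC]
  {fst : P ⟶ X} {snd : P ⟶ Y} {f : X ⟶ S} {g : Y ⟶ S}
  [fst.IsOver SC] [snd.IsOver SC] [f.IsOver SC] [g.IsOver SC]

lemma map_condition (h : IsPullback fst snd f g) (z : Pts P) :
    Pts.map f (Pts.map fst z) = Pts.map g (Pts.map snd z) :=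
  Subtype.ext (by
    change (z.1 ≫ fst) ≫ f = (z.1 ≫ snd) ≫ g
    rw [Category.assoc, Category.assoc, h.w])

theorem isHomeomorph_of_isPullback (h : IsPullback fst snd f g) :
    IsHomeomorph (fun z : Pts P =>
      (⟨(Pts.map fst z, Pts.map snd z), map_condition h z⟩ :
        {q : Pts X × Pts Y // Pts.map f q.1 = Pts.map g q.2})) := by
  let e : P ≅ pullback f g := h.isoPullback
  haveI : e.hom.IsOver SC := ⟨by
    show e.hom ≫ (pullback.fst f g ≫ X ↘ SC) = P ↘ SC
    rw [← Category.assoc, h.isoPullback_hom_fst, comp_over]⟩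
  have h1 := isHomeomorph_map_of_isIso e.hom
  have h2 := main4193 f g
  have h3 := h2.comp h1
  convert h3 using 1
  funext z
  apply Subtype.ext
  apply Prod.ext
  · apply Subtype.ext
    show z.1 ≫ fst = (z.1 ≫ e.hom) ≫ pullback.fst f g
    rw [Category.assoc, h.isoPullback_hom_fst]
  · apply Subtype.ext
    show z.1 ≫ snd = (z.1 ≫ e.hom) ≫ pullback.snd f g
    rw [Category.assoc, h.isoPullback_hom_snd]

end Groth.Agent.Lib.Helper4.AnPBGen
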