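import Mathlib

namespace Groth.Agent.Lib.Helper4.UltraVal
open Filter Topology

variable {I : Type} (𝒰 : Ultrafilter I)

/-- The ultrapower of `ℂ`. -/
abbrev KK : Type := Filter.Germ (𝒰 : Filter I) ℂ

variable {𝒰}

/-- A germ has limit `c` along the ultrafilter. -/
def Lim (a : KK 𝒰) (c : ℂ) : Prop := a.Tendsto (𝓝 c)

lemma lim_coe {u : I → ℂ} {c : ℂ} : Lim (↑u : KK 𝒰) c ↔ Tendsto u 𝒰 (𝓝 c) := Germ.coe_tendsto

lemma Lim.unique {a : KK 𝒰} {c d : ℂ} (h : Lim a c) (h' : Lim a d) : c = d := by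
  induction a using Germ.inductionOn with
  | h u => exact tendsto_nhds_unique (lim_coe.1 h) (lim_coe.1 h')

lemma Lim.add {a b : KK 𝒰} {c d : ℂ} (h : Lim a c) (h' : Lim b d) : Lim (a + b) (c + d) := by
  induction a using Germ.inductionOn with
  | h u =>
    induction b using Germ.inductionOn with
    | h v => exact lim_coe.2 ((lim_coe.1 h).add (lim_coe.1 h'))

lemma Lim.mul {a b : KK 𝒰} {c d : ℂ} (h : Lim a c) (h' : Lim b d) : Lim (a * b) (c * d) := by
  induction a using Germ.inductionOn with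
  | h u =>
    induction b using Germ.inductionOn with
    | h v => exact lim_coe.2 ((lim_coe.1 h).mul (lim_coe.1 h'))

lemma Lim.neg {a : KK 𝒰} {c : ℂ} (h : Lim a c) : Lim (-a) (-c) := by
  induction a using Germ.inductionOn with
  | h u => exact lim_coe.2 (lim_coe.1 h).neg

lemma lim_const (c : ℂ) : Lim ((↑c : KK 𝒰)) c := lim_coe.2 tendsto_const_nhds

lemma lim_zero : Lim (0 : KK 𝒰) 0 := lim_const 0
lemma lim_one : Lim (1 : KK 𝒰) 1 := lim_const 1

/-- Bounded germs. -/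
def Bdd (a : KK 𝒰) : Prop := ∃ M : ℝ, a.LiftPred fun z => ‖z‖ ≤ M

lemma bdd_coe {u : I → ℂ} : Bdd (↑u : KK 𝒰) ↔ ∃ M : ℝ, ∀ᶠ i in (𝒰 : Filter I), ‖u i‖ ≤ M :=
  Iff.rfl

lemma Lim.bdd {a : KK 𝒰} {c : ℂ} (h : Lim a c) : Bdd a := by
  induction a using Germ.inductionOn with
  | h u =>
    refine bdd_coe.2 ⟨‖c‖ + 1, ?_⟩
    have h1 : Tendsto (fun i => ‖u i‖) 𝒰 (𝓝 ‖c‖) := (lim_coe.1 h).norm
    exact (h1.eventually (gt_mem_nhds (lt_add_one ‖c‖))).mono fun i hi => hi.le

lemma Bdd.exists_lim {a : KK 𝒰} (h : Bdd a) : ∃ c, Lim a c := by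
  induction a using Germ.inductionOn with
  | h u =>
    obtain ⟨M, hM⟩ := bdd_coe.1 h
    have hc : IsCompact (Metric.closedBall (0 : ℂ) M) := isCompact_closedBall 0 M
    have hle : ((𝒰.map u : Ultrafilter ℂ) : Filter ℂ) ≤ 𝓟 (Metric.closedBall (0 : ℂ) M) := by
      rw [le_principal_iff]
      show _ ∈ Filter.map u 𝒰
      rw [mem_map]
      exact hM.mono fun i hi => by simpa using hi
    obtain ⟨c, -, hc'⟩ := hc.ultrafilter_le_nhds _ hle
    exact ⟨c, lim_coe.2 hc'⟩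

variable (𝒰)

/-- The valuation subring of bounded elements of the ultrapower. -/
def OO : ValuationSubring (KK 𝒰) where
  carrier := {a | Bdd a}
  mul_mem' := by
    intro a b ha hb
    induction a using Germ.inductionOn with
    | h u =>
      induction b using Germ.inductionOn with
      | h v =>
        obtain ⟨M, hM⟩ := bdd_coe.1 ha
        obtain ⟨N, hN⟩ := bdd_coe.1 hb
        refine bdd_coe.2 ⟨M * N, ?_⟩
        filter_upwards [hM, hN] with i hi hj
        show ‖u i * v i‖ ≤ M * N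
        rw [norm_mul]
        exact mul_le_mul hi hj (norm_nonneg _) ((norm_nonneg _).trans hi)
  one_mem' := (lim_one).bdd
  add_mem' := by
    intro a b ha hb
    induction a using Germ.inductionOn with
    | h u =>
      induction b using Germ.inductionOn with
      | h v =>
        obtain ⟨M, hM⟩ := bdd_coe.1 ha
        obtain ⟨N, hN⟩ := bdd_coe.1 hb
        refine bdd_coe.2 ⟨M + N, ?_⟩
        filter_upwards [hM, hN] with i hi hj
        exact (norm_add_le _ _).trans (add_le_add hi hj)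
  zero_mem' := (lim_zero).bdd
  neg_mem' := by
    intro a ha
    induction a using Germ.inductionOn with
    | h u =>
      obtain ⟨M, hM⟩ := bdd_coe.1 ha
      refine bdd_coe.2 ⟨M, ?_⟩
      filter_upwards [hM] with i hi
      show ‖-u i‖ ≤ M
      rwa [norm_neg]
  mem_or_inv_mem' := by
    intro a
    induction a using Germ.inductionOn with
    | h u =>
      rcases 𝒰.em (fun i => ‖u i‖ ≤ 1) with h | h
      · exact Or.inl (bdd_coe.2 ⟨1, h⟩)
      · refine Or.inr (bdd_coe.2 ⟨1, ?_⟩)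
        filter_upwards [h] with i hi
        show ‖(u i)⁻¹‖ ≤ 1
        rw [norm_inv]
        exact inv_le_one_of_one_le₀ (not_le.1 hi).le

variable {𝒰}

lemma mem_OO {a : KK 𝒰} : a ∈ OO 𝒰 ↔ Bdd a := Iff.rfl

/-- The standard part. -/
noncomputable def stFun (a : OO 𝒰) : ℂ := (mem_OO.1 a.2).exists_lim.choose

lemma stFun_spec (a : OO 𝒰) : Lim (a : KK 𝒰) (stFun a) := (mem_OO.1 a.2).exists_lim.choose_spec

lemma stFun_eq {a : OO 𝒰} {c : ℂ} (h : Lim (a : KK 𝒰) c) : stFun a = c :=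
  (stFun_spec a).unique h

variable (𝒰)

/-- The standard part as a ring homomorphism. -/
noncomputable def st : OO 𝒰 →+* ℂ where
  toFun := stFun
  map_one' := stFun_eq lim_one
  map_mul' a b := stFun_eq ((stFun_spec a).mul (stFun_spec b))
  map_zero' := stFun_eq lim_zero
  map_add' a b := stFun_eq ((stFun_spec a).add (stFun_spec b))

variable {𝒰}

lemma st_spec (a : OO 𝒰) : Lim (a : KK 𝒰) (st 𝒰 a) := stFun_spec a

lemma st_eq {a : OO 𝒰} {c : ℂ} (h : Lim (a : KK 𝒰) c) : st 𝒰 a = c := stFun_eq h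

lemma st_mk {a : KK 𝒰} {c : ℂ} (h : Lim a c) : st 𝒰 ⟨a, mem_OO.2 h.bdd⟩ = c := st_eq h

lemma st_surjective : Function.Surjective (st 𝒰) := fun c =>
  ⟨⟨(↑c : KK 𝒰), mem_OO.2 (lim_const c).bdd⟩, st_eq (lim_const c)⟩

lemma ker_st : RingHom.ker (st 𝒰) = IsLocalRing.maximalIdeal (OO 𝒰) :=
  IsLocalRing.eq_maximalIdeal (RingHom.ker_isMaximal_of_surjective (st 𝒰) st_surjective)

/-- Nonvanishing of a germ. -/
lemma coe_ne_zero {u : I → ℂ} : (↑u : KK 𝒰) ≠ 0 ↔ ∀ᶠ i in (𝒰 : Filter I), u i ≠ 0 := by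
  rw [Ne, show (0 : KK 𝒰) = ↑(fun _ : I => (0 : ℂ)) from rfl, Germ.coe_eq]
  exact Ultrafilter.eventually_not.symm

end Groth.Agent.Lib.Helper4.UltraVal
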