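import Mathlib
import Groth.Agent.Lib.Helper4.UltraVal
import Groth.Agent.Lib.Helper4.AnEv

namespace Groth.Agent.Lib.Helper4.UltraPt
open AlgebraicGeometry CategoryTheory TopologicalSpace Opposite An Topology Filter
open Groth.Agent.Lib.Helper4.AnEv Groth.Agent.Lib.Helper4.UltraVal

/-- A morphism from an affine scheme `Spec R` landing in an affine open factors through `fromSpec`. -/
lemma eq_SpecMap_fromSpec {X : Scheme.{0}} {U : X.Opens} (hU : IsAffineOpen U) {R : CommRingCat.{0}}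
    (g : Spec R ⟶ X) (h : ⊤ ≤ g ⁻¹ᵁ U) :
    g = Spec.map (g.appLE U ⊤ h ≫ (Scheme.ΓSpecIso R).hom) ≫ hU.fromSpec := by
  have h1 := hU.SpecMap_appLE_fromSpec g (isAffineOpen_top (Spec R)) h
  rw [IsAffineOpen.fromSpec_top, Scheme.isoSpec_Spec_inv] at h1
  rw [Spec.map_comp, Category.assoc, h1, ← Category.assoc, ← Spec.map_comp, Iso.inv_hom_id,
    Spec.map_id, Category.id_comp]

variable {X : Scheme.{0}} [X.Over SC]

lemma pt_eq_SpecMap_fromSpec {U : X.Opens} (hU : IsAffineOpen U) (x : Pts X) (h : x.pt ∈ U) :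
    x.1 = Spec.map (CommRingCat.ofHom (evHom x U h)) ≫ hU.fromSpec :=
  eq_SpecMap_fromSpec hU x.1 (Pts.top_le_preimage x h)

lemma evHom_eq_of_eq {U : X.Opens} (hU : IsAffineOpen U) (x : Pts X) (h : x.pt ∈ U)
    (χ : Γ(X, U) ⟶ CommRingCat.of ℂ) (hχ : x.1 = Spec.map χ ≫ hU.fromSpec) :
    χ = CommRingCat.ofHom (evHom x U h) := by
  have h1 := pt_eq_SpecMap_fromSpec hU x h
  rw [hχ, cancel_mono] at h1
  exact Spec.map_injective h1

section phi
variable (𝒰 : Ultrafilter (Pts X))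

/-- The evaluation homomorphism into the ultrapower. -/
noncomputable def phi (U : X.Opens) (hU : Pts.pt ⁻¹' (U : Set X) ∈ 𝒰) : Γ(X, U) →+* KK 𝒰 where
  toFun a := ((fun x : Pts X => evD x U a : Pts X → ℂ) : KK 𝒰)
  map_one' := Germ.coe_eq.2 (by
    filter_upwards [hU] with x hx
    rw [evD_of_mem x U _ hx, AnEv.ev_one])
  map_mul' a b := Germ.coe_eq.2 (by
    filter_upwards [hU] with x hx
    show evD x U (a * b) = evD x U a * evD x U b
    rw [evD_of_mem x U _ hx, evD_of_mem x U _ hx, evD_of_mem x U _ hx, AnEv.ev_mul])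
  map_zero' := Germ.coe_eq.2 (by
    filter_upwards [hU] with x hx
    rw [evD_of_mem x U _ hx, AnEv.ev_zero])
  map_add' a b := Germ.coe_eq.2 (by
    filter_upwards [hU] with x hx
    show evD x U (a + b) = evD x U a + evD x U b
    rw [evD_of_mem x U _ hx, evD_of_mem x U _ hx, evD_of_mem x U _ hx, AnEv.ev_add])

variable {𝒰}

lemma phi_apply (U : X.Opens) (hU : Pts.pt ⁻¹' (U : Set X) ∈ 𝒰) (a : Γ(X, U)) :
    phi 𝒰 U hU a = ((fun x : Pts X => evD x U a : Pts X → ℂ) : KK 𝒰) := rfl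

lemma phi_res {U W : X.Opens} (hWU : W ≤ U) (hU : Pts.pt ⁻¹' (U : Set X) ∈ 𝒰)
    (hW : Pts.pt ⁻¹' (W : Set X) ∈ 𝒰) (a : Γ(X, U)) :
    phi 𝒰 W hW (X.presheaf.map (homOfLE hWU).op a) = phi 𝒰 U hU a := by
  rw [phi_apply, phi_apply]
  refine Germ.coe_eq.2 ?_
  filter_upwards [hW] with x hx
  rw [evD_of_mem x W _ hx, evD_of_mem x U _ (hWU hx), AnEv.ev_res]

lemma phi_ne_zero {U : X.Opens} (hU : Pts.pt ⁻¹' (U : Set X) ∈ 𝒰) (g : Γ(X, U))
    (hg : phi 𝒰 U hU g ≠ 0) : Pts.pt ⁻¹' (X.basicOpen g : Set X) ∈ 𝒰 := by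
  rw [phi_apply, coe_ne_zero] at hg
  filter_upwards [hg, hU] with x hx hxU
  rw [evD_of_mem x U _ hxU] at hx
  exact (mem_basicOpen_iff x U hxU g).2 hx

/-- The point of the ultrapower field determined by the ultrafilter. -/
noncomputable def i1 {U : X.Opens} (hUaff : IsAffineOpen U) (hU : Pts.pt ⁻¹' (U : Set X) ∈ 𝒰) :
    Spec (CommRingCat.of (KK 𝒰)) ⟶ X :=
  Spec.map (CommRingCat.ofHom (phi 𝒰 U hU)) ≫ hUaff.fromSpec

lemma i1_res {U W : X.Opens} (hWU : W ≤ U) (hUaff : IsAffineOpen U) (hWaff : IsAffineOpen W)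
    (hU : Pts.pt ⁻¹' (U : Set X) ∈ 𝒰) (hW : Pts.pt ⁻¹' (W : Set X) ∈ 𝒰) :
    i1 hWaff hW = i1 hUaff hU := by
  unfold i1
  rw [← hUaff.map_fromSpec hWaff (homOfLE hWU).op, ← Category.assoc, ← Spec.map_comp]
  congr 2
  ext a
  exact phi_res hWU hU hW a

lemma i1_mem {U : X.Opens} (hUaff : IsAffineOpen U) (hU : Pts.pt ⁻¹' (U : Set X) ∈ 𝒰)
    (p : Spec (CommRingCat.of (KK 𝒰))) : i1 hUaff hU p ∈ U := by
  have : i1 hUaff hU p ∈ Set.range hUaff.fromSpec := by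
    unfold i1
    rw [Scheme.Hom.comp_apply]
    exact ⟨_, rfl⟩
  rwa [hUaff.range_fromSpec] at this

lemma mem_of_i1_mem {U : X.Opens} (hUaff : IsAffineOpen U) (hU : Pts.pt ⁻¹' (U : Set X) ∈ 𝒰)
    (p : Spec (CommRingCat.of (KK 𝒰))) (W : X.Opens) (hp : i1 hUaff hU p ∈ W) :
    Pts.pt ⁻¹' (W : Set X) ∈ 𝒰 := by
  obtain ⟨g, hgW, hpg⟩ := hUaff.exists_basicOpen_le ⟨i1 hUaff hU p, hp⟩ (i1_mem hUaff hU p)
  have hne : phi 𝒰 U hU g ≠ 0 := by
    have h1 : p ∈ i1 hUaff hU ⁻¹ᵁ X.basicOpen g := hpg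
    unfold i1 at h1
    rw [Scheme.Hom.comp_preimage, hUaff.fromSpec_preimage_basicOpen] at h1
    have h2 : g ∉ (Spec.map (CommRingCat.ofHom (phi 𝒰 U hU)) p).asIdeal := h1
    intro h0
    apply h2
    show g ∈ Ideal.comap (phi 𝒰 U hU) p.asIdeal
    rw [Ideal.mem_comap, h0]
    exact zero_mem _
  exact mem_of_superset (phi_ne_zero hU g hne) (fun x hx => hgW hx)

end phi

end Groth.Agent.Lib.Helper4.UltraPt
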