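import Mathlib
import Groth.Agent.Lib.Helper4.UltraPt
import Groth.Agent.Lib.Helper4.AnPB
import Groth.Agent.Lib.Helper4.AnLC

namespace Groth.Agent.Lib.Helper4.UltraProper
open AlgebraicGeometry CategoryTheory TopologicalSpace Opposite An Topology Filter
open Groth.Agent.Lib.Helper4.AnEv Groth.Agent.Lib.Helper4.UltraVal Groth.Agent.Lib.Helper4.UltraPt
open Groth.Agent.Lib.Helper4.AnLC Groth.Agent.Lib.Helper4.AnPB

variable {X Y : Scheme.{0}} [X.Over SC] [Y.Over SC]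

/-- The ultrafilter concentrates on an affine open mapping into a given affine open. -/
lemma exists_affine_mem (f : X ⟶ Y) [f.IsOver SC] [QuasiCompact f]
    (𝒰 : Ultrafilter (Pts X)) (y : Pts Y) (h : Tendsto (Pts.map f) 𝒰 (𝓝 y))
    (V : Y.Opens) (hV : IsAffineOpen V) (hyV : y.pt ∈ V) :
    ∃ U : X.Opens, IsAffineOpen U ∧ U ≤ f ⁻¹ᵁ V ∧ Pts.pt ⁻¹' (U : Set X) ∈ 𝒰 := by
  have hVm : Pts.pt ⁻¹' ((f ⁻¹ᵁ V : X.Opens) : Set X) ∈ 𝒰 := by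
    have h1 : Pts.pt ⁻¹' (V : Set Y) ∈ 𝓝 y := (Pts.isOpen_preimage_pt V).mem_nhds hyV
    have h2 := h h1
    rw [Filter.mem_map] at h2
    refine mem_of_superset h2 fun x hx => ?_
    have : (Pts.map f x).pt ∈ V := hx
    rwa [Pts.pt_map] at this
  have hqc : IsCompact ((f ⁻¹ᵁ V : X.Opens) : Set X) :=
    QuasiCompact.isCompact_preimage (f := f) _ V.2 hV.isCompact
  obtain ⟨s, hs, hsU⟩ := isCompact_and_isOpen_iff_finite_and_eq_biUnion_affineOpens.1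
    ⟨hqc, (f ⁻¹ᵁ V).2⟩
  have h3 : (⋃ i ∈ s, Pts.pt ⁻¹' ((i : X.Opens) : Set X)) ∈ 𝒰 := by
    refine mem_of_superset hVm fun x hx => ?_
    have hx' : x.pt ∈ ((f ⁻¹ᵁ V : X.Opens) : Set X) := hx
    rw [hsU] at hx'
    simp only [Set.mem_iUnion] at hx' ⊢
    exact hx'
  obtain ⟨i, hi, hi𝒰⟩ := (Ultrafilter.finite_biUnion_mem_iff hs).1 h3
  refine ⟨i.1, i.2, ?_, hi𝒰⟩
  intro p hp
  have : p ∈ ⋃ i ∈ s, ((i : X.Opens) : Set X) := Set.mem_biUnion hi hp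
  rw [← hsU] at this
  exact this

lemma ev_appLE (f : X ⟶ Y) [f.IsOver SC] {U : X.Opens} {V : Y.Opens} (e : U ≤ f ⁻¹ᵁ V)
    (x : Pts X) (hx : x.pt ∈ U) (b : Γ(Y, V)) :
    x.ev U hx (f.appLE V U e b) =
      (Pts.map f x).ev V (by rw [Pts.pt_map]; exact e hx) b := by
  rw [Pts.ev_map]
  have : f.appLE V U e b = X.presheaf.map (homOfLE e).op (f.app V b) := by
    rw [Scheme.Hom.appLE]
    rfl
  rw [this, AnEv.ev_res]

lemma lim_phi_appLE (f : X ⟶ Y) [f.IsOver SC]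
    (𝒰 : Ultrafilter (Pts X)) (y : Pts Y) (h : Tendsto (Pts.map f) 𝒰 (𝓝 y))
    (V : Y.Opens) (hyV : y.pt ∈ V) (U : X.Opens) (e : U ≤ f ⁻¹ᵁ V)
    (hU : Pts.pt ⁻¹' (U : Set X) ∈ 𝒰) (b : Γ(Y, V)) :
    Lim (phi 𝒰 U hU (f.appLE V U e b)) (y.ev V hyV b) := by
  rw [phi_apply, lim_coe]
  have h1 : ContinuousAt (fun z : Pts Y => evD z V b) y :=
    (continuousOn_evD V b).continuousAt ((Pts.isOpen_preimage_pt V).mem_nhds hyV)
  have h2 : Tendsto (fun x => evD (Pts.map f x) V b) 𝒰 (𝓝 (evD y V b)) := h1.tendsto.comp h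
  rw [evD_of_mem y V b hyV] at h2
  refine h2.congr' ?_
  filter_upwards [hU] with x hx
  have hx' : (Pts.map f x).pt ∈ V := by rw [Pts.pt_map]; exact e hx
  rw [evD_of_mem _ V b hx', evD_of_mem x U _ hx, ev_appLE f e x hx b]

lemma SpecMap_st_cpt (𝒰 : Ultrafilter (Pts X)) :
    Spec.map (CommRingCat.ofHom (st 𝒰)) cpt = IsLocalRing.closedPoint (OO 𝒰) := by
  apply PrimeSpectrum.ext
  show Ideal.comap (st 𝒰) cpt.asIdeal = IsLocalRing.maximalIdeal (OO 𝒰)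
  rw [← ker_st, RingHom.ker_eq_comap_bot]
  have hb : (cpt : PrimeSpectrum ℂ).asIdeal = ⊥ :=
    haveI := (cpt : PrimeSpectrum ℂ).isPrime
    Ideal.eq_bot_of_prime (cpt : PrimeSpectrum ℂ).asIdeal
  exact congrArg (Ideal.comap (st 𝒰)) hb

/-- Convergence criterion in terms of an affine chart. -/
lemma le_nhds_of_tendsto_evD (𝒰 : Ultrafilter (Pts X)) (x₀ : Pts X)
    (H : ∀ (U' : X.Opens) (hU' : IsAffineOpen U') (h : x₀.pt ∈ U'),
      Pts.pt ⁻¹' (U' : Set X) ∈ 𝒰 ∧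
        ∀ a' : Γ(X, U'), Tendsto (fun x => evD x U' a') 𝒰 (𝓝 (x₀.ev U' h a'))) :
    (𝒰 : Filter (Pts X)) ≤ 𝓝 x₀ := by
  rw [show 𝓝 x₀ = _ from TopologicalSpace.nhds_generateFrom]
  refine le_iInf₂ fun s hs => ?_
  obtain ⟨hx₀s, W, a, Vc, hVc, rfl⟩ := hs
  rw [le_principal_iff]
  obtain ⟨U', hU', hx₀U'⟩ := exists_affineOpen_mem X x₀.pt
  obtain ⟨g, c, m, hx₀r, hsub⟩ := exists_ratSet hU' x₀ hx₀U' W a Vc hx₀s
  obtain ⟨hmem, hlim⟩ := H U' hU' hx₀U'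
  refine mem_of_superset ?_ hsub
  obtain ⟨h', hg0, hcV⟩ := hx₀r
  have h1 : ∀ᶠ x in (𝒰 : Filter (Pts X)), evD x U' g ≠ 0 := (hlim g).eventually_ne hg0
  have h2 : Tendsto (fun x => evD x U' c / (evD x U' g) ^ m) 𝒰
      (𝓝 (x₀.ev U' hx₀U' c / (x₀.ev U' hx₀U' g) ^ m)) :=
    (hlim c).div ((hlim g).pow m) (pow_ne_zero m hg0)
  have h3 : ∀ᶠ x in (𝒰 : Filter (Pts X)), evD x U' c / (evD x U' g) ^ m ∈ Vc :=
    h2.eventually (hVc.mem_nhds hcV)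
  filter_upwards [hmem, h1, h3] with x hx hx1 hx3
  rw [evD_of_mem x U' _ hx] at hx1
  rw [evD_of_mem x U' _ hx, evD_of_mem x U' _ hx] at hx3
  exact ⟨hx, hx1, hx3⟩


/-- The existence part of the valuative criterion gives limits of ultrafilters. -/
theorem exists_lim_of_tendsto (f : X ⟶ Y) [f.IsOver SC] [QuasiCompact f]
    (hVC : ValuativeCriterion.Existence f)
    (𝒰 : Ultrafilter (Pts X)) (y : Pts Y) (h : Tendsto (Pts.map f) 𝒰 (𝓝 y)) :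
    ∃ x, Pts.map f x = y ∧ (𝒰 : Filter (Pts X)) ≤ 𝓝 x := by
  obtain ⟨V, hV, hyV⟩ := exists_affineOpen_mem Y y.pt
  obtain ⟨U, hUaff, e, hU⟩ := exists_affine_mem f 𝒰 y h V hV hyV
  -- the homomorphism into the valuation ring
  let ψ₀ : Γ(Y, V) →+* KK 𝒰 := (phi 𝒰 U hU).comp (f.appLE V U e).hom
  have hψ₀ : ∀ b, Lim (ψ₀ b) (y.ev V hyV b) := fun b => lim_phi_appLE f 𝒰 y h V hyV U e hU b
  let ψ : Γ(Y, V) →+* OO 𝒰 := ψ₀.codRestrict (OO 𝒰) fun b => mem_OO.2 (hψ₀ b).bdd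
  have hψst : CommRingCat.ofHom ψ ≫ CommRingCat.ofHom (st 𝒰) =
      CommRingCat.ofHom (evHom y V hyV) := by
    ext b
    exact st_eq (hψ₀ b)
  let i₂ : Spec (CommRingCat.of (OO 𝒰)) ⟶ Y := Spec.map (CommRingCat.ofHom ψ) ≫ hV.fromSpec
  have w : i1 hUaff hU ≫ f =
      Spec.map (CommRingCat.ofHom (algebraMap (OO 𝒰) (KK 𝒰))) ≫ i₂ := by
    show (Spec.map (CommRingCat.ofHom (phi 𝒰 U hU)) ≫ hUaff.fromSpec) ≫ f = _ ≫ _ ≫ _
    rw [Category.assoc, ← hV.SpecMap_appLE_fromSpec f hUaff e, ← Category.assoc, ← Category.assoc,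
      ← Spec.map_comp, ← Spec.map_comp]
    rfl
  obtain ⟨l, hl₁, hl₂⟩ : ∃ l : Spec (CommRingCat.of (OO 𝒰)) ⟶ X,
      Spec.map (CommRingCat.ofHom (algebraMap (OO 𝒰) (KK 𝒰))) ≫ l = i1 hUaff hU ∧ l ≫ f = i₂ := by
    obtain ⟨⟨l, h1, h2⟩⟩ := (hVC ⟨OO 𝒰, KK 𝒰, i1 hUaff hU, i₂, ⟨w⟩⟩).exists_lift
    exact ⟨l, h1, h2⟩
  -- the limit point
  have hx₀f : (Spec.map (CommRingCat.ofHom (st 𝒰)) ≫ l) ≫ f = y.1 := by
    rw [Category.assoc, hl₂]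
    show _ ≫ _ ≫ _ = _
    rw [← Category.assoc, ← Spec.map_comp, hψst]
    exact (pt_eq_SpecMap_fromSpec hV y hyV).symm
  let x₀ : Pts X := ⟨Spec.map (CommRingCat.ofHom (st 𝒰)) ≫ l, by
    rw [← comp_over f, ← Category.assoc, hx₀f, y.2]⟩
  refine ⟨x₀, Subtype.ext hx₀f, ?_⟩
  refine le_nhds_of_tendsto_evD 𝒰 x₀ fun U' hU' hx₀U' => ?_
  -- the lift lands in U'
  have hcl : l (IsLocalRing.closedPoint (OO 𝒰)) = x₀.pt := by
    rw [← SpecMap_st_cpt]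
    exact (Scheme.Hom.comp_apply _ _ _).symm
  have htop : l ⁻¹ᵁ U' = ⊤ := by
    refine (IsLocalRing.closedPoint_mem_iff (R := OO 𝒰) (l ⁻¹ᵁ U')).1 ?_
    show l (IsLocalRing.closedPoint (OO 𝒰)) ∈ U'
    rw [hcl]; exact hx₀U'
  set lam : Γ(X, U') ⟶ CommRingCat.of (OO 𝒰) :=
    l.appLE U' ⊤ htop.ge ≫ (Scheme.ΓSpecIso (CommRingCat.of (OO 𝒰))).hom with hlam
  have hl : l = Spec.map lam ≫ hU'.fromSpec := eq_SpecMap_fromSpec hU' l htop.ge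
  have hi1 : i1 hUaff hU =
      Spec.map (lam ≫ CommRingCat.ofHom (algebraMap (OO 𝒰) (KK 𝒰))) ≫ hU'.fromSpec := by
    rw [← hl₁, Spec.map_comp, Category.assoc, ← hl]
  obtain ⟨p⟩ : Nonempty (Spec (CommRingCat.of (KK 𝒰))) :=
    (inferInstance : Nonempty (PrimeSpectrum (KK 𝒰)))
  have hpU' : i1 hUaff hU p ∈ U' := by
    have : i1 hUaff hU p ∈ Set.range hU'.fromSpec := by
      rw [hi1, Scheme.Hom.comp_apply]
      exact ⟨_, rfl⟩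
    rwa [hU'.range_fromSpec] at this
  have hpU : i1 hUaff hU p ∈ U := i1_mem hUaff hU p
  obtain ⟨W, hWaff, hpW, hWle⟩ := exists_affineOpen_mem_le X (i1 hUaff hU p) (U ⊓ U') ⟨hpU, hpU'⟩
  have hW : Pts.pt ⁻¹' (W : Set X) ∈ 𝒰 := mem_of_i1_mem hUaff hU p W hpW
  have hU'mem : Pts.pt ⁻¹' (U' : Set X) ∈ 𝒰 :=
    mem_of_superset hW fun x hx => (hWle hx).2
  refine ⟨hU'mem, fun a' => ?_⟩
  have hi1' : i1 hU' hU'mem = i1 hUaff hU :=
    (i1_res (hWle.trans inf_le_right) hU' hWaff hU'mem hW).symm.trans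
      (i1_res (hWle.trans inf_le_left) hUaff hWaff hU hW)
  have h5 : CommRingCat.ofHom (phi 𝒰 U' hU'mem) =
      lam ≫ CommRingCat.ofHom (algebraMap (OO 𝒰) (KK 𝒰)) := by
    have h6 : Spec.map (CommRingCat.ofHom (phi 𝒰 U' hU'mem)) ≫ hU'.fromSpec =
        Spec.map (lam ≫ CommRingCat.ofHom (algebraMap (OO 𝒰) (KK 𝒰))) ≫ hU'.fromSpec :=
      hi1'.trans hi1
    rw [cancel_mono] at h6
    exact Spec.map_injective h6
  have h7 : lam ≫ CommRingCat.ofHom (st 𝒰) = CommRingCat.ofHom (evHom x₀ U' hx₀U') := by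
    refine evHom_eq_of_eq hU' x₀ hx₀U' _ ?_
    show Spec.map (CommRingCat.ofHom (st 𝒰)) ≫ l = _
    rw [Spec.map_comp, Category.assoc, ← hl]
  have h8 : phi 𝒰 U' hU'mem a' = ((lam a' : OO 𝒰) : KK 𝒰) :=
    congrArg (fun χ : Γ(X, U') ⟶ CommRingCat.of (KK 𝒰) => χ a') h5
  have h9 : st 𝒰 (lam a') = x₀.ev U' hx₀U' a' :=
    congrArg (fun χ : Γ(X, U') ⟶ CommRingCat.of ℂ => χ a') h7
  have h10 : Lim (phi 𝒰 U' hU'mem a') (x₀.ev U' hx₀U' a') := by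
    rw [h8, ← h9]
    exact st_spec _
  rwa [phi_apply, lim_coe] at h10

theorem isProperMap_of_universallyClosed (f : X ⟶ Y) [f.IsOver SC] [QuasiCompact f]
    [UniversallyClosed f] : IsProperMap (Pts.map f) := by
  have hVC : ValuativeCriterion.Existence f := by
    have h : UniversallyClosed f := inferInstance
    have h2 : (ValuativeCriterion.Existence ⊓ @QuasiCompact : MorphismProperty Scheme) f :=
      UniversallyClosed.eq_valuativeCriterion ▸ h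
    exact h2.1
  rw [isProperMap_iff_ultrafilter]
  exact ⟨Pts.continuous_map f, fun 𝒰 y h => exists_lim_of_tendsto f hVC 𝒰 y h⟩

end Groth.Agent.Lib.Helper4.UltraProper
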