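import Mathlib
import Groth.Agent.Lib.Helper4.UltraProper
import Groth.Agent.Lib.Helper4.AnProper
import Groth.Agent.Lib.Helper4.DensSep

namespace Groth.Agent.Lib.Helper4.AnProperIff
open AlgebraicGeometry CategoryTheory TopologicalSpace Opposite An Topology Filter
open Groth.Agent.Lib.Helper4.UltraProper Groth.Agent.Lib.Helper4.AnProper
open Groth.Agent.Lib.Helper4.DensSep

variable {X Y : Scheme.{0}} [X.Over SC] [Y.Over SC]
  [LocallyOfFiniteType (X ↘ SC)] [LocallyOfFiniteType (Y ↘ SC)]

theorem main4202 (f : X ⟶ Y) [f.IsOver SC] [QuasiCompact f] :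
    IsProper f ↔ IsProperMap (Pts.map f) ∧ IsSeparatedMap (Pts.map f) := by
  constructor
  · intro hf
    exact ⟨isProperMap_of_universallyClosed f, (main4195 f).1 inferInstance⟩
  · rintro ⟨hP, hS⟩
    haveI : LocallyOfFiniteType f := by
      have : LocallyOfFiniteType (f ≫ (Y ↘ SC)) := by rw [comp_over]; infer_instance
      exact locallyOfFiniteType_of_comp f (Y ↘ SC)
    haveI : IsSeparated f := (main4195 f).2 hS
    haveI : UniversallyClosed f := universallyClosed_of_isProperMap f hP
    exact {}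

theorem main4205 (X : Scheme.{0}) [X.Over SC] [LocallyOfFiniteType (X ↘ SC)]
    [QuasiCompact (X ↘ SC)] :
    IsProper (X ↘ SC) ↔ CompactSpace (Pts X) ∧ T2Space (Pts X) := by
  letI iSC : SC.Over SC := ⟨𝟙 SC⟩
  haveI : LocallyOfFiniteType (SC ↘ SC) := by
    show LocallyOfFiniteType (𝟙 SC)
    infer_instance
  haveI : (X ↘ SC).IsOver SC := ⟨Category.comp_id _⟩
  have hsub : ∀ y y' : Pts SC, y = y' := by
    intro y y'
    apply Subtype.ext
    have h1 : y.1 = 𝟙 SC := by
      have := y.2
      change y.1 ≫ 𝟙 SC = 𝟙 SC at this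
      rwa [Category.comp_id] at this
    have h2 : y'.1 = 𝟙 SC := by
      have := y'.2
      change y'.1 ≫ 𝟙 SC = 𝟙 SC at this
      rwa [Category.comp_id] at this
    rw [h1, h2]
  haveI : Subsingleton (Pts SC) := ⟨hsub⟩
  rw [main4202 (X ↘ SC), ← main4195 (X ↘ SC), main4204 X]
  refine and_congr_left fun hT2 => ?_
  constructor
  · intro hP
    have := hP.isCompact_preimage (K := Set.univ) (Set.subsingleton_univ.isCompact)
    rw [Set.preimage_univ] at this
    exact ⟨this⟩
  · intro hC
    exact (Pts.continuous_map (X ↘ SC)).isProperMap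

end Groth.Agent.Lib.Helper4.AnProperIff
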