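import Mathlib.Tactic
import Mathlib.AlgebraicGeometry.Group.Abelian
import Groth.Agent.Lib.Helper4.AntiAffOver
import Groth.Agent.Lib.Helper4.AntiAffSec2
import Groth.Prelude.Def_AlgGrp

open CategoryTheory AlgebraicGeometry Limits TopologicalSpace MonoidalCategory CartesianMonoidalCategory
  MonObj GrpObj

namespace Groth.Agent.Lib.Helper4.AntiAffAffine

open Groth.Agent.Lib.Helper4.AntiAffOver Groth.Agent.Lib.Helper4.AntiAffSec2

universe u

/-- a morphism from an anti-affine scheme with a rational point to an affine scheme is constant -/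
theorem const_of_isAffine (k : Type u) [Field k] (G N : Over (Spec (CommRingCat.of k)))
    (hG : Function.Bijective ((Scheme.ΓSpecIso (CommRingCat.of k)).inv ≫ G.hom.appTop).hom)
    [IsAffine N.left] (e : 𝟙_ (Over (Spec (CommRingCat.of k))) ⟶ G) (δ : G ⟶ N) :
    δ = toUnit G ≫ e ≫ δ := by
  have hq : IsIso G.hom.appTop := isIso_appTop_of_bijective k G hG
  have hτ : e.left ≫ G.hom = 𝟙 _ := Over.w e
  ext1
  change δ.left = G.hom ≫ e.left ≫ δ.left
  refine eq_of_section_of_isIso_appTop G.hom e.left hτ hq δ.left (G.hom ≫ e.left ≫ δ.left) ⊤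
    (isAffineOpen_top _) (fun _ => trivial) (fun _ => trivial) ?_
  rw [← Category.assoc, hτ]
  exact (Category.id_comp _).symm

theorem main11406 (k : Type u) [Field k]
    (G H : Over (Spec (CommRingCat.of k))) [GrpObj G]
    (hG : Function.Bijective ((Scheme.ΓSpecIso (CommRingCat.of k)).inv ≫ G.hom.appTop).hom)
    [GrpObj H]
    (N : Over (Spec (CommRingCat.of k))) [GrpObj N] (i : N ⟶ H) [IsMonHom i] [IsAffine N.left]
    (A : Over (Spec (CommRingCat.of k))) [GrpObj A] (α : H ⟶ A) [IsMonHom α]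
    (hker : AlgGrp.IsKernel i α)
    (f f' : G ⟶ H) (hf : η[G] ≫ f = η[H]) (hf' : η[G] ≫ f' = η[H]) (hα : f ≫ α = f' ≫ α) :
    f = f' := by
  let δ : G ⟶ H := f * f'⁻¹
  have hδα : δ ≫ α = toUnit G ≫ η[A] := by
    simp only [δ]
    rw [MonObj.mul_comp, GrpObj.inv_comp, hα, mul_inv_cancel, Hom.one_def]
  obtain ⟨δ', hδ', -⟩ := hker.exists_lift δ (toUnit G) hδα
  have hconst := const_of_isAffine k G N hG η[G] δ'
  have h1 : δ = toUnit G ≫ η[G] ≫ δ := by
    rw [← hδ']
    conv_lhs => rw [hconst]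
    simp only [Category.assoc]
  have h2 : η[G] ≫ δ = η[H] := by
    simp only [δ]
    rw [comp_mul, GrpObj.comp_inv, hf, hf', one_eq_one]
    simp
  rw [h2] at h1
  have h3 : f * f'⁻¹ = 1 := by
    rw [Hom.one_def]
    exact h1
  exact mul_inv_eq_one.mp h3

end Groth.Agent.Lib.Helper4.AntiAffAffine
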