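import Mathlib.Tactic
import Mathlib.Algebra.Category.Ring.Constructions
import Mathlib.RingTheory.Flat.FaithfullyFlat.Basic
import Mathlib.RingTheory.Flat.Basic
import Mathlib.CategoryTheory.ConcreteCategory.EpiMono
import Mathlib.CategoryTheory.Limits.Shapes.Pullback.IsPullback.Defs

open CategoryTheory Limits TensorProduct

namespace Groth.Agent.Lib.Helper4.PushoutField

universe u

/-- In a pushout square of commutative rings over a field, `inl` is injective as soon as the other
corner is nontrivial. -/
theorem inl_injective {K A B P : CommRingCat.{u}} {f : K ⟶ A} {g : K ⟶ B} {inl : A ⟶ P}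
    {inr : B ⟶ P} (h : IsPushout f g inl inr) (hK : IsField K) [Nontrivial B] :
    Function.Injective inl.hom := by
  letI : Field K := hK.toField
  letI : Algebra K A := f.hom.toAlgebra
  letI : Algebra K B := g.hom.toAlgebra
  have h' := CommRingCat.isPushout_tensorProduct K A B
  have hf : CommRingCat.ofHom (algebraMap K A) = f := rfl
  have hg : CommRingCat.ofHom (algebraMap K B) = g := rfl
  rw [hf, hg] at h'
  let e := h.isoIsPushout _ _ h'
  have he : inl ≫ e.hom = CommRingCat.ofHom (S := A ⊗[K] B)
      Algebra.TensorProduct.includeLeftRingHom := IsPushout.inl_isoIsPushout_hom _ _ h h'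
  have hinj : Function.Injective (Algebra.TensorProduct.includeLeftRingHom : A →+* A ⊗[K] B) :=
    Algebra.TensorProduct.includeLeft_injective (S := K) (algebraMap K B).injective
  intro x y hxy
  apply hinj
  have h1 := congrArg (fun t => t.hom x) he
  have h2 := congrArg (fun t => t.hom y) he
  simp only [CommRingCat.hom_comp, RingHom.comp_apply, CommRingCat.hom_ofHom] at h1 h2
  rw [← h1, ← h2, hxy]

/-- Faithfully flat descent over a field: if `inr` is bijective and `B` is nontrivial then `f` is
bijective. -/
theorem bijective_of_inr_bijective {K A B P : CommRingCat.{u}} {f : K ⟶ A} {g : K ⟶ B}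
    {inl : A ⟶ P} {inr : B ⟶ P} (h : IsPushout f g inl inr) (hK : IsField K) [Nontrivial B]
    (hinr : Function.Bijective inr.hom) : Function.Bijective f.hom := by
  letI : Field K := hK.toField
  letI : Algebra K A := f.hom.toAlgebra
  letI : Algebra K B := g.hom.toAlgebra
  have h' := CommRingCat.isPushout_tensorProduct K B A
  have hf : CommRingCat.ofHom (algebraMap K A) = f := rfl
  have hg : CommRingCat.ofHom (algebraMap K B) = g := rfl
  rw [hf, hg] at h'
  let e := h.flip.isoIsPushout _ _ h'
  have he : inr ≫ e.hom = CommRingCat.ofHom (S := B ⊗[K] A)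
      Algebra.TensorProduct.includeLeftRingHom := IsPushout.inl_isoIsPushout_hom _ _ h.flip h'
  have hbij : Function.Bijective (Algebra.TensorProduct.includeLeftRingHom : B →+* B ⊗[K] A) := by
    have h1 : (Algebra.TensorProduct.includeLeftRingHom : B →+* B ⊗[K] A) =
        e.hom.hom.comp inr.hom := by
      rw [← CommRingCat.hom_comp, he]
      rfl
    rw [h1]
    exact (ConcreteCategory.bijective_of_isIso e.hom).comp hinr
  let fl : K →ₗ[K] A := Algebra.linearMap K A
  have h2 : ∀ b : B, fl.lTensor B ((TensorProduct.rid K B).symm b) =
      (Algebra.TensorProduct.includeLeftRingHom : B →+* B ⊗[K] A) b := by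
    intro b
    simp [fl]
  have h3 : Function.Bijective (fl.lTensor B) := by
    have : (fl.lTensor B : B ⊗[K] K → B ⊗[K] A) =
        (Algebra.TensorProduct.includeLeftRingHom : B →+* B ⊗[K] A) ∘ (TensorProduct.rid K B) := by
      funext z
      have := h2 (TensorProduct.rid K B z)
      rw [LinearEquiv.symm_apply_apply] at this
      exact this
    rw [this]
    exact hbij.comp (TensorProduct.rid K B).bijective
  haveI : Module.FaithfullyFlat K B := inferInstance
  exact (Module.FaithfullyFlat.lTensor_bijective_iff_bijective K B fl).mp h3

end Groth.Agent.Lib.Helper4.PushoutField
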