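import Mathlib.Tactic
import Mathlib.AlgebraicGeometry.Morphisms.Flat
import Groth.Agent.Lib.Helper4.PushoutField
import Groth.Agent.Lib.Helper4.AntiAffOver2
import Groth.Prelude.Def_Red

open CategoryTheory AlgebraicGeometry Limits TopologicalSpace MonoidalCategory CartesianMonoidalCategory
  MonObj GrpObj

namespace Groth.Agent.Lib.Helper4.KunnethTop

open Groth.Agent.Lib.Helper4.PushoutField Groth.Agent.Lib.Helper4.AntiAffOver2

universe u

theorem isField_Γ_Spec (k : Type u) [Field k] : IsField Γ(Spec (CommRingCat.of k), ⊤) :=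
  (Scheme.ΓSpecIso (CommRingCat.of k)).commRingCatIsoToRingEquiv.toMulEquiv.isField
    (Field.toIsField k)

/-- Künneth formula for global functions of a product of qcqs schemes over a field. -/
theorem isPushout_appTop (k : Type u) [Field k] {X Y : Scheme.{u}}
    (sX : X ⟶ Spec (CommRingCat.of k)) (sY : Y ⟶ Spec (CommRingCat.of k))
    [CompactSpace X] [QuasiSeparatedSpace X] [CompactSpace Y] [QuasiSeparatedSpace Y] :
    IsPushout sX.appTop sY.appTop (pullback.fst sX sY).appTop (pullback.snd sX sY).appTop := by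
  have H : IsPullback (pullback.fst sX sY) (pullback.snd sX sY) sX sY := IsPullback.of_hasPullback _ _
  have hflat : (sX.appLE ⊤ ⊤ (by simp)).hom.Flat := RingHom.Flat.of_isField (isField_Γ_Spec k) _
  have hiso : IsIso (pushoutSection H (US := ⊤) (UT := ⊤) (UX := ⊤) (UY := ⊤)
      (by simp) (by simp) (by simp)) :=
    isIso_pushoutSection_of_isCompact_of_flat_right_of_ringHomFlat H _ _ _ (isAffineOpen_top _)
      CompactSpace.isCompact_univ (isQuasiSeparated_univ_iff.mpr inferInstance)
      CompactSpace.isCompact_univ (isQuasiSeparated_univ_iff.mpr inferInstance) hflat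
  have hpo := (isIso_pushoutSection_iff H _ _ _).mp hiso
  have e1 : sX.appLE ⊤ ⊤ (by simp) = sX.appTop := Scheme.Hom.appLE_eq_app sX
  have e2 : sY.appLE ⊤ ⊤ (by simp) = sY.appTop := Scheme.Hom.appLE_eq_app sY
  have e3 : (pullback.fst sX sY).appLE ⊤ ⊤ (by simp) = (pullback.fst sX sY).appTop :=
    Scheme.Hom.appLE_eq_app _
  have e4 : (pullback.snd sX sY).appLE ⊤ ⊤ (by simp) = (pullback.snd sX sY).appTop :=
    Scheme.Hom.appLE_eq_app _
  rw [e1, e2, e3, e4] at hpo
  exact hpo


theorem bijective_inv_comp_iff (k : Type u) [Field k] {A : CommRingCat.{u}}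
    (ψ : Γ(Spec (CommRingCat.of k), ⊤) ⟶ A) :
    Function.Bijective ((Scheme.ΓSpecIso (CommRingCat.of k)).inv ≫ ψ).hom ↔
      Function.Bijective ψ.hom := by
  have h1 : Function.Bijective (Scheme.ΓSpecIso (CommRingCat.of k)).inv.hom :=
    ConcreteCategory.bijective_of_isIso _
  rw [CommRingCat.hom_comp, RingHom.coe_comp]
  constructor
  · intro h
    exact (Function.Bijective.of_comp_iff _ h1).mp h
  · intro h
    exact h.comp h1


theorem nontrivial_Γ_of_grpObj (k : Type u) [Field k] (G : Over (Spec (CommRingCat.of k)))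
    [GrpObj G] : Nontrivial Γ(G.left, ⊤) := by
  let x : G.left := η[G].left (default : PrimeSpectrum k)
  have : Nonempty (⊤ : G.left.Opens) := ⟨⟨x, trivial⟩⟩
  infer_instance

theorem main18069 (k : Type u) [Field k]
    (G₁ G₂ : Over (Spec (CommRingCat.of k))) [GrpObj G₁] [LocallyOfFiniteType G₁.hom] [QuasiCompact G₁.hom]
    [GrpObj G₂] [LocallyOfFiniteType G₂.hom] [QuasiCompact G₂.hom] :
    Function.Bijective ((Scheme.ΓSpecIso (CommRingCat.of k)).inv ≫ (G₁ ⊗ G₂).hom.appTop).hom ↔
      Function.Bijective ((Scheme.ΓSpecIso (CommRingCat.of k)).inv ≫ G₁.hom.appTop).hom ∧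
      Function.Bijective ((Scheme.ΓSpecIso (CommRingCat.of k)).inv ≫ G₂.hom.appTop).hom := by
  haveI : CompactSpace G₁.left := QuasiCompact.compactSpace_of_compactSpace G₁.hom
  haveI : CompactSpace G₂.left := QuasiCompact.compactSpace_of_compactSpace G₂.hom
  haveI : IsLocallyNoetherian G₁.left := isLocallyNoetherian_of_lft k G₁
  haveI : IsLocallyNoetherian G₂.left := isLocallyNoetherian_of_lft k G₂
  haveI := nontrivial_Γ_of_grpObj k G₁
  haveI := nontrivial_Γ_of_grpObj k G₂
  have hpo := isPushout_appTop k G₁.hom G₂.hom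
  have hK := isField_Γ_Spec k
  rw [bijective_inv_comp_iff, bijective_inv_comp_iff, bijective_inv_comp_iff]
  have hcomp : (G₁ ⊗ G₂).hom.appTop = G₁.hom.appTop ≫ (pullback.fst G₁.hom G₂.hom).appTop := by
    rw [← Scheme.Hom.comp_appTop]
    rfl
  have hcomp' : (G₁ ⊗ G₂).hom.appTop = G₂.hom.appTop ≫ (pullback.snd G₁.hom G₂.hom).appTop := by
    rw [hcomp, hpo.w]
  constructor
  · intro h
    have hinl : Function.Injective (pullback.fst G₁.hom G₂.hom).appTop.hom :=
      inl_injective hpo hK
    have hinr : Function.Injective (pullback.snd G₁.hom G₂.hom).appTop.hom :=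
      inl_injective hpo.flip hK
    constructor
    · have h' := h
      rw [hcomp, CommRingCat.hom_comp, RingHom.coe_comp] at h'
      refine ⟨Function.Injective.of_comp h'.1, ?_⟩
      intro a
      obtain ⟨c, hc⟩ := h'.2 ((pullback.fst G₁.hom G₂.hom).appTop.hom a)
      exact ⟨c, hinl hc⟩
    · have h' := h
      rw [hcomp', CommRingCat.hom_comp, RingHom.coe_comp] at h'
      refine ⟨Function.Injective.of_comp h'.1, ?_⟩
      intro a
      obtain ⟨c, hc⟩ := h'.2 ((pullback.snd G₁.hom G₂.hom).appTop.hom a)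
      exact ⟨c, hinr hc⟩
  · rintro ⟨h1, h2⟩
    haveI : IsIso G₁.hom.appTop := (ConcreteCategory.isIso_iff_bijective _).mpr h1
    have hinr : IsIso (pullback.snd G₁.hom G₂.hom).appTop := hpo.isIso_inr_of_isIso
    rw [hcomp', CommRingCat.hom_comp, RingHom.coe_comp]
    exact (ConcreteCategory.bijective_of_isIso _).comp h2

theorem main19702 (k : Type u) [Field k] (K : Type u) [Field K] [Algebra k K]
    (G : Over (Spec (CommRingCat.of k))) [GrpObj G] [LocallyOfFiniteType G.hom] [QuasiCompact G.hom] :
    Function.Bijective ((Scheme.ΓSpecIso (CommRingCat.of k)).inv ≫ G.hom.appTop).hom ↔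
      Function.Bijective ((Scheme.ΓSpecIso (CommRingCat.of K)).inv ≫ (Red.bc (Spec.map (CommRingCat.ofHom (algebraMap k K))) G).hom.appTop).hom := by
  haveI : CompactSpace G.left := QuasiCompact.compactSpace_of_compactSpace G.hom
  haveI : IsLocallyNoetherian G.left := isLocallyNoetherian_of_lft k G
  let f : Spec (CommRingCat.of K) ⟶ Spec (CommRingCat.of k) :=
    Spec.map (CommRingCat.ofHom (algebraMap k K))
  have hpo := isPushout_appTop k G.hom f
  have hK := isField_Γ_Spec k
  haveI : Nontrivial Γ(Spec (CommRingCat.of K), ⊤) := (isField_Γ_Spec K).nontrivial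
  rw [bijective_inv_comp_iff, bijective_inv_comp_iff]
  change Function.Bijective G.hom.appTop.hom ↔
    Function.Bijective (pullback.snd G.hom f).appTop.hom
  constructor
  · intro h1
    haveI : IsIso G.hom.appTop := (ConcreteCategory.isIso_iff_bijective _).mpr h1
    have hinr : IsIso (pullback.snd G.hom f).appTop := hpo.isIso_inr_of_isIso
    exact ConcreteCategory.bijective_of_isIso _
  · intro h2
    exact bijective_of_inr_bijective hpo hK h2

end Groth.Agent.Lib.Helper4.KunnethTop
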