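import Mathlib.Tactic
import Groth.Agent.Lib.Helper4.KunnethTop
import Groth.Agent.Lib.Helper4.GammaDesc
import Groth.Agent.Lib.Helper4.QuotAffine

set_option autoImplicit false
universe u
open CategoryTheory MonoidalCategory CartesianMonoidalCategory MonObj GrpObj AlgebraicGeometry Limits

namespace Groth.Agent.Lib.Helper4.AntiAffExt

open Groth.Agent.Lib.Helper4.KunnethTop Groth.Agent.Lib.Helper4.GammaDesc
  Groth.Agent.Lib.Helper4.AntiAffOver2

theorem main18070 (k : Type u) [Field k]
    (G₁ G G₂ : Over (Spec (CommRingCat.of k))) [GrpObj G₁] [LocallyOfFiniteType G₁.hom] [QuasiCompact G₁.hom]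
    [GrpObj G] [LocallyOfFiniteType G.hom] [QuasiCompact G.hom]
    [GrpObj G₂] [LocallyOfFiniteType G₂.hom] [QuasiCompact G₂.hom]
    (i : G₁ ⟶ G) [IsMonHom i] (q : G ⟶ G₂) [IsMonHom q] [Surjective q.left] [Flat q.left]
    (hex : AlgGrp.IsKernel i q) :
    (Function.Bijective ((Scheme.ΓSpecIso (CommRingCat.of k)).inv ≫ G.hom.appTop).hom → Function.Bijective ((Scheme.ΓSpecIso (CommRingCat.of k)).inv ≫ G₂.hom.appTop).hom) ∧
    (Function.Bijective ((Scheme.ΓSpecIso (CommRingCat.of k)).inv ≫ G₁.hom.appTop).hom → Function.Bijective ((Scheme.ΓSpecIso (CommRingCat.of k)).inv ≫ G₂.hom.appTop).hom → Function.Bijective ((Scheme.ΓSpecIso (CommRingCat.of k)).inv ≫ G.hom.appTop).hom) := by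
  haveI hqc : QuasiCompact q.left := FpqcDesc.quasiCompact_of_field k G G₂ q
  haveI hee : EffectiveEpi q.left := inferInstance
  haveI := nontrivial_Γ_of_grpObj k G
  haveI := nontrivial_Γ_of_grpObj k G₂
  have hqinj : Function.Injective q.left.appTop := appTop_injective_of_epi q.left
  have hw : G.hom.appTop = G₂.hom.appTop ≫ q.left.appTop := by
    rw [← Scheme.Hom.comp_appTop, Over.w q]
  constructor
  · intro hG
    refine ⟨RingHom.injective _, fun t => ?_⟩
    obtain ⟨c, hc⟩ := hG.2 (q.left.appTop.hom t)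
    refine ⟨c, hqinj ?_⟩
    rw [← hc, hw]
    rfl
  · intro hG₁ hG₂
    refine ⟨RingHom.injective _, fun s => ?_⟩
    haveI : CompactSpace G₁.left := QuasiCompact.compactSpace_of_compactSpace G₁.hom
    haveI : CompactSpace G.left := QuasiCompact.compactSpace_of_compactSpace G.hom
    haveI : IsLocallyNoetherian G₁.left := isLocallyNoetherian_of_lft k G₁
    haveI : IsLocallyNoetherian G.left := isLocallyNoetherian_of_lft k G
    have hpo := isPushout_appTop k G.hom G₁.hom
    rw [bijective_inv_comp_iff] at hG₁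
    haveI : IsIso G₁.hom.appTop := (ConcreteCategory.isIso_iff_bijective _).mpr hG₁
    have hfst : IsIso (pullback.fst G.hom G₁.hom).appTop := hpo.flip.isIso_inr_of_isIso
    have sq := (QuotAffine.isPullback_of_isKernel i q hex).map (Over.forget _)
    simp only [Over.forget_map] at sq
    -- the section g ↦ (g, e)
    let σ : G ⟶ G ⊗ G₁ := lift (𝟙 G) (toUnit G ≫ η[G₁])
    have hσ1 : σ ≫ fst G G₁ = 𝟙 G := by simp [σ]
    have hσ2 : σ ≫ (G ◁ i) ≫ μ[G] = 𝟙 G := by
      simp only [σ]
      rw [lift_whiskerLeft_assoc, Category.assoc, IsMonHom.one_hom, MonObj.lift_comp_one_right]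
    have key : ∀ {A B C : Scheme.{u}} (w : A ⟶ B) (a : B ⟶ C) (r : Γ(C, ⊤)),
        (w ≫ a).appTop.hom r = w.appTop.hom (a.appTop.hom r) := by
      intro A B C w a r
      rw [Scheme.Hom.comp_appTop]
      rfl
    -- s is invariant
    have hinv : (fst G G₁).left.appTop.hom s = ((G ◁ i) ≫ μ[G]).left.appTop.hom s := by
      have hbij : Function.Bijective (fst G G₁).left.appTop.hom :=
        ConcreteCategory.bijective_of_isIso (pullback.fst G.hom G₁.hom).appTop
      obtain ⟨s', hs'⟩ := hbij.2 (((G ◁ i) ≫ μ[G]).left.appTop.hom s)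
      have e1 : σ.left.appTop.hom ((fst G G₁).left.appTop.hom s') = s' := by
        rw [← key, ← Over.comp_left, hσ1]
        simp
      have e2 : σ.left.appTop.hom (((G ◁ i) ≫ μ[G]).left.appTop.hom s) = s := by
        rw [← key, ← Over.comp_left, hσ2]
        simp
      rw [hs', e2] at e1
      rw [← hs', ← e1]
    have hs : s ∈ Set.range q.left.appTop := by
      apply mem_range_appTop
      intro W u v huv
      obtain ⟨w, hw⟩ : ∃ w : W ⟶ (G ⊗ G₁).left, w = sq.lift u v huv := ⟨_, rfl⟩
      have h1 : w ≫ (fst G G₁).left = u := by rw [hw]; exact sq.lift_fst _ _ _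
      have h2 : w ≫ ((G ◁ i) ≫ μ[G]).left = v := by rw [hw]; exact sq.lift_snd _ _ _
      rw [← h1, ← h2, key, key]
      exact congrArg _ hinv
    obtain ⟨t, ht⟩ := hs
    obtain ⟨c, hc⟩ := hG₂.2 t
    refine ⟨c, ?_⟩
    rw [← ht, ← hc, hw]
    rfl

end Groth.Agent.Lib.Helper4.AntiAffExt
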