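import Mathlib.Tactic
import Mathlib.CategoryTheory.Comma.Over.Pullback
import Mathlib.CategoryTheory.Limits.Shapes.Pullback.IsPullback.Basic
import Mathlib.CategoryTheory.Adjunction.Basic

set_option autoImplicit false
universe v u
open CategoryTheory Limits

namespace Groth.Agent.Lib.Helper4.BCBij

section adj
variable {D : Type*} {E : Type*} [Category D] [Category E] {L : D ⥤ E} {R : E ⥤ D}

theorem bijective_map_iff_counit (adj : L ⊣ R) (A N : E) :
    Function.Bijective (fun f : A ⟶ N => R.map f) ↔
      Function.Bijective (fun f : A ⟶ N => adj.counit.app A ≫ f) := by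
  have h : (fun f : A ⟶ N => adj.counit.app A ≫ f) =
      (adj.homEquiv (R.obj A) N).symm ∘ (fun f : A ⟶ N => R.map f) := by
    funext f
    simp [Adjunction.homEquiv_counit]
  rw [h]
  exact ((adj.homEquiv (R.obj A) N).symm.bijective.of_comp_iff' _).symm

theorem bijective_precomp_iff_map (adj : L ⊣ R) {A B : D} (u : B ⟶ A) (N : E) :
    Function.Bijective (fun f : A ⟶ R.obj N => u ≫ f) ↔
      Function.Bijective (fun f : L.obj A ⟶ N => L.map u ≫ f) := by
  have h : (fun f : A ⟶ R.obj N => u ≫ f) ∘ (adj.homEquiv A N) =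
      (adj.homEquiv B N) ∘ (fun f : L.obj A ⟶ N => L.map u ≫ f) := by
    funext f
    simp [Adjunction.homEquiv_naturality_left]
  constructor
  · intro hb
    have h1 : Function.Bijective ((adj.homEquiv B N) ∘ (fun f : L.obj A ⟶ N => L.map u ≫ f)) := by
      rw [← h]; exact hb.comp (adj.homEquiv A N).bijective
    exact ((adj.homEquiv B N).bijective.of_comp_iff' _).mp h1
  · intro hb
    have h1 : Function.Bijective ((fun f : A ⟶ R.obj N => u ≫ f) ∘ (adj.homEquiv A N)) := by
      rw [h]; exact (adj.homEquiv B N).bijective.comp hb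
    exact (Function.Bijective.of_comp_iff _ (adj.homEquiv A N).bijective).mp h1

end adj


section bc
variable {C : Type u} [Category.{v} C] [HasPullbacks C]

theorem bijective_pullback_map_iff {S S' T T' : C} {g : S' ⟶ S} {j : T ⟶ S} {j' : T' ⟶ S'}
    {gT : T' ⟶ T} (hsq : IsPullback j' gT g j) (N : Over S) (Y' : Over S') :
    Function.Bijective (fun f : Y' ⟶ (Over.pullback g).obj N => (Over.pullback j').map f) ↔
    Function.Bijective (fun f : (Over.map g).obj Y' ⟶ N => (Over.pullback j).map f) := by
  refine (bijective_map_iff_counit (Over.mapPullbackAdj j') Y' ((Over.pullback g).obj N)).trans ?_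
  refine (bijective_precomp_iff_map (Over.mapPullbackAdj g)
    ((Over.mapPullbackAdj j').counit.app Y') N).trans ?_
  refine Iff.trans ?_ (bijective_map_iff_counit (Over.mapPullbackAdj j) ((Over.map g).obj Y') N).symm
  have hP : IsPullback (pullback.fst Y'.hom j') (pullback.snd Y'.hom j' ≫ gT) (Y'.hom ≫ g) j :=
    ((IsPullback.of_hasPullback Y'.hom j').flip.paste_horiz hsq.flip).flip
  let θ : (Over.map g).obj ((Over.map j').obj ((Over.pullback j').obj Y')) ≅
      (Over.map j).obj ((Over.pullback j).obj ((Over.map g).obj Y')) :=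
    Over.isoMk hP.isoPullback (by
      simp only [Over.map_obj_hom, Over.pullback_obj_hom]
      show hP.isoPullback.hom ≫ pullback.snd (Y'.hom ≫ g) j ≫ j = _
      rw [← Category.assoc, hP.isoPullback_hom_snd, Category.assoc, ← hsq.w, Category.assoc])
  have hθ : θ.hom ≫ (Over.mapPullbackAdj j).counit.app ((Over.map g).obj Y') =
      (Over.map g).map ((Over.mapPullbackAdj j').counit.app Y') := by
    ext
    simp only [Over.comp_left, Over.mapPullbackAdj_counit_app, Over.homMk_left, Over.map_map_left]
    exact hP.isoPullback_hom_fst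
  have h : (fun f : (Over.map g).obj Y' ⟶ N =>
        (Over.map g).map ((Over.mapPullbackAdj j').counit.app Y') ≫ f) =
      (fun f => θ.hom ≫ f) ∘ (fun f : (Over.map g).obj Y' ⟶ N =>
        (Over.mapPullbackAdj j).counit.app ((Over.map g).obj Y') ≫ f) := by
    funext f
    simp only [Function.comp_apply, ← Category.assoc, hθ]
  have hb : Function.Bijective (fun f : (Over.map j).obj ((Over.pullback j).obj ((Over.map g).obj Y')) ⟶ N =>
      θ.hom ≫ f) := by
    constructor
    · intro a b hab
      exact (cancel_epi θ.hom).mp hab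
    · intro a
      exact ⟨θ.inv ≫ a, by simp⟩
  have key := hb.of_comp_iff' (fun f : (Over.map g).obj Y' ⟶ N =>
        (Over.mapPullbackAdj j).counit.app ((Over.map g).obj Y') ≫ f)
  rw [← h] at key
  exact key

end bc

end Groth.Agent.Lib.Helper4.BCBij
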