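import Groth.Agent.S0034
import Groth.Prelude.Def_ega3
import Groth.Agent.Lib.Helper2.Bridge5

set_option autoImplicit false
universe u
open CategoryTheory CategoryTheory.Limits Opposite TopologicalSpace AlgebraicGeometry TensorProduct

noncomputable section

namespace Groth.Agent.Lib.Helper4.BasicOpenLoc

variable (X : Scheme.{u})

/-- `X` as a scheme over `Spec Γ(X, ⊤)` -/
@[reducible] def overΓ : X.Over (Spec (CommRingCat.of Γ(X, ⊤))) := ⟨X.toSpecΓ⟩

theorem toGlobal_toSpecΓ (a : Γ(X, ⊤)) : Coh.toGlobal (A := Γ(X, ⊤)) X.toSpecΓ a = a := by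
  unfold Coh.toGlobal
  change X.toSpecΓ.appTop.hom ((Scheme.ΓSpecIso Γ(X, ⊤)).inv.hom a) = a
  rw [Scheme.toSpecΓ_appTop]
  exact congrArg (fun φ => φ.hom a) (Scheme.ΓSpecIso Γ(X, ⊤)).inv_hom_id

/-- the two module structures on the cohomology agree -/
theorem moduleOver_eq (M : X.Modules) (q : ℕ) :
    @Coh.moduleOver Γ(X, ⊤) _ X (overΓ X) M q = CohIII.moduleGlobalSections X M q := by
  refine Module.ext' _ _ (fun a x => ?_)
  change HSMul.hSMul (α := Coh.Γtop X) (Coh.toGlobal (A := Γ(X, ⊤)) X.toSpecΓ a) x = _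
  rw [toGlobal_toSpecΓ]
  rfl

variable {X}

/-- the open `toSpecΓ⁻¹ D(f)`, which is `X_f` -/
abbrev Uf (f : Γ(X, ⊤)) : X.Opens := X.toSpecΓ ⁻¹ᵁ (PrimeSpectrum.basicOpen f)

/-- `X_f` as a scheme over `Spec Γ(X, ⊤)_f` -/
@[reducible] def overAway (f : Γ(X, ⊤)) :
    (Uf f : Scheme.{u}).Over (Spec (CommRingCat.of (Localization.Away f))) :=
  ⟨(X.toSpecΓ ∣_ (PrimeSpectrum.basicOpen f)) ≫ (basicOpenIsoSpecAway f).hom⟩

theorem isPullback_Uf (f : Γ(X, ⊤)) :
    letI := overΓ X
    letI := overAway f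
    IsPullback (Uf f).ι ((Uf f : Scheme.{u}) ↘ Spec (CommRingCat.of (Localization.Away f)))
      (X ↘ Spec (CommRingCat.of Γ(X, ⊤)))
      (Spec.map (CommRingCat.ofHom (algebraMap Γ(X, ⊤) (Localization.Away f)))) := by
  show IsPullback (Uf f).ι ((X.toSpecΓ ∣_ (PrimeSpectrum.basicOpen f)) ≫ (basicOpenIsoSpecAway f).hom)
      X.toSpecΓ (Spec.map (CommRingCat.ofHom (algebraMap Γ(X, ⊤) (Localization.Away f))))
  have h1 := (isPullback_morphismRestrict X.toSpecΓ (PrimeSpectrum.basicOpen f)).flip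
  refine IsPullback.of_iso h1 (Iso.refl _) (Iso.refl _) (basicOpenIsoSpecAway f) (Iso.refl _) ?_ ?_ ?_ ?_
  · simp
  · simp
  · simp
  · simp

/-- an abstract transport lemma -/
theorem generic {A : Type u} [CommRing A] (f : A) {N : Type u} [AddCommGroup N] {inst₁ : Module A N}
    {T : Type u} [AddCommGroup T] [Module (Localization.Away f) T]
    (e : (Localization.Away f) ⊗[A] N ≃ₗ[Localization.Away f] T) (inst₂ : Module A N) (h : inst₁ = inst₂) :
    Nonempty (T ≃+ @LocalizedModule A _ (Submonoid.powers f) N _ inst₂) := by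
  subst h
  exact ⟨e.symm.toAddEquiv.trans (LocalizedModule.equivTensorProduct (Submonoid.powers f) N).symm.toAddEquiv⟩

/-- **the cohomology of `X_f` is the localization of the cohomology of `X`** (`X` quasi-compact separated) -/
theorem nonempty_addEquiv [CompactSpace X] [X.IsSeparated] (f : Γ(X, ⊤)) (M : X.Modules)
    [M.IsQuasicoherent] (q : ℕ) :
    Nonempty (Coh.HHon X M (X.basicOpen f) q ≃+
      LocalizedModule (Submonoid.powers f) (Coh.HH X M q)) := by
  have hU : Uf f = X.basicOpen f := X.toSpecΓ_preimage_basicOpen f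
  rw [← hU]
  letI := overΓ X
  letI := overAway f
  obtain ⟨e⟩ := Groth.Agent.S0034.result Γ(X, ⊤) (Localization.Away f) X (Uf f) (Uf f).ι
    (isPullback_Uf f) M q
  have e₂ := Groth.Agent.Lib.Helper2.Bridge5.HHlinEquiv (Localization.Away f)
    ((Scheme.Modules.restrictFunctorIsoPullback (Uf f).ι).app M) q
  exact generic f (e ≪≫ₗ e₂.symm) _ (moduleOver_eq X M q)

end Groth.Agent.Lib.Helper4.BasicOpenLoc
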