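import Mathlib.NumberTheory.Bernoulli
import Mathlib.RingTheory.PowerSeries.Exp
import Mathlib.RingTheory.PowerSeries.Inverse
import Mathlib.Tactic.LinearCombination
import Mathlib.Algebra.Polynomial.BigOperators

set_option autoImplicit false
open PowerSeries

namespace Groth.Agent.Lib.Helper4.BernTodd

local notation "B" => bernoulli'PowerSeries ℚ
local notation "E" => PowerSeries.exp ℚ

theorem exp_sub_one_ne_zero : (E - 1 : PowerSeries ℚ) ≠ 0 := by
  intro h
  have := congrArg (coeff 1) h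
  simp [coeff_exp, coeff_one] at this

theorem resc_neg_exp_mul : rescale (-1 : ℚ) E * E = 1 := by
  have := exp_mul_exp_eq_exp_add (A := ℚ) (-1) 1
  simpa using this

theorem neg_B_mul_exp : rescale (-1 : ℚ) B * E = B := by
  have h0 : B * (E - 1) = X * E := bernoulli'PowerSeries_mul_exp_sub_one ℚ
  have h1 := congrArg (rescale (-1 : ℚ)) h0
  simp only [map_mul, map_sub, map_one, rescale_neg_one_X] at h1
  have h2 : rescale (-1 : ℚ) B * (E - 1) = X := by
    have : rescale (-1 : ℚ) B * (E - 1) = - (rescale (-1 : ℚ) B * (rescale (-1 : ℚ) E - 1)) * E := by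
      have := resc_neg_exp_mul
      linear_combination (rescale (-1 : ℚ) B) * this
    rw [this, h1]
    have := resc_neg_exp_mul
    linear_combination (X : PowerSeries ℚ) * this
  have h3 : (rescale (-1 : ℚ) B * E) * (E - 1) = B * (E - 1) := by
    rw [h0, mul_right_comm, h2]
  exact mul_right_cancel₀ exp_sub_one_ne_zero h3

theorem neg_B_mul_exp' (c : ℚ) : rescale (-c) B * rescale c E = rescale c B := by
  have := congrArg (rescale c) neg_B_mul_exp
  simpa [rescale_rescale] using this

theorem coeff_B (k : ℕ) : coeff k B = bernoulli' k / (k.factorial : ℚ) := by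
  simp [bernoulli'PowerSeries]

theorem const_B : constantCoeff B = 1 := by
  rw [← coeff_zero_eq_constantCoeff_apply, coeff_B]; simp

theorem coeff_one_B : coeff 1 B = 1 / 2 := by
  rw [coeff_B]; simp

theorem const_resc (c : ℚ) (f : PowerSeries ℚ) : constantCoeff (rescale c f) = constantCoeff f := by
  rw [← coeff_zero_eq_constantCoeff_apply, coeff_rescale]; simp

theorem coeff_one_inv (f : PowerSeries ℚ) (hf : constantCoeff f = 1) : coeff 1 f⁻¹ = - coeff 1 f := by
  rw [coeff_inv]
  have : (Finset.HasAntidiagonal.antidiagonal 1 : Finset (ℕ × ℕ)) = {(0, 1), (1, 0)} := rfl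
  rw [this, Finset.sum_insert (by simp), Finset.sum_singleton]
  simp [hf]

theorem main (n d : ℕ) (s : ℤ) (hn : 2 ≤ n) (hd : 1 ≤ d) :
    ∃ P : Polynomial ℚ, P.natDegree ≤ n - 2 ∧ ∀ p : ℕ,
      PowerSeries.coeff n ((PowerSeries.rescale (-(d : ℚ)) (bernoulli'PowerSeries ℚ))⁻¹ * PowerSeries.rescale (-((d : ℚ) * p)) (bernoulli'PowerSeries ℚ) * bernoulli'PowerSeries ℚ ^ (n + 1) * PowerSeries.rescale ((d : ℚ) * p - d - n - 1 + s) (PowerSeries.exp ℚ)) =
        bernoulli' n * ((d : ℚ) * p) ^ n / (Nat.factorial n : ℚ) +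
          (2 * (s : ℚ) - d - n - 1) / 2 * bernoulli' (n - 1) * ((d : ℚ) * p) ^ (n - 1) / (Nat.factorial (n - 1) : ℚ) +
          P.eval (p : ℚ) := by
  set G : PowerSeries ℚ := (rescale (-(d : ℚ)) B)⁻¹ * B ^ (n + 1) * rescale ((s : ℚ) - d - n - 1) E with hG
  have hprod : ∀ p : ℕ, (rescale (-(d : ℚ)) B)⁻¹ * rescale (-((d : ℚ) * p)) B * B ^ (n + 1) *
      rescale ((d : ℚ) * p - d - n - 1 + s) E = rescale ((d:ℚ) * p) B * G := by
    intro p
    have h1 : rescale ((d : ℚ) * p - d - n - 1 + s) E =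
        rescale ((d:ℚ) * p) E * rescale ((s : ℚ) - d - n - 1) E := by
      rw [exp_mul_exp_eq_exp_add]; congr 2; ring
    rw [h1, ← neg_B_mul_exp' ((d:ℚ) * p), hG]; ring
  have hG0 : coeff 0 G = 1 := by
    rw [coeff_zero_eq_constantCoeff_apply, hG]
    simp [const_resc, const_B]
  have hG1 : coeff 1 G = (2 * (s : ℚ) - d - n - 1) / 2 := by
    rw [hG, coeff_one_mul, coeff_one_mul, coeff_one_inv _ (by rw [const_resc, const_B]), coeff_one_pow]
    simp only [constantCoeff_inv, const_resc, const_B, map_mul, map_pow, coeff_rescale, coeff_one_B, coeff_exp,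
      constantCoeff_exp]
    simp
    ring
  refine ⟨∑ k ∈ Finset.range (n - 1), Polynomial.C ((d:ℚ)^k * (bernoulli' k / (k.factorial : ℚ)) *
    coeff (n - k) G) * Polynomial.X ^ k, ?_, ?_⟩
  · apply Polynomial.natDegree_sum_le_of_forall_le
    intro k hk
    have hk' := Finset.mem_range.mp hk
    refine (Polynomial.natDegree_C_mul_X_pow_le _ _).trans (by omega)
  · intro p
    rw [hprod, coeff_mul, Finset.Nat.sum_antidiagonal_eq_sum_range_succ_mk]
    obtain ⟨m, rfl⟩ : ∃ m, n = m + 2 := ⟨n - 2, by omega⟩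
    rw [Finset.sum_range_succ, Finset.sum_range_succ]
    simp only [Nat.add_sub_cancel, Nat.sub_self, hG0, coeff_rescale, coeff_B,
      show m + 2 - 1 = m + 1 by omega, show m + 2 - (m + 1) = 1 by omega, hG1]
    rw [Polynomial.eval_finsetSum]
    simp only [Polynomial.eval_mul, Polynomial.eval_C, Polynomial.eval_pow, Polynomial.eval_X]
    have : ∀ k ∈ Finset.range (m + 1), ((d:ℚ) * p) ^ k * (bernoulli' k / (k.factorial : ℚ)) * coeff (m + 2 - k) G
        = (d:ℚ)^k * (bernoulli' k / (k.factorial : ℚ)) * coeff (m + 2 - k) G * (p:ℚ) ^ k := by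
      intro k _; ring
    rw [Finset.sum_congr rfl this]
    push_cast
    ring

end Groth.Agent.Lib.Helper4.BernTodd
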