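import Groth.Agent.Lib.Helper4.BernTodd
import Mathlib.NumberTheory.ZetaValues
import Mathlib.Analysis.Polynomial.Basic

set_option autoImplicit false
open PowerSeries Filter

namespace Groth.Agent.Lib.Helper4.BernTodd2
open Groth.Agent.Lib.Helper4.BernTodd

theorem bernoulli_sign (k : ℕ) (hk : k ≠ 0) : 0 < (-1 : ℚ) ^ (k + 1) * bernoulli (2 * k) := by
  have h := hasSum_zeta_nat hk
  have hpos : 0 < (-1 : ℝ) ^ (k + 1) * (2 : ℝ) ^ (2 * k - 1) * Real.pi ^ (2 * k) *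
        bernoulli (2 * k) / (2 * k).factorial := by
    have h1 : ∀ n : ℕ, 0 ≤ 1 / (n : ℝ) ^ (2 * k) := fun n => by positivity
    have := h.tsum_eq ▸ (h.summable.tsum_pos h1 1 (by simp))
    exact this
  have h2 : (0 : ℝ) < (2 : ℝ) ^ (2 * k - 1) * Real.pi ^ (2 * k) / (2 * k).factorial := by positivity
  have h3 : (0:ℝ) < (-1 : ℝ) ^ (k + 1) * (bernoulli (2 * k) : ℝ) := by
    by_contra hcon
    push Not at hcon
    have : (-1 : ℝ) ^ (k + 1) * (2 : ℝ) ^ (2 * k - 1) * Real.pi ^ (2 * k) *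
        bernoulli (2 * k) / (2 * k).factorial = ((-1 : ℝ) ^ (k + 1) * (bernoulli (2 * k) : ℝ)) *
        ((2 : ℝ) ^ (2 * k - 1) * Real.pi ^ (2 * k) / (2 * k).factorial) := by ring
    rw [this] at hpos
    have := mul_nonpos_of_nonpos_of_nonneg hcon h2.le
    linarith
  exact_mod_cast h3

theorem bernoulli'_neg_of_four_dvd (n : ℕ) (hn : n ≠ 0) (h4 : n % 4 = 0) : bernoulli' n < 0 := by
  obtain ⟨k, rfl⟩ : ∃ k, n = 2 * (2 * k) := ⟨n / 4, by omega⟩
  have hk : 2 * k ≠ 0 := by omega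
  have := bernoulli_sign (2 * k) hk
  rw [bernoulli_eq_bernoulli'_of_ne_one (by omega)] at this
  have h1 : (-1 : ℚ) ^ (2 * k + 1) = -1 := by
    rw [pow_succ, pow_mul]; simp
  rw [h1] at this
  linarith

theorem bernoulli'_pos_of_two_mod_four (n : ℕ) (h4 : n % 4 = 2) : 0 < bernoulli' n := by
  obtain ⟨k, rfl⟩ : ∃ k, n = 2 * (2 * k + 1) := ⟨n / 4, by omega⟩
  have := bernoulli_sign (2 * k + 1) (by omega)
  rw [bernoulli_eq_bernoulli'_of_ne_one (by omega)] at this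
  have h1 : (-1 : ℚ) ^ (2 * k + 1 + 1) = 1 := by
    rw [show 2 * k + 1 + 1 = 2 * (k + 1) by ring, pow_mul]; simp
  rw [h1] at this
  linarith

/-- eventual negativity of `a p^n + b p^(n-1) + P(p)` -/
theorem eventually_neg (n : ℕ) (hn : 2 ≤ n) (a b : ℚ) (P : Polynomial ℚ) (hP : P.natDegree ≤ n - 2)
    (hab : a < 0 ∨ (a = 0 ∧ b < 0)) :
    ∃ N : ℕ, ∀ p : ℕ, N ≤ p → a * (p : ℚ) ^ n + b * (p : ℚ) ^ (n - 1) + P.eval (p : ℚ) < 0 := by
  set Q : Polynomial ℚ := Polynomial.C a * Polynomial.X ^ n + Polynomial.C b * Polynomial.X ^ (n - 1) + P with hQ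
  have hev : ∀ x : ℚ, Q.eval x = a * x ^ n + b * x ^ (n - 1) + P.eval x := by
    intro x; simp [hQ]
  have hPdeg : P.degree < ((n - 1 : ℕ) : WithBot ℕ) := by
    refine lt_of_le_of_lt Polynomial.degree_le_natDegree ?_
    exact_mod_cast (by omega : P.natDegree < n - 1)
  have key : 0 < Q.degree ∧ Q.leadingCoeff < 0 := by
    rcases hab with ha | ⟨ha, hb⟩
    · have h1 : (Polynomial.C b * Polynomial.X ^ (n - 1) + P).degree < (n : WithBot ℕ) := by
        refine lt_of_le_of_lt (Polynomial.degree_add_le _ _) (max_lt ?_ ?_)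
        · refine lt_of_le_of_lt (Polynomial.degree_C_mul_X_pow_le _ _) ?_
          exact_mod_cast (by omega : n - 1 < n)
        · exact hPdeg.trans (by exact_mod_cast (by omega : n - 1 < n))
      have h2 : (Polynomial.C a * Polynomial.X ^ n).degree = (n : WithBot ℕ) := Polynomial.degree_C_mul_X_pow n ha.ne
      have hQ' : Q = Polynomial.C a * Polynomial.X ^ n + (Polynomial.C b * Polynomial.X ^ (n - 1) + P) := by
        rw [hQ]; ring
      have h3 : (Polynomial.C b * Polynomial.X ^ (n - 1) + P).degree < (Polynomial.C a * Polynomial.X ^ n).degree := by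
        rw [h2]; exact h1
      constructor
      · rw [hQ', Polynomial.degree_add_eq_left_of_degree_lt h3, h2]; exact_mod_cast (by omega : 0 < n)
      · rw [hQ', Polynomial.leadingCoeff_add_of_degree_lt' h3, Polynomial.leadingCoeff_mul,
          Polynomial.leadingCoeff_C, Polynomial.leadingCoeff_X_pow, mul_one]; exact ha
    · have hQ' : Q = Polynomial.C b * Polynomial.X ^ (n - 1) + P := by
        rw [hQ, ha]; simp
      have h2 : (Polynomial.C b * Polynomial.X ^ (n - 1)).degree = ((n - 1 : ℕ) : WithBot ℕ) := Polynomial.degree_C_mul_X_pow _ hb.ne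
      have h3 : P.degree < (Polynomial.C b * Polynomial.X ^ (n - 1)).degree := by rw [h2]; exact hPdeg
      constructor
      · rw [hQ', Polynomial.degree_add_eq_left_of_degree_lt h3, h2]; exact_mod_cast (by omega : 0 < n - 1)
      · rw [hQ', Polynomial.leadingCoeff_add_of_degree_lt' h3, Polynomial.leadingCoeff_mul,
          Polynomial.leadingCoeff_C, Polynomial.leadingCoeff_X_pow, mul_one]; exact hb
  have ht := Q.tendsto_atBot_of_leadingCoeff_nonpos key.1 key.2.le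
  have ht2 := ht.comp (tendsto_natCast_atTop_atTop (R := ℚ))
  have := ht2.eventually (eventually_lt_atBot 0)
  obtain ⟨N, hN⟩ := Filter.eventually_atTop.mp this
  refine ⟨N, fun p hp => ?_⟩
  have := hN p hp
  simp only [Function.comp] at this
  rw [hev] at this
  exact this

theorem todd_neg_of (n d : ℕ) (s : ℤ) (hn : 2 ≤ n) (hd : 1 ≤ d)
    (hab : bernoulli' n * (d : ℚ) ^ n / (Nat.factorial n : ℚ) < 0 ∨
      (bernoulli' n * (d : ℚ) ^ n / (Nat.factorial n : ℚ) = 0 ∧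
        (2 * (s : ℚ) - d - n - 1) / 2 * bernoulli' (n - 1) * (d : ℚ) ^ (n - 1) / (Nat.factorial (n - 1) : ℚ) < 0)) :
    ∃ P : ℕ, ∀ p : ℕ, P ≤ p →
      PowerSeries.coeff n ((PowerSeries.rescale (-(d : ℚ)) (bernoulli'PowerSeries ℚ))⁻¹ * PowerSeries.rescale (-((d : ℚ) * p)) (bernoulli'PowerSeries ℚ) * bernoulli'PowerSeries ℚ ^ (n + 1) * PowerSeries.rescale ((d : ℚ) * p - d - n - 1 + s) (PowerSeries.exp ℚ)) < 0 := by
  obtain ⟨P, hP, hform⟩ := main n d s hn hd
  obtain ⟨N, hN⟩ := eventually_neg n hn _ _ P hP hab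
  refine ⟨N, fun p hp => ?_⟩
  rw [hform p]
  have := hN p hp
  have e : bernoulli' n * ((d : ℚ) * p) ^ n / (Nat.factorial n : ℚ) +
          (2 * (s : ℚ) - d - n - 1) / 2 * bernoulli' (n - 1) * ((d : ℚ) * p) ^ (n - 1) / (Nat.factorial (n - 1) : ℚ) +
          P.eval (p : ℚ) = bernoulli' n * (d : ℚ) ^ n / (Nat.factorial n : ℚ) * (p : ℚ) ^ n +
          (2 * (s : ℚ) - d - n - 1) / 2 * bernoulli' (n - 1) * (d : ℚ) ^ (n - 1) / (Nat.factorial (n - 1) : ℚ) * (p : ℚ) ^ (n - 1) +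
          P.eval (p : ℚ) := by
    rw [mul_pow, mul_pow]; ring
  rw [e]; exact this

theorem todd_neg_eventually (n d : ℕ) (s : ℤ) (hn : 2 ≤ n)
    (hmod : n % 4 = 0 ∨ n % 4 = 1) (hd : 1 ≤ d) (hs : (n : ℤ) + d + 1 < 2 * s) :
    ∃ P : ℕ, ∀ p : ℕ, P ≤ p →
      PowerSeries.coeff n ((PowerSeries.rescale (-(d : ℚ)) (bernoulli'PowerSeries ℚ))⁻¹ * PowerSeries.rescale (-((d : ℚ) * p)) (bernoulli'PowerSeries ℚ) * bernoulli'PowerSeries ℚ ^ (n + 1) * PowerSeries.rescale ((d : ℚ) * p - d - n - 1 + s) (PowerSeries.exp ℚ)) < 0 := by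
  apply todd_neg_of n d s hn hd
  have hdpos : (0 : ℚ) < d := by exact_mod_cast hd
  rcases hmod with h0 | h1
  · left
    have hb := bernoulli'_neg_of_four_dvd n (by omega) h0
    have : (0 : ℚ) < (d : ℚ) ^ n / (Nat.factorial n : ℚ) := by positivity
    have e : bernoulli' n * (d : ℚ) ^ n / (Nat.factorial n : ℚ) = bernoulli' n * ((d : ℚ) ^ n / (Nat.factorial n : ℚ)) := by ring
    rw [e]; exact mul_neg_of_neg_of_pos hb this
  · right
    have hodd : Odd n := Nat.odd_iff.mpr (by omega)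
    have hz : bernoulli' n = 0 := bernoulli'_eq_zero_of_odd hodd (by omega)
    refine ⟨by rw [hz]; simp, ?_⟩
    have hb := bernoulli'_neg_of_four_dvd (n - 1) (by omega) (by omega)
    have hs' : (0 : ℚ) < (2 * (s : ℚ) - d - n - 1) / 2 := by
      have : ((n : ℤ) : ℚ) + (d : ℤ) + 1 < 2 * (s : ℚ) := by exact_mod_cast hs
      push_cast at this
      linarith
    have hpos : (0 : ℚ) < (d : ℚ) ^ (n - 1) / (Nat.factorial (n - 1) : ℚ) := by positivity
    have e : (2 * (s : ℚ) - d - n - 1) / 2 * bernoulli' (n - 1) * (d : ℚ) ^ (n - 1) / (Nat.factorial (n - 1) : ℚ)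
        = bernoulli' (n - 1) * ((2 * (s : ℚ) - d - n - 1) / 2 * ((d : ℚ) ^ (n - 1) / (Nat.factorial (n - 1) : ℚ))) := by ring
    rw [e]; exact mul_neg_of_neg_of_pos hb (mul_pos hs' hpos)

theorem todd_neg_twist (n d : ℕ) (hn : 2 ≤ n)
    (hmod : n % 4 ≠ 2) (hd : 1 ≤ d) :
    ∃ s : ℤ, 1 ≤ s ∧ ∃ P : ℕ, ∀ p : ℕ, P ≤ p →
      PowerSeries.coeff n ((PowerSeries.rescale (-(d : ℚ)) (bernoulli'PowerSeries ℚ))⁻¹ * PowerSeries.rescale (-((d : ℚ) * p)) (bernoulli'PowerSeries ℚ) * bernoulli'PowerSeries ℚ ^ (n + 1) * PowerSeries.rescale ((d : ℚ) * p - d - n - 1 + s) (PowerSeries.exp ℚ)) < 0 := by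
  by_cases h3 : n % 4 = 3
  · refine ⟨1, le_refl _, ?_⟩
    apply todd_neg_of n d 1 hn hd
    right
    have hdpos : (0 : ℚ) < d := by exact_mod_cast hd
    have hodd : Odd n := Nat.odd_iff.mpr (by omega)
    have hz : bernoulli' n = 0 := bernoulli'_eq_zero_of_odd hodd (by omega)
    refine ⟨by rw [hz]; simp, ?_⟩
    have hb := bernoulli'_pos_of_two_mod_four (n - 1) (by omega)
    have hs' : (2 * ((1 : ℤ) : ℚ) - d - n - 1) / 2 < 0 := by
      have : (2 : ℚ) ≤ n := by exact_mod_cast hn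
      push_cast
      linarith
    have hpos : (0 : ℚ) < (d : ℚ) ^ (n - 1) / (Nat.factorial (n - 1) : ℚ) := by positivity
    have e : (2 * ((1 : ℤ) : ℚ) - d - n - 1) / 2 * bernoulli' (n - 1) * (d : ℚ) ^ (n - 1) / (Nat.factorial (n - 1) : ℚ)
        = (2 * ((1 : ℤ) : ℚ) - d - n - 1) / 2 * (bernoulli' (n - 1) * ((d : ℚ) ^ (n - 1) / (Nat.factorial (n - 1) : ℚ))) := by ring
    rw [e]; exact mul_neg_of_neg_of_pos hs' (mul_pos hb hpos)
  · refine ⟨(n : ℤ) + d + 1, by omega, ?_⟩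
    exact todd_neg_eventually n d _ hn (by omega) hd (by omega)

end Groth.Agent.Lib.Helper4.BernTodd2
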