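import Mathlib.RingTheory.Bezout
import Mathlib.LinearAlgebra.Matrix.Determinant.Basic
import Mathlib.RingTheory.Ideal.Operations
import Mathlib.Tactic

namespace Groth.Agent.Lib.Helper4.BezoutRow

open Matrix

variable {R : Type*} [CommRing R] [IsDomain R] [IsBezout R]

/-- gcd extraction -/
theorem exists_smul_unimodular {m : ℕ} (t : Fin (m + 1) → R) :
    ∃ (d : R) (h : Fin (m + 1) → R), t = d • h ∧ Ideal.span (Set.range h) = ⊤ := by
  have hfg : (Ideal.span (Set.range t)).FG := ⟨(Set.finite_range t).toFinset, by simp⟩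
  obtain ⟨d, hd⟩ := (IsBezout.isPrincipal_of_FG _ hfg).principal
  change Ideal.span (Set.range t) = Ideal.span {d} at hd
  by_cases hd0 : d = 0
  · refine ⟨0, Pi.single 0 1, ?_, ?_⟩
    · ext i
      have : t i ∈ Ideal.span {d} := hd ▸ Ideal.subset_span ⟨i, rfl⟩
      rw [hd0, Ideal.span_singleton_zero] at this
      simpa using this
    · rw [Ideal.eq_top_iff_one]
      exact Ideal.subset_span ⟨0, by simp⟩
  · have hmem : ∀ i, ∃ c, t i = d * c := by
      intro i
      have : t i ∈ Ideal.span {d} := hd ▸ Ideal.subset_span ⟨i, rfl⟩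
      obtain ⟨c, hc⟩ := Ideal.mem_span_singleton'.1 this
      exact ⟨c, by rw [← hc, mul_comm]⟩
    choose h hh using hmem
    refine ⟨d, h, funext fun i => by simp [hh i], ?_⟩
    have hdm : d ∈ Ideal.span (Set.range t) := hd ▸ Ideal.mem_span_singleton_self d
    obtain ⟨c, hc⟩ := Ideal.mem_span_range_iff_exists_fun.1 hdm
    rw [Ideal.eq_top_iff_one, Ideal.mem_span_range_iff_exists_fun]
    refine ⟨c, ?_⟩
    apply mul_left_cancel₀ hd0
    rw [mul_one, Finset.mul_sum]
    conv_rhs => rw [← hc]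
    refine Finset.sum_congr rfl fun i _ => ?_
    rw [hh i]
    ring

omit [IsDomain R] [IsBezout R] in
theorem step {n : ℕ} (f0 d a b : R) (hab : a * f0 + b * d = 1) (h : Fin (n + 1) → R)
    (H : Matrix (Fin (n + 1)) (Fin (n + 1)) R) (hH : IsUnit H.det) (hH0 : H 0 = h) :
    ∃ A : Matrix (Fin (n + 2)) (Fin (n + 2)) R, IsUnit A.det ∧
      A 0 = (Fin.cons f0 (d • h) : Fin (n + 2) → R) := by
  obtain ⟨r0, hr0⟩ : ∃ r0 : Fin (n + 2) → R, r0 = Fin.cons f0 (d • h) := ⟨_, rfl⟩
  obtain ⟨r1, hr1⟩ : ∃ r1 : Fin (n + 2) → R, r1 = Fin.cons (-b) (a • h) := ⟨_, rfl⟩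
  obtain ⟨rk, hrk⟩ : ∃ rk : Fin n → Fin (n + 2) → R,
      ∀ k, rk k = (Fin.cons 0 (H k.succ) : Fin (n + 2) → R) :=
    ⟨fun k => Fin.cons 0 (H k.succ), fun k => rfl⟩
  obtain ⟨A, hA⟩ : ∃ A : Matrix (Fin (n + 2)) (Fin (n + 2)) R,
      A = Matrix.of (Fin.cons r0 (Fin.cons r1 rk : Fin (n + 1) → Fin (n + 2) → R) :
        Fin (n + 2) → Fin (n + 2) → R) := ⟨_, rfl⟩
  have hA0 : A 0 = r0 := by rw [hA]; rfl
  have hA1 : A (Fin.succ 0) = r1 := by rw [hA]; rfl
  have hAk : ∀ k : Fin n, A (Fin.succ (Fin.succ k)) = rk k := by intro k; rw [hA]; rfl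
  refine ⟨A, ?_, by rw [hA0, hr0]⟩
  have hs0 : A.submatrix (Fin.succAbove 0) Fin.succ = H.updateRow 0 (a • h) := by
    ext i j
    rw [Matrix.submatrix_apply, Matrix.updateRow_apply, Fin.succAbove_zero]
    refine Fin.cases ?_ (fun k => ?_) i
    · rw [if_pos rfl, hA1, hr1, Fin.cons_succ]
    · rw [if_neg (Fin.succ_ne_zero k), hAk, hrk, Fin.cons_succ]
  have hs1 : A.submatrix (Fin.succAbove (Fin.succ 0)) Fin.succ = H.updateRow 0 (d • h) := by
    ext i j
    rw [Matrix.submatrix_apply, Matrix.updateRow_apply]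
    refine Fin.cases ?_ (fun k => ?_) i
    · rw [if_pos rfl, Fin.succ_succAbove_zero, hA0, hr0, Fin.cons_succ]
    · rw [if_neg (Fin.succ_ne_zero k), Fin.succ_succAbove_succ, Fin.succAbove_zero, hAk, hrk,
        Fin.cons_succ]
  have hdet : A.det = H.det := by
    rw [det_succ_column_zero, Fin.sum_univ_succ, Fin.sum_univ_succ, hs0, hs1,
      det_updateRow_smul, det_updateRow_smul, ← hH0, updateRow_eq_self]
    have hz : ∀ k : Fin n, (-1 : R) ^ ((Fin.succ (Fin.succ k) : Fin (n + 2)) : ℕ) *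
        A (Fin.succ (Fin.succ k)) 0 *
        det (A.submatrix (Fin.succAbove (Fin.succ (Fin.succ k))) Fin.succ) = 0 := by
      intro k
      rw [hAk, hrk, Fin.cons_zero, mul_zero, zero_mul]
    rw [Finset.sum_eq_zero fun k _ => hz k, add_zero, hA0, hA1, hr0, hr1, Fin.cons_zero,
      Fin.cons_zero]
    simp only [Fin.val_zero, pow_zero, one_mul, Fin.val_succ, zero_add, pow_one]
    linear_combination H.det * hab
  rw [hdet]
  exact hH

theorem main : ∀ (n : ℕ) (f : Fin (n + 1) → R), Ideal.span (Set.range f) = ⊤ →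
    ∃ A : Matrix (Fin (n + 1)) (Fin (n + 1)) R, IsUnit A.det ∧ A 0 = f
  | 0, f, hf => by
    refine ⟨Matrix.of fun _ => f, ?_, rfl⟩
    have hdet : (Matrix.of fun _ => f : Matrix (Fin (0 + 1)) (Fin (0 + 1)) R).det = f 0 :=
      Matrix.det_fin_one _
    rw [hdet]
    have : Set.range f = {f 0} := by
      ext x
      constructor
      · rintro ⟨i, rfl⟩
        have : i = 0 := Fin.ext (by omega)
        rw [this]
        rfl
      · rintro rfl
        exact ⟨0, rfl⟩
    rw [this, Ideal.span_singleton_eq_top] at hf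
    exact hf
  | n + 1, f, hf => by
    obtain ⟨d, h, ht, hh⟩ := exists_smul_unimodular (Fin.tail f)
    obtain ⟨H, hH, hH0⟩ := main n h hh
    have h1 : (1 : R) ∈ Ideal.span (Set.range f) := by rw [hf]; trivial
    obtain ⟨c, hc⟩ := Ideal.mem_span_range_iff_exists_fun.1 h1
    rw [Fin.sum_univ_succ] at hc
    have hab : c 0 * f 0 + (∑ i : Fin (n + 1), c i.succ * h i) * d = 1 := by
      rw [← hc, Finset.sum_mul]
      congr 1
      refine Finset.sum_congr rfl fun i _ => ?_
      have : f i.succ = d * h i := by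
        have := congrFun ht i
        simpa [Fin.tail] using this
      rw [this]
      ring
    obtain ⟨A, hA, hA0⟩ := step (f 0) d (c 0) _ hab h H hH hH0
    refine ⟨A, hA, ?_⟩
    rw [hA0, ← ht]
    exact Fin.cons_self_tail f

end Groth.Agent.Lib.Helper4.BezoutRow

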