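import Groth.Agent.Lib.Helper24.FibreDim.Formula
import Groth.Agent.Lib.Helper24.FibreDim.Equidim
import Groth.Agent.Lib.lead.FibreOrder
set_option autoImplicit false
set_option backward.isDefEq.respectTransparency.types false
set_option linter.unusedSectionVars false
set_option linter.style.haveILetI false
universe u
open CategoryTheory CategoryTheory.Limits AlgebraicGeometry Opposite TopologicalSpace

noncomputable section
namespace Groth.Agent.Lib.Helper4.BirFib

open Groth.Agent.Lib.lead Groth.Agent.Lib.Helper24.FibreDim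

variable {X Y : Scheme.{u}}

/-- residue transcendence degree of an open immersion is zero -/
theorem tr_eq_zero_of_isOpenImmersion (g : X ⟶ Y) [IsOpenImmersion g] (x : X) : tr g x = 0 := by
  have h1 := tr_spec g x
  letI a1 : Algebra (Y.residueField (g x)) (X.residueField x) :=
    (g.residueFieldMap x).hom.toAlgebra
  have hsurj : Function.Surjective (algebraMap (Y.residueField (g x)) (X.residueField x)) := by
    have : Function.Bijective (g.residueFieldMap x).hom :=
      ConcreteCategory.bijective_of_isIso (g.residueFieldMap x)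
    exact this.2
  haveI : Algebra.IsIntegral (Y.residueField (g x)) (X.residueField x) :=
    Algebra.isIntegral_of_surjective hsurj
  haveI : Algebra.IsAlgebraic (Y.residueField (g x)) (X.residueField x) := inferInstance
  have h2 : Algebra.trdeg (Y.residueField (g x)) (X.residueField x) = 0 := trdeg_eq_zero
  have h3 : ((tr g x : ℕ) : Cardinal.{u}) = 0 := by rw [← h1]; exact h2
  exact_mod_cast h3

theorem tr_congr {g g' : X ⟶ Y} [LocallyOfFiniteType g] [LocallyOfFiniteType g'] (h : g = g')
    (x : X) : tr g x = tr g' x := by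
  subst h; rfl

/-- the generic residue transcendence degree of a morphism which is an isomorphism over a
nonempty open is zero -/
theorem tr_genericPoint_eq_zero [IrreducibleSpace X] (f : X ⟶ Y) [LocallyOfFiniteType f]
    (U : Y.Opens) (hU : (U : Set Y).Nonempty) [IsIso (f ∣_ U)] : tr f (genericPoint ↥X) = 0 := by
  obtain ⟨y, hy⟩ := hU
  obtain ⟨x', hx'⟩ := (f ∣_ U).surjective ⟨y, hy⟩
  have hne : ((f ⁻¹ᵁ U : X.Opens) : Set X).Nonempty := ⟨x'.1, x'.2⟩
  have hξ : genericPoint ↥X ∈ (f ⁻¹ᵁ U : X.Opens) :=
    ((genericPoint_spec ↥X).mem_open_set_iff (f ⁻¹ᵁ U).isOpen).2 (by simpa using hne)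
  set ξ' : ↥(f ⁻¹ᵁ U) := ⟨genericPoint ↥X, hξ⟩ with hξ'
  have h1 : (f ⁻¹ᵁ U).ι ξ' = genericPoint ↥X := rfl
  haveI : LocallyOfFiniteType ((f ⁻¹ᵁ U).ι ≫ f) := inferInstance
  rw [← h1, ← tr_comp_openImmersion (f ⁻¹ᵁ U).ι f ξ',
    tr_congr (g' := f ∣_ U ≫ U.ι) (morphismRestrict_ι f U).symm ξ']
  exact tr_eq_zero_of_isOpenImmersion _ _

/-- if the generic residue transcendence degree is zero and all local rings of the target have
dimension `≤ n + 1`, then all fibres have dimension `≤ n` -/
theorem dim_fiber_le [IrreducibleSpace X] [IsLocallyNoetherian Y] (f : X ⟶ Y)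
    [LocallyOfFiniteType f] (h0 : tr f (genericPoint ↥X) = 0) (n : ℕ)
    (hY : ∀ y : Y, Order.coheight y ≤ ((n + 1 : ℕ) : ℕ∞)) (y : Y) :
    topologicalKrullDim ↥(f.fiber y) ≤ n := by
  rw [StalkDimIneq.topologicalKrullDim_eq_krullDim (f.fiber y),
    Order.krullDim_eq_of_orderIso (FibreOrder.fiberOrderIso f y)]
  unfold Order.krullDim
  apply iSup_le
  intro l
  let c : Fin (l.length + 1) → X := fun i => (l i).1
  have hc : StrictMono c := fun i j hij => l.strictMono hij
  have hfc : ∀ i, f (c i) = y := fun i => (l i).2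
  have h1 := tr_add_le_of_strictMono f c hc (fun i => (hfc i).trans (hfc 0).symm) (Fin.last _)
  simp only [Fin.val_last] at h1
  have h2 := coheight_add_tr_le f (c (Fin.last _))
  rw [h0, hfc] at h2
  have h3 : l.length ≤ n := by
    by_cases hz : Order.coheight (c (Fin.last _)) = 0
    · have hmax : IsMax (c (Fin.last _)) := Order.coheight_eq_zero.1 hz
      have hle : c (Fin.last _) ≤ genericPoint ↥X := _root_.genericPoint_specializes _
      have hge : genericPoint ↥X ≤ c (Fin.last _) := hmax hle
      have heq : c (Fin.last _) = genericPoint ↥X :=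
        (Specializes.antisymm hge hle).eq
      rw [heq, h0] at h1
      omega
    · have h4 : (1 : ℕ∞) ≤ Order.coheight (c (Fin.last _)) := Order.one_le_iff_ne_zero.2 hz
      have h5 : ((tr f (c (Fin.last _)) + 1 : ℕ) : ℕ∞) ≤ ((n + 1 : ℕ) : ℕ∞) := by
        calc ((tr f (c (Fin.last _)) + 1 : ℕ) : ℕ∞)
            = 1 + (tr f (c (Fin.last _)) : ℕ∞) := by push_cast; rw [add_comm]
          _ ≤ Order.coheight (c (Fin.last _)) + (tr f (c (Fin.last _)) : ℕ∞) :=
              add_le_add_left h4 _
          _ ≤ _ := h2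
          _ = Order.coheight y := by simp
          _ ≤ _ := hY y
      have h6 : tr f (c (Fin.last _)) + 1 ≤ n + 1 := by exact_mod_cast h5
      omega
  exact_mod_cast h3

/-- fibres of a birational morphism of finite type from an irreducible scheme to the spectrum of
a Noetherian ring of dimension two have dimension at most one -/
theorem dim_fiber_le_one (A : Type u) [CommRing A] [IsNoetherianRing A] (hdim : ringKrullDim A = 2)
    (f : X ⟶ Spec (CommRingCat.of A)) [LocallyOfFiniteType f] [IrreducibleSpace X]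
    (hbir : ∃ U : (Spec (CommRingCat.of A)).Opens,
      (U : Set (Spec (CommRingCat.of A))).Nonempty ∧ IsIso (f ∣_ U))
    (y : ↥(Spec (CommRingCat.of A))) : topologicalKrullDim ↥(f.fiber y) ≤ 1 := by
  obtain ⟨U, hU, hiso⟩ := hbir
  haveI := hiso
  have h0 := tr_genericPoint_eq_zero f U hU
  have hY : ∀ y : ↥(Spec (CommRingCat.of A)), Order.coheight y ≤ ((1 + 1 : ℕ) : ℕ∞) := by
    intro y
    have h1 := StalkDimIneq.coheight_le_topologicalKrullDim (Spec (CommRingCat.of A)) y
    have h2 : topologicalKrullDim ↥(Spec (CommRingCat.of A)) = ringKrullDim A :=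
      PrimeSpectrum.topologicalKrullDim_eq_ringKrullDim A
    rw [h2, hdim] at h1
    have h3 : ((Order.coheight y : ℕ∞) : WithBot ℕ∞) ≤ ((2 : ℕ∞) : WithBot ℕ∞) := h1
    have h4 : Order.coheight y ≤ (2 : ℕ∞) := WithBot.coe_le_coe.1 h3
    exact h4.trans (by norm_num)
  exact_mod_cast dim_fiber_le f h0 1 hY y

end Groth.Agent.Lib.Helper4.BirFib
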