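import Groth.Agent.Lib.Helper4.RV2
import Groth.Agent.Lib.Helper2.G0GG
import Groth.Agent.Lib.Helper4.AmpleComp
import Groth.Agent.S0012
set_option autoImplicit false
set_option backward.isDefEq.respectTransparency.types false
set_option linter.unusedSectionVars false
set_option linter.style.haveILetI false
universe u
open CategoryTheory CategoryTheory.Limits AlgebraicGeometry Opposite TopologicalSpace

noncomputable section
namespace Groth.Agent.Lib.Helper4.RV3

open Groth.Agent.Lib.lead.FibOne Groth.Agent.Lib.Helper21.FibVan Groth.Agent.Lib.Helper2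
  Groth.Agent.Lib.Helper2.HomExt Groth.Agent.Lib.Helper2.GSplit2 Groth.Agent.Lib.Helper4.RV1
  Groth.Agent.Lib.Helper4.RV2 Groth.Agent.Lib.Helper23.ProjF

variable (A : Type u) [CommRing A] [IsNoetherianRing A] {X : Scheme.{u}}
  (f : X ⟶ Spec (CommRingCat.of A)) [IsProper f]

theorem egood (hfib : ∀ y : ↥(Spec (CommRingCat.of A)), topologicalKrullDim ↥(f.fiber y) ≤ 1) :
    EGood 1 f := by
  refine ⟨X, Spec (CommRingCat.of A), X, f, 𝟙 _, 𝟙 _, f, 𝟙 _, ?_, inferInstance, Category.id_comp _,
    inferInstance, inferInstance, inferInstance, hfib⟩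
  exact IsPullback.of_horiz_isIso ⟨by simp⟩

theorem good (hfib : ∀ y : ↥(Spec (CommRingCat.of A)), topologicalKrullDim ↥(f.fiber y) ≤ 1) :
    Good 1 X :=
  ⟨X, Spec (CommRingCat.of A), f, 𝟙 X, inferInstance, inferInstance, inferInstance, hfib, inferInstance⟩

include A f in
theorem hvan (hfib : ∀ y : ↥(Spec (CommRingCat.of A)), topologicalKrullDim ↥(f.fiber y) ≤ 1)
    (K : X.Modules) (hK : K.IsQuasicoherent) : Subsingleton (Coh.HH X K (1 + 1)) :=
  (good A f hfib).subsingleton_HH K 2 (by norm_num)

section fibre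

variable (h1 : Subsingleton (Coh.HH X (Coh.structureModule X) 1))
  (hfib : ∀ y : ↥(Spec (CommRingCat.of A)), topologicalKrullDim ↥(f.fiber y) ≤ 1)
  (y : ↥(Spec (CommRingCat.of A)))

include h1 hfib in
theorem subsingleton_H1_fiber :
    Subsingleton (Coh.HH (f.fiber y) (Coh.structureModule (f.fiber y)) 1) :=
  subsingleton_HH_baseChange
    (IsPullback.of_hasPullback f ((Spec (CommRingCat.of A)).fromSpecResidueField y)) 1 (egood A f hfib) h1

include h1 hfib in
/-- the inverse image of an ample module on a closed fibre is globally generated without `H¹` -/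
theorem gg_fiber {L : X.Modules} (hL : CohB1.IsAmple L)
    (hy : IsClosed ({y} : Set ↥(Spec (CommRingCat.of A)))) :
    Curv2.IsGloballyGenerated ((Scheme.Modules.pullback (f.fiberι y)).obj L) ∧
      Subsingleton (Coh.HH (f.fiber y) ((Scheme.Modules.pullback (f.fiberι y)).obj L) 1) := by
  haveI : IsClosedImmersion ((Spec (CommRingCat.of A)).fromSpecResidueField y) :=
    (isClosed_singleton_iff_isClosedImmersion).1 hy
  haveI : IsClosedImmersion (f.fiberι y) :=
    MorphismProperty.of_isPullback (P := @IsClosedImmersion)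
      (IsPullback.of_hasPullback f ((Spec (CommRingCat.of A)).fromSpecResidueField y)).flip inferInstance
  have hLZ := Groth.Agent.Lib.Helper4.AmpleComp.isAmple_pullback_of_isClosedImmersion (f.fiberι y) hL
  let κ : Type u := (Spec (CommRingCat.of A)).residueField y
  letI : (f.fiber y).Over (Spec (CommRingCat.of κ)) := ⟨f.fiberToSpecResidueField y⟩
  haveI : IsProper ((f.fiber y) ↘ Spec (CommRingCat.of κ)) := by
    show IsProper (f.fiberToSpecResidueField y)
    exact MorphismProperty.of_isPullback (P := @IsProper)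
      (IsPullback.of_hasPullback f ((Spec (CommRingCat.of A)).fromSpecResidueField y)) inferInstance
  have hO := subsingleton_H1_fiber A f h1 hfib y
  have hgg := Groth.Agent.Lib.Helper2.G0GG.isGloballyGenerated_of_isAmple κ (hfib y) hO hLZ
  haveI := Groth.Agent.Lib.Helper2.G0GG.isNoetherian κ (f.fiber y)
  have hc := Groth.Agent.Lib.Helper6.K0Op.isCoh_of_isInvertible _ hLZ.1
  exact ⟨hgg, Groth.Agent.Lib.Helper8.GGKill.subsingleton_H1_of_gg (hfib y) hO hc hgg⟩

/-- the chain of isomorphisms `L ⊗ k_* O_Z ≅ k_* (k^* L ⊗ O_Z) ≅ k_* k^* L` -/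
def tensorPushIso {Z : Scheme.{u}} (k : Z ⟶ X) (L : X.Modules) (hL : PicF.IsInvertible L) :
    (TL L).obj (PM k (Coh.structureModule Z)) ≅ PM k ((Scheme.Modules.pullback k).obj L) :=
  (@asIso _ _ _ _ (projMap k L (Coh.structureModule Z)) (isIso_projMap k L (Coh.structureModule Z)
    (fun x => by
      obtain ⟨U, hxU, h⟩ := Groth.Agent.Lib.Helper6.K0Op.isFinLocFreeOfRank_one_of_isInvertible L hL x
      exact ⟨U, 1, hxU, h⟩))) ≪≫
    (Scheme.Modules.pushforward k).mapIso (SecTwist.unitorR ((Scheme.Modules.pullback k).obj L))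

include h1 hfib in
theorem subsingleton_H1_tensor_push {L : X.Modules} (hL : CohB1.IsAmple L)
    (hy : IsClosed ({y} : Set ↥(Spec (CommRingCat.of A)))) :
    Subsingleton (Coh.HH X ((TL L).obj (PM (f.fiberι y) (Coh.structureModule (f.fiber y)))) 1) := by
  haveI : IsClosedImmersion ((Spec (CommRingCat.of A)).fromSpecResidueField y) :=
    (isClosed_singleton_iff_isClosedImmersion).1 hy
  haveI : IsClosedImmersion (f.fiberι y) :=
    MorphismProperty.of_isPullback (P := @IsClosedImmersion)
      (IsPullback.of_hasPullback f ((Spec (CommRingCat.of A)).fromSpecResidueField y)).flip inferInstance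
  have hLZ := Groth.Agent.Lib.Helper4.AmpleComp.isAmple_pullback_of_isClosedImmersion (f.fiberι y) hL
  haveI : Coh.IsQCoh ((Scheme.Modules.pullback (f.fiberι y)).obj L) :=
    Groth.Agent.Lib.Helper28.InvQC.isQuasicoherent_of_isInvertible _ hLZ.1
  obtain ⟨e⟩ := Groth.Agent.S0012.result (f.fiberι y) ((Scheme.Modules.pullback (f.fiberι y)).obj L) 1
  haveI := (gg_fiber A f h1 hfib y hL hy).2
  have h2 : Subsingleton (Coh.HH X (PM (f.fiberι y) ((Scheme.Modules.pullback (f.fiberι y)).obj L)) 1) :=
    e.symm.toEquiv.subsingleton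
  exact subsingleton_HH_of_iso (tensorPushIso (f.fiberι y) L hL.1) 1 h2

end fibre

section global

variable (h1 : Subsingleton (Coh.HH X (Coh.structureModule X) 1))
  (hfib : ∀ y : ↥(Spec (CommRingCat.of A)), topologicalKrullDim ↥(f.fiber y) ≤ 1)

include h1 hfib in
/-- `H¹(X, L ⊗ O) = 0` for ample `L` -/
theorem subsingleton_H1_tensor_unit {L : X.Modules} (hL : CohB1.IsAmple L) :
    Subsingleton (Coh.HH X ((TL L).obj (Coh.structureModule X)) 1) :=
  subsingleton_HH_of_closedFibres A f 1 (hvan A f hfib) L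
    (Groth.Agent.Lib.Helper6.K0Op.isCoh_of_isInvertible L hL.1)
    (fun y hy => subsingleton_H1_tensor_push A f h1 hfib y hL hy)

end global

end Groth.Agent.Lib.Helper4.RV3
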