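import Groth.Agent.Lib.Helper4.BirFib
import Groth.Agent.Lib.Helper4.RV3
import Groth.Agent.Lib.lead.FibOneG
import Groth.Prelude.Def_Curv2
set_option autoImplicit false
set_option backward.isDefEq.respectTransparency.types false
set_option linter.unusedSectionVars false
set_option linter.style.haveILetI false
universe u
open CategoryTheory CategoryTheory.Limits AlgebraicGeometry Opposite TopologicalSpace

noncomputable section
namespace Groth.Agent.Lib.Helper4.BirFib2

open Groth.Agent.Lib.lead Groth.Agent.Lib.Helper4.BirFib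

variable (A : Type u) [CommRing A] [IsNoetherianRing A] (hdim : ringKrullDim A = 2)
  {X : Scheme.{u}} (f : X ⟶ Spec (CommRingCat.of A)) [IsProper f] [IsIntegral X]
  (hbir : ∃ U : (Spec (CommRingCat.of A)).Opens,
      (U : Set (Spec (CommRingCat.of A))).Nonempty ∧ IsIso (f ∣_ U))

include hdim hbir in
theorem main7297 (F : X.Modules) (hF : Coh.IsQCoh F) (p : ℕ) (hp : 2 ≤ p) :
    Subsingleton (Coh.HH X F p) := by
  haveI : F.IsQuasicoherent := hF
  have hfib := dim_fiber_le_one A hdim f hbir
  exact (Groth.Agent.Lib.Helper4.RV3.good A f hfib).subsingleton_HH F p (by omega)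

include hdim hbir in
theorem main7298 (h1 : Subsingleton (Coh.HH X (Coh.structureModule X) 1))
    (F : X.Modules) (hF : Coh.IsQCoh F) (hgg : Curv2.IsGloballyGenerated F) :
    Subsingleton (Coh.HH X F 1) := by
  haveI : F.IsQuasicoherent := hF
  have hfib := dim_fiber_le_one A hdim f hbir
  haveI : CompactSpace X := by
    have : QuasiCompact f := inferInstance
    exact HasAffineProperty.iff_of_isAffine.mp this
  haveI : QuasiSeparatedSpace X := quasiSeparatedSpace_of_quasiSeparated f
  obtain ⟨ι, p, hp⟩ := hgg
  let e : (∐ fun _ : ι => Coh.structureModule X) ⟶ F := p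
  haveI : Epi e := hp
  exact Groth.Agent.Lib.lead.FibOne.subsingleton_HH_of_epi_sigma F (ι := ι) e 1
    (fun K hK => Groth.Agent.Lib.Helper4.RV3.hvan A f hfib K hK) h1

end Groth.Agent.Lib.Helper4.BirFib2
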