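import Mathlib.Tactic
import Mathlib.AlgebraicGeometry.Sites.Fpqc
import Groth.Prelude.Def_NonAbH2
import Groth.Agent.Lib.Helper4.CovSieve
import Groth.Agent.Lib.Helper4.QuotGrp
import Groth.Agent.Lib.Helper4.FpqcDesc

set_option autoImplicit false
universe u
open CategoryTheory MonoidalCategory CartesianMonoidalCategory MonObj AlgebraicGeometry Limits

namespace Groth.Agent.Lib.Helper4.CentralExt

open CovSieve

variable {S : Scheme.{u}} {P G E : Over S} [GrpObj P] [GrpObj G] [GrpObj E]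
  (u : G ⟶ E) [IsMonHom u] (v : E ⟶ P) [IsMonHom v]
  (hsq : IsPullback ((E ◁ u) ≫ μ[E]) (fst E G) v v)

include hsq in
theorem mono_u : Mono u := by
  constructor
  intro T n n' h
  have hact : ∀ (m : T ⟶ G), lift (1 : T ⟶ E) m ≫ (E ◁ u) ≫ μ[E] = 1 * (m ≫ u) := by
    intro m
    rw [← Category.assoc, Hom.mul_def]
    congr 1 <;> (apply CartesianMonoidalCategory.hom_ext <;> simp)
  have : lift (1 : T ⟶ E) n = lift 1 n' := by
    apply hsq.hom_ext
    · rw [hact, hact, h]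
    · simp
  have := congrArg (· ≫ snd E G) this
  simpa using this

include hsq in
theorem ker_iff {T : Over S} (x : T ⟶ E) : x ≫ v = 1 ↔ ∃ n : T ⟶ G, x = n ≫ u := by
  have h1 := QuotGrp.coeq_iff u v hsq x 1
  rw [MonObj.one_comp] at h1
  rw [h1]
  simp only [_root_.one_mul]

section central
variable (hcomm : IsCommMonObj G) (hcov : CovMor v.left)
  (hPG : ∀ f : P ⊗ G ⟶ G, lift (𝟙 P) (toUnit P ≫ η[G]) ≫ f = 1 →
    lift (toUnit G ≫ η[P]) (𝟙 G) ≫ f = 1 → f = 1)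

include hsq hcomm hcov hPG in
theorem central (T : Over S) (g : T ⟶ G) (x : T ⟶ E) : (g ≫ u) * x = x * (g ≫ u) := by
  have hmono : Mono u := mono_u u v hsq
  have hee : EffectiveEpi v.left := hcov.effectiveEpi
  have hepi : Epi v := Over.epi_of_epi_left _
  have huv : u ≫ v = 1 := by
    rw [ker_iff u v hsq]
    exact ⟨𝟙 G, (Category.id_comp u).symm⟩
  -- the conjugation map
  have hx0 : (fst E G * (snd E G ≫ u) * (fst E G)⁻¹) ≫ v = 1 := by
    rw [MonObj.mul_comp, MonObj.mul_comp, GrpObj.inv_comp, Category.assoc, huv, MonObj.comp_one,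
      _root_.mul_one, mul_inv_cancel]
  obtain ⟨c, hc⟩ := (ker_iff u v hsq _).mp hx0
  have hcpt : ∀ {W : Over S} (w : W ⟶ E ⊗ G),
      (w ≫ c) ≫ u = (w ≫ fst E G) * ((w ≫ snd E G) ≫ u) * (w ≫ fst E G)⁻¹ := by
    intro W w
    rw [Category.assoc, ← hc, MonObj.comp_mul, MonObj.comp_mul, GrpObj.comp_inv, Category.assoc]
  have hee2 : EffectiveEpi (v ▷ G).left := (covMor_whiskerRight v G hcov).effectiveEpi
  obtain ⟨cb, hcb⟩ := FpqcDesc.exists_desc (v ▷ G) c (by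
    intro W w₁ w₂ hw
    have h1 : (w₁ ≫ fst E G) ≫ v = (w₂ ≫ fst E G) ≫ v := by
      have := congrArg (· ≫ fst P G) hw
      simpa using this
    have h2 : w₁ ≫ snd E G = w₂ ≫ snd E G := by
      have := congrArg (· ≫ snd P G) hw
      simpa using this
    obtain ⟨n, hn⟩ := (QuotGrp.coeq_iff u v hsq _ _).mp h1
    rw [← cancel_mono u, hcpt, hcpt, hn, h2]
    have h3 : (n ≫ u) * ((w₂ ≫ snd E G) ≫ u) * (n ≫ u)⁻¹ = (w₂ ≫ snd E G) ≫ u := by
      rw [← MonObj.mul_comp, ← GrpObj.inv_comp, ← MonObj.mul_comp, mul_comm n,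
        mul_inv_cancel_right]
    have h4 : (w₂ ≫ fst E G * n ≫ u) * ((w₂ ≫ snd E G) ≫ u) * (w₂ ≫ fst E G * n ≫ u)⁻¹ =
        (w₂ ≫ fst E G) * ((n ≫ u) * ((w₂ ≫ snd E G) ≫ u) * (n ≫ u)⁻¹) * (w₂ ≫ fst E G)⁻¹ := by
      group
    rw [h4, h3])
  -- the defect map
  have hfE : (v ▷ G) ≫ (cb * (snd P G)⁻¹) = c * (snd E G)⁻¹ := by
    rw [MonObj.comp_mul, GrpObj.comp_inv, hcb, whiskerRight_snd]
  have hA1 : lift (𝟙 P) (toUnit P ≫ η[G]) ≫ (cb * (snd P G)⁻¹) = 1 := by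
    rw [← cancel_epi v, MonObj.comp_one]
    have e1 : v ≫ lift (𝟙 P) (toUnit P ≫ η[G]) = lift (𝟙 E) (1 : E ⟶ G) ≫ (v ▷ G) := by
      apply CartesianMonoidalCategory.hom_ext
      · simp
      · simp [Hom.one_def]
    rw [← Category.assoc, e1, Category.assoc, hfE, MonObj.comp_mul, GrpObj.comp_inv, lift_snd,
      inv_one, _root_.mul_one, ← cancel_mono u, hcpt, lift_fst, lift_snd, MonObj.one_comp, _root_.mul_one, mul_inv_cancel]
  have hA2 : lift (toUnit G ≫ η[P]) (𝟙 G) ≫ (cb * (snd P G)⁻¹) = 1 := by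
    have e1 : lift (toUnit G ≫ η[P]) (𝟙 G) = lift (1 : G ⟶ E) (𝟙 G) ≫ (v ▷ G) := by
      apply CartesianMonoidalCategory.hom_ext
      · simp [Hom.one_def]
      · simp
    have e2 : lift (1 : G ⟶ E) (𝟙 G) ≫ c = 𝟙 G := by
      rw [← cancel_mono u, hcpt, lift_fst, lift_snd, inv_one, _root_.mul_one, _root_.one_mul]
    rw [e1, Category.assoc, hfE, MonObj.comp_mul, GrpObj.comp_inv, lift_snd, e2, mul_inv_cancel]
  have hf := hPG _ hA1 hA2
  have hcb2 : cb = snd P G := mul_inv_eq_one.mp hf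
  have hc2 : c = snd E G := by rw [← hcb, hcb2, whiskerRight_snd]
  have h4 := hcpt (lift x g)
  rw [hc2, lift_fst, lift_snd] at h4
  exact (mul_inv_eq_iff_eq_mul.mp h4.symm).symm

end central

section comm
variable (hcov : CovMor v.left)
  (hcen : ∀ (T : Over S) (g : T ⟶ G) (x : T ⟶ E), (g ≫ u) * x = x * (g ≫ u))
  (hcommP : IsCommMonObj P)
  (hPP : ∀ f : P ⊗ P ⟶ G, lift (𝟙 P) (toUnit P ≫ η[P]) ≫ f = 1 →
    lift (toUnit P ≫ η[P]) (𝟙 P) ≫ f = 1 → f = 1)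

theorem comm_central {Γ : Type*} [Group Γ] (x y a b : Γ) (ha : ∀ z, a * z = z * a)
    (hb : ∀ z, b * z = z * b) :
    (x * a) * (y * b) * (x * a)⁻¹ * (y * b)⁻¹ = x * y * x⁻¹ * y⁻¹ := by
  have h1 : ∀ z, (x * a) * z * (x * a)⁻¹ = x * z * x⁻¹ := by
    intro z
    rw [mul_inv_rev, mul_assoc x a z, ha z]
    group
  rw [h1, ← hb y, ← mul_assoc x b y, ← hb x]
  have h2 : b * x * y * x⁻¹ * (b * y)⁻¹ = b * (x * y * x⁻¹ * y⁻¹) * b⁻¹ := by group
  rw [h2, hb, mul_inv_cancel_right]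

include hsq hcov hcen hcommP hPP in
theorem comm : IsCommMonObj E := by
  have hmono : Mono u := mono_u u v hsq
  have hee : EffectiveEpi v.left := hcov.effectiveEpi
  have hepi : Epi v := Over.epi_of_epi_left _
  have hx0 : (fst E E * snd E E * (fst E E)⁻¹ * (snd E E)⁻¹) ≫ v = 1 := by
    rw [MonObj.mul_comp, MonObj.mul_comp, MonObj.mul_comp, GrpObj.inv_comp, GrpObj.inv_comp,
      mul_comm (fst E E ≫ v), mul_inv_cancel_right, mul_inv_cancel]
  obtain ⟨d, hd⟩ := (ker_iff u v hsq _).mp hx0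
  have hdpt : ∀ {W : Over S} (w : W ⟶ E ⊗ E),
      (w ≫ d) ≫ u = (w ≫ fst E E) * (w ≫ snd E E) * (w ≫ fst E E)⁻¹ * (w ≫ snd E E)⁻¹ := by
    intro W w
    rw [Category.assoc, ← hd, MonObj.comp_mul, MonObj.comp_mul, MonObj.comp_mul, GrpObj.comp_inv,
      GrpObj.comp_inv]
  have hee2 : EffectiveEpi (v ⊗ₘ v).left := (covMor_tensorHom v v hcov hcov).effectiveEpi
  obtain ⟨db, hdb⟩ := FpqcDesc.exists_desc (v ⊗ₘ v) d (by
    intro W w₁ w₂ hw
    have h1 : (w₁ ≫ fst E E) ≫ v = (w₂ ≫ fst E E) ≫ v := by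
      have := congrArg (· ≫ fst P P) hw
      simpa using this
    have h2 : (w₁ ≫ snd E E) ≫ v = (w₂ ≫ snd E E) ≫ v := by
      have := congrArg (· ≫ snd P P) hw
      simpa using this
    obtain ⟨n, hn⟩ := (QuotGrp.coeq_iff u v hsq _ _).mp h1
    obtain ⟨m, hm⟩ := (QuotGrp.coeq_iff u v hsq _ _).mp h2
    rw [← cancel_mono u, hdpt, hdpt, hn, hm]
    exact comm_central _ _ _ _ (hcen W n) (hcen W m))
  have hA1 : lift (𝟙 P) (toUnit P ≫ η[P]) ≫ db = 1 := by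
    rw [← cancel_epi v, MonObj.comp_one]
    have e1 : v ≫ lift (𝟙 P) (toUnit P ≫ η[P]) = lift (𝟙 E) (1 : E ⟶ E) ≫ (v ⊗ₘ v) := by
      apply CartesianMonoidalCategory.hom_ext
      · simp
      · simp [Hom.one_def]
    rw [← Category.assoc, e1, Category.assoc, hdb, ← cancel_mono u, hdpt, lift_fst, lift_snd,
      MonObj.one_comp, inv_one, _root_.mul_one, _root_.mul_one, mul_inv_cancel]
  have hA2 : lift (toUnit P ≫ η[P]) (𝟙 P) ≫ db = 1 := by
    rw [← cancel_epi v, MonObj.comp_one]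
    have e1 : v ≫ lift (toUnit P ≫ η[P]) (𝟙 P) = lift (1 : E ⟶ E) (𝟙 E) ≫ (v ⊗ₘ v) := by
      apply CartesianMonoidalCategory.hom_ext
      · simp [Hom.one_def]
      · simp
    rw [← Category.assoc, e1, Category.assoc, hdb, ← cancel_mono u, hdpt, lift_fst, lift_snd,
      MonObj.one_comp, inv_one, _root_.mul_one, _root_.one_mul, mul_inv_cancel]
  have hdb1 := hPP db hA1 hA2
  have hd1 : d = 1 := by rw [← hdb, hdb1, MonObj.comp_one]
  have hfs : fst E E * snd E E = snd E E * fst E E := by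
    have h3 : fst E E * snd E E * (fst E E)⁻¹ * (snd E E)⁻¹ = 1 := by
      rw [hd, hd1, MonObj.one_comp]
    have h4 := mul_inv_eq_one.mp h3
    exact mul_inv_eq_iff_eq_mul.mp h4
  have hμ : (μ[E] : E ⊗ E ⟶ E) = fst E E * snd E E := by
    rw [Hom.mul_def, lift_fst_snd, Category.id_comp]
  constructor
  rw [hμ, MonObj.comp_mul, hfs]
  simp

end comm

theorem main8718 (S : Scheme.{u})
    (P G E : Over S) [GrpObj P] [GrpObj G] [GrpObj E] [hG : IsCommMonObj G]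
    (u : G ⟶ E) (v : E ⟶ P) (hex : NonAbH1.IsExactSeq Scheme.fppfPrecoverage u v)
    (hPG : ∀ f : P ⊗ G ⟶ G, lift (𝟙 P) (toUnit P ≫ η[G]) ≫ f = 1 → lift (toUnit G ≫ η[P]) (𝟙 G) ≫ f = 1 → f = 1) :
    (∀ (T : Over S) (g : T ⟶ G) (x : T ⟶ E), (g ≫ u) * x = x * (g ≫ u)) ∧
      (IsCommMonObj P →
        (∀ f : P ⊗ P ⟶ G, lift (𝟙 P) (toUnit P ≫ η[P]) ≫ f = 1 → lift (toUnit P ≫ η[P]) (𝟙 P) ≫ f = 1 → f = 1) →
          IsCommMonObj E) := by
  obtain ⟨hu, hv, -, hsq, hloc⟩ := hex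
  have hcov : CovMor v.left := covMor_of_isLocallyTrivialFor_fppf v.left hloc
  have hcen := central u v hsq.flip hG hcov hPG
  exact ⟨hcen, fun hP hPP => comm u v hsq.flip hcov hcen hP hPP⟩

end Groth.Agent.Lib.Helper4.CentralExt
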