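import Mathlib.Tactic
import Mathlib.AlgebraicGeometry.Sites.Fpqc
import Groth.Prelude.Def_NonAbH2
import Groth.Agent.Lib.Helper4.CentralExt

set_option autoImplicit false
universe u
open CategoryTheory MonoidalCategory CartesianMonoidalCategory MonObj AlgebraicGeometry Limits

namespace Groth.Agent.Lib.Helper4.Bitorsor

open CovSieve

/-- abstract group lemma: the defect is invariant under right translation of the first argument -/
theorem defect_left {Γ Γ' N : Type*} [Group Γ] [Group Γ'] [Group N] (j : N →* Γ) (j' : N →* Γ')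
    (f : Γ → Γ') (hl : ∀ n x, f (j n * x) = j' n * f x) (hr : ∀ n x, f (x * j n) = f x * j' n)
    (a b : Γ) (n m : N) (hnm : j n * b = b * j m) :
    f (a * j n * b) * (f b)⁻¹ * (f (a * j n))⁻¹ = f (a * b) * (f b)⁻¹ * (f a)⁻¹ := by
  have h1 : f (a * j n * b) = f (a * b) * j' m := by
    rw [_root_.mul_assoc, hnm, ← _root_.mul_assoc, hr]
  have h2 : f b * j' m = j' n * f b := by
    rw [← hr, ← hnm, hl]
  have h3 : j' m = (f b)⁻¹ * j' n * f b := by
    rw [_root_.mul_assoc, ← h2]; group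
  rw [h1, hr, h3]
  group

theorem defect_right {Γ Γ' N : Type*} [Group Γ] [Group Γ'] [Group N] (j : N →* Γ) (j' : N →* Γ')
    (f : Γ → Γ') (hr : ∀ n x, f (x * j n) = f x * j' n)
    (a b : Γ) (n : N) :
    f (a * (b * j n)) * (f (b * j n))⁻¹ * (f a)⁻¹ = f (a * b) * (f b)⁻¹ * (f a)⁻¹ := by
  rw [← _root_.mul_assoc, hr, hr]
  group

section main
variable {S : Scheme.{u}} {P G E E' : Over S} [GrpObj P] [GrpObj G] [GrpObj E] [GrpObj E']
  (u : G ⟶ E) [IsMonHom u] (v : E ⟶ P) [IsMonHom v]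
  (hsq : IsPullback ((E ◁ u) ≫ μ[E]) (fst E G) v v) (hcov : CovMor v.left)
  (u' : G ⟶ E') [IsMonHom u'] (v' : E' ⟶ P) [IsMonHom v']
  (hsq' : IsPullback ((E' ◁ u') ≫ μ[E']) (fst E' G) v' v')
  (hPP : ∀ c : P ⊗ P ⟶ G, lift (𝟙 P) (toUnit P ≫ η[P]) ≫ c = 1 →
    lift (toUnit P ≫ η[P]) (𝟙 P) ≫ c = 1 → c = 1)
  (f : E ⟶ E') (hv : f ≫ v' = v) (hu : u ≫ f = u') (h1 : η[E] ≫ f = η[E'])
  (hl : ∀ (T : Over S) (g : T ⟶ G) (x : T ⟶ E), ((g ≫ u) * x) ≫ f = (g ≫ u') * (x ≫ f))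
  (hr : ∀ (T : Over S) (g : T ⟶ G) (x : T ⟶ E), (x * (g ≫ u)) ≫ f = (x ≫ f) * (g ≫ u'))

/-- `n ↦ n ≫ u` as a monoid hom on points -/
def ptHom {A B : Over S} [GrpObj A] [GrpObj B] (w : A ⟶ B) [IsMonHom w] (T : Over S) :
    (T ⟶ A) →* (T ⟶ B) where
  toFun n := n ≫ w
  map_one' := MonObj.one_comp w
  map_mul' a b := MonObj.mul_comp a b w

include hsq hcov hsq' hPP hv h1 hl hr in
theorem mul_hom : (fst E E * snd E E) ≫ f = (fst E E ≫ f) * (snd E E ≫ f) := by
  have hmono' : Mono u' := CentralExt.mono_u u' v' hsq'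
  have hee : EffectiveEpi v.left := hcov.effectiveEpi
  have hepi : Epi v := Over.epi_of_epi_left _
  have hone : ∀ {T : Over S}, (1 : T ⟶ E) ≫ f = 1 := by
    intro T
    rw [Hom.one_def, Category.assoc, h1, ← Hom.one_def]
  have hDv : ∀ {T : Over S} (a b : T ⟶ E),
      (((a * b) ≫ f) * (b ≫ f)⁻¹ * (a ≫ f)⁻¹) ≫ v' = 1 := by
    intro T a b
    rw [MonObj.mul_comp, MonObj.mul_comp, GrpObj.inv_comp, GrpObj.inv_comp, Category.assoc,
      Category.assoc, Category.assoc, hv, MonObj.mul_comp]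
    group
  obtain ⟨d', hd'⟩ := (CentralExt.ker_iff u' v' hsq' _).mp (hDv (fst E E) (snd E E))
  have hdpt : ∀ {T : Over S} (a b : T ⟶ E),
      lift a b ≫ d' ≫ u' = ((a * b) ≫ f) * (b ≫ f)⁻¹ * (a ≫ f)⁻¹ := by
    intro T a b
    rw [← hd', MonObj.comp_mul, MonObj.comp_mul, GrpObj.comp_inv, GrpObj.comp_inv,
      ← Category.assoc, ← Category.assoc, ← Category.assoc, MonObj.comp_mul, lift_fst, lift_snd]
  -- normality
  have hnorm : ∀ {T : Over S} (b : T ⟶ E) (n : T ⟶ G), ∃ m : T ⟶ G, (n ≫ u) * b = b * (m ≫ u) := by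
    intro T b n
    have huv : u ≫ v = 1 := by
      rw [CentralExt.ker_iff u v hsq]
      exact ⟨𝟙 G, (Category.id_comp u).symm⟩
    have : (b⁻¹ * (n ≫ u) * b) ≫ v = 1 := by
      rw [MonObj.mul_comp, MonObj.mul_comp, GrpObj.inv_comp, Category.assoc, huv, MonObj.comp_one]
      group
    obtain ⟨m, hm⟩ := (CentralExt.ker_iff u v hsq _).mp this
    exact ⟨m, by rw [← hm]; group⟩
  have hcov2 : CovMor (v ⊗ₘ v).left := covMor_tensorHom v v hcov hcov
  have hee2 : EffectiveEpi (v ⊗ₘ v).left := hcov2.effectiveEpi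
  have hepi2 : Epi (v ⊗ₘ v) := Over.epi_of_epi_left _
  obtain ⟨c, hc⟩ := FpqcDesc.exists_desc (v ⊗ₘ v) d' (by
    intro W x y hxy
    have hx : x = lift (x ≫ fst E E) (x ≫ snd E E) := by
      apply CartesianMonoidalCategory.hom_ext <;> simp
    have hy : y = lift (y ≫ fst E E) (y ≫ snd E E) := by
      apply CartesianMonoidalCategory.hom_ext <;> simp
    have ha : (x ≫ fst E E) ≫ v = (y ≫ fst E E) ≫ v := by
      have := congrArg (· ≫ fst P P) hxy
      simpa only [Category.assoc, tensorHom_fst] using this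
    have hb : (x ≫ snd E E) ≫ v = (y ≫ snd E E) ≫ v := by
      have := congrArg (· ≫ snd P P) hxy
      simpa only [Category.assoc, tensorHom_snd] using this
    obtain ⟨n, hn⟩ := (QuotGrp.coeq_iff u v hsq _ _).mp ha
    obtain ⟨m, hm⟩ := (QuotGrp.coeq_iff u v hsq _ _).mp hb
    obtain ⟨m', hm'⟩ := hnorm (y ≫ snd E E) n
    rw [← cancel_mono u', Category.assoc, Category.assoc, hx, hy, hdpt, hdpt, hn, hm]
    have e1 := defect_right (ptHom u W) (ptHom u' W) (fun a => a ≫ f)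
      (fun n x => hr W n x) (y ≫ fst E E * n ≫ u) (y ≫ snd E E) m
    have e2 := defect_left (ptHom u W) (ptHom u' W) (fun a => a ≫ f)
      (fun n x => hl W n x) (fun n x => hr W n x) (y ≫ fst E E) (y ≫ snd E E) n m' hm'
    exact e1.trans e2)
  have hc1 : c = 1 := by
    apply hPP
    · rw [← cancel_epi v, MonObj.comp_one]
      have : v ≫ lift (𝟙 P) (toUnit P ≫ η[P]) = lift (𝟙 E) (toUnit E ≫ η[E]) ≫ (v ⊗ₘ v) := by
        apply CartesianMonoidalCategory.hom_ext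
        · simp
        · simp [IsMonHom.one_hom]
      rw [← Category.assoc, this, Category.assoc, hc, ← cancel_mono u', Category.assoc, hdpt,
        ← Hom.one_def, _root_.mul_one, hone, MonObj.one_comp]
      group
    · rw [← cancel_epi v, MonObj.comp_one]
      have : v ≫ lift (toUnit P ≫ η[P]) (𝟙 P) = lift (toUnit E ≫ η[E]) (𝟙 E) ≫ (v ⊗ₘ v) := by
        apply CartesianMonoidalCategory.hom_ext
        · simp [IsMonHom.one_hom]
        · simp
      rw [← Category.assoc, this, Category.assoc, hc, ← cancel_mono u', Category.assoc, hdpt,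
        ← Hom.one_def, _root_.one_mul, hone, MonObj.one_comp]
      group
  have hd1 : d' = 1 := by rw [← hc, hc1, MonObj.comp_one]
  rw [hd1, MonObj.one_comp] at hd'
  have := hd'
  rw [mul_inv_eq_one, mul_inv_eq_iff_eq_mul] at this
  exact this

include hsq hcov hsq' hPP hv h1 hl hr in
theorem isMonHom_f : IsMonHom f := by
  have key := mul_hom u v hsq hcov u' v' hsq' hPP f hv h1 hl hr
  refine ⟨h1, ?_⟩
  rw [Hom.mul_def, Hom.mul_def] at key
  have e1 : lift (fst E E) (snd E E) = 𝟙 (E ⊗ E) := by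
    apply CartesianMonoidalCategory.hom_ext <;> simp
  have e2 : lift (fst E E ≫ f) (snd E E ≫ f) = f ⊗ₘ f := by
    apply CartesianMonoidalCategory.hom_ext <;> simp
  rw [e1, e2, Category.id_comp] at key
  exact key

end main

theorem main12113 (S : Scheme.{u})
    (P G E E' : Over S) [GrpObj P] [GrpObj G] [GrpObj E] [GrpObj E'] [IsCommMonObj G]
    (u : G ⟶ E) (v : E ⟶ P) (hex : NonAbH1.IsExactSeq Scheme.fppfPrecoverage u v)
    (u' : G ⟶ E') (v' : E' ⟶ P) (hex' : NonAbH1.IsExactSeq Scheme.fppfPrecoverage u' v')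
    (hPP : ∀ c : P ⊗ P ⟶ G, lift (𝟙 P) (toUnit P ≫ η[P]) ≫ c = 1 → lift (toUnit P ≫ η[P]) (𝟙 P) ≫ c = 1 → c = 1)
    (f : E ⟶ E') (hv : f ≫ v' = v) (hu : u ≫ f = u') (h1 : η[E] ≫ f = η[E'])
    (hl : ∀ (T : Over S) (g : T ⟶ G) (x : T ⟶ E), ((g ≫ u) * x) ≫ f = (g ≫ u') * (x ≫ f))
    (hr : ∀ (T : Over S) (g : T ⟶ G) (x : T ⟶ E), (x * (g ≫ u)) ≫ f = (x ≫ f) * (g ≫ u')) :
    IsMonHom f := by
  obtain ⟨hu1, hv1, -, hsq, hloc⟩ := hex
  obtain ⟨hu2, hv2, -, hsq', -⟩ := hex'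
  have hcov : CovMor v.left := covMor_of_isLocallyTrivialFor_fppf v.left hloc
  exact isMonHom_f u v hsq.flip hcov u' v' hsq'.flip hPP f hv h1 hl hr

end Groth.Agent.Lib.Helper4.Bitorsor
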