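import Mathlib.Tactic
import Groth.Prelude.Def_AlgGrp

set_option autoImplicit false
universe u
open CategoryTheory MonoidalCategory CartesianMonoidalCategory MonObj AlgebraicGeometry Limits

namespace Groth.Agent.Lib.Helper4.BundleAut

variable {S : Scheme.{u}}

theorem main {G X Y : Over S} [GrpObj G]
    (a : AlgGrp.Action G X) (π : X ⟶ Y)
    (hcart : IsPullback (snd G X) a.act π π)
    (φ : X ≅ X) (hφ : φ.hom ≫ π = π) (hφeq : (G ◁ φ.hom) ≫ a.act = a.act ≫ φ.hom) :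
    ∃! f : X ⟶ G, (∀ (T : Over S) (g : T ⟶ G) (x : T ⟶ X),
        lift g x ≫ a.act ≫ f = g * (x ≫ f) * g⁻¹) ∧ φ.hom = lift f (𝟙 X) ≫ a.act := by
  have hw : 𝟙 X ≫ π = φ.hom ≫ π := by rw [hφ, Category.id_comp]
  -- freeness
  have hfree : ∀ (T : Over S) (g1 g2 : T ⟶ G) (y : T ⟶ X),
      lift g1 y ≫ a.act = lift g2 y ≫ a.act → g1 = g2 := by
    intro T g1 g2 y h
    have : lift g1 y = lift g2 y := by
      apply hcart.hom_ext
      · simp
      · exact h
    have := congrArg (· ≫ fst G X) this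
    simpa using this
  -- action axioms on points
  have hmul : ∀ (T : Over S) (g h : T ⟶ G) (x : T ⟶ X),
      lift (g * h) x ≫ a.act = lift g (lift h x ≫ a.act) ≫ a.act := by
    intro T g h x
    have h1 : lift (g * h) x = lift (lift g h) x ≫ (μ[G] ▷ X) := by
      apply CartesianMonoidalCategory.hom_ext
      · simp [Hom.mul_def]
      · simp
    rw [h1, Category.assoc, a.mul_act]
    have h2 : lift (lift g h) x ≫ (α_ G G X).hom ≫ (G ◁ a.act) = lift g (lift h x ≫ a.act) := by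
      apply CartesianMonoidalCategory.hom_ext
      · simp
      · simp
    rw [← h2]; simp
  let ℓ : X ⟶ G ⊗ X := hcart.lift (𝟙 X) φ.hom hw
  have hℓ1 : ℓ ≫ snd G X = 𝟙 X := hcart.lift_fst _ _ _
  have hℓ2 : ℓ ≫ a.act = φ.hom := hcart.lift_snd _ _ _
  have hℓ : ℓ = lift (ℓ ≫ fst G X) (𝟙 X) := by
    apply CartesianMonoidalCategory.hom_ext
    · simp
    · simp [hℓ1]
  have hφpt : ∀ (T : Over S) (x : T ⟶ X), x ≫ φ.hom = lift (x ≫ ℓ ≫ fst G X) x ≫ a.act := by
    intro T x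
    rw [← hℓ2, ← Category.assoc x ℓ]
    congr 1
    apply CartesianMonoidalCategory.hom_ext
    · simp
    · simp [hℓ1]
  have hφeqpt : ∀ (T : Over S) (g : T ⟶ G) (x : T ⟶ X),
      lift g (x ≫ φ.hom) ≫ a.act = (lift g x ≫ a.act) ≫ φ.hom := by
    intro T g x
    rw [Category.assoc, ← hφeq, ← Category.assoc]
    congr 1
    apply CartesianMonoidalCategory.hom_ext
    · simp
    · simp
  refine ⟨ℓ ≫ fst G X, ⟨fun T g x => ?_, ?_⟩, ?_⟩
  · -- equivariance
    apply hfree T _ _ (lift g x ≫ a.act)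
    have e1 : lift (lift g x ≫ a.act ≫ ℓ ≫ fst G X) (lift g x ≫ a.act) ≫ a.act
        = lift g (x ≫ φ.hom) ≫ a.act := by
      rw [hφeqpt, hφpt T (lift g x ≫ a.act)]
      simp
    rw [e1, hφpt T x, ← hmul, ← hmul, inv_mul_cancel_right]
  · rw [← hℓ, hℓ2]
  · rintro f' ⟨-, hf'⟩
    have : lift f' (𝟙 X) = ℓ := by
      apply hcart.hom_ext
      · rw [hℓ1]; simp
      · rw [hℓ2, ← hf']
    rw [← this]; simp

end Groth.Agent.Lib.Helper4.BundleAut
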