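import Groth.Agent.Lib.Helper4.GPKer4
import Groth.Agent.Lib.Helper6.DCohSheafHom
set_option autoImplicit false
set_option backward.isDefEq.respectTransparency.types false
set_option linter.style.haveILetI false

universe u
open CategoryTheory CategoryTheory.Limits AlgebraicGeometry

namespace Groth.Agent.Lib.Helper4.GPExact

variable {X : Scheme.{u}}
open Groth.Agent.Lib.Helper1.ModFlat

/-- `- ⊗ N` is a left adjoint -/
theorem isLeftAdjoint_flip (N : X.Modules) : ((DCoh.tensorBi (X := X)).flip.obj N).IsLeftAdjoint :=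
  Groth.Agent.Lib.Helper1.TensorAdj.hasSheafHom X.sheaf N

/-- `- ⊗ N` is right exact -/
theorem preservesFiniteColimits_flip (N : X.Modules) :
    PreservesFiniteColimits ((DCoh.tensorBi (X := X)).flip.obj N) := by
  haveI := isLeftAdjoint_flip N
  infer_instance



theorem additive_flip (N : X.Modules) : ((DCoh.tensorBi (X := X)).flip.obj N).Additive := by
  haveI := preservesFiniteColimits_flip N
  have h : rightExactFunctor _ _ ((DCoh.tensorBi (X := X)).flip.obj N) := by
    rw [rightExactFunctor_iff]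
    infer_instance
  exact rightExactFunctor_le_additiveFunctor _ _ _ h

/-- right exactness of `- ⊗ O_D` in the form needed -/
theorem exact_resDMap (I : X.IdealSheafData) (S : ShortComplex X.Modules) (hS : S.ShortExact) :
    (ShortComplex.mk (ParSh.resDMap I S.f) (ParSh.resDMap I S.g)
      (by rw [← Groth.Agent.Lib.Helper4.GPKer.resDMap_comp, S.zero]
          unfold ParSh.resDMap
          rw [← KoszTw.tensorBi_map_app, CategoryTheory.Functor.map_zero]
          rfl)).Exact := by
  haveI := preservesFiniteColimits_flip (ClSub.quotMod I)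
  haveI := additive_flip (ClSub.quotMod I)
  have h := ((Functor.preservesFiniteColimits_iff_forall_exact_map_and_epi
    ((DCoh.tensorBi (X := X)).flip.obj (ClSub.quotMod I))).1 inferInstance S hS).1
  have e : (S.map ((DCoh.tensorBi (X := X)).flip.obj (ClSub.quotMod I))) =
      ShortComplex.mk (ParSh.resDMap I S.f) (ParSh.resDMap I S.g) (by
        rw [← Groth.Agent.Lib.Helper4.GPKer.resDMap_comp, S.zero]
        unfold ParSh.resDMap
        rw [← KoszTw.tensorBi_map_app, CategoryTheory.Functor.map_zero]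
        rfl) := by
    unfold ParSh.resDMap
    simp only [← KoszTw.tensorBi_map_app]
    rfl
  rw [← e]
  exact h



open Groth.Agent.Lib.Helper8.CurveTensor Groth.Agent.Lib.Helper4.GPRank Groth.Agent.Lib.Helper8.EulerK
open Groth.Agent.Lib.Helper4.HilbPoly Groth.Agent.Lib.Helper4.CurveVB Groth.Agent.Lib.Helper4.GPKer

variable (k : Type u) [Field k] (X : Scheme.{u}) [X.Over (Spec (CommRingCat.of k))]

/-- `H⁰(S.g)` is surjective when `H¹(S.X₁) = 0` -/
theorem HHlin_surjective_of_subsingleton (S : ShortComplex X.Modules) (hS : S.ShortExact)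
    (h1 : Subsingleton (Coh.HH X S.X₁ 1)) : Function.Surjective (Canon.HHlin k S.g 0) := by
  intro y
  have hy : y ∈ LinearMap.ker (Groth.Agent.Lib.Helper2.HLesLin.δLin S hS k 0) := by
    rw [LinearMap.mem_ker]
    exact Subsingleton.elim _ _
  rw [← Groth.Agent.Lib.Helper2.HLesLin.range_eq_ker₃] at hy
  exact hy

/-- left exactness of `H⁰`: the kernel of `H⁰(g)` is the image of `H⁰(ker g)` -/
theorem ker_HHlin_le_range {P Q : X.Modules} (g : P ⟶ Q) :
    LinearMap.ker (Canon.HHlin k g 0) ≤ LinearMap.range (Canon.HHlin k (kernel.ι g) 0) := by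
  have hS := Groth.Agent.Lib.Helper8.CurveVan.shortExact_kernel_image g
  have hS' : (ShortComplex.mk (Abelian.image.ι g) (cokernel.π (Abelian.image.ι g))
      (cokernel.condition _)).ShortExact :=
    { exact := ShortComplex.exact_cokernel _
      mono_f := by dsimp; infer_instance
      epi_g := by dsimp; infer_instance }
  have hinj := Groth.Agent.Lib.Helper4.HLesFin1.injective_zero _ hS' k
  have hex := Groth.Agent.Lib.Helper2.HLesLin.range_eq_ker₂ _ hS k 0
  dsimp only at hinj hex
  intro x hx
  rw [hex, LinearMap.mem_ker]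
  apply hinj
  rw [map_zero, Groth.Agent.Lib.Helper2.SerreFin1.HHlin_comp_apply, Abelian.image.fac]
  exact hx

variable [IsIntegral X] [IsProper (X ↘ Spec (CommRingCat.of k))]

/-- `H⁰` of an exact sequence `A ⟶ B ⟶ C` of coherent modules, `A` torsion, on a curve, is exact -/
theorem ker_HHlin_le_range_of_exact (hdim : topologicalKrullDim X ≤ 1) (T : ShortComplex X.Modules)
    (hT : T.Exact) (hA : Coh.IsCoh T.X₁) (hB : Coh.IsCoh T.X₂) (hC : Coh.IsCoh T.X₃)
    (hgen : genericPoint X ∉ CohB1.support T.X₁) :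
    LinearMap.ker (Canon.HHlin k T.g 0) ≤ LinearMap.range (Canon.HHlin k T.f 0) := by
  haveI : IsLocallyNoetherian X := isLocallyNoetherian k X
  intro y hy
  obtain ⟨z, rfl⟩ := ker_HHlin_le_range k X T.g hy
  -- the epimorphism `A ⟶ ker g`
  set a' := kernel.lift T.g T.f T.zero with ha'
  haveI : Epi a' := (ShortComplex.exact_iff_epi_kernel_lift T).1 hT
  have hS : (ShortComplex.mk (kernel.ι a') a' (kernel.condition a')).ShortExact :=
    { exact := ShortComplex.exact_kernel _
      mono_f := by dsimp; infer_instance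
      epi_g := by dsimp; infer_instance }
  have hZc : Coh.IsCoh (kernel T.g) := Groth.Agent.Lib.Helper6.DevCore.isCoh_kernel _ hB hC
  have hKc : Coh.IsCoh (kernel a') := Groth.Agent.Lib.Helper6.DevCore.isCoh_kernel _ hA hZc
  have hKgen : genericPoint X ∉ CohB1.support (kernel a') := fun h =>
    hgen (Groth.Agent.Lib.Helper6.DevCore.support_subset_of_mono (kernel.ι a') h)
  have h0 : ∀ x ∈ CohB1.support (kernel a'), IsClosed ({x} : Set X) := by
    intro x hx
    apply Groth.Agent.Lib.Helper8.CurveDeg.isClosed_singleton_of_ne_genericPoint hdim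
    rintro rfl
    exact hKgen hx
  have hH1 := Groth.Agent.Lib.Helper8.CurveDeg.subsingleton_HH_succ _ hKc h0 0
  obtain ⟨w, rfl⟩ := HHlin_surjective_of_subsingleton k X _ hS hH1 z
  refine ⟨w, ?_⟩
  dsimp only
  rw [Groth.Agent.Lib.Helper2.SerreFin1.HHlin_comp_apply, ha', kernel.lift_ι]



/-- linear algebra: `dim S ≤ dim ψ⁻¹(S) + dim φ(S)` when `ker φ ⊆ range ψ` -/
theorem finrank_le_comap_add_map {K : Type*} [Field K] {U V W : Type*} [AddCommGroup U] [Module K U]
    [AddCommGroup V] [Module K V] [AddCommGroup W] [Module K W] [Module.Finite K V] [Module.Finite K U]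
    (ψ : U →ₗ[K] V) (φ : V →ₗ[K] W) (h : LinearMap.ker φ ≤ LinearMap.range ψ) (S : Submodule K V) :
    Module.finrank K S ≤ Module.finrank K (S.comap ψ) + Module.finrank K (S.map φ) := by
  have h1 := LinearMap.finrank_range_add_finrank_ker (φ.domRestrict S)
  rw [LinearMap.range_domRestrict] at h1
  have h2 : Module.finrank K (LinearMap.ker (φ.domRestrict S)) ≤ Module.finrank K ((S.comap ψ).map ψ) := by
    let θ : LinearMap.ker (φ.domRestrict S) →ₗ[K] ((S.comap ψ).map ψ) :=
      LinearMap.codRestrict _ (S.subtype ∘ₗ (LinearMap.ker (φ.domRestrict S)).subtype) (by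
        rintro ⟨⟨x, hxS⟩, hx⟩
        have hx' : φ x = 0 := hx
        obtain ⟨u, rfl⟩ := h hx'
        exact ⟨u, hxS, rfl⟩)
    refine LinearMap.finrank_le_finrank_of_injective (f := θ) ?_
    intro a b hab
    apply Subtype.ext
    apply Subtype.ext
    exact congrArg (fun z : ((S.comap ψ).map ψ) => (z : V)) hab
  have h3 : Module.finrank K ((S.comap ψ).map ψ) ≤ Module.finrank K (S.comap ψ) :=
    Submodule.finrank_map_le _ _
  omega

/-- **the induced and coinduced structures of a short exact sequence of bundles bound the structure** -/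
theorem finrank_le_induced_add_coinduced (hdim : topologicalKrullDim X ≤ 1) (I : X.IdealSheafData)
    (hI : genericPoint X ∉ CohB1.support (ClSub.quotMod I)) (S : ShortComplex X.Modules) (hS : S.ShortExact)
    (h₁ : Coh.IsCoh S.X₁) (h₂ : Coh.IsCoh S.X₂) (h₃ : Coh.IsCoh S.X₃)
    (F₁ : Submodule k (ParSh.fibD X I S.X₂)) :
    Module.finrank k F₁ ≤ Module.finrank k (ParSh.gpInduced k X I S.f F₁) +
      Module.finrank k (ParSh.gpCoinduced k X I S.g F₁) := by
  haveI : IsLocallyNoetherian X := isLocallyNoetherian k X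
  have hOD : Coh.IsCoh (ClSub.quotMod I) := Groth.Agent.Lib.Helper6.DevRed.isCoh_quotMod I
  have c₁ := Groth.Agent.Lib.Helper6.K0Op.isCoh_tensorMod S.X₁ _ h₁ hOD
  have c₂ := Groth.Agent.Lib.Helper6.K0Op.isCoh_tensorMod S.X₂ _ h₂ hOD
  have c₃ := Groth.Agent.Lib.Helper6.K0Op.isCoh_tensorMod S.X₃ _ h₃ hOD
  have hgen : genericPoint X ∉ CohB1.support (ParSh.resD I S.X₁) := fun h =>
    hI (Groth.Agent.Lib.Helper6.K0Op.support_tensorMod_subset S.X₁ _ h₁ hOD h)
  haveI : Module.Finite k (ParSh.fibD X I S.X₁) := finite_HH k X _ c₁ 0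
  haveI : Module.Finite k (ParSh.fibD X I S.X₂) := finite_HH k X _ c₂ 0
  have hle := ker_HHlin_le_range_of_exact k X hdim _ (exact_resDMap I S hS) c₁ c₂ c₃ hgen
  exact finrank_le_comap_add_map (ParSh.fibDMap k X I S.f) (ParSh.fibDMap k X I S.g) hle F₁

end Groth.Agent.Lib.Helper4.GPExact
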