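import Groth.Agent.Lib.Helper4.CM1
import Groth.Agent.Lib.Helper8.GGKill
import Groth.Agent.Lib.Helper4.GPExact
set_option autoImplicit false
set_option backward.isDefEq.respectTransparency.types false
set_option linter.unusedSectionVars false
set_option linter.style.haveILetI false

universe u
open CategoryTheory CategoryTheory.Limits AlgebraicGeometry Opposite TopologicalSpace

noncomputable section
namespace Groth.Agent.Lib.Helper4.CM2
open Groth.Agent.Lib.Helper28.TensorGen Groth.Agent.Lib.Helper28.QCohLoc Groth.Agent.Lib.Helper28.GenLocus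
  Groth.Agent.Lib.Helper4.GPEnd Groth.Agent.Lib.Helper4.CM1 Groth.Agent.Lib.Helper8.GGCoh
  Groth.Agent.Lib.Helper8.GGKill Groth.Agent.Lib.Helper2.HLes Groth.Agent.Lib.Helper4.GPExact
  Groth.Agent.Lib.Helper8.KillA Groth.Agent.Lib.Helper2.HLesLin

variable {X : Scheme.{u}}

/-- finite direct sums of modules without `H^p` have no `H^p` -/
theorem subsingleton_HH_biproduct' {J : Type} [Fintype J] (f : J → X.Modules) (p : ℕ)
    (h : ∀ j, Subsingleton (Coh.HH X (f j) p)) : Subsingleton (Coh.HH X (⨁ f) p) := by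
  classical
  refine ⟨fun a b => ?_⟩
  have key : ∀ x : Coh.HH X (⨁ f) p, x = 0 := fun x => by
    have h1 := HHmap_id (⨁ f) p x
    rw [← biproduct.total, HHmap_sum] at h1
    rw [← h1]
    apply Finset.sum_eq_zero
    intro j _
    rw [HHmap_comp, Subsingleton.elim (HHmap (biproduct.π f j) p x) 0, map_zero]
  rw [key a, key b]

/-- the functor `- ⊗ A` -/
abbrev F (A : X.Modules) : X.Modules ⥤ X.Modules := (DCoh.tensorBi (X := X)).flip.obj A

theorem F_map (A : X.Modules) {N N' : X.Modules} (f : N ⟶ N') :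
    (F A).map f = KoszTw.tensorMap f (𝟙 A) := KoszTw.tensorBi_map_app f A

variable {A : X.Modules} {r : ℕ} (s : Fin r → (Coh.structureModule X ⟶ A))

/-- right multiplication, with codomain written through the functor `- ⊗ A` -/
def mR (σ : Coh.structureModule X ⟶ A) (N : X.Modules) : N ⟶ (F A).obj N := mulR σ N

theorem mR_nat (σ : Coh.structureModule X ⟶ A) {N N' : X.Modules} (f : N ⟶ N') :
    f ≫ mR σ N' = mR σ N ≫ (F A).map f := by
  rw [F_map]
  exact mulR_naturality σ f

theorem F_map_mR (hA : PicF.IsInvertible A) (σ : Coh.structureModule X ⟶ A) (N : X.Modules) :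
    (F A).map (mR σ N) = mR σ ((F A).obj N) :=
  (F_map A _).trans (tensorMap_mulR hA σ N)

/-- `⨁_{i < r} N` -/
abbrev P (r : ℕ) (N : X.Modules) : X.Modules := ⨁ fun _ : Fin r => N

/-- the evaluation map `⨁ N ⟶ N ⊗ A`, `(n_i) ↦ Σ n_i ⊗ s_i` -/
def ε (N : X.Modules) : P r N ⟶ (F A).obj N := biproduct.desc (fun i => mR (s i) N)

theorem ι_ε (N : X.Modules) (i : Fin r) : biproduct.ι (fun _ : Fin r => N) i ≫ ε s N = mR (s i) N :=
  biproduct.ι_desc _ _

theorem epi_ε (hs : ∀ x : X, ∃ i, x ∈ CohB1.genLocus A (s i)) (N : X.Modules) : Epi (ε s N) :=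
  epi_desc_mulR s hs N

/-- the comparison `⨁ (N ⊗ A) ⟶ (⨁ N) ⊗ A` -/
def θ (r : ℕ) (A N : X.Modules) : P r ((F A).obj N) ⟶ (F A).obj (P r N) :=
  biproduct.desc (fun i => (F A).map (biproduct.ι (fun _ : Fin r => N) i))

theorem ι_θ (r : ℕ) (A N : X.Modules) (i : Fin r) :
    biproduct.ι (fun _ : Fin r => (F A).obj N) i ≫ θ r A N = (F A).map (biproduct.ι (fun _ : Fin r => N) i) :=
  biproduct.ι_desc _ _

instance isIso_θ (r : ℕ) (A N : X.Modules) : IsIso (θ r A N) := by
  haveI := additive_flip (X := X) A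
  have h : θ r A N = ((F A).mapBiproduct (fun _ : Fin r => N)).inv := by
    rw [Functor.mapBiproduct_inv]
    rfl
  rw [h]
  infer_instance

theorem θ_comp (hA : PicF.IsInvertible A) (N : X.Modules) :
    θ r A N ≫ (F A).map (ε s N) = ε s ((F A).obj N) := by
  apply biproduct.hom_ext'
  intro i
  rw [← Category.assoc, ι_θ, ← Functor.map_comp, ι_ε, ι_ε, F_map_mR hA]


section key

variable (G : X.Modules)

/-- the Koszul relations `g ↦ (g ⊗ s_j) e_i - (g ⊗ s_i) e_j` -/
def ρ : (⨁ fun _ : Fin r × Fin r => G) ⟶ P r ((F A).obj G) :=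
  biproduct.desc (fun p => mR (s p.2) G ≫ biproduct.ι (fun _ : Fin r => (F A).obj G) p.1 -
    mR (s p.1) G ≫ biproduct.ι (fun _ : Fin r => (F A).obj G) p.2)

theorem ι_ρ (p : Fin r × Fin r) : biproduct.ι (fun _ : Fin r × Fin r => G) p ≫ ρ s G =
    mR (s p.2) G ≫ biproduct.ι (fun _ : Fin r => (F A).obj G) p.1 -
      mR (s p.1) G ≫ biproduct.ι (fun _ : Fin r => (F A).obj G) p.2 :=
  biproduct.ι_desc _ _

theorem ρ_comp (hA : PicF.IsInvertible A) : ρ s G ≫ ε s ((F A).obj G) = 0 := by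
  apply biproduct.hom_ext'
  rintro ⟨i, j⟩
  rw [comp_zero, ← Category.assoc, ι_ρ, Preadditive.sub_comp, Category.assoc, Category.assoc, ι_ε, ι_ε]
  show mR (s j) G ≫ mR (s i) ((F A).obj G) - mR (s i) G ≫ mR (s j) ((F A).obj G) = 0
  rw [← F_map_mR hA (s i) G, ← mR_nat (s j) (mR (s i) G), sub_self]

theorem aux (j : Fin r) :
    biproduct.desc (fun i : Fin r => biproduct.ι (fun _ : Fin r × Fin r => G) (i, j)) ≫ ρ s G ≫ θ r A G =
      mR (s j) (P r G) - ε s G ≫ (F A).map (biproduct.ι (fun _ : Fin r => G) j) := by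
  apply biproduct.hom_ext'
  intro i
  rw [biproduct.ι_desc_assoc, ← Category.assoc, ι_ρ, Preadditive.sub_comp, Category.assoc, Category.assoc,
    ι_θ, ι_θ, Preadditive.comp_sub, ← Category.assoc, ι_ε, mR_nat]


include s in
/-- the Koszul relations surject onto the kernel of `(⨁ G) ⊗ A ⟶ (G ⊗ A) ⊗ A` -/
theorem exists_epi_kernel (hA : PicF.IsInvertible A) (hs : ∀ x : X, ∃ i, x ∈ CohB1.genLocus A (s i)) :
    ∃ ρ'' : (⨁ fun _ : Fin r × Fin r => G) ⟶ kernel ((F A).map (ε s G)), Epi ρ'' := by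
  haveI := preservesFiniteColimits_flip (X := X) A
  haveI := additive_flip (X := X) A
  haveI := epi_ε s hs G
  let S : ShortComplex X.Modules := ShortComplex.mk (kernel.ι (ε s G)) (ε s G) (kernel.condition _)
  have hS : S.ShortExact :=
    { exact := ShortComplex.exact_of_f_is_kernel _ (kernelIsKernel _)
      mono_f := by dsimp [S]; infer_instance
      epi_g := by dsimp [S]; infer_instance }
  have hex := ((Functor.preservesFiniteColimits_iff_forall_exact_map_and_epi (F A)).1 inferInstance S hS).1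
  have hz : (F A).map (kernel.ι (ε s G)) ≫ (F A).map (ε s G) = 0 := by
    rw [← Functor.map_comp, kernel.condition, Functor.map_zero]
  haveI hl : Epi (kernel.lift ((F A).map (ε s G)) ((F A).map (kernel.ι (ε s G))) hz) :=
    (ShortComplex.exact_iff_epi_kernel_lift (S.map (F A))).1 hex
  have hρ' : (ρ s G ≫ θ r A G) ≫ (F A).map (ε s G) = 0 := by
    rw [Category.assoc, θ_comp s hA, ρ_comp s G hA]
  refine ⟨kernel.lift _ (ρ s G ≫ θ r A G) hρ', ?_⟩
  let τ : P r (kernel (ε s G)) ⟶ ⨁ fun _ : Fin r × Fin r => G :=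
    biproduct.desc (fun j : Fin r => kernel.ι (ε s G) ≫
      biproduct.desc (fun i : Fin r => biproduct.ι (fun _ : Fin r × Fin r => G) (i, j)))
  haveI := epi_ε s hs (kernel (ε s G))
  have hc : ε s (kernel (ε s G)) ≫ kernel.lift ((F A).map (ε s G)) ((F A).map (kernel.ι (ε s G))) hz =
      τ ≫ kernel.lift _ (ρ s G ≫ θ r A G) hρ' := by
    rw [← cancel_mono (kernel.ι ((F A).map (ε s G)))]
    simp only [Category.assoc, kernel.lift_ι]
    apply biproduct.hom_ext'
    intro j
    rw [← Category.assoc, ι_ε, ← mR_nat, biproduct.ι_desc_assoc, Category.assoc, aux, Preadditive.comp_sub,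
      ← Category.assoc (kernel.ι (ε s G)), kernel.condition, zero_comp, sub_zero]
  haveI : Epi (τ ≫ kernel.lift _ (ρ s G ≫ θ r A G) hρ') := by
    rw [← hc]
    exact epi_comp _ _
  exact epi_of_epi τ _

end key


section main

variable [IsNoetherian X] (hdim : topologicalKrullDim X ≤ 1) (hA : PicF.IsInvertible A)
  (hs : ∀ x : X, ∃ i, x ∈ CohB1.genLocus A (s i)) (G : X.Modules) (hG : Subsingleton (Coh.HH X G 1))

set_option maxHeartbeats 1600000 in
include hdim hA hs hG in
/-- **Castelnuovo–Mumford on a curve, categorical form**: every section of `(G ⊗ A) ⊗ A` is a sum of products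
of sections of `G ⊗ A` with the generating sections of `A`, when `H¹(G) = 0` -/
theorem exists_sum (z : Coh.structureModule X ⟶ (F A).obj ((F A).obj G)) :
    ∃ t : Fin r → (Coh.structureModule X ⟶ (F A).obj G), z = ∑ i, t i ≫ mR (s i) ((F A).obj G) := by
  haveI := preservesFiniteColimits_flip (X := X) A
  haveI := additive_flip (X := X) A
  haveI := epi_ε s hs G
  obtain ⟨ρ'', hρ''⟩ := exists_epi_kernel s G hA hs
  have h1 : Subsingleton (Coh.HH X (kernel ((F A).map (ε s G))) 1) :=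
    subsingleton_HH_of_epi ρ'' hρ'' 1 (subsingleton_HH_biproduct' _ 1 (fun _ => hG))
      (subsingleton_HH_add_two hdim _ 0)
  have hepi : Epi ((F A).map (ε s G)) := epi_tensor (ε s G) (epi_ε s hs G) A
  let S' : ShortComplex X.Modules :=
    ShortComplex.mk (kernel.ι ((F A).map (ε s G))) ((F A).map (ε s G)) (kernel.condition _)
  have hS' : S'.ShortExact :=
    { exact := ShortComplex.exact_of_f_is_kernel _ (kernelIsKernel _)
      mono_f := by dsimp [S']; infer_instance
      epi_g := hepi }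
  obtain ⟨t', ht'⟩ := exists_lift_section S' hS' h1 z
  have ht'' : t' ≫ (F A).map (ε s G) = z := ht'
  obtain ⟨t, ht⟩ : ∃ t : Coh.structureModule X ⟶ P r ((F A).obj G), t ≫ ε s ((F A).obj G) = z := by
    refine ⟨t' ≫ inv (θ r A G), ?_⟩
    rw [← θ_comp s hA G, ← ht'']
    simp
  refine ⟨fun i => t ≫ biproduct.π _ i, ?_⟩
  rw [← ht]
  conv_lhs => rw [← Category.comp_id t, ← biproduct.total, Preadditive.comp_sum, Preadditive.sum_comp]
  refine Finset.sum_congr rfl (fun i _ => ?_)
  show (t ≫ biproduct.π (fun _ : Fin r => (F A).obj G) i ≫ biproduct.ι (fun _ : Fin r => (F A).obj G) i) ≫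
    ε s ((F A).obj G) = (t ≫ biproduct.π (fun _ : Fin r => (F A).obj G) i) ≫ mR (s i) ((F A).obj G)
  rw [Category.assoc, Category.assoc, ι_ε, Category.assoc]



theorem sum_app {M N : X.Modules} {ι : Type*} (t : Finset ι) (φ : ι → (M ⟶ N)) (U : X.Opens) (x : Γ(M, U)) :
    (∑ i ∈ t, φ i).app U x = ∑ i ∈ t, (φ i).app U x := by
  classical
  induction t using Finset.induction_on with
  | empty => simp
  | insert a t ha ih =>
    rw [Finset.sum_insert ha, Finset.sum_insert ha, Scheme.Modules.Hom.add_app]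
    show (φ a).app U x + (∑ i ∈ t, φ i).app U x = _
    rw [ih]

include hdim hA hs hG in
/-- **Castelnuovo–Mumford on a curve**: `Γ(G ⊗ A) ⊗ Γ(A) ⟶ Γ((G ⊗ A) ⊗ A)` is surjective when `H¹(G) = 0` and `A`
is a globally generated invertible module -/
theorem span_tmul_eq_top :
    Submodule.span (X.ringCatSheaf.obj.obj (Opposite.op ⊤))
      (Set.range (fun p : (CohB1.tensorMod G A).val.obj (Opposite.op ⊤) × A.val.obj (Opposite.op ⊤) =>
        SecTwist.tmul (CohB1.tensorMod G A) A ⊤ p.1 p.2)) = ⊤ := by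
  rw [eq_top_iff]
  intro z₀ _
  obtain ⟨t, ht⟩ := exists_sum s hdim hA hs G hG
    (Groth.Agent.Lib.Helper28.TwistGen.ofSection (CohB1.tensorMod (CohB1.tensorMod G A) A) z₀)
  have h1 : z₀ = ∑ i, (t i ≫ mR (s i) ((F A).obj G)).app ⊤ (one ⊤) := by
    have h2 := secOf_ofSection (M := CohB1.tensorMod (CohB1.tensorMod G A) A) z₀
    rw [← h2]
    show (Groth.Agent.Lib.Helper28.TwistGen.ofSection (CohB1.tensorMod (CohB1.tensorMod G A) A) z₀).app ⊤ (one ⊤) = _
    rw [ht]
    exact sum_app _ _ _ _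
  rw [h1]
  refine Submodule.sum_mem _ (fun i _ => ?_)
  have h3 : (t i ≫ mR (s i) ((F A).obj G)).app ⊤ (one ⊤) =
      SecTwist.tmul (CohB1.tensorMod G A) A ⊤ ((t i).app ⊤ (one ⊤)) ((s i).app ⊤ (one ⊤)) :=
    mulR_app (s i) (CohB1.tensorMod G A) ⊤ ((t i).app ⊤ (one ⊤))
  rw [h3]
  exact Submodule.subset_span ⟨(_, _), rfl⟩

end main

end Groth.Agent.Lib.Helper4.CM2
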