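import Mathlib.Tactic
import Mathlib.AlgebraicGeometry.Group.Smooth
import Mathlib.AlgebraicGeometry.Morphisms.SmoothFiber
import Groth.Agent.S0353

open CategoryTheory AlgebraicGeometry Limits

namespace Groth.Agent.Lib.Helper4.CartierFib

universe u

open MonoidalCategory

theorem smooth_of_flat_charZero {S G : Scheme.{u}} (hS : ∀ s : S, CharZero (S.residueField s))
    (f : G ⟶ S) [GrpObj (Over.mk f)] [Flat f] [LocallyOfFinitePresentation f] :
    Smooth f := by
  apply Smooth.of_smooth_fiberToSpecResidueField
  intro y
  let g : Spec (S.residueField y) ⟶ S := S.fromSpecResidueField y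
  let : GrpObj (Over.mk (Limits.pullback.snd f g)) := Over.grpObjMkPullbackSnd
  have h2 : LocallyOfFiniteType (Limits.pullback.snd f g) := inferInstance
  have := hS y
  have h3 : LocallyOfFiniteType (Over.mk (Limits.pullback.snd f g)).hom := h2
  exact Groth.Agent.S0353.result (S.residueField y) (Over.mk (Limits.pullback.snd f g))

end Groth.Agent.Lib.Helper4.CartierFib
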