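import Mathlib.Algebra.Polynomial.Taylor
import Mathlib.Data.Nat.Choose.Lucas
import Mathlib.Algebra.CharP.Lemmas
import Mathlib.LinearAlgebra.Matrix.Block

set_option autoImplicit false
universe u
open Polynomial

namespace Groth.Agent.Lib.Helper4.CartierManin

theorem coeff_comp_X_add_C {k : Type u} [Field k] (F : Polynomial k) (α : k) (m n : ℕ)
    (hn : F.natDegree < n) :
    (F.comp (X + C α)).coeff m = ∑ l ∈ Finset.range n, ((l.choose m : ℕ) : k) * F.coeff l * α ^ (l - m) := by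
  rw [← taylor_apply, taylor_coeff, hasseDeriv_apply, Polynomial.sum_over_range' _ _ n hn]
  · rw [eval_finsetSum]
    refine Finset.sum_congr rfl fun l _ => ?_
    rw [eval_monomial]
  · intro l; simp

theorem lucas_cast {k : Type u} [Field k] (p : ℕ) [Fact p.Prime] [CharP k p] (a b : ℕ) :
    ((a.choose b : ℕ) : k) = ((a % p).choose (b % p) : ℕ) * ((a / p).choose (b / p) : ℕ) := by
  have := Choose.choose_modEq_choose_mod_mul_choose_div_nat (p := p) (n := a) (k := b)
  have h2 := (CharP.natCast_eq_natCast k p).mpr this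
  rw [h2]; push_cast; ring

/-- index decomposition: `(I+1)p - (J+1) = I p + (p - (J+1))` -/
theorem idx (p I J : ℕ) (hJ : J + 1 ≤ p) : (I + 1) * p - (J + 1) = I * p + (p - (J + 1)) := by
  have : (I + 1) * p = I * p + p := by ring
  omega

theorem idx_div (p I J : ℕ) (hp : 0 < p) (hJ : J + 1 ≤ p) : ((I + 1) * p - (J + 1)) / p = I := by
  rw [idx p I J hJ, Nat.add_comm, Nat.add_mul_div_right _ _ hp, Nat.div_eq_of_lt (by omega)]; simp

theorem idx_mod (p I J : ℕ) (hp : 0 < p) (hJ : J + 1 ≤ p) : ((I + 1) * p - (J + 1)) % p = p - (J + 1) := by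
  rw [idx p I J hJ, Nat.add_comm, Nat.add_mul_mod_self_right, Nat.mod_eq_of_lt (by omega)]

theorem key (k : Type u) [Field k] (p : ℕ) [Fact p.Prime] (hp : p ≠ 2) [CharP k p]
    (g : ℕ) (hg : g ≤ p) (f : Polynomial k) (hf : f.natDegree ≤ 2 * g + 2) (α : k) (i j : Fin g) :
    ((f.comp (X + C α)) ^ ((p - 1) / 2)).coeff (((i : ℕ) + 1) * p - ((j : ℕ) + 1)) =
    ∑ x : Fin g × Fin g, (((x.1 : ℕ).choose (i : ℕ) : ℕ) : k) * α ^ (((x.1 : ℕ) - (i : ℕ)) * p) *
      (f ^ ((p - 1) / 2)).coeff (((x.1 : ℕ) + 1) * p - ((x.2 : ℕ) + 1)) *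
      ((((p - ((x.2 : ℕ) + 1)).choose (p - ((j : ℕ) + 1)) : ℕ) : k) * α ^ ((j : ℕ) - (x.2 : ℕ))) := by
  have hpp : p.Prime := Fact.out
  have hp0 : 0 < p := hpp.pos
  have hodd : Odd p := hpp.eq_two_or_odd'.resolve_left hp
  obtain ⟨q, hq⟩ := hodd
  set F := f ^ ((p - 1) / 2) with hF
  have hdeg : F.natDegree < (g + 1) * p := by
    have h1 : F.natDegree ≤ ((p - 1) / 2) * f.natDegree := natDegree_pow_le
    have h2 : (p - 1) / 2 = q := by omega
    rw [h2] at h1
    have h3 : q * f.natDegree ≤ q * (2 * g + 2) := Nat.mul_le_mul_left _ hf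
    have h4 : q * (2 * g + 2) = (g + 1) * (p - 1) := by
      have : p - 1 = 2 * q := by omega
      rw [this]; ring
    have h5 : (g + 1) * (p - 1) < (g + 1) * p := by
      apply Nat.mul_lt_mul_of_pos_left <;> omega
    omega
  have hdeg' : F.natDegree ≤ g * p + p - g - 1 := by
    have h1 : F.natDegree ≤ ((p - 1) / 2) * f.natDegree := natDegree_pow_le
    have h2 : (p - 1) / 2 = q := by omega
    rw [h2] at h1
    have h3 : q * f.natDegree ≤ q * (2 * g + 2) := Nat.mul_le_mul_left _ hf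
    have h4 : q * (2 * g + 2) = (g + 1) * (p - 1) := by
      have : p - 1 = 2 * q := by omega
      rw [this]; ring
    have h5 : (g + 1) * (p - 1) = g * p + p - g - 1 := by
      obtain ⟨p', rfl⟩ : ∃ p', p = p' + 1 := ⟨p - 1, by omega⟩
      simp only [Nat.add_sub_cancel]
      have : g * (p' + 1) + (p' + 1) - g - 1 = g * p' + p' := by
        have : g * (p' + 1) = g * p' + g := by ring
        omega
      rw [this]; ring
    omega
  rw [← pow_comp, coeff_comp_X_add_C F α _ ((g + 1) * p) hdeg]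
  symm
  have hjp : (j : ℕ) + 1 ≤ p := by have := j.2; omega
  have hm_div : (((i : ℕ) + 1) * p - ((j : ℕ) + 1)) / p = i := idx_div p i j hp0 hjp
  have hm_mod : (((i : ℕ) + 1) * p - ((j : ℕ) + 1)) % p = p - ((j : ℕ) + 1) := idx_mod p i j hp0 hjp
  apply Finset.sum_of_injOn (fun x : Fin g × Fin g => ((x.1 : ℕ) + 1) * p - ((x.2 : ℕ) + 1))
  · -- injective
    rintro ⟨I, J⟩ - ⟨I', J'⟩ - h
    simp only at h
    have hJ : (J : ℕ) + 1 ≤ p := by have := J.2; omega
    have hJ' : (J' : ℕ) + 1 ≤ p := by have := J'.2; omega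
    have h1 := congrArg (· / p) h
    have h2 := congrArg (· % p) h
    simp only [idx_div p _ _ hp0 hJ, idx_div p _ _ hp0 hJ', idx_mod p _ _ hp0 hJ, idx_mod p _ _ hp0 hJ'] at h1 h2
    ext
    · exact h1
    · simp only; omega
  · -- maps to
    rintro ⟨I, J⟩ -
    simp only [Finset.coe_range, Set.mem_Iio]
    have hI := I.2
    have : ((I : ℕ) + 1) * p ≤ g * p := Nat.mul_le_mul_right _ (by omega)
    have : (g + 1) * p = g * p + p := by ring
    omega
  · -- zero outside
    intro l hl hnot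
    rw [lucas_cast p l, hm_div, hm_mod]
    by_cases hc : F.coeff l = 0
    · rw [hc]; ring
    have hlN : l ≤ F.natDegree := le_natDegree_of_ne_zero hc
    -- decompose l
    set I := l / p with hI
    set r := l % p with hr
    have hrp : r < p := Nat.mod_lt _ hp0
    have hl_eq : l = I * p + r := by rw [hI, hr, Nat.mul_comm]; exact (Nat.div_add_mod l p).symm
    by_cases hJg : p - 1 - r < g
    · -- then I ≥ g would contradict the degree
      by_cases hIg : I < g
      · exfalso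
        apply hnot
        refine ⟨(⟨I, hIg⟩, ⟨p - 1 - r, hJg⟩), by simp, ?_⟩
        simp only
        rw [idx p I _ (by omega), hl_eq]
        omega
      · exfalso
        have : g * p ≤ I * p := Nat.mul_le_mul_right _ (by omega)
        have hgp : g ≤ g * p := Nat.le_mul_of_pos_right _ hp0
        omega
    · -- binomial vanishes
      have : r.choose (p - ((j : ℕ) + 1)) = 0 := by
        apply Nat.choose_eq_zero_of_lt
        have := j.2
        omega
      rw [this]; simp
  · -- term equality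
    rintro ⟨I, J⟩ -
    simp only
    have hJ : (J : ℕ) + 1 ≤ p := by have := J.2; omega
    rw [lucas_cast p (((I : ℕ) + 1) * p - ((J : ℕ) + 1)), hm_div, hm_mod, idx_div p _ _ hp0 hJ, idx_mod p _ _ hp0 hJ]
    by_cases h1 : (I : ℕ) < i
    · rw [Nat.choose_eq_zero_of_lt h1]; simp
    by_cases h2 : (j : ℕ) < J
    · rw [Nat.choose_eq_zero_of_lt (show p - ((J : ℕ) + 1) < p - ((j : ℕ) + 1) by omega)]; simp
    have hexp : ((I : ℕ) + 1) * p - ((J : ℕ) + 1) - (((i : ℕ) + 1) * p - ((j : ℕ) + 1)) =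
        ((I : ℕ) - i) * p + ((j : ℕ) - J) := by
      rw [idx p I J hJ, idx p i j hjp]
      obtain ⟨d, hd⟩ : ∃ d, (I : ℕ) = i + d := ⟨I - i, by omega⟩
      rw [hd, Nat.add_sub_cancel_left, Nat.add_mul]
      omega
    rw [hexp, pow_add]
    ring

theorem matrix_eq (k : Type u) [Field k] (p : ℕ) [Fact p.Prime] (hp : p ≠ 2) [CharP k p]
    (g : ℕ) (hg : g ≤ p) (f : Polynomial k) (hf : f.natDegree ≤ 2 * g + 2) (α : k) :
    (Matrix.of fun i j : Fin g =>
        ((f.comp (Polynomial.X + Polynomial.C α)) ^ ((p - 1) / 2)).coeff (((i : ℕ) + 1) * p - ((j : ℕ) + 1))) =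
      (Matrix.of fun i I : Fin g => (((I : ℕ).choose (i : ℕ) : ℕ) : k) * α ^ (((I : ℕ) - (i : ℕ)) * p)) *
        (Matrix.of fun i j : Fin g => (f ^ ((p - 1) / 2)).coeff (((i : ℕ) + 1) * p - ((j : ℕ) + 1))) *
        (Matrix.of fun J j : Fin g => (((p - ((J : ℕ) + 1)).choose (p - ((j : ℕ) + 1)) : ℕ) : k) * α ^ ((j : ℕ) - (J : ℕ))) := by
  ext i j
  rw [Matrix.mul_apply]
  simp only [Matrix.mul_apply, Matrix.of_apply]
  rw [key k p hp g hg f hf α i j, Fintype.sum_prod_type, Finset.sum_comm]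
  refine Finset.sum_congr rfl fun J _ => ?_
  rw [Finset.sum_mul]

theorem det_L (k : Type u) [Field k] (p g : ℕ) (α : k) :
    (Matrix.of fun i I : Fin g => (((I : ℕ).choose (i : ℕ) : ℕ) : k) * α ^ (((I : ℕ) - (i : ℕ)) * p)).det = 1 := by
  rw [Matrix.det_of_upperTriangular]
  · simp
  · intro i I hI
    simp only [id] at hI
    simp only [Matrix.of_apply]
    rw [Nat.choose_eq_zero_of_lt (by exact_mod_cast hI)]; simp

theorem det_U (k : Type u) [Field k] (p g : ℕ) (hg : g ≤ p) (α : k) :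
    (Matrix.of fun J j : Fin g => (((p - ((J : ℕ) + 1)).choose (p - ((j : ℕ) + 1)) : ℕ) : k) * α ^ ((j : ℕ) - (J : ℕ))).det = 1 := by
  rw [Matrix.det_of_upperTriangular]
  · simp
  · intro J j hj
    simp only [id] at hj
    simp only [Matrix.of_apply]
    have h1 : (j : ℕ) < J := by exact_mod_cast hj
    have h2 := J.2
    rw [Nat.choose_eq_zero_of_lt (by omega)]; simp

theorem det_eq (k : Type u) [Field k] (p : ℕ) [Fact p.Prime] (hp : p ≠ 2) [CharP k p]
    (g : ℕ) (hg : g ≤ p) (f : Polynomial k) (hf : f.natDegree ≤ 2 * g + 2) (α : k) :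
    (Matrix.of fun i j : Fin g =>
        ((f.comp (Polynomial.X + Polynomial.C α)) ^ ((p - 1) / 2)).coeff (((i : ℕ) + 1) * p - ((j : ℕ) + 1))).det =
      (Matrix.of fun i j : Fin g => (f ^ ((p - 1) / 2)).coeff (((i : ℕ) + 1) * p - ((j : ℕ) + 1))).det := by
  rw [matrix_eq k p hp g hg f hf α, Matrix.det_mul, Matrix.det_mul, det_L, det_U k p g hg, one_mul, mul_one]

end Groth.Agent.Lib.Helper4.CartierManin
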