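import Mathlib.Tactic
import Mathlib.AlgebraicTopology.SimplicialObject.Coskeletal
import Mathlib.CategoryTheory.Functor.KanExtension.Preserves
import Mathlib.CategoryTheory.Limits.Constructions.Over.Connected
import Mathlib.CategoryTheory.Limits.Constructions.Over.Basic

namespace Groth.Agent.Lib.Helper4.CoskOver

open CategoryTheory CategoryTheory.Limits Opposite Simplicial

universe v u

/-- index category -/
abbrev Idx (k : ℕ) (m : SimplexCategoryᵒᵖ) :=
  StructuredArrow m (SimplexCategory.Truncated.inclusion k).op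

/-- a simplex as an object of the index category -/
def smp (k : ℕ) (m : SimplexCategoryᵒᵖ) (a : ℕ) (ha : a ≤ k) (σ : ⦋a⦌ ⟶ m.unop) : Idx k m :=
  StructuredArrow.mk (Y := op (⟨⦋a⦌, ha⟩ : SimplexCategory.Truncated k)) σ.op

/-- morphism between simplex objects -/
def smpHom (k : ℕ) (m : SimplexCategoryᵒᵖ) (a b : ℕ) (ha : a ≤ k) (hb : b ≤ k)
    (σ : ⦋a⦌ ⟶ m.unop) (τ : ⦋b⦌ ⟶ m.unop) (g : ⦋b⦌ ⟶ ⦋a⦌) (hg : g ≫ σ = τ) :
    smp k m a ha σ ⟶ smp k m b hb τ :=
  StructuredArrow.homMk (Quiver.Hom.op (ObjectProperty.homMk g)) (by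
    apply Quiver.Hom.unop_inj
    exact hg)

lemma eq_smp (k : ℕ) (m : SimplexCategoryᵒᵖ) (A : Idx k m) :
    A = smp k m A.right.unop.obj.len A.right.unop.property A.hom.unop := rfl

theorem isConnected (k : ℕ) (hk : 1 ≤ k) (m : SimplexCategoryᵒᵖ) : IsConnected (Idx k m) := by
  have h0 : (0 : ℕ) ≤ k := by omega
  apply IsConnected.of_induct (j₀ := smp k m 0 h0 (SimplexCategory.const ⦋0⦌ m.unop 0))
  intro p hp hmor
  -- all vertices are in p
  have hv : ∀ i : Fin (m.unop.len + 1), smp k m 0 h0 (SimplexCategory.const ⦋0⦌ m.unop i) ∈ p := by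
    intro i
    have e0 := hmor (smpHom k m 1 0 hk h0 (SimplexCategory.mkOfLe 0 i (Fin.zero_le i))
      (SimplexCategory.const ⦋0⦌ m.unop 0) (SimplexCategory.const ⦋0⦌ ⦋1⦌ 0) (by
        ext x; fin_cases x; rfl))
    have e1 := hmor (smpHom k m 1 0 hk h0 (SimplexCategory.mkOfLe 0 i (Fin.zero_le i))
      (SimplexCategory.const ⦋0⦌ m.unop i) (SimplexCategory.const ⦋0⦌ ⦋1⦌ 1) (by
        ext x; fin_cases x; rfl))
    exact e1.1 (e0.2 hp)
  intro A
  rw [eq_smp k m A]
  have e := hmor (smpHom k m A.right.unop.obj.len 0 A.right.unop.property h0 A.hom.unop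
    (SimplexCategory.const ⦋0⦌ m.unop (A.hom.unop.toOrderHom 0))
    (SimplexCategory.const ⦋0⦌ _ 0) (by
        ext x; fin_cases x; rfl))
  exact e.2 (hv _)

end Groth.Agent.Lib.Helper4.CoskOver

namespace Groth.Agent.Lib.Helper4.CoskOver

open CategoryTheory CategoryTheory.Limits Opposite Simplicial

universe v u

theorem main6813 {C : Type u} [Category.{v} C] [HasFiniteLimits C] (X : C) (k : ℕ) (hk : 1 ≤ k)
    (V : SimplicialObject (Over X)) [V.IsCoskeletal k]
    (hpw : (SimplexCategory.Truncated.inclusion k).op.HasPointwiseRightKanExtension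
      ((SimplexCategory.Truncated.inclusion k).op ⋙ V)) :
    SimplicialObject.IsCoskeletal (V ⋙ Over.forget X) k := by
  have hconn : ∀ m : SimplexCategoryᵒᵖ, IsConnected (Idx k m) := isConnected k hk
  have : (Over.forget X).PreservesRightKanExtension
      ((SimplexCategory.Truncated.inclusion k).op ⋙ V) (SimplexCategory.Truncated.inclusion k).op :=
    inferInstance
  have h := Functor.PreservesRightKanExtension.preserves (G := Over.forget X) V
    (𝟙 ((SimplexCategory.Truncated.inclusion k).op ⋙ V))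
  have heq : (((SimplexCategory.Truncated.inclusion k).op.associator V (Over.forget X)).inv ≫
      Functor.whiskerRight (𝟙 ((SimplexCategory.Truncated.inclusion k).op ⋙ V)) (Over.forget X)) =
      𝟙 (((SimplexCategory.Truncated.inclusion k).op ⋙ V) ⋙ Over.forget X) := by
    ext x
    simp
  rw [heq] at h
  exact ⟨h⟩

end Groth.Agent.Lib.Helper4.CoskOver
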