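import Mathlib.Tactic
import Mathlib.AlgebraicTopology.CechNerve
import Groth.Agent.Lib.Helper4.CoskOver

namespace Groth.Agent.Lib.Helper4.CechCosk

open CategoryTheory CategoryTheory.Limits Opposite Simplicial Groth.Agent.Lib.Helper4.CoskOver

universe v u

variable {C : Type u} [Category.{v} C] [HasFiniteProducts C] (X : C)

/-- the vertex objects of the index category -/
def vtx (m : SimplexCategoryᵒᵖ) (i : Fin (m.unop.len + 1)) : Idx 0 m :=
  smp 0 m 0 le_rfl (SimplexCategory.const ⦋0⦌ m.unop i)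

/-- the right extension -/
noncomputable abbrev E : Functor.RightExtension (SimplexCategory.Truncated.inclusion 0).op
    ((SimplexCategory.Truncated.inclusion 0).op ⋙ cechNerveTerminalFrom X) :=
  Functor.RightExtension.mk (cechNerveTerminalFrom X) (𝟙 _)

lemma map_π {m m' : SimplexCategoryᵒᵖ} (g : m ⟶ m') (i : Fin (m'.unop.len + 1)) :
    (cechNerveTerminalFrom X).map g ≫ Pi.π (fun _ : Fin (m'.unop.len + 1) => X) i =
      Pi.π (fun _ : Fin (m.unop.len + 1) => X) (g.unop.toOrderHom i) := by
  simp [cechNerveTerminalFrom]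

lemma coneAt_π (m : SimplexCategoryᵒᵖ) (A : Idx 0 m) :
    ((E X).coneAt m).π.app A = (cechNerveTerminalFrom X).map A.hom :=
  Category.comp_id _

/-- the morphism from `A` to one of its vertices -/
def toVtx (m : SimplexCategoryᵒᵖ) (A : Idx 0 m) (j : Fin (A.right.unop.obj.len + 1)) :
    A ⟶ vtx m (A.hom.unop.toOrderHom j) :=
  smpHom 0 m A.right.unop.obj.len 0 A.right.unop.property le_rfl A.hom.unop
    (SimplexCategory.const ⦋0⦌ m.unop (A.hom.unop.toOrderHom j))
    (SimplexCategory.const ⦋0⦌ _ j) (by ext x; fin_cases x; rfl)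

lemma cone_toVtx (m : SimplexCategoryᵒᵖ)
    (c : Cone (StructuredArrow.proj m (SimplexCategory.Truncated.inclusion 0).op ⋙
      (SimplexCategory.Truncated.inclusion 0).op ⋙ cechNerveTerminalFrom X))
    (A : Idx 0 m) (j : Fin (A.right.unop.obj.len + 1)) :
    c.π.app A ≫ Pi.π (fun _ : Fin (A.right.unop.obj.len + 1) => X) j =
      c.π.app (vtx m (A.hom.unop.toOrderHom j)) ≫ Pi.π (fun _ : Fin (0 + 1) => X) 0 := by
  have h := c.w (toVtx m A j)
  have h2 : (StructuredArrow.proj m (SimplexCategory.Truncated.inclusion 0).op ⋙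
      (SimplexCategory.Truncated.inclusion 0).op ⋙ cechNerveTerminalFrom X).map (toVtx m A j) ≫
      Pi.π (fun _ : Fin (0 + 1) => X) 0 =
      Pi.π (fun _ : Fin (A.right.unop.obj.len + 1) => X) j :=
    map_π X _ _
  exact (congrArg (fun z => c.π.app A ≫ z) h2.symm).trans
    ((Category.assoc _ _ _).symm.trans
      (congrArg (fun z => z ≫ Pi.π (fun _ : Fin (0 + 1) => X) 0) h))

/-- the limit property -/
noncomputable def isLimit (m : SimplexCategoryᵒᵖ) : IsLimit ((E X).coneAt m) where
  lift c := Pi.lift (fun i => c.π.app (vtx m i) ≫ Pi.π (fun _ : Fin (0 + 1) => X) 0)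
  fac c A := by
    apply Pi.hom_ext
    intro j
    refine Eq.trans ?_ (cone_toVtx X m c A j).symm
    refine (Category.assoc _ _ _).trans ?_
    have h1 : ((E X).coneAt m).π.app A ≫ Pi.π (fun _ : Fin (A.right.unop.obj.len + 1) => X) j =
        Pi.π (fun _ : Fin (m.unop.len + 1) => X) (A.hom.unop.toOrderHom j) :=
      (congrArg (fun z => z ≫ Pi.π (fun _ : Fin (A.right.unop.obj.len + 1) => X) j)
        (coneAt_π X m A)).trans (map_π X _ _)
    refine (congrArg (fun z => (Pi.lift fun i => c.π.app (vtx m i) ≫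
      Pi.π (fun _ : Fin (0 + 1) => X) 0) ≫ z) h1).trans ?_
    exact Pi.lift_π _ _
  uniq c l hl := by
    apply Pi.hom_ext
    intro i
    refine Eq.trans ?_ (Pi.lift_π (f := fun _ : Fin (m.unop.len + 1) => X)
      (fun i => c.π.app (vtx m i) ≫ Pi.π (fun _ : Fin (0 + 1) => X) 0) i).symm
    have h1 : ((E X).coneAt m).π.app (vtx m i) ≫ Pi.π (fun _ : Fin (0 + 1) => X) 0 =
        Pi.π (fun _ : Fin (m.unop.len + 1) => X) i :=
      (congrArg (fun z => z ≫ Pi.π (fun _ : Fin (0 + 1) => X) 0)
        (coneAt_π X m (vtx m i))).trans (map_π X _ _)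
    exact (congrArg (fun z => l ≫ z) h1.symm).trans
      ((Category.assoc _ _ _).symm.trans
        (congrArg (fun z => z ≫ Pi.π (fun _ : Fin (0 + 1) => X) 0) (hl (vtx m i))))

end Groth.Agent.Lib.Helper4.CechCosk

namespace Groth.Agent.Lib.Helper4.CechCosk

open CategoryTheory CategoryTheory.Limits Opposite Simplicial

universe v u

theorem isCoskeletal_zero {C : Type u} [Category.{v} C] [HasFiniteProducts C] (X : C) :
    SimplicialObject.IsCoskeletal (cechNerveTerminalFrom X) 0 :=
  ⟨Functor.RightExtension.IsPointwiseRightKanExtension.isRightKanExtension (E := E X) (isLimit X)⟩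

end Groth.Agent.Lib.Helper4.CechCosk
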