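import Mathlib.Tactic
import Mathlib.AlgebraicTopology.CechNerve
import Mathlib.AlgebraicTopology.SimplicialObject.Homotopy

namespace Groth.Agent.Lib.Helper4.CechHtpy

open CategoryTheory CategoryTheory.Limits Opposite Simplicial

universe v u

variable {C : Type u} [Category.{v} C] (F : Arrow C)
  [∀ n : ℕ, HasWidePullback.{0} F.right (fun _ : Fin (n + 1) => F.left) fun _ => F.hom]
  (a b : F.left ⟶ F.left) (ha : a ≫ F.hom = F.hom) (hb : b ≫ F.hom = F.hom)

/-- the objects -/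
noncomputable abbrev N (m : ℕ) : C := widePullback.{0} F.right (fun _ : Fin (m + 1) => F.left) fun _ => F.hom

/-- projections -/
noncomputable abbrev pr (m : ℕ) (k : Fin (m + 1)) : N F m ⟶ F.left :=
  WidePullback.π (fun _ : Fin (m + 1) => F.hom) k

/-- base -/
noncomputable abbrev bs (m : ℕ) : N F m ⟶ F.right :=
  WidePullback.base (fun _ : Fin (m + 1) => F.hom)

lemma N_ext {m : ℕ} {Z : C} (g₁ g₂ : Z ⟶ N F m) (h : ∀ k, g₁ ≫ pr F m k = g₂ ≫ pr F m k)
    (hb : g₁ ≫ bs F m = g₂ ≫ bs F m) : g₁ = g₂ :=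
  WidePullback.hom_ext _ _ _ h hb

open Classical in
/-- choose `a` or `b` -/
noncomputable def ab (c : Prop) : F.left ⟶ F.left := if c then a else b

include ha hb in
lemma ab_hom (c : Prop) : ab F a b c ≫ F.hom = F.hom := by
  unfold ab
  split_ifs
  · exact ha
  · exact hb

lemma ab_congr {c c' : Prop} (h : c ↔ c') : ab F a b c = ab F a b c' := by
  rw [propext h]

/-- the general map -/
noncomputable def T {m m' : ℕ} (p : ⦋m'⦌ ⟶ ⦋m⦌) (c : Fin (m' + 1) → Prop) : N F m ⟶ N F m' :=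
  WidePullback.lift (bs F m) (fun k : Fin (m' + 1) => pr F m (p.toOrderHom k) ≫ ab F a b (c k))
    (by
      intro k
      rw [Category.assoc, ab_hom F a b ha hb]
      exact WidePullback.π_arrow _ _)

lemma T_pr {m m' : ℕ} (p : ⦋m'⦌ ⟶ ⦋m⦌) (c : Fin (m' + 1) → Prop) (k : Fin (m' + 1)) :
    T F a b ha hb p c ≫ pr F m' k = pr F m (p.toOrderHom k) ≫ ab F a b (c k) :=
  WidePullback.lift_π _ _ _ _ _

lemma T_bs {m m' : ℕ} (p : ⦋m'⦌ ⟶ ⦋m⦌) (c : Fin (m' + 1) → Prop) :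
    T F a b ha hb p c ≫ bs F m' = bs F m :=
  WidePullback.lift_base _ _ _ _

lemma T_congr {m m' : ℕ} {p p' : ⦋m'⦌ ⟶ ⦋m⦌} {c c' : Fin (m' + 1) → Prop} (hp : p = p')
    (hc : ∀ k, c k ↔ c' k) : T F a b ha hb p c = T F a b ha hb p' c' := by
  subst hp
  have : c = c' := funext fun k => propext (hc k)
  rw [this]

/-- the simplicial structure maps -/
noncomputable def nm {m m' : ℕ} (β : ⦋m'⦌ ⟶ ⦋m⦌) : N F m ⟶ N F m' :=
  F.cechNerve.map β.op

lemma nm_pr {m m' : ℕ} (β : ⦋m'⦌ ⟶ ⦋m⦌) (k : Fin (m' + 1)) :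
    nm F β ≫ pr F m' k = pr F m (β.toOrderHom k) :=
  WidePullback.lift_π _ _ _ _ _

lemma nm_bs {m m' : ℕ} (β : ⦋m'⦌ ⟶ ⦋m⦌) :
    nm F β ≫ bs F m' = bs F m :=
  WidePullback.lift_base _ _ _ _

lemma T_nm {m m' m'' : ℕ} (p : ⦋m'⦌ ⟶ ⦋m⦌) (c : Fin (m' + 1) → Prop) (β : ⦋m''⦌ ⟶ ⦋m'⦌) :
    T F a b ha hb p c ≫ nm F β = T F a b ha hb (β ≫ p) (fun k => c (β.toOrderHom k)) := by
  apply N_ext
  · intro k
    rw [Category.assoc, nm_pr, T_pr, T_pr]
    rfl
  · rw [Category.assoc, nm_bs, T_bs, T_bs]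

lemma nm_T {m₀ m m' : ℕ} (α : ⦋m⦌ ⟶ ⦋m₀⦌) (p : ⦋m'⦌ ⟶ ⦋m⦌) (c : Fin (m' + 1) → Prop) :
    nm F α ≫ T F a b ha hb p c = T F a b ha hb (p ≫ α) c := by
  apply N_ext
  · intro k
    rw [Category.assoc, T_pr, T_pr, ← Category.assoc, nm_pr]
    rfl
  · rw [Category.assoc, T_bs, T_bs, nm_bs]

/-- the homotopy components -/
noncomputable def hh (m : ℕ) (i : Fin (m + 1)) : N F m ⟶ N F (m + 1) :=
  T F a b ha hb (SimplexCategory.σ i) (fun k => (k : ℕ) ≤ i)

lemma δ_val {m : ℕ} (i : Fin (m + 2)) (x : Fin (m + 1)) :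
    (((SimplexCategory.δ i).toOrderHom x : Fin (m + 2)) : ℕ) = if (x : ℕ) < i then (x : ℕ) else x + 1 := by
  change ((i.succAbove x : Fin (m + 2)) : ℕ) = _
  unfold Fin.succAbove
  split_ifs with h1 h2 h2
  · rfl
  · exact absurd (Fin.lt_def.1 h1) h2
  · exact absurd (Fin.lt_def.2 h2) h1
  · rfl

lemma σ_val {m : ℕ} (i : Fin (m + 1)) (x : Fin (m + 2)) :
    (((SimplexCategory.σ i).toOrderHom x : Fin (m + 1)) : ℕ) = if (i : ℕ) < x then (x : ℕ) - 1 else x := by
  change ((i.predAbove x : Fin (m + 1)) : ℕ) = _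
  unfold Fin.predAbove
  split_ifs with h1 h2 h2
  · rfl
  · exact absurd (Fin.lt_def.1 h1) h2
  · exact absurd (Fin.lt_def.2 h2) h1
  · rfl

theorem h_zero (m : ℕ) :
    hh F a b ha hb m 0 ≫ nm F (SimplexCategory.δ 0) = T F a b ha hb (𝟙 _) (fun _ => False) := by
  unfold hh
  rw [T_nm]
  apply T_congr
  · exact SimplexCategory.δ_comp_σ_self (i := (0 : Fin (m + 1)))
  · intro k
    rw [δ_val]
    simp

theorem h_last (m : ℕ) :
    hh F a b ha hb m (Fin.last m) ≫ nm F (SimplexCategory.δ (Fin.last (m + 1))) =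
      T F a b ha hb (𝟙 _) (fun _ => True) := by
  unfold hh
  rw [T_nm]
  apply T_congr
  · exact SimplexCategory.δ_comp_σ_succ (i := Fin.last m)
  · intro k
    rw [δ_val]
    have := k.isLt
    simp only [Fin.val_last]
    split_ifs <;> simp <;> omega

theorem h_succ_castSucc_of_le (m : ℕ) (i : Fin (m + 2)) (j : Fin (m + 1)) (hij : i ≤ j.castSucc) :
    hh F a b ha hb (m + 1) j.succ ≫ nm F (SimplexCategory.δ i.castSucc) =
      nm F (SimplexCategory.δ i) ≫ hh F a b ha hb m j := by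
  unfold hh
  rw [T_nm, nm_T]
  apply T_congr
  · exact SimplexCategory.δ_comp_σ_of_le hij
  · intro x
    rw [δ_val]
    have h1 : (i : ℕ) ≤ j := hij
    simp only [Fin.val_succ, Fin.val_castSucc]
    split_ifs <;> omega

theorem h_succ_castSucc_succ (m : ℕ) (j : Fin (m + 1)) :
    hh F a b ha hb (m + 1) j.succ ≫ nm F (SimplexCategory.δ j.castSucc.succ) =
      hh F a b ha hb (m + 1) j.castSucc ≫ nm F (SimplexCategory.δ j.castSucc.succ) := by
  unfold hh
  rw [T_nm, T_nm]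
  apply T_congr
  · exact (SimplexCategory.δ_comp_σ_self (i := j.succ)).trans
      (SimplexCategory.δ_comp_σ_succ (i := j.castSucc)).symm
  · intro x
    rw [δ_val]
    simp only [Fin.val_succ, Fin.val_castSucc]
    split_ifs <;> omega

theorem h_castSucc_succ_of_lt (m : ℕ) (i : Fin (m + 2)) (j : Fin (m + 1)) (hji : j.castSucc < i) :
    hh F a b ha hb (m + 1) j.castSucc ≫ nm F (SimplexCategory.δ i.succ) =
      nm F (SimplexCategory.δ i) ≫ hh F a b ha hb m j := by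
  unfold hh
  rw [T_nm, nm_T]
  apply T_congr
  · exact SimplexCategory.δ_comp_σ_of_gt hji
  · intro x
    rw [δ_val]
    have h1 : (j : ℕ) < i := hji
    simp only [Fin.val_succ, Fin.val_castSucc]
    split_ifs <;> omega

theorem h_σ_castSucc_of_le (m : ℕ) (i j : Fin (m + 1)) (hij : i ≤ j) :
    hh F a b ha hb m j ≫ nm F (SimplexCategory.σ i.castSucc) =
      nm F (SimplexCategory.σ i) ≫ hh F a b ha hb (m + 1) j.succ := by
  unfold hh
  rw [T_nm, nm_T]
  apply T_congr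
  · exact SimplexCategory.σ_comp_σ hij
  · intro x
    rw [σ_val]
    have h1 : (i : ℕ) ≤ j := hij
    simp only [Fin.val_succ, Fin.val_castSucc]
    split_ifs <;> omega

theorem h_σ_succ_of_le (m : ℕ) (i j : Fin (m + 1)) (hji : j ≤ i) :
    hh F a b ha hb m j ≫ nm F (SimplexCategory.σ i.succ) =
      nm F (SimplexCategory.σ i) ≫ hh F a b ha hb (m + 1) j.castSucc := by
  unfold hh
  rw [T_nm, nm_T]
  apply T_congr
  · exact (SimplexCategory.σ_comp_σ hji).symm
  · intro x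
    rw [σ_val]
    have h1 : (j : ℕ) ≤ i := hji
    simp only [Fin.val_succ, Fin.val_castSucc]
    split_ifs <;> omega

omit [∀ n : ℕ, HasWidePullback.{0} F.right (fun _ : Fin (n + 1) => F.left) fun _ => F.hom] in
lemma w_of (φ : F ⟶ F) (hφ : φ.right = 𝟙 _) : φ.left ≫ F.hom = F.hom := by
  have := φ.w
  rw [hφ] at this
  simpa using this

lemma map_eq_T_true (φ : F ⟶ F) (hφ : φ.right = 𝟙 _) (m : ℕ) :
    (Arrow.mapCechNerve φ).app (op ⦋m⦌) =
      T F φ.left b (w_of F φ hφ) hb (𝟙 _) (fun _ => True) := by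
  apply N_ext
  · intro k
    rw [T_pr]
    simp only [ab, if_true]
    exact WidePullback.lift_π _ _ _ _ _
  · rw [T_bs]
    refine (WidePullback.lift_base _ _ _ _).trans ?_
    rw [hφ]
    exact Category.comp_id _

lemma map_eq_T_false (ψ : F ⟶ F) (hψ : ψ.right = 𝟙 _) (m : ℕ) :
    (Arrow.mapCechNerve ψ).app (op ⦋m⦌) =
      T F a ψ.left ha (w_of F ψ hψ) (𝟙 _) (fun _ => False) := by
  apply N_ext
  · intro k
    rw [T_pr]
    simp only [ab, if_false]
    exact WidePullback.lift_π _ _ _ _ _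
  · rw [T_bs]
    refine (WidePullback.lift_base _ _ _ _).trans ?_
    rw [hψ]
    exact Category.comp_id _

/-- the homotopy -/
noncomputable def homotopy (φ ψ : F ⟶ F) (hφ : φ.right = 𝟙 _) (hψ : ψ.right = 𝟙 _) :
    SimplicialObject.Homotopy (Arrow.mapCechNerve φ) (Arrow.mapCechNerve ψ) where
  h {n} i := hh F φ.left ψ.left (w_of F φ hφ) (w_of F ψ hψ) n i
  h_zero_comp_δ_zero n :=
    (h_zero F φ.left ψ.left (w_of F φ hφ) (w_of F ψ hψ) n).trans
      (map_eq_T_false F φ.left (w_of F φ hφ) ψ hψ n).symm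
  h_last_comp_δ_last n :=
    (h_last F φ.left ψ.left (w_of F φ hφ) (w_of F ψ hψ) n).trans
      (map_eq_T_true F ψ.left (w_of F ψ hψ) φ hφ n).symm
  h_succ_comp_δ_castSucc_of_lt {n} i j hij :=
    h_succ_castSucc_of_le F φ.left ψ.left (w_of F φ hφ) (w_of F ψ hψ) n i j hij
  h_succ_comp_δ_castSucc_succ {n} j :=
    h_succ_castSucc_succ F φ.left ψ.left (w_of F φ hφ) (w_of F ψ hψ) n j
  h_castSucc_comp_δ_succ_of_lt {n} i j hji :=
    h_castSucc_succ_of_lt F φ.left ψ.left (w_of F φ hφ) (w_of F ψ hψ) n i j hji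
  h_comp_σ_castSucc_of_le {n} i j hij :=
    h_σ_castSucc_of_le F φ.left ψ.left (w_of F φ hφ) (w_of F ψ hψ) n i j hij
  h_comp_σ_succ_of_lt {n} i j hji :=
    h_σ_succ_of_le F φ.left ψ.left (w_of F φ hφ) (w_of F ψ hψ) n i j hji

end Groth.Agent.Lib.Helper4.CechHtpy

namespace Groth.Agent.Lib.Helper4.CechHtpy

open CategoryTheory CategoryTheory.Limits Opposite Simplicial

universe v u

variable {C : Type u} [Category.{v} C] (F : Arrow C)
  [∀ n : ℕ, HasWidePullback.{0} F.right (fun _ : Fin (n + 1) => F.left) fun _ => F.hom]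

lemma map_id : Arrow.mapCechNerve (𝟙 F) = 𝟙 F.cechNerve := by
  ext n
  dsimp only [Arrow.mapCechNerve_app, NatTrans.id_app]
  apply WidePullback.hom_ext
  · intro k
    refine (WidePullback.lift_π _ _ _ _ _).trans ?_
    exact ((Category.comp_id _).trans (Category.id_comp _).symm)
  · refine (WidePullback.lift_base _ _ _ _).trans ?_
    exact ((Category.comp_id _).trans (Category.id_comp _).symm)

theorem main6789 (φ : F ⟶ F) (hφr : φ.right = 𝟙 _) :
    Nonempty (SimplicialObject.Homotopy (𝟙 F.cechNerve) (Arrow.mapCechNerve φ)) ∧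
      Nonempty (SimplicialObject.Homotopy (Arrow.mapCechNerve φ) (𝟙 F.cechNerve)) := by
  rw [← map_id]
  exact ⟨⟨homotopy F (𝟙 F) φ rfl hφr⟩, ⟨homotopy F φ (𝟙 F) hφr rfl⟩⟩

end Groth.Agent.Lib.Helper4.CechHtpy
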