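import Mathlib.Tactic
import Mathlib.AlgebraicTopology.DoldKan.PInfty
import Mathlib.AlgebraicTopology.SimplicialSet.CategoryWithFibrations
import Mathlib.Algebra.Homology.ShortComplex.Ab
import Mathlib.Algebra.Homology.QuasiIso
import Mathlib.Algebra.Category.Grp.EpiMono

namespace Groth.Agent.Lib.Helper4.SimpAb

open CategoryTheory Limits

universe u

section ShortComplexAb

lemma sc_exists_cycle (S : ShortComplex AddCommGrpCat.{u}) (z : S.X₂) (hz : S.g z = 0) :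
    ∃ c : S.cycles, S.iCycles c = z :=
  ⟨S.abCyclesIso.inv ⟨z, hz⟩, S.abCyclesIso_inv_apply_iCycles ⟨z, hz⟩⟩

lemma sc_iCycles_injective (S : ShortComplex AddCommGrpCat.{u}) :
    Function.Injective S.iCycles :=
  (AddCommGrpCat.mono_iff_injective _).1 inferInstance

lemma sc_g_iCycles (S : ShortComplex AddCommGrpCat.{u}) (c : S.cycles) :
    S.g (S.iCycles c) = 0 := by
  rw [← ConcreteCategory.comp_apply, S.iCycles_g]; rfl

lemma sc_homologyπ_surjective (S : ShortComplex AddCommGrpCat.{u}) :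
    Function.Surjective S.homologyπ :=
  (AddCommGrpCat.epi_iff_surjective _).1 inferInstance

lemma sc_exists_of_homologyπ_eq_zero (S : ShortComplex AddCommGrpCat.{u}) (c : S.cycles)
    (hc : S.homologyπ c = 0) : ∃ x : S.X₁, S.toCycles x = c := by
  have hex : (ShortComplex.mk S.toCycles S.homologyπ (by simp)).Exact :=
    ShortComplex.exact_of_g_is_cokernel _ S.homologyIsCokernel
  rw [ShortComplex.ab_exact_iff] at hex
  exact hex c hc

variable {S₁ S₂ : ShortComplex AddCommGrpCat.{u}} (φ : S₁ ⟶ S₂)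

lemma sc_inj [ShortComplex.QuasiIso φ] (z : S₁.X₂) (hz : S₁.g z = 0)
    (y : S₂.X₁) (hy : φ.τ₂ z = S₂.f y) : ∃ x : S₁.X₁, S₁.f x = z := by
  obtain ⟨c, rfl⟩ := sc_exists_cycle S₁ z hz
  have h1 : ShortComplex.cyclesMap φ c = S₂.toCycles y := by
    apply sc_iCycles_injective
    rw [← ConcreteCategory.comp_apply, ← ConcreteCategory.comp_apply, ShortComplex.cyclesMap_i,
      S₂.toCycles_i, ConcreteCategory.comp_apply, hy]
  have h2 : ShortComplex.homologyMap φ (S₁.homologyπ c) = 0 := by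
    rw [← ConcreteCategory.comp_apply, ShortComplex.homologyπ_naturality,
      ConcreteCategory.comp_apply, h1, ← ConcreteCategory.comp_apply, S₂.toCycles_comp_homologyπ]
    rfl
  have hinj : Function.Injective (ShortComplex.homologyMap φ) :=
    (AddCommGrpCat.mono_iff_injective _).1 inferInstance
  have h3 : S₁.homologyπ c = 0 := hinj (by rw [h2, map_zero])
  obtain ⟨x, rfl⟩ := sc_exists_of_homologyπ_eq_zero S₁ c h3
  exact ⟨x, by rw [← ConcreteCategory.comp_apply, S₁.toCycles_i]⟩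

lemma sc_surj [ShortComplex.QuasiIso φ] (y : S₂.X₂) (hy : S₂.g y = 0) :
    ∃ (c : S₁.X₂) (y'' : S₂.X₁), S₁.g c = 0 ∧ y = φ.τ₂ c + S₂.f y'' := by
  obtain ⟨c₂, rfl⟩ := sc_exists_cycle S₂ y hy
  have hsurj : Function.Surjective (ShortComplex.homologyMap φ) :=
    (AddCommGrpCat.epi_iff_surjective _).1 inferInstance
  obtain ⟨h, hh⟩ := hsurj (S₂.homologyπ c₂)
  obtain ⟨c₁, rfl⟩ := sc_homologyπ_surjective S₁ h
  have h2 : S₂.homologyπ (c₂ - ShortComplex.cyclesMap φ c₁) = 0 := by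
    rw [map_sub, ← hh, ← ConcreteCategory.comp_apply, ← ConcreteCategory.comp_apply, ←
      ShortComplex.homologyπ_naturality, sub_self]
  obtain ⟨y'', hy''⟩ := sc_exists_of_homologyπ_eq_zero S₂ _ h2
  refine ⟨S₁.iCycles c₁, y'', sc_g_iCycles _ _, ?_⟩
  have := congrArg S₂.iCycles hy''
  rw [map_sub, ← ConcreteCategory.comp_apply, S₂.toCycles_i, ← ConcreteCategory.comp_apply,
    ShortComplex.cyclesMap_i, ConcreteCategory.comp_apply] at this
  rw [this]; abel

end ShortComplexAb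

section ChainComplexAb

variable {K L : ChainComplex AddCommGrpCat.{u} ℕ} (φ : K ⟶ L)

lemma cc_inj [QuasiIso φ] (m k : ℕ) (hk : (ComplexShape.down ℕ).next m = k)
    (z : K.X m) (hz : K.d m k z = 0) (y : L.X (m + 1)) (hy : φ.f m z = L.d (m + 1) m y) :
    ∃ x : K.X (m + 1), K.d (m + 1) m x = z := by
  have hq : QuasiIsoAt φ m := inferInstance
  rw [quasiIsoAt_iff' φ (m + 1) m k (by simp) hk] at hq
  exact sc_inj ((HomologicalComplex.shortComplexFunctor' _ _ (m + 1) m k).map φ) z hz y hy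

lemma cc_surj [QuasiIso φ] (m k : ℕ) (hk : (ComplexShape.down ℕ).next m = k)
    (y : L.X m) (hy : L.d m k y = 0) :
    ∃ (c : K.X m) (y'' : L.X (m + 1)), K.d m k c = 0 ∧ y = φ.f m c + L.d (m + 1) m y'' := by
  have hq : QuasiIsoAt φ m := inferInstance
  rw [quasiIsoAt_iff' φ (m + 1) m k (by simp) hk] at hq
  exact sc_surj ((HomologicalComplex.shortComplexFunctor' _ _ (m + 1) m k).map φ) y hy

end ChainComplexAb

section DoldKan

open AlgebraicTopology AlgebraicTopology.DoldKan Simplicial Opposite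

variable {X Y : SimplicialObject AddCommGrpCat.{u}} (f : X ⟶ Y)

/-- Evaluation at an element as an additive map on morphisms. -/
def evalHom {M N : AddCommGrpCat.{u}} (v : M) : (M ⟶ N) →+ N where
  toFun g := g v
  map_zero' := rfl
  map_add' _ _ := rfl

lemma d_apply (X : SimplicialObject AddCommGrpCat.{u}) (n : ℕ) (v : X _⦋n + 1⦌) :
    ((alternatingFaceMapComplex _).obj X).d (n + 1) n v =
      ∑ i : Fin (n + 2), (-1 : ℤ) ^ (i : ℕ) • (X.δ i v) := by
  rw [alternatingFaceMapComplex_obj_d, AlternatingFaceMapComplex.objD]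
  change evalHom v _ = ∑ i : Fin (n + 2), (-1 : ℤ) ^ (i : ℕ) • evalHom v (X.δ i)
  rw [map_sum]
  simp only [map_zsmul]

lemma hcore (hf : ∀ n : SimplexCategoryᵒᵖ, Function.Surjective (f.app n))
    [QuasiIso ((alternatingFaceMapComplex _).map f)] (m k : ℕ)
    (hk : (ComplexShape.down ℕ).next m = k)
    (u : X _⦋m⦌) (hfu : f.app (op ⦋m⦌) u = 0)
    (hdu : ((alternatingFaceMapComplex _).obj X).d m k u = 0)
    (hPu : (PInfty.f m : X _⦋m⦌ ⟶ X _⦋m⦌) u = u) :
    ∃ v : X _⦋m + 1⦌, f.app (op ⦋m + 1⦌) v = 0 ∧ X.δ 0 v = u ∧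
      ∀ i : Fin (m + 1), X.δ i.succ v = 0 := by
  set φ := (alternatingFaceMapComplex _).map f with hφ
  have hφf : ∀ n, φ.f n = f.app (op ⦋n⦌) := fun n => rfl
  -- step 1: u is a boundary
  obtain ⟨v₁, hv₁⟩ := cc_inj φ m k hk u hdu 0 (by rw [hφf, hfu, map_zero])
  -- step 2: correct v₁ so that it lies in the kernel of f
  have hy : ((alternatingFaceMapComplex _).obj Y).d (m + 1) m (f.app (op ⦋m + 1⦌) v₁) = 0 := by
    have := congrArg (fun g => (ConcreteCategory.hom g) v₁) (φ.comm (m + 1) m)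
    simp only [ConcreteCategory.comp_apply] at this
    rw [hφf, hφf] at this
    rw [this, hv₁, hfu]
  obtain ⟨c, y'', hc, hy''⟩ := cc_surj φ (m + 1) m (by simp) _ hy
  obtain ⟨x'', rfl⟩ := hf _ y''
  set v₂ := v₁ - c - ((alternatingFaceMapComplex _).obj X).d (m + 2) (m + 1) x'' with hv₂
  have hfv₂ : f.app (op ⦋m + 1⦌) v₂ = 0 := by
    have := congrArg (fun g => (ConcreteCategory.hom g) x'') (φ.comm (m + 2) (m + 1))
    simp only [ConcreteCategory.comp_apply] at this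
    rw [hφf, hφf] at this
    rw [hv₂, map_sub, map_sub, hy'', hφf, this]
    exact (sub_eq_zero.2 (add_sub_cancel_left _ _))
  have hdv₂ : ((alternatingFaceMapComplex _).obj X).d (m + 1) m v₂ = u := by
    rw [hv₂, map_sub, map_sub, hv₁, hc, ← ConcreteCategory.comp_apply,
      HomologicalComplex.d_comp_d]
    simp
  -- step 3: apply PInfty
  refine ⟨(PInfty.f (m + 1) : X _⦋m + 1⦌ ⟶ X _⦋m + 1⦌) v₂, ?_, ?_, ?_⟩
  · rw [← ConcreteCategory.comp_apply, ← PInfty_f_naturality, ConcreteCategory.comp_apply, hfv₂,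
      map_zero]
  · have hi : ∀ i : Fin (m + 1),
        X.δ i.succ ((PInfty.f (m + 1) : X _⦋m + 1⦌ ⟶ X _⦋m + 1⦌) v₂) = 0 := by
      intro i
      have := HigherFacesVanish.of_P (X := X) (m + 1) m i (by omega)
      rw [← PInfty_f] at this
      rw [← ConcreteCategory.comp_apply, this]
      rfl
    have h1 := d_apply X m ((PInfty.f (m + 1) : X _⦋m + 1⦌ ⟶ X _⦋m + 1⦌) v₂)
    rw [Fin.sum_univ_succ] at h1
    simp only [hi, smul_zero, Finset.sum_const_zero, add_zero, Fin.val_zero, pow_zero,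
      one_smul] at h1
    rw [← h1]
    have h2 : ((alternatingFaceMapComplex AddCommGrpCat).obj X).d (m + 1) m
        ((PInfty.f (m + 1) : X _⦋m + 1⦌ ⟶ X _⦋m + 1⦌) v₂) =
        (PInfty.f m : X _⦋m⦌ ⟶ X _⦋m⦌)
          (((alternatingFaceMapComplex AddCommGrpCat).obj X).d (m + 1) m v₂) :=
      congrArg (fun g => (ConcreteCategory.hom g) v₂) ((PInfty (X := X)).comm (m + 1) m)
    rw [h2, hdv₂, hPu]
  · intro i
    have := HigherFacesVanish.of_P (X := X) (m + 1) m i (by omega)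
    rw [← PInfty_f] at this
    rw [← ConcreteCategory.comp_apply, this]
    rfl

lemma PInfty_apply_of_faces (X : SimplicialObject AddCommGrpCat.{u}) (n : ℕ) (u : X _⦋n + 1⦌)
    (hu : ∀ i : Fin (n + 1), X.δ i.succ u = 0) :
    (PInfty.f (n + 1) : X _⦋n + 1⦌ ⟶ X _⦋n + 1⦌) u = u := by
  let A : AddSubgroup (X _⦋n + 1⦌) := ⨅ i : Fin (n + 1), (X.δ i.succ).hom.ker
  let φ : AddCommGrpCat.of A ⟶ X _⦋n + 1⦌ := AddCommGrpCat.ofHom A.subtype
  have hφ : HigherFacesVanish (n + 1) φ := by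
    intro j _
    ext ⟨a, ha⟩
    have := (AddSubgroup.mem_iInf.1 ha) j
    exact this
  have h := hφ.comp_P_eq_self
  rw [← PInfty_f] at h
  have hmem : u ∈ A := AddSubgroup.mem_iInf.2 (fun i => hu i)
  exact congrArg (fun g => (ConcreteCategory.hom g) ⟨u, hmem⟩) h

lemma H0 (hf : ∀ n : SimplexCategoryᵒᵖ, Function.Surjective (f.app n))
    [QuasiIso ((alternatingFaceMapComplex _).map f)]
    (u : X _⦋0⦌) (hfu : f.app (op ⦋0⦌) u = 0) :
    ∃ v : X _⦋1⦌, f.app (op ⦋1⦌) v = 0 ∧ X.δ 0 v = u ∧ X.δ 1 v = 0 := by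
  obtain ⟨v, h1, h2, h3⟩ := hcore f hf 0 0 (by simp) u hfu
    (by rw [HomologicalComplex.shape _ 0 0 (by simp)]; rfl) (by rw [PInfty_f_0]; rfl)
  exact ⟨v, h1, h2, h3 0⟩

lemma HS (hf : ∀ n : SimplexCategoryᵒᵖ, Function.Surjective (f.app n))
    [QuasiIso ((alternatingFaceMapComplex _).map f)] (n : ℕ)
    (u : X _⦋n + 1⦌) (hfu : f.app (op ⦋n + 1⦌) u = 0) (hu : ∀ i : Fin (n + 2), X.δ i u = 0) :
    ∃ v : X _⦋n + 2⦌, f.app (op ⦋n + 2⦌) v = 0 ∧ X.δ 0 v = u ∧
      ∀ i : Fin (n + 2), X.δ i.succ v = 0 := by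
  refine hcore f hf (n + 1) n (by simp) u hfu ?_ (PInfty_apply_of_faces X n u (fun i => hu _))
  rw [d_apply]
  simp [hu]

end DoldKan

section Filling

open Simplicial Opposite

lemma app2 {A B C D : AddCommGrpCat.{u}} {a : A ⟶ B} {b : B ⟶ D} {c : A ⟶ C} {d : C ⟶ D}
    (h : a ≫ b = c ≫ d) (x : A) : b (a x) = d (c x) :=
  congrArg (fun g => (ConcreteCategory.hom g) x) h

lemma app1 {A B : AddCommGrpCat.{u}} {a : A ⟶ B} {b : B ⟶ A}
    (h : a ≫ b = 𝟙 A) (x : A) : b (a x) = x :=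
  congrArg (fun g => (ConcreteCategory.hom g) x) h

variable (X : SimplicialObject AddCommGrpCat.{u})

/-- One step of the horn-filling algorithm. -/
lemma horn_step (k : ℕ) (z : Fin (k + 3) → X _⦋k + 1⦌)
    (compat : ∀ i j : Fin (k + 2), i ≤ j → X.δ i (z j.succ) = X.δ j (z i.castSucc))
    (r : Fin (k + 2)) (w : X _⦋k + 2⦌)
    (hw : ∀ i' : Fin (k + 3), r.succ < i' → X.δ i' w = z i') :
    ∀ i' : Fin (k + 3), r.castSucc < i' →
      X.δ i' (w + X.σ r (z r.succ - X.δ r.succ w)) = z i' := by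
  intro i' hi'
  rw [map_add]
  rcases (Fin.castSucc_lt_iff_succ_le.1 hi').eq_or_lt with h | h
  · subst h
    rw [app1 (X.δ_comp_σ_succ (i := r))]
    abel
  · rw [hw i' h]
    suffices h0 : X.δ i' (X.σ r (z r.succ - X.δ r.succ w)) = 0 by rw [h0, add_zero]
    obtain ⟨i, rfl⟩ := Fin.eq_succ_of_ne_zero (Fin.ne_zero_of_lt h)
    rw [Fin.succ_lt_succ_iff] at h
    induction r using Fin.lastCases with
    | last => exact absurd h (not_lt.2 (Fin.le_last _))
    | cast j =>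
      rw [app2 (X.δ_comp_σ_of_gt h)]
      suffices h1 : X.δ i (z j.castSucc.succ - X.δ j.castSucc.succ w) = 0 by rw [h1, map_zero]
      have hji : j.succ ≤ i := Fin.castSucc_lt_iff_succ_le.1 h
      rw [map_sub, Fin.succ_castSucc, ← compat j.succ i hji, ← app2 (X.δ_comp_δ hji) w,
        ← map_sub, hw i.succ (by rwa [Fin.succ_lt_succ_iff]), sub_self, map_zero]

variable {X} {Y : SimplicialObject AddCommGrpCat.{u}} (f : X ⟶ Y)

lemma horn_fill (k : ℕ) (z : Fin (k + 3) → X _⦋k + 1⦌)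
    (hz : ∀ i, f.app (op ⦋k + 1⦌) (z i) = 0)
    (compat : ∀ i j : Fin (k + 2), i ≤ j → X.δ i (z j.succ) = X.δ j (z i.castSucc)) :
    ∃ w : X _⦋k + 2⦌, f.app (op ⦋k + 2⦌) w = 0 ∧ ∀ i : Fin (k + 2), X.δ i.succ w = z i.succ := by
  have key : ∀ r : Fin (k + 3), ∃ w : X _⦋k + 2⦌, f.app (op ⦋k + 2⦌) w = 0 ∧
      ∀ i' : Fin (k + 3), r < i' → X.δ i' w = z i' := by
    intro r
    induction r using Fin.reverseInduction with
    | last => exact ⟨0, map_zero _, fun i' hi' => absurd hi' (not_lt.2 (Fin.le_last _))⟩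
    | cast r ih =>
      obtain ⟨w, hfw, hw⟩ := ih
      refine ⟨w + X.σ r (z r.succ - X.δ r.succ w), ?_, horn_step X k z compat r w hw⟩
      rw [map_add, hfw, zero_add, app2 (SimplicialObject.σ_naturality f r), map_sub, hz,
        app2 (SimplicialObject.δ_naturality f r.succ), hfw, map_zero, sub_zero, map_zero]
  obtain ⟨w, hfw, hw⟩ := key 0
  exact ⟨w, hfw, fun i => hw _ (Fin.succ_pos i)⟩

lemma fill_succ (hf : ∀ n : SimplexCategoryᵒᵖ, Function.Surjective (f.app n))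
    [QuasiIso ((AlgebraicTopology.alternatingFaceMapComplex _).map f)]
    (k : ℕ) (z : Fin (k + 3) → X _⦋k + 1⦌)
    (hz : ∀ i, f.app (op ⦋k + 1⦌) (z i) = 0)
    (compat : ∀ i j : Fin (k + 2), i ≤ j → X.δ i (z j.succ) = X.δ j (z i.castSucc)) :
    ∃ w : X _⦋k + 2⦌, f.app (op ⦋k + 2⦌) w = 0 ∧ ∀ i : Fin (k + 3), X.δ i w = z i := by
  obtain ⟨w₀, hfw₀, hw₀⟩ := horn_fill f k z hz compat
  obtain ⟨v, hfv, hv0, hv⟩ := HS f hf k (z 0 - X.δ 0 w₀)
    (by rw [map_sub, hz, app2 (SimplicialObject.δ_naturality f 0), hfw₀, map_zero, sub_zero])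
    (by
      intro i
      have h1 := compat 0 i (Fin.zero_le _)
      have h2 := app2 (X.δ_comp_δ (Fin.zero_le i)) w₀
      rw [Fin.castSucc_zero] at h1 h2
      rw [map_sub, ← h1, ← h2, hw₀, sub_self])
  refine ⟨w₀ + v, by rw [map_add, hfw₀, hfv, add_zero], ?_⟩
  intro i
  induction i using Fin.cases with
  | zero => rw [map_add, hv0]; abel
  | succ i => rw [map_add, hv, hw₀, add_zero]

lemma fill_zero (hf : ∀ n : SimplexCategoryᵒᵖ, Function.Surjective (f.app n))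
    [QuasiIso ((AlgebraicTopology.alternatingFaceMapComplex _).map f)]
    (z : Fin 2 → X _⦋0⦌) (hz : ∀ i, f.app (op ⦋0⦌) (z i) = 0) :
    ∃ w : X _⦋1⦌, f.app (op ⦋1⦌) w = 0 ∧ ∀ i : Fin 2, X.δ i w = z i := by
  obtain ⟨v, hfv, hv0, hv1⟩ := H0 f hf (z 0 - z 1) (by rw [map_sub, hz, hz, sub_zero])
  refine ⟨X.σ 0 (z 1) + v, ?_, ?_⟩
  · rw [map_add, hfv, add_zero, app2 (SimplicialObject.σ_naturality f 0), hz, map_zero]
  · intro i
    fin_cases i
    · change X.δ 0 _ = z 0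
      have h0 : X.δ 0 (X.σ 0 (z 1)) = z 1 := app1 (X.δ_comp_σ_self (i := 0)) _
      rw [map_add, hv0, h0]; abel
    · change X.δ 1 _ = z 1
      rw [map_add, hv1, add_zero]
      exact app1 (X.δ_comp_σ_succ (i := 0)) _

end Filling

section SSetLevel

open Simplicial Opposite SSet HomotopicalAlgebra

lemma rlp_I_of_fill {X' Y' : SSet.{u}} (p : X' ⟶ Y')
    (h0 : Function.Surjective (p.app (op ⦋0⦌)))
    (hS : ∀ (n : ℕ) (t : (∂Δ[n + 1] : SSet.{u}) ⟶ X') (y : Y' _⦋n + 1⦌),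
      (∀ i, p.app _ (yonedaEquiv (boundary.ι i ≫ t)) = Y'.δ i y) →
      ∃ x : X' _⦋n + 1⦌, p.app _ x = y ∧ ∀ i, X'.δ i x = yonedaEquiv (boundary.ι i ≫ t)) :
    SSet.modelCategoryQuillen.I.rlp p := by
  intro A B i hi
  obtain ⟨n⟩ := hi
  constructor
  intro t b sq
  rcases n with _ | n
  · obtain ⟨x, hx⟩ := h0 (yonedaEquiv b)
    refine ⟨⟨{ l := yonedaEquiv.symm x, fac_left := boundary.hom_ext₀, fac_right := ?_ }⟩⟩
    rw [yonedaEquiv_symm_comp, hx, Equiv.symm_apply_apply]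
  · obtain ⟨x, hx, hxi⟩ := hS n t (yonedaEquiv b) (by
      intro i
      rw [← yonedaEquiv_comp, Category.assoc, sq.w, boundary.ι_ι_assoc,
        stdSimplex.yonedaEquiv_δ_comp])
    refine ⟨⟨{ l := yonedaEquiv.symm x, fac_left := ?_, fac_right := ?_ }⟩⟩
    · apply boundary.hom_ext
      intro i
      rw [boundary.ι_ι_assoc, stdSimplex.δ_comp_yonedaEquiv_symm, hxi, Equiv.symm_apply_apply]
    · rw [yonedaEquiv_symm_comp, hx, Equiv.symm_apply_apply]

lemma boundary_compat {X' : SSet.{u}} (k : ℕ) (t : (∂Δ[k + 2] : SSet.{u}) ⟶ X')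
    (i j : Fin (k + 2)) (hij : i ≤ j) :
    X'.δ i (yonedaEquiv (boundary.ι j.succ ≫ t)) =
      X'.δ j (yonedaEquiv (boundary.ι i.castSucc ≫ t)) := by
  rw [← stdSimplex.yonedaEquiv_δ_comp, ← stdSimplex.yonedaEquiv_δ_comp]
  congr 1
  rw [← Category.assoc, ← Category.assoc]
  congr 1
  rw [← cancel_mono (boundary.{u} (k + 2)).ι, Category.assoc, Category.assoc, boundary.ι_ι,
    boundary.ι_ι]
  exact stdSimplex.δ_comp_δ hij

variable {X Y : SimplicialObject AddCommGrpCat.{u}} (f : X ⟶ Y)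

theorem main6781 (hf : ∀ n : SimplexCategoryᵒᵖ, Function.Surjective (f.app n))
    (hq : QuasiIso ((AlgebraicTopology.alternatingFaceMapComplex AddCommGrpCat.{u}).map f)) :
    SSet.modelCategoryQuillen.I.rlp (X := X ⋙ forget AddCommGrpCat.{u})
      (Y := Y ⋙ forget AddCommGrpCat.{u}) (Functor.whiskerRight f (forget AddCommGrpCat.{u})) := by
  apply rlp_I_of_fill
  · exact hf _
  · intro n t y hy
    obtain ⟨x', hx'⟩ := hf (op ⦋n + 1⦌) y
    let z : Fin (n + 2) → X _⦋n⦌ := fun i => yonedaEquiv (boundary.ι i ≫ t)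
    have hz : ∀ i, f.app (op ⦋n⦌) (z i) = Y.δ i y := hy
    have hz' : ∀ i, f.app (op ⦋n⦌) (z i - X.δ i x') = 0 := by
      intro i
      rw [map_sub, hz, app2 (SimplicialObject.δ_naturality f i), hx', sub_self]
    suffices hw : ∃ w : X _⦋n + 1⦌, f.app (op ⦋n + 1⦌) w = 0 ∧
        ∀ i : Fin (n + 2), X.δ i w = z i - X.δ i x' by
      obtain ⟨w, hfw, hw⟩ := hw
      refine ⟨x' + w, ?_, ?_⟩
      · change f.app (op ⦋n + 1⦌) (x' + w) = y
        rw [map_add, hfw, hx', add_zero]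
      · intro i
        change X.δ i (x' + w) = z i
        rw [map_add, hw]; abel
    rcases n with _ | k
    · exact fill_zero f hf _ hz'
    · refine fill_succ f hf k _ hz' ?_
      intro i j hij
      have h1 : X.δ i (z j.succ) = X.δ j (z i.castSucc) := boundary_compat k t i j hij
      rw [map_sub, map_sub, h1, app2 (X.δ_comp_δ hij) x']

end SSetLevel

end Groth.Agent.Lib.Helper4.SimpAb
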