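import Mathlib.Tactic
import Mathlib.AlgebraicTopology.CechNerve
import Groth.Agent.Lib.Helper4.SimpAb

namespace Groth.Agent.Lib.Helper4.CechTriv

open CategoryTheory CategoryTheory.Limits Simplicial Opposite SSet

universe u

variable {A B : Type u} (f : A ⟶ B)

/-- The Čech nerve of `f` as a simplicial set. -/
noncomputable abbrev C : SSet.{u} := (Arrow.mk f).cechNerve

/-- projections -/
noncomputable def pr (a : SimplexCategory) (l : Fin (a.len + 1)) (c : (C f).obj (op a)) : A :=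
  (WidePullback.π (fun _ : Fin (a.len + 1) => (Arrow.mk f).hom) l) c

noncomputable def bs (a : SimplexCategory) (c : (C f).obj (op a)) : B :=
  (WidePullback.base (fun _ : Fin (a.len + 1) => (Arrow.mk f).hom)) c

lemma f_pr (a : SimplexCategory) (l : Fin (a.len + 1)) (c : (C f).obj (op a)) :
    f (pr f a l c) = bs f a c :=
  ConcreteCategory.congr_hom
    (WidePullback.π_arrow (fun _ : Fin (a.len + 1) => (Arrow.mk f).hom) l) c

lemma pr_map {a b : SimplexCategory} (θ : a ⟶ b) (l : Fin (a.len + 1)) (c : (C f).obj (op b)) :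
    pr f a l ((C f).map θ.op c) = pr f b (θ.toOrderHom l) c :=
  ConcreteCategory.congr_hom
    (WidePullback.lift_π (arrows := fun _ : Fin (a.len + 1) => (Arrow.mk f).hom) _ _ _ l) c

lemma bs_map {a b : SimplexCategory} (θ : a ⟶ b) (c : (C f).obj (op b)) :
    bs f a ((C f).map θ.op c) = bs f b c :=
  ConcreteCategory.congr_hom
    (WidePullback.lift_base (arrows := fun _ : Fin (a.len + 1) => (Arrow.mk f).hom) _ _ _) c

lemma ext_C (a : SimplexCategory) (c c' : (C f).obj (op a))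
    (h : ∀ l, pr f a l c = pr f a l c') : c = c' := by
  apply Types.limit_ext
  rintro (_ | l)
  · have h0 := h 0
    have e1 := f_pr f a 0 c
    have e2 := f_pr f a 0 c'
    rw [h0] at e1
    exact e1.symm.trans e2
  · exact h l

/-- Constructor for simplices of the Čech nerve. -/
noncomputable def mkC (a' : SimplexCategory) (y : B) (a : Fin (a'.len + 1) → A)
    (h : ∀ j, f (a j) = y) : (C f).obj (op a') :=
  (WidePullback.lift (arrows := fun _ : Fin (a'.len + 1) => (Arrow.mk f).hom)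
    (X := PUnit.{u + 1}) (↾fun _ => y) (fun j => ↾fun _ => a j)
    (by intro j; ext; exact h j)) PUnit.unit

lemma pr_mkC (a' : SimplexCategory) (y : B) (a : Fin (a'.len + 1) → A)
    (h : ∀ j, f (a j) = y) (l : Fin (a'.len + 1)) : pr f a' l (mkC f a' y a h) = a l :=
  ConcreteCategory.congr_hom
    (WidePullback.lift_π (arrows := fun _ : Fin (a'.len + 1) => (Arrow.mk f).hom) _ _ _ l)
    PUnit.unit

lemma bs_mkC (a' : SimplexCategory) (y : B) (a : Fin (a'.len + 1) → A)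
    (h : ∀ j, f (a j) = y) : bs f a' (mkC f a' y a h) = y :=
  ConcreteCategory.congr_hom
    (WidePullback.lift_base (arrows := fun _ : Fin (a'.len + 1) => (Arrow.mk f).hom) _ _ _)
    PUnit.unit

section Fill

variable {f} {n : ℕ} (t : (∂Δ[n + 1] : SSet.{u}) ⟶ C f)

/-- vertices of the boundary -/
def vtx (n : ℕ) (j : Fin (n + 2)) : (∂Δ[n + 1] : SSet.{u}).obj (op ⦋0⦌) :=
  ⟨stdSimplex.objEquiv.symm (SimplexCategory.const ⦋0⦌ ⦋n + 1⦌ j), by
    rw [boundary_obj_eq_univ.{u} 0 (n + 1) (by omega)]; trivial⟩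

/-- the vertex values of `t` -/
noncomputable def va (j : Fin (n + 2)) : A := pr f ⦋0⦌ 0 (t.app (op ⦋0⦌) (vtx n j))

lemma map_const_eq_vtx {k : ℕ} (s : (∂Δ[n + 1] : SSet.{u}).obj (op ⦋k⦌)) (l : Fin (k + 1)) :
    (∂Δ[n + 1] : SSet.{u}).map (SimplexCategory.const ⦋0⦌ ⦋k⦌ l).op s =
      vtx n ((stdSimplex.objEquiv s.1).toOrderHom l) := by
  apply Subtype.ext
  apply stdSimplex.objEquiv.injective
  ext i : 3
  rfl

lemma pr_t {k : ℕ} (s : (∂Δ[n + 1] : SSet.{u}).obj (op ⦋k⦌)) (l : Fin (k + 1)) :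
    pr f ⦋k⦌ l (t.app (op ⦋k⦌) s) = va t ((stdSimplex.objEquiv s.1).toOrderHom l) := by
  have h1 := pr_map f (SimplexCategory.const ⦋0⦌ ⦋k⦌ l) 0 (t.app (op ⦋k⦌) s)
  have h2 := ConcreteCategory.congr_hom (t.naturality (SimplexCategory.const ⦋0⦌ ⦋k⦌ l).op) s
  have h2' : t.app (op ⦋0⦌) ((∂Δ[n + 1] : SSet.{u}).map (SimplexCategory.const ⦋0⦌ ⦋k⦌ l).op s) =
      (C f).map (SimplexCategory.const ⦋0⦌ ⦋k⦌ l).op (t.app (op ⦋k⦌) s) := h2
  rw [← h2', map_const_eq_vtx] at h1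
  exact h1.symm

lemma bs_t {k : ℕ} (s : (∂Δ[n + 1] : SSet.{u}).obj (op ⦋k⦌)) (l : Fin (k + 1)) :
    bs f ⦋k⦌ (t.app (op ⦋k⦌) s) =
      bs f ⦋0⦌ (t.app (op ⦋0⦌) (vtx n ((stdSimplex.objEquiv s.1).toOrderHom l))) := by
  have h1 := bs_map f (SimplexCategory.const ⦋0⦌ ⦋k⦌ l) (t.app (op ⦋k⦌) s)
  have h2 := ConcreteCategory.congr_hom (t.naturality (SimplexCategory.const ⦋0⦌ ⦋k⦌ l).op) s
  have h2' : t.app (op ⦋0⦌) ((∂Δ[n + 1] : SSet.{u}).map (SimplexCategory.const ⦋0⦌ ⦋k⦌ l).op s) =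
      (C f).map (SimplexCategory.const ⦋0⦌ ⦋k⦌ l).op (t.app (op ⦋k⦌) s) := h2
  rw [← h2', map_const_eq_vtx] at h1
  exact h1.symm

end Fill


lemma face_simplex {n : ℕ} (i : Fin (n + 2)) :
    stdSimplex.objEquiv (yonedaEquiv (boundary.ι.{u} (n := n) i)).1 = SimplexCategory.δ i := by
  rfl

lemma yonedaEquiv_ι_comp {n : ℕ} (t : (∂Δ[n + 1] : SSet.{u}) ⟶ C f) (i : Fin (n + 2)) :
    yonedaEquiv (boundary.ι i ≫ t) = t.app (op ⦋n⦌) (yonedaEquiv (boundary.ι i)) := by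
  rfl

lemma hS_C {n : ℕ} (t : (∂Δ[n + 1] : SSet.{u}) ⟶ C f) (y : B)
    (hy' : ∀ i : Fin (n + 2), bs f ⦋n⦌ (t.app (op ⦋n⦌) (yonedaEquiv (boundary.ι i))) = y) :
    ∃ x : (C f).obj (op ⦋n + 1⦌), bs f ⦋n + 1⦌ x = y ∧
      ∀ i : Fin (n + 2), (C f).map (SimplexCategory.δ i).op x =
        t.app (op ⦋n⦌) (yonedaEquiv (boundary.ι i)) := by
  have h : ∀ j : Fin (n + 2), f (va t j) = y := by
    intro j
    obtain ⟨i, hi⟩ := exists_ne j
    obtain ⟨l, hl⟩ := Fin.exists_succAbove_eq hi.symm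
    have h1 := bs_t t (yonedaEquiv (boundary.ι i)) l
    rw [hy' i] at h1
    rw [va, f_pr, h1]
    congr 3
    rw [face_simplex]
    exact hl.symm
  refine ⟨mkC f ⦋n + 1⦌ y (va t) h, bs_mkC f ⦋n + 1⦌ y _ _, ?_⟩
  intro i
  apply ext_C
  intro l
  rw [pr_t, face_simplex]
  have := pr_map f (SimplexCategory.δ i) l (mkC f ⦋n + 1⦌ y (va t) h)
  rw [pr_mkC] at this
  exact this

theorem main6783 (hf : Function.Surjective f) :
    SSet.modelCategoryQuillen.I.rlp (Arrow.mk f).augmentedCechNerve.hom := by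
  apply Groth.Agent.Lib.Helper4.SimpAb.rlp_I_of_fill
  · intro y
    obtain ⟨a₀, ha₀⟩ := hf y
    exact ⟨mkC f ⦋0⦌ y (fun _ => a₀) (fun _ => ha₀), bs_mkC f ⦋0⦌ y _ _⟩
  · intro n t y hy
    exact hS_C f t y hy

end Groth.Agent.Lib.Helper4.CechTriv
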