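import Mathlib.Algebra.CharP.Two
import Mathlib.RingTheory.Adjoin.Polynomial.Basic
import Mathlib.Tactic
import Groth.Agent.Lib.Helper4.FVGadic

namespace Groth.Agent.Lib.Helper4.CharTwoInv

open Polynomial Groth.Agent.Lib.Helper4.FV

theorem main (R : Type*) [CommRing R] [IsDomain R]
    [CharP R 2] (a : R) (ha : a ≠ 0) (f : Polynomial R) :
    f.comp (X + C a) = f ↔ f ∈ Algebra.adjoin R ({X * (X + C a)} : Set (Polynomial R)) := by
  set g : R[X] := X * (X + C a) with hg
  have hgc : g.comp (X + C a) = g := by
    rw [hg]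
    simp only [mul_comp, X_comp, add_comp, C_comp]
    have : C a + C a = (0 : R[X]) := by
      rw [← C_add, CharTwo.add_self_eq_zero, C_0]
    rw [add_assoc, this, add_zero, mul_comm]
  rw [Algebra.adjoin_singleton_eq_range_aeval]
  constructor
  · intro hf
    have hdeg : g.natDegree ≤ 2 := by
      rw [hg]
      refine natDegree_mul_le.trans ?_
      have h1 := natDegree_X_le (R := R)
      have h2 : (X + C a : R[X]).natDegree ≤ 1 := by
        refine (natDegree_add_le _ _).trans ?_
        simp [natDegree_X_le]
      omega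
    have hu : IsUnit (g.coeff 2) := by
      have : g.coeff 2 = 1 := by
        rw [hg, mul_add, coeff_add, ← sq, coeff_X_pow, if_pos rfl, coeff_X_mul, coeff_C]
        simp
      rw [this]; exact isUnit_one
    obtain ⟨p, hp⟩ := Psi_surjective hdeg hu (by norm_num) f
    simp only [Psi, Fin.sum_univ_two, Fin.val_zero, pow_zero, mul_one, Fin.val_one, pow_one] at hp
    have h1 : ∀ q : R[X], (aeval g q).comp (X + C a) = aeval g q := by
      intro q
      rw [← comp_eq_aeval, comp_assoc, hgc]
    have h2 := hf
    rw [← hp] at h2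
    simp only [add_comp, mul_comp, X_comp, h1] at h2
    have h3 : aeval g (p 1) * C a = 0 := by
      have : aeval g (p 0) + aeval g (p 1) * (X + C a) =
          (aeval g (p 0) + aeval g (p 1) * X) + aeval g (p 1) * C a := by ring
      rw [this] at h2
      exact left_eq_add.1 h2.symm |>.symm ▸ rfl
    have h4 : aeval g (p 1) = 0 := by
      rcases mul_eq_zero.1 h3 with h | h
      · exact h
      · exact absurd (C_eq_zero.1 h) ha
    refine ⟨p 0, ?_⟩
    rw [← hp, h4, zero_mul, add_zero]
    rfl
  · rintro ⟨q, rfl⟩
    show ((aeval g) q).comp (X + C a) = (aeval g) q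
    rw [← comp_eq_aeval, comp_assoc, hgc]

end Groth.Agent.Lib.Helper4.CharTwoInv
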