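import Mathlib

namespace Groth.Agent.Lib.Helper4.ClopenStable
open TopologicalSpace Topology AlgebraicGeometry

section top
variable {α : Type*} [TopologicalSpace α]

/-- In a noetherian quasi-sober space, a set stable under specialization and generization is
closed. -/
lemma isClosed_of_specializes_iff [NoetherianSpace α] [QuasiSober α] {S : Set α}
    (hS : ∀ x y : α, x ⤳ y → (x ∈ S ↔ y ∈ S)) : IsClosed S := by
  have hfin := NoetherianSpace.finite_irreducibleComponents (α := α)
  have key : S = ⋃₀ {Z ∈ irreducibleComponents α | (Z ∩ S).Nonempty} := by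
    ext x
    constructor
    · intro hx
      refine ⟨irreducibleComponent x, ⟨irreducibleComponent_mem_irreducibleComponents x,
        ⟨x, mem_irreducibleComponent, hx⟩⟩, mem_irreducibleComponent⟩
    · rintro ⟨Z, ⟨hZ, ⟨y, hyZ, hyS⟩⟩, hxZ⟩
      have hZi : IsIrreducible Z := hZ.1
      have hZc : IsClosed Z := isClosed_of_mem_irreducibleComponents Z hZ
      obtain ⟨η, hη⟩ := QuasiSober.sober hZi hZc
      have h1 : η ⤳ y := hη.specializes hyZ
      have h2 : η ⤳ x := hη.specializes hxZ
      exact (hS η x h2).1 ((hS η y h1).2 hyS)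
  rw [key, Set.sUnion_eq_biUnion]
  exact (hfin.subset (Set.sep_subset _ _)).isClosed_biUnion
    (fun Z hZ => isClosed_of_mem_irreducibleComponents Z hZ.1)

lemma isClopen_of_specializes_iff [NoetherianSpace α] [QuasiSober α] {S : Set α}
    (hS : ∀ x y : α, x ⤳ y → (x ∈ S ↔ y ∈ S)) : IsClopen S := by
  refine ⟨isClosed_of_specializes_iff hS, ?_⟩
  rw [← isClosed_compl_iff]
  exact isClosed_of_specializes_iff fun x y h => not_congr (hS x y h)

end top

universe u

/-- In a locally noetherian scheme, a set stable under specialization and generization is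
clopen. -/
theorem isClopen_of_specializes_iff_scheme {X : Scheme.{u}} [IsLocallyNoetherian X] {S : Set X}
    (hS : ∀ x y : X, x ⤳ y → (x ∈ S ↔ y ∈ S)) : IsClopen S := by
  have hopen : ∀ S : Set X, (∀ x y : X, x ⤳ y → (x ∈ S ↔ y ∈ S)) → IsOpen S := by
    intro S hS
    rw [isOpen_iff_mem_nhds]
    intro x hx
    obtain ⟨_, ⟨U, hU, rfl⟩, hxU, -⟩ :=
      X.isBasis_affineOpens.exists_subset_of_mem_open (Set.mem_univ x) isOpen_univ
    haveI : IsNoetherianRing Γ(X, U) := IsLocallyNoetherian.component_noetherian ⟨U, hU⟩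
    haveI : NoetherianSpace ((U : Set X) : Type _) := noetherianSpace_of_isAffineOpen U hU
    haveI : QuasiSober ((U : Set X) : Type _) := U.isOpenEmbedding'.quasiSober
    have h1 : IsClopen (Subtype.val ⁻¹' S : Set (U : Set X)) := by
      refine isClopen_of_specializes_iff fun a b hab => ?_
      exact hS a.1 b.1 ((subtype_specializes_iff a b).1 hab)
    have h2 : IsOpen (Subtype.val '' (Subtype.val ⁻¹' S : Set (U : Set X))) :=
      U.2.isOpenMap_subtype_val _ h1.2
    rw [Subtype.image_preimage_coe] at h2
    exact Filter.mem_of_superset (h2.mem_nhds ⟨hxU, hx⟩) Set.inter_subset_right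
  refine ⟨?_, hopen S hS⟩
  rw [← isOpen_compl_iff]
  exact hopen _ fun x y h => not_congr (hS x y h)

end Groth.Agent.Lib.Helper4.ClopenStable
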