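import Mathlib.AlgebraicGeometry.Morphisms.ClosedImmersion
import Mathlib.Topology.KrullDimension
import Mathlib.Tactic

set_option autoImplicit false
universe u
open CategoryTheory AlgebraicGeometry TopologicalSpace Order

namespace Groth.Agent.Lib.Helper4.ClosedImmDim

theorem surjective_of_dim_eq {X Y : Type*} [TopologicalSpace X] [TopologicalSpace Y]
    [IrreducibleSpace X] (f : Y → X) (hf : Topology.IsClosedEmbedding f)
    (hfin : topologicalKrullDim X ≠ ⊤)
    (hdim : topologicalKrullDim X = topologicalKrullDim Y) : Function.Surjective f := by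
  unfold topologicalKrullDim at *
  have hne : Nonempty (IrreducibleCloseds X) :=
    ⟨⟨Set.univ, IrreducibleSpace.isIrreducible_univ X, isClosed_univ⟩⟩
  have h0 : (0 : WithBot ℕ∞) ≤ krullDim (IrreducibleCloseds X) := krullDim_nonneg
  obtain ⟨n, hn⟩ : ∃ n : ℕ, krullDim (IrreducibleCloseds X) = n := by
    cases h : krullDim (IrreducibleCloseds X) with
    | bot => rw [h] at h0; simp at h0
    | coe m =>
      cases m with
      | top => exact absurd h hfin
      | coe k => exact ⟨k, rfl⟩
  have hY : (n : WithBot ℕ∞) ≤ krullDim (IrreducibleCloseds Y) := by rw [← hdim, hn]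
  obtain ⟨l, hl⟩ := le_krullDim_iff.mp hY
  let l' : LTSeries (IrreducibleCloseds X) :=
    l.map (IrreducibleCloseds.map f hf.continuous)
      (IrreducibleCloseds.map_strictMono_of_isInducing hf.isInducing)
  let top : IrreducibleCloseds X := ⟨Set.univ, IrreducibleSpace.isIrreducible_univ X, isClosed_univ⟩
  have hlast : l'.last = top := by
    by_contra hne'
    have hlt : l'.last < top := lt_of_le_of_ne (fun x _ => Set.mem_univ x) hne'
    have hlen : ((l'.snoc top hlt).length : WithBot ℕ∞) ≤ krullDim (IrreducibleCloseds X) :=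
      LTSeries.length_le_krullDim _
    rw [hn] at hlen
    have : (l'.snoc top hlt).length = n + 1 := by simp [l', hl]
    rw [this] at hlen
    have : (n + 1 : ℕ) ≤ n := by exact_mod_cast hlen
    omega
  have hcl : closure (f '' (l.last : Set Y)) = Set.univ := by
    have := congrArg (fun Z : IrreducibleCloseds X => (Z : Set X)) hlast
    have e : ((top : IrreducibleCloseds X) : Set X) = Set.univ := rfl
    rw [← e]
    simpa [l', LTSeries.last_map] using this
  rw [(hf.isClosedMap _ l.last.isClosed).closure_eq] at hcl
  intro x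
  have : x ∈ f '' (l.last : Set Y) := by rw [hcl]; trivial
  obtain ⟨y, -, rfl⟩ := this
  exact ⟨y, rfl⟩

theorem main {X Y : Scheme.{u}} (i : Y ⟶ X)
    [IsClosedImmersion i] [IsIntegral X] (hfin : topologicalKrullDim ↥X ≠ ⊤)
    (hdim : topologicalKrullDim ↥X = topologicalKrullDim ↥Y) : IsIso i := by
  have hs : Function.Surjective i := surjective_of_dim_eq i i.isClosedEmbedding hfin hdim
  have : Surjective i := ⟨hs⟩
  exact isIso_of_isClosedImmersion_of_surjective i

end Groth.Agent.Lib.Helper4.ClosedImmDim
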