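import Mathlib.AlgebraicGeometry.Morphisms.UniversallyOpen
import Mathlib.AlgebraicGeometry.Morphisms.QuasiCompact
import Mathlib.Tactic
import Groth.Prelude.Def_Grpd

set_option autoImplicit false
universe u
open CategoryTheory AlgebraicGeometry TopologicalSpace Limits

namespace Groth.Agent.Lib.Helper4.CompactGenStable

/-- a compact subset of an open of a scheme is contained in a compact open inside it -/
theorem exists_compact_open_between {X : Scheme.{u}} (E : Set X) (hE : IsCompact E)
    (O : X.Opens) (hEO : E ⊆ O) :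
    ∃ V : X.Opens, IsCompact (V : Set X) ∧ E ⊆ V ∧ V ≤ O := by
  have hb := X.isBasis_affineOpens
  have key : ∀ y ∈ E, ∃ V : X.Opens, IsAffineOpen V ∧ y ∈ V ∧ V ≤ O := by
    intro y hy
    obtain ⟨V, hV, hyV, hVO⟩ := (Opens.isBasis_iff_nbhd.mp hb) (hEO hy)
    exact ⟨V, hV, hyV, hVO⟩
  choose! V hVa hyV hVO using key
  obtain ⟨t, ht⟩ := hE.elim_finite_subcover_image (b := E) (c := fun y => (V y : Set X))
    (fun y _ => (V y).2) (fun y hy => Set.mem_iUnion₂.mpr ⟨y, hy, hyV y hy⟩)
  obtain ⟨htE, htfin, hcov⟩ := ht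
  refine ⟨⨆ y ∈ t, V y, ?_, ?_, ?_⟩
  · have : ((⨆ y ∈ t, V y : X.Opens) : Set X) = ⋃ y ∈ t, (V y : Set X) := by
      simp
    rw [this]
    exact htfin.isCompact_biUnion (fun y hy => (hVa y (htE hy)).isCompact)
  · intro z hz
    have := hcov hz
    simpa using this
  · refine iSup₂_le (fun y hy => hVO y (htE hy))

theorem eq_iInter {X : Scheme.{u}} (E : Set X) (hE : IsCompact E)
    (hg : StableUnderGeneralization E) :
    ∃ (ι : Type u) (_ : Nonempty ι) (V : ι → X.Opens),
      (∀ i, IsCompact (V i : Set X)) ∧ E = ⋂ i, (V i : Set X) := by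
  refine ⟨{V : X.Opens // IsCompact (V : Set X) ∧ E ⊆ V}, ?_, fun V => V.1, fun V => V.2.1, ?_⟩
  · obtain ⟨V, hV, hEV, -⟩ := exists_compact_open_between E hE ⊤ (fun _ _ => trivial)
    exact ⟨⟨V, hV, hEV⟩⟩
  · apply Set.Subset.antisymm
    · intro y hy
      simp only [Set.mem_iInter]
      intro V
      exact V.2.2 hy
    · intro x hx
      by_contra hxE
      let O : X.Opens := ⟨(closure {x})ᶜ, isClosed_closure.isOpen_compl⟩
      have hEO : E ⊆ O := by
        intro y hy hyc
        have : x ⤳ y := specializes_iff_mem_closure.mpr hyc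
        exact hxE (hg this hy)
      obtain ⟨V, hV, hEV, hVO⟩ := exists_compact_open_between E hE O hEO
      have h1 : x ∈ (V : Set X) := Set.mem_iInter.mp hx ⟨V, hV, hEV⟩
      exact hVO h1 (subset_closure rfl)

open Grpd in
theorem orbit_compact {S : Scheme.{u}} (G : GroupoidScheme S) [QuasiCompact G.s]
    (W : G.U.Opens) (hW : IsCompact (W : Set G.U)) :
    IsCompact (⇑G.t '' (⇑G.s ⁻¹' (W : Set G.U))) :=
  (QuasiCompact.isCompact_preimage _ W.2 hW).image G.t.continuous

open Grpd in
theorem orbit_genStable {S : Scheme.{u}} (G : GroupoidScheme S) [Flat G.t]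
    (W : G.U.Opens) :
    StableUnderGeneralization (⇑G.t '' (⇑G.s ⁻¹' (W : Set G.U))) :=
  (Flat.generalizingMap G.t).stableUnderGeneralization_image
    (W.2.preimage G.s.continuous).stableUnderGeneralization

end Groth.Agent.Lib.Helper4.CompactGenStable
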