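import Mathlib
import Groth.Agent.Lib.Helper4.ConnAff
import Groth.Agent.Lib.Helper4.AnClosed
import Groth.Agent.Lib.Helper4.ClopenStable

namespace Groth.Agent.Lib.Helper4.ConnGlue
open AlgebraicGeometry CategoryTheory TopologicalSpace Opposite An Topology
open Groth.Agent.Lib.Helper4.AnEv Groth.Agent.Lib.Helper4.AnGen
open Groth.Agent.Lib.Helper4.AnOpen Groth.Agent.Lib.Helper4.AnClosed
open Groth.Agent.Lib.Helper4.DensSch3 Groth.Agent.Lib.Helper4.ConnAff
open Groth.Agent.Lib.Helper4.AnBasic Groth.Agent.Lib.Helper4.AnInj Groth.Agent.Lib.Helper4.AnSurj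
open Groth.Agent.Lib.Helper4.ClopenStable

universe u

/-- The subscheme cut out by the vanishing ideal of a closed set is reduced. -/
theorem isReduced_subscheme_vanishingIdeal {X : Scheme.{u}} (Z : Closeds X) :
    IsReduced (Scheme.IdealSheafData.vanishingIdeal Z).subscheme := by
  set I := Scheme.IdealSheafData.vanishingIdeal Z with hI
  haveI : ∀ U, IsReduced (I.subschemeCover.openCover.X U) := by
    intro U
    show IsReduced (Spec (.of (Γ(X, U.1) ⧸ I.ideal U)))
    haveI : _root_.IsReduced (Γ(X, U.1) ⧸ I.ideal U) := by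
      rw [← Ideal.isRadical_iff_quotient_reduced]
      have : I.ideal U = PrimeSpectrum.vanishingIdeal (U.2.fromSpec ⁻¹' Z) := by
        rw [hI]; exact Scheme.IdealSheafData.vanishingIdeal_ideal Z U
      rw [this]
      exact PrimeSpectrum.isRadical_vanishingIdeal _
    infer_instance
  exact IsReduced.of_openCover _ I.subschemeCover.openCover

variable {X : Scheme.{0}} [X.Over SC]

/-- The `ℂ`-points of an integral scheme locally of finite type over `ℂ` form a preconnected
space. -/
theorem preconnectedSpace_of_isIntegral [IsIntegral X] [LocallyOfFiniteType (X ↘ SC)] :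
    PreconnectedSpace (Pts X) := by
  haveI := isLocallyNoetherian_of_lft X
  obtain ⟨x⟩ : Nonempty X := inferInstance
  obtain ⟨U, hU, hxU⟩ := Groth.Agent.Lib.Helper4.AnLC.exists_affineOpen_mem X x
  haveI : Nonempty U := ⟨⟨x, hxU⟩⟩
  letI : U.toScheme.Over SC := ⟨U.ι ≫ X ↘ SC⟩
  haveI : U.ι.IsOver SC := ⟨rfl⟩
  haveI : IsAffine U.toScheme := hU
  haveI : IsIntegral U.toScheme := inferInstance
  haveI : LocallyOfFiniteType (U.toScheme ↘ SC) :=
    inferInstanceAs (LocallyOfFiniteType (U.ι ≫ X ↘ SC))
  haveI : PreconnectedSpace (Pts U.toScheme) := preconnectedSpace_of_isIntegral_of_isAffine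
  have h1 : IsPreconnected (Set.range (Pts.map U.ι)) :=
    isPreconnected_range (Pts.continuous_map U.ι)
  rw [range_map_of_isOpenImmersion, Scheme.Opens.range_ι] at h1
  have hdense : Dense (Pts.pt ⁻¹' (U : Set X) : Set (Pts X)) := by
    refine (main4190 X (U : Set X) (isLocallyConstructible_of_isOpen X U.2)).1 ?_
    exact IsOpen.dense U.2 ⟨x, hxU⟩
  exact ⟨by rw [← hdense.closure_eq]; exact h1.closure⟩

/-- The `ℂ`-points lying on an irreducible closed subset form a preconnected set. -/
theorem isPreconnected_preimage_of_isIrreducible [LocallyOfFiniteType (X ↘ SC)] {Z : Set X}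
    (hZc : IsClosed Z) (hZi : IsIrreducible Z) :
    IsPreconnected (Pts.pt ⁻¹' Z : Set (Pts X)) := by
  set I := Scheme.IdealSheafData.vanishingIdeal (⟨Z, hZc⟩ : Closeds X) with hI
  have hsupp : (I.support : Set X) = Z := by
    rw [hI]; exact Scheme.IdealSheafData.coe_support_vanishingIdeal _
  letI : I.subscheme.Over SC := ⟨I.subschemeι ≫ X ↘ SC⟩
  haveI : I.subschemeι.IsOver SC := ⟨rfl⟩
  haveI : IsReduced I.subscheme := isReduced_subscheme_vanishingIdeal _
  haveI : IrreducibleSpace I.subscheme :=
    Subtype.irreducibleSpace (s := (I.support : Set X)) (hsupp ▸ hZi)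
  haveI : IsIntegral I.subscheme := isIntegral_of_irreducibleSpace_of_isReduced _
  haveI : LocallyOfFiniteType (I.subscheme ↘ SC) :=
    inferInstanceAs (LocallyOfFiniteType (I.subschemeι ≫ X ↘ SC))
  haveI : PreconnectedSpace (Pts I.subscheme) := preconnectedSpace_of_isIntegral
  have h1 : IsPreconnected (Set.range (Pts.map I.subschemeι)) :=
    isPreconnected_range (Pts.continuous_map I.subschemeι)
  rw [range_map_of_isClosedImmersion, Scheme.IdealSheafData.range_subschemeι, hsupp] at h1
  exact h1

variable [LocallyOfFiniteType (X ↘ SC)]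

lemma nonempty_preimage_closure (x : X) :
    (Pts.pt ⁻¹' closure ({x} : Set X) : Set (Pts X)).Nonempty := by
  obtain ⟨p, hp, hpc⟩ := exists_closedPoint_of_nonempty X (closure {x})
    isClosed_closure.isLocallyClosed ⟨x, subset_closure rfl⟩
  exact ⟨ptOfClosed X p hpc, by rw [Set.mem_preimage, ptOfClosed_pt]; exact hp⟩

lemma preimage_closure_pt (ξ : Pts X) :
    (Pts.pt ⁻¹' closure ({ξ.pt} : Set X) : Set (Pts X)) = {ξ} := by
  have hc : IsClosed ({ξ.pt} : Set X) := pt_mem_closedPoints X ξ
  rw [hc.closure_eq]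
  ext ζ
  simp only [Set.mem_preimage, Set.mem_singleton_iff]
  exact ⟨fun h => pt_injective X h, fun h => h ▸ rfl⟩

/-- Clopen subsets of `X(ℂ)` descend to clopen subsets of `X`. -/
theorem exists_isClopen_preimage_eq {A : Set (Pts X)} (hA : IsClopen A) :
    ∃ T : Set X, IsClopen T ∧ Pts.pt ⁻¹' T = A := by
  haveI := isLocallyNoetherian_of_lft X
  set T : Set X := {x | (Pts.pt ⁻¹' closure ({x} : Set X) : Set (Pts X)) ⊆ A} with hT
  have hpre : ∀ x : X, IsPreconnected (Pts.pt ⁻¹' closure ({x} : Set X) : Set (Pts X)) :=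
    fun x => isPreconnected_preimage_of_isIrreducible isClosed_closure
      isIrreducible_singleton.closure
  have hdich : ∀ x : X, x ∉ T →
      (Pts.pt ⁻¹' closure ({x} : Set X) : Set (Pts X)) ⊆ Aᶜ := by
    intro x hx ζ hζ hζA
    exact hx ((hpre x).subset_isClopen hA ⟨ζ, hζ, hζA⟩)
  have hstable : ∀ x y : X, x ⤳ y → (x ∈ T ↔ y ∈ T) := by
    intro x y hxy
    have hsub : closure ({y} : Set X) ⊆ closure {x} :=
      (isClosed_closure.closure_subset_iff).2
        (Set.singleton_subset_iff.2 (specializes_iff_mem_closure.1 hxy))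
    constructor
    · intro hx ζ hζ
      exact hx (hsub hζ)
    · intro hy
      by_contra hx
      obtain ⟨ζ, hζ⟩ := nonempty_preimage_closure y
      exact hdich x hx (hsub hζ) (hy hζ)
  refine ⟨T, isClopen_of_specializes_iff_scheme hstable, ?_⟩
  ext ξ
  show ξ.pt ∈ T ↔ ξ ∈ A
  rw [hT, Set.mem_ofPred_eq, preimage_closure_pt, Set.singleton_subset_iff]

/-- `X` preconnected implies `X(ℂ)` preconnected. -/
theorem preconnectedSpace_pts [PreconnectedSpace X] : PreconnectedSpace (Pts X) := by
  rw [preconnectedSpace_iff_clopen]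
  intro A hA
  obtain ⟨T, hT, rfl⟩ := exists_isClopen_preimage_eq hA
  rcases isClopen_iff.1 hT with h | h
  · left; rw [h]; rfl
  · right; rw [h]; rfl

/-- `X(ℂ)` preconnected implies `X` preconnected. -/
theorem preconnectedSpace_of_pts [PreconnectedSpace (Pts X)] : PreconnectedSpace X := by
  haveI := isLocallyNoetherian_of_lft X
  rw [preconnectedSpace_iff_clopen]
  intro T hT
  have hA : IsClopen (Pts.pt ⁻¹' T : Set (Pts X)) := hT.preimage Pts.continuous_pt
  rcases isClopen_iff.1 hA with h | h
  · left
    refine eq_empty_of_forall_pt_notMem X (isLocallyConstructible_of_isOpen X hT.2) ?_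
    intro ξ hξ
    have : ξ ∈ (Pts.pt ⁻¹' T : Set (Pts X)) := hξ
    rw [h] at this
    exact this
  · right
    have h2 : Tᶜ = ∅ := by
      refine eq_empty_of_forall_pt_notMem X (isLocallyConstructible_of_isOpen X hT.compl.2) ?_
      intro ξ hξ
      have : ξ ∈ (Pts.pt ⁻¹' T : Set (Pts X)) := by rw [h]; trivial
      exact hξ this
    exact Set.compl_empty_iff.1 h2

theorem main4191 : ConnectedSpace X ↔ ConnectedSpace (Pts X) := by
  constructor
  · intro h
    haveI : PreconnectedSpace (Pts X) := preconnectedSpace_pts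
    exact ⟨(main4186 X).1 inferInstance⟩
  · intro h
    haveI : PreconnectedSpace X := preconnectedSpace_of_pts
    exact ⟨(main4186 X).2 inferInstance⟩

/-- The `ℂ`-points lying on a preconnected closed subset form a preconnected set. -/
theorem isPreconnected_preimage_of_isPreconnected {Z : Set X}
    (hZc : IsClosed Z) (hZp : _root_.IsPreconnected Z) :
    _root_.IsPreconnected (Pts.pt ⁻¹' Z : Set (Pts X)) := by
  set I := Scheme.IdealSheafData.vanishingIdeal (⟨Z, hZc⟩ : Closeds X) with hI
  have hsupp : (I.support : Set X) = Z := by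
    rw [hI]; exact Scheme.IdealSheafData.coe_support_vanishingIdeal _
  letI : I.subscheme.Over SC := ⟨I.subschemeι ≫ X ↘ SC⟩
  haveI : I.subschemeι.IsOver SC := ⟨rfl⟩
  haveI : PreconnectedSpace I.subscheme :=
    Subtype.preconnectedSpace (s := (I.support : Set X)) (hsupp ▸ hZp)
  haveI : LocallyOfFiniteType (I.subscheme ↘ SC) :=
    inferInstanceAs (LocallyOfFiniteType (I.subschemeι ≫ X ↘ SC))
  haveI : PreconnectedSpace (Pts I.subscheme) := preconnectedSpace_pts
  have h1 : _root_.IsPreconnected (Set.range (Pts.map I.subschemeι)) :=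
    isPreconnected_range (Pts.continuous_map I.subschemeι)
  rw [range_map_of_isClosedImmersion, Scheme.IdealSheafData.range_subschemeι, hsupp] at h1
  exact h1

theorem main4192 :
    Function.Bijective (Pts.continuous_pt (X := X)).connectedComponentsMap := by
  constructor
  · intro a b hab
    obtain ⟨ξ, rfl⟩ := _root_.ConnectedComponents.surjective_coe a
    obtain ⟨ζ, rfl⟩ := _root_.ConnectedComponents.surjective_coe b
    have h1 : (_root_.ConnectedComponents.mk ξ.pt : _root_.ConnectedComponents X) = _root_.ConnectedComponents.mk ζ.pt :=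
      hab
    rw [_root_.ConnectedComponents.coe_eq_coe'] at h1
    have hpre : _root_.IsPreconnected (Pts.pt ⁻¹' connectedComponent ζ.pt : Set (Pts X)) :=
      isPreconnected_preimage_of_isPreconnected isClosed_connectedComponent
        isPreconnected_connectedComponent
    rw [_root_.ConnectedComponents.coe_eq_coe']
    exact hpre.subset_connectedComponent (x := ζ) mem_connectedComponent h1
  · intro c
    obtain ⟨x, rfl⟩ := _root_.ConnectedComponents.surjective_coe c
    obtain ⟨p, hp, hpc⟩ := exists_closedPoint_of_nonempty X (connectedComponent x)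
      isClosed_connectedComponent.isLocallyClosed ⟨x, mem_connectedComponent⟩
    refine ⟨_root_.ConnectedComponents.mk (ptOfClosed X p hpc), ?_⟩
    show (_root_.ConnectedComponents.mk (ptOfClosed X p hpc).pt : _root_.ConnectedComponents X) = _
    rw [ptOfClosed_pt, _root_.ConnectedComponents.coe_eq_coe']
    exact hp

end Groth.Agent.Lib.Helper4.ConnGlue
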