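import Mathlib.LinearAlgebra.Matrix.ToLin
import Mathlib.LinearAlgebra.Dimension.Constructions
import Mathlib.LinearAlgebra.FiniteDimensional.Lemmas
import Mathlib.Tactic

namespace Groth.Agent.Lib.Helper4.CornerBlocks

open Matrix Module

variable {K : Type*} [Field K] {N : Type*} [Fintype N] [DecidableEq N]

omit [DecidableEq N] in
theorem mulVec_extend (A : Matrix N N K) (S : Finset N) (u : ↥S → K) :
    A.mulVec (Function.extend Subtype.val u 0) = ∑ j : ↥S, u j • A.col j := by
  ext i
  rw [Matrix.mulVec, dotProduct, Finset.sum_apply, ← Finset.sum_subset (Finset.subset_univ S),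
    ← Finset.sum_coe_sort S]
  · refine Finset.sum_congr rfl fun j _ => ?_
    rw [Subtype.val_injective.extend_apply]
    simp [mul_comm]
  · intro x _ hx
    rw [Function.extend_apply', Pi.zero_apply, mul_zero]
    rintro ⟨j, rfl⟩
    exact hx j.2

theorem core (A : Matrix N N K)
    (hA : LinearMap.ker A.mulVecLin = LinearMap.range A.mulVecLin) (S : Finset N)
    (hli : LinearIndependent K (fun j : ↥S => A.col j))
    (hspan : ∀ j, A.col j ∈ Submodule.span K (Set.range (fun j : ↥S => A.col j)))
    (p : N → Prop) [DecidablePred p] (hp : ∀ x, p x ↔ x ∉ S) :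
    Function.Bijective (A.submatrix (Subtype.val : {x // p x} → N) (Subtype.val : ↥S → N)).mulVecLin := by
  have hsub : ∀ (u : ↥S → K) (i : {x // p x}),
      (A.submatrix (Subtype.val : {x // p x} → N) (Subtype.val : ↥S → N)).mulVec u i =
        A.mulVec (Function.extend Subtype.val u 0) i.1 := by
    intro u i
    rw [mulVec_extend]
    simp [Matrix.mulVec, dotProduct, Finset.sum_apply, mul_comm]
  have hli' := Fintype.linearIndependent_iff.1 hli
  have hinj : Function.Injective
      (A.submatrix (Subtype.val : {x // p x} → N) (Subtype.val : ↥S → N)).mulVecLin := by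
    rw [← LinearMap.ker_eq_bot, LinearMap.ker_eq_bot']
    intro u hu
    obtain ⟨y, hy⟩ : ∃ y, y = A.mulVec (Function.extend Subtype.val u 0) := ⟨_, rfl⟩
    have hy0 : ∀ i, i ∉ S → y i = 0 := by
      intro i hi
      have := congrFun hu ⟨i, (hp i).2 hi⟩
      rw [Matrix.mulVecLin_apply, hsub] at this
      rw [hy]
      exact this
    have hyext : y = Function.extend Subtype.val (fun j : ↥S => y j) 0 := by
      ext i
      by_cases hi : i ∈ S
      · exact (Subtype.val_injective.extend_apply (fun j : ↥S => y j) 0 (⟨i, hi⟩ : ↥S)).symm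
      · rw [Function.extend_apply', hy0 i hi]
        · rfl
        · rintro ⟨j, rfl⟩
          exact hi j.2
    have hyker : A.mulVec y = 0 := by
      have : y ∈ LinearMap.range A.mulVecLin := ⟨_, hy.symm⟩
      rw [← hA] at this
      exact this
    rw [hyext, mulVec_extend] at hyker
    have hyz : y = 0 := by
      rw [hyext]
      have := hli' _ hyker
      ext i
      by_cases hi : i ∈ S
      · rw [Subtype.val_injective.extend_apply (fun j : ↥S => y j) 0 (⟨i, hi⟩ : ↥S)]
        exact this ⟨i, hi⟩
      · rw [Function.extend_apply']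
        rintro ⟨j, rfl⟩
        exact hi j.2
    rw [hyz, mulVec_extend] at hy
    funext j
    exact hli' _ hy.symm j
  refine ⟨hinj, ?_⟩
  refine (LinearMap.injective_iff_surjective_of_finrank_eq_finrank ?_).1 hinj
  -- dimension count
  have h1 := LinearMap.finrank_range_add_finrank_ker A.mulVecLin
  rw [hA] at h1
  have hrange : LinearMap.range A.mulVecLin =
      Submodule.span K (Set.range (fun j : ↥S => A.col j)) := by
    rw [Matrix.range_mulVecLin]
    apply le_antisymm
    · rw [Submodule.span_le]
      rintro _ ⟨j, rfl⟩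
      exact hspan j
    · apply Submodule.span_mono
      rintro _ ⟨j, rfl⟩
      exact ⟨j, rfl⟩
  rw [hrange, finrank_span_eq_card hli, Module.finrank_fintype_fun_eq_card] at h1
  rw [Module.finrank_fintype_fun_eq_card, Module.finrank_fintype_fun_eq_card]
  have h2 : Fintype.card {x // p x} = Fintype.card N - Fintype.card ↥S := by
    rw [← Fintype.card_subtype_compl]
    exact Fintype.card_congr (Equiv.subtypeEquivRight hp)
  rw [h2]
  omega

theorem main (A : Matrix N N K)
    (hA : LinearMap.ker A.mulVecLin = LinearMap.range A.mulVecLin) :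
    ∃ N₁₂ N₂₁ N₃₁ : Finset N,
      Function.Bijective (A.submatrix (Subtype.val : ↥N₃₁ → N) (Subtype.val : ↥N₂₁ → N)).mulVecLin ∧
      Function.Bijective
        (A.submatrix (Subtype.val : {x : N // x ∉ N₂₁} → N) (Subtype.val : ↥N₁₂ → N)).mulVecLin := by
  classical
  obtain ⟨b, -, -, hb1, hb2⟩ := exists_linearIndepOn_extension (K := K) (v := A.col)
    (linearIndepOn_empty K A.col) (Set.empty_subset Set.univ)
  have hbS : b = ↑(b.toFinset) := (Set.coe_toFinset b).symm
  rw [hbS] at hb1 hb2
  have hli : LinearIndependent K (fun j : ↥(b.toFinset) => A.col j) := hb2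
  have hspan : ∀ j, A.col j ∈ Submodule.span K (Set.range (fun j : ↥(b.toFinset) => A.col j)) := by
    intro j
    have := hb1 ⟨j, Set.mem_univ j, rfl⟩
    refine Submodule.span_mono ?_ this
    rintro _ ⟨i, hi, rfl⟩
    exact ⟨⟨i, hi⟩, rfl⟩
  refine ⟨b.toFinset, b.toFinset, (b.toFinset)ᶜ, ?_, ?_⟩
  · exact core A hA b.toFinset hli hspan (fun x => x ∈ (b.toFinset)ᶜ) (fun x => Finset.mem_compl)
  · exact core A hA b.toFinset hli hspan (fun x => x ∉ b.toFinset) (fun x => Iff.rfl)

end Groth.Agent.Lib.Helper4.CornerBlocks
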