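import Mathlib.Algebra.Homology.HomologySequence
import Mathlib.Algebra.Homology.HomologySequenceLemmas
import Mathlib.Algebra.Homology.HomologicalComplexAbelian
import Mathlib.Algebra.Homology.ShortComplex.ExactFunctor
import Mathlib.AlgebraicTopology.AlternatingFaceMapComplex
import Groth.Prelude.Def_DeltaF

namespace Groth.Agent.Lib.Helper4.CosimpDelta

open CategoryTheory CategoryTheory.Limits Simplicial

universe v u v' u'

section General

variable {B : Type u} [Category.{v} B] [Abelian B] {A : Type u'} [Category.{v'} A] [Abelian A]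
  (Φ : B ⥤ CochainComplex A ℕ) [Φ.Additive]
  (hΦ : ∀ T : ShortComplex B, T.ShortExact → (T.map Φ).ShortExact)

/-- the delta-functor `H^p ∘ Φ` attached to an exact functor to cochain complexes -/
noncomputable def deltaOf : DeltaF.CohDeltaFunctor B A ℕ where
  F p := Φ ⋙ HomologicalComplex.homologyFunctor A _ p
  additive p := inferInstance
  δ T hT n₀ n₁ h := (hΦ T hT).δ n₀ n₁ h
  δ_natural {T T'} hT hT' φ n₀ n₁ h :=
    (HomologicalComplex.HomologySequence.δ_naturality (Φ.mapShortComplex.map φ)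
      (hΦ T hT) (hΦ T' hT') n₀ n₁ h).symm
  exact₂ T hT n := (hΦ T hT).homology_exact₂ n
  comp_δ T hT n₀ n₁ h := (hΦ T hT).comp_δ n₀ n₁ h
  exact₃ T hT n₀ n₁ h := (hΦ T hT).homology_exact₃ n₀ n₁ h
  δ_comp T hT n₀ n₁ h := (hΦ T hT).δ_comp n₀ n₁ h
  exact₁ T hT n₀ n₁ h := (hΦ T hT).homology_exact₁ n₀ n₁ h

lemma deltaOf_F (p : ℕ) : (deltaOf Φ hΦ).F p = Φ ⋙ HomologicalComplex.homologyFunctor A _ p := rfl

lemma deltaOf_zeroMono : (deltaOf Φ hΦ).ZeroMono := by
  intro T hT
  have := (hΦ T hT).mono_f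
  have : Mono (((T.map Φ).f).f 0) :=
    inferInstanceAs (Mono ((HomologicalComplex.eval _ _ 0).map (T.map Φ).f))
  exact HomologicalComplex.mono_homologyMap_of_mono_of_not_rel (T.map Φ).f 0
    (fun i => by simp)

include hΦ in
lemma preservesFiniteLimits_H0 :
    PreservesFiniteLimits (Φ ⋙ HomologicalComplex.homologyFunctor A (ComplexShape.up ℕ) 0) := by
  rw [Functor.preservesFiniteLimits_iff_forall_exact_map_and_mono]
  intro T hT
  exact ⟨(deltaOf Φ hΦ).exact₂ T hT 0, deltaOf_zeroMono Φ hΦ T hT⟩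

end General

end Groth.Agent.Lib.Helper4.CosimpDelta
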