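import Mathlib.Algebra.Homology.HomologySequence
import Mathlib.Algebra.Homology.HomologySequenceLemmas
import Mathlib.Algebra.Homology.HomologicalComplexAbelian
import Mathlib.Algebra.Homology.ShortComplex.ExactFunctor
import Mathlib.AlgebraicTopology.AlternatingFaceMapComplex
import Mathlib.AlgebraicTopology.SimplexCategory.Basic
import Mathlib.CategoryTheory.Abelian.Refinements
import Mathlib.CategoryTheory.Abelian.FunctorCategory
import Mathlib.Tactic
import Groth.Prelude.Def_DeltaF
import Groth.Agent.Lib.Helper4.CosimpDelta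

namespace Groth.Agent.Lib.Helper4.CosimpDelta2

open CategoryTheory CategoryTheory.Limits Simplicial

universe v u

section Cosimp

variable {A : Type u} [Category.{v} A] [Abelian A]

/-- the alternating coface map complex functor on `SimplexCategory ⥤ A` -/
noncomputable abbrev altF : (SimplexCategory ⥤ A) ⥤ CochainComplex A ℕ :=
  AlgebraicTopology.alternatingCofaceMapComplex A

instance : (altF (A := A)).Additive where
  map_add {F G φ ψ} := by
    ext n
    rfl

theorem shortExact_altF (T : ShortComplex (SimplexCategory ⥤ A)) (hT : T.ShortExact) :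
    (T.map (altF (A := A))).ShortExact := by
  apply HomologicalComplex.shortExact_of_degreewise_shortExact
  intro n
  exact hT.map_of_exact ((evaluation _ _).obj ⦋n⦌)

/-- the décalage endofunctor of the simplex category -/
def dec : SimplexCategory ⥤ SimplexCategory where
  obj a := SimplexCategory.mk (a.len + 1)
  map {a b} f := SimplexCategory.Hom.mk
    { toFun := fun i => Fin.cases 0 (fun j => (f.toOrderHom j).succ) i
      monotone' := by
        intro i j hij
        induction i using Fin.cases with
        | zero => exact Fin.zero_le _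
        | succ i =>
          induction j using Fin.cases with
          | zero => exact absurd hij (by simp)
          | succ j =>
            simp only [Fin.cases_succ]
            exact Fin.succ_le_succ_iff.2 (f.toOrderHom.monotone (Fin.succ_le_succ_iff.1 hij)) }
  map_id a := by
    apply SimplexCategory.Hom.ext
    ext i : 2
    induction i using Fin.cases with
    | zero => rfl
    | succ i => rfl
  map_comp f g := by
    apply SimplexCategory.Hom.ext
    ext i : 2
    induction i using Fin.cases with
    | zero => rfl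
    | succ i => rfl

/-- the inclusion `a ⟶ dec a` missing the new bottom element -/
def decι (a : SimplexCategory) : a ⟶ dec.obj a :=
  SimplexCategory.Hom.mk
    { toFun := fun i => i.succ
      monotone' := fun _ _ h => Fin.succ_le_succ_iff.2 h }

/-- the retraction `dec a ⟶ a` -/
def decρ (a : SimplexCategory) : dec.obj a ⟶ a :=
  SimplexCategory.Hom.mk
    { toFun := fun i => Fin.cases 0 (fun j => j) i
      monotone' := by
        intro i j hij
        induction i using Fin.cases with
        | zero => exact Fin.zero_le _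
        | succ i =>
          induction j using Fin.cases with
          | zero => exact absurd hij (by simp)
          | succ j =>
            exact Fin.succ_le_succ_iff.1 hij }

lemma decι_ρ (a : SimplexCategory) : decι a ≫ decρ a = 𝟙 a := by
  apply SimplexCategory.Hom.ext
  ext i : 2
  rfl

lemma decι_naturality {a b : SimplexCategory} (f : a ⟶ b) :
    f ≫ decι b = decι a ≫ dec.map f := by
  apply SimplexCategory.Hom.ext
  ext i : 2
  rfl

lemma dec_map_δ {n : ℕ} (i : Fin (n + 2)) :
    dec.map (SimplexCategory.δ i) = SimplexCategory.δ i.succ := by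
  apply SimplexCategory.Hom.ext
  ext j : 2
  induction j using Fin.cases with
  | zero =>
    exact (Fin.succ_succAbove_zero (n := n + 2) i).symm
  | succ j =>
    exact (Fin.succ_succAbove_succ i (show Fin (n + 1) from j)).symm

lemma exact_of_contraction {S : ShortComplex A} (r : S.X₂ ⟶ S.X₁) (s : S.X₃ ⟶ S.X₂)
    (h : r ≫ S.f + S.g ≫ s = 𝟙 _) : S.Exact := by
  rw [ShortComplex.exact_iff_exact_up_to_refinements]
  intro W x₂ hx₂
  refine ⟨W, 𝟙 W, inferInstance, x₂ ≫ r, ?_⟩
  rw [Category.id_comp, Category.assoc]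
  calc x₂ = x₂ ≫ 𝟙 _ := (Category.comp_id _).symm
   _ = x₂ ≫ (r ≫ S.f + S.g ≫ s) := by rw [h]
   _ = x₂ ≫ r ≫ S.f := by
      rw [Preadditive.comp_add, ← Category.assoc x₂ S.g, hx₂, zero_comp, add_zero]

open AlgebraicTopology

/-- the differential of the décalage in terms of `F` -/
noncomputable def dD (F : SimplexCategory ⥤ A) (n : ℕ) : F.obj ⦋n + 1⦌ ⟶ F.obj ⦋n + 2⦌ :=
  ∑ i : Fin (n + 2), (-1 : ℤ) ^ (i : ℕ) • F.map (SimplexCategory.δ i.succ)

lemma objD_dec (F : SimplexCategory ⥤ A) (n : ℕ) :
    AlternatingCofaceMapComplex.objD (dec ⋙ F : CosimplicialObject A) n = dD F n := by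
  unfold dD
  simp only [AlternatingCofaceMapComplex.objD]
  apply Finset.sum_congr rfl
  intro i _
  congr 1
  exact congrArg F.map (dec_map_δ i)

lemma contraction (F : SimplexCategory ⥤ A) (n : ℕ) :
    F.map (SimplexCategory.σ (0 : Fin (n + 2))) ≫ dD F n +
      dD F (n + 1) ≫ F.map (SimplexCategory.σ (0 : Fin (n + 3))) = 𝟙 (F.obj ⦋n + 2⦌) := by
  unfold dD
  rw [Preadditive.comp_sum, Preadditive.sum_comp, Fin.sum_univ_succ (n := n + 2)]
  have h1 : ∀ j : Fin (n + 2), F.map (SimplexCategory.σ (0 : Fin (n + 2))) ≫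
      ((-1 : ℤ) ^ (j : ℕ) • F.map (SimplexCategory.δ j.succ)) =
      (-1 : ℤ) ^ (j : ℕ) • F.map (SimplexCategory.σ (0 : Fin (n + 2)) ≫ SimplexCategory.δ j.succ) := by
    intro j
    rw [Preadditive.comp_zsmul, F.map_comp]
  have h3 : ∀ j : Fin (n + 2),
      ((-1 : ℤ) ^ ((j.succ : Fin (n + 3)) : ℕ) • F.map (SimplexCategory.δ j.succ.succ)) ≫
        F.map (SimplexCategory.σ (0 : Fin (n + 3))) =
      -((-1 : ℤ) ^ (j : ℕ) •
        F.map (SimplexCategory.σ (0 : Fin (n + 2)) ≫ SimplexCategory.δ j.succ)) := by
    intro j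
    have h := @SimplexCategory.δ_comp_σ_of_gt (n + 1) j.succ 0 (Fin.succ_pos j)
    rw [Fin.castSucc_zero] at h
    rw [Preadditive.zsmul_comp, ← F.map_comp, h, Fin.val_succ, pow_succ, mul_neg_one, neg_smul]
  have h2 : ((-1 : ℤ) ^ ((0 : Fin (n + 3)) : ℕ) • F.map (SimplexCategory.δ (0 : Fin (n + 3)).succ)) ≫
      F.map (SimplexCategory.σ (0 : Fin (n + 3))) = 𝟙 (F.obj ⦋n + 2⦌) := by
    rw [Preadditive.zsmul_comp, ← F.map_comp, SimplexCategory.δ_comp_σ_succ, F.map_id]
    simp
  rw [h2]
  simp only [h1, h3]
  rw [Finset.sum_neg_distrib]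
  abel

lemma alt_d_dec (F : SimplexCategory ⥤ A) (n : ℕ) :
    ((altF (A := A)).obj (dec ⋙ F)).d n (n + 1) = dD F n :=
  (CochainComplex.of_d _ _ n).trans (objD_dec F n)

lemma isZero_homology_dec (F : SimplexCategory ⥤ A) (n : ℕ) :
    IsZero (((altF (A := A)).obj (dec ⋙ F)).homology (n + 1)) := by
  rw [← HomologicalComplex.exactAt_iff_isZero_homology,
    HomologicalComplex.exactAt_iff' _ n (n + 1) (n + 2) (by simp) (by simp)]
  refine exact_of_contraction (F.map (SimplexCategory.σ (0 : Fin (n + 2))))
    (F.map (SimplexCategory.σ (0 : Fin (n + 3)))) ?_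
  have h := contraction F n
  rw [← alt_d_dec F n, ← alt_d_dec F (n + 1)] at h
  exact h

/-- the natural monomorphism `F ⟶ dec ⋙ F` -/
def decIncl (F : SimplexCategory ⥤ A) : F ⟶ dec ⋙ F where
  app a := F.map (decι a)
  naturality a b f := by
    change F.map f ≫ F.map (decι b) = F.map (decι a) ≫ F.map (dec.map f)
    rw [← F.map_comp, ← F.map_comp, decι_naturality]

instance (F : SimplexCategory ⥤ A) : Mono (decIncl F) := by
  haveI : ∀ a, Mono ((decIncl F).app a) := fun a =>
    (SplitMono.mk (F.map (decρ a)) (by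
      change F.map (decι a) ≫ F.map (decρ a) = 𝟙 _
      rw [← F.map_comp, decι_ρ, F.map_id])).mono
  exact NatTrans.mono_of_mono_app _

/-- the cohomology delta-functor of cosimplicial objects -/
noncomputable def TA : DeltaF.CohDeltaFunctor (SimplexCategory ⥤ A) A ℕ :=
  CosimpDelta.deltaOf (altF (A := A)) shortExact_altF

lemma TA_isEffaceable : (TA (A := A)).IsEffaceable := by
  intro n F
  refine ⟨dec ⋙ F, decIncl F, inferInstance, ?_⟩
  exact (isZero_homology_dec F n).eq_of_tgt _ _

end Cosimp

end Groth.Agent.Lib.Helper4.CosimpDelta2
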