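import Mathlib.Tactic
import Groth.Agent.Lib.Helper14.CechPsh2

namespace Groth.Agent.Lib.Helper4.CosimpExact

open CategoryTheory CategoryTheory.Limits Opposite Simplicial

universe v' u' w' u

section Eval

variable {K : Type w'} [Category K] {A : Type u'} [Category.{v'} A] [Abelian A]

lemma exact_of_evaluation (S : ShortComplex (K ⥤ A))
    (h : ∀ k, (S.map ((evaluation K A).obj k)).Exact) : S.Exact := by
  rw [ShortComplex.exact_iff_isZero_homology, Functor.isZero_iff]
  intro k
  exact IsZero.of_iso ((ShortComplex.exact_iff_isZero_homology _).1 (h k))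
    (S.mapHomologyIso ((evaluation K A).obj k)).symm

lemma shortExact_of_evaluation (S : ShortComplex (K ⥤ A))
    (h : ∀ k, (S.map ((evaluation K A).obj k)).ShortExact) : S.ShortExact := by
  haveI : Mono S.f := by
    haveI : ∀ k, Mono (S.f.app k) := fun k => (h k).mono_f
    exact NatTrans.mono_of_mono_app _
  haveI : Epi S.g := by
    haveI : ∀ k, Epi (S.g.app k) := fun k => (h k).epi_g
    exact NatTrans.epi_of_epi_app _
  exact ⟨exact_of_evaluation S (fun k => (h k).exact)⟩

end Eval

section Tp

variable {D : Type u} [SmallCategory D] (K : SimplicialObject (FormalCoproduct.{u} D))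

/-- the cosimplicial sections functor on presheaves -/
noncomputable abbrev Tp : (Dᵒᵖ ⥤ AddCommGrpCat.{u}) ⥤ (SimplexCategory ⥤ AddCommGrpCat.{u}) :=
  FormalCoproduct.cosimplicialObjectFunctor K

instance : (Tp K).Additive where
  map_add {P Q α β} := by
    ext n : 2
    exact Groth.Agent.Lib.Helper14.CechPsh.piMap_add
      (fun i : ((K.obj (op n)).I) => α.app (op ((K.obj (op n)).obj i)))
      (fun i => β.app (op ((K.obj (op n)).obj i)))

theorem shortExact_Tp (S : ShortComplex (Dᵒᵖ ⥤ AddCommGrpCat.{u})) (hS : S.ShortExact) :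
    (S.map (Tp K)).ShortExact := by
  apply shortExact_of_evaluation
  intro n
  exact Groth.Agent.Lib.Helper14.CechPsh.shortExact_piMap
    (fun i : ((K.obj (op n)).I) => S.f.app (op ((K.obj (op n)).obj i)))
    (fun i => S.g.app _)
    (fun i => (S.map ((evaluation _ _).obj (op ((K.obj (op n)).obj i)))).zero)
    (fun i => hS.map_of_exact ((evaluation _ _).obj (op ((K.obj (op n)).obj i))))

instance : (Tp K).PreservesHomology :=
  ((Functor.exact_tfae (Tp K)).out 0 2).1 (shortExact_Tp K)

end Tp

end Groth.Agent.Lib.Helper4.CosimpExact
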