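import Mathlib.CategoryTheory.Abelian.GrothendieckCategory.EnoughInjectives
import Mathlib.Algebra.Category.Grp.AB
import Mathlib.CategoryTheory.Sites.Sheaf
import Mathlib.CategoryTheory.Abelian.GrothendieckAxioms.Sheaf
import Mathlib.CategoryTheory.Sites.Abelian
import Mathlib.Algebra.Category.Grp.Abelian
import Mathlib.Algebra.Category.Grp.Limits
import Mathlib.Algebra.Category.Grp.Colimits
import Mathlib.CategoryTheory.Sites.LeftExact
import Mathlib.CategoryTheory.Abelian.FunctorCategory
import Mathlib.AlgebraicTopology.SimplexCategory.Basic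
import Mathlib.Tactic

namespace Groth.Agent.Lib.Helper4.CosimpInj

open CategoryTheory CategoryTheory.Limits Opposite

universe u

/-- presheaves of abelian groups on a small category have enough injectives -/
lemma isGrothendieckAbelian_psh (D : Type u) [SmallCategory D] :
    IsGrothendieckAbelian.{u} (Dᵒᵖ ⥤ AddCommGrpCat.{u}) :=
  IsGrothendieckAbelian.of_equivalence (sheafBotEquivalence (C := D) AddCommGrpCat.{u})

/-- cosimplicial abelian groups form a Grothendieck abelian category -/
lemma isGrothendieckAbelian_cosimp :
    IsGrothendieckAbelian.{u} (SimplexCategory ⥤ AddCommGrpCat.{u}) := by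
  haveI := isGrothendieckAbelian_psh ((AsSmall.{u} SimplexCategory)ᵒᵖ)
  let e1 : ((AsSmall.{u} SimplexCategory)ᵒᵖ)ᵒᵖ ≌ SimplexCategory :=
    (opOpEquivalence (AsSmall.{u} SimplexCategory)).trans AsSmall.equiv.symm
  exact IsGrothendieckAbelian.of_equivalence (e1.congrLeft (E := AddCommGrpCat.{u}))

instance enoughInjectives_cosimp : EnoughInjectives (SimplexCategory ⥤ AddCommGrpCat.{u}) := by
  haveI := isGrothendieckAbelian_cosimp.{u}
  infer_instance

end Groth.Agent.Lib.Helper4.CosimpInj
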