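import Mathlib.Tactic
import Groth.Agent.Lib.Helper4.CosimpDelta2
import Groth.Agent.Lib.Helper6.RpushNatIso
import Groth.Agent.Lib.Helper6.GrothSS

namespace Groth.Agent.Lib.Helper4.CosimpLim

open CategoryTheory CategoryTheory.Limits Simplicial AlgebraicTopology
open Groth.Agent.Lib.Helper4.CosimpDelta2 Groth.Agent.Lib.Helper4

universe v u

variable {A : Type u} [Category.{v} A] [Abelian A]

/-- `R^n (H^0 ∘ Alt) ≅ H^n ∘ Alt` on cosimplicial objects -/
theorem nonempty_rightDerived_iso [EnoughInjectives (SimplexCategory ⥤ A)] (n : ℕ) :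
    Nonempty ((altF (A := A) ⋙ HomologicalComplex.homologyFunctor A (ComplexShape.up ℕ) 0).rightDerived n ≅
      altF (A := A) ⋙ HomologicalComplex.homologyFunctor A (ComplexShape.up ℕ) n) := by
  haveI := CosimpDelta.preservesFiniteLimits_H0 (altF (A := A)) shortExact_altF
  exact Groth.Agent.Lib.Helper6.RpushNatIso.nonempty_iso_of_effaceable
    (altF (A := A) ⋙ HomologicalComplex.homologyFunctor A (ComplexShape.up ℕ) 0) (TA (A := A))
    TA_isEffaceable (Functor.rightDerivedZeroIsoSelf _) n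

/-- the first differential, in terms of `F` -/
def d01 (F : SimplexCategory ⥤ A) : F.obj ⦋0⦌ ⟶ F.obj ⦋1⦌ :=
  F.map (SimplexCategory.δ 0) - F.map (SimplexCategory.δ 1)

lemma alt_d01 (F : SimplexCategory ⥤ A) :
    ((altF (A := A)).obj F).d 0 1 = d01 F := by
  have h : ((altF (A := A)).obj F).d 0 1 = AlternatingCofaceMapComplex.objD F 0 :=
    CochainComplex.of_d (fun n => F.obj ⦋n⦌) (AlternatingCofaceMapComplex.objD F) 0
  rw [h]
  simp only [AlternatingCofaceMapComplex.objD]
  rw [Fin.sum_univ_two]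
  unfold d01
  simp
  rw [sub_eq_add_neg]
  rfl

/-- the inclusion of the degree-zero cycles -/
noncomputable def ι0 (F : SimplexCategory ⥤ A) : ((altF (A := A)).obj F).cycles 0 ⟶ F.obj ⦋0⦌ :=
  ((altF (A := A)).obj F).iCycles 0

instance (F : SimplexCategory ⥤ A) : Mono (ι0 F) :=
  inferInstanceAs (Mono (((altF (A := A)).obj F).iCycles 0))

lemma ι0_d01 (F : SimplexCategory ⥤ A) : ι0 F ≫ d01 F = 0 := by
  have h := ((altF (A := A)).obj F).iCycles_d 0 1
  rw [alt_d01] at h
  exact h

/-- lifting to the degree-zero cycles -/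
noncomputable def lift0 (F : SimplexCategory ⥤ A) {W : A} (k : W ⟶ F.obj ⦋0⦌) (hk : k ≫ d01 F = 0) :
    W ⟶ ((altF (A := A)).obj F).cycles 0 :=
  ((altF (A := A)).obj F).liftCycles k 1 (by simp) (by rw [alt_d01]; exact hk)

lemma lift0_ι0 (F : SimplexCategory ⥤ A) {W : A} (k : W ⟶ F.obj ⦋0⦌) (hk : k ≫ d01 F = 0) :
    lift0 F k hk ≫ ι0 F = k :=
  HomologicalComplex.liftCycles_i _ _ _ _ _

lemma ι0_eq (F : SimplexCategory ⥤ A) :
    ι0 F ≫ F.map (SimplexCategory.δ 0) = ι0 F ≫ F.map (SimplexCategory.δ 1) := by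
  have h := ι0_d01 F
  unfold d01 at h
  rw [Preadditive.comp_sub, sub_eq_zero] at h
  exact h

lemma ι0_const_le (F : SimplexCategory ⥤ A) (a : SimplexCategory) (i j : Fin (a.len + 1))
    (h : i ≤ j) :
    ι0 F ≫ F.map (SimplexCategory.const ⦋0⦌ a i) = ι0 F ≫ F.map (SimplexCategory.const ⦋0⦌ a j) := by
  have h1 : SimplexCategory.δ (1 : Fin 2) ≫ SimplexCategory.mkOfLe (n := a.len) i j h =
      SimplexCategory.const ⦋0⦌ a i := SimplexCategory.Hom.ext_zero_left _ _ rfl
  have h0 : SimplexCategory.δ (0 : Fin 2) ≫ SimplexCategory.mkOfLe (n := a.len) i j h =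
      SimplexCategory.const ⦋0⦌ a j := SimplexCategory.Hom.ext_zero_left _ _ rfl
  rw [← h1, ← h0, F.map_comp, F.map_comp, ← Category.assoc, ← Category.assoc, ι0_eq]

lemma ι0_const (F : SimplexCategory ⥤ A) (a : SimplexCategory) (i j : Fin (a.len + 1)) :
    ι0 F ≫ F.map (SimplexCategory.const ⦋0⦌ a i) = ι0 F ≫ F.map (SimplexCategory.const ⦋0⦌ a j) := by
  rcases le_total i j with h | h
  · exact ι0_const_le F a i j h
  · exact (ι0_const_le F a j i h).symm

/-- the cone with vertex the degree-zero cycles -/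
noncomputable def cyclesCone (F : SimplexCategory ⥤ A) : Cone F where
  pt := ((altF (A := A)).obj F).cycles 0
  π :=
    { app := fun a => ι0 F ≫ F.map (SimplexCategory.const ⦋0⦌ a 0)
      naturality := fun a b f => by
        dsimp
        rw [Category.id_comp, Category.assoc, ← F.map_comp, SimplexCategory.const_comp]
        exact ι0_const F b _ _ }

lemma cone_d01 (F : SimplexCategory ⥤ A) (s : Cone F) : s.π.app ⦋0⦌ ≫ d01 F = 0 := by
  unfold d01
  rw [Preadditive.comp_sub, s.w, s.w, sub_self]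

/-- the degree-zero cycles are the limit -/
noncomputable def isLimitCyclesCone (F : SimplexCategory ⥤ A) : IsLimit (cyclesCone F) where
  lift s := lift0 F (s.π.app ⦋0⦌) (cone_d01 F s)
  fac s a := by
    change _ ≫ ι0 F ≫ F.map (SimplexCategory.const ⦋0⦌ a 0) = _
    rw [← Category.assoc, lift0_ι0, s.w]
  uniq s m hm := by
    refine (cancel_mono (ι0 F)).1 ?_
    rw [lift0_ι0]
    have h := hm ⦋0⦌
    have e : ι0 F ≫ F.map (SimplexCategory.const ⦋0⦌ ⦋0⦌ 0) = ι0 F := by
      rw [SimplexCategory.const_eq_id, F.map_id, Category.comp_id]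
    exact (congrArg (fun t => m ≫ t) e).symm.trans h

section Lim

variable [HasLimitsOfShape SimplexCategory A]

/-- comparison from the limit to the degree-zero cycles -/
noncomputable def toCycles (F : SimplexCategory ⥤ A) :
    limit F ⟶ ((altF (A := A)).obj F).cycles 0 :=
  lift0 F (limit.π F ⦋0⦌) (cone_d01 F (limit.cone F))

lemma toCycles_ι0 (F : SimplexCategory ⥤ A) : toCycles F ≫ ι0 F = limit.π F ⦋0⦌ :=
  lift0_ι0 F _ _

instance (F : SimplexCategory ⥤ A) : IsIso (toCycles F) := by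
  let e := (limit.isLimit F).conePointUniqueUpToIso (isLimitCyclesCone F)
  exact ⟨⟨e.inv, e.hom_inv_id, e.inv_hom_id⟩⟩

omit [HasLimitsOfShape SimplexCategory A] in
lemma isIso_homologyπ0 (F : SimplexCategory ⥤ A) : IsIso (((altF (A := A)).obj F).homologyπ 0) :=
  HomologicalComplex.isIso_homologyπ _ 0 0 (by simp) (by simp)

omit [HasLimitsOfShape SimplexCategory A] in
lemma cyclesMap_ι0 {F G : SimplexCategory ⥤ A} (φ : F ⟶ G) :
    HomologicalComplex.cyclesMap ((altF (A := A)).map φ) 0 ≫ ι0 G = ι0 F ≫ φ.app ⦋0⦌ :=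
  HomologicalComplex.cyclesMap_i ((altF (A := A)).map φ) 0

lemma toCycles_naturality {F G : SimplexCategory ⥤ A} (φ : F ⟶ G) :
    limMap φ ≫ toCycles G = toCycles F ≫ HomologicalComplex.cyclesMap ((altF (A := A)).map φ) 0 := by
  refine (cancel_mono (ι0 G)).1 ?_
  rw [Category.assoc, Category.assoc, toCycles_ι0, cyclesMap_ι0, ← Category.assoc, toCycles_ι0,
    limMap_π]

/-- the componentwise isomorphism -/
noncomputable def compIso (F : SimplexCategory ⥤ A) :
    limit F ≅ ((altF (A := A)).obj F).homology 0 :=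
  haveI := isIso_homologyπ0 F
  asIso (toCycles F) ≪≫ asIso (((altF (A := A)).obj F).homologyπ 0)

/-- `lim ≅ H^0 ∘ Alt` -/
noncomputable def limIso : (lim : (SimplexCategory ⥤ A) ⥤ A) ≅
    altF (A := A) ⋙ HomologicalComplex.homologyFunctor A (ComplexShape.up ℕ) 0 :=
  NatIso.ofComponents
    (fun F => compIso F)
    (fun {F G} φ => by
      change limMap φ ≫ toCycles G ≫ ((altF (A := A)).obj G).homologyπ 0 =
        (toCycles F ≫ ((altF (A := A)).obj F).homologyπ 0) ≫
          HomologicalComplex.homologyMap ((altF (A := A)).map φ) 0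
      rw [Category.assoc, HomologicalComplex.homologyπ_naturality, ← Category.assoc,
        ← Category.assoc, toCycles_naturality])

theorem main8568 [EnoughInjectives (SimplexCategory ⥤ A)]
    [(lim : (SimplexCategory ⥤ A) ⥤ A).Additive] (F : SimplexCategory ⥤ A) (n : ℕ) :
    Nonempty (((lim : (SimplexCategory ⥤ A) ⥤ A).rightDerived n).obj F ≅
      ((AlgebraicTopology.alternatingCofaceMapComplex A).obj F).homology n) := by
  obtain ⟨e⟩ := nonempty_rightDerived_iso (A := A) n
  exact ⟨(Groth.Agent.Lib.Helper6.GrothSS.rightDerivedIsoOfIso limIso n).app F ≪≫ e.app F⟩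

end Lim

end Groth.Agent.Lib.Helper4.CosimpLim
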