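import Mathlib.Tactic
import Mathlib.AlgebraicTopology.SimplicialSet.CategoryWithFibrations
import Mathlib.AlgebraicTopology.SimplicialObject.Coskeletal
import Mathlib.AlgebraicTopology.SimplicialSet.Boundary

namespace Groth.Agent.Lib.Helper4.Cosk

open CategoryTheory Simplicial Opposite SSet

universe u

lemma cosk_ext {U : SSet.{u}} (n : ℕ) [SimplicialObject.IsCoskeletal U n] {A : SSet.{u}}
    (g g' : A ⟶ U) (h : ∀ i : ℕ, i ≤ n → g.app (op ⦋i⦌) = g'.app (op ⦋i⦌)) : g = g' := by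
  apply Functor.hom_ext_of_isRightKanExtension U
    (𝟙 ((SimplexCategory.Truncated.inclusion n).op ⋙ U))
  congr 1
  ext ⟨⟨a, ha⟩⟩ : 2
  induction a using SimplexCategory.rec with
  | _ i => exact congrArg ConcreteCategory.hom (h i ha)

lemma isIso_whiskerLeft_boundary_ι (n m : ℕ) (hnm : n < m) :
    IsIso (Functor.whiskerLeft (SimplexCategory.Truncated.inclusion n).op (boundary.{u} m).ι) := by
  have : ∀ X, IsIso ((Functor.whiskerLeft (SimplexCategory.Truncated.inclusion n).op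
      (boundary.{u} m).ι).app X) := by
    rintro ⟨⟨a, ha⟩⟩
    induction a using SimplexCategory.rec with
    | _ i =>
      rw [isIso_iff_bijective]
      have hi : i < m := lt_of_le_of_lt ha hnm
      have huniv := boundary_obj_eq_univ.{u} i m hi
      constructor
      · intro x y hxy
        exact Subtype.ext hxy
      · intro y
        have hy : y ∈ (boundary.{u} m).obj (op ⦋i⦌) := by rw [huniv]; trivial
        exact ⟨⟨y, hy⟩, rfl⟩
  exact NatIso.isIso_of_isIso_app _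

lemma cosk_lift {V : SSet.{u}} (n m : ℕ) (hnm : n < m) [SimplicialObject.IsCoskeletal V n]
    (t : (∂Δ[m] : SSet.{u}) ⟶ V) : ∃ l : Δ[m] ⟶ V, (boundary.{u} m).ι ≫ l = t := by
  haveI := isIso_whiskerLeft_boundary_ι.{u} n m hnm
  let α := 𝟙 ((SimplexCategory.Truncated.inclusion n).op ⋙ V)
  refine ⟨Functor.liftOfIsRightKanExtension V α _
    (inv (Functor.whiskerLeft (SimplexCategory.Truncated.inclusion n).op (boundary.{u} m).ι) ≫
      Functor.whiskerLeft (SimplexCategory.Truncated.inclusion n).op t), ?_⟩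
  apply Functor.hom_ext_of_isRightKanExtension V α
  rw [Functor.whiskerLeft_comp, Category.assoc, Functor.liftOfIsRightKanExtension_fac,
    IsIso.hom_inv_id_assoc]
  simp [α]

lemma hasLift_zero {X' Y' : SSet.{u}} (p : X' ⟶ Y') {t : (∂Δ[0] : SSet.{u}) ⟶ X'}
    {b : Δ[0] ⟶ Y'} (sq : CommSq t (boundary.{u} 0).ι p b) (x : X' _⦋0⦌)
    (hx : p.app _ x = yonedaEquiv b) : sq.HasLift := by
  refine ⟨⟨{ l := yonedaEquiv.symm x, fac_left := boundary.hom_ext₀, fac_right := ?_ }⟩⟩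
  rw [yonedaEquiv_symm_comp, hx, Equiv.symm_apply_apply]

lemma hasLift_succ {X' Y' : SSet.{u}} (p : X' ⟶ Y') {m : ℕ} {t : (∂Δ[m + 1] : SSet.{u}) ⟶ X'}
    {b : Δ[m + 1] ⟶ Y'} (sq : CommSq t (boundary.{u} (m + 1)).ι p b) (x : X' _⦋m + 1⦌)
    (hx : p.app _ x = yonedaEquiv b)
    (hxi : ∀ i, X'.δ i x = yonedaEquiv (boundary.ι i ≫ t)) : sq.HasLift := by
  refine ⟨⟨{ l := yonedaEquiv.symm x, fac_left := ?_, fac_right := ?_ }⟩⟩
  · apply boundary.hom_ext
    intro i
    rw [boundary.ι_ι_assoc, stdSimplex.δ_comp_yonedaEquiv_symm, hxi, Equiv.symm_apply_apply]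
  · rw [yonedaEquiv_symm_comp, hx, Equiv.symm_apply_apply]

lemma p_faces {X' Y' : SSet.{u}} (p : X' ⟶ Y') {m : ℕ} {t : (∂Δ[m + 1] : SSet.{u}) ⟶ X'}
    {b : Δ[m + 1] ⟶ Y'} (sq : CommSq t (boundary.{u} (m + 1)).ι p b) (i : Fin (m + 2)) :
    p.app _ (yonedaEquiv (boundary.ι i ≫ t)) = Y'.δ i (yonedaEquiv b) := by
  rw [← yonedaEquiv_comp, Category.assoc, sq.w, boundary.ι_ι_assoc,
    stdSimplex.yonedaEquiv_δ_comp]

theorem main6782 {U V : SSet.{u}} (f : V ⟶ U) (n : ℕ)
    (h1 : ∀ i : ℕ, i < n → Function.Bijective (f.app (op (SimplexCategory.mk i))))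
    (h2 : Function.Surjective (f.app (op (SimplexCategory.mk n))))
    [SimplicialObject.IsCoskeletal U n] [SimplicialObject.IsCoskeletal V n] :
    SSet.modelCategoryQuillen.I.rlp f := by
  have hsurj : ∀ i, i ≤ n → Function.Surjective (f.app (op (SimplexCategory.mk i))) := by
    intro i hi
    rcases hi.lt_or_eq with h | h
    · exact (h1 i h).2
    · subst h; exact h2
  intro A B i hi
  obtain ⟨m⟩ := hi
  constructor
  intro t b sq
  by_cases hmn : m ≤ n
  · obtain ⟨x, hx⟩ := hsurj m hmn (yonedaEquiv b)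
    rcases m with _ | m
    · exact hasLift_zero f sq x hx
    · refine hasLift_succ f sq x hx ?_
      intro i
      apply (h1 m (by omega)).1
      rw [p_faces f sq i, ← hx]
      exact ConcreteCategory.congr_hom (f.naturality (SimplexCategory.δ i).op) x
  · rw [not_le] at hmn
    obtain ⟨l, hl⟩ := cosk_lift n m hmn t
    refine ⟨⟨{ l := l, fac_left := hl, fac_right := ?_ }⟩⟩
    apply cosk_ext n
    intro i hi
    have hi' : i < m := lt_of_le_of_lt hi hmn
    have huniv := boundary_obj_eq_univ.{u} i m hi'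
    ext y
    have hy : y ∈ (boundary.{u} m).obj (op ⦋i⦌) := by rw [huniv]; trivial
    have e1 := ConcreteCategory.congr_hom (congr_app sq.w (op ⦋i⦌)) ⟨y, hy⟩
    have e2 := ConcreteCategory.congr_hom (congr_app hl (op ⦋i⦌)) ⟨y, hy⟩
    have e3 : f.app (op ⦋i⦌) (l.app (op ⦋i⦌) y) = f.app (op ⦋i⦌) (t.app (op ⦋i⦌) ⟨y, hy⟩) :=
      congrArg (f.app (op ⦋i⦌)) e2
    exact e3.trans e1

end Groth.Agent.Lib.Helper4.Cosk
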