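import Mathlib.Tactic
import Mathlib.AlgebraicTopology.SimplicialObject.Coskeletal
import Mathlib.CategoryTheory.Limits.Preserves.Finite
import Mathlib.CategoryTheory.Functor.KanExtension.Preserves
import Groth.Agent.S6800

namespace Groth.Agent.Lib.Helper4.CoskGen

open CategoryTheory CategoryTheory.Limits Opposite Simplicial

universe v' u' v'' u''

variable {E : Type u'} [Category.{v'} E]
  [∀ (n : ℕ) (F : (SimplexCategory.Truncated n)ᵒᵖ ⥤ E),
    (SimplexCategory.Truncated.inclusion n).op.HasPointwiseRightKanExtension F]

theorem isCoskeletal_of_le (U : SimplicialObject E) {n m : ℕ} (h : n ≤ m) [U.IsCoskeletal n] :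
    U.IsCoskeletal m := by
  rw [SimplicialObject.isCoskeletal_iff_isIso]
  set η := (SimplicialObject.coskAdj m).unit.app U with hη
  -- the restriction of `η` to level `m` is an isomorphism
  have htri := (SimplicialObject.coskAdj (C := E) m).left_triangle_components U
  have hm : IsIso ((SimplicialObject.truncation m).map η) := by
    have hc : IsIso ((SimplicialObject.coskAdj (C := E) m).counit.app
        ((SimplicialObject.truncation m).obj U)) := inferInstance
    have hcomp : IsIso ((SimplicialObject.truncation m).map η ≫
        (SimplicialObject.coskAdj (C := E) m).counit.app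
          ((SimplicialObject.truncation m).obj U)) := by
      rw [hη, htri]; exact IsIso.id _
    exact IsIso.of_isIso_comp_right _ ((SimplicialObject.coskAdj (C := E) m).counit.app
          ((SimplicialObject.truncation m).obj U))
  -- hence so is the restriction to level `n`
  have hn : IsIso (Functor.whiskerLeft (SimplexCategory.Truncated.inclusion n).op η) := by
    rw [NatTrans.isIso_iff_isIso_app]
    intro k
    exact (inferInstance : IsIso (((SimplicialObject.truncation m).map η).app
      (Opposite.op ⟨k.unop.obj, le_trans k.unop.property h⟩)))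
  let EE := fun Y : SimplicialObject E =>
    Functor.homEquivOfIsRightKanExtension U
      (𝟙 ((SimplexCategory.Truncated.inclusion n).op ⋙ U)) Y
  let γ := (EE _).symm (inv (Functor.whiskerLeft (SimplexCategory.Truncated.inclusion n).op η))
  have hE : ∀ (Y : SimplicialObject E) (β : Y ⟶ U), EE Y β =
      Functor.whiskerLeft (SimplexCategory.Truncated.inclusion n).op β ≫ 𝟙 _ := fun _ _ => rfl
  have hγ : Functor.whiskerLeft (SimplexCategory.Truncated.inclusion n).op γ =
      inv (Functor.whiskerLeft (SimplexCategory.Truncated.inclusion n).op η) := by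
    have := (EE _).apply_symm_apply
      (inv (Functor.whiskerLeft (SimplexCategory.Truncated.inclusion n).op η))
    rw [hE, Category.comp_id] at this
    exact this
  have h1 : η ≫ γ = 𝟙 _ := by
    apply (EE _).injective
    rw [hE, hE, Functor.whiskerLeft_comp, hγ, IsIso.hom_inv_id]
    rfl
  have h2 : γ ≫ η = 𝟙 _ := by
    apply ((SimplicialObject.coskAdj (C := E) m).homEquiv _ _).symm.injective
    simp only [Adjunction.homEquiv_counit]
    congr 1
    have h3 : (SimplicialObject.truncation m).map η ≫ (SimplicialObject.truncation m).map γ =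
        𝟙 _ := by
      rw [← Functor.map_comp, h1, CategoryTheory.Functor.map_id]
    have h4 : (SimplicialObject.truncation m).map γ =
        inv ((SimplicialObject.truncation m).map η) := by
      rw [← cancel_epi ((SimplicialObject.truncation m).map η), h3, IsIso.hom_inv_id]
    rw [Functor.map_comp, h4, IsIso.inv_hom_id, CategoryTheory.Functor.map_id]
  exact ⟨γ, h1, h2⟩


variable (K : SimplicialObject E)

/-- the unit -/
noncomputable abbrev η (n : ℕ) : K ⟶ (SimplicialObject.cosk n).obj K :=
  (SimplicialObject.coskAdj n).unit.app K

lemma isIso_counit_app (n : ℕ) (Y : SimplicialObject.Truncated E n) :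
    IsIso ((SimplicialObject.coskAdj n).counit.app Y) := by
  haveI : IsIso (SimplicialObject.coskAdj (C := E) n).counit :=
    SimplicialObject.Truncated.cosk_reflective n
  infer_instance

instance isIso_truncation_unit (n : ℕ) : IsIso ((SimplicialObject.truncation n).map (η K n)) := by
  have h := (SimplicialObject.coskAdj n).left_triangle_components K
  have : IsIso ((SimplicialObject.coskAdj n).counit.app ((SimplicialObject.truncation n).obj K)) :=
    isIso_counit_app n _
  exact IsIso.of_isIso_fac_right h

lemma isIso_unit_app (n : ℕ) (d : SimplexCategory) (hd : d.len ≤ n) :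
    IsIso ((η K n).app (op d)) := by
  have : IsIso (((SimplicialObject.truncation n).map (η K n)).app (op ⟨d, hd⟩)) := inferInstance
  exact this

instance isIso_unit_cosk (n : ℕ) :
    IsIso ((SimplicialObject.coskAdj n).unit.app ((SimplicialObject.cosk n).obj K)) := by
  have h := (SimplicialObject.coskAdj n).right_triangle_components
    ((SimplicialObject.truncation n).obj K)
  haveI := isIso_counit_app n ((SimplicialObject.truncation n).obj K)
  show IsIso ((SimplicialObject.coskAdj n).unit.app
    ((SimplicialObject.Truncated.cosk n).obj ((SimplicialObject.truncation n).obj K)))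
  have hη : (SimplicialObject.coskAdj n).unit.app
      ((SimplicialObject.Truncated.cosk n).obj ((SimplicialObject.truncation n).obj K)) =
      inv ((SimplicialObject.Truncated.cosk n).map
        ((SimplicialObject.coskAdj n).counit.app ((SimplicialObject.truncation n).obj K))) := by
    have := congrArg (· ≫ inv ((SimplicialObject.Truncated.cosk n).map
        ((SimplicialObject.coskAdj n).counit.app ((SimplicialObject.truncation n).obj K)))) h
    simp
  rw [hη]
  infer_instance

instance isIso_truncation_unit_succ (n : ℕ) :
    IsIso ((SimplicialObject.truncation n).map (η K (n + 1))) := by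
  rw [NatTrans.isIso_iff_isIso_app]
  intro k
  exact isIso_unit_app K (n + 1) k.unop.obj (k.unop.property.trans (Nat.le_succ n))

/-- the transition map -/
noncomputable def t (n : ℕ) : (SimplicialObject.cosk (n + 1)).obj K ⟶ (SimplicialObject.cosk n).obj K :=
  (SimplicialObject.coskAdj n).homEquiv _ _ (inv ((SimplicialObject.truncation n).map (η K (n + 1))))

lemma η_t (n : ℕ) : η K (n + 1) ≫ t K n = η K n := by
  unfold t
  rw [← Adjunction.homEquiv_naturality_left, IsIso.hom_inv_id, Adjunction.homEquiv_id]

lemma isIso_t_app (n : ℕ) (d : SimplexCategory) (hd : d.len ≤ n) : IsIso ((t K n).app (op d)) := by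
  have h := NatTrans.congr_app (η_t K n) (op d)
  rw [NatTrans.comp_app] at h
  haveI := isIso_unit_app K (n + 1) d (hd.trans (Nat.le_succ n))
  haveI := isIso_unit_app K n d hd
  exact IsIso.of_isIso_fac_left h

lemma t_app_succ (n : ℕ) :
    haveI := isIso_unit_app K (n + 1) ⦋n + 1⦌ le_rfl
    (t K n).app (op ⦋n + 1⦌) = inv ((η K (n + 1)).app (op ⦋n + 1⦌)) ≫ (η K n).app (op ⦋n + 1⦌) := by
  haveI := isIso_unit_app K (n + 1) ⦋n + 1⦌ le_rfl
  rw [IsIso.eq_inv_comp, ← NatTrans.comp_app, η_t]

instance isCoskeletal_cosk (n : ℕ) :
    SimplicialObject.IsCoskeletal ((SimplicialObject.cosk n).obj K) n :=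
  (SimplicialObject.isCoskeletal_iff_isIso _ n).2 (isIso_unit_cosk K n)

lemma isCoskeletal_cosk_succ (n : ℕ) :
    SimplicialObject.IsCoskeletal ((SimplicialObject.cosk n).obj K) (n + 1) :=
  isCoskeletal_of_le _ (Nat.le_succ n)


theorem isCoskeletal_comp {E' : Type u''} [Category.{v''} E'] (G : E ⥤ E') [PreservesFiniteLimits G]
    (V : SimplicialObject E) (n : ℕ) [V.IsCoskeletal n] :
    SimplicialObject.IsCoskeletal (V ⋙ G) n := by
  have hpw : (SimplexCategory.Truncated.inclusion n).op.HasPointwiseRightKanExtension
      ((SimplexCategory.Truncated.inclusion n).op ⋙ V) := inferInstance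
  have hpres : ∀ m : SimplexCategoryᵒᵖ, PreservesLimitsOfShape
      (StructuredArrow m (SimplexCategory.Truncated.inclusion n).op) G := fun m => by
    have := Groth.Agent.S6800.finite_structuredArrow n m
    have : Fintype (StructuredArrow m (SimplexCategory.Truncated.inclusion n).op) :=
      Fintype.ofFinite _
    have : FinCategory (StructuredArrow m (SimplexCategory.Truncated.inclusion n).op) :=
      { fintypeHom := fun A B => by
          have := Groth.Agent.S6800.finite_structuredArrow_hom n m A B
          exact Fintype.ofFinite _ }
    infer_instance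
  have : G.PreservesRightKanExtension
      ((SimplexCategory.Truncated.inclusion n).op ⋙ V) (SimplexCategory.Truncated.inclusion n).op :=
    inferInstance
  have h := Functor.PreservesRightKanExtension.preserves (G := G) V
    (𝟙 ((SimplexCategory.Truncated.inclusion n).op ⋙ V))
  have heq : (((SimplexCategory.Truncated.inclusion n).op.associator V G).inv ≫
      Functor.whiskerRight (𝟙 ((SimplexCategory.Truncated.inclusion n).op ⋙ V)) G) =
      𝟙 (((SimplexCategory.Truncated.inclusion n).op ⋙ V) ⋙ G) := by
    ext x
    simp
  rw [heq] at h
  exact ⟨h⟩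

/-- variant with unit isomorphisms -/
theorem isIso_unit_comp {E' : Type u''} [Category.{v''} E'] (G : E ⥤ E') [PreservesFiniteLimits G]
    (n : ℕ)
    (V : SimplicialObject E) (h : IsIso ((SimplicialObject.coskAdj n).unit.app V)) :
    SimplicialObject.IsCoskeletal (V ⋙ G) n := by
  have : V.IsCoskeletal n := (SimplicialObject.isCoskeletal_iff_isIso V n).2 h
  exact isCoskeletal_comp G V n


end Groth.Agent.Lib.Helper4.CoskGen
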