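import Mathlib.Tactic
import Mathlib.AlgebraicTopology.SimplicialSet.Homotopy
import Groth.Agent.Lib.Helper4.Cosk

namespace Groth.Agent.Lib.Helper4.CoskHtpy

open CategoryTheory Simplicial Opposite SSet MonoidalCategory

universe u

lemma eq_on_nonsurj {U V : SSet.{u}} (f₀ f₁ : V ⟶ U) (n : ℕ)
    (h : ∀ i : ℕ, i < n → f₀.app (op ⦋i⦌) = f₁.app (op ⦋i⦌))
    {a b : SimplexCategory} (hb : b.len ≤ n) (θ : a ⟶ b) (hθ : θ.toOrderHom 0 ≠ 0)
    (v : V.obj (op b)) :
    f₁.app (op a) (V.map θ.op v) = f₀.app (op a) (V.map θ.op v) := by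
  induction b using SimplexCategory.rec with
  | _ j =>
    rcases j with _ | k
    · exact absurd (Subsingleton.elim (α := Fin 1) _ _) hθ
    · have hns : ¬ Function.Surjective θ.toOrderHom := by
        intro hs
        obtain ⟨x, hx⟩ := hs 0
        apply hθ
        have : θ.toOrderHom 0 ≤ θ.toOrderHom x := θ.toOrderHom.monotone (Fin.zero_le _)
        rw [hx] at this
        exact le_antisymm this (Fin.zero_le _)
      obtain ⟨i, θ', rfl⟩ := SimplexCategory.eq_comp_δ_of_not_surjective θ hns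
      have hk : k < n := by
        have : (⦋k + 1⦌ : SimplexCategory).len = k + 1 := rfl
        omega
      have e1 : V.map (θ' ≫ SimplexCategory.δ i).op v = V.map θ'.op (V.map (SimplexCategory.δ i).op v) := by
        rw [op_comp, Functor.map_comp]; rfl
      rw [e1]
      have n1 := ConcreteCategory.congr_hom (f₁.naturality θ'.op) (V.map (SimplexCategory.δ i).op v)
      have n0 := ConcreteCategory.congr_hom (f₀.naturality θ'.op) (V.map (SimplexCategory.δ i).op v)
      refine n1.trans (Eq.trans ?_ n0.symm)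
      change U.map θ'.op (f₁.app (op ⦋k⦌) _) = U.map θ'.op (f₀.app (op ⦋k⦌) _)
      rw [h k hk]

open Classical in
/-- The level-wise definition of the homotopy. -/
noncomputable def hFun {U V : SSet.{u}} (f₀ f₁ : V ⟶ U) (a : SimplexCategory)
    (p : (V ⊗ Δ[1]).obj (op a)) : U.obj (op a) :=
  if (stdSimplex.objEquiv p.2).toOrderHom 0 = 1 then f₁.app (op a) p.1 else f₀.app (op a) p.1

lemma hFun_natural {U V : SSet.{u}} (f₀ f₁ : V ⟶ U) (n : ℕ)
    (h : ∀ i : ℕ, i < n → f₀.app (op ⦋i⦌) = f₁.app (op ⦋i⦌))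
    {a b : SimplexCategory} (hb : b.len ≤ n) (θ : a ⟶ b) (p : (V ⊗ Δ[1]).obj (op b)) :
    hFun f₀ f₁ a ((V ⊗ Δ[1]).map θ.op p) = U.map θ.op (hFun f₀ f₁ b p) := by
  obtain ⟨v, α⟩ := p
  have hα : (stdSimplex.objEquiv ((Δ[1] : SSet.{u}).map θ.op α)).toOrderHom 0 =
      (stdSimplex.objEquiv α).toOrderHom (θ.toOrderHom 0) := rfl
  have n1 := ConcreteCategory.congr_hom (f₁.naturality θ.op) v
  have n0 := ConcreteCategory.congr_hom (f₀.naturality θ.op) v
  unfold hFun
  change (if (stdSimplex.objEquiv ((Δ[1] : SSet.{u}).map θ.op α)).toOrderHom 0 = 1 then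
    f₁.app (op a) (V.map θ.op v) else f₀.app (op a) (V.map θ.op v)) =
    U.map θ.op (if (stdSimplex.objEquiv α).toOrderHom 0 = 1 then f₁.app (op b) v
      else f₀.app (op b) v)
  rw [hα]
  by_cases h1 : (stdSimplex.objEquiv α).toOrderHom 0 = 1
  · have h2 : (stdSimplex.objEquiv α).toOrderHom (θ.toOrderHom 0) = 1 := by
      have := (stdSimplex.objEquiv α).toOrderHom.monotone (Fin.zero_le (θ.toOrderHom 0))
      rw [h1] at this
      exact le_antisymm (Fin.le_last _) this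
    rw [if_pos h1, if_pos h2]
    exact n1
  · rw [if_neg h1]
    by_cases h2 : (stdSimplex.objEquiv α).toOrderHom (θ.toOrderHom 0) = 1
    · rw [if_pos h2]
      have hθ : θ.toOrderHom 0 ≠ 0 := by
        intro h0
        rw [h0] at h2
        exact h1 h2
      rw [eq_on_nonsurj f₀ f₁ n h hb θ hθ v]
      exact n0
    · rw [if_neg h2]
      exact n0

/-- The truncated natural transformation defining the homotopy. -/
noncomputable def τ {U V : SSet.{u}} (f₀ f₁ : V ⟶ U) (n : ℕ)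
    (h : ∀ i : ℕ, i < n → f₀.app (op ⦋i⦌) = f₁.app (op ⦋i⦌)) :
    (SimplexCategory.Truncated.inclusion n).op ⋙ (V ⊗ Δ[1]) ⟶
      (SimplexCategory.Truncated.inclusion n).op ⋙ U where
  app X := ↾(hFun f₀ f₁ X.unop.obj)
  naturality X Y g := by
    ext p
    exact hFun_natural f₀ f₁ n h X.unop.property g.unop.hom p

theorem main6799 {U V : SSet.{u}} (f₀ f₁ : V ⟶ U) (n : ℕ)
    (h : ∀ i : ℕ, i < n → f₀.app (op (SimplexCategory.mk i)) = f₁.app (op (SimplexCategory.mk i)))
    [SimplicialObject.IsCoskeletal U n] [SimplicialObject.IsCoskeletal V n] :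
    Nonempty (SSet.Homotopy f₀ f₁) := by
  let α := 𝟙 ((SimplexCategory.Truncated.inclusion n).op ⋙ U)
  let H : V ⊗ Δ[1] ⟶ U := Functor.liftOfIsRightKanExtension U α _ (τ f₀ f₁ n h)
  have hH : ∀ (i : ℕ) (hi : i ≤ n) (p : (V ⊗ Δ[1]).obj (op ⦋i⦌)),
      H.app (op ⦋i⦌) p = hFun f₀ f₁ ⦋i⦌ p := by
    intro i hi p
    have := Functor.liftOfIsRightKanExtension_fac_app U α _ (τ f₀ f₁ n h) (op ⟨⦋i⦌, hi⟩)
    simp only [α, NatTrans.id_app, Category.comp_id] at this
    exact ConcreteCategory.congr_hom this p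
  refine ⟨{ h := H, h₀ := ?_, h₁ := ?_, rel := by ext _ ⟨⟨_, ⟨⟩⟩, _⟩ }⟩
  · apply Cosk.cosk_ext n
    intro i hi
    ext v
    change H.app (op ⦋i⦌) (ι₀.app (op ⦋i⦌) v) = f₀.app (op ⦋i⦌) v
    rw [hH i hi]
    unfold hFun
    rw [if_neg]
    · rfl
    · change ¬ ((0 : Fin 2) = 1)
      decide
  · apply Cosk.cosk_ext n
    intro i hi
    ext v
    change H.app (op ⦋i⦌) (ι₁.app (op ⦋i⦌) v) = f₁.app (op ⦋i⦌) v
    rw [hH i hi]
    unfold hFun
    rw [if_pos]
    · rfl
    · rfl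

end Groth.Agent.Lib.Helper4.CoskHtpy
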