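import Mathlib.LinearAlgebra.RootSystem.Base
import Mathlib.RingTheory.OrzechProperty
import Mathlib.RingTheory.FiniteType
import Mathlib.Tactic

set_option autoImplicit false

namespace Groth.Agent.Lib.Helper4.CoxeterThetas
open Submodule Set

universe u v w

section unitri
variable {R : Type*} {M : Type*} [CommRing R] [AddCommGroup M] [Module R M]

theorem unitri {n : ℕ} (a v : Fin n → M) (ha : LinearIndependent R a)
    (hv : ∀ i, v i - a i ∈ span R (a '' {j | i < j})) :
    LinearIndependent R v ∧ span R (range v) = span R (range a) := by
  have hspan : span R (range v) = span R (range a) := by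
    apply le_antisymm
    · rw [span_le]
      rintro _ ⟨i, rfl⟩
      have h1 : v i = a i + (v i - a i) := by abel
      rw [h1]
      refine add_mem (subset_span ⟨i, rfl⟩) ?_
      exact span_mono (image_subset_range _ _) (hv i)
    · rw [span_le]
      rintro _ ⟨i, rfl⟩
      show a i ∈ span R (range v)
      induction' h : n - (i : ℕ) using Nat.strong_induction_on with m IH generalizing i
      have h1 : a i = v i - (v i - a i) := by abel
      rw [h1]
      refine sub_mem (subset_span ⟨i, rfl⟩) ?_
      have : span R (a '' {j | i < j}) ≤ span R (range v) := by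
        rw [span_le]
        rintro _ ⟨j, hj, rfl⟩
        have hij : (i : ℕ) < (j : ℕ) := hj
        exact IH (n - (j : ℕ)) (by have := j.2; omega) j rfl
      exact this (hv i)
  refine ⟨?_, hspan⟩
  -- Orzech
  let M' := span R (range a)
  let B : Module.Basis (Fin n) R M' := Module.Basis.span ha
  have hvmem : ∀ i, v i ∈ M' := fun i => by
    show v i ∈ span R (range a)
    rw [← hspan]; exact subset_span ⟨i, rfl⟩
  let v' : Fin n → M' := fun i => ⟨v i, hvmem i⟩
  let f : M' →ₗ[R] M' := B.constr R v'
  have hf : ∀ i, f (B i) = v' i := fun i => B.constr_basis R v' i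
  have hsurj : Function.Surjective f := by
    rw [← LinearMap.range_eq_top, eq_top_iff]
    rintro ⟨x, hx⟩ -
    have hx' : x ∈ span R (range v) := by rw [hspan]; exact hx
    have : ∀ y (hy : y ∈ span R (range v)), (⟨y, (show y ∈ span R (range a) from hspan ▸ hy)⟩ : M') ∈ LinearMap.range f := by
      intro y hy
      induction hy using Submodule.span_induction with
      | mem y hy =>
        obtain ⟨i, rfl⟩ := hy
        exact ⟨B i, hf i⟩
      | zero => exact (LinearMap.range f).zero_mem
      | add y z hy hz ihy ihz => exact (LinearMap.range f).add_mem ihy ihz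
      | smul c y hy ihy => exact (LinearMap.range f).smul_mem c ihy
    exact this x hx'
  have : Module.Finite R M' := Module.Finite.of_basis B
  have hinj : Function.Injective f := OrzechProperty.injective_of_surjective_endomorphism f hsurj
  have h1 : LinearIndependent R (f ∘ B) :=
    B.linearIndependent.map' f (LinearMap.ker_eq_bot.mpr hinj)
  have h2 : f ∘ B = v' := funext hf
  rw [h2] at h1
  have h3 := h1.map' M'.subtype (Submodule.ker_subtype M')
  exact h3

end unitri

theorem main {ι : Type u} {M : Type v} {N : Type w} [AddCommGroup M] [Module ℤ M]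
    [AddCommGroup N] [Module ℤ N] (P : RootPairing ι ℤ M N) (b : P.Base) (n : ℕ) (e : Fin n ≃ ↥b.support) :
    LinearIndependent ℤ (fun i : Fin n =>
      ((List.finRange n).filter (fun j => i < j)).foldl (fun x j => P.reflection (e j : ι) x) (P.root (e i : ι))) ∧
    Submodule.span ℤ (Set.range (fun i : Fin n =>
      ((List.finRange n).filter (fun j => i < j)).foldl (fun x j => P.reflection (e j : ι) x) (P.root (e i : ι)))) =
      Submodule.span ℤ (Set.range P.root) := by
  set a : Fin n → M := fun i => P.root (e i : ι) with ha_def
  have ha : LinearIndependent ℤ a := by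
    have := b.linearIndepOn_root
    exact (this.comp e e.injective : LinearIndependent ℤ ((fun x : b.support => P.root x) ∘ e))
  have hrange : range a = P.root '' b.support := by
    ext x
    constructor
    · rintro ⟨i, rfl⟩
      exact ⟨e i, (e i).2, rfl⟩
    · rintro ⟨j, hj, rfl⟩
      exact ⟨e.symm ⟨j, hj⟩, by simp [ha_def]⟩
  have key : ∀ (i : Fin n) (L : List (Fin n)), (∀ j ∈ L, i < j) → ∀ x : M,
      x - a i ∈ span ℤ (a '' {j | i < j}) →
      L.foldl (fun x j => P.reflection (e j : ι) x) x - a i ∈ span ℤ (a '' {j | i < j}) := by
    intro i L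
    induction L with
    | nil => intro _ x hx; exact hx
    | cons j L IH =>
      intro hL x hx
      rw [List.foldl_cons]
      apply IH (fun k hk => hL k (List.mem_cons_of_mem _ hk))
      rw [RootPairing.reflection_apply]
      have hj : a j ∈ span ℤ (a '' {j | i < j}) :=
        subset_span ⟨j, hL j List.mem_cons_self, rfl⟩
      have h3 := sub_mem hx (Submodule.smul_mem _ ((P.coroot' (e j : ι)) x) hj)
      convert h3 using 1
      simp only [ha_def]; abel
  have hv : ∀ i : Fin n, ((List.finRange n).filter (fun j => i < j)).foldl
      (fun x j => P.reflection (e j : ι) x) (P.root (e i : ι)) - a i ∈ span ℤ (a '' {j | i < j}) := by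
    intro i
    apply key i
    · intro j hj
      simpa using (List.mem_filter.mp hj).2
    · show a i - a i ∈ _
      rw [sub_self]; exact zero_mem _
  obtain ⟨h1, h2⟩ := unitri a _ ha hv
  refine ⟨h1, ?_⟩
  rw [h2, hrange]
  convert b.span_int_root_support using 2
  all_goals first | rfl | exact Subsingleton.elim _ _

end Groth.Agent.Lib.Helper4.CoxeterThetas
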