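import Mathlib.RingTheory.Discriminant
import Mathlib.RingTheory.OrderOfVanishing.Noetherian
import Mathlib.LinearAlgebra.FreeModule.Finite.Quotient
import Mathlib.RingTheory.PowerSeries.Inverse
import Mathlib.Tactic

namespace Groth.Agent.Lib.Helper4.Crimp
open Module Matrix

section general
variable {R : Type*} [CommRing R] {B : Type*} [CommRing B] [Algebra R B]
  {ι : Type*} [Fintype ι] [DecidableEq ι]

lemma discr_associated (b b' : Basis ι R B) :
    Associated (Algebra.discr R b) (Algebra.discr R b') := by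
  have h : (b' : ι → B) = (b : ι → B) ᵥ* (b.toMatrix b').map (algebraMap R B) := by
    funext j
    rw [← b.sum_toMatrix_smul_self b' j]
    simp [Matrix.vecMul, dotProduct, Algebra.smul_def, mul_comm]
  have hu : IsUnit (b.toMatrix b').det := by
    have := b.toMatrix_mul_toMatrix_flip b'
    exact IsUnit.of_mul_eq_one _ (by rw [← Matrix.det_mul, this, Matrix.det_one])
  rw [h, Algebra.discr_of_matrix_vecMul]
  obtain ⟨u, hu⟩ := hu
  refine ⟨u ^ 2, ?_⟩
  rw [← hu]; push_cast; ring

end general

section pid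
variable {R : Type*} [CommRing R] [IsDomain R]
  {B : Type*} [CommRing B] [Algebra R B] {ι : Type*} [Fintype ι] [DecidableEq ι]
  (S : Subalgebra R B)

lemma trace_eq (b' : Basis ι R B) (c : Basis ι R S) (a : ι → R) (ha : ∀ i, a i ≠ 0)
    (hc : ∀ i, (c i : B) = a i • b' i) (x : S) :
    Algebra.trace R S x = Algebra.trace R B (x : B) := by
  rw [Algebra.trace_eq_matrix_trace c, Algebra.trace_eq_matrix_trace b']
  simp only [Matrix.trace, Matrix.diag, Algebra.leftMulMatrix_eq_repr_mul]
  refine Finset.sum_congr rfl fun j _ => ?_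
  have h0 : ∀ y : S, (y : B) = ∑ i, (c.repr y i * a i) • b' i := by
    intro y
    calc (y : B) = ((∑ i, c.repr y i • c i : S) : B) := by rw [c.sum_repr]
      _ = ∑ i, c.repr y i • (c i : B) := by
          simp only [AddSubmonoidClass.coe_finsetSum, SetLike.val_smul]
      _ = _ := by simp only [hc, mul_smul]
  have h1 : ((x * c j : S) : B) = ∑ i, (c.repr (x * c j) i * a i) • b' i := h0 _
  have h2 : ((x * c j : S) : B) = a j • ((x : B) * b' j) := by
    simp [hc, mul_smul_comm]
  have h3 := congrArg (fun y => b'.repr y j) (h1.symm.trans h2)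
  simp only [b'.repr_sum_self, map_smul, Finsupp.smul_apply, smul_eq_mul] at h3
  exact mul_right_cancel₀ (ha j) (by linear_combination h3)

lemma discr_eq (b' : Basis ι R B) (c : Basis ι R S) (a : ι → R) (ha : ∀ i, a i ≠ 0)
    (hc : ∀ i, (c i : B) = a i • b' i) :
    Algebra.discr R c = (∏ i, a i) ^ 2 * Algebra.discr R b' := by
  have : Algebra.traceMatrix R c
      = Matrix.diagonal a * Algebra.traceMatrix R b' * Matrix.diagonal a := by
    ext i j
    rw [Matrix.mul_diagonal, Matrix.diagonal_mul, Algebra.traceMatrix_apply,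
      Algebra.traceMatrix_apply, Algebra.traceForm_apply, Algebra.traceForm_apply,
      trace_eq S b' c a ha hc]
    simp only [Subalgebra.coe_mul, hc, smul_mul_smul_comm, map_smul, smul_eq_mul]
    ring
  rw [Algebra.discr_def, this, det_mul, det_mul, det_diagonal, ← Algebra.discr_def]
  ring

lemma ord_prod (a : ι → R) (ha : ∀ i, a i ≠ 0) :
    Ring.ord R (∏ i, a i) = ∑ i, Ring.ord R (a i) := by
  classical
  have : ∀ s : Finset ι, Ring.ord R (∏ i ∈ s, a i) = ∑ i ∈ s, Ring.ord R (a i) := by
    intro s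
    induction s using Finset.induction_on with
    | empty => simp [Ring.ord_one]
    | insert i s hi ih =>
      rw [Finset.prod_insert hi, Finset.sum_insert hi, Ring.ord_mul, ih]
      exact mem_nonZeroDivisors_of_ne_zero (Finset.prod_ne_zero_iff.mpr fun j _ => ha j)
  exact this _

variable [IsPrincipalIdealRing R]

theorem main (ϖ : R) (hϖ : Irreducible ϖ) (a b : ℕ)
    (bt : Basis ι R B) (ha : Ideal.span {Algebra.discr R bt} = Ideal.span {ϖ ^ a})
    (bS : Basis ι R S) (hb : Ideal.span {Algebra.discr R bS} = Ideal.span {ϖ ^ b}) :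
    (∀ q : B ⧸ Subalgebra.toSubmodule S, (ϖ ^ b) • q = 0) ∧
    2 * Module.length R (B ⧸ Subalgebra.toSubmodule S) + (a : ℕ∞) = (b : ℕ∞) := by
  have h : Module.finrank R (Subalgebra.toSubmodule S) = Module.finrank R B := by
    rw [Module.finrank_eq_card_basis (bS.map (Subalgebra.toSubmoduleEquiv S).symm),
      Module.finrank_eq_card_basis bt]
  set b' := Submodule.smithNormalFormTopBasis bt h with hb'
  set c0 := Submodule.smithNormalFormBotBasis bt h with hc0
  set α := Submodule.smithNormalFormCoeffs bt h with hα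
  have hαne : ∀ i, α i ≠ 0 := Submodule.smithNormalFormCoeffs_ne_zero bt h
  have hdef : ∀ i, (c0 i : B) = α i • b' i := Submodule.smithNormalFormBotBasis_def bt h
  let c : Basis ι R S := c0.map (Subalgebra.toSubmoduleEquiv S)
  have hc : ∀ i, (c i : B) = α i • b' i := fun i => hdef i
  have hD : (∏ i, α i) ≠ 0 := Finset.prod_ne_zero_iff.mpr fun j _ => hαne j
  -- discriminants
  have h1 : Associated (ϖ ^ b) ((∏ i, α i) ^ 2 * ϖ ^ a) := by
    have e1 : Associated (Algebra.discr R bS) ((∏ i, α i) ^ 2 * Algebra.discr R b') := by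
      rw [← discr_eq S b' c α hαne hc]
      exact discr_associated bS c
    have e2 : Associated (Algebra.discr R b') (Algebra.discr R bt) := discr_associated b' bt
    have e3 : Associated (Algebra.discr R bt) (ϖ ^ a) := Ideal.span_singleton_eq_span_singleton.mp ha
    have e4 : Associated (Algebra.discr R bS) (ϖ ^ b) := Ideal.span_singleton_eq_span_singleton.mp hb
    exact e4.symm.trans (e1.trans ((Associated.refl _).mul_mul (e2.trans e3)))
  have hϖ0 : ϖ ≠ 0 := hϖ.ne_zero
  have hordϖ : ∀ n : ℕ, Ring.ord R (ϖ ^ n) = n := by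
    intro n
    rw [Ring.ord_pow (mem_nonZeroDivisors_of_ne_zero hϖ0), Ring.ord_of_irreducible hϖ]
    simp
  have hlen : Module.length R (B ⧸ Subalgebra.toSubmodule S) = Ring.ord R (∏ i, α i) := by
    rw [(Submodule.quotientEquivPiSpan _ bt h).length_eq, Module.length_pi_of_fintype,
      ord_prod α hαne]
    rfl
  constructor
  · intro q
    apply (Submodule.quotientEquivPiSpan _ bt h).injective
    rw [map_smul, map_zero]
    funext i
    obtain ⟨r, hr⟩ := Ideal.Quotient.mk_surjective ((Submodule.quotientEquivPiSpan _ bt h) q i)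
    rw [Pi.smul_apply, ← hr, Pi.zero_apply]
    change (ϖ ^ b) • (Ideal.Quotient.mk _ r) = 0
    rw [Algebra.smul_def, Ideal.Quotient.algebraMap_eq, ← map_mul, Ideal.Quotient.eq_zero_iff_mem,
      Ideal.mem_span_singleton]
    have d1 : α i ∣ ∏ i, α i := Finset.dvd_prod_of_mem _ (Finset.mem_univ i)
    have d2 : (∏ i, α i) ∣ ϖ ^ b := by
      have : (∏ i, α i) ∣ (∏ i, α i) ^ 2 * ϖ ^ a := ⟨(∏ i, α i) * ϖ ^ a, by ring⟩
      exact this.trans h1.symm.dvd
    exact (d1.trans d2).mul_right r
  · rw [hlen]
    have := Ring.ord_eq_of_associated h1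
    rw [hordϖ, Ring.ord_mul R (mem_nonZeroDivisors_of_ne_zero (pow_ne_zero _ hϖ0)), hordϖ,
      Ring.ord_pow (mem_nonZeroDivisors_of_ne_zero hD)] at this
    rw [this]
    simp [two_mul]

end pid

end Groth.Agent.Lib.Helper4.Crimp
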