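import Mathlib.RingTheory.OrderOfVanishing.Noetherian
import Mathlib.LinearAlgebra.FreeModule.Finite.Quotient
import Mathlib.RingTheory.PowerSeries.Inverse
import Mathlib.Tactic

namespace Groth.Agent.Lib.Helper4.Crimp2
open Module

variable {R : Type*} [CommRing R] [IsDomain R] [IsDiscreteValuationRing R]

lemma pow_dvd_pow_iff' (ϖ : R) (hϖ : Irreducible ϖ) (i j : ℕ) : ϖ ^ i ∣ ϖ ^ j ↔ i ≤ j :=
  pow_dvd_pow_iff hϖ.ne_zero hϖ.not_isUnit

lemma inv_factors (ϖ : R) (hϖ : Irreducible ϖ)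
    (a : Fin 2 → R) (ha : ∀ i, a i ≠ 0) (m n : ℕ) (hmn : m ≤ n)
    (Φ : (Π i : Fin 2, R ⧸ Ideal.span {a i}) ≃ₗ[R]
      (R ⧸ Ideal.span {ϖ ^ m}) × (R ⧸ Ideal.span {ϖ ^ n})) :
    ∃ i0 i1 : Fin 2, i0 ≠ i1 ∧ Associated (a i0) (ϖ ^ m) ∧ Associated (a i1) (ϖ ^ n) := by
  have hk : ∀ i, ∃ k : ℕ, Associated (a i) (ϖ ^ k) := fun i =>
    IsDiscreteValuationRing.associated_pow_irreducible (ha i) hϖ
  choose k hk using hk
  have hϖ0 : ϖ ≠ 0 := hϖ.ne_zero
  have hordϖ : ∀ n : ℕ, Module.length R (R ⧸ Ideal.span {ϖ ^ n}) = n := by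
    intro n
    change Ring.ord R (ϖ ^ n) = n
    rw [Ring.ord_pow (mem_nonZeroDivisors_of_ne_zero hϖ0), Ring.ord_of_irreducible hϖ]
    simp
  have horda : ∀ i, Module.length R (R ⧸ Ideal.span {a i}) = k i := by
    intro i
    change Ring.ord R (a i) = k i
    rw [Ring.ord_eq_of_associated (hk i)]
    exact hordϖ (k i)
  have hlen : k 0 + k 1 = m + n := by
    have := Φ.length_eq
    rw [Module.length_pi_of_fintype, Module.length_prod, Fin.sum_univ_two, horda, horda,
      hordϖ, hordϖ] at this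
    exact_mod_cast this
  have hkill1 : ∀ i, k i ≤ n := by
    intro i
    classical
    have h1 : ∀ z : (Π i : Fin 2, R ⧸ Ideal.span {a i}), (ϖ ^ n) • z = 0 := by
      intro z
      apply Φ.injective
      rw [map_smul, map_zero]
      obtain ⟨⟨x⟩, ⟨y⟩⟩ := Φ z
      ext
      · change (ϖ ^ n) • (Ideal.Quotient.mk _ x) = 0
        rw [Algebra.smul_def, Ideal.Quotient.algebraMap_eq, ← map_mul,
          Ideal.Quotient.eq_zero_iff_mem, Ideal.mem_span_singleton]
        exact ((pow_dvd_pow_iff' ϖ hϖ m n).mpr hmn).mul_right x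
      · change (ϖ ^ n) • (Ideal.Quotient.mk _ y) = 0
        rw [Algebra.smul_def, Ideal.Quotient.algebraMap_eq, ← map_mul,
          Ideal.Quotient.eq_zero_iff_mem, Ideal.mem_span_singleton]
        exact Dvd.intro _ rfl
    have h2 := congrFun (h1 (Pi.single i (Ideal.Quotient.mk _ 1))) i
    rw [Pi.smul_apply, Pi.single_eq_same, Pi.zero_apply, Algebra.smul_def,
      Ideal.Quotient.algebraMap_eq, ← map_mul, Ideal.Quotient.eq_zero_iff_mem,
      Ideal.mem_span_singleton, mul_one] at h2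
    exact (pow_dvd_pow_iff' ϖ hϖ _ _).mp ((hk i).symm.dvd.trans h2)
  have hkill2 : n ≤ max (k 0) (k 1) := by
    have h1 : ∀ z : (R ⧸ Ideal.span {ϖ ^ m}) × (R ⧸ Ideal.span {ϖ ^ n}),
        (ϖ ^ (max (k 0) (k 1))) • z = 0 := by
      intro z
      apply Φ.symm.injective
      rw [map_smul, map_zero]
      funext i
      obtain ⟨x, hx⟩ := Ideal.Quotient.mk_surjective (Φ.symm z i)
      rw [Pi.smul_apply, ← hx, Pi.zero_apply, Algebra.smul_def, Ideal.Quotient.algebraMap_eq,
        ← map_mul, Ideal.Quotient.eq_zero_iff_mem, Ideal.mem_span_singleton]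
      have : k i ≤ max (k 0) (k 1) := by
        fin_cases i
        · exact le_max_left _ _
        · exact le_max_right _ _
      exact ((hk i).dvd.trans ((pow_dvd_pow_iff' ϖ hϖ _ _).mpr this)).mul_right x
    have h2 := congrArg Prod.snd (h1 (0, Ideal.Quotient.mk _ 1))
    rw [Prod.smul_snd, Prod.snd_zero, Algebra.smul_def,
      Ideal.Quotient.algebraMap_eq, ← map_mul, Ideal.Quotient.eq_zero_iff_mem,
      Ideal.mem_span_singleton, mul_one] at h2
    exact (pow_dvd_pow_iff' ϖ hϖ _ _).mp h2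
  have h0 := hkill1 0
  have h1 := hkill1 1
  by_cases hc : k 0 ≤ k 1
  · rw [max_eq_right hc] at hkill2
    have e1 : k 1 = n := le_antisymm h1 hkill2
    have e0 : k 0 = m := by omega
    exact ⟨0, 1, by decide, e0 ▸ hk 0, e1 ▸ hk 1⟩
  · rw [max_eq_left (by omega)] at hkill2
    have e0 : k 0 = n := le_antisymm h0 hkill2
    have e1 : k 1 = m := by omega
    exact ⟨1, 0, by decide, e1 ▸ hk 1, e0 ▸ hk 0⟩

/-- embedding of the last two coordinates -/
def j : (Fin 2 → R) →ₗ[R] (Fin 3 → R) where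
  toFun y := ![0, y 0, y 1]
  map_add' y z := by ext i; fin_cases i <;> simp
  map_smul' r y := by ext i; fin_cases i <;> simp

lemma decomp (x : Fin 3 → R) : x = x 0 • (1 : Fin 3 → R) + j ![x 1 - x 0, x 2 - x 0] := by
  ext i; fin_cases i <;> simp [j]

lemma j_injective : Function.Injective (j (R := R)) := by
  intro y z h
  ext i
  fin_cases i
  · exact congrFun h 1
  · exact congrFun h 2

lemma sum_two (i0 i1 : Fin 2) (h : i0 ≠ i1) {M : Type*} [AddCommMonoid M] (g : Fin 2 → M) :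
    ∑ i, g i = g i0 + g i1 := by
  rw [Fin.sum_univ_two]
  fin_cases i0 <;> fin_cases i1 <;> simp at h ⊢
  exact add_comm _ _

theorem main (ϖ : R) (hϖ : Irreducible ϖ) (m n : ℕ) (hmn : m ≤ n)
    (S : Submodule R (Fin 3 → R)) (h1 : (1 : Fin 3 → R) ∈ S)
    (e : ((Fin 3 → R) ⧸ S) ≃ₗ[R] ((R ⧸ Ideal.span {ϖ ^ m}) × (R ⧸ Ideal.span {ϖ ^ n}))) :
    Ideal.span {ϖ ^ n} • (⊤ : Submodule R (Fin 3 → R)) ≤ S ∧
    ∃ f : Fin 3 → R,
      f ∉ Submodule.span R {(1 : Fin 3 → R)} ⊔ Ideal.span {ϖ} • (⊤ : Submodule R (Fin 3 → R)) ∧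
      S = Submodule.span R {(1 : Fin 3 → R), (ϖ ^ m) • f} ⊔
        Ideal.span {ϖ ^ n} • (⊤ : Submodule R (Fin 3 → R)) := by
  classical
  set π : (Fin 3 → R) →ₗ[R] ((R ⧸ Ideal.span {ϖ ^ m}) × (R ⧸ Ideal.span {ϖ ^ n})) :=
    e.toLinearMap ∘ₗ S.mkQ with hπ
  have hπker : ∀ x, π x = 0 ↔ x ∈ S := by
    intro x
    simp [hπ]
  have hπsurj : Function.Surjective π := e.surjective.comp S.mkQ_surjective
  have hkillQ : ∀ z : (R ⧸ Ideal.span {ϖ ^ m}) × (R ⧸ Ideal.span {ϖ ^ n}), (ϖ ^ n) • z = 0 := by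
    rintro ⟨⟨x⟩, ⟨y⟩⟩
    ext
    · change (ϖ ^ n) • (Ideal.Quotient.mk _ x) = 0
      rw [Algebra.smul_def, Ideal.Quotient.algebraMap_eq, ← map_mul,
        Ideal.Quotient.eq_zero_iff_mem, Ideal.mem_span_singleton]
      exact ((pow_dvd_pow_iff' ϖ hϖ m n).mpr hmn).mul_right x
    · change (ϖ ^ n) • (Ideal.Quotient.mk _ y) = 0
      rw [Algebra.smul_def, Ideal.Quotient.algebraMap_eq, ← map_mul,
        Ideal.Quotient.eq_zero_iff_mem, Ideal.mem_span_singleton]
      exact Dvd.intro _ rfl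
  have hkill : ∀ x : Fin 3 → R, (ϖ ^ n) • x ∈ S := by
    intro x
    rw [← hπker, map_smul]
    exact hkillQ _
  have goal1 : Ideal.span {ϖ ^ n} • (⊤ : Submodule R (Fin 3 → R)) ≤ S := by
    rw [Submodule.smul_le]
    intro r hr x _
    obtain ⟨c, rfl⟩ := Ideal.mem_span_singleton.mp hr
    rw [mul_comm, mul_smul]
    exact S.smul_mem c (hkill x)
  refine ⟨goal1, ?_⟩
  have hπ1 : π 1 = 0 := (hπker 1).mpr h1
  set π' := π ∘ₗ (j (R := R)) with hπ'
  have hπ'surj : Function.Surjective π' := by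
    intro z
    obtain ⟨x, rfl⟩ := hπsurj z
    refine ⟨![x 1 - x 0, x 2 - x 0], ?_⟩
    conv_rhs => rw [decomp x]
    rw [map_add, map_smul, hπ1, smul_zero, zero_add]
    rfl
  set N := LinearMap.ker π' with hN
  have hrank : Module.finrank R N = Module.finrank R (Fin 2 → R) := by
    apply le_antisymm (Submodule.finrank_le N)
    let μ : (Fin 2 → R) →ₗ[R] N :=
      { toFun := fun y => ⟨(ϖ ^ n) • y, by
          rw [hN, LinearMap.mem_ker, map_smul]; exact hkillQ _⟩
        map_add' := fun y z => by ext; simp [mul_add]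
        map_smul' := fun r y => by ext; simp [mul_left_comm] }
    apply LinearMap.finrank_le_finrank_of_injective (f := μ)
    intro y z h
    have := congrArg Subtype.val h
    simp only [μ, LinearMap.coe_mk, AddHom.coe_mk] at this
    exact smul_right_injective _ (pow_ne_zero n hϖ.ne_zero) this
  set w := Submodule.smithNormalFormTopBasis (Pi.basisFun R (Fin 2)) hrank with hw
  set cb := Submodule.smithNormalFormBotBasis (Pi.basisFun R (Fin 2)) hrank with hcb
  set a := Submodule.smithNormalFormCoeffs (Pi.basisFun R (Fin 2)) hrank with ha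
  have hane : ∀ i, a i ≠ 0 := Submodule.smithNormalFormCoeffs_ne_zero _ hrank
  have hdef : ∀ i, (cb i : Fin 2 → R) = a i • w i :=
    Submodule.smithNormalFormBotBasis_def _ hrank
  let E := Submodule.quotientEquivPiSpan N (Pi.basisFun R (Fin 2)) hrank
  let e' := π'.quotKerEquivOfSurjective hπ'surj
  obtain ⟨i0, i1, hne, hi0, hi1⟩ := inv_factors ϖ hϖ a hane m n hmn (E.symm.trans e')
  obtain ⟨u0, hu0⟩ := hi0
  obtain ⟨u1, hu1⟩ := hi1
  have memN : ∀ y, y ∈ N ↔ ∃ c : Fin 2 → R, y = c i0 • a i0 • w i0 + c i1 • a i1 • w i1 := by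
    intro y
    rw [cb.mem_submodule_iff']
    simp only [hdef, sum_two i0 i1 hne]
  refine ⟨j (w i0), ?_, ?_⟩
  · -- (A)
    intro hf
    obtain ⟨x1, hx1, x2, hx2, hsum⟩ := Submodule.mem_sup.mp hf
    obtain ⟨r, rfl⟩ := Submodule.mem_span_singleton.mp hx1
    rw [Submodule.ideal_span_singleton_smul] at hx2
    obtain ⟨g, -, rfl⟩ := (Submodule.mem_smul_pointwise_iff_exists _ _ _).mp hx2
    -- j (w i0) = r • 1 + ϖ • g
    have h0 := congrFun hsum 0
    have hr : r = - (ϖ * g 0) := by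
      simp [j] at h0
      linear_combination h0
    have hjw : j (w i0) = ϖ • j ![g 1 - g 0, g 2 - g 0] := by
      rw [← hsum, hr]
      ext i
      fin_cases i <;> simp [j] <;> ring
    rw [← map_smul] at hjw
    have hw0 := j_injective hjw
    have := congrArg (fun y => w.repr y i0) hw0
    simp only [Basis.repr_self, Finsupp.single_eq_same, map_smul, Finsupp.smul_apply,
      smul_eq_mul] at this
    exact hϖ.not_isUnit (IsUnit.of_mul_eq_one _ this.symm)
  · -- (B)
    apply le_antisymm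
    · intro x hx
      have hy : ![x 1 - x 0, x 2 - x 0] ∈ N := by
        rw [hN, LinearMap.mem_ker, hπ', LinearMap.comp_apply]
        have h2 : π x = 0 := (hπker x).mpr hx
        rw [decomp x, map_add, map_smul, hπ1, smul_zero, zero_add] at h2
        exact h2
      obtain ⟨c, hc⟩ := (memN _).mp hy
      rw [decomp x, hc, map_add]
      refine Submodule.add_mem _ (Submodule.mem_sup_left ?_) (Submodule.add_mem _
        (Submodule.mem_sup_left ?_) (Submodule.mem_sup_right ?_))
      · exact Submodule.smul_mem _ _ (Submodule.subset_span (by simp))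
      · have : j (c i0 • a i0 • w i0) = (c i0 * ↑u0⁻¹) • (ϖ ^ m • j (w i0)) := by
          rw [← hu0]
          simp only [map_smul, smul_smul]
          congr 1
          have hu : (↑u0 : R) * ↑u0⁻¹ = 1 := Units.mul_inv u0
          linear_combination (- c i0 * a i0) * hu
        rw [this]
        exact Submodule.smul_mem _ _ (Submodule.subset_span (by simp))
      · have : j (c i1 • a i1 • w i1) = (ϖ ^ n) • ((c i1 * ↑u1⁻¹) • j (w i1)) := by
          rw [← hu1]
          simp only [map_smul, smul_smul]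
          congr 1
          have hu : (↑u1 : R) * ↑u1⁻¹ = 1 := Units.mul_inv u1
          linear_combination (- c i1 * a i1) * hu
        rw [this]
        exact Submodule.smul_mem_smul (Ideal.mem_span_singleton_self _) Submodule.mem_top
    · refine sup_le ?_ goal1
      rw [Submodule.span_le]
      rintro x (rfl | rfl)
      · exact h1
      · have : ϖ ^ m • w i0 ∈ N := by
          rw [← hu0, mul_comm, mul_smul, ← hdef]
          exact N.smul_mem _ (cb i0).2
        rw [← map_smul, SetLike.mem_coe, ← hπker]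
        exact this

end Groth.Agent.Lib.Helper4.Crimp2
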