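import Groth.Agent.Lib.Helper4.GPRank
import Groth.Agent.Lib.Helper18.Curve.Places
import Groth.Agent.Lib.Helper7.StalkFree
import Groth.Agent.Lib.Helper17.StalkExact
set_option backward.isDefEq.respectTransparency.types false
set_option autoImplicit false
set_option linter.style.haveILetI false

universe u
open CategoryTheory CategoryTheory.Limits AlgebraicGeometry

namespace Groth.Agent.Lib.Helper4.CurveVB
open Groth.Agent.Lib.Helper8.CurveTensor Groth.Agent.Lib.Helper4.GPRank

variable {k : Type u} [Field k] {X : Scheme.{u}} [IsIntegral X]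
  (f : X ⟶ Spec (CommRingCat.of k)) [Smooth f]

include f in
/-- the local rings of a smooth integral curve are principal ideal domains -/
theorem isPrincipalIdealRing_stalk [IsLocallyNoetherian X] (hdim : topologicalKrullDim X = 1) (x : X) :
    IsPrincipalIdealRing (X.presheaf.stalk x) := by
  have hv := Groth.Agent.Lib.Helper18.Curve.valuationRing_stalk f hdim x
  exact ((tfae_of_isNoetherianRing_of_isLocalRing_of_isDomain (X.presheaf.stalk x)).out 1 0).mp hv

include f in
/-- a coherent submodule of a locally free module on a smooth integral curve is locally free of its generic rank -/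
theorem isFinLocFreeOfRank_of_mono [IsLocallyNoetherian X] (hdim : topologicalKrullDim X = 1)
    {F E : X.Modules} (i : F ⟶ E) [Mono i] (hF : Coh.IsCoh F) {n : ℕ} (hE : FlatMod.IsFinLocFreeOfRank n E) :
    FlatMod.IsFinLocFreeOfRank (grank X F) F := by
  intro x
  haveI := isPrincipalIdealRing_stalk f hdim x
  obtain ⟨b⟩ := Groth.Agent.Lib.Helper6.K0Tensor.exists_stalkBasis E hE x
  haveI : Module.Free (X.presheaf.stalk x) (E.presheaf.stalk x) := Module.Free.of_basis b
  haveI : Module.Finite (X.presheaf.stalk x) (F.presheaf.stalk x) :=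
    Groth.Agent.Lib.Helper7.StalkFree.finite_stalk_of_isCoh X F hF x
  have hinj : Function.Injective (Groth.Agent.Lib.Helper17.StalkExact.stalkLinearMap i x) :=
    Groth.Agent.Lib.Helper17.StalkExact.stalkHom_injective_of_mono i x
  haveI : Module.IsTorsionFree (X.presheaf.stalk x) (F.presheaf.stalk x) :=
    Function.Injective.moduleIsTorsionFree _ hinj (fun c m => map_smul _ c m)
  haveI : Module.Free (X.presheaf.stalk x) (F.presheaf.stalk x) := Module.free_of_finite_type_torsion_free'
  obtain ⟨U, hxU, ⟨e⟩⟩ := Groth.Agent.Lib.Helper7.StalkFree.exists_iso_freeMod_of_free_stalk X F hF x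
  refine ⟨U, hxU, ?_⟩
  have hη : genericPoint X ∈ U := ((genericPoint_spec X).mem_open_set_iff U.2).2 ⟨x, trivial, hxU⟩
  obtain ⟨-, -, hrank⟩ := Groth.Agent.Lib.Helper7.StalkFree.free_stalk_of_iso F (genericPoint X) U hη _ e
  unfold grank
  rw [hrank]
  exact ⟨e⟩

end Groth.Agent.Lib.Helper4.CurveVB
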