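import Groth.Agent.Lib.Helper4.CurveVB1
import Groth.Agent.Lib.Helper4.HilbPoly3
set_option backward.isDefEq.respectTransparency.types false
set_option autoImplicit false
set_option linter.style.haveILetI false

universe u
open CategoryTheory CategoryTheory.Limits AlgebraicGeometry

namespace Groth.Agent.Lib.Helper4.CurveVB
open Groth.Agent.Lib.Helper8.CurveTensor Groth.Agent.Lib.Helper4.GPRank Groth.Agent.Lib.Helper8.EulerK
open Groth.Agent.Lib.Helper4.HilbPoly

section basic
variable {X : Scheme.{u}}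

/-- a locally free module of rank zero is zero -/
theorem isZero_of_rank_zero {F : X.Modules} (hF : FlatMod.IsFinLocFreeOfRank 0 F) : IsZero F := by
  apply Groth.Agent.Lib.Helper6.DevCore.isZero_of_support_eq_empty
  rw [Set.eq_empty_iff_forall_notMem]
  intro x hx
  obtain ⟨b⟩ := Groth.Agent.Lib.Helper6.K0Tensor.exists_stalkBasis F hF x
  apply hx
  exact b.repr.toEquiv.subsingleton

theorem isFinLocFreeOfRank_of_iso {F G : X.Modules} (e : F ≅ G) {n : ℕ} (hF : FlatMod.IsFinLocFreeOfRank n F) :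
    FlatMod.IsFinLocFreeOfRank n G := by
  intro x
  obtain ⟨U, hxU, ⟨a⟩⟩ := hF x
  exact ⟨U, hxU, ⟨((Scheme.Modules.restrictFunctor U.ι).mapIso e).symm ≪≫ a⟩⟩

end basic

variable (k : Type u) [Field k] (X : Scheme.{u}) [X.Over (Spec (CommRingCat.of k))] [IsIntegral X]
  [IsProper (X ↘ Spec (CommRingCat.of k))]

/-- additivity of the degree in a short exact sequence -/
theorem deg_add (S : ShortComplex X.Modules) (hS : S.ShortExact)
    (h₁ : Coh.IsCoh S.X₁) (h₂ : Coh.IsCoh S.X₂) (h₃ : Coh.IsCoh S.X₃) (a c : ℕ) :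
    Curv2.deg k X S.X₂ (a + c) = Curv2.deg k X S.X₁ a + Curv2.deg k X S.X₃ c := by
  unfold Curv2.deg
  rw [euler_add k X S hS h₁ h₂ h₃]
  push_cast
  ring

theorem deg_of_isZero {F : X.Modules} (hF : IsZero F) : Curv2.deg k X F 0 = 0 := by
  have hS : (ShortComplex.mk (0 : F ⟶ F) (0 : F ⟶ F) (by simp)).ShortExact :=
    { exact := ShortComplex.exact_of_isZero_X₂ _ hF
      mono_f := ⟨fun _ _ _ => hF.eq_of_tgt _ _⟩
      epi_g := ⟨fun _ _ _ => hF.eq_of_src _ _⟩ }
  have hc := Groth.Agent.Lib.Helper6.DevRed.isCoh_of_isZero hF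
  have := euler_add k X _ hS hc hc hc
  unfold Curv2.deg
  dsimp only at this
  simp
  linarith

theorem deg_congr {F G : X.Modules} (e : F ≅ G) (n : ℕ) : Curv2.deg k X F n = Curv2.deg k X G n := by
  unfold Curv2.deg
  rw [euler_congr k e]

/-- a monomorphism between locally free modules of the same rank on an integral proper curve: degrees compare, with
equality only for isomorphisms -/
theorem deg_le_of_mono_of_rank_eq (hdim : topologicalKrullDim X ≤ 1) {A B : X.Modules} (j : A ⟶ B) [Mono j] {r : ℕ}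
    (hA : FlatMod.IsFinLocFreeOfRank r A) (hB : FlatMod.IsFinLocFreeOfRank r B) :
    Curv2.deg k X A r ≤ Curv2.deg k X B r ∧ (Curv2.deg k X A r = Curv2.deg k X B r → IsIso j) := by
  have hAc := isCoh_of_isFinLocFreeOfRank A hA
  have hBc := isCoh_of_isFinLocFreeOfRank B hB
  have hQc := Groth.Agent.Lib.Helper6.DevCore.isCoh_cokernel j hAc hBc
  have hg := grank_add X _ (shortExact_cokernel j) hAc hBc hQc
  dsimp only at hg
  rw [grank_of_isFinLocFreeOfRank A hA, grank_of_isFinLocFreeOfRank B hB] at hg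
  have hgen : genericPoint X ∉ CohB1.support (cokernel j) :=
    notMem_support_of_grank_eq_zero X _ hQc (by omega)
  obtain ⟨h1, h2⟩ := Groth.Agent.Lib.Helper8.CurveDeg.euler_eq_add_of_mono k X hdim A B hAc hBc j hgen
  unfold Curv2.deg
  refine ⟨by omega, fun h => h2 (by omega)⟩

end Groth.Agent.Lib.Helper4.CurveVB
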