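import Groth.Agent.Lib.Helper4.CurveVB2
import Groth.Agent.Lib.Helper8.CurveVan
set_option backward.isDefEq.respectTransparency.types false
set_option autoImplicit false
set_option linter.style.haveILetI false

universe u
open CategoryTheory CategoryTheory.Limits AlgebraicGeometry

namespace Groth.Agent.Lib.Helper4.CurveVB
open Groth.Agent.Lib.Helper8.CurveTensor Groth.Agent.Lib.Helper4.GPRank Groth.Agent.Lib.Helper8.EulerK
open Groth.Agent.Lib.Helper4.HilbPoly

variable (k : Type u) [Field k] (X : Scheme.{u}) [X.Over (Spec (CommRingCat.of k))] [IsIntegral X]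
  [IsProper (X ↘ Spec (CommRingCat.of k))] [Smooth (X ↘ Spec (CommRingCat.of k))]

include k in
/-- coherent submodules of locally free modules on a smooth proper integral curve are locally free -/
theorem sub_locFree (hdim : topologicalKrullDim X = 1) {F E : X.Modules} (i : F ⟶ E) [Mono i] (hF : Coh.IsCoh F)
    {n : ℕ} (hE : FlatMod.IsFinLocFreeOfRank n E) :
    ∃ r' : ℕ, FlatMod.IsFinLocFreeOfRank r' F ∧ r' ≤ n ∧ (¬ IsZero F → 0 < r') := by
  haveI : IsLocallyNoetherian X := isLocallyNoetherian k X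
  have h := isFinLocFreeOfRank_of_mono (X ↘ Spec (CommRingCat.of k)) hdim i hF hE
  refine ⟨grank X F, h, rank_le_of_mono i h hE, fun h0 => ?_⟩
  by_contra hcon
  have : grank X F = 0 := by omega
  rw [this] at h
  exact h0 (isZero_of_rank_zero h)

/-- kernel and image of a morphism of locally free modules on a smooth proper integral curve -/
theorem ker_im (hdim : topologicalKrullDim X = 1) {E F : X.Modules} (f : E ⟶ F) {r s : ℕ}
    (hE : FlatMod.IsFinLocFreeOfRank r E) (hF : FlatMod.IsFinLocFreeOfRank s F) :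
    ∃ rK rI : ℕ, FlatMod.IsFinLocFreeOfRank rK (kernel f) ∧ FlatMod.IsFinLocFreeOfRank rI (Abelian.image f) ∧
      rK + rI = r ∧ rI ≤ s ∧
      Curv2.deg k X (kernel f) rK + Curv2.deg k X (Abelian.image f) rI = Curv2.deg k X E r ∧
      (f ≠ 0 → 0 < rI) ∧ (¬ IsZero (kernel f) → 0 < rK) := by
  haveI : IsLocallyNoetherian X := isLocallyNoetherian k X
  have hEc := isCoh_of_isFinLocFreeOfRank E hE
  have hFc := isCoh_of_isFinLocFreeOfRank F hF
  have hKc := Groth.Agent.Lib.Helper6.DevCore.isCoh_kernel f hEc hFc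
  have hIc := Groth.Agent.Lib.Helper6.DevCore.isCoh_image f hEc hFc
  obtain ⟨rK, hK, -, hK0⟩ := sub_locFree k X hdim (kernel.ι f) hKc hE
  obtain ⟨rI, hI, hIs, hI0⟩ := sub_locFree k X hdim (Abelian.image.ι f) hIc hF
  have hS := Groth.Agent.Lib.Helper8.CurveVan.shortExact_kernel_image f
  have hg := grank_add X _ hS hKc hEc hIc
  dsimp only at hg
  rw [grank_of_isFinLocFreeOfRank _ hK, grank_of_isFinLocFreeOfRank _ hE, grank_of_isFinLocFreeOfRank _ hI] at hg
  have hd := deg_add k X _ hS hKc hEc hIc rK rI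
  dsimp only at hd
  rw [← hg] at hd
  refine ⟨rK, rI, hK, hI, hg.symm, hIs, hd.symm, fun hf => hI0 fun hz => hf ?_, hK0⟩
  rw [← Abelian.image.fac f, hz.eq_of_tgt (Abelian.factorThruImage f) 0, Limits.zero_comp]

/-- **S15332** -/
theorem hom_eq_zero (hdim : topologicalKrullDim X = 1) (r s : ℕ) (hr : 0 < r) (E F : X.Modules)
    (hE : FlatMod.IsFinLocFreeOfRank r E) (hF : FlatMod.IsFinLocFreeOfRank s F)
    (hEss : ModFun.IsSlopeSemistable k X E r)
    (hmax : ∀ (G : X.Modules) (r' : ℕ) (i : G ⟶ F), Mono i → 0 < r' → FlatMod.IsFinLocFreeOfRank r' G →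
      Curv2.deg k X G r' * (r : ℤ) < Curv2.deg k X E r * (r' : ℤ))
    (f : E ⟶ F) : f = 0 := by
  by_contra hf
  obtain ⟨rK, rI, hK, hI, hr', -, hdeg, hI0, hK0⟩ := ker_im k X hdim f hE hF
  have hIpos := hI0 hf
  have h1 := hmax _ rI (Abelian.image.ι f) inferInstance hIpos hI
  rcases Nat.eq_zero_or_pos rK with h0 | hpos
  · subst h0
    have hz := isZero_of_rank_zero hK
    rw [deg_of_isZero k X hz] at hdeg
    have : rI = r := by omega
    subst this
    rw [zero_add] at hdeg
    rw [hdeg] at h1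
    exact lt_irrefl _ h1
  · have h2 := hEss _ rK (kernel.ι f) inferInstance hpos hK
    have hrr : (r : ℤ) = rK + rI := by exact_mod_cast hr'.symm
    rw [← hdeg, hrr] at h1 h2
    nlinarith

end Groth.Agent.Lib.Helper4.CurveVB
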