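import Groth.Agent.Lib.Helper4.CurveVB3
set_option backward.isDefEq.respectTransparency.types false
set_option autoImplicit false
set_option linter.style.haveILetI false

universe u
open CategoryTheory CategoryTheory.Limits AlgebraicGeometry

namespace Groth.Agent.Lib.Helper4.CurveVB
open Groth.Agent.Lib.Helper8.CurveTensor Groth.Agent.Lib.Helper4.GPRank Groth.Agent.Lib.Helper8.EulerK
open Groth.Agent.Lib.Helper4.HilbPoly

variable (k : Type u) [Field k] (X : Scheme.{u}) [X.Over (Spec (CommRingCat.of k))] [IsIntegral X]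
  [IsProper (X ↘ Spec (CommRingCat.of k))] [Smooth (X ↘ Spec (CommRingCat.of k))]

theorem mono_of_isZero_kernel' {A B : X.Modules} (f : A ⟶ B) (h : IsZero (kernel f)) : Mono f :=
  Preadditive.mono_of_kernel_zero (h.eq_of_src _ _)

/-- **S15333** -/
theorem isIso_of_ne_zero (hdim : topologicalKrullDim X = 1) (r s : ℕ) (hr : 0 < r) (hs : 0 < s) (E F : X.Modules)
    (hE : FlatMod.IsFinLocFreeOfRank r E) (hF : FlatMod.IsFinLocFreeOfRank s F)
    (hEst : ModFun.IsSlopeStable k X E r)
    (hFss : ModFun.IsSlopeSemistable k X F s) (hFst : ModFun.IsSlopeStable k X F s)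
    (hμ : Curv2.deg k X E r * (s : ℤ) = Curv2.deg k X F s * (r : ℤ))
    (f : E ⟶ F) (hf : f ≠ 0) : IsIso f := by
  obtain ⟨rK, rI, hK, hI, hr', hIs, hdeg, hI0, hK0⟩ := ker_im k X hdim f hE hF
  have hIpos := hI0 hf
  have h1 := hFss _ rI (Abelian.image.ι f) inferInstance hIpos hI
  have hrr : (r : ℤ) = rK + rI := by exact_mod_cast hr'.symm
  have hrp : (0 : ℤ) < r := by exact_mod_cast hr
  have hsp : (0 : ℤ) < s := by exact_mod_cast hs
  have hIp : (0 : ℤ) < rI := by exact_mod_cast hIpos
  rcases Nat.eq_zero_or_pos rK with h0 | hpos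
  · subst h0
    have hz := isZero_of_rank_zero hK
    rw [deg_of_isZero k X hz, zero_add] at hdeg
    have hrI : rI = r := by omega
    subst hrI
    haveI : Mono f := mono_of_isZero_kernel' X f hz
    have hrs : rI = s := by
      by_contra hne
      have hlt : rI < s := lt_of_le_of_ne hIs hne
      have h2 := hFst _ rI (Abelian.image.ι f) inferInstance hIpos hlt hI
      rw [hdeg] at h2
      linarith
    subst hrs
    have hdE : Curv2.deg k X E rI = Curv2.deg k X F rI := by
      have := mul_right_cancel₀ hrp.ne' hμ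
      exact this
    exact (deg_le_of_mono_of_rank_eq k X hdim.le f hE hF).2 hdE
  · exfalso
    have hKlt : rK < r := by omega
    have h2 := hEst _ rK (kernel.ι f) inferInstance hpos hKlt hK
    have hKp : (0 : ℤ) < rK := by exact_mod_cast hpos
    rw [← hdeg, hrr] at h2
    rw [← hdeg, hrr] at hμ
    nlinarith

/-- a nonzero endomorphism of a slope-stable bundle is an isomorphism (only stability is used) -/
theorem isIso_of_endo_ne_zero (hdim : topologicalKrullDim X = 1) (r : ℕ) (E : X.Modules)
    (hE : FlatMod.IsFinLocFreeOfRank r E) (hEst : ModFun.IsSlopeStable k X E r)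
    (f : E ⟶ E) (hf : f ≠ 0) : IsIso f := by
  obtain ⟨rK, rI, hK, hI, hr', hIs, hdeg, hI0, hK0⟩ := ker_im k X hdim f hE hE
  have hIpos := hI0 hf
  have hrr : (r : ℤ) = rK + rI := by exact_mod_cast hr'.symm
  rcases Nat.eq_zero_or_pos rK with h0 | hpos
  · subst h0
    have hz := isZero_of_rank_zero hK
    rw [deg_of_isZero k X hz, zero_add] at hdeg
    have hrI : rI = r := by omega
    subst hrI
    haveI : Mono f := mono_of_isZero_kernel' X f hz
    exact (deg_le_of_mono_of_rank_eq k X hdim.le f hE hE).2 rfl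
  · exfalso
    have h1 := hEst _ rI (Abelian.image.ι f) inferInstance hIpos (by omega) hI
    have h2 := hEst _ rK (kernel.ι f) inferInstance hpos (by omega) hK
    rw [← hdeg, hrr] at h1 h2
    nlinarith

end Groth.Agent.Lib.Helper4.CurveVB
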