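import Groth.Agent.Lib.Helper4.HilbPoly3
set_option backward.isDefEq.respectTransparency.types false
set_option autoImplicit false
set_option linter.style.haveILetI false

universe u
open CategoryTheory CategoryTheory.Limits AlgebraicGeometry Opposite TopologicalSpace Polynomial

namespace Groth.Agent.Lib.Helper4.HilbPoly
open Groth.Agent.Lib.Helper4.Snapper Groth.Agent.Lib.Helper6.K0Len Groth.Agent.Lib.Helper6.K0Op

variable (k : Type u) [Field k] {X : Scheme.{u}} [X.Over (Spec (CommRingCat.of k))]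
    [IsProper (X ↘ (Spec (CommRingCat.of k)))] {L : X.Modules}

/-- S15204 -/
theorem isIso_of_isStable_of_endomorphism_ne_zero (hL : CohB1.IsAmple L) (d : ℕ) (E : X.Modules)
    (hE : ShStab.IsStable k X L E d) (φ : E ⟶ E) (hφ : φ ≠ 0) : IsIso φ := by
  have hss := isSemistable_of_isStable k hL hE
  have hdim := dim_support_of_isPure hE.1 hE.2.1 hE.2.2.1
  have hP := isHilbPoly_hilb k hL.1 E hE.1 d hdim.le
  exact isIso_of_isStable_of_isHilbPoly_eq k hL d E E hss hss (Or.inl hE) _ hP hP φ hφ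

omit [IsProper (X ↘ (Spec (CommRingCat.of k)))] [X.Over (Spec (CommRingCat.of k))] in
theorem redEq_of_redLE_of_redLE {d : ℕ} {P Q : ℚ[X]} (h1 : StabCat.RedLE d P Q) (h2 : StabCat.RedLE d Q P) :
    StabCat.RedEq d P Q := by
  rw [redLE_iff] at h1 h2
  obtain ⟨N1, h1⟩ := h1
  obtain ⟨N2, h2⟩ := h2
  unfold StabCat.RedEq
  apply Polynomial.eq_of_infinite_eval_eq
  apply Set.Infinite.mono (s := Set.range (fun n : ℕ => ((n + max N1 N2 : ℕ) : ℚ)))
  · rintro _ ⟨n, rfl⟩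
    have a := h1 (n + max N1 N2) (by have := le_max_left N1 N2; omega)
    have b := h2 (n + max N1 N2) (by have := le_max_right N1 N2; omega)
    simp only [Set.mem_ofPred_eq, eval_smul, smul_eq_mul]
    linarith
  · apply Set.infinite_range_of_injective
    intro a b hab
    have hab' : ((a + max N1 N2 : ℕ) : ℚ) = ((b + max N1 N2 : ℕ) : ℚ) := hab
    have : (a + max N1 N2 : ℕ) = b + max N1 N2 := by exact_mod_cast hab'
    omega

/-- S15201 -/
theorem isMaxDestab_unique (hL : CohB1.IsAmple L) (d : ℕ) (E : X.Modules)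
    (hE : Coh.IsCoh E) (hp : ShStab.IsPure X E d)
    (F₁ F₂ : X.Modules) (ι₁ : F₁ ⟶ E) (ι₂ : F₂ ⟶ E) (h₁ : ShStab.IsMaxDestab k X L E d F₁ ι₁)
    (h₂ : ShStab.IsMaxDestab k X L E d F₂ ι₂) :
    ∃ e : F₁ ≅ F₂, e.hom ≫ ι₂ = ι₁ := by
  obtain ⟨hm₁, hc₁, hz₁, hmax₁⟩ := h₁
  obtain ⟨hm₂, hc₂, hz₂, hmax₂⟩ := h₂
  haveI := hm₁
  haveI := hm₂
  have hd₁ := hp F₁ ι₁ hm₁ hc₁ hz₁
  have hd₂ := hp F₂ ι₂ hm₂ hc₂ hz₂
  have hP₁ := isHilbPoly_hilb k hL.1 F₁ hc₁ d hd₁.le
  have hP₂ := isHilbPoly_hilb k hL.1 F₂ hc₂ d hd₂.le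
  obtain ⟨a1, a2⟩ := hmax₁ F₂ ι₂ hm₂ hc₂ hz₂ _ _ hP₁ hP₂
  obtain ⟨b1, b2⟩ := hmax₂ F₁ ι₁ hm₁ hc₁ hz₁ _ _ hP₂ hP₁
  obtain ⟨φ, hφ⟩ := a2 (redEq_of_redLE_of_redLE a1 b1)
  obtain ⟨ψ, hψ⟩ := b2 (redEq_of_redLE_of_redLE b1 a1)
  refine ⟨⟨ψ, φ, ?_, ?_⟩, hψ⟩
  · rw [← cancel_mono ι₁, Category.assoc, hφ, hψ, Category.id_comp]
  · rw [← cancel_mono ι₂, Category.assoc, hψ, hφ, Category.id_comp]

omit [IsProper (X ↘ (Spec (CommRingCat.of k)))] [X.Over (Spec (CommRingCat.of k))] in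
theorem topPart_self {d : ℕ} {P : ℚ[X]} (h : P.natDegree ≤ d) : StabCat.topPart d d P = P := by
  unfold StabCat.topPart
  rw [Nat.sub_self]
  have h1 : Finset.Icc 0 d = Finset.range (d + 1) := by
    ext i
    simp [Nat.lt_succ_iff]
  rw [h1]
  exact (Polynomial.as_sum_range' P (d + 1) (by omega)).symm

/-- facts about a coherent submodule `F` of a pure module `E` of dimension `d` -/
theorem sub_facts (hL : CohB1.IsAmple L) {d : ℕ} {E F : X.Modules} (hE : Coh.IsCoh E) (hF : Coh.IsCoh F)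
    (hEp : ShStab.IsPure X E d) (hE0 : ¬ IsZero E) (ι : F ⟶ E) [Mono ι] {pF pE : ℚ[X]}
    (hpF : ShStab.IsHilbPoly k X L F pF) (hpE : ShStab.IsHilbPoly k X L E pE) :
    pF.natDegree ≤ d ∧ pE.natDegree ≤ d ∧ 0 < StabCat.alpha d pE ∧ StabCat.alpha d pF ≤ StabCat.alpha d pE ∧
      (¬ IsZero F → 0 < StabCat.alpha d pF) ∧ StabCat.PolyLE pF pE ∧
      (¬ IsIso ι → StabCat.PolyLT pF pE) := by
  have hdE := dim_support_of_isPure hE hE0 hEp
  have hdF : topologicalKrullDim (CohB1.support F) ≤ (d : WithBot ℕ∞) := hdE ▸ dim_support_le_of_mono ι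
  have hC : Coh.IsCoh (cokernel ι) := Groth.Agent.Lib.Helper6.DevCore.isCoh_cokernel ι hF hE
  obtain ⟨hpC, hle⟩ := polyLE_of_mono k hL hF hE ι hpF hpE
  have hdC : topologicalKrullDim (CohB1.support (cokernel ι)) ≤ (d : WithBot ℕ∞) := by
    rw [← hdE]
    exact (Topology.IsEmbedding.inclusion
      (Groth.Agent.Lib.Helper6.DevCore.support_subset_of_epi (cokernel.π ι))).isInducing.topologicalKrullDim_le
  have hαC := alpha_nonneg k hL hC hdC hpC
  rw [alpha_sub] at hαC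
  refine ⟨natDegree_le k hL.1 hF hdF hpF, natDegree_le k hL.1 hE hdE.le hpE, alpha_pos k hL hE hdE hpE,
    by linarith, fun hF0 => alpha_pos k hL hF (hEp F ι inferInstance hF hF0) hpF, hle, fun hiso => ?_⟩
  have hC0 : ¬ IsZero (cokernel ι) := by
    intro hz
    apply hiso
    haveI : Epi ι := Preadditive.epi_of_cokernel_zero (hz.eq_of_tgt _ _)
    exact isIso_of_mono_of_epi ι
  obtain ⟨N, hN⟩ := polyLT_zero k hL hC hC0 hpC
  refine ⟨N, fun m hm => ?_⟩
  have := hN m hm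
  rw [eval_zero, eval_sub] at this
  linarith

/-- S15217 -/
theorem isSemistable_iff_isEllSemistable_self (hL : CohB1.IsAmple L) (d : ℕ) (E : X.Modules) :
    ShStab.IsSemistable k X L E d ↔ ShStab.IsEllSemistable k X L E d d := by
  constructor
  · rintro ⟨hE, hE0, hEp, hss⟩
    refine ⟨hE, hE0, hEp, fun F ι hι hF pF pE hpF hpE h1 h2 => ?_⟩
    haveI := hι
    obtain ⟨hnF, hnE, -, -, -, -, -⟩ := sub_facts k hL hE hF hEp hE0 ι hpF hpE
    rw [topPart_self hnF, topPart_self hnE]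
    refine hss F ι hι hF ?_ ?_ pF pE hpF hpE
    · intro hz
      have := isHilbPoly_unique k hpF (isHilbPoly_zero k hL.1 hz)
      rw [this] at h1
      unfold StabCat.alpha at h1
      simp at h1
    · intro hiso
      have := isHilbPoly_unique k (isHilbPoly_of_iso k hL.1 (asIso ι) hF hpF) hpE
      rw [this] at h2
      exact lt_irrefl _ h2
  · rintro ⟨hE, hE0, hEp, hss⟩
    refine ⟨hE, hE0, hEp, fun F ι hι hF hF0 hiso pF pE hpF hpE => ?_⟩
    haveI := hι
    obtain ⟨hnF, hnE, hαE, hle, hpos, hPle, -⟩ := sub_facts k hL hE hF hEp hE0 ι hpF hpE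
    rcases lt_or_eq_of_le hle with hlt | heq
    · have := hss F ι hι hF pF pE hpF hpE (hpos hF0) hlt
      rwa [topPart_self hnF, topPart_self hnE] at this
    · rw [redLE_iff]
      obtain ⟨N, hN⟩ := hPle
      refine ⟨N, fun m hm => ?_⟩
      rw [heq]
      exact mul_le_mul_of_nonneg_left (hN m hm) hαE.le

/-- S15218 -/
theorem isStable_iff_isEllStable_self (hL : CohB1.IsAmple L) (d : ℕ) (E : X.Modules) :
    ShStab.IsStable k X L E d ↔ ShStab.IsEllStable k X L E d d := by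
  constructor
  · rintro ⟨hE, hE0, hEp, hss⟩
    refine ⟨hE, hE0, hEp, fun F ι hι hF pF pE hpF hpE h1 h2 => ?_⟩
    haveI := hι
    obtain ⟨hnF, hnE, -, -, -, -, -⟩ := sub_facts k hL hE hF hEp hE0 ι hpF hpE
    rw [topPart_self hnF, topPart_self hnE]
    refine hss F ι hι hF ?_ ?_ pF pE hpF hpE
    · intro hz
      have := isHilbPoly_unique k hpF (isHilbPoly_zero k hL.1 hz)
      rw [this] at h1
      unfold StabCat.alpha at h1
      simp at h1
    · intro hiso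
      have := isHilbPoly_unique k (isHilbPoly_of_iso k hL.1 (asIso ι) hF hpF) hpE
      rw [this] at h2
      exact lt_irrefl _ h2
  · rintro ⟨hE, hE0, hEp, hss⟩
    refine ⟨hE, hE0, hEp, fun F ι hι hF hF0 hiso pF pE hpF hpE => ?_⟩
    haveI := hι
    obtain ⟨hnF, hnE, hαE, hle, hpos, -, hPlt⟩ := sub_facts k hL hE hF hEp hE0 ι hpF hpE
    rcases lt_or_eq_of_le hle with hlt | heq
    · have := hss F ι hι hF pF pE hpF hpE (hpos hF0) hlt
      rwa [topPart_self hnF, topPart_self hnE] at this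
    · rw [redLT_iff]
      obtain ⟨N, hN⟩ := hPlt hiso
      refine ⟨N, fun m hm => ?_⟩
      rw [heq]
      exact mul_lt_mul_of_pos_left (hN m hm) hαE

end Groth.Agent.Lib.Helper4.HilbPoly
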