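import Groth.Agent.Lib.Helper4.EndScalar1
import Groth.Agent.Lib.Helper4.HilbPoly4
import Groth.Agent.Lib.Helper2.HomExt2
import Groth.Agent.Lib.Helper28.FinType
set_option backward.isDefEq.respectTransparency.types false
set_option autoImplicit false
set_option linter.style.haveILetI false

universe u
open CategoryTheory CategoryTheory.Limits AlgebraicGeometry Opposite TopologicalSpace Polynomial

namespace Groth.Agent.Lib.Helper4.EndScalar
open Groth.Agent.Lib.Helper4.HilbPoly AlgebraicGeometry.Scheme.Modules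

variable {X : Scheme.{u}}

/-- a nonzero module has nonzero sections over some affine open -/
theorem exists_affine_nontrivial (E : X.Modules) (h0 : ¬ IsZero E) :
    ∃ U : X.Opens, IsAffineOpen U ∧ Nontrivial Γ(E, U) := by
  by_contra hcon
  push Not at hcon
  apply h0
  apply Groth.Agent.Lib.Helper6.DevCore.isZero_of_support_eq_empty
  rw [Set.eq_empty_iff_forall_notMem]
  intro x hx
  apply hx
  have key : ∀ a : E.presheaf.stalk x, a = 0 := by
    intro a
    obtain ⟨U, hxU, s, rfl⟩ := TopCat.Presheaf.exists_germ_eq E.presheaf a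
    obtain ⟨V, hV, hxV, hVU⟩ := Opens.isBasis_iff_nbhd.1 X.isBasis_affineOpens hxU
    have hV' : IsAffineOpen V := hV
    haveI : Subsingleton Γ(E, V) := hcon V hV'
    have h1 := TopCat.Presheaf.germ_res_apply E.presheaf (homOfLE hVU) x hxV s
    rw [← h1]
    have h2 : (E.presheaf.map (homOfLE hVU).op) s = 0 := Subsingleton.elim _ _
    rw [h2, map_zero]
  exact ⟨fun a b => (key a).trans (key b).symm⟩

variable (k : Type u) [Field k] [X.Over (Spec (CommRingCat.of k))]

/-- the structure map to the functions on an open -/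
noncomputable def ρU (U : X.Opens) : k →+* Γ(X, U) :=
  (X.presheaf.map (homOfLE (le_top : U ≤ ⊤)).op).hom.comp (Coh.toGlobal (X ↘ Spec (CommRingCat.of k)))

theorem ρU_finiteType [LocallyOfFiniteType (X ↘ (Spec (CommRingCat.of k)))] (U : X.Opens) (hU : IsAffineOpen U) :
    (ρU k U).FiniteType := by
  have h1 : ((X ↘ Spec (CommRingCat.of k)).appLE ⊤ U le_top).hom.FiniteType :=
    HasRingHomProperty.appLE (P := @LocallyOfFiniteType) _ inferInstance ⟨⊤, isAffineOpen_top _⟩ ⟨U, hU⟩ _
  have h2 : ((Scheme.ΓSpecIso (CommRingCat.of k)).inv.hom).FiniteType :=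
    RingHom.FiniteType.of_surjective _
      ((ConcreteCategory.isIso_iff_bijective (Scheme.ΓSpecIso (CommRingCat.of k)).inv).1 inferInstance).2
  exact h1.comp h2

variable [IsAlgClosed k] [IsProper (X ↘ (Spec (CommRingCat.of k)))] {L : X.Modules}

/-- S15205 -/
theorem endomorphism_eq_smulHom (hL : CohB1.IsAmple L) (d : ℕ) (E : X.Modules)
    (hE : ShStab.IsStable k X L E d) (φ : E ⟶ E) :
    ∃ c : k, φ = Groth.Agent.Lib.Helper2.HomExt.smulHom E (Coh.toGlobal (X ↘ Spec (CommRingCat.of k)) c) := by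
  obtain ⟨U, hU, hnt⟩ := exists_affine_nontrivial E hE.2.1
  haveI := hnt
  haveI : E.IsQuasicoherent := hE.1.1
  haveI : SheafOfModules.IsFiniteType (R := X.ringCatSheaf) E := hE.1.2
  haveI : Module.Finite Γ(X, U) Γ(E, U) := Groth.Agent.Lib.Helper28.FinType.finite_of_isAffineOpen E hU
  let φU : Γ(E, U) →ₗ[Γ(X, U)] Γ(E, U) :=
    { toFun := φ.app U, map_add' := map_add _, map_smul' := fun r x => Hom.app_smul φ r x }
  obtain ⟨c, hc⟩ := exists_not_surjective_sub (ρU k U) (ρU_finiteType k U hU) φU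
  refine ⟨c, ?_⟩
  by_contra hne
  set ψ := φ - Groth.Agent.Lib.Helper2.HomExt.smulHom E (Coh.toGlobal (X ↘ Spec (CommRingCat.of k)) c) with hψ
  have hψ0 : ψ ≠ 0 := fun h => hne (sub_eq_zero.1 h)
  haveI := isIso_of_isStable_of_endomorphism_ne_zero k hL d E hE ψ hψ0
  have hbij : Function.Bijective (ψ.app U) := (ConcreteCategory.isIso_iff_bijective (ψ.app U)).1 inferInstance
  apply hc
  intro y
  obtain ⟨x, hx⟩ := hbij.2 y
  refine ⟨x, ?_⟩
  rw [← hx]
  show φ.app U x - ρU k U c • x = ψ.app U x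
  rw [hψ, Hom.sub_app]
  show _ = φ.app U x - (Groth.Agent.Lib.Helper2.HomExt.smulHom E _).app U x
  rw [Groth.Agent.Lib.Helper2.HomExt.smulHom_app]
  rfl

end Groth.Agent.Lib.Helper4.EndScalar
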