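import Groth.Agent.Lib.Helper4.CurveVB4
import Groth.Agent.Lib.Helper4.EndScalar2
set_option backward.isDefEq.respectTransparency.types false
set_option autoImplicit false
set_option linter.style.haveILetI false

universe u
open CategoryTheory CategoryTheory.Limits AlgebraicGeometry Opposite TopologicalSpace

namespace Groth.Agent.Lib.Helper4.EndScalar
open AlgebraicGeometry.Scheme.Modules

variable {X : Scheme.{u}} (k : Type u) [Field k] [X.Over (Spec (CommRingCat.of k))] [IsAlgClosed k]
  [LocallyOfFiniteType (X ↘ (Spec (CommRingCat.of k)))]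

/-- abstract form of `End = k`: if every nonzero endomorphism of a nonzero coherent module is invertible, every
endomorphism is a scalar -/
theorem endomorphism_eq_smulHom_of_forall_isIso (E : X.Modules) (hEc : Coh.IsCoh E) (h0 : ¬ IsZero E)
    (hiso : ∀ ψ : E ⟶ E, ψ ≠ 0 → IsIso ψ) (φ : E ⟶ E) :
    ∃ c : k, φ = Groth.Agent.Lib.Helper2.HomExt.smulHom E (Coh.toGlobal (X ↘ Spec (CommRingCat.of k)) c) := by
  obtain ⟨U, hU, hnt⟩ := exists_affine_nontrivial E h0
  haveI := hnt
  haveI : E.IsQuasicoherent := hEc.1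
  haveI : SheafOfModules.IsFiniteType (R := X.ringCatSheaf) E := hEc.2
  haveI : Module.Finite Γ(X, U) Γ(E, U) := Groth.Agent.Lib.Helper28.FinType.finite_of_isAffineOpen E hU
  let φU : Γ(E, U) →ₗ[Γ(X, U)] Γ(E, U) :=
    { toFun := φ.app U, map_add' := map_add _, map_smul' := fun r x => Hom.app_smul φ r x }
  obtain ⟨c, hc⟩ := exists_not_surjective_sub (ρU k U) (ρU_finiteType k U hU) φU
  refine ⟨c, ?_⟩
  by_contra hne
  set ψ := φ - Groth.Agent.Lib.Helper2.HomExt.smulHom E (Coh.toGlobal (X ↘ Spec (CommRingCat.of k)) c) with hψ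
  have hψ0 : ψ ≠ 0 := fun h => hne (sub_eq_zero.1 h)
  haveI := hiso ψ hψ0
  have hbij : Function.Bijective (ψ.app U) := (ConcreteCategory.isIso_iff_bijective (ψ.app U)).1 inferInstance
  apply hc
  intro y
  obtain ⟨x, hx⟩ := hbij.2 y
  refine ⟨x, ?_⟩
  rw [← hx]
  show φ.app U x - ρU k U c • x = ψ.app U x
  rw [hψ, Hom.sub_app]
  show _ = φ.app U x - (Groth.Agent.Lib.Helper2.HomExt.smulHom E _).app U x
  rw [Groth.Agent.Lib.Helper2.HomExt.smulHom_app]
  rfl

/-- conversion to the `Coh.smulAb` form -/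
theorem toSheaf_map_smulHom (E : X.Modules) (c : Coh.Γtop X) :
    (SheafOfModules.toSheaf X.ringCatSheaf).map (Groth.Agent.Lib.Helper2.HomExt.smulHom E c) = Coh.smulAb E c := by
  apply Sheaf.hom_ext
  ext U m
  exact Groth.Agent.Lib.Helper2.HomExt.smulHom_app E c U.unop m

end Groth.Agent.Lib.Helper4.EndScalar
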