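import Groth.Agent.Lib.Helper4.CurveVB6
import Groth.Agent.Lib.Helper4.SmoothInt
set_option backward.isDefEq.respectTransparency.types false
set_option autoImplicit false
set_option linter.style.haveILetI false

universe u
open CategoryTheory CategoryTheory.Limits AlgebraicGeometry

namespace Groth.Agent.Lib.Helper4.CurveVB7

/-- Smooth + proper + geometrically connected over a field ⇒ integral. -/
theorem isIntegral (k : Type u) [Field k] (X : Scheme.{u}) [X.Over (Spec (CommRingCat.of k))]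
    [IsProper (X ↘ Spec (CommRingCat.of k))] [Smooth (X ↘ Spec (CommRingCat.of k))]
    [GeometricallyConnected (X ↘ Spec (CommRingCat.of k))] : IsIntegral X :=
  Groth.Agent.Lib.Helper4.SmoothInt.isIntegral_of_smooth_geomConnected k X (X ↘ Spec (CommRingCat.of k))

/-- **S16137** -/
theorem hom_quotient_to_sub_eq_zero (k : Type u) [Field k]
    (X : Scheme.{u}) [X.Over (Spec (CommRingCat.of k))] [IsIntegral X]
    [IsProper (X ↘ Spec (CommRingCat.of k))] [Smooth (X ↘ Spec (CommRingCat.of k))]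
    (hdim : topologicalKrullDim ↥X = 1)
    (T : ShortComplex X.Modules) (hT : T.ShortExact)
    (r : ℕ) (hr : 0 < r) (hE : FlatMod.IsFinLocFreeOfRank r T.X₂)
    (hst : ModFun.IsSlopeStable k X T.X₂ r)
    (φ : T.X₃ ⟶ T.X₁) : φ = 0 := by
  haveI := hT.mono_f
  haveI := hT.epi_g
  by_contra hφ
  have hψ : T.g ≫ φ ≫ T.f ≠ 0 := by
    intro h
    apply hφ
    have h1 : φ ≫ T.f = 0 := by
      rw [← cancel_epi T.g, h, comp_zero]
    rw [← cancel_mono T.f, h1, zero_comp]
  haveI := Groth.Agent.Lib.Helper4.CurveVB.isIso_of_endo_ne_zero k X hdim r T.X₂ hE hst _ hψ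
  have hsq : (T.g ≫ φ ≫ T.f) ≫ (T.g ≫ φ ≫ T.f) = 0 := by
    simp only [Category.assoc]
    rw [T.zero_assoc]; simp
  have hz : T.g ≫ φ ≫ T.f = 0 := by
    rw [← cancel_mono (T.g ≫ φ ≫ T.f), hsq, zero_comp]
  exact hψ hz

end Groth.Agent.Lib.Helper4.CurveVB7
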