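import Mathlib.RingTheory.Ideal.Cotangent
import Mathlib.RingTheory.HopkinsLevitzki
import Mathlib.RingTheory.AdjoinRoot
import Mathlib.RingTheory.Artinian.Ring
import Mathlib.FieldTheory.IsAlgClosed.Basic
import Mathlib.Tactic

namespace Groth.Agent.Lib.Helper4.Curvilinear

open IsLocalRing Polynomial

universe u

theorem main (k B : Type u) [Field k] [IsAlgClosed k]
    [CommRing B] [IsLocalRing B] [Algebra k B] [Module.Finite k B]
    (hcurv : Module.finrank (IsLocalRing.ResidueField B) (IsLocalRing.CotangentSpace B) ≤ 1) :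
    Nonempty (B ≃ₐ[k] (Polynomial k ⧸ Ideal.span {(X : Polynomial k) ^ Module.finrank k B})) := by
  have hart : IsArtinianRing B := IsArtinianRing.of_finite k B
  have hnoeth : IsNoetherianRing B := inferInstance
  -- m principal
  obtain ⟨t, ht⟩ := ((IsLocalRing.finrank_cotangentSpace_le_one_iff (R := B)).1 hcurv).principal
  change maximalIdeal B = Ideal.span {t} at ht
  -- residue field
  have hfin : Module.Finite k (ResidueField B) :=
    Module.Finite.of_surjective (IsScalarTower.toAlgHom k B (ResidueField B)).toLinearMap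
      IsLocalRing.residue_surjective
  have hint : Algebra.IsIntegral k (ResidueField B) := Algebra.IsIntegral.of_finite k _
  have hsurj : Function.Surjective (algebraMap k (ResidueField B)) :=
    IsAlgClosed.algebraMap_bijective_of_isIntegral.2
  have hdecomp : ∀ a : B, ∃ c : k, a - algebraMap k B c ∈ maximalIdeal B := by
    intro a
    obtain ⟨c, hc⟩ := hsurj (residue B a)
    refine ⟨c, ?_⟩
    rw [← IsLocalRing.residue_eq_zero_iff, map_sub, ← hc, sub_eq_zero]
    rfl
  -- nilpotency
  obtain ⟨N, hN⟩ := IsArtinianRing.isNilpotent_jacobson_bot (R := B)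
  rw [IsLocalRing.jacobson_eq_maximalIdeal ⊥ bot_ne_top, ht, Ideal.span_singleton_pow,
    Ideal.zero_eq_bot, Ideal.span_singleton_eq_bot] at hN
  -- the map
  obtain ⟨φ, hφ⟩ : ∃ φ : Polynomial k →ₐ[k] B, φ = Polynomial.aeval t := ⟨_, rfl⟩
  have hφX : φ X = t := by rw [hφ, aeval_X]
  have hstep : ∀ j : ℕ, ∀ b : B, ∃ p : Polynomial k, b - φ p ∈ Ideal.span {t ^ j} := by
    intro j
    induction j with
    | zero =>
      intro b
      refine ⟨0, ?_⟩
      rw [pow_zero, Ideal.span_singleton_one]
      trivial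
    | succ j ih =>
      intro b
      obtain ⟨p, hp⟩ := ih b
      obtain ⟨a, ha⟩ := Ideal.mem_span_singleton'.1 hp
      obtain ⟨c, hc⟩ := hdecomp a
      rw [ht] at hc
      obtain ⟨n, hn⟩ := Ideal.mem_span_singleton'.1 hc
      refine ⟨p + C c * X ^ j, ?_⟩
      rw [Ideal.mem_span_singleton']
      refine ⟨n, ?_⟩
      have hφC : φ (C c) = algebraMap k B c := by rw [hφ, aeval_C]
      rw [map_add, map_mul, map_pow, hφX, hφC, ← sub_sub, ← ha]
      have : a = n * t + algebraMap k B c := by rw [hn]; ring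
      rw [this]
      ring
  have hφsurj : Function.Surjective φ := by
    intro b
    obtain ⟨p, hp⟩ := hstep N b
    rw [hN, Ideal.span_singleton_eq_bot.2 rfl, Ideal.mem_bot, sub_eq_zero] at hp
    exact ⟨p, hp.symm⟩
  -- kernel
  have hXN : (X : Polynomial k) ^ N ∈ RingHom.ker φ := by
    rw [RingHom.mem_ker, map_pow, hφX, hN]
  obtain ⟨g, hg⟩ := (IsPrincipalIdealRing.principal (RingHom.ker (φ : Polynomial k →+* B))).principal
  change RingHom.ker (φ : Polynomial k →+* B) = Ideal.span {g} at hg
  have hgdvd : g ∣ X ^ N := by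
    rw [← Ideal.mem_span_singleton, ← hg]
    exact hXN
  obtain ⟨d, _, hd⟩ := (dvd_prime_pow Polynomial.prime_X N).1 hgdvd
  have hker : RingHom.ker (φ : Polynomial k →+* B) = Ideal.span {(X : Polynomial k) ^ d} := by
    rw [hg]
    exact Ideal.span_singleton_eq_span_singleton.2 hd
  -- the isomorphism
  have e1 : (Polynomial k ⧸ RingHom.ker (φ : Polynomial k →+* B)) ≃ₐ[k] B :=
    Ideal.quotientKerAlgEquivOfSurjective hφsurj
  have e2 : (Polynomial k ⧸ Ideal.span {(X : Polynomial k) ^ d}) ≃ₐ[k] B :=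
    (Ideal.quotientEquivAlgOfEq k hker.symm).trans e1
  have hfr : Module.finrank k B = d := by
    rw [← e2.toLinearEquiv.finrank_eq, finrank_quotient_span_eq_natDegree, natDegree_X_pow]
  rw [hfr]
  exact ⟨e2.symm⟩

end Groth.Agent.Lib.Helper4.Curvilinear
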