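import Mathlib.RingTheory.DividedPowers.DPMorphism
import Mathlib.Tactic

set_option autoImplicit false

namespace Groth.Agent.Lib.Helper4.DPPrincipal

open Finset

variable {A : Type*} {B : Type*} [CommRing A] [CommRing B] (f : A →+* B)
  (x : A) (γ : DividedPowers (Ideal.span {x}))

include γ in
theorem wd (n : ℕ) (b b' : B) (h : b * f x = b' * f x) :
    b ^ n * f (γ.dpow n x) = b' ^ n * f (γ.dpow n x) := by
  have hx : x ∈ Ideal.span {x} := Ideal.subset_span rfl
  rcases Nat.eq_zero_or_pos n with rfl | hn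
  · simp
  · obtain ⟨c, hc⟩ := Ideal.mem_span_singleton'.mp (γ.dpow_mem hn.ne' hx)
    have key : ∀ m : ℕ, 0 < m → b ^ m * f x = b' ^ m * f x := by
      intro m hm
      induction m with
      | zero => omega
      | succ m ih =>
        rcases Nat.eq_zero_or_pos m with rfl | hm'
        · simpa using h
        · calc b ^ (m+1) * f x = b * (b ^ m * f x) := by ring
            _ = b * (b' ^ m * f x) := by rw [ih hm']
            _ = b' ^ m * (b * f x) := by ring
            _ = b' ^ m * (b' * f x) := by rw [h]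
            _ = b' ^ (m+1) * f x := by ring
    rw [← hc, map_mul]
    calc b ^ n * (f c * f x) = f c * (b ^ n * f x) := by ring
      _ = f c * (b' ^ n * f x) := by rw [key n hn]
      _ = _ := by ring

theorem mem_J_iff (y : B) : y ∈ (Ideal.span {x}).map f ↔ ∃ b, b * f x = y := by
  rw [Ideal.map_span, Set.image_singleton, Ideal.mem_span_singleton']

open Classical in
/-- the extended divided power function -/
noncomputable def dp (n : ℕ) (y : B) : B :=
  if h : y ∈ (Ideal.span {x}).map f then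
    ((mem_J_iff f x y).mp h).choose ^ n * f (γ.dpow n x) else 0

theorem dp_eq (n : ℕ) (b : B) : dp f x γ n (b * f x) = b ^ n * f (γ.dpow n x) := by
  have h : b * f x ∈ (Ideal.span {x}).map f := (mem_J_iff f x _).mpr ⟨b, rfl⟩
  rw [dp, dif_pos h]
  exact wd f x γ n _ _ ((mem_J_iff f x _).mp h).choose_spec

/-- the extended divided power structure -/
noncomputable def ext : DividedPowers ((Ideal.span {x}).map f) where
  dpow := dp f x γ
  dpow_null := by
    intro n y hy
    rw [dp, dif_neg hy]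
  dpow_zero := by
    intro y hy
    obtain ⟨b, rfl⟩ := (mem_J_iff f x y).mp hy
    rw [dp_eq, pow_zero, one_mul, γ.dpow_zero (Ideal.subset_span rfl), map_one]
  dpow_one := by
    intro y hy
    obtain ⟨b, rfl⟩ := (mem_J_iff f x y).mp hy
    rw [dp_eq, pow_one, γ.dpow_one (Ideal.subset_span rfl)]
  dpow_mem := by
    intro n y hn hy
    obtain ⟨b, rfl⟩ := (mem_J_iff f x y).mp hy
    rw [dp_eq]
    exact Ideal.mul_mem_left _ _ (Ideal.mem_map_of_mem f (γ.dpow_mem hn (Ideal.subset_span rfl)))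
  dpow_add := by
    intro n y y' hy hy'
    obtain ⟨b, rfl⟩ := (mem_J_iff f x y).mp hy
    obtain ⟨b', rfl⟩ := (mem_J_iff f x y').mp hy'
    rw [← add_mul, dp_eq, (Commute.all b b').add_pow', Finset.sum_mul]
    apply Finset.sum_congr rfl
    intro k hk
    rw [dp_eq, dp_eq]
    have hx : x ∈ Ideal.span {x} := Ideal.subset_span rfl
    have h1 : f (γ.dpow k.1 x) * f (γ.dpow k.2 x) = (n.choose k.1 : B) * f (γ.dpow n x) := by
      rw [← map_mul, γ.mul_dpow hx, (Finset.HasAntidiagonal.mem_antidiagonal.mp hk), map_mul, map_natCast]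
    rw [nsmul_eq_mul]
    calc (n.choose k.1 : B) * (b ^ k.1 * b' ^ k.2) * f (γ.dpow n x)
        = b ^ k.1 * b' ^ k.2 * ((n.choose k.1 : B) * f (γ.dpow n x)) := by ring
      _ = b ^ k.1 * b' ^ k.2 * (f (γ.dpow k.1 x) * f (γ.dpow k.2 x)) := by rw [h1]
      _ = _ := by ring
  dpow_mul := by
    intro n a y hy
    obtain ⟨b, rfl⟩ := (mem_J_iff f x y).mp hy
    rw [← mul_assoc, dp_eq, dp_eq, mul_pow, mul_assoc]
  mul_dpow := by
    intro m n y hy
    obtain ⟨b, rfl⟩ := (mem_J_iff f x y).mp hy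
    have hx : x ∈ Ideal.span {x} := Ideal.subset_span rfl
    rw [dp_eq, dp_eq, dp_eq]
    have h1 : f (γ.dpow m x) * f (γ.dpow n x) = ((m+n).choose m : B) * f (γ.dpow (m+n) x) := by
      rw [← map_mul, γ.mul_dpow hx, map_mul, map_natCast]
    calc b ^ m * f (γ.dpow m x) * (b ^ n * f (γ.dpow n x))
        = b ^ (m+n) * (f (γ.dpow m x) * f (γ.dpow n x)) := by ring
      _ = _ := by rw [h1]; ring
  dpow_comp := by
    intro m n y hn hy
    obtain ⟨b, rfl⟩ := (mem_J_iff f x y).mp hy
    have hx : x ∈ Ideal.span {x} := Ideal.subset_span rfl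
    obtain ⟨c, hc⟩ := Ideal.mem_span_singleton'.mp (γ.dpow_mem hn hx)
    rw [dp_eq, dp_eq]
    have h1 : b ^ n * f (γ.dpow n x) = (b ^ n * f c) * f x := by
      rw [← hc, map_mul]; ring
    rw [h1, dp_eq]
    have h2 : f c ^ m * f (γ.dpow m x) = (Nat.uniformBell m n : B) * f (γ.dpow (m * n) x) := by
      rw [← map_pow, ← map_mul, ← γ.dpow_mul hx, hc, γ.dpow_comp hn hx, map_mul, map_natCast]
    calc (b ^ n * f c) ^ m * f (γ.dpow m x) = b ^ (m * n) * (f c ^ m * f (γ.dpow m x)) := by
          rw [mul_pow, ← pow_mul, mul_comm n m]; ring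
      _ = _ := by rw [h2]; ring

theorem ext_isDPMorphism : γ.IsDPMorphism (ext f x γ) f := by
  refine ⟨le_rfl, ?_⟩
  intro n a ha
  obtain ⟨c, rfl⟩ := Ideal.mem_span_singleton'.mp ha
  have hx : x ∈ Ideal.span {x} := Ideal.subset_span rfl
  show dp f x γ n (f (c * x)) = _
  rw [map_mul, dp_eq, γ.dpow_mul hx, map_mul, map_pow]

end Groth.Agent.Lib.Helper4.DPPrincipal
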