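import Mathlib.RingTheory.DividedPowers.Padic
import Mathlib.RingTheory.DividedPowers.RatAlgebra
import Mathlib.RingTheory.Flat.TorsionFree
import Mathlib.Tactic

set_option autoImplicit false

namespace Groth.Agent.Lib.Helper4.DPTorsionFree

open TensorProduct Classical

variable {A : Type*} [CommRing A] [IsAddTorsionFree A] (I : Ideal A)

theorem subsingleton_dp : Subsingleton (DividedPowers I) := by
  refine ⟨fun γ γ' => DividedPowers.ext γ γ' ?_⟩
  intro n x hx
  have h1 := γ.factorial_mul_dpow_eq_pow (n := n) hx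
  have h2 := γ'.factorial_mul_dpow_eq_pow (n := n) hx
  have h3 : n.factorial • γ.dpow n x = n.factorial • γ'.dpow n x := by
    rw [nsmul_eq_mul, nsmul_eq_mul, h1, h2]
  exact nsmul_right_injective (Nat.factorial_ne_zero n) h3

/-- the map to the rationalisation -/
noncomputable def f : A →+* ℚ ⊗[ℤ] A :=
  (Algebra.TensorProduct.includeRight : A →ₐ[ℤ] ℚ ⊗[ℤ] A).toRingHom

theorem f_inj : Function.Injective (f (A := A)) :=
  Algebra.TensorProduct.includeRight_injective (algebraMap ℤ ℚ).injective_int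

/-- the divided powers on the extended ideal -/
noncomputable def δ : DividedPowers (I.map (f (A := A))) :=
  DividedPowers.RatAlgebra.dividedPowers (I.map (f (A := A)))

/-- the sub-ideal on which divided powers come from `I` -/
noncomputable def I' : Ideal A where
  carrier := {x | x ∈ I ∧ ∀ n : ℕ, n ≠ 0 → ∃ y ∈ I, f y = (δ I).dpow n (f x)}
  zero_mem' := by
    refine ⟨I.zero_mem, fun n hn => ⟨0, I.zero_mem, ?_⟩⟩
    rw [map_zero, (δ I).dpow_eval_zero hn]
  add_mem' := by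
    rintro x x' ⟨hx, hxn⟩ ⟨hx', hxn'⟩
    refine ⟨I.add_mem hx hx', fun n hn => ?_⟩
    have hfx : f x ∈ I.map (f (A := A)) := Ideal.mem_map_of_mem _ hx
    have hfx' : f x' ∈ I.map (f (A := A)) := Ideal.mem_map_of_mem _ hx'
    rw [map_add, (δ I).dpow_add hfx hfx']
    have key : ∀ k ∈ Finset.HasAntidiagonal.antidiagonal n,
        (δ I).dpow k.1 (f x) * (δ I).dpow k.2 (f x') ∈
          AddSubgroup.map (f (A := A) : A →+ ℚ ⊗[ℤ] A) I.toAddSubgroup := by
      intro k hk
      have hk' := Finset.HasAntidiagonal.mem_antidiagonal.mp hk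
      by_cases h1 : k.1 = 0
      · have h2 : k.2 ≠ 0 := by omega
        obtain ⟨y', hy', e'⟩ := hxn' k.2 h2
        rw [h1, (δ I).dpow_zero hfx, one_mul, ← e']
        exact ⟨y', hy', rfl⟩
      · obtain ⟨y, hy, e⟩ := hxn k.1 h1
        by_cases h2 : k.2 = 0
        · rw [h2, (δ I).dpow_zero hfx', mul_one, ← e]
          exact ⟨y, hy, rfl⟩
        · obtain ⟨y', hy', e'⟩ := hxn' k.2 h2
          rw [← e, ← e', ← map_mul]
          exact ⟨y * y', I.mul_mem_left _ hy', rfl⟩
    obtain ⟨y, hy, e⟩ := sum_mem key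
    exact ⟨y, hy, e⟩
  smul_mem' := by
    rintro a x ⟨hx, hxn⟩
    refine ⟨I.mul_mem_left _ hx, fun n hn => ?_⟩
    obtain ⟨y, hy, e⟩ := hxn n hn
    have hfx : f x ∈ I.map (f (A := A)) := Ideal.mem_map_of_mem _ hx
    refine ⟨a ^ n * y, I.mul_mem_left _ hy, ?_⟩
    show f (a ^ n * y) = (δ I).dpow n (f (a * x))
    rw [map_mul f a x, (δ I).dpow_mul hfx, map_mul, map_pow, e]

theorem exists_dp (S : Set A) (hS : Ideal.span S = I)
    (h : ∀ x ∈ S, ∀ n : ℕ, 1 ≤ n → x ^ n ∈ Ideal.span {(Nat.factorial n : A)} * I) :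
    Nonempty (DividedPowers I) := by
  subst hS
  have hle : Ideal.span S ≤ I' (Ideal.span S) := by
    rw [Ideal.span_le]
    intro x hx
    have hxI : x ∈ Ideal.span S := Ideal.subset_span hx
    refine ⟨hxI, fun n hn => ?_⟩
    obtain ⟨y, hy, e⟩ := Ideal.mem_span_singleton_mul.mp (h x hx n (Nat.one_le_iff_ne_zero.mpr hn))
    refine ⟨y, hy, ?_⟩
    have hfx : f x ∈ (Ideal.span S).map (f (A := A)) := Ideal.mem_map_of_mem _ hxI
    have hu : IsUnit ((n.factorial : ℕ) : ℚ ⊗[ℤ] A) := IsUnit.natCast_factorial_of_algebra ℚ n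
    show f y = (DividedPowers.RatAlgebra.dividedPowers ((Ideal.span S).map (f (A := A)))).dpow n (f x)
    rw [DividedPowers.RatAlgebra.dpow_apply, if_pos hfx, ← map_pow, ← e, map_mul, map_natCast,
      ← mul_assoc, Ring.inverse_mul_cancel _ hu, one_mul]
  refine ⟨DividedPowers.ofInjective (Ideal.span S) ((Ideal.span S).map (f (A := A))) f f_inj
    (δ (Ideal.span S)) rfl ?_⟩
  intro n x hx
  by_cases hn : n = 0
  · subst hn
    refine ⟨1, fun h => absurd rfl h, ?_⟩
    rw [map_one, (δ (Ideal.span S)).dpow_zero (Ideal.mem_map_of_mem _ hx)]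
  · obtain ⟨y, hy, e⟩ := (hle hx).2 n hn
    exact ⟨y, fun _ => hy, e⟩

theorem main : Subsingleton (DividedPowers I) ∧
    (Nonempty (DividedPowers I) ↔ ∃ S : Set A, Ideal.span S = I ∧
      ∀ x ∈ S, ∀ n : ℕ, 1 ≤ n → x ^ n ∈ Ideal.span {(Nat.factorial n : A)} * I) := by
  refine ⟨subsingleton_dp I, ?_, ?_⟩
  · rintro ⟨γ⟩
    refine ⟨(I : Set A), Ideal.span_eq I, ?_⟩
    intro x hx n hn
    rw [← γ.factorial_mul_dpow_eq_pow (n := n) hx]
    exact Ideal.mul_mem_mul (Ideal.mem_span_singleton_self _)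
      (γ.dpow_mem (Nat.one_le_iff_ne_zero.mp hn) hx)
  · rintro ⟨S, hS, h⟩
    exact exists_dp I S hS h

end Groth.Agent.Lib.Helper4.DPTorsionFree
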