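import Mathlib.AlgebraicGeometry.Morphisms.Affine
import Mathlib.AlgebraicGeometry.Noetherian
import Mathlib.RingTheory.DedekindDomain.Basic
import Mathlib.RingTheory.KrullDimension.Zero
import Mathlib.Tactic
import Groth.Agent.Lib.Helper4.DimOneConstructible

set_option autoImplicit false
universe u
open CategoryTheory AlgebraicGeometry TopologicalSpace

namespace Groth.Agent.Lib.Helper4.DedekindOpens

variable {A : Type u} [CommRing A]

theorem exists_avoid (y : Ideal A) [y.IsPrime] (T : Set (PrimeSpectrum A)) (hT : T.Finite)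
    (h : ∀ q ∈ T, ¬ q.asIdeal ≤ y) : ∃ f : A, f ∉ y ∧ ∀ q ∈ T, f ∈ q.asIdeal := by
  induction T, hT using Set.Finite.induction_on with
  | empty => exact ⟨1, (Ideal.ne_top_iff_one y).mp (Ideal.IsPrime.ne_top ‹_›), by simp⟩
  | insert hqs hs ih =>
    rename_i q s
    obtain ⟨f, hf, hfs⟩ := ih (fun q' hq' => h q' (Set.mem_insert_of_mem _ hq'))
    obtain ⟨a, haq, hay⟩ := Set.not_subset.mp (h q (Set.mem_insert _ _))
    refine ⟨f * a, ?_, ?_⟩
    · intro hfa
      rcases Ideal.IsPrime.mem_or_mem ‹_› hfa with h1 | h1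
      · exact hf h1
      · exact hay h1
    · intro q' hq'
      rcases hq' with rfl | hq'
      · exact Ideal.mul_mem_left _ _ haq
      · exact Ideal.mul_mem_right _ _ (hfs q' hq')

variable [IsDomain A] [IsNoetherianRing A] [Ring.KrullDimLE 1 A]

theorem spec_closed_proper (Z : Set (PrimeSpectrum A)) (hZ : IsClosed Z) (hne : Z ≠ Set.univ) :
    Z.Finite ∧ ∀ x ∈ Z, IsClosed ({x} : Set (PrimeSpectrum A)) := by
  apply DimOneConstructible.closed_proper_finite _ Z hZ hne
  rw [PrimeSpectrum.topologicalKrullDim_eq_ringKrullDim]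
  exact Ring.krullDimLE_iff.mp inferInstance

theorem generic_not_mem (Z : Set (PrimeSpectrum A)) (hZ : IsClosed Z) (hne : Z ≠ Set.univ) :
    (⟨⊥, Ideal.isPrime_bot⟩ : PrimeSpectrum A) ∉ Z := by
  intro h
  apply hne
  rw [Set.eq_univ_iff_forall]
  intro x
  have h1 : closure {(⟨⊥, Ideal.isPrime_bot⟩ : PrimeSpectrum A)} ⊆ Z :=
    closure_minimal (Set.singleton_subset_iff.mpr h) hZ
  apply h1
  rw [PrimeSpectrum.closure_singleton]
  simp

theorem key (U : Opens (PrimeSpectrum A)) (y : PrimeSpectrum A) (hy : y ∉ U)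
    (hU : (U : Set (PrimeSpectrum A)) ≠ ∅) :
    ∃ f g : A, f ∉ y.asIdeal ∧
      U ⊓ PrimeSpectrum.basicOpen f = PrimeSpectrum.basicOpen (f * g) := by
  have hZc : IsClosed (U : Set (PrimeSpectrum A))ᶜ := U.isOpen.isClosed_compl
  have hZne : (U : Set (PrimeSpectrum A))ᶜ ≠ Set.univ := fun e => hU (Set.compl_univ_iff.mp e)
  obtain ⟨hZf, hZp⟩ := spec_closed_proper _ hZc hZne
  have hgen := generic_not_mem _ hZc hZne
  have hyne : y.asIdeal ≠ ⊥ := by
    intro e
    apply hgen
    have : y = ⟨⊥, Ideal.isPrime_bot⟩ := PrimeSpectrum.ext e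
    rw [← this]
    exact hy
  obtain ⟨g, hgy, hg0⟩ := Submodule.exists_mem_ne_zero_of_ne_bot hyne
  have hVc : IsClosed (PrimeSpectrum.zeroLocus {g} : Set (PrimeSpectrum A)) :=
    PrimeSpectrum.isClosed_zeroLocus _
  have hVne : (PrimeSpectrum.zeroLocus {g} : Set (PrimeSpectrum A)) ≠ Set.univ := by
    intro e
    have : (⟨⊥, Ideal.isPrime_bot⟩ : PrimeSpectrum A) ∈ PrimeSpectrum.zeroLocus {g} := by
      rw [e]; exact Set.mem_univ _
    rw [PrimeSpectrum.mem_zeroLocus, Set.singleton_subset_iff] at this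
    exact hg0 this
  obtain ⟨hVf, hVp⟩ := spec_closed_proper _ hVc hVne
  let T : Set (PrimeSpectrum A) := (PrimeSpectrum.zeroLocus {g} ∪ (U : Set (PrimeSpectrum A))ᶜ) \ {y}
  have hTf : T.Finite := (hVf.union hZf).subset Set.sdiff_subset
  have hymax : y.asIdeal.IsMaximal := (PrimeSpectrum.isClosed_singleton_iff_isMaximal y).mp (hZp y hy)
  obtain ⟨f, hfy, hfT⟩ := exists_avoid y.asIdeal T hTf (by
    rintro q ⟨hq, hqy⟩ hle
    have hqmax : q.asIdeal.IsMaximal := by
      rcases hq with hq | hq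
      · exact (PrimeSpectrum.isClosed_singleton_iff_isMaximal q).mp (hVp q hq)
      · exact (PrimeSpectrum.isClosed_singleton_iff_isMaximal q).mp (hZp q hq)
    exact hqy (PrimeSpectrum.ext (hqmax.eq_of_le hymax.ne_top hle)))
  refine ⟨f, g, hfy, ?_⟩
  ext x
  simp only [Opens.coe_inf, Set.mem_inter_iff, SetLike.mem_coe, PrimeSpectrum.mem_basicOpen]
  constructor
  · rintro ⟨hxU, hxf⟩ hfg
    rcases x.2.mem_or_mem hfg with h1 | h1
    · exact hxf h1
    · -- x ∈ V(g), x ∉ T so x = y
      have hxT : x ∉ T := fun hxT => hxf (hfT x hxT)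
      have : x = y := by
        by_contra hne
        exact hxT ⟨Or.inl (by rw [PrimeSpectrum.mem_zeroLocus, Set.singleton_subset_iff]; exact h1), hne⟩
      exact hy (this ▸ hxU)
  · intro hfg
    have hxf : f ∉ x.asIdeal := fun h => hfg (Ideal.mul_mem_right _ _ h)
    have hxg : g ∉ x.asIdeal := fun h => hfg (Ideal.mul_mem_left _ _ h)
    refine ⟨?_, hxf⟩
    by_contra hxU
    have hxT : x ∉ T := fun hxT => hxf (hfT x hxT)
    have : x = y := by
      by_contra hne
      exact hxT ⟨Or.inr hxU, hne⟩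
    exact hxg (this ▸ hgy)

theorem affine_preimage {X : Scheme.{u}} (U V : X.Opens) (h : IsAffineOpen (U ⊓ V)) :
    IsAffineOpen (U.ι ⁻¹ᵁ V) := by
  rw [← U.ι.isAffineOpen_iff_of_isOpenImmersion, U.ι.image_preimage_eq_opensRange_inf,
    U.opensRange_ι]
  exact h

theorem main (A : Type u) [CommRing A] [IsDomain A] [IsNoetherianRing A] [Ring.KrullDimLE 1 A]
    (U : (Spec (CommRingCat.of A)).Opens) : IsAffineOpen U := by
  by_cases hU : U = ⊥
  · rw [hU]; exact isAffineOpen_bot _
  have : IsAffineHom U.ι := by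
    apply isAffineHom_of_forall_exists_isAffineOpen
    intro y
    by_cases hy : y ∈ U
    · obtain ⟨_, ⟨_, ⟨f, rfl⟩, rfl⟩, hyf, hfU⟩ :=
        (PrimeSpectrum.isBasis_basic_opens (R := A)).exists_subset_of_mem_open hy U.isOpen
      let V : (Spec (CommRingCat.of A)).Opens := PrimeSpectrum.basicOpen f
      have hV : IsAffineOpen V := IsAffineOpen.Spec_basicOpen (R := CommRingCat.of A) f
      refine ⟨V, hyf, hV, affine_preimage U V ?_⟩
      have : U ⊓ V = V := inf_eq_right.mpr hfU
      rw [this]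
      exact hV
    · obtain ⟨f, g, hf, he⟩ := key (A := A) U y hy (fun e => hU (Opens.ext e))
      let V : (Spec (CommRingCat.of A)).Opens := PrimeSpectrum.basicOpen f
      have hV : IsAffineOpen V := IsAffineOpen.Spec_basicOpen (R := CommRingCat.of A) f
      refine ⟨V, hf, hV, affine_preimage U V ?_⟩
      have he' : U ⊓ V = (PrimeSpectrum.basicOpen (f * g) : (Spec (CommRingCat.of A)).Opens) := he
      rw [he']
      exact IsAffineOpen.Spec_basicOpen (R := CommRingCat.of A) (f * g)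
  exact isAffine_of_isAffineHom U.ι

end Groth.Agent.Lib.Helper4.DedekindOpens
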