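import Mathlib.AlgebraicGeometry.Limits
import Mathlib.AlgebraicGeometry.Morphisms.Separated
import Mathlib.AlgebraicGeometry.Morphisms.QuasiCompact
import Mathlib.Tactic

set_option autoImplicit false
universe u
open CategoryTheory AlgebraicGeometry TopologicalSpace Limits

namespace Groth.Agent.Lib.Helper4.DenseSeparated

variable {X : Scheme.{u}}

theorem isSeparated_of_iso {V P : Scheme.{u}} (e : V ≅ P) [P.IsSeparated] : V.IsSeparated := by
  constructor
  rw [show terminal.from V = e.hom ≫ terminal.from P from terminal.hom_ext _ _]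
  infer_instance

theorem isSeparated_of_mono {P Q : Scheme.{u}} (h : P ⟶ Q) [Mono h] [Q.IsSeparated] :
    P.IsSeparated := by
  constructor
  rw [show terminal.from P = h ≫ terminal.from Q from terminal.hom_ext _ _]
  infer_instance

/-- a finite disjoint union of opens each contained in an affine open is separated -/
theorem separated_of_disjoint {n : ℕ} (U W : Fin n → X.Opens) (hU : ∀ k, IsAffineOpen (U k))
    (hWU : ∀ k, W k ≤ U k) (hdisj : Pairwise (Function.onFun Disjoint W)) :
    ((⨆ k, W k : X.Opens) : Scheme.{u}).IsSeparated := by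
  let V : X.Opens := ⨆ k, W k
  let g : (∐ fun k => (W k : Scheme.{u})) ⟶ X := Sigma.desc fun k => (W k).ι
  have hg : IsOpenImmersion g := by
    apply isOpenImmersion_sigmaDesc
    intro i j hij
    simpa [Function.onFun_apply, ← Opens.coe_disjoint] using hdisj hij
  have hgι : ∀ k (z : (W k : Scheme.{u})), g (Sigma.ι (fun k => (W k : Scheme.{u})) k z) = (W k).ι z := by
    intro k z
    rw [← Scheme.Hom.comp_apply, Sigma.ι_desc]
  have hrange : Set.range V.ι = Set.range g := by
    rw [Scheme.Opens.range_ι]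
    ext x
    simp only [V, Opens.coe_iSup, Set.mem_iUnion, SetLike.mem_coe, Set.mem_range]
    constructor
    · rintro ⟨k, hk⟩
      obtain ⟨z, hz⟩ : x ∈ Set.range (W k).ι := by rw [Scheme.Opens.range_ι]; exact hk
      exact ⟨Sigma.ι (fun k => (W k : Scheme.{u})) k z, by rw [hgι, hz]⟩
    · rintro ⟨y, rfl⟩
      have hy : ∃ (k : Fin n) (z : (W k : Scheme.{u})),
          Sigma.ι (fun k => (W k : Scheme.{u})) k z = y := by
        obtain ⟨z, hz⟩ := (sigmaOpenCover fun k => (W k : Scheme.{u})).covers y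
        exact ⟨_, z, hz⟩
      obtain ⟨k, z, rfl⟩ := hy
      exact ⟨k, by rw [hgι]; exact z.2⟩
  have e : (V : Scheme.{u}) ≅ ∐ fun k => (W k : Scheme.{u}) :=
    IsOpenImmersion.isoOfRangeEq V.ι g hrange
  -- the coproduct embeds in an affine scheme
  have : ∀ k, IsAffine ((U k : X.Opens) : Scheme.{u}) := hU
  let h : (∐ fun k => (W k : Scheme.{u})) ⟶ ∐ fun k => (U k : Scheme.{u}) :=
    Sigma.desc fun k => X.homOfLE (hWU k) ≫ Sigma.ι (fun k => (U k : Scheme.{u})) k
  have hh : IsOpenImmersion h := by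
    apply isOpenImmersion_sigmaDesc
    intro i j hij
    have := disjoint_opensRange_sigmaι (fun k => (U k : Scheme.{u})) i j hij
    rw [← Opens.coe_disjoint] at this
    refine this.mono ?_ ?_
    · rintro _ ⟨z, rfl⟩
      exact ⟨X.homOfLE (hWU i) z, by rw [← Scheme.Hom.comp_apply]⟩
    · rintro _ ⟨z, rfl⟩
      exact ⟨X.homOfLE (hWU j) z, by rw [← Scheme.Hom.comp_apply]⟩
  have : (∐ fun k => (W k : Scheme.{u})).IsSeparated := isSeparated_of_mono h
  exact isSeparated_of_iso e

theorem main (X : Scheme.{u}) [CompactSpace X] :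
    ∃ V : X.Opens, Dense (V : Set X) ∧ (V : Scheme.{u}).IsSeparated := by
  obtain ⟨s, hs, hcov⟩ := (isCompact_iff_finite_and_eq_biUnion_affineOpens (X := X) (U := ⊤)).mp
    (by simpa using isCompact_univ)
  have : Finite s := hs.to_subtype
  obtain ⟨n, ⟨e⟩⟩ := Finite.exists_equiv_fin s
  let U : Fin n → X.Opens := fun k => ((e.symm k : s) : X.affineOpens)
  have hU : ∀ k, IsAffineOpen (U k) := fun k => ((e.symm k : s) : X.affineOpens).2
  have hUcov : ∀ x : X, ∃ k, x ∈ U k := by
    intro x
    have hx : x ∈ (⊤ : X.Opens) := trivial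
    rw [hcov] at hx
    simp only [Opens.mem_iSup] at hx
    obtain ⟨i, hi, hxi⟩ := hx
    refine ⟨e ⟨i, hi⟩, ?_⟩
    simp only [U, Equiv.symm_apply_apply]
    exact hxi
  let C : Fin n → Set X := fun k => closure (⋃ j : Fin n, ⋃ (_ : j < k), (U j : Set X))
  let W : Fin n → X.Opens := fun k => ⟨(U k : Set X) \ C k, (U k).isOpen.sdiff isClosed_closure⟩
  have hWU : ∀ k, W k ≤ U k := fun k x hx => hx.1
  have hUC : ∀ j k, j < k → (U j : Set X) ⊆ C k := fun j k hjk =>
    (Set.subset_iUnion₂ (s := fun (j : Fin n) (_ : j < k) => (U j : Set X)) j hjk).trans subset_closure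
  have hdisj : Pairwise (Function.onFun Disjoint W) := by
    have key : ∀ j k, j < k → Disjoint (W j) (W k) := by
      intro j k hjk
      rw [← Opens.coe_disjoint, Set.disjoint_left]
      intro x hxj hxk
      exact hxk.2 (hUC j k hjk hxj.1)
    intro j k hjk
    rcases lt_or_gt_of_ne hjk with h | h
    · exact key j k h
    · exact (key k j h).symm
  refine ⟨⨆ k, W k, ?_, separated_of_disjoint U W hU hWU hdisj⟩
  rw [dense_iff_inter_open]
  intro O hO hOne
  -- minimal k with O ∩ U k nonempty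
  have hex : ∃ k : Fin n, (O ∩ U k).Nonempty := by
    obtain ⟨x, hx⟩ := hOne
    obtain ⟨k, hk⟩ := hUcov x
    exact ⟨k, x, hx, hk⟩
  classical
  obtain ⟨k, hk⟩ := exists_minimal_of_wellFoundedLT (fun k : Fin n => (O ∩ U k).Nonempty) hex
  have hmin : ∀ j, j < k → O ∩ U j = ∅ := by
    intro j hjk
    by_contra hne
    exact (hk.not_lt (y := j) (Set.nonempty_iff_ne_empty.mpr hne)) hjk
  have hOC : Disjoint O (C k) := by
    apply Disjoint.closure_right _ hO
    rw [Set.disjoint_left]
    intro x hxO hx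
    simp only [Set.mem_iUnion] at hx
    obtain ⟨j, hjk, hxj⟩ := hx
    have : x ∈ O ∩ U j := ⟨hxO, hxj⟩
    rw [hmin j hjk] at this
    exact this
  obtain ⟨x, hxO, hxU⟩ := hk.prop
  refine ⟨x, hxO, ?_⟩
  simp only [Opens.coe_iSup, Set.mem_iUnion]
  exact ⟨k, hxU, fun hxC => Set.disjoint_left.mp hOC hxO hxC⟩

end Groth.Agent.Lib.Helper4.DenseSeparated
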