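import Mathlib.LinearAlgebra.Matrix.Transvection
import Mathlib.LinearAlgebra.Matrix.Rank
import Mathlib.RingTheory.LocalRing.ResidueField.Basic
import Mathlib.RingTheory.Ideal.Operations
import Mathlib.Tactic

namespace Groth.Agent.Lib.Helper4.DetPow

open Matrix

theorem det_mem_pow {R : Type*} [CommRing R] {n : Type*} [Fintype n] [DecidableEq n]
    (I : Ideal R) (N : Matrix n n R) (S : Finset n) (hS : ∀ i ∈ S, ∀ j, N i j ∈ I) :
    N.det ∈ I ^ S.card := by
  rw [← det_transpose, det_apply']
  refine Ideal.sum_mem _ fun σ _ => ?_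
  apply Ideal.mul_mem_left
  simp only [transpose_apply]
  rw [← Finset.prod_sdiff (Finset.subset_univ S)]
  apply Ideal.mul_mem_left
  have := Ideal.prod_mem_prod (s := S) (I := fun _ => I) (x := fun i => N i (σ i))
    (fun i hi => hS i hi _)
  rwa [Finset.prod_const] at this

open TransvectionStruct in
theorem exists_lift_prod {R : Type*} [CommRing R] [IsLocalRing R] {n : Type*} [Fintype n]
    [DecidableEq n] (L : List (TransvectionStruct n (IsLocalRing.ResidueField R))) :
    ∃ P : Matrix n n R, P.det = 1 ∧ P.map (IsLocalRing.residue R) = (L.map toMatrix).prod := by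
  induction L with
  | nil => exact ⟨1, det_one, by simp⟩
  | cons t L ih =>
    obtain ⟨P, hP1, hP2⟩ := ih
    obtain ⟨c, hc⟩ := IsLocalRing.residue_surjective t.c
    refine ⟨transvection t.i t.j c * P, ?_, ?_⟩
    · rw [det_mul, det_transvection_of_ne _ _ t.hij, hP1, one_mul]
    · rw [List.map_cons, List.prod_cons, Matrix.map_mul, hP2]
      congr 1
      ext a b
      simp only [transvection, Matrix.map_apply, Matrix.add_apply, Matrix.one_apply,
        Matrix.single_apply, TransvectionStruct.toMatrix, map_add]
      congr 1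
      · split_ifs <;> simp
      · split_ifs <;> simp [hc]

universe u

theorem main {R : Type u} [CommRing R] [IsLocalRing R]
    {n : ℕ} (M : Matrix (Fin n) (Fin n) R) (r : ℕ)
    (hr : (M.map (IsLocalRing.residue R)).rank ≤ r) :
    M.det ∈ IsLocalRing.maximalIdeal R ^ (n - r) := by
  classical
  obtain ⟨L, L', D, h⟩ := Pivot.exists_list_transvec_mul_mul_list_transvec_eq_diagonal
    (M.map (IsLocalRing.residue R))
  obtain ⟨P, hP1, hP2⟩ := exists_lift_prod (R := R) L
  obtain ⟨Q, hQ1, hQ2⟩ := exists_lift_prod (R := R) L'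
  obtain ⟨N, hN⟩ : ∃ N : Matrix (Fin n) (Fin n) R, N = P * M * Q := ⟨_, rfl⟩
  have hNmap : N.map (IsLocalRing.residue R) = diagonal D := by
    rw [hN, Matrix.map_mul, Matrix.map_mul, hP2, hQ2, h]
  have hdet : N.det = M.det := by
    rw [hN, det_mul, det_mul, hP1, hQ1, one_mul, mul_one]
  -- rank
  have hrank : (diagonal D).rank ≤ r := by
    rw [← h]
    have hu : IsUnit ((L.map TransvectionStruct.toMatrix).prod).det := by
      rw [TransvectionStruct.det_toMatrix_prod]; exact isUnit_one
    have hu' : IsUnit ((L'.map TransvectionStruct.toMatrix).prod).det := by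
      rw [TransvectionStruct.det_toMatrix_prod]; exact isUnit_one
    rw [rank_mul_eq_left_of_isUnit_det _ _ hu', rank_mul_eq_right_of_isUnit_det _ _ hu]
    exact hr
  rw [rank_diagonal] at hrank
  obtain ⟨S, hSdef⟩ : ∃ S : Finset (Fin n), S = Finset.univ.filter (fun i => D i = 0) := ⟨_, rfl⟩
  have hScard : n - r ≤ S.card := by
    have h1 : Fintype.card {i // D i ≠ 0} = (Finset.univ.filter (fun i => D i ≠ 0)).card :=
      Fintype.card_subtype _
    have h2 := Finset.card_filter_add_card_filter_not (s := (Finset.univ : Finset (Fin n)))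
      (fun i => D i = 0)
    rw [Finset.card_univ, Fintype.card_fin] at h2
    have h3 : (Finset.univ.filter (fun i => ¬ D i = 0)).card =
        (Finset.univ.filter (fun i => D i ≠ 0)).card := rfl
    rw [h1] at hrank
    rw [hSdef]
    omega
  have hS : ∀ i ∈ S, ∀ j, N i j ∈ IsLocalRing.maximalIdeal R := by
    intro i hi j
    rw [hSdef, Finset.mem_filter] at hi
    rw [← IsLocalRing.residue_eq_zero_iff]
    have := congrFun (congrFun hNmap i) j
    rw [Matrix.map_apply] at this
    rw [this, diagonal_apply]
    split_ifs with hij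
    · exact hi.2
    · rfl
  rw [← hdet]
  exact Ideal.pow_le_pow_right hScard (det_mem_pow _ N S hS)

end Groth.Agent.Lib.Helper4.DetPow

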