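import Mathlib.AlgebraicGeometry.Limits
import Mathlib.AlgebraicGeometry.Morphisms.QuasiCompact
import Mathlib.Tactic
import Groth.Agent.Lib.Helper4.DimZeroT2

set_option autoImplicit false
universe u
open CategoryTheory AlgebraicGeometry TopologicalSpace

namespace Groth.Agent.Lib.Helper4.DimZeroAffine

variable {X : Scheme.{u}}

/-- a clopen subset of an affine open is affine -/
theorem clopen_sub_affine (V : X.Opens) (hV : IsAffineOpen V) (D : X.Opens) (hDV : D ≤ V)
    (hD : IsClosed (D : Set X)) : IsAffineOpen D := by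
  have hcl : IsClopen (hV.fromSpec ⁻¹' (D : Set X)) :=
    ⟨hD.preimage hV.fromSpec.continuous, D.isOpen.preimage hV.fromSpec.continuous⟩
  obtain ⟨e, -, he⟩ := PrimeSpectrum.isClopen_iff.mp hcl
  have : D = X.basicOpen e := by
    rw [← hV.fromSpec_image_basicOpen]
    ext1
    have h1 : ((hV.fromSpec ''ᵁ (PrimeSpectrum.basicOpen e : Opens (PrimeSpectrum Γ(X, V))) : X.Opens) : Set X)
        = hV.fromSpec '' (hV.fromSpec ⁻¹' (D : Set X)) := by
      rw [he]; rfl
    rw [h1, Set.image_preimage_eq_inter_range, hV.range_fromSpec]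
    exact (Set.inter_eq_left.mpr hDV).symm
  rw [this]
  exact hV.basicOpen e

theorem sup_affine [T2Space X] (V W : X.Opens) (hV : IsAffineOpen V) (hW : IsAffineOpen W) :
    IsAffineOpen (V ⊔ W) := by
  have hWc : IsClosed (W : Set X) := hW.isCompact.isClosed
  have hVc : IsClosed (V : Set X) := hV.isCompact.isClosed
  let D : X.Opens := ⟨(V : Set X) \ W, V.isOpen.sdiff hWc⟩
  have hD : IsAffineOpen D := by
    apply clopen_sub_affine V hV D
    · intro x hx; exact hx.1
    · exact hVc.sdiff W.isOpen
  have heq : V ⊔ W = D ⊔ W := by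
    ext x
    simp only [Opens.coe_sup, Set.mem_union, SetLike.mem_coe]
    constructor
    · rintro (h | h)
      · by_cases hxW : x ∈ W
        · exact Or.inr hxW
        · exact Or.inl ⟨h, hxW⟩
      · exact Or.inr h
    · rintro (h | h)
      · exact Or.inl h.1
      · exact Or.inr h
  rw [heq]
  apply hD.sup_of_disjoint hW
  rw [← Opens.coe_disjoint, Set.disjoint_left]
  intro x hx hxW
  exact hx.2 hxW

theorem main (X : Scheme.{u}) [X.IsSeparated]
    (h : topologicalKrullDim X ≤ 0) (U : X.Opens) (hU : IsCompact (U : Set X)) :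
    IsAffineOpen U := by
  have := Groth.Agent.Lib.Helper4.DimZeroT2.t2Space X h
  obtain ⟨s, hs, rfl⟩ := isCompact_iff_finite_and_eq_biUnion_affineOpens.mp hU
  clear hU
  induction s, hs using Set.Finite.induction_on with
  | empty => simpa using isAffineOpen_bot X
  | insert hVs hs ih =>
    rename_i V s
    rw [iSup_insert]
    exact sup_affine _ _ V.2 ih

end Groth.Agent.Lib.Helper4.DimZeroAffine
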