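import Mathlib

namespace Groth.Agent.Lib.Helper4.DivTrans
open Polynomial IntermediateField IntermediateField.algebraAdjoinAdjoin

/-- `X i` is not a proper power in a multivariate polynomial ring over a field. -/
lemma mvPolynomial_pow_ne_X {k : Type*} [Field k] {σ : Type*} (i : σ) (p : MvPolynomial σ k)
    (ℓ : ℕ) (hℓ : 2 ≤ ℓ) : p ^ ℓ ≠ MvPolynomial.X i := by
  classical
  intro h
  let φ : MvPolynomial σ k →ₐ[k] k[X] :=
    MvPolynomial.aeval (fun j => if j = i then (Polynomial.X : k[X]) else 0)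
  have h1 : (φ p) ^ ℓ = Polynomial.X := by
    rw [← map_pow, h]
    simp [φ]
  have h2 := congrArg Polynomial.natDegree h1
  rw [Polynomial.natDegree_pow, Polynomial.natDegree_X] at h2
  have : ℓ ∣ 1 := ⟨_, h2.symm⟩
  have := Nat.le_of_dvd one_pos this
  omega

/-- In a finitely generated field extension `K/k`, a transcendental element is not an `ℓ`-th
power for all large primes `ℓ`. -/
theorem exists_bound_prime_pow_ne {k K : Type} [Field k] [Field K] [Algebra k K]
    [Algebra.EssFiniteType k K] (u : K) (hu : Transcendental k u) :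
    ∃ N : ℕ, ∀ ℓ : ℕ, ℓ.Prime → N < ℓ → ∀ v : K, v ^ ℓ ≠ u := by
  have hs : AlgebraicIndepOn k id ({u} : Set K) := by
    rw [AlgebraicIndepOn]
    have : Subsingleton ({u} : Set K) := by infer_instance
    rw [algebraicIndependent_singleton_iff (⟨u, rfl⟩ : ({u} : Set K))]
    exact hu
  obtain ⟨t, hut, ht⟩ := exists_isTranscendenceBasis_superset hs
  set x : t → K := Subtype.val with hx
  set F := IntermediateField.adjoin k (Set.range x) with hF
  haveI : Algebra.IsAlgebraic F K := ht.isAlgebraic_field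
  haveI : Algebra.EssFiniteType F K := Algebra.EssFiniteType.of_comp k F K
  haveI : Module.Finite F K := Algebra.finite_of_essFiniteType_of_isAlgebraic
  refine ⟨Module.finrank F K, fun ℓ hℓ hlt v hv => ?_⟩
  have iu : t := ⟨u, hut rfl⟩
  have huF : u ∈ F := IntermediateField.subset_adjoin k _ ⟨⟨u, hut rfl⟩, rfl⟩
  set uF : F := ⟨u, huF⟩ with huF'
  -- X^ℓ - uF is reducible over F
  have hred : ¬ Irreducible (X ^ ℓ - C uF : F[X]) := by
    intro hirr
    have hroot : Polynomial.aeval v (X ^ ℓ - C uF : F[X]) = 0 := by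
      simp only [map_sub, map_pow, aeval_X, aeval_C]
      rw [hv]
      exact sub_self _
    have hmonic : (X ^ ℓ - C uF : F[X]).Monic := monic_X_pow_sub_C _ hℓ.ne_zero
    have hmin : minpoly F v = X ^ ℓ - C uF := (minpoly.eq_of_irreducible_of_monic hirr hroot hmonic).symm
    have hdeg : (minpoly F v).natDegree ≤ Module.finrank F K :=
      minpoly.natDegree_le v
    rw [hmin, natDegree_X_pow_sub_C] at hdeg
    omega
  rw [X_pow_sub_C_irreducible_iff_of_prime hℓ] at hred
  push Not at hred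
  obtain ⟨b, hb⟩ := hred
  -- b is integral over the polynomial subalgebra, which is integrally closed
  set A₀ := Algebra.adjoin k (Set.range x) with hA₀
  let e : MvPolynomial t k ≃ₐ[k] A₀ := ht.1.aevalEquiv
  haveI : IsIntegrallyClosed A₀ := IsIntegrallyClosed.of_equiv e.toRingEquiv
  have huA : u ∈ A₀ := Algebra.subset_adjoin ⟨⟨u, hut rfl⟩, rfl⟩
  have hbint : IsIntegral A₀ b := by
    refine ⟨X ^ ℓ - C (⟨u, huA⟩ : A₀), monic_X_pow_sub_C _ hℓ.ne_zero, ?_⟩
    simp only [eval₂_sub, eval₂_pow, eval₂_X, eval₂_C]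
    rw [hb]
    exact sub_self _
  obtain ⟨a, ha⟩ := IsIntegrallyClosed.isIntegral_iff.1 hbint
  obtain ⟨p, rfl⟩ := e.surjective a
  have hpow : p ^ ℓ = MvPolynomial.X (⟨u, hut rfl⟩ : t) := by
    apply e.injective
    apply Subtype.ext
    have h1 : ((e (p ^ ℓ) : A₀) : K) = ((algebraMap A₀ F (e p) : F) : K) ^ ℓ := by
      rw [map_pow]; rfl
    rw [h1, ha, ← IntermediateField.coe_pow (x := b), hb]
    show u = ((ht.1.aevalEquiv (MvPolynomial.X (⟨u, hut rfl⟩ : t)) : A₀) : K)
    rw [AlgebraicIndependent.aevalEquiv_apply_coe, MvPolynomial.aeval_X]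
  exact mvPolynomial_pow_ne_X _ p ℓ hℓ.two_le hpow

end Groth.Agent.Lib.Helper4.DivTrans
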