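import Mathlib.AlgebraicGeometry.Properties
import Mathlib.Topology.NoetherianSpace
import Mathlib.Topology.Sober
import Mathlib.AlgebraicGeometry.Morphisms.UnderlyingMap
import Mathlib.Tactic

set_option autoImplicit false
universe u
open TopologicalSpace Topology

namespace Groth.Agent.Lib.Helper4.DominantGeneric

universe v w
variable {X : Type v} {S : Type w} [TopologicalSpace X] [TopologicalSpace S]

theorem converse [QuasiSober S] (f : X → S)
    (h : ∀ s : S, closure {s} ∈ irreducibleComponents S → s ∈ Set.range f) : DenseRange f := by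
  intro t
  have hT := irreducibleComponent_mem_irreducibleComponents t
  have hTcl : IsClosed (irreducibleComponent t) := isClosed_irreducibleComponent
  obtain ⟨s, hs⟩ := QuasiSober.sober hT.1 hTcl
  have hs' : closure {s} = irreducibleComponent t := hs
  have hsr : s ∈ Set.range f := h s (hs' ▸ hT)
  have : t ∈ closure {s} := hs' ▸ mem_irreducibleComponent
  exact closure_mono (Set.singleton_subset_iff.mpr hsr) this

theorem forward [QuasiSober X] (f : X → S) (hf : Continuous f)
    (hX : (irreducibleComponents X).Finite) (hd : DenseRange f) :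
    ∃ (ι : Type v) (_ : Finite ι) (g : ι → X), ∀ T : Set S, IsIrreducible T →
      ∃ i, T ⊆ closure {f (g i)} := by
  have hex : ∀ Z : irreducibleComponents X, ∃ η, IsGenericPoint η (Z : Set X) := fun Z =>
    QuasiSober.sober Z.2.1 (isClosed_of_mem_irreducibleComponents _ Z.2)
  choose η hη using hex
  have : Finite (irreducibleComponents X) := hX.to_subtype
  refine ⟨irreducibleComponents X, inferInstance, η, ?_⟩
  have hA : Set.range f ⊆ ⋃ Z, closure {f (η Z)} := by
    rintro _ ⟨x, rfl⟩
    let Z : irreducibleComponents X := ⟨irreducibleComponent x,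
      irreducibleComponent_mem_irreducibleComponents x⟩
    have h1 : η Z ⤳ x := (hη Z).specializes mem_irreducibleComponent
    have h2 : f (η Z) ⤳ f x := h1.map hf
    exact Set.mem_iUnion.mpr ⟨Z, specializes_iff_mem_closure.mp h2⟩
  have hcl : IsClosed (⋃ Z, closure {f (η Z)}) := isClosed_iUnion_of_finite fun _ => isClosed_closure
  have hB : (⋃ Z, closure {f (η Z)}) = Set.univ := by
    rw [Set.eq_univ_iff_forall]
    intro t
    exact closure_minimal hA hcl (hd t)
  intro T hT
  classical
  have : Fintype (irreducibleComponents X) := Fintype.ofFinite _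
  obtain ⟨W, hW, hTW⟩ := isIrreducible_iff_sUnion_isClosed.mp hT
    (Finset.univ.image fun Z : irreducibleComponents X => closure {f (η Z)})
    (by
      intro z hz
      obtain ⟨Z, -, rfl⟩ := Finset.mem_image.mp hz
      exact isClosed_closure)
    (by
      intro t _
      have : t ∈ ⋃ Z, closure {f (η Z)} := hB ▸ Set.mem_univ t
      obtain ⟨Z, hZ⟩ := Set.mem_iUnion.mp this
      exact ⟨closure {f (η Z)}, Finset.mem_coe.mpr (Finset.mem_image.mpr ⟨Z, Finset.mem_univ _, rfl⟩), hZ⟩)
  obtain ⟨Z, -, rfl⟩ := Finset.mem_image.mp hW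
  exact ⟨Z, hTW⟩

theorem main [QuasiSober X] [QuasiSober S] [T0Space S] (f : X → S) (hf : Continuous f)
    (hX : (irreducibleComponents X).Finite) :
    (DenseRange f ↔ ∀ s : S, closure {s} ∈ irreducibleComponents S → s ∈ Set.range f) ∧
      (DenseRange f → (irreducibleComponents S).Finite) := by
  refine ⟨⟨fun hd s hs => ?_, converse f⟩, fun hd => ?_⟩
  · obtain ⟨ι, _, g, hg⟩ := forward f hf hX hd
    obtain ⟨i, hi⟩ := hg _ hs.1
    have h2 : closure {f (g i)} ⊆ closure {s} := hs.2 isIrreducible_singleton.closure hi
    have : closure {s} = closure {f (g i)} := Set.Subset.antisymm hi h2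
    have := (inseparable_iff_closure_eq.mpr this).eq
    exact ⟨g i, this.symm⟩
  · obtain ⟨ι, _, g, hg⟩ := forward f hf hX hd
    apply (Set.finite_range fun i => closure {f (g i)}).subset
    intro T hT
    obtain ⟨i, hi⟩ := hg T hT.1
    have h2 : closure {f (g i)} ⊆ T := hT.2 isIrreducible_singleton.closure hi
    exact ⟨i, Set.Subset.antisymm h2 hi⟩

end Groth.Agent.Lib.Helper4.DominantGeneric
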