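import Mathlib.Tactic
import Mathlib.AlgebraicGeometry.AffineScheme
import Groth.Agent.Lib.Helper4.IdemGlue

open CategoryTheory AlgebraicGeometry TopologicalSpace Opposite

namespace Groth.Agent.Lib.Helper4.IdemGlue2

open Groth.Agent.Lib.Helper4.IdemGlue

universe u

variable (X : Scheme.{u}) (D : X.Opens)

/-- idempotents of `Γ(X, D)` lift to idempotents of `Γ(X, ⊤)`, provided they do so uniquely
on affines. -/
theorem exists_lift_idempotent
    (Hinj : ∀ (U : X.affineOpens) (a a' : Γ(X, U.1)), IsIdempotentElem a → IsIdempotentElem a' →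
      res X (inf_le_left : U.1 ⊓ D ≤ U.1) a = res X (inf_le_left : U.1 ⊓ D ≤ U.1) a' → a = a')
    (Hsurj : ∀ (U : X.affineOpens) (e : Γ(X, U.1 ⊓ D)), IsIdempotentElem e →
      ∃ a : Γ(X, U.1), IsIdempotentElem a ∧ res X inf_le_left a = e)
    (e : Γ(X, D)) (he : IsIdempotentElem e) :
    ∃ a : Γ(X, ⊤), IsIdempotentElem a ∧ res X le_top a = e := by
  have hloc : ∀ U : X.affineOpens, ∃ a : Γ(X, U.1), IsIdempotentElem a ∧
      res X inf_le_left a = res X (inf_le_right : U.1 ⊓ D ≤ D) e :=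
    fun U => Hsurj U _ (he.map _)
  choose sf hsfi hsf using hloc
  have hcover : (⊤ : X.Opens) ≤ ⨆ U : X.affineOpens, U.1 := by
    rw [iSup_affineOpens_eq_top]
  have hcompat : TopCat.Presheaf.IsCompatible X.presheaf (fun U : X.affineOpens => U.1) sf := by
    intro U V
    refine X.sheaf.eq_of_locally_eq' (fun W : {W : X.affineOpens // W.1 ≤ U.1 ⊓ V.1} => W.1.1)
      (U.1 ⊓ V.1) (fun W => homOfLE W.2) ?_ _ _ ?_
    · intro x hx
      obtain ⟨_, ⟨W, hW, rfl⟩, hxW, hWV⟩ :=
        X.isBasis_affineOpens.exists_subset_of_mem_open hx (U.1 ⊓ V.1).isOpen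
      exact Opens.mem_iSup.mpr ⟨⟨⟨W, hW⟩, hWV⟩, hxW⟩
    · intro W
      change res X W.2 (res X inf_le_left (sf U)) = res X W.2 (res X inf_le_right (sf V))
      rw [res_res, res_res]
      apply Hinj W.1 _ _ ((hsfi U).map _) ((hsfi V).map _)
      rw [res_res, res_res]
      have hU : W.1.1 ⊓ D ≤ U.1 ⊓ D := inf_le_inf_right _ (W.2.trans inf_le_left)
      have hV : W.1.1 ⊓ D ≤ V.1 ⊓ D := inf_le_inf_right _ (W.2.trans inf_le_right)
      have e1 : res X ((inf_le_left : W.1.1 ⊓ D ≤ W.1.1).trans (W.2.trans inf_le_left)) (sf U)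
          = res X hU (res X inf_le_left (sf U)) := by rw [res_res]
      have e2 : res X ((inf_le_left : W.1.1 ⊓ D ≤ W.1.1).trans (W.2.trans inf_le_right)) (sf V)
          = res X hV (res X inf_le_left (sf V)) := by rw [res_res]
      rw [e1, e2, hsf, hsf, res_res, res_res]
  obtain ⟨a, ha', -⟩ : ∃! a : Γ(X, ⊤), ∀ U : X.affineOpens,
      res X (le_top : U.1 ≤ ⊤) a = sf U :=
    X.sheaf.existsUnique_gluing' (fun U : X.affineOpens => U.1) ⊤
      (fun U => homOfLE le_top) hcover sf hcompat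
  refine ⟨a, ?_, ?_⟩
  · refine X.sheaf.eq_of_locally_eq' (fun U : X.affineOpens => U.1) ⊤
      (fun U => homOfLE le_top) hcover _ _ ?_
    intro U
    change res X le_top (a * a) = res X le_top a
    rw [map_mul, ha' U]
    exact (hsfi U).eq
  · refine X.sheaf.eq_of_locally_eq' (fun U : X.affineOpens => U.1 ⊓ D) D
      (fun U => homOfLE inf_le_right) ?_ _ _ ?_
    · intro x hx
      obtain ⟨_, ⟨W, hW, rfl⟩, hxW, -⟩ :=
        X.isBasis_affineOpens.exists_subset_of_mem_open (Set.mem_univ x) isOpen_univ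
      exact Opens.mem_iSup.mpr ⟨⟨W, hW⟩, hxW, hx⟩
    · intro U
      change res X inf_le_right (res X le_top a) = res X inf_le_right e
      rw [res_res, ← hsf U, ← ha' U, res_res]

end Groth.Agent.Lib.Helper4.IdemGlue2
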