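import Mathlib.Tactic
import Mathlib.AlgebraicGeometry.Morphisms.QuasiCompact
import Mathlib.RingTheory.DiscreteValuationRing.Basic
import Groth.Agent.Lib.Helper4.DvrConn
import Groth.Agent.Lib.Helper4.IdemBasic2

open CategoryTheory AlgebraicGeometry Limits TopologicalSpace

namespace Groth.Agent.Lib.Helper4.DvrOpen

open Groth.Agent.Lib.Helper4.IdemGlue Groth.Agent.Lib.Helper4.DvrFibre
  Groth.Agent.Lib.Helper4.ConnIdem Groth.Agent.Lib.Helper4.DvrConn

universe u

variable {R : Type u} [CommRing R] {X : Scheme.{u}} (f : X ⟶ Spec (CommRingCat.of R))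

theorem preconnectedSpace_generic_fibre [IsDomain R] [IsDiscreteValuationRing R]
    (hopen : IsOpenMap f) [PreconnectedSpace X]
    (hred : IsReduced (f.fiber (IsLocalRing.closedPoint R))) :
    PreconnectedSpace ↑(f.fiber (⟨⊥, Ideal.isPrime_bot⟩ : PrimeSpectrum R)) := by
  obtain ⟨π, hπ⟩ := IsDiscreteValuationRing.exists_irreducible R
  have hmax := hπ.maximalIdeal_eq
  have hD : (X.basicOpen ((strMap f ⊤).hom π) : Set X) =
      f ⁻¹' {(⟨⊥, Ideal.isPrime_bot⟩ : PrimeSpectrum R)} := by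
    rw [basicOpen_strMap, basicOpen_eq_singleton π hπ]
    rfl
  -- every nonempty open of `X` meets `D`
  have hdense : ∀ V : X.Opens, V ⊓ X.basicOpen ((strMap f ⊤).hom π) = ⊥ → V = ⊥ := by
    intro V hV
    by_contra hne
    obtain ⟨x, hx⟩ : (V : Set X).Nonempty := by
      rw [Set.nonempty_iff_ne_empty]
      intro h
      apply hne
      ext1
      simpa using h
    have hfV : IsOpen (f '' (V : Set X)) := hopen _ V.isOpen
    have hgen : (⟨⊥, Ideal.isPrime_bot⟩ : PrimeSpectrum R) ∈ f '' (V : Set X) := by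
      let η : PrimeSpectrum R := ⟨⊥, Ideal.isPrime_bot⟩
      let fx : PrimeSpectrum R := f x
      have hspec : η ⤳ fx := by
        rw [← PrimeSpectrum.le_iff_specializes]
        change (⊥ : Ideal R) ≤ _
        exact bot_le
      exact hspec.mem_open hfV ⟨x, hx, rfl⟩
    obtain ⟨y, hyV, hy⟩ := hgen
    have hyD : y ∈ (X.basicOpen ((strMap f ⊤).hom π) : Set X) := by
      rw [hD]
      exact hy
    have : y ∈ V ⊓ X.basicOpen ((strMap f ⊤).hom π) := ⟨hyV, hyD⟩
    rw [hV] at this
    exact this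
  have H1 : ∀ (U : X.affineOpens) (x : Γ(X, U.1)),
      res X (inf_le_left : U.1 ⊓ X.basicOpen ((strMap f ⊤).hom π) ≤ U.1) x = 0 →
        IsNilpotent x := by
    intro U x hx
    rw [Scheme.isNilpotent_iff_basicOpen_eq_bot_of_isCompact U.2.isCompact]
    apply hdense
    have h1 : X.basicOpen (res X (inf_le_left :
        U.1 ⊓ X.basicOpen ((strMap f ⊤).hom π) ≤ U.1) x) =
        (U.1 ⊓ X.basicOpen ((strMap f ⊤).hom π)) ⊓ X.basicOpen x := by
      rw [res, Scheme.basicOpen_res]
    rw [hx, Scheme.basicOpen_zero] at h1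
    rw [eq_bot_iff, h1]
    intro y hy
    exact ⟨⟨X.basicOpen_le x hy.1, hy.2⟩, hy.1⟩
  have H2 : ∀ U : X.affineOpens,
      _root_.IsReduced (Γ(X, U.1) ⧸ Ideal.span {res X (le_top : U.1 ≤ ⊤) ((strMap f ⊤).hom π)}) := by
    intro U
    rw [res_strMap]
    exact isReduced_quotient f U.2 π hmax hred
  have hno : NoIdem Γ(X, X.basicOpen ((strMap f ⊤).hom π)) := by
    intro e he
    obtain ⟨a, ha, rfl⟩ := IdemBasic2.exists_lift_idempotent_basicOpen X _ H1 H2 e he
    rcases noIdem_Γ X a ha with h | h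
    · left; rw [h, map_zero]
    · right; rw [h, map_one]
  have hno' : NoIdem Γ((X.basicOpen ((strMap f ⊤).hom π)).toScheme, ⊤) := by
    intro e he
    have hinj : Function.Injective (X.basicOpen ((strMap f ⊤).hom π)).topIso.hom.hom :=
      (X.basicOpen ((strMap f ⊤).hom π)).topIso.commRingCatIsoToRingEquiv.injective
    rcases hno ((X.basicOpen ((strMap f ⊤).hom π)).topIso.hom.hom e) (by rw [← map_mul, he])
      with h | h
    · left; apply hinj; rw [h, map_zero]
    · right; apply hinj; rw [h, map_one]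
  have hpre : PreconnectedSpace (X.basicOpen ((strMap f ⊤).hom π)).toScheme :=
    preconnectedSpace_of_noIdem _ hno'
  have hpre' : PreconnectedSpace ↥(X.basicOpen ((strMap f ⊤).hom π)) := hpre
  have hconn : _root_.IsPreconnected (f ⁻¹' {(⟨⊥, Ideal.isPrime_bot⟩ : PrimeSpectrum R)}) := by
    rw [← hD]
    exact isPreconnected_iff_preconnectedSpace.mpr hpre'
  have hcs : PreconnectedSpace ↥(f ⁻¹' {(⟨⊥, Ideal.isPrime_bot⟩ : PrimeSpectrum R)}) :=
    isPreconnected_iff_preconnectedSpace.mp hconn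
  exact (f.fiberHomeo _).symm.surjective.denseRange.preconnectedSpace
    (f.fiberHomeo _).symm.continuous

end Groth.Agent.Lib.Helper4.DvrOpen

namespace Groth.Agent.Lib.Helper4.DvrOpen

universe u

theorem S3417_aux (A : Type u) [CommRing A] [IsDomain A]
    [IsDiscreteValuationRing A] {X : Scheme.{u}} (f : X ⟶ Spec (CommRingCat.of A))
    (hopen : IsOpenMap f.base) [PreconnectedSpace X]
    (a b : ↥(Spec (CommRingCat.of A))) (ha : IsClosed ({a} : Set ↥(Spec (CommRingCat.of A))))
    (hb : ∀ z : ↥(Spec (CommRingCat.of A)), b ⤳ z)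
    (hred : AlgebraicGeometry.IsReduced (f.fiber a)) :
    PreconnectedSpace ↥(f.fiber b) := by
  have ha' : a = IsLocalRing.closedPoint A := by
    have h1 : (a : PrimeSpectrum A).asIdeal.IsMaximal :=
      (PrimeSpectrum.isClosed_singleton_iff_isMaximal (a : PrimeSpectrum A)).mp ha
    apply PrimeSpectrum.ext
    exact IsLocalRing.eq_maximalIdeal h1
  have hb' : b = (⟨⊥, Ideal.isPrime_bot⟩ : PrimeSpectrum A) := by
    let b' : PrimeSpectrum A := b
    let η : PrimeSpectrum A := ⟨⊥, Ideal.isPrime_bot⟩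
    have h1 : b' ⤳ η := hb η
    have h2 : b' ≤ η := (PrimeSpectrum.le_iff_specializes b' η).mpr h1
    have h3 : b'.asIdeal ≤ ⊥ := h2
    apply PrimeSpectrum.ext
    exact le_bot_iff.mp h3
  subst ha'
  rw [hb']
  exact preconnectedSpace_generic_fibre f hopen hred

end Groth.Agent.Lib.Helper4.DvrOpen
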