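import Mathlib.Tactic
import Mathlib.AlgebraicGeometry.Morphisms.Proper
import Mathlib.RingTheory.LocalProperties.Reduced
import Groth.Agent.Lib.Helper4.DvrConn
import Groth.Agent.Lib.Helper4.NakRed

open CategoryTheory AlgebraicGeometry Limits TopologicalSpace

namespace Groth.Agent.Lib.Helper4.DvrRed

open Groth.Agent.Lib.Helper4.IdemGlue Groth.Agent.Lib.Helper4.DvrFibre
  Groth.Agent.Lib.Helper4.DvrConn

universe u

variable {R : Type u} [CommRing R] {X : Scheme.{u}} (f : X ⟶ Spec (CommRingCat.of R))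

lemma finiteType_strMap [LocallyOfFiniteType f] {U : X.Opens} (hU : IsAffineOpen U) :
    (strMap f U).hom.FiniteType := by
  have h1 : (f.appLE ⊤ U le_top).hom.FiniteType := f.finiteType_appLE (isAffineOpen_top _) hU _
  have h2 : (strMap f U) = (Scheme.ΓSpecIso (CommRingCat.of R)).inv ≫ f.appLE ⊤ U le_top := by
    rfl
  rw [h2, CommRingCat.hom_comp]
  refine RingHom.FiniteType.comp h1 ?_
  exact RingHom.FiniteType.of_surjective _
    (Scheme.ΓSpecIso (CommRingCat.of R)).symm.commRingCatIsoToRingEquiv.surjective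

lemma isNoetherianRing_Γ [IsNoetherianRing R] [LocallyOfFiniteType f] {U : X.Opens}
    (hU : IsAffineOpen U) : IsNoetherianRing Γ(X, U) := by
  letI : Algebra R Γ(X, U) := (strMap f U).hom.toAlgebra
  haveI : Algebra.FiniteType R Γ(X, U) := finiteType_strMap f hU
  exact Algebra.FiniteType.isNoetherianRing R Γ(X, U)

lemma basicOpen_strMap_U (U : X.Opens) (π : R) :
    X.basicOpen ((strMap f U).hom π) = U ⊓ X.basicOpen ((strMap f ⊤).hom π) := by
  rw [← res_strMap, res, Scheme.basicOpen_res]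

lemma notMem_basicOpen_strMap (U : X.Opens) (π : R) (x : X) (hx : π ∈ (f x).asIdeal) :
    x ∉ X.basicOpen ((strMap f U).hom π) := by
  intro h
  rw [basicOpen_strMap_U] at h
  have h2 : x ∈ (X.basicOpen ((strMap f ⊤).hom π) : Set X) := h.2
  rw [basicOpen_strMap] at h2
  exact h2 hx

theorem exists_reduced_nbhd [IsDomain R] [IsDiscreteValuationRing R] [Flat f]
    [LocallyOfFiniteType f]
    (hred : IsReduced (f.fiber (IsLocalRing.closedPoint R))) (x : X)
    (hx : f x = IsLocalRing.closedPoint R) :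
    ∃ V : X.Opens, IsAffineOpen V ∧ x ∈ V ∧ _root_.IsReduced Γ(X, V) := by
  obtain ⟨π, hπ⟩ := IsDiscreteValuationRing.exists_irreducible R
  have hmax := hπ.maximalIdeal_eq
  obtain ⟨_, ⟨U, hU, rfl⟩, hxU, -⟩ :=
    X.isBasis_affineOpens.exists_subset_of_mem_open (Set.mem_univ x) isOpen_univ
  have ht := mem_nonZeroDivisors_strMap f hU π hπ.ne_zero
  have hq := isReduced_quotient f hU π hmax hred
  haveI := isNoetherianRing_Γ f hU
  obtain ⟨r, hr1, hr2⟩ := NakRed.exists_annihilator_nilradical _ ht hq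
  refine ⟨X.basicOpen r, hU.basicOpen r, ?_, ?_⟩
  · -- x ∈ basicOpen r
    have hπx : π ∈ (f x).asIdeal := by
      rw [hx]
      change π ∈ IsLocalRing.maximalIdeal R
      rw [hmax]
      exact Ideal.mem_span_singleton_self π
    have hnot := notMem_basicOpen_strMap f U π x hπx
    rw [Ideal.mem_span_singleton] at hr1
    obtain ⟨a, ha⟩ := hr1
    have hsum : r = 1 + (strMap f U).hom π * a := by rw [← ha]; ring
    rw [Scheme.mem_basicOpen _ _ _ hxU] at hnot ⊢
    have h1 : X.presheaf.germ U x hxU r + (- (X.presheaf.germ U x hxU ((strMap f U).hom π * a))) = 1 := by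
      rw [hsum, map_add, map_one]
      ring
    rcases IsLocalRing.isUnit_or_isUnit_of_add_one h1 with h | h
    · exact h
    · exfalso
      apply hnot
      rw [IsUnit.neg_iff, map_mul] at h
      exact isUnit_of_mul_isUnit_left h
  · haveI := hU.isLocalization_basicOpen r
    exact NakRed.isReduced_of_isLocalization_away r hr2

theorem isReduced_of_reduced_special_fibre [IsDomain R] [IsDiscreteValuationRing R] [Flat f]
    [IsProper f]
    (hred : IsReduced (f.fiber (IsLocalRing.closedPoint R))) : IsReduced X := by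
  let S : Set X := {x | ∃ V : X.Opens, IsAffineOpen V ∧ x ∈ V ∧ _root_.IsReduced Γ(X, V)}
  have hSopen : IsOpen S := by
    rw [isOpen_iff_forall_mem_open]
    rintro x ⟨V, hV, hxV, hr⟩
    exact ⟨V, fun y hy => ⟨V, hV, hy, hr⟩, V.isOpen, hxV⟩
  have hS : ∀ x : X, x ∈ S := by
    have hcl : IsClosed (f '' Sᶜ) := f.isClosedMap _ hSopen.isClosed_compl
    let W : Opens (PrimeSpectrum R) := ⟨(f '' Sᶜ)ᶜ, hcl.isOpen_compl⟩
    have hW : IsLocalRing.closedPoint R ∈ W := by
      rintro ⟨x, hxS, hx⟩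
      exact hxS (exists_reduced_nbhd f hred x hx)
    have hW' : W = ⊤ := IsLocalRing.closed_point_mem_iff.mp hW
    intro x
    by_contra hxS
    have : f x ∈ W := by rw [hW']; trivial
    exact this ⟨x, hxS, rfl⟩
  apply +allowSynthFailures isReduced_of_isReduced_stalk
  intro x
  obtain ⟨V, hV, hxV, hr⟩ := hS x
  letI := X.presheaf.algebra_section_stalk ⟨x, hxV⟩
  haveI := hV.isLocalization_stalk ⟨x, hxV⟩
  exact isReduced_localizationPreserves (hV.primeIdealOf ⟨x, hxV⟩).asIdeal.primeCompl _ hr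

end Groth.Agent.Lib.Helper4.DvrRed
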