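import Mathlib.Tactic
import Mathlib.AlgebraicGeometry.Morphisms.Flat
import Mathlib.AlgebraicGeometry.PullbackCarrier
import Mathlib.RingTheory.AdjoinRoot
import Mathlib.RingTheory.Flat.FaithfullyFlat.Algebra
import Mathlib.RingTheory.RingHom.Flat
import Groth.Prelude.Def_GmPts

universe u

open CategoryTheory CategoryTheory.Limits MonoidalCategory CartesianMonoidalCategory MonObj
  AlgebraicGeometry Opposite Polynomial

noncomputable section

namespace Groth.Agent.Lib.Helper4.EisCover

section generic

variable (R : Type u) [CommRing R]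

/-- the polynomial `s² - s + 1` -/
def poly : Polynomial R := X ^ 2 - X + 1

theorem poly_monic : (poly R).Monic := by
  unfold poly
  monicity!

theorem poly_natDegree [Nontrivial R] : (poly R).natDegree = 2 := by
  unfold poly
  compute_degree!

/-- the ring `R[s]/(s² - s + 1)` -/
abbrev Lam : Type u := AdjoinRoot (poly R)

def s₀ : Lam R := AdjoinRoot.root (poly R)

theorem s₀_mul : s₀ R * (1 - s₀ R) = 1 := by
  have h : Polynomial.eval₂ (AdjoinRoot.of (poly R)) (s₀ R) (X ^ 2 - X + 1) = 0 :=
    AdjoinRoot.eval₂_root (poly R)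
  simp only [eval₂_add, eval₂_sub, eval₂_pow, eval₂_X, eval₂_one] at h
  linear_combination -h

instance : Module.Free R (Lam R) :=
  Module.Free.of_basis (AdjoinRoot.powerBasis' (poly_monic R)).basis

instance [Nontrivial R] : Nontrivial (Lam R) := by
  have hdim : 0 < (AdjoinRoot.powerBasis' (poly_monic R)).dim := by
    rw [AdjoinRoot.powerBasis'_dim, poly_natDegree]
    norm_num
  have := (AdjoinRoot.powerBasis' (poly_monic R)).basis.ne_zero ⟨0, hdim⟩
  exact nontrivial_of_ne _ _ this

/-- `Spec Λ ⟶ Spec R` -/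
def specLam : Spec (CommRingCat.of (Lam R)) ⟶ Spec (CommRingCat.of R) :=
  Spec.map (CommRingCat.ofHom (algebraMap R (Lam R)))

instance : Flat (specLam R) := by
  rw [specLam, Flat.SpecMap_iff]
  change (algebraMap R (Lam R)).Flat
  rw [RingHom.flat_algebraMap_iff]
  infer_instance

instance [Nontrivial R] : Surjective (specLam R) := by
  constructor
  exact PrimeSpectrum.comap_surjective_of_faithfullyFlat (A := R) (B := Lam R)

end generic

variable {S : Scheme.{u}}

/-- the flat cover `X ×_ℤ Spec ℤ[s]/(s² - s + 1)` of `X` -/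
def cover (X : Over S) : Over S :=
  Over.mk (pullback.fst (GmPts.toBaseZ X.left) (specLam (ULift.{u} ℤ)) ≫ X.hom)

def π (X : Over S) : cover X ⟶ X :=
  Over.homMk (pullback.fst (GmPts.toBaseZ X.left) (specLam (ULift.{u} ℤ))) rfl

instance (X : Over S) : Flat (π X).left := by
  change Flat (pullback.fst (GmPts.toBaseZ X.left) (specLam (ULift.{u} ℤ)))
  infer_instance

instance (X : Over S) : Surjective (π X).left := by
  change Surjective (pullback.fst (GmPts.toBaseZ X.left) (specLam (ULift.{u} ℤ)))
  infer_instance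

instance (X : Over S) : Epi (π X) := by
  haveI : Epi ((Over.forget S).map (π X)) := Flat.epi_of_flat_of_surjective (π X).left
  exact (Over.forget S).epi_of_epi_map this

/-- the ring map `Λ → Γ(cover X)` -/
def sHom (X : Over S) : Lam (ULift.{u} ℤ) →+* Γ((cover X).left, ⊤) :=
  ((Scheme.ΓSpecIso (CommRingCat.of (Lam (ULift.{u} ℤ)))).inv ≫
    (pullback.snd (GmPts.toBaseZ X.left) (specLam (ULift.{u} ℤ))).appTop).hom

/-- the function `s` on the cover -/
def sFn (X : Over S) : Γ((cover X).left, ⊤) := sHom X (s₀ (ULift.{u} ℤ))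

theorem sFn_mul (X : Over S) : sFn X * (1 - sFn X) = 1 := by
  unfold sFn
  rw [← map_one (sHom X), ← map_sub, ← map_mul, s₀_mul]

/-- the unit `s` on the cover -/
def sUnit (X : Over S) : Γ((cover X).left, ⊤)ˣ where
  val := sFn X
  inv := 1 - sFn X
  val_inv := sFn_mul X
  inv_val := by rw [mul_comm]; exact sFn_mul X

/-- the unit `1 - s` on the cover -/
def sUnit' (X : Over S) : Γ((cover X).left, ⊤)ˣ := (sUnit X)⁻¹

theorem sUnit'_val (X : Over S) :
    ((sUnit' X : Γ((cover X).left, ⊤)ˣ) : Γ((cover X).left, ⊤)) = 1 - ↑(sUnit X) := rfl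

end Groth.Agent.Lib.Helper4.EisCover
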