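import Groth.Agent.Lib.Helper4.MuHN3
set_option backward.isDefEq.respectTransparency.types false
set_option autoImplicit false
set_option linter.style.haveILetI false

universe u
open CategoryTheory CategoryTheory.Limits AlgebraicGeometry Opposite TopologicalSpace Polynomial

namespace Groth.Agent.Lib.Helper4.EllHN
open Groth.Agent.Lib.Helper4.HilbPoly Groth.Agent.Lib.Helper4.PolyAsymp Groth.Agent.Lib.Helper4.HNFilt
  Groth.Agent.Lib.Helper4.MaxDestab Groth.Agent.Lib.Helper4.SubPre Groth.Agent.Lib.Helper4.HNExist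
  Groth.Agent.Lib.Helper4.JHExist

section poly

theorem topPart_add (ℓ d : ℕ) (P Q : ℚ[X]) :
    StabCat.topPart ℓ d (P + Q) = StabCat.topPart ℓ d P + StabCat.topPart ℓ d Q := by
  ext j
  rw [coeff_add, coeff_topPart, coeff_topPart, coeff_topPart, coeff_add]
  split_ifs <;> simp

theorem redLE_add {d : ℕ} {c P₁ P₂ : ℚ[X]} (h1 : StabCat.RedLE d c P₁) (h2 : StabCat.RedLE d c P₂) :
    StabCat.RedLE d c (P₁ + P₂) := by
  rw [redLE_iff] at *
  obtain ⟨N1, h1⟩ := h1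
  obtain ⟨N2, h2⟩ := h2
  refine ⟨max N1 N2, fun m hm => ?_⟩
  have a := h1 m (le_of_max_le_left hm)
  have b := h2 m (le_of_max_le_right hm)
  rw [alpha_add, eval_add]
  linarith

theorem redLT_add_of_lt_of_le {d : ℕ} {c P₁ P₂ : ℚ[X]} (h1 : StabCat.RedLT d c P₁) (h2 : StabCat.RedLE d c P₂) :
    StabCat.RedLT d c (P₁ + P₂) := by
  rw [redLT_iff] at *
  rw [redLE_iff] at h2
  obtain ⟨N1, h1⟩ := h1
  obtain ⟨N2, h2⟩ := h2
  refine ⟨max N1 N2, fun m hm => ?_⟩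
  have a := h1 m (le_of_max_le_left hm)
  have b := h2 m (le_of_max_le_right hm)
  rw [alpha_add, eval_add]
  linarith

theorem redLT_add_of_le_of_lt {d : ℕ} {c P₁ P₂ : ℚ[X]} (h1 : StabCat.RedLE d c P₁) (h2 : StabCat.RedLT d c P₂) :
    StabCat.RedLT d c (P₁ + P₂) := by
  rw [add_comm]
  exact redLT_add_of_lt_of_le h2 h1

theorem redLE_zero (d : ℕ) (c : ℚ[X]) : StabCat.RedLE d c 0 := by
  rw [redLE_iff]
  refine ⟨0, fun m _ => ?_⟩
  simp [StabCat.alpha]

end poly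

variable (k : Type u) [Field k] {X : Scheme.{u}} [X.Over (Spec (CommRingCat.of k))]
    [IsProper (X ↘ (Spec (CommRingCat.of k)))] {L : X.Modules}

/-- the weak comparison holds for modules of multiplicity zero -/
theorem redLE_topPart_of_alpha_eq_zero (hL : CohB1.IsAmple L) {d : ℕ} (ℓ : ℕ) {Q : X.Modules} (hQ : Coh.IsCoh Q)
    (hdQ : topologicalKrullDim (CohB1.support Q) ≤ (d : WithBot ℕ∞)) {pQ : ℚ[X]}
    (hpQ : ShStab.IsHilbPoly k X L Q pQ) (hα : StabCat.alpha d pQ = 0) {c : ℚ[X]} (hc : 0 ≤ StabCat.alpha d c) :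
    StabCat.RedLE d c (StabCat.topPart ℓ d pQ) := by
  rw [redLE_iff, alpha_topPart, hα]
  have hn := natDegree_le k hL.1 hQ hdQ hpQ
  obtain ⟨N, hN⟩ := polyLE_zero k hL hQ hpQ
  obtain ⟨N', hN'⟩ := topPart_eventually_nonneg ℓ d hn ⟨N, fun m hm => by simpa using hN m hm⟩
  refine ⟨N', fun m hm => ?_⟩
  have := hN' m hm
  rw [zero_mul]
  exact mul_nonneg hc this

/-- quotients of an `ℓ`-semistable module -/
theorem redLE_of_epi_of_isEllSemistable (hL : CohB1.IsAmple L) {d ℓ : ℕ} {Λ Q : X.Modules}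
    (hΛ : ShStab.IsEllSemistable k X L Λ d ℓ) (π : Λ ⟶ Q) [Epi π] (hQ : Coh.IsCoh Q) {pΛ pQ : ℚ[X]}
    (hpΛ : ShStab.IsHilbPoly k X L Λ pΛ) (hpQ : ShStab.IsHilbPoly k X L Q pQ)
    (hαQ : 0 < StabCat.alpha d pQ) :
    StabCat.RedLE d (StabCat.topPart ℓ d pΛ) (StabCat.topPart ℓ d pQ) := by
  haveI : IsLocallyNoetherian X := Groth.Agent.Lib.Helper8.EulerK.isLocallyNoetherian k X
  obtain ⟨hΛc, hΛ0, hΛp, hss⟩ := hΛ
  have hK : Coh.IsCoh (kernel π) := Groth.Agent.Lib.Helper6.DevCore.isCoh_kernel π hΛc hQ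
  have hpK := isHilbPoly_sub_right k hL.1 _ (shortExact_kernel π) hK hΛc hQ hpΛ hpQ
  by_cases hK0 : IsZero (kernel π)
  · haveI : Mono π := Preadditive.mono_of_kernel_zero (hK0.eq_of_src _ _)
    haveI : IsIso π := isIso_of_mono_of_epi π
    have := isHilbPoly_unique k (isHilbPoly_of_iso k hL.1 (asIso π) hΛc hpΛ) hpQ
    rw [this]
    exact redLE_refl d _
  · obtain ⟨-, -, -, -, hpos, -, -⟩ := sub_facts k hL hΛc hK hΛp hΛ0 (kernel.ι π) hpK hpΛ
    have h1 := hpos hK0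
    have h2 : StabCat.alpha d (pΛ - pQ) < StabCat.alpha d pΛ := by rw [alpha_sub]; linarith
    have h3 := hss (kernel π) (kernel.ι π) inferInstance hK _ _ hpK hpΛ h1 h2
    have h4 : pQ = pΛ - (pΛ - pQ) := by ring
    rw [h4, topPart_sub, redLE_sub_iff]
    exact h3

/-- the step lemma: weak comparison always, strict comparison for positive multiplicity -/
theorem step (hL : CohB1.IsAmple L) {d ℓ : ℕ} {Λ Q : X.Modules}
    (hΛ : ShStab.IsEllSemistable k X L Λ d ℓ) (π : Λ ⟶ Q) [Epi π] (hQ : Coh.IsCoh Q) {pΛ pQ c : ℚ[X]}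
    (hpΛ : ShStab.IsHilbPoly k X L Λ pΛ) (hpQ : ShStab.IsHilbPoly k X L Q pQ)
    (hc : 0 < StabCat.alpha d c) :
    (StabCat.RedLE d c (StabCat.topPart ℓ d pΛ) → StabCat.RedLE d c (StabCat.topPart ℓ d pQ)) ∧
    (StabCat.RedLT d c (StabCat.topPart ℓ d pΛ) → 0 < StabCat.alpha d pQ →
      StabCat.RedLT d c (StabCat.topPart ℓ d pQ)) := by
  have hdΛ := dim_support_of_isPure hΛ.1 hΛ.2.1 hΛ.2.2.1
  have hαΛ := alpha_pos k hL hΛ.1 hdΛ hpΛ
  have hdQ : topologicalKrullDim (CohB1.support Q) ≤ (d : WithBot ℕ∞) := by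
    rw [← hdΛ]
    exact (Topology.IsEmbedding.inclusion
      (Groth.Agent.Lib.Helper6.DevCore.support_subset_of_epi π)).isInducing.topologicalKrullDim_le
  have hαQ0 := alpha_nonneg k hL hQ hdQ hpQ
  constructor
  · intro h
    rcases lt_or_eq_of_le hαQ0 with hpos | hz
    · have h1 := redLE_of_epi_of_isEllSemistable k hL hΛ π hQ hpΛ hpQ hpos
      exact redLE_trans h h1 (by rw [alpha_topPart]; exact hαΛ) hc.le (by rw [alpha_topPart]; exact hαQ0)
    · exact redLE_topPart_of_alpha_eq_zero k hL ℓ hQ hdQ hpQ hz.symm hc.le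
  · intro h hpos
    have h1 := redLE_of_epi_of_isEllSemistable k hL hΛ π hQ hpΛ hpQ hpos
    exact redLT_of_lt_of_le h h1 (by rw [alpha_topPart]; exact hαΛ) hc.le (by rw [alpha_topPart]; exact hpos)

end Groth.Agent.Lib.Helper4.EllHN
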