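import Groth.Agent.Lib.Helper4.EllHN1
import Groth.Agent.Lib.Helper6.DevRed
set_option backward.isDefEq.respectTransparency.types false
set_option autoImplicit false
set_option linter.style.haveILetI false

universe u
open CategoryTheory CategoryTheory.Limits AlgebraicGeometry Opposite TopologicalSpace Polynomial

namespace Groth.Agent.Lib.Helper4.EllHN
open Groth.Agent.Lib.Helper4.HilbPoly Groth.Agent.Lib.Helper4.PolyAsymp Groth.Agent.Lib.Helper4.HNFilt
  Groth.Agent.Lib.Helper4.MaxDestab Groth.Agent.Lib.Helper4.SubPre Groth.Agent.Lib.Helper4.HNExist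
  Groth.Agent.Lib.Helper4.JHExist

variable (k : Type u) [Field k] {X : Scheme.{u}} [X.Over (Spec (CommRingCat.of k))]
    [IsProper (X ↘ (Spec (CommRingCat.of k)))] {L : X.Modules}

theorem isEllSemistable_of_iso (hL : CohB1.IsAmple L) {d ℓ : ℕ} {A B : X.Modules} (e : A ≅ B)
    (hA : ShStab.IsEllSemistable k X L A d ℓ) : ShStab.IsEllSemistable k X L B d ℓ := by
  obtain ⟨hc, h0, hp, hss⟩ := hA
  have hBc := Groth.Agent.Lib.Helper6.DevCore.isCoh_of_iso e hc
  refine ⟨hBc, fun hz => h0 (hz.of_iso e), isPure_of_iso e hp, fun F ι hι hF pF pB hpF hpB h1 h2 => ?_⟩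
  haveI := hι
  exact hss F (ι ≫ e.inv) inferInstance hF pF pB hpF (isHilbPoly_of_iso k hL.1 e.symm hBc hpB) h1 h2

/-- the image of `B'` in `G` is an extension of a quotient of `B'/B` by the image of `B` -/
theorem image_decomp (hL : CohB1.IsAmple L) {d : ℕ} {B B' G : X.Modules} (hB : Coh.IsCoh B) (hB' : Coh.IsCoh B')
    (hG : Coh.IsCoh G) (hdG : topologicalKrullDim (CohB1.support G) ≤ (d : WithBot ℕ∞))
    (j : B ⟶ B') (ψ' : B' ⟶ G) :
    ∃ (Q : X.Modules) (π : cokernel j ⟶ Q) (pQ : ℚ[X]), Epi π ∧ Coh.IsCoh Q ∧ ShStab.IsHilbPoly k X L Q pQ ∧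
      hilb k L (Abelian.image ψ') d = hilb k L (Abelian.image (j ≫ ψ')) d + pQ := by
  haveI : IsLocallyNoetherian X := Groth.Agent.Lib.Helper8.EulerK.isLocallyNoetherian k X
  set ψ := j ≫ ψ' with hψ
  set e := Abelian.factorThruImage ψ with he
  set e' := Abelian.factorThruImage ψ' with he'
  set ι := Abelian.image.ι ψ with hι
  set ι' := Abelian.image.ι ψ' with hι'
  have hI : Coh.IsCoh (Abelian.image ψ) := Groth.Agent.Lib.Helper6.DevCore.isCoh_image ψ hB hG
  have hI' : Coh.IsCoh (Abelian.image ψ') := Groth.Agent.Lib.Helper6.DevCore.isCoh_image ψ' hB' hG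
  have hfac : e ≫ ι = ψ := Abelian.image.fac ψ
  have hfac' : e' ≫ ι' = ψ' := Abelian.image.fac ψ'
  have hcond : ι ≫ cokernel.π ψ' = 0 := by
    rw [← cancel_epi e, ← Category.assoc, hfac, Limits.comp_zero]
    show (j ≫ ψ') ≫ cokernel.π ψ' = 0
    rw [Category.assoc, cokernel.condition, Limits.comp_zero]
  let u : Abelian.image ψ ⟶ Abelian.image ψ' := kernel.lift (cokernel.π ψ') ι hcond
  have hu : u ≫ ι' = ι := kernel.lift_ι _ _ _
  haveI : Mono u := by
    haveI : Mono (u ≫ ι') := by rw [hu]; infer_instance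
    exact mono_of_mono u ι'
  have heu : e ≫ u = j ≫ e' := by
    rw [← cancel_mono ι', Category.assoc, hu, hfac, Category.assoc, hfac']
  have hkill : j ≫ (e' ≫ cokernel.π u) = 0 := by
    rw [← Category.assoc, ← heu, Category.assoc, cokernel.condition, Limits.comp_zero]
  have hdI : topologicalKrullDim (CohB1.support (Abelian.image ψ)) ≤ (d : WithBot ℕ∞) :=
    (dim_support_le_of_mono ι).trans hdG
  have hdI' : topologicalKrullDim (CohB1.support (Abelian.image ψ')) ≤ (d : WithBot ℕ∞) :=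
    (dim_support_le_of_mono ι').trans hdG
  have hpI := isHilbPoly_hilb k hL.1 _ hI d hdI
  have hpI' := isHilbPoly_hilb k hL.1 _ hI' d hdI'
  obtain ⟨hpQ, -⟩ := polyLE_of_mono k hL hI hI' u hpI hpI'
  refine ⟨cokernel u, cokernel.desc j (e' ≫ cokernel.π u) hkill, _, ?_,
    Groth.Agent.Lib.Helper6.DevCore.isCoh_cokernel u hI hI', hpQ, by ring⟩
  haveI : Epi (cokernel.π j ≫ cokernel.desc j (e' ≫ cokernel.π u) hkill) := by
    rw [cokernel.π_desc]; infer_instance
  exact epi_of_epi (cokernel.π j) _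

theorem hilb_image_zero (hL : CohB1.IsAmple L) {d : ℕ} {B G : X.Modules} (ψ : B ⟶ G) (hψ : ψ = 0) :
    hilb k L (Abelian.image ψ) d = 0 := by
  have hz : IsZero (Abelian.image ψ) := by
    subst hψ
    have h1 : Abelian.image.ι (0 : B ⟶ G) = 0 := by
      rw [← cancel_epi (Abelian.factorThruImage (0 : B ⟶ G)), Abelian.image.fac, Limits.comp_zero]
    exact IsZero.of_mono_eq_zero _ h1
  have hc := Groth.Agent.Lib.Helper6.DevRed.isCoh_of_isZero hz
  have hd : topologicalKrullDim (CohB1.support (Abelian.image ψ)) ≤ (d : WithBot ℕ∞) := by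
    rw [Groth.Agent.Lib.Helper16.K0Supp.support_of_isZero hz, dim_empty]
    exact bot_le
  exact isHilbPoly_unique k (isHilbPoly_hilb k hL.1 _ hc d hd) (isHilbPoly_zero k hL.1 hz)

/-- one step of the induction -/
theorem image_step (hL : CohB1.IsAmple L) {d ℓ : ℕ} {B B' G : X.Modules} (hB : Coh.IsCoh B) (hB' : Coh.IsCoh B')
    (hG : Coh.IsCoh G) (hG0 : ¬ IsZero G) (hGp : ShStab.IsPure X G d) (j : B ⟶ B') (ψ' : B' ⟶ G)
    (hΛ : ShStab.IsEllSemistable k X L (cokernel j) d ℓ) {pΛ c : ℚ[X]}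
    (hpΛ : ShStab.IsHilbPoly k X L (cokernel j) pΛ) (hc : 0 < StabCat.alpha d c)
    (hle : StabCat.RedLE d c (StabCat.topPart ℓ d pΛ))
    (IH1 : StabCat.RedLE d c (StabCat.topPart ℓ d (hilb k L (Abelian.image (j ≫ ψ')) d))) :
    StabCat.RedLE d c (StabCat.topPart ℓ d (hilb k L (Abelian.image ψ') d)) ∧
    (StabCat.RedLT d c (StabCat.topPart ℓ d (hilb k L (Abelian.image (j ≫ ψ')) d)) →
      StabCat.RedLT d c (StabCat.topPart ℓ d (hilb k L (Abelian.image ψ') d))) ∧
    (StabCat.RedLT d c (StabCat.topPart ℓ d pΛ) →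
      (j ≫ ψ' ≠ 0 → StabCat.RedLT d c (StabCat.topPart ℓ d (hilb k L (Abelian.image (j ≫ ψ')) d))) →
      ψ' ≠ 0 → StabCat.RedLT d c (StabCat.topPart ℓ d (hilb k L (Abelian.image ψ') d))) := by
  have hdG := dim_support_of_isPure hG hG0 hGp
  obtain ⟨Q, π, pQ, hπ, hQ, hpQ, hsum⟩ := image_decomp k hL hB hB' hG hdG.le j ψ'
  haveI := hπ
  obtain ⟨s1, s2⟩ := step k hL hΛ π hQ hpΛ hpQ hc
  rw [hsum, topPart_add]
  refine ⟨redLE_add IH1 (s1 hle), fun h => redLT_add_of_lt_of_le h (s1 hle), fun hlt IH2 hψ' => ?_⟩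
  by_cases hαQ : 0 < StabCat.alpha d pQ
  · exact redLT_add_of_le_of_lt IH1 (s2 hlt hαQ)
  · -- then the image of `B` is nonzero
    obtain ⟨hI', hI'0, hI'd, hpI', hαI'⟩ := image_facts k hL hB' hG hGp ψ' hψ'
    rw [hsum, alpha_add] at hαI'
    have hψ : j ≫ ψ' ≠ 0 := by
      intro h0
      rw [hilb_image_zero k hL _ h0] at hαI'
      simp only [StabCat.alpha, coeff_zero, mul_zero, zero_add] at hαI'
      exact hαQ hαI'
    exact redLT_add_of_lt_of_le (IH2 hψ) (s1 hle)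

end Groth.Agent.Lib.Helper4.EllHN
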