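import Groth.Agent.Lib.Helper4.EllHN2
set_option backward.isDefEq.respectTransparency.types false
set_option autoImplicit false
set_option linter.style.haveILetI false

universe u
open CategoryTheory CategoryTheory.Limits AlgebraicGeometry Opposite TopologicalSpace Polynomial

namespace Groth.Agent.Lib.Helper4.EllHN
open Groth.Agent.Lib.Helper4.HilbPoly Groth.Agent.Lib.Helper4.PolyAsymp Groth.Agent.Lib.Helper4.HNFilt
  Groth.Agent.Lib.Helper4.MaxDestab Groth.Agent.Lib.Helper4.SubPre Groth.Agent.Lib.Helper4.HNExist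
  Groth.Agent.Lib.Helper4.JHExist

variable (k : Type u) [Field k] {X : Scheme.{u}} [X.Over (Spec (CommRingCat.of k))]
    [IsProper (X ↘ (Spec (CommRingCat.of k)))]

/-- `ℓ`-Harder-Narasimhan filtrations, in the form of S18973 -/
def IsEllHN (L : X.Modules) (d ℓ : ℕ) {E : X.Modules} (s : LTSeries (Subobject E)) : Prop :=
  StabCat.IsHNWith (fun G => ShStab.IsEllSemistable k X L G d ℓ)
    (fun G P => ∃ Q : ℚ[X], ShStab.IsHilbPoly k X L G Q ∧ P = StabCat.topPart ℓ d Q) d E s

variable {L : X.Modules}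

theorem ell_facts (hL : CohB1.IsAmple L) {d ℓ : ℕ} {E : X.Modules} (s : LTSeries (Subobject E))
    (hs : IsEllHN k L d ℓ s) (i : Fin s.length) :
    ShStab.IsEllSemistable k X L (StabCat.factor s i) d ℓ ∧
      ShStab.IsHilbPoly k X L (StabCat.factor s i) (hilb k L (StabCat.factor s i) d) ∧
      0 < StabCat.alpha d (hilb k L (StabCat.factor s i) d) := by
  have hss := hs.2.2.1 i
  have hd := dim_support_of_isPure hss.1 hss.2.1 hss.2.2.1
  have hP := isHilbPoly_hilb k hL.1 _ hss.1 d hd.le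
  exact ⟨hss, hP, alpha_pos k hL hss.1 hd hP⟩

theorem ell_redLE (hL : CohB1.IsAmple L) {d ℓ : ℕ} {E : X.Modules} (s : LTSeries (Subobject E))
    (hs : IsEllHN k L d ℓ s) (n : ℕ) :
    ∀ (i j : Fin s.length), j.val = i.val + n →
      StabCat.RedLE d (StabCat.topPart ℓ d (hilb k L (StabCat.factor s j) d))
        (StabCat.topPart ℓ d (hilb k L (StabCat.factor s i) d)) := by
  induction n with
  | zero =>
    intro i j hij
    have : j = i := Fin.ext (by omega)
    rw [this]
    exact redLE_refl d _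
  | succ n ih =>
    intro i j hij
    have hj' : i.val + n < s.length := by have := j.2; omega
    have h1 := ih i ⟨i.val + n, hj'⟩ rfl
    obtain ⟨-, hPj', hαj'⟩ := ell_facts k hL s hs ⟨i.val + n, hj'⟩
    obtain ⟨-, hPj, hαj⟩ := ell_facts k hL s hs j
    obtain ⟨-, hPi, hαi⟩ := ell_facts k hL s hs i
    have h2 := hs.2.2.2 ⟨i.val + n, hj'⟩ j (by simp only []; omega) _ _ ⟨_, hPj', rfl⟩ ⟨_, hPj, rfl⟩
    exact redLE_trans (redLE_of_redLT h2) h1 (by rw [alpha_topPart]; exact hαj')
      (by rw [alpha_topPart]; exact hαj.le) (by rw [alpha_topPart]; exact hαi.le)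

theorem ell_redLT (hL : CohB1.IsAmple L) {d ℓ : ℕ} {E : X.Modules} (s : LTSeries (Subobject E))
    (hs : IsEllHN k L d ℓ s) (i j : Fin s.length) (hij : i.val < j.val) :
    StabCat.RedLT d (StabCat.topPart ℓ d (hilb k L (StabCat.factor s j) d))
      (StabCat.topPart ℓ d (hilb k L (StabCat.factor s i) d)) := by
  have hi1 : i.val + 1 < s.length := by have := j.2; omega
  obtain ⟨-, hPi, hαi⟩ := ell_facts k hL s hs i
  obtain ⟨-, hPi1, hαi1⟩ := ell_facts k hL s hs ⟨i.val + 1, hi1⟩
  obtain ⟨-, hPj, hαj⟩ := ell_facts k hL s hs j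
  have h1 := hs.2.2.2 i ⟨i.val + 1, hi1⟩ rfl _ _ ⟨_, hPi, rfl⟩ ⟨_, hPi1, rfl⟩
  have h2 := ell_redLE k hL s hs (j.val - (i.val + 1)) ⟨i.val + 1, hi1⟩ j (by simp only []; omega)
  exact redLT_of_le_of_lt h2 h1 (by rw [alpha_topPart]; exact hαi1) (by rw [alpha_topPart]; exact hαj)
    (by rw [alpha_topPart]; exact hαi.le)

/-- S18973 -/
theorem exists_iso_lastFactor (hL : CohB1.IsAmple L) (d ℓ : ℕ) (E : X.Modules) (hE : Coh.IsCoh E)
    (h0 : ¬ IsZero E) (s : LTSeries (Subobject E)) (hs : IsEllHN k L d ℓ s)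
    (G : X.Modules) (q : E ⟶ G) [Epi q] (hG : Coh.IsCoh G) (hG0 : ¬ IsZero G) (hGp : ShStab.IsPure X G d)
    (pF pG : ℚ[X]) (hpF : ShStab.IsHilbPoly k X L (cokernel s.eraseLast.last.arrow) pF)
    (hpG : ShStab.IsHilbPoly k X L G pG) (hα : StabCat.alpha d pF = StabCat.alpha d pG)
    (hred : StabCat.RedEq d (StabCat.topPart ℓ d pF) (StabCat.topPart ℓ d pG)) :
    ∃ φ : (cokernel s.eraseLast.last.arrow) ≅ G, cokernel.π s.eraseLast.last.arrow ≫ φ.hom = q := by
  haveI : IsLocallyNoetherian X := Groth.Agent.Lib.Helper8.EulerK.isLocallyNoetherian k X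
  have hm : 1 ≤ s.length := by
    by_contra hcon
    have hlen : s.length = 0 := by omega
    have h1 : s.head = s.last := by
      unfold RelSeries.head RelSeries.last
      congr 1
      exact Fin.ext (by simp [hlen])
    rw [hs.1, hs.2.1] at h1
    exact absurd h1 (ne_of_lt (bot_lt_top_of_not_isZero h0))
  set i₀ : Fin s.length := ⟨s.length - 1, by omega⟩ with hi₀
  set A : Subobject E := s.eraseLast.last with hA
  have hAeq : A = s i₀.castSucc := rfl
  have hlast : s i₀.succ = ⊤ := by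
    rw [← hs.2.1]
    unfold RelSeries.last
    congr 1
    exact Fin.ext (by simp [hi₀]; omega)
  -- the last factor
  have eF : StabCat.factor s i₀ ≅ cokernel A.arrow :=
    cokerOfLEIsoOfEq hAeq.symm hlast (le_of_lt (s.step i₀)) le_top ≪≫
      (cokernelCompIsIso (Subobject.ofLE A ⊤ le_top) (⊤ : Subobject E).arrow).symm ≪≫
      cokernelIsoOfEq (Subobject.ofLE_arrow le_top)
  obtain ⟨hss₀, hP₀, hα₀⟩ := ell_facts k hL s hs i₀
  have hFss : ShStab.IsEllSemistable k X L (cokernel A.arrow) d ℓ := isEllSemistable_of_iso k hL eF hss₀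
  have hpeq : hilb k L (StabCat.factor s i₀) d = pF :=
    isHilbPoly_unique k (isHilbPoly_of_iso k hL.1 eF hss₀.1 hP₀) hpF
  set c := StabCat.topPart ℓ d pF with hc
  have hαc : 0 < StabCat.alpha d c := by rw [hc, alpha_topPart, ← hpeq]; exact hα₀
  have hcl : ∀ i : Fin s.length, i.val + 1 < s.length →
      StabCat.RedLT d c (StabCat.topPart ℓ d (hilb k L (StabCat.factor s i) d)) := by
    intro i hi
    have := ell_redLT k hL s hs i i₀ (by simp only [hi₀]; omega)
    rwa [hpeq] at this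
  -- the induction
  let Pr : Subobject E → Prop := fun x => Coh.IsCoh (x : X.Modules) ∧
    StabCat.RedLE d c (StabCat.topPart ℓ d (hilb k L (Abelian.image (x.arrow ≫ q)) d)) ∧
    (x.arrow ≫ q ≠ 0 → StabCat.RedLT d c (StabCat.topPart ℓ d (hilb k L (Abelian.image (x.arrow ≫ q)) d)))
  have Pr_bot : Pr ⊥ := by
    have h1 : (⊥ : Subobject E).arrow ≫ q = 0 := by rw [Subobject.bot_arrow, Limits.zero_comp]
    refine ⟨Groth.Agent.Lib.Helper6.DevRed.isCoh_of_isZero (isZero_bot_coe E), ?_, fun h => absurd h1 h⟩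
    rw [hilb_image_zero k hL _ h1]
    have : StabCat.topPart ℓ d (0 : ℚ[X]) = 0 := by
      ext j; rw [coeff_topPart]; simp
    rw [this]
    exact redLE_zero d c
  have Pr_step : ∀ i : Fin s.length, i.val + 1 < s.length → Pr (s i.castSucc) → Pr (s i.succ) := by
    intro i hi ⟨hB, IH1, IH2⟩
    obtain ⟨hssi, hPi, hαi⟩ := ell_facts k hL s hs i
    have hB' : Coh.IsCoh (s i.succ : X.Modules) :=
      isCoh_of_shortExact _ (shortExact_ofLE (le_of_lt (s.step i))) hB hssi.1
    have hcomp : Subobject.ofLE (s i.castSucc) (s i.succ) (le_of_lt (s.step i)) ≫ ((s i.succ).arrow ≫ q) =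
        (s i.castSucc).arrow ≫ q := by
      rw [← Category.assoc, Subobject.ofLE_arrow]
    have hlt := hcl i hi
    rw [← hcomp] at IH1 IH2
    obtain ⟨r1, -, r3⟩ := image_step k hL hB hB' hG hG0 hGp
      (Subobject.ofLE (s i.castSucc) (s i.succ) (le_of_lt (s.step i))) ((s i.succ).arrow ≫ q) hssi hPi hαc
      (redLE_of_redLT hlt) IH1
    exact ⟨hB', r1, r3 hlt IH2⟩
  have Pr_all : ∀ n : ℕ, ∀ hn : n < s.length, Pr (s ⟨n, by omega⟩) := by
    intro n
    induction n with
    | zero =>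
      intro hn
      have : s ⟨0, by omega⟩ = ⊥ := hs.1
      rw [this]
      exact Pr_bot
    | succ n ih =>
      intro hn
      exact Pr_step ⟨n, by omega⟩ hn (ih (by omega))
  obtain ⟨hAc, hA1, hA2⟩ : Pr A := Pr_all (s.length - 1) (by omega)
  -- the map `A ⟶ G` vanishes
  have hAq : A.arrow ≫ q = 0 := by
    by_contra hne
    have hlt := hA2 hne
    obtain ⟨-, r2, -⟩ := image_step k hL hAc hE hG hG0 hGp A.arrow q hFss hpF hαc (redLE_refl d c) hA1
    have h1 := r2 hlt
    -- the image of `q` is `G`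
    haveI : Epi (Abelian.image.ι q) := by
      haveI : Epi (Abelian.factorThruImage q ≫ Abelian.image.ι q) := by
        rw [Abelian.image.fac]; infer_instance
      exact epi_of_epi (Abelian.factorThruImage q) _
    haveI : IsIso (Abelian.image.ι q) := isIso_of_mono_of_epi _
    have hI : Coh.IsCoh (Abelian.image q) := Groth.Agent.Lib.Helper6.DevCore.isCoh_image q hE hG
    have hdG := dim_support_of_isPure hG hG0 hGp
    have hdI : topologicalKrullDim (CohB1.support (Abelian.image q)) ≤ (d : WithBot ℕ∞) :=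
      (dim_support_le_of_mono (Abelian.image.ι q)).trans hdG.le
    have h2 : hilb k L (Abelian.image q) d = pG :=
      isHilbPoly_unique k (isHilbPoly_of_iso k hL.1 (asIso (Abelian.image.ι q)) hI
        (isHilbPoly_hilb k hL.1 _ hI d hdI)) hpG
    rw [h2] at h1
    exact not_redLT_of_redEq hred h1
  -- the induced map is an isomorphism
  set qbar := cokernel.desc A.arrow q hAq with hqbar
  have hπq : cokernel.π A.arrow ≫ qbar = q := cokernel.π_desc _ _ _
  haveI : Epi qbar := by
    haveI : Epi (cokernel.π A.arrow ≫ qbar) := by rw [hπq]; infer_instance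
    exact epi_of_epi (cokernel.π A.arrow) _
  have hK : Coh.IsCoh (kernel qbar) := Groth.Agent.Lib.Helper6.DevCore.isCoh_kernel qbar hFss.1 hG
  have hpK := isHilbPoly_sub_right k hL.1 _ (shortExact_kernel qbar) hK hFss.1 hG hpF hpG
  obtain ⟨-, -, -, -, hpos, -, -⟩ := sub_facts k hL hFss.1 hK hFss.2.2.1 hFss.2.1 (kernel.ι qbar) hpK hpF
  have hK0 : IsZero (kernel qbar) := by
    by_contra hne
    have := hpos hne
    rw [alpha_sub, hα, sub_self] at this
    exact lt_irrefl _ this
  haveI : Mono qbar := Preadditive.mono_of_kernel_zero (hK0.eq_of_src _ _)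
  haveI : IsIso qbar := isIso_of_mono_of_epi qbar
  exact ⟨asIso qbar, hπq⟩

end Groth.Agent.Lib.Helper4.EllHN
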