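import Mathlib
set_option autoImplicit false

namespace Groth.Agent.Lib.Helper4.EndScalar

open Module

/-- an endomorphism of a nonzero finite module over a finite type algebra over an algebraically closed field has
an "eigenvalue": some `φ - c` is not surjective -/
theorem exists_not_surjective_sub {k : Type*} [Field k] [IsAlgClosed k] {A : Type*} [CommRing A]
    (ρ : k →+* A) (hρ : ρ.FiniteType) {M : Type*} [AddCommGroup M] [Module A M] [Module.Finite A M]
    [Nontrivial M] (φ : M →ₗ[A] M) :
    ∃ c : k, ¬ Function.Surjective (fun x : M => φ x - ρ c • x) := by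
  classical
  letI : Algebra k A := ρ.toAlgebra
  haveI : Algebra.FiniteType k A := hρ
  letI : Module k M := Module.compHom M ρ
  haveI : IsScalarTower k A M := ⟨fun c a x => by
    change (ρ c * a) • x = ρ c • (a • x)
    rw [mul_smul]⟩
  -- a maximal ideal `m` with `m M ≠ M`
  have hann : Module.annihilator A M ≠ ⊤ := by
    intro h
    obtain ⟨x, hx⟩ := exists_ne (0 : M)
    have : (1 : A) ∈ Module.annihilator A M := h ▸ Submodule.mem_top
    rw [Module.mem_annihilator] at this
    exact hx (by simpa using this x)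
  obtain ⟨m, hm, hle⟩ := Ideal.exists_le_maximal _ hann
  have hne : m • (⊤ : Submodule A M) ≠ ⊤ := by
    intro h
    obtain ⟨r, hr1, hr2⟩ := Submodule.exists_sub_one_mem_and_smul_eq_zero_of_fg_of_le_smul m
      (⊤ : Submodule A M) Module.Finite.fg_top (by rw [h])
    have hr : r ∈ m := hle (by
      rw [Module.mem_annihilator]
      exact fun x => hr2 x Submodule.mem_top)
    have : (1 : A) ∈ m := by
      have := m.sub_mem hr hr1
      simpa using this
    exact hm.ne_top ((Ideal.eq_top_iff_one m).2 this)
  set N : Submodule A M := m • (⊤ : Submodule A M) with hN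
  haveI : Nontrivial (M ⧸ N) := Submodule.Quotient.nontrivial_iff.2 hne
  -- finite dimensionality
  letI : Field (A ⧸ m) := Ideal.Quotient.field m
  haveI : Module.Finite k (A ⧸ m) := finite_of_finite_type_of_isJacobsonRing k (A ⧸ m)
  haveI : Module.Finite (A ⧸ m) (M ⧸ N) :=
    Module.Finite.of_restrictScalars_finite A (A ⧸ m) (M ⧸ N)
  haveI : IsScalarTower k (A ⧸ m) (M ⧸ N) := by
    refine ⟨fun c b v => ?_⟩
    obtain ⟨a, rfl⟩ := Ideal.Quotient.mk_surjective b
    obtain ⟨x, rfl⟩ := Submodule.Quotient.mk_surjective N v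
    show (Submodule.Quotient.mk ((ρ c * a) • x) : M ⧸ N) = Submodule.Quotient.mk (ρ c • (a • x))
    rw [mul_smul]
  haveI : Module.Finite k (M ⧸ N) := Module.Finite.trans (A ⧸ m) (M ⧸ N)
  -- the induced endomorphism
  have hφN : N ≤ N.comap φ := by
    rw [hN]
    intro x hx
    refine Submodule.smul_induction_on hx (fun r hr n _ => ?_) (fun x y hx hy => ?_)
    · rw [Submodule.mem_comap, map_smul]
      exact Submodule.smul_mem_smul hr Submodule.mem_top
    · exact Submodule.add_mem _ hx hy
  let φbar : Module.End k (M ⧸ N) := (N.mapQ N φ hφN).restrictScalars k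
  obtain ⟨c, hc⟩ := Module.End.exists_eigenvalue φbar
  obtain ⟨v, hv⟩ := hc.exists_hasEigenvector
  refine ⟨c, fun hsurj => ?_⟩
  have hsurj' : Function.Surjective (φbar - c • (1 : Module.End k (M ⧸ N))) := by
    intro w
    obtain ⟨x, rfl⟩ := Submodule.Quotient.mk_surjective N w
    obtain ⟨y, hy⟩ := hsurj x
    refine ⟨Submodule.Quotient.mk y, ?_⟩
    rw [← hy]
    rfl
  have hinj := (LinearMap.injective_iff_surjective (f := φbar - c • (1 : Module.End k (M ⧸ N)))).2 hsurj'
  have h0 : (φbar - c • (1 : Module.End k (M ⧸ N))) v = 0 := by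
    have := hv.apply_eq_smul
    simp only [LinearMap.sub_apply, LinearMap.smul_apply, Module.End.one_apply]
    rw [this, sub_self]
  exact hv.2 (hinj (by rw [h0, map_zero]))

end Groth.Agent.Lib.Helper4.EndScalar
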