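import Mathlib
import Groth.Prelude.Def_AnEps
import Groth.Agent.Lib.Helper4.AnPBGen

namespace Groth.Agent.Lib.Helper4.EpsLim
open AlgebraicGeometry CategoryTheory TopologicalSpace Opposite An Topology Limits
open Groth.Agent.Lib.Helper4.AnPBGen

variable (X : Scheme.{0}) [X.Over SC] [LocallyOfFiniteType (X ↘ SC)]

lemma isPullback_left {U V W : X.Etale} (f : U ⟶ W) (g : V ⟶ W) :
    IsPullback (pullback.fst f g).left (pullback.snd f g).left f.left g.left := by
  have h := IsPullback.of_hasPullback f g
  exact h.map (Scheme.Etale.forget X ⋙ Over.forget X)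

variable [Fact EtaleLH]

/-- The homeomorphism of the points of a fibre product in the étale site with the fibre product. -/
noncomputable def pbHomeo {U V W : X.Etale} (f : U ⟶ W) (g : V ⟶ W) :
    Pts (pullback f g).left ≃ₜ
      {q : Pts U.left × Pts V.left // Pts.map f.left q.1 = Pts.map g.left q.2} :=
  (isHomeomorph_of_isPullback (isPullback_left X f g)).homeomorph

lemma pbHomeo_apply {U V W : X.Etale} (f : U ⟶ W) (g : V ⟶ W) (z : Pts (pullback f g).left) :
    (pbHomeo X f g z).1 = (Pts.map (pullback.fst f g).left z, Pts.map (pullback.snd f g).left z) :=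
  rfl

variable {X}

/-- The underlying function of the lift of a cone. -/
noncomputable def liftFun {U V W : X.Etale} (f : U ⟶ W) (g : V ⟶ W) {A : Cl (Pts X)}
    (a : A ⟶ (eps X).obj U) (b : A ⟶ (eps X).obj V)
    (hab : a ≫ (eps X).map f = b ≫ (eps X).map g) (x : A.E) : Pts (pullback f g).left :=
  (pbHomeo X f g).symm ⟨(a.toFun x, b.toFun x), congrArg (fun m => m.toFun x) hab⟩

lemma pbHomeo_liftFun {U V W : X.Etale} (f : U ⟶ W) (g : V ⟶ W) {A : Cl (Pts X)}
    (a : A ⟶ (eps X).obj U) (b : A ⟶ (eps X).obj V)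
    (hab : a ≫ (eps X).map f = b ≫ (eps X).map g) (x : A.E) :
    (Pts.map (pullback.fst f g).left (liftFun f g a b hab x),
      Pts.map (pullback.snd f g).left (liftFun f g a b hab x)) = (a.toFun x, b.toFun x) := by
  have h1 : (pbHomeo X f g (liftFun f g a b hab x)).1 = (a.toFun x, b.toFun x) :=
    congrArg Subtype.val ((pbHomeo X f g).apply_symm_apply _)
  rw [pbHomeo_apply] at h1
  exact h1

lemma continuous_liftFun {U V W : X.Etale} (f : U ⟶ W) (g : V ⟶ W) {A : Cl (Pts X)}
    (a : A ⟶ (eps X).obj U) (b : A ⟶ (eps X).obj V)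
    (hab : a ≫ (eps X).map f = b ≫ (eps X).map g) : Continuous (liftFun f g a b hab) :=
  (pbHomeo X f g).symm.continuous.comp
    (Continuous.subtype_mk (a.continuous.prodMk b.continuous) _)

lemma lift_over {U V W : X.Etale} (f : U ⟶ W) (g : V ⟶ W) {A : Cl (Pts X)}
    (a : A ⟶ (eps X).obj U) (b : A ⟶ (eps X).obj V)
    (hab : a ≫ (eps X).map f = b ≫ (eps X).map g) (x : A.E) :
    ((eps X).obj (pullback f g)).p (liftFun f g a b hab x) = A.p x := by
  have h2 : Pts.map (pullback.fst f g).left (liftFun f g a b hab x) = a.toFun x :=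
    congrArg Prod.fst (pbHomeo_liftFun f g a b hab x)
  have h3 := ((eps X).map (pullback.fst f g)).over (liftFun f g a b hab x)
  rw [← a.over x, ← h2]
  exact h3.symm

/-- The lift of a cone. -/
noncomputable def lift {U V W : X.Etale} (f : U ⟶ W) (g : V ⟶ W) {A : Cl (Pts X)}
    (a : A ⟶ (eps X).obj U) (b : A ⟶ (eps X).obj V)
    (hab : a ≫ (eps X).map f = b ≫ (eps X).map g) : A ⟶ (eps X).obj (pullback f g) :=
  ⟨liftFun f g a b hab, continuous_liftFun f g a b hab, lift_over f g a b hab⟩

lemma lift_fst {U V W : X.Etale} (f : U ⟶ W) (g : V ⟶ W) {A : Cl (Pts X)}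
    (a : A ⟶ (eps X).obj U) (b : A ⟶ (eps X).obj V)
    (hab : a ≫ (eps X).map f = b ≫ (eps X).map g) :
    lift f g a b hab ≫ (eps X).map (pullback.fst f g) = a := by
  apply Cl.hom_ext
  funext x
  exact congrArg Prod.fst (pbHomeo_liftFun f g a b hab x)

lemma lift_snd {U V W : X.Etale} (f : U ⟶ W) (g : V ⟶ W) {A : Cl (Pts X)}
    (a : A ⟶ (eps X).obj U) (b : A ⟶ (eps X).obj V)
    (hab : a ≫ (eps X).map f = b ≫ (eps X).map g) :
    lift f g a b hab ≫ (eps X).map (pullback.snd f g) = b := by
  apply Cl.hom_ext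
  funext x
  exact congrArg Prod.snd (pbHomeo_liftFun f g a b hab x)

lemma hom_ext_pb {U V W : X.Etale} (f : U ⟶ W) (g : V ⟶ W) {A : Cl (Pts X)}
    (m m' : A ⟶ (eps X).obj (pullback f g))
    (h1 : m ≫ (eps X).map (pullback.fst f g) = m' ≫ (eps X).map (pullback.fst f g))
    (h2 : m ≫ (eps X).map (pullback.snd f g) = m' ≫ (eps X).map (pullback.snd f g)) : m = m' := by
  apply Cl.hom_ext
  funext x
  apply (pbHomeo X f g).injective
  apply Subtype.ext
  have e1 := pbHomeo_apply X f g (m.toFun x)
  have e2 := pbHomeo_apply X f g (m'.toFun x)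
  refine e1.trans (Eq.trans ?_ e2.symm)
  exact Prod.ext (congrArg (fun k => k.toFun x) h1) (congrArg (fun k => k.toFun x) h2)

/-- `eps` maps the pullback cone to a limit cone. -/
noncomputable def isLimitMap {U V W : X.Etale} (f : U ⟶ W) (g : V ⟶ W) :
    IsLimit (PullbackCone.mk ((eps X).map (pullback.fst f g)) ((eps X).map (pullback.snd f g))
      (by rw [← Functor.map_comp, ← Functor.map_comp, pullback.condition])) :=
  PullbackCone.IsLimit.mk _ (fun s => lift f g s.fst s.snd s.condition)
    (fun s => lift_fst f g _ _ _) (fun s => lift_snd f g _ _ _)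
    (fun s m h1 h2 => hom_ext_pb f g _ _ (h1.trans (lift_fst f g _ _ _).symm)
      (h2.trans (lift_snd f g _ _ _).symm))


variable (X)

instance preservesPullbacks : PreservesLimitsOfShape WalkingCospan (eps X) := by
  refine ⟨fun {K} => ?_⟩
  have : PreservesLimit (cospan (K.map WalkingCospan.Hom.inl) (K.map WalkingCospan.Hom.inr))
      (eps X) := by
    refine preservesLimit_of_preserves_limit_cone (pullbackIsPullback _ _) ?_
    exact (isLimitMapConePullbackConeEquiv (eps X) pullback.condition).symm (isLimitMap _ _)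
  exact preservesLimit_of_iso_diagram (eps X) (diagramIsoCospan K).symm

instance preservesTerminal : PreservesLimitsOfShape (Discrete PEmpty.{1}) (eps X) := by
  have h1 : PreservesLimit (Functor.empty.{0} X.Etale) (eps X) := by
    refine preservesLimit_of_preserves_limit_cone (EtCore.topIsTerminal X) ?_
    refine (isLimitMapConeEmptyConeEquiv (eps X) (EtCoh.top X)).symm ?_
    exact IsTerminal.ofIso (Cl.selfIsTerminal (Pts X)) (epsTopIso X).symm
  exact preservesLimitsOfShape_pempty_of_preservesTerminal (eps X)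

instance preservesFiniteLimits : PreservesFiniteLimits (eps X) :=
  preservesFiniteLimits_of_preservesTerminal_and_pullbacks (eps X)

instance representablyFlat : RepresentablyFlat (eps X) := flat_of_preservesFiniteLimits _

end Groth.Agent.Lib.Helper4.EpsLim
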