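import Mathlib
import Groth.Prelude.Def_AnEps
import Groth.Agent.Lib.Helper4.EpsLim
import Groth.Agent.Lib.Helper4.DensSch4

namespace Groth.Agent.Lib.Helper4.EpsCover
open AlgebraicGeometry CategoryTheory TopologicalSpace Opposite An Topology Limits
open Groth.Agent.Lib.Helper4.EpsLim MorphismProperty

variable (X : Scheme.{0}) [X.Over SC] [LocallyOfFiniteType (X ↘ SC)] [Fact EtaleLH]

instance lft_left (U : X.Etale) : LocallyOfFiniteType (U.left ↘ SC) :=
  inferInstanceAs (LocallyOfFiniteType ((U.left ↘ X) ≫ X ↘ SC))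

omit [X.Over SC] [LocallyOfFiniteType (X ↘ SC)] [Fact EtaleLH] in
set_option backward.isDefEq.respectTransparency.types false in
lemma exists_mem_sieve {U : X.Etale} {S : Sieve U} (hS : S ∈ X.smallEtaleTopology U)
    (p : U.left) : ∃ (V : X.Etale) (g : V ⟶ U), S g ∧ p ∈ Set.range g.left := by
  obtain ⟨𝒰, hO, h, hle⟩ := (Scheme.mem_smallGrothendieckTopology (P := @Etale) U S).1 hS
  obtain ⟨i, v, hv⟩ := 𝒰.exists_eq p
  exact ⟨(𝒰.X i).asOverProp X (h i), (𝒰.f i).asOverProp X, hle _ _ ⟨i⟩, ⟨v, hv⟩⟩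

theorem coverPreserving :
    CoverPreserving X.smallEtaleTopology (Cl.topology (Pts X)) (eps X) := by
  constructor
  intro U S hS a
  obtain ⟨V, g, hSg, v, hv⟩ := exists_mem_sieve X hS (Pts.pt (X := U.left) a)
  obtain ⟨b, hb⟩ : ∃ b : Pts V.left, Pts.map g.left b = a := by
    have h1 := Groth.Agent.Lib.Helper4.DensSch4.range_map_eq g.left
    have h2 : (a : Pts U.left) ∈ Pts.pt ⁻¹' (Set.range g.left) := ⟨v, hv⟩
    rw [← h1] at h2
    exact h2
  have hlh : IsLocalHomeomorph (Pts.map g.left) := (Fact.out : EtaleLH) V.left U.left g.left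
  obtain ⟨e, hbe, hfe⟩ := hlh b
  refine ⟨Cl.restrictOpen ((eps X).obj V) e.source e.open_source,
    Cl.restrictOpenι _ _ _ ≫ (eps X).map g, ?_, ?_, ?_⟩
  · exact ⟨V, g, Cl.restrictOpenι _ _ _, hSg, rfl⟩
  · have h3 := e.isOpenEmbedding_restrict
    rw [← hfe] at h3
    exact h3
  · exact ⟨⟨b, hbe⟩, hb⟩

theorem epsCont : EpsCont X :=
  (Functor.isContinuous_iff_coverPreserving).2 (coverPreserving X)

end Groth.Agent.Lib.Helper4.EpsCover
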