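import Mathlib
import Groth.Agent.Lib.Helper4.ConnGlue
import Groth.Agent.Lib.Helper4.AnPBGen

namespace Groth.Agent.Lib.Helper4.EtIso
open AlgebraicGeometry CategoryTheory TopologicalSpace Opposite An Topology Limits
open Groth.Agent.Lib.Helper4.AnEv Groth.Agent.Lib.Helper4.AnGen
open Groth.Agent.Lib.Helper4.AnOpen Groth.Agent.Lib.Helper4.AnClosed
open Groth.Agent.Lib.Helper4.DensSch3
open Groth.Agent.Lib.Helper4.AnBasic Groth.Agent.Lib.Helper4.AnInj Groth.Agent.Lib.Helper4.AnSurj

variable {X Y : Scheme.{0}} [X.Over SC] [Y.Over SC]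

/-- An open set containing all `ℂ`-points is everything. -/
lemma eq_univ_of_forall_pt_mem [LocallyOfFiniteType (X ↘ SC)] {O : Set X} (hO : IsOpen O)
    (h : ∀ ξ : Pts X, ξ.pt ∈ O) : O = Set.univ := by
  haveI := isLocallyNoetherian_of_lft X
  have h2 : Oᶜ = ∅ :=
    eq_empty_of_forall_pt_notMem X (isLocallyConstructible_of_isClosed X hO.isClosed_compl)
      fun ξ hξ => hξ (h ξ)
  exact Set.compl_empty_iff.1 h2

lemma lft_of_isOver [LocallyOfFiniteType (Y ↘ SC)] (r : X ⟶ Y) [r.IsOver SC]
    [LocallyOfFiniteType r] : LocallyOfFiniteType (X ↘ SC) := by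
  rw [← comp_over r SC]
  infer_instance

/-- An étale morphism injective on `ℂ`-points is a monomorphism. -/
theorem mono_of_injective_map [LocallyOfFiniteType (Y ↘ SC)] (r : X ⟶ Y) [r.IsOver SC] [Etale r]
    (h : Function.Injective (Pts.map r)) : Mono r := by
  haveI : LocallyOfFiniteType (X ↘ SC) := lft_of_isOver r
  haveI : LocallyOfFiniteType (pullback r r ↘ SC) :=
    inferInstanceAs (LocallyOfFiniteType (pullback.fst r r ≫ X ↘ SC))
  have hrange : Set.range (pullback.diagonal r) = Set.univ := by
    refine eq_univ_of_forall_pt_mem (pullback.diagonal r).isOpenEmbedding.isOpen_range ?_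
    intro z
    have h1 : Pts.map (pullback.fst r r) z = Pts.map (pullback.snd r r) z :=
      h (Pts.map_pullback_condition r r z)
    have h2 : z.1 ≫ pullback.fst r r = z.1 ≫ pullback.snd r r := congrArg Subtype.val h1
    have h3 : z.1 = (z.1 ≫ pullback.fst r r) ≫ pullback.diagonal r := by
      apply pullback.hom_ext
      · simp
      · simp [h2]
    refine ⟨(z.1 ≫ pullback.fst r r) cpt, ?_⟩
    show _ = z.1 cpt
    conv_rhs => rw [h3]
    exact (Scheme.Hom.comp_apply _ _ _).symm
  haveI : Surjective (pullback.diagonal r) := ⟨fun x => by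
    have : x ∈ Set.range (pullback.diagonal r) := by rw [hrange]; trivial
    exact this⟩
  haveI : IsIso (pullback.diagonal r) :=
    (isIso_iff_isOpenImmersion_and_surjective _).2 ⟨inferInstance, inferInstance⟩
  have hfs : pullback.fst r r = pullback.snd r r := by
    rw [← cancel_epi (pullback.diagonal r)]
    simp
  constructor
  intro Z a b hab
  have h1 : pullback.lift a b hab ≫ pullback.fst r r = a := pullback.lift_fst _ _ _
  have h2 : pullback.lift a b hab ≫ pullback.snd r r = b := pullback.lift_snd _ _ _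
  exact h1.symm.trans ((congrArg (pullback.lift a b hab ≫ ·) hfs).trans h2)

/-- An étale morphism bijective on `ℂ`-points is an isomorphism. -/
theorem isIso_of_bijective_map [LocallyOfFiniteType (Y ↘ SC)] (r : X ⟶ Y) [r.IsOver SC] [Etale r]
    (h : Function.Bijective (Pts.map r)) : IsIso r := by
  haveI : Mono r := mono_of_injective_map r h.1
  haveI : IsOpenImmersion r := IsOpenImmersion.of_flat_of_mono r
  have hrange : Set.range r = Set.univ := by
    refine eq_univ_of_forall_pt_mem r.isOpenEmbedding.isOpen_range ?_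
    intro ξ
    obtain ⟨t, rfl⟩ := h.2 ξ
    exact ⟨t.pt, (Pts.pt_map r t).symm⟩
  haveI : Surjective r := ⟨fun x => by
    have : x ∈ Set.range r := by rw [hrange]; trivial
    exact this⟩
  exact (isIso_iff_isOpenImmersion_and_surjective _).2 ⟨inferInstance, inferInstance⟩

/-- Two morphisms to a scheme étale over a base which agree over the base and on `ℂ`-points
are equal. -/
theorem eq_of_eq_on_pts {S Q : Scheme.{0}} [LocallyOfFiniteType (X ↘ SC)] (q : Q ⟶ S)
    [FormallyUnramified q] [LocallyOfFiniteType q] (a b : X ⟶ Q) (hab : a ≫ q = b ≫ q)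
    (h : ∀ ξ : Pts X, ξ.1 ≫ a = ξ.1 ≫ b) : a = b := by
  set L : X ⟶ pullback q q := pullback.lift a b hab with hL
  have hsub : Set.range L ⊆ Set.range (pullback.diagonal q) := by
    have h1 : L ⁻¹' Set.range (pullback.diagonal q) = Set.univ := by
      refine eq_univ_of_forall_pt_mem
        ((pullback.diagonal q).isOpenEmbedding.isOpen_range.preimage L.continuous) ?_
      intro ξ
      have h3 : ξ.1 ≫ L = (ξ.1 ≫ a) ≫ pullback.diagonal q := by
        apply pullback.hom_ext
        · rw [Category.assoc, Category.assoc, hL, pullback.lift_fst, pullback.diagonal_fst,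
            Category.comp_id]
        · rw [Category.assoc, Category.assoc, hL, pullback.lift_snd, pullback.diagonal_snd,
            Category.comp_id, h ξ]
      refine ⟨(ξ.1 ≫ a) cpt, ?_⟩
      show _ = L (ξ.1 cpt)
      rw [← Scheme.Hom.comp_apply, ← Scheme.Hom.comp_apply, h3]
    rintro _ ⟨x, rfl⟩
    have : x ∈ L ⁻¹' Set.range (pullback.diagonal q) := by rw [h1]; trivial
    exact this
  set l := IsOpenImmersion.lift (pullback.diagonal q) L hsub with hl
  have hlL : l ≫ pullback.diagonal q = L := IsOpenImmersion.lift_fac _ _ _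
  have ha : a = l := by
    have : L ≫ pullback.fst q q = a := pullback.lift_fst _ _ _
    rw [← this, ← hlL]; simp
  have hb : b = l := by
    have : L ≫ pullback.snd q q = b := pullback.lift_snd _ _ _
    rw [← this, ← hlL]; simp
  rw [ha, hb]

end Groth.Agent.Lib.Helper4.EtIso
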