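import Mathlib
import Groth.Prelude.Def_AnEps
import Groth.Agent.Lib.Helper4.EtIso

namespace Groth.Agent.Lib.Helper4.EpsFull
open AlgebraicGeometry CategoryTheory TopologicalSpace Opposite An Topology Limits
open Groth.Agent.Lib.Helper4.AnEv Groth.Agent.Lib.Helper4.AnGen
open Groth.Agent.Lib.Helper4.AnOpen Groth.Agent.Lib.Helper4.AnClosed
open Groth.Agent.Lib.Helper4.DensSch3 Groth.Agent.Lib.Helper4.AnPB
open Groth.Agent.Lib.Helper4.AnBasic Groth.Agent.Lib.Helper4.AnInj Groth.Agent.Lib.Helper4.AnSurj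
open Groth.Agent.Lib.Helper4.EtIso Groth.Agent.Lib.Helper4.ConnGlue

section sep
variable {V X : Scheme.{0}} [V.Over SC] [X.Over SC]

instance diagonal_isOver (q : V ⟶ X) [q.IsOver SC] : (pullback.diagonal q).IsOver SC :=
  ⟨by
    show pullback.diagonal q ≫ (pullback.fst q q ≫ V ↘ SC) = V ↘ SC
    rw [← Category.assoc, pullback.diagonal_fst, Category.id_comp]⟩

/-- A separated morphism induces a separated map on `ℂ`-points. -/
theorem isSeparatedMap_map (q : V ⟶ X) [q.IsOver SC] [IsSeparated q] :
    IsSeparatedMap (Pts.map q) := by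
  rw [isSeparatedMap_iff_isClosed_diagonal]
  have hΨ := main4193 q q
  set Ψ : Pts (pullback q q) → (Pts.map q).Pullback (Pts.map q) := fun z =>
      ⟨(Pts.map (pullback.fst q q) z, Pts.map (pullback.snd q q) z),
        Pts.map_pullback_condition q q z⟩ with hΨdef
  have hcl : IsClosed (Set.range (Pts.map (pullback.diagonal q))) :=
    (main4200 (pullback.diagonal q)).isClosed_range
  have heq : (Pts.map q).pullbackDiagonal = Ψ '' Set.range (Pts.map (pullback.diagonal q)) := by
    ext p
    constructor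
    · intro hp
      have hp' : p.1.1 = p.1.2 := hp
      refine ⟨Pts.map (pullback.diagonal q) p.1.1, ⟨_, rfl⟩, ?_⟩
      apply Subtype.ext
      apply Prod.ext
      · apply Subtype.ext
        show (p.1.1.1 ≫ pullback.diagonal q) ≫ pullback.fst q q = p.1.1.1
        rw [Category.assoc, pullback.diagonal_fst, Category.comp_id]
      · apply Subtype.ext
        show (p.1.1.1 ≫ pullback.diagonal q) ≫ pullback.snd q q = p.1.2.1
        rw [Category.assoc, pullback.diagonal_snd, Category.comp_id, hp']
    · rintro ⟨_, ⟨v, rfl⟩, rfl⟩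
      show Pts.map (pullback.fst q q) (Pts.map (pullback.diagonal q) v) =
        Pts.map (pullback.snd q q) (Pts.map (pullback.diagonal q) v)
      apply Subtype.ext
      show (v.1 ≫ pullback.diagonal q) ≫ pullback.fst q q =
        (v.1 ≫ pullback.diagonal q) ≫ pullback.snd q q
      rw [Category.assoc, Category.assoc, pullback.diagonal_fst, pullback.diagonal_snd]
  rw [heq]
  exact hΨ.isClosedMap _ hcl

end sep

variable (X : Scheme.{0}) [X.Over SC] [LocallyOfFiniteType (X ↘ SC)] [Fact EtaleLH]

instance lft_left (U : X.Etale) : LocallyOfFiniteType (U.left ↘ SC) :=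
  inferInstanceAs (LocallyOfFiniteType ((U.left ↘ X) ≫ X ↘ SC))

theorem faithful : (eps X).Faithful := by
  refine ⟨fun {U V} g g' h => ?_⟩
  apply MorphismProperty.Over.Hom.ext
  refine eq_of_eq_on_pts (X := U.left) (V.left ↘ X) g.left g'.left ?_ ?_
  · exact (MorphismProperty.Over.w g).trans (MorphismProperty.Over.w g').symm
  · intro ξ
    have h1 : ((eps X).map g).toFun ξ = ((eps X).map g').toFun ξ := by rw [h]
    exact congrArg Subtype.val h1

theorem full_of_isSeparated (U V : X.Etale) [IsSeparated (V.left ↘ X)]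
    (φ : (eps X).obj U ⟶ (eps X).obj V) : ∃ g : U ⟶ V, (eps X).map g = φ := by
  set p : U.left ⟶ X := U.left ↘ X with hp
  set q : V.left ⟶ X := V.left ↘ X with hq
  haveI : LocallyOfFiniteType (pullback p q ↘ SC) :=
    inferInstanceAs (LocallyOfFiniteType (pullback.fst p q ≫ U.left ↘ SC))
  have hφover : ∀ a : Pts U.left, Pts.map q (φ.toFun a) = Pts.map p a := fun a => φ.over a
  set g₁ : Pts (pullback p q) → Pts V.left := fun z => φ.toFun (Pts.map (pullback.fst p q) z)
    with hg₁
  set g₂ : Pts (pullback p q) → Pts V.left := fun z => Pts.map (pullback.snd p q) z with hg₂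
  have hg₁c : Continuous g₁ := φ.continuous.comp (Pts.continuous_map _)
  have hg₂c : Continuous g₂ := Pts.continuous_map _
  have hcomp : Pts.map q ∘ g₁ = Pts.map q ∘ g₂ := by
    funext z
    show Pts.map q (φ.toFun (Pts.map (pullback.fst p q) z)) =
      Pts.map q (Pts.map (pullback.snd p q) z)
    rw [hφover]
    exact Pts.map_pullback_condition p q z
  have hΓ : IsClopen {z | g₁ z = g₂ z} :=
    ⟨(isSeparatedMap_map q).isClosed_eqLocus hg₁c hg₂c hcomp,
      ((Fact.out : EtaleLH) V.left X q).isLocallyInjective.isOpen_eqLocus hg₁c hg₂c hcomp⟩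
  obtain ⟨T, hT, hTΓ⟩ := exists_isClopen_preimage_eq hΓ
  set To : (pullback p q).Opens := ⟨T, hT.2⟩ with hTo
  letI : To.toScheme.Over SC := ⟨To.ι ≫ pullback p q ↘ SC⟩
  haveI : To.ι.IsOver SC := ⟨rfl⟩
  set r : To.toScheme ⟶ U.left := To.ι ≫ pullback.fst p q with hr
  haveI : r.IsOver SC := by rw [hr]; infer_instance
  have hΨ := main4193 p q
  have hrmap : ∀ t : Pts To.toScheme,
      Pts.map r t = Pts.map (pullback.fst p q) (Pts.map To.ι t) := fun t =>
    Subtype.ext (Category.assoc _ _ _).symm
  have hmemΓ : ∀ t : Pts To.toScheme, g₁ (Pts.map To.ι t) = g₂ (Pts.map To.ι t) := by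
    intro t
    have h1 : Pts.map To.ι t ∈ (Pts.pt ⁻¹' T : Set (Pts (pullback p q))) := by
      show (Pts.map To.ι t).pt ∈ T
      rw [Pts.pt_map]
      exact (t.pt : To).2
    rw [hTΓ] at h1
    exact h1
  have hbij : Function.Bijective (Pts.map r) := by
    constructor
    · intro t t' htt'
      have e1 : Pts.map (pullback.fst p q) (Pts.map To.ι t) =
          Pts.map (pullback.fst p q) (Pts.map To.ι t') := by
        rw [← hrmap, ← hrmap]; exact htt'
      have e2 : Pts.map (pullback.snd p q) (Pts.map To.ι t) =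
          Pts.map (pullback.snd p q) (Pts.map To.ι t') := by
        have a1 := hmemΓ t
        have a2 := hmemΓ t'
        simp only [hg₁, hg₂] at a1 a2
        rw [← a1, ← a2, e1]
      have e3 : Pts.map To.ι t = Pts.map To.ι t' := by
        apply hΨ.injective
        exact Subtype.ext (Prod.ext e1 e2)
      exact map_injective_of_mono To.ι e3
    · intro a
      obtain ⟨z, hz⟩ := hΨ.surjective ⟨(a, φ.toFun a), (hφover a).symm⟩
      have hz1 : Pts.map (pullback.fst p q) z = a := congrArg (fun w => w.1.1) hz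
      have hz2 : Pts.map (pullback.snd p q) z = φ.toFun a := congrArg (fun w => w.1.2) hz
      have hzΓ : z ∈ {z | g₁ z = g₂ z} := by
        show φ.toFun (Pts.map (pullback.fst p q) z) = Pts.map (pullback.snd p q) z
        rw [hz1, hz2]
      rw [← hTΓ] at hzΓ
      have hzr : z ∈ Set.range (Pts.map To.ι) := by
        rw [range_map_of_isOpenImmersion, Scheme.Opens.range_ι]
        exact hzΓ
      obtain ⟨t, rfl⟩ := hzr
      exact ⟨t, (hrmap t).trans hz1⟩
  haveI : IsIso r := isIso_of_bijective_map r hbij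
  set gl : U.left ⟶ V.left := inv r ≫ To.ι ≫ pullback.snd p q with hgl
  have hw : gl ≫ V.hom = U.hom := by
    show (inv r ≫ To.ι ≫ pullback.snd p q) ≫ q = p
    rw [Category.assoc, Category.assoc, ← pullback.condition, ← Category.assoc To.ι, ← hr,
      IsIso.inv_hom_id_assoc]
  refine ⟨MorphismProperty.Over.homMk gl hw trivial, ?_⟩
  apply Cl.hom_ext
  funext a
  obtain ⟨t, rfl⟩ := hbij.2 a
  apply Subtype.ext
  show (t.1 ≫ r) ≫ gl = (φ.toFun (Pts.map r t)).1
  have a1 := hmemΓ t
  simp only [hg₁, hg₂] at a1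
  rw [← hrmap] at a1
  rw [a1, hgl]
  show (t.1 ≫ r) ≫ inv r ≫ To.ι ≫ pullback.snd p q = (t.1 ≫ To.ι) ≫ pullback.snd p q
  simp

theorem main4208 :
    (∀ (U V : X.Etale) [IsSeparated (V.left ↘ X)],
        Function.Surjective ((An.eps X).map : (U ⟶ V) → ((An.eps X).obj U ⟶ (An.eps X).obj V))) ∧
      (An.eps X).Faithful :=
  ⟨fun U V _ φ => full_of_isSeparated X U V φ, faithful X⟩

end Groth.Agent.Lib.Helper4.EpsFull
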