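import Mathlib
import Groth.Prelude.Def_AnEps
import Groth.Agent.Lib.Helper4.EpsLim
import Groth.Agent.Lib.Helper4.LanFlat

namespace Groth.Agent.Lib.Helper4.EpsPull
open AlgebraicGeometry CategoryTheory TopologicalSpace Opposite An Topology Limits
open Groth.Agent.Lib.Helper4.EpsLim Groth.Agent.Lib.Helper4.LanFlat

/-- Filtered colimits indexed by a `Type 1`-sized category with small homs commute with finite
limits in `AddCommGrpCat.{1}`. -/
theorem colim_preservesFiniteLimits (I : Type 1) [Category.{0} I] [IsFiltered I] :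
    PreservesFiniteLimits (colim : (I ⥤ AddCommGrpCat.{1}) ⥤ AddCommGrpCat.{1}) := by
  haveI : PreservesFilteredColimitsOfSize.{0, 1} (forget AddCommGrpCat.{1}) := by
    haveI h : PreservesFilteredColimitsOfSize.{1, 1} (forget AddCommGrpCat.{1}) := inferInstance
    exact preservesFilteredColimitsOfSize_of_univLE.{1, 1, 0, 1} _
  haveI : PreservesColimitsOfShape I (forget AddCommGrpCat.{1}) :=
    PreservesFilteredColimitsOfSize.preserves_filtered_colimits I
  infer_instance

variable (X : Scheme.{0}) [X.Over SC] [LocallyOfFiniteType (X ↘ SC)] [Fact EtaleLH]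

instance lan_preservesFiniteLimits :
    PreservesFiniteLimits ((eps X).op.lan :
      (X.Etaleᵒᵖ ⥤ AddCommGrpCat.{1}) ⥤ (Cl (Pts X))ᵒᵖ ⥤ AddCommGrpCat.{1}) :=
  lan_preservesFiniteLimits_of_flat' (eps X) fun K _ => colim_preservesFiniteLimits _

theorem epsPull_preservesFiniteLimits [EpsCont X] : PreservesFiniteLimits (epsPull X) :=
  Functor.sheafPullbackConstruction.preservesFiniteLimits (eps X) AddCommGrpCat.{1}
    X.smallEtaleTopology (Cl.topology (Pts X))

end Groth.Agent.Lib.Helper4.EpsPull
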