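import Mathlib.Tactic
import Mathlib.AlgebraicGeometry.Limits
import Mathlib.AlgebraicGeometry.PullbackCarrier
import Mathlib.AlgebraicGeometry.ResidueField
import Mathlib.GroupTheory.OrderOfElement
import Groth.Prelude.Def_NonAbH2
import Groth.Prelude.Def_TwC
import Groth.Agent.Lib.Helper4.CentralExt

set_option autoImplicit false
universe u
open CategoryTheory MonoidalCategory CartesianMonoidalCategory MonObj AlgebraicGeometry Limits

namespace Groth.Agent.Lib.Helper4.ExtRigid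

open CovSieve

section partA
variable {S : Scheme.{u}} {P G E : Over S} [GrpObj P] [GrpObj G] [GrpObj E]
  (u : G ⟶ E) [IsMonHom u] (v : E ⟶ P) [IsMonHom v]
  (hsq : IsPullback ((E ◁ u) ≫ μ[E]) (fst E G) v v) (hcov : CovMor v.left)
  [IsCommMonObj E]
  (φ : E ⟶ E) [IsMonHom φ] (hφu : u ≫ φ = u) (hφv : φ ≫ v = v)

include hsq hcov hφu hφv in
theorem exists_psi : ∃ ψ : P ⟶ G, (∀ (T : Over S) (a b : T ⟶ P), (a * b) ≫ ψ = (a ≫ ψ) * (b ≫ ψ)) ∧
    φ * (𝟙 E)⁻¹ = v ≫ ψ ≫ u := by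
  have hmono : Mono u := CentralExt.mono_u u v hsq
  have hee : EffectiveEpi v.left := hcov.effectiveEpi
  have hepi : Epi v := Over.epi_of_epi_left _
  have huv : u ≫ v = 1 := by
    rw [CentralExt.ker_iff u v hsq]
    exact ⟨𝟙 G, (Category.id_comp u).symm⟩
  have hδv : (φ * (𝟙 E)⁻¹) ≫ v = 1 := by
    rw [MonObj.mul_comp, GrpObj.inv_comp, hφv, Category.id_comp, mul_inv_cancel]
  obtain ⟨δ', hδ'⟩ := (CentralExt.ker_iff u v hsq _).mp hδv
  have hδpt : ∀ {T : Over S} (a : T ⟶ E), a ≫ δ' ≫ u = (a ≫ φ) * a⁻¹ := by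
    intro T a
    rw [← hδ', MonObj.comp_mul, GrpObj.comp_inv, Category.comp_id]
  have huδ' : u ≫ δ' = 1 := by
    rw [← cancel_mono u, Category.assoc, hδpt, hφu, mul_inv_cancel, MonObj.one_comp]
  have hδmul : ∀ {T : Over S} (a b : T ⟶ E), (a * b) ≫ δ' = (a ≫ δ') * (b ≫ δ') := by
    intro T a b
    rw [← cancel_mono u, Category.assoc]
    have h1 : ((a ≫ δ') * (b ≫ δ')) ≫ u = ((a ≫ φ) * a⁻¹) * ((b ≫ φ) * b⁻¹) := by
      rw [MonObj.mul_comp, Category.assoc, Category.assoc, hδpt, hδpt]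
    have h2 : (a * b) ≫ δ' ≫ u = ((a ≫ φ) * (b ≫ φ)) * (a * b)⁻¹ := by
      rw [hδpt, MonObj.mul_comp]
    rw [h1, h2, mul_inv, _root_.mul_mul_mul_comm]
  obtain ⟨ψ, hψ⟩ := FpqcDesc.exists_desc v δ' (by
    intro W a b hab
    obtain ⟨n, rfl⟩ := (QuotGrp.coeq_iff u v hsq a b).mp hab
    rw [hδmul, Category.assoc, huδ', MonObj.comp_one, _root_.mul_one])
  refine ⟨ψ, ?_, ?_⟩
  · have hcov2 : CovMor (v ⊗ₘ v).left := covMor_tensorHom v v hcov hcov
    have hee2 : EffectiveEpi (v ⊗ₘ v).left := hcov2.effectiveEpi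
    have hepi2 : Epi (v ⊗ₘ v) := Over.epi_of_epi_left _
    have key : (fst P P * snd P P) ≫ ψ = (fst P P ≫ ψ) * (snd P P ≫ ψ) := by
      rw [← cancel_epi (v ⊗ₘ v), MonObj.comp_mul, ← Category.assoc, MonObj.comp_mul,
        tensorHom_fst, tensorHom_snd, ← Category.assoc, ← Category.assoc, tensorHom_fst,
        tensorHom_snd, ← MonObj.mul_comp, Category.assoc, Category.assoc, Category.assoc, hψ, hδmul]
    intro T a b
    have := congrArg (lift a b ≫ ·) key
    simp only [← Category.assoc, MonObj.comp_mul, lift_fst, lift_snd] at this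
    exact this
  · rw [hδ', ← hψ, Category.assoc]

end partA

section partB
variable {S : Scheme.{u}} (Z : Type u) {G : Over S} (eG : G ≅ TwC.const S Z)

/-- the `S`-point of `G` of index `z` -/
noncomputable def cpt (z : Z) : 𝟙_ (Over S) ⟶ G := TwC.pt S Z z ≫ eG.inv

instance (z : Z) : IsOpenImmersion (cpt Z eG z).left := by
  have h1 : IsOpenImmersion (TwC.pt S Z z).left := by
    show IsOpenImmersion (Sigma.ι (fun _ : Z => S) z)
    infer_instance
  have h2 : IsIso eG.inv.left := (Over.forget S).map_isIso eG.inv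
  show IsOpenImmersion ((TwC.pt S Z z).left ≫ eG.inv.left)
  infer_instance

theorem exists_cpt (g : G.left) : ∃ z : Z, g ∈ Set.range (cpt Z eG z).left.base := by
  obtain ⟨z', y', hy'⟩ := (sigmaOpenCover (fun _ : Z => S)).exists_eq (eG.hom.left g)
  obtain ⟨z, y, hy⟩ : ∃ (z : Z) (y : S), Sigma.ι (fun _ : Z => S) z y = eG.hom.left g :=
    ⟨z', y', hy'⟩
  refine ⟨z, y, ?_⟩
  show ((TwC.pt S Z z).left ≫ eG.inv.left) y = g
  have h1 : (TwC.pt S Z z).left y = eG.hom.left g := hy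
  rw [Scheme.Hom.comp_apply, h1, ← Scheme.Hom.comp_apply, ← Over.comp_left, Iso.hom_inv_id]
  rfl

theorem cpt_disjoint (z z' : Z) (h : z ≠ z') :
    Disjoint (Set.range (cpt Z eG z).left.base) (Set.range (cpt Z eG z').left.base) := by
  rw [Set.disjoint_left]
  rintro _ ⟨y, rfl⟩ ⟨y', hy'⟩
  have h2 := congrArg eG.hom.left hy'
  have e1 : ∀ (w : Z) (y : S), eG.hom.left ((cpt Z eG w).left y) = Sigma.ι (fun _ : Z => S) w y := by
    intro w y
    show eG.hom.left (((TwC.pt S Z w).left ≫ eG.inv.left) y) = _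
    rw [Scheme.Hom.comp_apply, ← Scheme.Hom.comp_apply, ← Over.comp_left, Iso.inv_hom_id]
    rfl
  rw [e1, e1] at h2
  have := (sigmaι_eq_iff (fun _ : Z => S) z' z y' y).mp h2
  exact h (by simpa using (congrArg Sigma.fst this).symm)

theorem eq_of_range_subset (c : 𝟙_ (Over S) ⟶ G) [IsOpenImmersion c.left] {T : Over S} (x : T ⟶ G)
    (h : Set.range x.left.base ⊆ Set.range c.left.base) : x = toUnit T ≫ c := by
  have hl : IsOpenImmersion.lift c.left x.left h ≫ c.left = x.left := IsOpenImmersion.lift_fac _ _ _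
  have h1 : IsOpenImmersion.lift c.left x.left h = T.hom := by
    have hc : c.left ≫ G.hom = 𝟙 S := Over.w c
    have hx : x.left ≫ G.hom = T.hom := Over.w x
    calc IsOpenImmersion.lift c.left x.left h
        = IsOpenImmersion.lift c.left x.left h ≫ c.left ≫ G.hom := by
          rw [hc]; exact (Category.comp_id _).symm
      _ = x.left ≫ G.hom := by rw [← Category.assoc, hl]
      _ = T.hom := hx
  ext
  rw [Over.comp_left, Over.toUnit_left, ← h1, hl]

end partB

section partC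
variable {k : Type u} [Field k] (Z : Type u) [Group Z]
  {P G : Over (Spec (CommRingCat.of k))} [GrpObj P] [GrpObj G]
  (eG : G ≅ TwC.const (Spec (CommRingCat.of k)) Z) (hG : TwC.IsConstGrp Z G eG)
  (ψ : P ⟶ G) (hψ : ∀ (T : Over (Spec (CommRingCat.of k))) (a b : T ⟶ P),
    (a * b) ≫ ψ = (a ≫ ψ) * (b ≫ ψ))

include hG hψ in
theorem mul_mem {z1 z2 : Z} (p1 p2 : P.left)
    (h1 : ψ.left p1 ∈ Set.range (cpt Z eG z1).left.base)
    (h2 : ψ.left p2 ∈ Set.range (cpt Z eG z2).left.base) :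
    ∃ p : P.left, ψ.left p ∈ Set.range (cpt Z eG (z1 * z2)).left.base := by
  have hpp : P.hom p1 = P.hom p2 := Subsingleton.elim _ _
  obtain ⟨r, hr1, hr2⟩ := Scheme.Pullback.exists_preimage_pullback (f := P.hom) (g := P.hom) p1 p2 hpp
  let r' : (P ⊗ P).left := r
  let T : Over (Spec (CommRingCat.of k)) := Over.mk ((P ⊗ P).left.fromSpecResidueField r' ≫ (P ⊗ P).hom)
  let t : T ⟶ P ⊗ P := Over.homMk ((P ⊗ P).left.fromSpecResidueField r') rfl
  have ht : ∀ s : T.left, t.left s = r' := fun s => Scheme.fromSpecResidueField_apply _ s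
  have hx1 : t ≫ fst P P ≫ ψ = toUnit T ≫ cpt Z eG z1 := by
    apply eq_of_range_subset
    rintro _ ⟨s, rfl⟩
    have : (t ≫ fst P P ≫ ψ).left s = ψ.left p1 := by
      rw [Over.comp_left, Over.comp_left, Scheme.Hom.comp_apply, Scheme.Hom.comp_apply, ht]
      congr 1
    rw [this]; exact h1
  have hx2 : t ≫ snd P P ≫ ψ = toUnit T ≫ cpt Z eG z2 := by
    apply eq_of_range_subset
    rintro _ ⟨s, rfl⟩
    have : (t ≫ snd P P ≫ ψ).left s = ψ.left p2 := by
      rw [Over.comp_left, Over.comp_left, Scheme.Hom.comp_apply, Scheme.Hom.comp_apply, ht]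
      congr 1
    rw [this]; exact h2
  have hx : (t ≫ (fst P P * snd P P)) ≫ ψ = toUnit T ≫ cpt Z eG (z1 * z2) := by
    rw [MonObj.comp_mul, hψ, Category.assoc, Category.assoc, hx1, hx2, ← MonObj.comp_mul]
    congr 1
    exact hG z1 z2
  obtain ⟨s⟩ : Nonempty T.left := inferInstanceAs (Nonempty (Spec _))
  refine ⟨(t ≫ (fst P P * snd P P)).left s, (toUnit T).left s, ?_⟩
  have := congrArg (fun f => f.left s) hx
  simp only [Over.comp_left, Scheme.Hom.comp_apply] at this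
  exact this.symm

include hG hψ in
theorem pow_mem {z : Z} (p : P.left) (h : ψ.left p ∈ Set.range (cpt Z eG z).left.base) (n : ℕ) :
    ∃ p' : P.left, ψ.left p' ∈ Set.range (cpt Z eG (z ^ (n + 1))).left.base := by
  induction n with
  | zero => exact ⟨p, by simpa using h⟩
  | succ n ih =>
    obtain ⟨p', hp'⟩ := ih
    rw [pow_succ]
    exact mul_mem Z eG hG ψ hψ p' p hp' h

include hG hψ in
theorem psi_trivial [QuasiCompact P.hom] (hZ : ∀ z : Z, IsOfFinOrder z → z = 1) : ψ = 1 := by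
  have hcpt : CompactSpace P.left := QuasiCompact.compactSpace_of_compactSpace P.hom
  let Uz : Z → Set P.left := fun z => ψ.left.base ⁻¹' Set.range (cpt Z eG z).left.base
  have hopen : ∀ z, IsOpen (Uz z) := fun z =>
    (cpt Z eG z).left.isOpenEmbedding.isOpen_range.preimage ψ.left.continuous
  have hcov : (Set.univ : Set P.left) ⊆ ⋃ z, Uz z := by
    intro p _
    obtain ⟨z, hz⟩ := exists_cpt Z eG (ψ.left p)
    exact Set.mem_iUnion.mpr ⟨z, hz⟩
  obtain ⟨t, ht⟩ := isCompact_univ.elim_finite_subcover Uz hopen hcov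
  -- every index with nonempty preimage lies in t
  have hsub : ∀ z : Z, (Uz z).Nonempty → z ∈ t := by
    rintro z ⟨p, hp⟩
    have := ht (Set.mem_univ p)
    simp only [Set.mem_iUnion] at this
    obtain ⟨z', hz't, hpz'⟩ := this
    by_contra hne
    have hzz' : z ≠ z' := fun h => hne (h ▸ hz't)
    exact Set.disjoint_left.mp (cpt_disjoint Z eG z z' hzz') hp hpz'
  -- every such index is trivial
  have hone : ∀ z : Z, (Uz z).Nonempty → z = 1 := by
    rintro z ⟨p, hp⟩
    apply hZ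
    by_contra hinf
    have hinj : Function.Injective (fun n : ℕ => z ^ (n + 1)) := by
      intro a b hab
      have := (injective_pow_iff_not_isOfFinOrder.mpr hinf) hab
      omega
    have hmem : ∀ n : ℕ, (fun n : ℕ => z ^ (n + 1)) n ∈ (t : Set Z) := by
      intro n
      obtain ⟨p', hp'⟩ := pow_mem Z eG hG ψ hψ p hp n
      exact hsub _ ⟨p', hp'⟩
    exact (Set.infinite_of_injective_forall_mem hinj hmem) t.finite_toSet
  have hc1 : cpt Z eG (1 : Z) = 1 := by
    have := hG 1 1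
    rw [_root_.mul_one] at this
    exact mul_eq_left.mp this
  have hψ1 : ψ = toUnit P ≫ cpt Z eG 1 := by
    apply eq_of_range_subset
    rintro _ ⟨p, rfl⟩
    obtain ⟨z, hz⟩ := exists_cpt Z eG (ψ.left p)
    have : z = 1 := hone z ⟨p, hz⟩
    rw [← this]; exact hz
  rw [hψ1, hc1, MonObj.comp_one]

end partC

theorem main8716 (k : Type u) [Field k]
    (Z : Type u) [CommGroup Z] (hZ : ∀ z : Z, IsOfFinOrder z → z = 1)
    (P E G : Over (Spec (CommRingCat.of k))) [GrpObj P] [GrpObj E] [GrpObj G]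
    [IsCommMonObj P] [IsCommMonObj E]
    [LocallyOfFiniteType P.hom] [QuasiCompact P.hom]
    (eG : G ≅ TwC.const (Spec (CommRingCat.of k)) Z) (hG : TwC.IsConstGrp Z G eG)
    (u : G ⟶ E) (v : E ⟶ P) (hex : NonAbH1.IsExactSeq Scheme.fppfPrecoverage u v)
    (φ : E ≅ E) [IsMonHom φ.hom] (hφu : u ≫ φ.hom = u) (hφv : φ.hom ≫ v = v) :
    φ.hom = 𝟙 E := by
  obtain ⟨hu, hv, -, hsq, hloc⟩ := hex
  have hcov : CovMor v.left := covMor_of_isLocallyTrivialFor_fppf v.left hloc
  obtain ⟨ψ, hψmul, hψ⟩ := exists_psi u v hsq.flip hcov φ.hom hφu hφv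
  have h1 := psi_trivial Z eG hG ψ hψmul hZ
  rw [h1, MonObj.one_comp, MonObj.comp_one] at hψ
  exact mul_inv_eq_one.mp hψ

end Groth.Agent.Lib.Helper4.ExtRigid
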