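import Groth.Agent.Lib.helper11.DRank
import Mathlib

set_option backward.isDefEq.respectTransparency.types false
set_option autoImplicit false
set_option linter.unusedSectionVars false
set_option linter.style.haveILetI false
universe u
open CategoryTheory CategoryTheory.Limits CohIII TensorProduct
open Groth.Agent.Lib.helper11.FibDim Groth.Agent.Lib.helper11.DRank

namespace Groth.Agent.Lib.Helper4.FC1

variable {A : Type u} [CommRing A]

/-- alternating sums telescope -/
theorem telescope (r : ℤ → ℤ) (t : ℕ) :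
    ∑ p ∈ Finset.range t, (-1 : ℤ) ^ p * (r ((p : ℤ) - 1) + r p) = r (-1) - (-1) ^ t * r ((t : ℤ) - 1) := by
  induction t with
  | zero => simp
  | succ t ih =>
    rw [Finset.sum_range_succ, ih]
    push_cast
    rw [show ((t : ℤ) + 1 - 1) = t by ring, pow_succ]
    ring

variable (L : CochainComplex (ModuleCat.{u} A) ℤ)

/-- the rank of the differential leaving degree `p` at the point `x` -/
noncomputable def rr (x : PrimeSpectrum A) (p : ℤ) : ℤ := (fibRank (L.d p (p + 1)).hom x : ℤ)

theorem dRank_eq [∀ i, Module.Finite A (L.X i)] (p : ℤ) (x : PrimeSpectrum A) :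
    (dRank L p x : ℤ) = (fibDim (L.X p) x : ℤ) - (rr L x (p - 1) + rr L x p) := by
  have h := dRank_add L p x
  rw [CochainComplex.prev, CochainComplex.next] at h
  unfold rr
  rw [show p - 1 + 1 = p by ring]
  have h' : ((dRank L p x : ℕ) : ℤ) + (fibRank (L.d (p - 1) p).hom x : ℤ) + (fibRank (L.d p (p + 1)).hom x : ℤ)
      = (fibDim (L.X p) x : ℤ) := by exact_mod_cast h
  linarith

theorem rr_eq_zero [∀ i, Module.Finite A (L.X i)] (x : PrimeSpectrum A) (p : ℤ) (h : IsZero (L.X (p + 1))) :
    rr L x p = 0 := by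
  unfold rr
  haveI : Subsingleton (L.X (p + 1)) := ModuleCat.subsingleton_of_isZero h
  have h1 := fibRank_le_fibDim (L.d p (p + 1)).hom x
  have h2 : fibDim (L.X (p + 1)) x = 0 := by
    unfold fibDim
    exact Module.finrank_zero_of_subsingleton
  rw [h2] at h1
  have : fibRank (L.d p (p + 1)).hom x = 0 := Nat.le_zero.1 h1
  rw [this]; rfl

theorem dRank_eq_zero_of_isZero (p : ℤ) (x : PrimeSpectrum A) (h : IsZero (L.X p)) : dRank L p x = 0 := by
  unfold dRank
  have : IsZero ((bcCx (algebraMap A x.asIdeal.ResidueField) L).X p) := by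
    show IsZero ((ModuleCat.extendScalars (algebraMap A x.asIdeal.ResidueField)).obj (L.X p))
    exact Functor.map_isZero _ h
  have h2 : IsZero ((bcCx (algebraMap A x.asIdeal.ResidueField) L).homology p) :=
    ShortComplex.isZero_homology_of_isZero_X₂ _ this
  haveI := ModuleCat.subsingleton_of_isZero h2
  exact Module.finrank_zero_of_subsingleton

variable [IsLocalRing A]

theorem fibRank_closedPoint_le {M N : Type u} [AddCommGroup M] [Module A M] [AddCommGroup N] [Module A N]
    [Module.FinitePresentation A N] [Module.Flat A N] (φ : M →ₗ[A] N) (x : PrimeSpectrum A) :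
    fibRank φ (IsLocalRing.closedPoint A) ≤ fibRank φ x := by
  obtain ⟨U, hU, hx, h⟩ := exists_open_fibRank_ge φ (IsLocalRing.closedPoint A)
  have hU' : U = Set.univ := by
    have h3 := (IsLocalRing.closedPoint_mem_iff (U := ⟨U, hU⟩)).1 hx
    have h4 : ((⟨U, hU⟩ : TopologicalSpace.Opens (PrimeSpectrum A)) : Set (PrimeSpectrum A)) =
        ((⊤ : TopologicalSpace.Opens (PrimeSpectrum A)) : Set (PrimeSpectrum A)) := by rw [h3]
    simpa using h4
  exact h x (hU' ▸ Set.mem_univ x)

theorem fibDim_eq_closedPoint (N : Type u) [AddCommGroup N] [Module A N]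
    [Module.FinitePresentation A N] [Module.Flat A N] (x : PrimeSpectrum A) :
    fibDim N x = fibDim N (IsLocalRing.closedPoint A) := by
  obtain ⟨U, hU, hx, h⟩ := exists_open_fibDim_eq (N := N) (IsLocalRing.closedPoint A)
  have hU' : U = Set.univ := by
    have h3 := (IsLocalRing.closedPoint_mem_iff (U := ⟨U, hU⟩)).1 hx
    have h4 : ((⟨U, hU⟩ : TopologicalSpace.Opens (PrimeSpectrum A)) : Set (PrimeSpectrum A)) =
        ((⊤ : TopologicalSpace.Opens (PrimeSpectrum A)) : Set (PrimeSpectrum A)) := by rw [h3]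
    simpa using h4
  exact h x (hU' ▸ Set.mem_univ x)

/-- **the Euler characteristic of the fibres of a bounded above complex of finite free modules over a local ring
which is universally exact in negative degrees is constant** -/
theorem sum_dRank_eq (t : ℕ) (hfin : ∀ i, Module.Finite A (L.X i) ∧ Module.Free A (L.X i))
    (hz : ∀ i : ℤ, (t : ℤ) ≤ i → IsZero (L.X i))
    (hneg : ∀ x : PrimeSpectrum A, dRank L (-1) x = 0) (x : PrimeSpectrum A) :
    ∑ p ∈ Finset.range t, (-1 : ℤ) ^ p * (dRank L (p : ℤ) x : ℤ) =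
      ∑ p ∈ Finset.range t, (-1 : ℤ) ^ p * (dRank L (p : ℤ) (IsLocalRing.closedPoint A) : ℤ) := by
  haveI : ∀ i, Module.Finite A (L.X i) := fun i => (hfin i).1
  haveI : ∀ i, Module.Free A (L.X i) := fun i => (hfin i).2
  haveI : ∀ i, Module.FinitePresentation A (L.X i) := fun i => Module.finitePresentation_of_projective A _
  set y := IsLocalRing.closedPoint A with hy
  have key : ∀ z : PrimeSpectrum A, ∑ p ∈ Finset.range t, (-1 : ℤ) ^ p * (dRank L (p : ℤ) z : ℤ) =
      ∑ p ∈ Finset.range t, (-1 : ℤ) ^ p * (fibDim (L.X (p : ℤ)) z : ℤ) - rr L z (-1) := by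
    intro z
    have h1 : ∀ p ∈ Finset.range t, (-1 : ℤ) ^ p * (dRank L (p : ℤ) z : ℤ) =
        (-1 : ℤ) ^ p * (fibDim (L.X (p : ℤ)) z : ℤ) - (-1 : ℤ) ^ p * (rr L z ((p : ℤ) - 1) + rr L z p) := by
      intro p _
      rw [dRank_eq L p z]; ring
    rw [Finset.sum_congr rfl h1, Finset.sum_sub_distrib, telescope (rr L z) t,
      rr_eq_zero L z ((t : ℤ) - 1) (hz _ (by lia))]
    ring
  rw [key x, key y]
  have h2 : ∀ p ∈ Finset.range t, (-1 : ℤ) ^ p * (fibDim (L.X (p : ℤ)) x : ℤ) =
      (-1 : ℤ) ^ p * (fibDim (L.X (p : ℤ)) y : ℤ) := by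
    intro p _
    rw [fibDim_eq_closedPoint (L.X (p : ℤ)) x]
  rw [Finset.sum_congr rfl h2]
  congr 1
  -- the rank of `d^{-1}` is constant
  have a1 := dRank_eq L (-1) x
  have a2 := dRank_eq L (-1) y
  rw [hneg x] at a1
  rw [hneg y] at a2
  have a3 : (fibDim (L.X (-1)) x : ℤ) = (fibDim (L.X (-1)) y : ℤ) := by
    rw [fibDim_eq_closedPoint (L.X (-1)) x]
  have b1 : rr L y (-1) ≤ rr L x (-1) := by
    unfold rr
    exact_mod_cast fibRank_closedPoint_le (L.d (-1) (-1 + 1)).hom x
  have b2 : rr L y (-1 - 1) ≤ rr L x (-1 - 1) := by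
    unfold rr
    exact_mod_cast fibRank_closedPoint_le (L.d (-1 - 1) (-1 - 1 + 1)).hom x
  rw [show (-1 - 1 : ℤ) = -2 by norm_num] at a1 a2 b2
  linarith

end Groth.Agent.Lib.Helper4.FC1
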