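import Groth.Agent.Lib.Helper4.FC1
import Groth.Agent.Lib.Helper6.GrothLocalB
import Groth.Prelude.Def_PerfAux
import Mathlib

set_option backward.isDefEq.respectTransparency.types false
set_option autoImplicit false
set_option linter.unusedSectionVars false
set_option linter.style.haveILetI false
universe u
open CategoryTheory CategoryTheory.Limits AlgebraicGeometry CohIII TensorProduct
open Groth.Agent.Lib.helper11.FibDim Groth.Agent.Lib.helper11.DRank

namespace Groth.Agent.Lib.Helper4.FC2

open Groth.Agent.Lib.Helper4.FC1 Groth.Agent.Lib.Helper6.GrothLocal Groth.Agent.Lib.Helper6.FibreLink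

theorem dRank_eq_zero_of_TFun {A : Type u} [CommRing A] (L : CochainComplex (ModuleCat.{u} A) ℤ) (i : ℤ)
    (x : PrimeSpectrum A)
    (h : IsZero ((CohIII.TFun L i).obj (ModuleCat.of A x.asIdeal.ResidueField))) : dRank L i x = 0 := by
  haveI := ModuleCat.subsingleton_of_isZero h
  let e : PUnit.{u + 1} ≃+ ((CohIII.TFun L i).obj (ModuleCat.of A x.asIdeal.ResidueField) : ModuleCat.{u} A) :=
    { toFun := fun _ => 0
      invFun := fun _ => PUnit.unit
      left_inv := fun _ => rfl
      right_inv := fun _ => Subsingleton.elim _ _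
      map_add' := fun _ _ => (add_zero _).symm }
  rw [dRank_eq_finrank x L i e (fun _ _ => Subsingleton.elim _ _)]
  exact Module.finrank_zero_of_subsingleton

variable {X Y : Scheme.{u}} (f : X ⟶ Y) [IsProper f] [IsLocallyNoetherian Y] (F : X.Modules)

theorem eulerChar_eq_sum (s : Y) (t : ℕ) (h : ∀ p, t ≤ p → CohIII.fiberRank f F p s = 0) :
    PerfAux.eulerChar f F s = ∑ p ∈ Finset.range t, (-1 : ℤ) ^ p * (CohIII.fiberRank f F p s : ℤ) := by
  unfold PerfAux.eulerChar
  rw [finsum_eq_sum_of_support_subset]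
  · rfl
  · intro p hp
    rw [Function.mem_support] at hp
    simp only [Finset.coe_range, Set.mem_Iio]
    by_contra hlt
    push Not at hlt
    apply hp
    have := h p hlt
    show (-1 : ℤ) ^ p * (CohIII.fiberRank f F p s : ℤ) = 0
    rw [this]; simp

/-- **the Euler characteristic of the fibres is constant under generization** -/
theorem eulerChar_generization (hF : Coh.IsCoh F) (hfl : FlatMod.IsFlatOver f F) (y : Y)
    (𝔮 : PrimeSpectrum (Y.presheaf.stalk y)) :
    PerfAux.eulerChar f F (Y.fromSpecStalk y 𝔮) = PerfAux.eulerChar f F y := by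
  haveI : HasInjectiveResolutions X.Modules := inferInstance
  obtain ⟨L, t, h1, h2, -, -, h5, -, h7⟩ := exists_local_complex' f y F hF hfl
  have hz : ∀ (p : ℕ) (𝔭 : PrimeSpectrum (Y.presheaf.stalk y)), t ≤ p →
      CohIII.fiberRank f F p (Y.fromSpecStalk y 𝔭) = 0 := by
    intro p 𝔭 hp
    rw [← h5 p 𝔭]
    exact dRank_eq_zero_of_isZero L p 𝔭 (h2 p (by exact_mod_cast hp))
  have hc := Scheme.fromSpecStalk_closedPoint (X := Y) (x := y)
  rw [eulerChar_eq_sum f F _ t (fun p hp => hz p 𝔮 hp),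
    eulerChar_eq_sum f F y t (fun p hp => by
      have := hz p (IsLocalRing.closedPoint _) hp
      rwa [hc] at this)]
  have h8 := sum_dRank_eq L t h1 h2
    (fun x => dRank_eq_zero_of_TFun L (-1) x (h7 (-1) (by norm_num) _)) 𝔮
  have e1 : ∀ p ∈ Finset.range t, (-1 : ℤ) ^ p * (CohIII.fiberRank f F p (Y.fromSpecStalk y 𝔮) : ℤ) =
      (-1 : ℤ) ^ p * (dRank L (p : ℤ) 𝔮 : ℤ) := fun p _ => by rw [h5]
  have e2 : ∀ p ∈ Finset.range t, (-1 : ℤ) ^ p * (CohIII.fiberRank f F p y : ℤ) =
      (-1 : ℤ) ^ p * (dRank L (p : ℤ) (IsLocalRing.closedPoint _) : ℤ) := fun p _ => by rw [h5, hc]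
  rw [Finset.sum_congr rfl e1, Finset.sum_congr rfl e2]
  exact h8

end Groth.Agent.Lib.Helper4.FC2
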