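import Mathlib

set_option autoImplicit false
universe u
open CategoryTheory AlgebraicGeometry TopologicalSpace

namespace Groth.Agent.Lib.Helper4.FC3

/-- a function on a Noetherian quasi-sober space which is constant under generization is locally constant
near each point -/
theorem exists_open_const {W : Type*} [TopologicalSpace W] [NoetherianSpace W] [QuasiSober W] {α : Type*}
    (g : W → α) (hg : ∀ y y' : W, y' ⤳ y → g y' = g y) (y : W) :
    ∃ U : Set W, IsOpen U ∧ y ∈ U ∧ ∀ y' ∈ U, g y' = g y := by
  have hfin : (irreducibleComponents W).Finite := NoetherianSpace.finite_irreducibleComponents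
  set S : Set W := ⋃ Z ∈ {Z ∈ irreducibleComponents W | y ∉ Z}, Z with hS
  have hSc : IsClosed S := by
    refine Set.Finite.isClosed_biUnion (hfin.subset fun Z hZ => hZ.1) fun Z hZ => ?_
    exact isClosed_of_mem_irreducibleComponents Z hZ.1
  refine ⟨Sᶜ, hSc.isOpen_compl, ?_, ?_⟩
  · intro hy
    simp only [hS, Set.mem_iUnion, Set.mem_ofPred_eq] at hy
    obtain ⟨Z, ⟨-, hyZ⟩, hy'⟩ := hy
    exact hyZ hy'
  · intro y' hy'
    have hZ : irreducibleComponent y' ∈ irreducibleComponents W := irreducibleComponent_mem_irreducibleComponents y'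
    have hyZ : y ∈ irreducibleComponent y' := by
      by_contra hn
      apply hy'
      simp only [hS, Set.mem_iUnion, Set.mem_ofPred_eq]
      exact ⟨irreducibleComponent y', ⟨hZ, hn⟩, mem_irreducibleComponent⟩
    have hirr : IsIrreducible (irreducibleComponent y') := isIrreducible_irreducibleComponent
    have hcl : IsClosed (irreducibleComponent y') := isClosed_irreducibleComponent
    obtain ⟨η, hη⟩ := QuasiSober.sober hirr hcl
    have h1 : η ⤳ y' := hη.specializes (mem_irreducibleComponent)
    have h2 : η ⤳ y := hη.specializes hyZ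
    rw [← hg y' η h1, hg y η h2]

/-- **on a locally Noetherian scheme, a function which is constant under generization is locally constant** -/
theorem isLocallyConstant_of_specializes {Y : Scheme.{u}} [IsLocallyNoetherian Y] {α : Type*} (g : Y → α)
    (hg : ∀ y y' : Y, y' ⤳ y → g y' = g y) : IsLocallyConstant g := by
  rw [IsLocallyConstant.iff_exists_open]
  intro y
  obtain ⟨_, ⟨W, hW, rfl⟩, hyW, -⟩ :=
    Y.isBasis_affineOpens.exists_subset_of_mem_open (Set.mem_univ y) isOpen_univ
  haveI : IsNoetherianRing Γ(Y, W) := IsLocallyNoetherian.component_noetherian ⟨W, hW⟩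
  have h0 := noetherianSpace_of_isAffineOpen W hW
  haveI : NoetherianSpace (↥W : Type u) := h0
  haveI : QuasiSober (↥W : Type u) := inferInstanceAs (QuasiSober (W : Scheme))
  obtain ⟨U, hU, hyU, h⟩ := exists_open_const (fun w : W => g w.1)
    (fun a b hab => hg a.1 b.1 (hab.map continuous_subtype_val)) ⟨y, hyW⟩
  refine ⟨Subtype.val '' U, W.isOpen.isOpenMap_subtype_val U hU, ⟨⟨y, hyW⟩, hyU, rfl⟩, ?_⟩
  rintro _ ⟨w, hw, rfl⟩
  exact h w hw

end Groth.Agent.Lib.Helper4.FC3
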