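import Groth.Agent.Lib.Helper4.FC2
import Groth.Agent.Lib.Helper4.FC3
import Groth.Prelude.Def_Pic13
import Mathlib

set_option backward.isDefEq.respectTransparency.types false
set_option autoImplicit false
set_option linter.unusedSectionVars false
set_option linter.style.haveILetI false
universe u
open CategoryTheory CategoryTheory.Limits AlgebraicGeometry

namespace Groth.Agent.Lib.Helper4.FC4

open Groth.Agent.Lib.Helper4.FC2 Groth.Agent.Lib.Helper4.FC3

section General

variable {X Y : Scheme.{u}} (f : X ⟶ Y) [IsProper f] [IsLocallyNoetherian Y] (F : X.Modules)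

/-- **the Euler characteristic of the fibres of a flat coherent module along a proper morphism to a locally Noetherian
scheme is locally constant** -/
theorem isLocallyConstant_eulerChar (hF : Coh.IsCoh F) (hfl : FlatMod.IsFlatOver f F) :
    IsLocallyConstant (fun s : Y => PerfAux.eulerChar f F s) := by
  apply isLocallyConstant_of_specializes
  intro y y' h
  have h' : y' ∈ Set.range (Y.fromSpecStalk y) := by
    rw [Scheme.range_fromSpecStalk]; exact h
  obtain ⟨𝔮, rfl⟩ := h'
  exact eulerChar_generization f F hF hfl y 𝔮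

theorem eulerChar_eq_of_preconnected [PreconnectedSpace Y] (hF : Coh.IsCoh F) (hfl : FlatMod.IsFlatOver f F)
    (s s' : Y) : PerfAux.eulerChar f F s = PerfAux.eulerChar f F s' :=
  (isLocallyConstant_eulerChar f F hF hfl).apply_eq_of_preconnectedSpace s s'

end General

section Points

variable (k : Type u) [Field k] (X : Scheme.{u}) [X.Over (Spec (CommRingCat.of k))]
  {T : Scheme.{u}} (q : T ⟶ Spec (CommRingCat.of k)) (t : Spec (CommRingCat.of k) ⟶ T) (ht : t ≫ q = 𝟙 _)

theorem sliceAt_fst : Pic13.sliceAt k X q t ht ≫ pullback.fst _ _ = 𝟙 X := by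
  unfold Pic13.sliceAt
  exact pullback.lift_fst _ _ _

theorem sliceAt_snd : Pic13.sliceAt k X q t ht ≫ pullback.snd _ _ = (X ↘ Spec (CommRingCat.of k)) ≫ t := by
  unfold Pic13.sliceAt
  exact pullback.lift_snd _ _ _

theorem isPullback_sliceAt :
    IsPullback (Pic13.sliceAt k X q t ht) (X ↘ Spec (CommRingCat.of k))
      (pullback.snd (X ↘ Spec (CommRingCat.of k)) q) t := by
  have hr : IsPullback (pullback.fst (X ↘ Spec (CommRingCat.of k)) q) (pullback.snd (X ↘ Spec (CommRingCat.of k)) q)
      (X ↘ Spec (CommRingCat.of k)) q := IsPullback.of_hasPullback _ _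
  refine IsPullback.of_right ?_ (sliceAt_snd k X q t ht) hr
  rw [sliceAt_fst, ht]
  exact IsPullback.of_horiz_isIso ⟨by simp⟩

variable [IsProper (X ↘ Spec (CommRingCat.of k))]

/-- the Euler characteristic of a fibre module at a `k`-point is the Euler characteristic of the fibre -/
theorem euler_fibreMod (F : (Pic13.prodK k X q).Modules) [F.IsQuasicoherent] :
    Curv2.euler k X (Pic13.fibreMod k X q t ht F) =
      PerfAux.eulerChar (pullback.snd (X ↘ Spec (CommRingCat.of k)) q) F (t (IsLocalRing.closedPoint k)) := by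
  unfold Curv2.euler PerfAux.eulerChar
  congr 1
  funext i
  congr 2
  exact Groth.Agent.Lib.Helper6.FibreGlue.finrank_eq_of_point (pullback.snd (X ↘ Spec (CommRingCat.of k)) q) F i k t X
    (Pic13.sliceAt k X q t ht) (isPullback_sliceAt k X q t ht)

/-- **the Euler characteristics of the fibre modules of a flat family over a connected base at two `k`-points agree** -/
theorem euler_fibreMod_eq [LocallyOfFiniteType q] [ConnectedSpace T]
    (F : (Pic13.prodK k X q).Modules) (hF : Coh.IsCoh F)
    (hfl : FlatMod.IsFlatOver (pullback.snd (X ↘ Spec (CommRingCat.of k)) q) F)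
    (t₀ : Spec (CommRingCat.of k) ⟶ T) (ht₀ : t₀ ≫ q = 𝟙 _) :
    Curv2.euler k X (Pic13.fibreMod k X q t ht F) = Curv2.euler k X (Pic13.fibreMod k X q t₀ ht₀ F) := by
  haveI : F.IsQuasicoherent := hF.1
  haveI : IsLocallyNoetherian T := LocallyOfFiniteType.isLocallyNoetherian q
  rw [euler_fibreMod, euler_fibreMod]
  exact eulerChar_eq_of_preconnected _ F hF hfl _ _

end Points

end Groth.Agent.Lib.Helper4.FC4
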