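import Mathlib

set_option autoImplicit false
open Polynomial Finset

namespace Groth.Agent.Lib.Helper4.FC5

/-- the polynomial `Σ_m a_m binom(x, m)` -/
noncomputable def binomPoly (d : ℕ) (a : ℕ → ℤ) : ℚ[X] :=
  ∑ m ∈ range (d + 1), C ((a m : ℚ) / (m.factorial : ℚ)) * descPochhammer ℚ m

theorem eval_binomPoly (d : ℕ) (a : ℕ → ℤ) (j : ℕ) :
    (binomPoly d a).eval (j : ℚ) = ((∑ m ∈ range (d + 1), (j.choose m : ℤ) * a m : ℤ) : ℚ) := by
  unfold binomPoly
  rw [eval_finsetSum]
  push_cast
  apply Finset.sum_congr rfl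
  intro m _
  rw [eval_mul, eval_C, descPochhammer_eval_eq_descFactorial, Nat.descFactorial_eq_factorial_mul_choose]
  have : (m.factorial : ℚ) ≠ 0 := by exact_mod_cast m.factorial_ne_zero
  push_cast
  field_simp

/-- a numerical polynomial which is constant on the multiples of `n > 0` is constant -/
theorem const_of_const_on_multiples (d : ℕ) (a : ℕ → ℤ) (n : ℕ) (hn : 0 < n) (c : ℤ)
    (h : ∀ j : ℕ, ∑ m ∈ range (d + 1), ((n * j).choose m : ℤ) * a m = c) (j : ℕ) :
    ∑ m ∈ range (d + 1), (j.choose m : ℤ) * a m = c := by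
  set q : ℚ[X] := binomPoly d a - C (c : ℚ) with hq
  have hq0 : q = 0 := by
    apply Polynomial.eq_zero_of_infinite_isRoot
    have hinj : Function.Injective (fun j : ℕ => ((n * j : ℕ) : ℚ)) := by
      intro a b hab
      have hab' : ((n * a : ℕ) : ℚ) = ((n * b : ℕ) : ℚ) := hab
      have : n * a = n * b := by exact_mod_cast hab'
      exact Nat.eq_of_mul_eq_mul_left hn this
    refine (Set.infinite_range_of_injective hinj).mono ?_
    rintro _ ⟨j, rfl⟩
    show IsRoot q _
    rw [IsRoot.def, hq, eval_sub, eval_C, eval_binomPoly, h j, sub_self]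
  have h1 : q.eval (j : ℚ) = 0 := by rw [hq0, eval_zero]
  rw [hq, eval_sub, eval_C, eval_binomPoly, sub_eq_zero] at h1
  exact_mod_cast h1

end Groth.Agent.Lib.Helper4.FC5
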