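import Groth.Agent.Lib.Helper4.FlatTw2
import Groth.Agent.Lib.Helper6.GrothLocalC
import Groth.Agent.Lib.Helper7.StalkFree
import Groth.Agent.Lib.Helper4.RpushZero
import Groth.Agent.Lib.Helper4.AmpleSerre
import Groth.Agent.Lib.Helper4.CurveVB6
import Groth.Agent.Lib.Helper16.RS3
import Groth.Agent.Lib.Helper4.VanClass

set_option autoImplicit false
set_option backward.isDefEq.respectTransparency.types false
set_option linter.unusedSectionVars false
universe u
open CategoryTheory CategoryTheory.Limits AlgebraicGeometry Opposite TopologicalSpace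
noncomputable section

namespace Groth.Agent.Lib.Helper4.FlatTw

open Groth.Agent.Lib.Helper28 Groth.Agent.Lib.Helper28.QCohLoc Groth.Agent.Lib.Helper28.GenLocus
  Groth.Agent.Lib.Helper28.TensorGen Groth.Agent.Lib.Helper28.TwistAmple

variable {X Y : Scheme.{u}} (f : X ⟶ Y)

/-- Serre vanishing over the preimage of an affine open of a locally noetherian base -/
theorem exists_vanishing_restrict [IsLocallyNoetherian Y] [IsProper f] (L : X.Modules)
    (hL : RelAmple.IsRelAmple f L) (F : X.Modules) (hF : Coh.IsCoh F) (W : Y.Opens) (hW : IsAffineOpen W) :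
    ∃ n₀ : ℕ, ∀ n, n₀ ≤ n → ∀ p : ℕ, 0 < p →
      Subsingleton (Coh.HH ((f ⁻¹ᵁ W : X.Opens) : Scheme.{u})
        ((CohB1.tensorMod F (CohB1.tensorPow L n)).restrict (f ⁻¹ᵁ W).ι) p) := by
  haveI : IsNoetherianRing Γ(Y, W) := IsLocallyNoetherian.component_noetherian ⟨W, hW⟩
  have hamp : CohB1.IsAmple (L.restrict (f ⁻¹ᵁ W).ι) := hL.2 ⟨W, hW⟩
  have hM : Coh.IsCoh (F.restrict (f ⁻¹ᵁ W).ι) := Groth.Agent.Lib.Helper6.K0LocC.isCoh_restrict _ F hF
  obtain ⟨n₀, h⟩ := Groth.Agent.Lib.Helper4.AmpleSerre.vanishing_of_isAmple Γ(Y, W) _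
    ((f ∣_ W) ≫ hW.isoSpec.hom) _ hamp _ hM
  refine ⟨n₀, fun n hn p hp => ?_⟩
  obtain ⟨ψ⟩ := Groth.Agent.Lib.Helper4.TwistRestrict.nonempty_restrict_twist_iso F L (f ⁻¹ᵁ W) hamp.1 n
  exact Groth.Agent.Lib.Helper4.VanClass.subsingleton_HH_of_iso ψ.symm p (h n hn p hp)
/-- a twist of a module flat over the base is flat over the base -/
theorem isFlatOver_of_isTwist {F L P : X.Modules} {d : ℕ} {Θ : ∀ W : X.Opens, Γ(L, W) → Γ(F, W) → Γ(P, W)}
    (h : IsTwist F L d P Θ) (hL : PicF.IsInvertible L) [F.IsQuasicoherent]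
    (hfl : FlatMod.IsFlatOver f F) : FlatMod.IsFlatOver f P := by
  haveI : P.IsQuasicoherent := h.isQuasicoherent hL
  intro x
  obtain ⟨V, hV, hxV⟩ : ∃ V : Y.Opens, IsAffineOpen V ∧ f x ∈ V := by
    obtain ⟨_, ⟨V, hV, rfl⟩, hyV, -⟩ :=
      Y.isBasis_affineOpens.exists_subset_of_mem_open (Set.mem_univ (f x)) isOpen_univ
    exact ⟨V, hV, hyV⟩
  obtain ⟨U₀, g₀, hxU₀, hg₀⟩ := exists_isGen L hL x
  obtain ⟨U, hU, hxU, hUle⟩ : ∃ U : X.Opens, IsAffineOpen U ∧ x ∈ U ∧ U ≤ U₀ ⊓ f ⁻¹ᵁ V := by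
    obtain ⟨_, ⟨U, hU, rfl⟩, hxU, hle⟩ :=
      X.isBasis_affineOpens.exists_subset_of_mem_open (show x ∈ ((U₀ ⊓ f ⁻¹ᵁ V : X.Opens) : Set X) from ⟨hxU₀, hxV⟩)
        (U₀ ⊓ f ⁻¹ᵁ V).isOpen
    exact ⟨U, hU, hxU, hle⟩
  have hUV : U ≤ f ⁻¹ᵁ V := hUle.trans inf_le_right
  have hg : IsGen L U (res L (hUle.trans inf_le_left) g₀) := hg₀.res _
  refine (Groth.Agent.Lib.Helper17.FlatDict.flat_sections_iff f P hU hV hUV).1 ?_ x hxU
  have h1 := (Groth.Agent.Lib.Helper17.FlatDict.flat_sections_iff f F hU hV hUV).2 (fun y _ => hfl y)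
  letI m1 : Module Γ(Y, V) Γ(F, U) := Module.compHom Γ(F, U) (f.appLE V U hUV).hom
  letI m2 : Module Γ(Y, V) Γ(P, U) := Module.compHom Γ(P, U) (f.appLE V U hUV).hom
  let e : Γ(F, U) →ₗ[Γ(Y, V)] Γ(P, U) :=
    { toFun := Θ U (res L (hUle.trans inf_le_left) g₀)
      map_add' := fun a b => h.add _ _ a b
      map_smul' := fun a z => h.smul _ _ _ z }
  exact Module.Flat.of_linearEquiv (LinearEquiv.ofBijective e (h.bij U _ hg)).symm


/-- relative Serre vanishing over a noetherian base -/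
theorem exists_isZero_Rpush [IsNoetherian Y] [IsProper f] [HasInjectiveResolutions X.Modules] (L : X.Modules)
    (hL : RelAmple.IsRelAmple f L) (hLinv : PicF.IsInvertible L) (F : X.Modules) (hF : Coh.IsCoh F) :
    ∃ n₀ : ℕ, ∀ n, n₀ ≤ n → ∀ p : ℕ, 0 < p →
      IsZero ((Coh.Rpush f p).obj (CohB1.tensorMod F (CohB1.tensorPow L n))) := by
  classical
  haveI : F.IsQuasicoherent := hF.1
  have h1 : ∀ y : Y, ∃ W : Y.Opens, IsAffineOpen W ∧ y ∈ W := fun y => by
    obtain ⟨_, ⟨V, hV, rfl⟩, hyV, -⟩ :=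
      Y.isBasis_affineOpens.exists_subset_of_mem_open (Set.mem_univ y) isOpen_univ
    exact ⟨V, hV, hyV⟩
  choose W hW hyW using h1
  have h2 := fun y => exists_vanishing_restrict f L hL F hF (W y) (hW y)
  choose N hN using h2
  obtain ⟨t, ht⟩ := CompactSpace.elim_nhds_subcover (fun y => (W y : Set Y))
    (fun y => (W y).isOpen.mem_nhds (hyW y))
  refine ⟨t.sup N, fun n hn p hp => ?_⟩
  haveI : (CohB1.tensorMod F (CohB1.tensorPow L n)).IsQuasicoherent := (hT (L := L) F n).isQuasicoherent hLinv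
  refine Groth.Agent.Lib.Helper4.RpushZero.isZero_Rpush_of_cover f _ p (fun y => ?_)
  have hy : y ∈ ⋃ x ∈ t, (W x : Set Y) := by rw [ht]; trivial
  simp only [Set.mem_iUnion] at hy
  obtain ⟨z, hz, hyz⟩ := hy
  exact ⟨W z, hW z, hyz, hN z n ((Finset.le_sup hz).trans hn) p hp⟩

/-- **(⇒)**: for `F` coherent and flat over a noetherian base, the direct images of the large twists by a relatively
ample module are finite locally free. -/
theorem exists_isFinLocFree_push_twists [IsNoetherian Y] [IsProper f] (L : X.Modules)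
    (hL : RelAmple.IsRelAmple f L) (hLinv : PicF.IsInvertible L) (F : X.Modules) (hF : Coh.IsCoh F)
    (hfl : FlatMod.IsFlatOver f F) :
    ∃ n₀ : ℕ, ∀ n, n₀ ≤ n →
      FlatMod.IsFinLocFree ((Coh.push f).obj (CohB1.tensorMod F (CohB1.tensorPow L n))) := by
  haveI : HasInjectiveResolutions X.Modules := inferInstance
  haveI : F.IsQuasicoherent := hF.1
  haveI : SheafOfModules.IsFiniteType.{u} (R := X.ringCatSheaf) F := hF.2
  obtain ⟨n₀, h⟩ := exists_isZero_Rpush f L hL hLinv F hF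
  refine ⟨n₀, fun n hn => ?_⟩
  have hG : Coh.IsCoh (CohB1.tensorMod F (CohB1.tensorPow L n)) :=
    ⟨(hT (L := L) F n).isQuasicoherent hLinv, (hT (L := L) F n).isFiniteType hLinv⟩
  have hflG : FlatMod.IsFlatOver f (CohB1.tensorMod F (CohB1.tensorPow L n)) :=
    isFlatOver_of_isTwist f (hT (L := L) F n) hLinv hfl
  have hR0 : FlatMod.IsFinLocFree ((Coh.Rpush f 0).obj (CohB1.tensorMod F (CohB1.tensorPow L n))) := by
    intro y
    have h0 : ∀ i : ℕ, 0 < i → Subsingleton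
        (((Coh.Rpush f i).obj (CohB1.tensorMod F (CohB1.tensorPow L n))).presheaf.stalk y) :=
      fun i hi => Groth.Agent.Lib.Helper4.CurveVB.subsingleton_stalk_of_isZero (h n hn i hi) y
    have h1 := Groth.Agent.Lib.Helper6.GrothLocal.subsingleton_fibre_of_stalks f _ hG hflG y 0 h0
    obtain ⟨hfree, -⟩ := Groth.Agent.Lib.Helper6.GrothLocal.free_stalk_Rpush_of_adjacent f _ hG hflG y 0
      (h1 1 one_pos) (fun r hr => absurd hr (by omega))
    haveI := hfree
    obtain ⟨U, hyU, ⟨e⟩⟩ := Groth.Agent.Lib.Helper7.StalkFree.exists_iso_freeMod_of_free_stalk Y _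
      (Groth.Agent.Lib.Helper4.RpushCoh.isCoh_Rpush f _ hG 0) y
    exact ⟨U, _, hyU, ⟨e⟩⟩
  exact Groth.Agent.Lib.Helper16.RS.isFinLocFree_of_iso
    ((Functor.rightDerivedZeroIsoSelf (Scheme.Modules.pushforward f)).app _) hR0

end Groth.Agent.Lib.Helper4.FlatTw
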