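import Groth.Agent.Lib.Helper4.FC4
import Groth.Agent.Lib.Helper4.FlatTw3
import Groth.Agent.Lib.Helper25.UnitDense
import Groth.Agent.Lib.Helper16.RS6
import Groth.Agent.Lib.Helper8.EulerK
import Groth.Agent.Lib.Helper6.K0Op
import Groth.Agent.Lib.Helper28.PullbackInv2
import Mathlib

set_option backward.isDefEq.respectTransparency.types false
set_option autoImplicit false
set_option linter.unusedSectionVars false
set_option linter.style.haveILetI false
universe u
open CategoryTheory CategoryTheory.Limits AlgebraicGeometry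

namespace Groth.Agent.Lib.Helper4.FC6

open Groth.Agent.Lib.Helper28 Groth.Agent.Lib.Helper28.QCohLoc Groth.Agent.Lib.Helper28.GenLocus
  Groth.Agent.Lib.Helper28.TensorGen Groth.Agent.Lib.Helper28.TwistAmple
  Groth.Agent.Lib.Helper4.FlatTw Groth.Agent.Lib.Helper4.FC4

section Flat

variable {X S : Scheme.{u}}

/-- an invertible module is a twist of the structure module -/
theorem isTwist_of_isInvertible (M : X.Modules) :
    IsTwist (Coh.structureModule X) M 1 M (fun W g x => (AmpleLocal.fnOf x • g : Γ(M, W))) where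
  bij W g hg := by
    have := hg W le_rfl
    simp only [res_self] at this
    exact this
  add W g x y := add_smul (AmpleLocal.fnOf x) (AmpleLocal.fnOf y) g
  smul W g a x := by
    show ((a * AmpleLocal.fnOf x) • g : Γ(M, W)) = _
    rw [mul_smul]
  res W W' h g x := by
    show res M h (AmpleLocal.fnOf x • g : Γ(M, W)) = _
    rw [res_smul]
    rfl
  hom W c g x := by
    show (AmpleLocal.fnOf x • (c • g : Γ(M, W)) : Γ(M, W)) = _
    rw [pow_one, smul_comm]

/-- **an invertible module on a scheme flat over `S` is flat over `S`** -/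
theorem isFlatOver_of_isInvertible (f : X ⟶ S) [Flat f] (M : X.Modules) (hM : PicF.IsInvertible M) :
    FlatMod.IsFlatOver f M := by
  haveI : (Coh.structureModule X).IsQuasicoherent :=
    (Groth.Agent.Lib.Helper6.DevRed.isCoh_structureModule (X := X)).1
  exact isFlatOver_of_isTwist f (isTwist_of_isInvertible M) hM
    (Groth.Agent.Lib.Helper25.UnitDense.isFlatOver_structureModule f)

end Flat

section AlgEquiv

variable (k : Type u) [Field k] (X : Scheme.{u}) [X.Over (Spec (CommRingCat.of k))]

/-- **a module algebraically equivalent to zero on a proper scheme has the Euler characteristic of the structure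
sheaf** -/
theorem euler_eq_of_isAlgEquivZero [IsProper (X ↘ Spec (CommRingCat.of k))] (N : X.Modules)
    (h : Pic13.IsAlgEquivZero k X N) : Curv2.euler k X N = Curv2.euler k X (Coh.structureModule X) := by
  obtain ⟨T, q, hconn, hlft, hqc, M, hM, t, t₀, ht, ht₀, ⟨e⟩, ⟨e₀⟩⟩ := h
  haveI := hconn
  haveI := hlft
  haveI := hqc
  haveI : Flat (X ↘ Spec (CommRingCat.of k)) := inferInstance
  rw [← Groth.Agent.Lib.Helper8.EulerK.euler_congr k e, ← Groth.Agent.Lib.Helper8.EulerK.euler_congr k e₀]
  exact euler_fibreMod_eq k X q t ht M (Groth.Agent.Lib.Helper6.K0Op.isCoh_of_isInvertible M hM)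
    (isFlatOver_of_isInvertible _ M hM) t₀ ht₀

variable {X} {Z : Scheme.{u}} [Z.Over (Spec (CommRingCat.of k))] (j : Z ⟶ X)
  (hj : j ≫ (X ↘ Spec (CommRingCat.of k)) = Z ↘ Spec (CommRingCat.of k))

/-- the morphism `Z ×_k T ⟶ X ×_k T` -/
noncomputable def prodMap {T : Scheme.{u}} (q : T ⟶ Spec (CommRingCat.of k)) : Pic13.prodK k Z q ⟶ Pic13.prodK k X q :=
  pullback.map _ _ _ _ j (𝟙 T) (𝟙 _) (by rw [Category.comp_id, hj]) (by simp)

theorem sliceAt_prodMap {T : Scheme.{u}} (q : T ⟶ Spec (CommRingCat.of k)) (t : Spec (CommRingCat.of k) ⟶ T)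
    (ht : t ≫ q = 𝟙 _) : Pic13.sliceAt k Z q t ht ≫ prodMap k j hj q = j ≫ Pic13.sliceAt k X q t ht := by
  apply pullback.hom_ext
  · unfold prodMap
    rw [Category.assoc, pullback.lift_fst, ← Category.assoc, sliceAt_fst, Category.id_comp, Category.assoc, sliceAt_fst,
      Category.comp_id]
  · unfold prodMap
    rw [Category.assoc, pullback.lift_snd, Category.comp_id, sliceAt_snd, Category.assoc, sliceAt_snd, ← Category.assoc, hj]

/-- the fibre modules of the pulled back family -/
noncomputable def fibreModProdMapIso {T : Scheme.{u}} (q : T ⟶ Spec (CommRingCat.of k)) (t : Spec (CommRingCat.of k) ⟶ T)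
    (ht : t ≫ q = 𝟙 _) (M : (Pic13.prodK k X q).Modules) :
    Pic13.fibreMod k Z q t ht ((Scheme.Modules.pullback (prodMap k j hj q)).obj M) ≅
      (Scheme.Modules.pullback j).obj (Pic13.fibreMod k X q t ht M) :=
  (Scheme.Modules.pullbackComp (Pic13.sliceAt k Z q t ht) (prodMap k j hj q)).app M ≪≫
    (Scheme.Modules.pullbackCongr (sliceAt_prodMap k j hj q t ht)).app M ≪≫
    ((Scheme.Modules.pullbackComp j (Pic13.sliceAt k X q t ht)).app M).symm

include hj in
/-- **algebraic equivalence to zero is preserved by inverse images** -/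
theorem isAlgEquivZero_pullback (N : X.Modules) (h : Pic13.IsAlgEquivZero k X N) :
    Pic13.IsAlgEquivZero k Z ((Scheme.Modules.pullback j).obj N) := by
  obtain ⟨T, q, hconn, hlft, hqc, M, hM, t, t₀, ht, ht₀, ⟨e⟩, ⟨e₀⟩⟩ := h
  refine ⟨T, q, hconn, hlft, hqc, (Scheme.Modules.pullback (prodMap k j hj q)).obj M,
    PullbackInv.isInvertible_pullback _ hM, t, t₀, ht, ht₀, ⟨?_⟩, ⟨?_⟩⟩
  · exact fibreModProdMapIso k j hj q t ht M ≪≫ (Scheme.Modules.pullback j).mapIso e
  · exact fibreModProdMapIso k j hj q t₀ ht₀ M ≪≫ (Scheme.Modules.pullback j).mapIso e₀ ≪≫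
      Groth.Agent.Lib.Helper16.RS.pullbackUnitIso j

end AlgEquiv

end Groth.Agent.Lib.Helper4.FC6
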