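import Groth.Agent.Lib.Helper4.KLM5
import Groth.Agent.Lib.Helper2.NefFib
import Groth.Agent.Lib.Helper8.InvInverse
set_option backward.isDefEq.respectTransparency.types false
set_option autoImplicit false
set_option linter.style.haveILetI false
set_option linter.unusedSectionVars false

universe u
open CategoryTheory CategoryTheory.Limits AlgebraicGeometry Opposite TopologicalSpace

namespace Groth.Agent.Lib.Helper4.KLM6
open Groth.Agent.Lib.Helper6.K0Filt Groth.Agent.Lib.Helper6.K0Len Groth.Agent.Lib.Helper6.K0Op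
  Groth.Agent.Lib.Helper6.K0Tensor Groth.Agent.Lib.Helper4.Snapper Groth.Agent.Lib.Helper4.KLM1
  Groth.Agent.Lib.Helper4.KLM2 Groth.Agent.Lib.Helper4.KLM4 Groth.Agent.Lib.Helper4.KLM5
  Groth.Agent.Lib.Helper28

variable (k : Type u) [Field k] {X : Scheme.{u}} [X.Over (Spec (CommRingCat.of k))]
    [IsProper (X ↘ (Spec (CommRingCat.of k)))]

/-- the degree of `L` on a closed subscheme, in terms of Euler characteristics on `X` -/
theorem euler_sub_eq_ev {L : X.Modules} (hL : PicF.IsInvertible L) (F : X.Modules) (hF : Coh.IsCoh F) :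
    Curv2.euler k X (CohB1.tensorMod F L) - Curv2.euler k X F = ev k (cls F) (Top L - 1) := by
  rw [← Groth.Agent.Lib.Helper4.SN1.hcoef_one k L hL F hF]
  show eulerHom k X (((Top L - 1) ^ 1 : AddMonoid.End (K0 X)) (cls F)) = _
  rw [pow_one]
  rfl

/-- **nefness in terms of ideal sheaves implies nefness in terms of closed immersions** -/
theorem nef_of_forall_ideal {L : X.Modules} (hL : PicF.IsInvertible L)
    (h : ∀ C : X.IdealSheafData, IsIntegral C.subscheme → topologicalKrullDim (C.support : Set X) = 1 →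
      0 ≤ Curv2.euler k X (CohB1.tensorMod (ClSub.quotMod C) L) - Curv2.euler k X (ClSub.quotMod C)) :
    Nef k X L := by
  intro Y i _ hY hdim
  haveI := hY
  set C : X.IdealSheafData := i.ker with hC
  set e : Y ⟶ C.subscheme := i.toImage with he'
  haveI : IsIso e := inferInstance
  have he : e ≫ C.subschemeι = i := i.toImage_imageι
  have hCint : IsIntegral C.subscheme := by
    haveI : Nonempty C.subscheme := ⟨e (Nonempty.some inferInstance)⟩
    exact isIntegral_of_isOpenImmersion (inv e)
  have hCdim' : topologicalKrullDim C.subscheme = 1 := by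
    rw [← hdim]
    exact (IsHomeomorph.topologicalKrullDim_eq _ e.homeomorph.isHomeomorph).symm
  have hCdim : topologicalKrullDim (C.support : Set X) = 1 := by
    rw [← hCdim', ← C.range_subschemeι]
    exact (C.subschemeι.isClosedEmbedding.isEmbedding.toHomeomorph.isHomeomorph.topologicalKrullDim_eq).symm
  have h1 := h C hCint hCdim
  letI iC : C.subscheme.Over (Spec (CommRingCat.of k)) := ⟨C.subschemeι ≫ (X ↘ (Spec (CommRingCat.of k)))⟩
  haveI : IsProper (C.subscheme ↘ (Spec (CommRingCat.of k))) :=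
    inferInstanceAs (IsProper (C.subschemeι ≫ (X ↘ (Spec (CommRingCat.of k)))))
  letI iY : Y.Over (Spec (CommRingCat.of k)) := ⟨i ≫ (X ↘ (Spec (CommRingCat.of k)))⟩
  haveI : IsProper (Y ↘ (Spec (CommRingCat.of k))) :=
    inferInstanceAs (IsProper (i ≫ (X ↘ (Spec (CommRingCat.of k)))))
  have hLC := PullbackInv.isInvertible_pullback C.subschemeι hL
  have hLY := PullbackInv.isInvertible_pullback i hL
  -- the number on `X` is the degree on `C.subscheme`
  rw [euler_sub_eq_ev k hL _ (Groth.Agent.Lib.Helper6.DevRed.isCoh_quotMod C)] at h1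
  have h2 := ev_pow_mul_pow_quotMod_eq k C hL hL 1 0
  rw [pow_one, pow_zero, mul_one, pow_one, pow_zero, mul_one] at h2
  rw [h2, ← euler_sub_eq_ev k hLC _ Groth.Agent.Lib.Helper6.DevRed.isCoh_structureModule] at h1
  obtain ⟨ν⟩ := InvQC.nonempty_unit_tensor_iso ((Scheme.Modules.pullback C.subschemeι).obj L)
  rw [Groth.Agent.Lib.Helper8.EulerK.euler_congr k ν] at h1
  -- transport to `Y`
  have heK : e ≫ (C.subscheme ↘ Spec (CommRingCat.of k)) = Y ↘ Spec (CommRingCat.of k) := by
    show e ≫ (C.subschemeι ≫ (X ↘ Spec (CommRingCat.of k))) = i ≫ (X ↘ Spec (CommRingCat.of k))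
    rw [← Category.assoc, he]
  have iso : (Scheme.Modules.pullback e).obj ((Scheme.Modules.pullback C.subschemeι).obj L) ≅
      (Scheme.Modules.pullback i).obj L :=
    (Scheme.Modules.pullbackComp e C.subschemeι).app L ≪≫ (Scheme.Modules.pullbackCongr he).app L
  have hq : ((Scheme.Modules.pullback e).obj ((Scheme.Modules.pullback C.subschemeι).obj L)).IsQuasicoherent :=
    InvQC.isQuasicoherent_of_isInvertible _ (PullbackInv.isInvertible_pullback e hLC)
  have h3 := Groth.Agent.Lib.Helper2.NefFib.deg_pullback_iso e k heK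
    ((Scheme.Modules.pullback C.subschemeι).obj L) hq 1
  show 0 ≤ Pic13.curveDeg k (Y ↘ Spec (CommRingCat.of k)) ((Scheme.Modules.pullback i).obj L)
  rw [Groth.Agent.Lib.Helper2.NumPull.curveDeg_eq k (Y ↘ Spec (CommRingCat.of k)) hdim.le _
    (isCoh_of_isInvertible _ hLY).1]
  have h4 : Curv2.deg k Y ((Scheme.Modules.pullback i).obj L) 1 =
      Curv2.deg k Y ((Scheme.Modules.pullback e).obj ((Scheme.Modules.pullback C.subschemeι).obj L)) 1 := by
    unfold Curv2.deg
    rw [Groth.Agent.Lib.Helper8.EulerK.euler_congr k iso]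
  show 0 ≤ Curv2.deg k Y ((Scheme.Modules.pullback i).obj L) 1
  rw [h4, h3]
  unfold Curv2.deg
  simpa using h1

/-- **ampleness is a numerical property** (the statement of S11371) -/
theorem main (k : Type u) [Field k] [IsAlgClosed k] (X : Scheme.{u})
    [X.Over (Spec (CommRingCat.of k))] [IsProper (X ↘ (Spec (CommRingCat.of k)))]
    (L L' : X.Modules) (hL : PicF.IsInvertible L) (hL' : PicF.IsInvertible L')
    (hnum : ∀ C : X.IdealSheafData, IsIntegral C.subscheme →
      topologicalKrullDim (C.support : Set X) = 1 →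
        Curv2.euler k X (CohB1.tensorMod (ClSub.quotMod C) L) =
          Curv2.euler k X (CohB1.tensorMod (ClSub.quotMod C) L'))
    (hamp : CohB1.IsAmple L) : CohB1.IsAmple L' := by
  haveI : IsNoetherian X := isNoetherian_of_proper k
  obtain ⟨M, hM, ⟨e⟩⟩ := Groth.Agent.Lib.Helper8.InvInverse.exists_isInverseOf hL
  set N := CohB1.tensorMod L' M with hN
  have hNi : PicF.IsInvertible N := GenLocus.isInvertible_tensorMod hL' hM
  have hML : (Top M - 1 : AddMonoid.End (K0 X)) + (Top L - 1) + (Top M - 1) * (Top L - 1) = 0 := by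
    rw [← top_tensorMod_sub_one hM hL,
      Top_congr e (GenLocus.isInvertible_tensorMod hM hL) (AmpleUnit.isInvertible_structureModule X),
      Top_structureModule, sub_self]
  have hNnef : Nef k X N := by
    apply nef_of_forall_ideal k hNi
    intro C hC hd
    have hcQ := Groth.Agent.Lib.Helper6.DevRed.isCoh_quotMod C
    have hc : cls (ClSub.quotMod C) ∈ Hlt X 2 := by
      apply cls_mem_Hlt _ hcQ 1
      rw [Groth.Agent.Lib.Helper6.DevRed.support_quotMod, hd]
      rfl
    have h1 := hnum C hC hd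
    have h2 : ev k (cls (ClSub.quotMod C)) (Top L - 1) = ev k (cls (ClSub.quotMod C)) (Top L' - 1) := by
      rw [← euler_sub_eq_ev k hL _ hcQ, ← euler_sub_eq_ev k hL' _ hcQ, h1]
    have h3 : ev k (cls (ClSub.quotMod C)) ((Top L' - 1) * (Top M - 1)) = 0 := by
      rw [ev_apply, ((Low.top_sub_one hL').mul (Low.top_sub_one hM)).apply_eq_zero _ hc, map_zero]
    have h4 : ev k (cls (ClSub.quotMod C)) ((Top M - 1) * (Top L - 1)) = 0 := by
      rw [ev_apply, ((Low.top_sub_one hM).mul (Low.top_sub_one hL)).apply_eq_zero _ hc, map_zero]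
    have h5 := congrArg (ev k (cls (ClSub.quotMod C))) hML
    rw [map_add, map_add, h4, map_zero, add_zero] at h5
    rw [euler_sub_eq_ev k hNi _ hcQ, top_tensorMod_sub_one hL' hM, map_add, map_add, h3, add_zero]
    linarith
  have h := isAmple_nef_tensor_ample k hNi hNnef hamp 1 1 one_pos
  obtain ⟨ν₁⟩ := InvQC.nonempty_unit_tensor_iso N
  obtain ⟨ν₂⟩ := InvQC.nonempty_unit_tensor_iso L
  obtain ⟨ν₃⟩ := AmpleUnit.nonempty_tensor_unit_iso L'
  have ν₁' : CohB1.tensorPow N 1 ≅ N := ν₁
  have ν₂' : CohB1.tensorPow L 1 ≅ L := ν₂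
  have a : CohB1.tensorMod (CohB1.tensorMod L' M) L ≅ CohB1.tensorMod L' (CohB1.tensorMod M L) :=
    Groth.Agent.Lib.Helper16.TA.assocIso L' M L
  exact AmpleIso.isAmple_of_iso
    (PicGrp.tensorModIso ν₁' ν₂' ≪≫ a ≪≫ PicGrp.tensorModIso (Iso.refl L') e ≪≫ ν₃) h

end Groth.Agent.Lib.Helper4.KLM6
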