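import Groth.Agent.Lib.Helper4.FC6
import Groth.Agent.Lib.Helper4.KLM6
import Mathlib

set_option backward.isDefEq.respectTransparency.types false
set_option autoImplicit false
set_option linter.unusedSectionVars false
set_option linter.style.haveILetI false
universe u
open CategoryTheory CategoryTheory.Limits AlgebraicGeometry Opposite TopologicalSpace

namespace Groth.Agent.Lib.Helper4.FC7

open Groth.Agent.Lib.Helper6.K0Filt Groth.Agent.Lib.Helper6.K0Len Groth.Agent.Lib.Helper6.K0Op
  Groth.Agent.Lib.Helper6.K0Tensor Groth.Agent.Lib.Helper4.Snapper Groth.Agent.Lib.Helper4.KLM1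
  Groth.Agent.Lib.Helper4.KLM2 Groth.Agent.Lib.Helper4.KLM4 Groth.Agent.Lib.Helper4.KLM5
  Groth.Agent.Lib.Helper4.KLM6 Groth.Agent.Lib.Helper28 Groth.Agent.Lib.Helper4.FC6

variable (k : Type u) [Field k] {X : Scheme.{u}} [X.Over (Spec (CommRingCat.of k))]
    [IsProper (X ↘ (Spec (CommRingCat.of k)))]

/-- the case of the structure sheaf of a closed subscheme -/
theorem ev_quotMod_eq_zero {N : X.Modules} (hN : PicF.IsInvertible N) (h : Pic13.IsAlgEquivZero k X N)
    (I : X.IdealSheafData) : ev k (cls (ClSub.quotMod I)) (Top N - 1) = 0 := by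
  letI iC : I.subscheme.Over (Spec (CommRingCat.of k)) := ⟨I.subschemeι ≫ (X ↘ (Spec (CommRingCat.of k)))⟩
  haveI : IsProper (I.subscheme ↘ (Spec (CommRingCat.of k))) :=
    inferInstanceAs (IsProper (I.subschemeι ≫ (X ↘ (Spec (CommRingCat.of k)))))
  have hNC := PullbackInv.isInvertible_pullback I.subschemeι hN
  have h2 := ev_pow_mul_pow_quotMod_eq k I hN hN 1 0
  rw [pow_one, pow_zero, mul_one, pow_one, pow_zero, mul_one] at h2
  rw [h2, ← euler_sub_eq_ev k hNC _ Groth.Agent.Lib.Helper6.DevRed.isCoh_structureModule]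
  obtain ⟨ν⟩ := InvQC.nonempty_unit_tensor_iso ((Scheme.Modules.pullback I.subschemeι).obj N)
  rw [Groth.Agent.Lib.Helper8.EulerK.euler_congr k ν,
    euler_eq_of_isAlgEquivZero k I.subscheme _ (isAlgEquivZero_pullback k I.subschemeι rfl N h), sub_self]

/-- **tensoring with a module algebraically equivalent to zero does not change Euler characteristics** -/
theorem ev_eq_zero {N : X.Modules} (hN : PicF.IsInvertible N) (h : Pic13.IsAlgEquivZero k X N)
    (F : X.Modules) (hF : Coh.IsCoh F) : ev k (cls F) (Top N - 1) = 0 := by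
  haveI : IsNoetherian X := isNoetherian_of_proper k
  have key := additive_devissage (X := X) (fun G => ev k (cls G) (Top N - 1))
    (fun S hS h1 h2 h3 => by
      show ev k (cls S.X₂) (Top N - 1) = ev k (cls S.X₁) (Top N - 1) + ev k (cls S.X₃) (Top N - 1)
      rw [Groth.Agent.Lib.Helper6.K0Loc.cls_add hS h1 h2 h3, ev_apply, ev_apply, ev_apply, map_add, map_add])
    (⊥ : AddSubgroup ℤ) Set.univ isClosed_univ
    (fun y _ _ => by
      rw [AddSubgroup.mem_bot]
      exact ev_quotMod_eq_zero k hN h _)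
    F hF (Set.subset_univ _)
  rwa [AddSubgroup.mem_bot] at key

theorem euler_tensor_eq {N : X.Modules} (hN : PicF.IsInvertible N) (h : Pic13.IsAlgEquivZero k X N)
    (F : X.Modules) (hF : Coh.IsCoh F) :
    Curv2.euler k X (CohB1.tensorMod F N) = Curv2.euler k X F := by
  have := ev_eq_zero k hN h F hF
  rw [← euler_sub_eq_ev k hN F hF] at this
  linarith

end Groth.Agent.Lib.Helper4.FC7
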