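import Groth.Agent.Lib.Helper4.Snapper11
import Groth.Agent.Lib.Helper28.PullbackAmple
set_option backward.isDefEq.respectTransparency.types false
set_option autoImplicit false
set_option linter.style.haveILetI false

universe u
open CategoryTheory CategoryTheory.Limits AlgebraicGeometry Opposite TopologicalSpace

namespace Groth.Agent.Lib.Helper4.Snapper
open Groth.Agent.Lib.Helper6.K0Filt Groth.Agent.Lib.Helper6.K0Len Groth.Agent.Lib.Helper6.K0Op
  Groth.Agent.Lib.Helper6.K0Tensor Groth.Agent.Lib.Helper4.NumPoly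

section
variable (k : Type u) [Field k] {X : Scheme.{u}} [X.Over (Spec (CommRingCat.of k))]
    [IsProper (X ↘ (Spec (CommRingCat.of k)))]

/-- the intersection number of the class of a coherent module, in terms of Euler characteristics -/
theorem inter_cls (F : X.Modules) (hF : Coh.IsCoh F) (d : ℕ) (L : _root_.Fin d → X.Modules)
    (hL : ∀ i, PicF.IsInvertible (L i)) :
    inter k X d L (cls F) = pair (fun n => Curv2.euler k X (Curv2.tensorPows F d L n)) (Y fun _ => 1) := by
  have h : (fun n => Curv2.euler k X (Curv2.tensorPows F d L n)) =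
      fun n => eulerHom k X (W d L n (cls F)) := by
    funext n
    rw [← cls_tensorPows F hF d L hL n, eulerHom_cls k X _ (isCoh_tensorPows F hF d L hL n)]
  rw [h, pair_comp (eulerHom k X)]
  rfl

/-- the Hilbert coefficients of `O_X / I` on `X` and of the structure sheaf on the closed subscheme agree -/
theorem hcoef_quotMod_eq (I : X.IdealSheafData) (L : X.Modules) (hL : PicF.IsInvertible L) (d : ℕ) :
    letI : I.subscheme.Over (Spec (CommRingCat.of k)) := ⟨I.subschemeι ≫ (X ↘ (Spec (CommRingCat.of k)))⟩
    haveI : IsProper (I.subscheme ↘ (Spec (CommRingCat.of k))) :=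
      inferInstanceAs (IsProper (I.subschemeι ≫ (X ↘ (Spec (CommRingCat.of k)))))
    hcoef k X L d (cls (ClSub.quotMod I)) =
      hcoef k I.subscheme ((Scheme.Modules.pullback I.subschemeι).obj L) d
        (cls (Coh.structureModule I.subscheme)) := by
  letI : I.subscheme.Over (Spec (CommRingCat.of k)) := ⟨I.subschemeι ≫ (X ↘ (Spec (CommRingCat.of k)))⟩
  haveI : IsProper (I.subscheme ↘ (Spec (CommRingCat.of k))) :=
    inferInstanceAs (IsProper (I.subschemeι ≫ (X ↘ (Spec (CommRingCat.of k)))))
  have hL' := Groth.Agent.Lib.Helper28.PullbackInv.isInvertible_pullback I.subschemeι hL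
  rw [← inter_const k d L hL, ← inter_const k d _ hL',
    inter_cls k _ (Groth.Agent.Lib.Helper6.DevRed.isCoh_quotMod I) d _ (fun _ => hL),
    inter_cls k _ Groth.Agent.Lib.Helper6.DevRed.isCoh_structureModule d _ (fun _ => hL')]
  have hfun : (fun n => Curv2.euler k X (Curv2.tensorPows (ClSub.quotMod I) d (fun _ => L) n)) =
      fun n => Curv2.euler k I.subscheme (Curv2.tensorPows (Coh.structureModule I.subscheme) d
        (fun _ => (Scheme.Modules.pullback I.subschemeι).obj L) n) := by
    funext n
    exact (euler_subscheme_tensorPows k I d (fun _ => L) (fun _ => hL) n).symm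
  rw [hfun]

open Classical in
/-- nonnegativity of the `d`-th Hilbert coefficient follows from positivity at the points of dimension `d` -/
theorem hcoef_nonneg_of_pos (L : X.Modules) (hL : PicF.IsInvertible L) (d : ℕ)
    (hpos : ∀ ξ : X, Dn d ξ → 0 < hcoef k X L d (cls (OZ ξ)))
    (F : X.Modules) (hF : Coh.IsCoh F) (hsupp : topologicalKrullDim (CohB1.support F) ≤ (d : WithBot ℕ∞)) :
    0 ≤ hcoef k X L d (cls F) := by
  rw [← inter_const k d L hL, inter_eq_cycle_sum k F hF d hsupp _ (fun _ => hL)]
  apply finsum_nonneg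
  intro ξ
  split_ifs with h
  · rw [inter_const k d L hL]
    exact mul_nonneg (Int.natCast_nonneg _) (hpos ξ h).le
  · exact le_rfl

end

/-- **positivity of the top Hilbert coefficient** of the reduced closure of a point, for an ample module -/
theorem hcoef_pos_point (k : Type u) [Field k] : ∀ (d : ℕ) (X : Scheme.{u}) [X.Over (Spec (CommRingCat.of k))]
    [IsProper (X ↘ (Spec (CommRingCat.of k)))] (L : X.Modules), CohB1.IsAmple L →
    ∀ ξ : X, Dn d ξ → 0 < hcoef k X L d (cls (OZ ξ)) := by
  intro d
  induction d with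
  | zero =>
    intro X _ _ L hL ξ hξ
    haveI : IsNoetherian X := isNoetherian_of_proper k
    have hcoh : Coh.IsCoh (OZ ξ) := isCoh_OZ ξ
    have hmem : cls (OZ ξ) ∈ Hlt X 1 := by
      apply cls_mem_Hlt _ hcoh 0
      rw [support_OZ]
      exact hξ.le
    have hne : ¬ IsZero (OZ ξ) := by
      intro hz
      have := Groth.Agent.Lib.Helper16.K0Supp.support_of_isZero hz
      rw [support_OZ] at this
      exact (Set.singleton_nonempty ξ).closure.ne_empty this
    obtain ⟨n₀, hn₀⟩ := exists_euler_pos k L hL (OZ ξ) hcoh hne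
    have h1 := hn₀ n₀ le_rfl
    rw [← eulerHom_Top_pow_cls k L hL.1 _ hcoh, eulerHom_Top_pow k L hL.1 n₀ _ hmem] at h1
    show 0 < eulerHom k X (((Top L - 1) ^ 0 : AddMonoid.End (K0 X)) (cls (OZ ξ)))
    rw [pow_zero]
    exact h1
  | succ d ih =>
    intro X _ _ L hL ξ hξ
    haveI : IsNoetherian X := isNoetherian_of_proper k
    set I : X.IdealSheafData := Scheme.IdealSheafData.vanishingIdeal ⟨closure {ξ}, isClosed_closure⟩ with hI
    letI : I.subscheme.Over (Spec (CommRingCat.of k)) := ⟨I.subschemeι ≫ (X ↘ (Spec (CommRingCat.of k)))⟩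
    haveI : IsProper (I.subscheme ↘ (Spec (CommRingCat.of k))) :=
      inferInstanceAs (IsProper (I.subschemeι ≫ (X ↘ (Spec (CommRingCat.of k)))))
    haveI : IsIntegral I.subscheme :=
      Groth.Agent.Lib.Helper6.DevRed.isIntegral_subscheme_vanishingIdeal _ isIrreducible_singleton.closure
    haveI : CompactSpace I.subscheme :=
      QuasiCompact.compactSpace_of_compactSpace (I.subscheme ↘ Spec (CommRingCat.of k))
    have hLZ : CohB1.IsAmple ((Scheme.Modules.pullback I.subschemeι).obj L) :=
      Groth.Agent.Lib.Helper28.PullbackInv.isAmple_pullback_of_isEmbedding I.subschemeι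
        I.subschemeι.isClosedEmbedding.isEmbedding L hL
    have hdim : topologicalKrullDim I.subscheme = ((d + 1 : ℕ) : WithBot ℕ∞) := by
      have h1 := I.subschemeι.isClosedEmbedding.isEmbedding.toHomeomorph.isHomeomorph.topologicalKrullDim_eq
      rw [h1, I.range_subschemeι, hI, Scheme.IdealSheafData.coe_support_vanishingIdeal]
      exact hξ
    show 0 < hcoef k X L (d + 1) (cls (ClSub.quotMod I))
    rw [hcoef_quotMod_eq k I L hL.1 (d + 1)]
    refine hcoef_pos_step k _ hLZ d hdim (fun η hη => ih _ _ hLZ η hη) ?_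
    intro G hG hGd
    exact hcoef_nonneg_of_pos k _ hLZ.1 d (fun η hη => ih _ _ hLZ η hη) G hG hGd

end Groth.Agent.Lib.Helper4.Snapper
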