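import Groth.Agent.Lib.Helper4.NM5
import Groth.Agent.Lib.Helper6.DevGen
import Groth.Agent.Lib.lead.FibreDimBound
import Groth.Agent.Lib.Helper4.AmpleComp
import Groth.Agent.Lib.Helper17.AnnIdeal
import Groth.Agent.Lib.Helper28.InvQC
import Groth.Agent.Lib.Helper4.Snapper12
set_option backward.isDefEq.respectTransparency.types false
set_option autoImplicit false
set_option linter.style.haveILetI false
set_option linter.unusedSectionVars false

universe u
open CategoryTheory CategoryTheory.Limits AlgebraicGeometry Opposite TopologicalSpace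

namespace Groth.Agent.Lib.Helper4.NM6
open Groth.Agent.Lib.Helper28 Groth.Agent.Lib.Helper28.GenLocus Groth.Agent.Lib.Helper28.QCohLoc
  Groth.Agent.Lib.Helper4.Snapper Groth.Agent.Lib.Helper6.K0Len Groth.Agent.Lib.Helper4.NM1
  Groth.Agent.Lib.Helper4.NM2 Groth.Agent.Lib.Helper8.EulerK

section top
variable {T : Type*} [TopologicalSpace T]

/-- an irreducible `T₀` space with two distinct points has positive dimension -/
theorem dim_pos_of_ne [T0Space T] [IrreducibleSpace T] (a b : T) (hab : a ≠ b) :
    0 < topologicalKrullDim T := by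
  unfold topologicalKrullDim
  rw [Order.krullDim_pos_iff]
  let top : IrreducibleCloseds T := ⟨Set.univ, IrreducibleSpace.isIrreducible_univ T, isClosed_univ⟩
  let cl : T → IrreducibleCloseds T := fun x =>
    ⟨closure {x}, isIrreducible_singleton.closure, isClosed_closure⟩
  have hle : ∀ x, cl x ≤ top := fun x => by
    show (closure {x} : Set T) ⊆ Set.univ
    exact Set.subset_univ _
  by_cases ha : cl a = top
  · by_cases hb : cl b = top
    · exfalso
      apply hab
      have h1 : closure ({a} : Set T) = closure {b} := by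
        have e1 := congrArg (fun z : IrreducibleCloseds T => (z : Set T)) ha
        have e2 := congrArg (fun z : IrreducibleCloseds T => (z : Set T)) hb
        exact e1.trans e2.symm
      exact (inseparable_iff_closure_eq.2 h1).eq
    · exact ⟨cl b, top, lt_of_le_of_ne (hle b) hb⟩
  · exact ⟨cl a, top, lt_of_le_of_ne (hle a) ha⟩

end top

variable (k : Type u) [Field k] {X : Scheme.{u}} [X.Over (Spec (CommRingCat.of k))]
    [IsProper (X ↘ (Spec (CommRingCat.of k)))]

include k in
/-- a scheme proper over a field has finite dimension -/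
theorem exists_dim_le : ∃ n : ℕ, topologicalKrullDim X ≤ (n : WithBot ℕ∞) := by
  haveI : CompactSpace (Spec (CommRingCat.of k)) := inferInstance
  obtain ⟨n, hn⟩ := Groth.Agent.Lib.lead.FibreDimBound.main (X ↘ Spec (CommRingCat.of k))
  refine ⟨n, ?_⟩
  by_cases hX : IsEmpty X
  · unfold topologicalKrullDim
    rw [Order.krullDim_eq_bot_iff.2]
    · exact bot_le
    · exact ⟨fun z => hX.false z.2.1.nonempty.some⟩
  rw [not_isEmpty_iff] at hX
  obtain ⟨x₀⟩ := hX
  let y₀ := (X ↘ Spec (CommRingCat.of k)) x₀
  have h1 := hn y₀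
  have hpre : (X ↘ Spec (CommRingCat.of k)) ⁻¹' {y₀} = Set.univ := by
    rw [Set.eq_univ_iff_forall]
    intro x
    show (X ↘ Spec (CommRingCat.of k)) x = y₀
    exact Subsingleton.elim _ _
  have h2 := ((X ↘ Spec (CommRingCat.of k)).fiberHomeo y₀).isHomeomorph.topologicalKrullDim_eq
  rw [h2] at h1
  have h3 : topologicalKrullDim ((X ↘ Spec (CommRingCat.of k)) ⁻¹' {y₀}) = topologicalKrullDim X := by
    rw [hpre]
    exact (Homeomorph.Set.univ X).isHomeomorph.topologicalKrullDim_eq
  rw [← h3]
  exact h1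

include k in
/-- the dimension of a nonempty closed subset is a natural number -/
theorem exists_dim_eq (T : Set X) (hT : T.Nonempty) :
    ∃ d : ℕ, topologicalKrullDim T = (d : WithBot ℕ∞) := by
  obtain ⟨n, hn⟩ := exists_dim_le k (X := X)
  have h1 : topologicalKrullDim T ≤ (n : WithBot ℕ∞) := (topologicalKrullDim_subspace_le X T).trans hn
  have h2 : topologicalKrullDim T ≠ ⊥ := by
    unfold topologicalKrullDim
    rw [Ne, Order.krullDim_eq_bot_iff, not_isEmpty_iff]
    obtain ⟨x, hx⟩ := hT
    exact ⟨⟨closure {(⟨x, hx⟩ : T)}, isIrreducible_singleton.closure, isClosed_closure⟩⟩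
  obtain ⟨d, hd⟩ := WithBot.ne_bot_iff_exists.1 h2
  rw [← hd] at h1 ⊢
  have h3 : d ≤ (n : ℕ∞) := by exact_mod_cast h1
  obtain ⟨d', rfl⟩ := ENat.ne_top_iff_exists.1 (ne_top_of_le_ne_top (ENat.natCast_ne_top n) h3)
  exact ⟨d', rfl⟩


open Groth.Agent.Lib.Helper6.DevGen in
/-- **under the positivity condition, no positive power is trivial on a positive-dimensional integral closed
subscheme** -/
theorem not_trivial_of_pos {L : X.Modules} (hL : PicF.IsInvertible L) (hP : Pos k X L)
    {W : Scheme.{u}} (g : W ⟶ X) [IsClosedImmersion g] [IsIntegral W] (a b : W) (hab : a ≠ b)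
    (M : ℕ) (hM : 0 < M) :
    ¬ Nonempty ((Scheme.Modules.pullback g).obj (CohB1.tensorPow L M) ≅ Coh.structureModule W) := by
  rintro ⟨e⟩
  haveI : IsNoetherian X := isNoetherian_of_proper k
  letI : W.Over (Spec (CommRingCat.of k)) := ⟨g ≫ (X ↘ (Spec (CommRingCat.of k)))⟩
  set T' : Closeds X := rangeCl g with hT'
  have hirr : IsIrreducible (T' : Set X) := by
    have : (T' : Set X) = g '' Set.univ := by rw [Set.image_univ]; rfl
    rw [this]
    exact (IrreducibleSpace.isIrreducible_univ W).image g g.continuous.continuousOn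
  haveI : IsIntegral (Scheme.IdealSheafData.vanishingIdeal T').subscheme :=
    Groth.Agent.Lib.Helper6.DevRed.isIntegral_subscheme_vanishingIdeal T' hirr
  obtain ⟨d, hd⟩ := exists_dim_eq k (T' : Set X) hirr.nonempty
  have hsup : ((Scheme.IdealSheafData.vanishingIdeal T').support : Set X) = (T' : Set X) :=
    Scheme.IdealSheafData.coe_support_vanishingIdeal T'
  have hdpos : 0 < d := by
    haveI : IrreducibleSpace (T' : Set X) := Subtype.irreducibleSpace hirr
    have h1 := dim_pos_of_ne (T := (T' : Set X)) ⟨g a, ⟨a, rfl⟩⟩ ⟨g b, ⟨b, rfl⟩⟩ (by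
      intro h
      apply hab
      exact g.isClosedEmbedding.injective (congrArg Subtype.val h))
    rw [hd] at h1
    exact_mod_cast h1
  have hpos := hP (Scheme.IdealSheafData.vanishingIdeal T') d hdpos (by rw [hsup]; exact hd)
  have hcQ := Groth.Agent.Lib.Helper6.DevRed.isCoh_quotMod (Scheme.IdealSheafData.vanishingIdeal T')
  have hsupp : topologicalKrullDim (CohB1.support (ClSub.quotMod (Scheme.IdealSheafData.vanishingIdeal T'))) ≤
      (d : WithBot ℕ∞) := by
    rw [Groth.Agent.Lib.Helper6.DevRed.support_quotMod, hsup]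
    exact hd.le
  -- the Euler characteristics of the twists
  have hOW : Coh.IsCoh (Coh.structureModule W) := Groth.Agent.Lib.Helper6.DevRed.isCoh_structureModule
  have hχ : ∀ j : ℕ, Curv2.euler k X (CohB1.tensorMod (ClSub.quotMod (Scheme.IdealSheafData.vanishingIdeal T'))
      (CohB1.tensorPow L j)) = Curv2.euler k W ((Scheme.Modules.pullback g).obj (CohB1.tensorPow L j)) := by
    intro j
    have hLj := isInvertible_tensorPow hL j
    obtain ⟨ψ⟩ := Groth.Agent.Lib.Helper2.Bridge4.exists_projection_iso g (Coh.structureModule W)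
      (CohB1.tensorPow L j) hLj
    obtain ⟨ν⟩ := InvQC.nonempty_unit_tensor_iso ((Scheme.Modules.pullback g).obj (CohB1.tensorPow L j))
    have hq : (CohB1.tensorMod (Coh.structureModule W)
        ((Scheme.Modules.pullback g).obj (CohB1.tensorPow L j))).IsQuasicoherent :=
      (Groth.Agent.Lib.Helper6.K0Op.isCoh_tensorMod _ _ hOW
        (Groth.Agent.Lib.Helper6.K0Op.isCoh_of_isInvertible _
          (PullbackInv.isInvertible_pullback g hLj))).1
    rw [euler_congr k (PicGrp.tensorModIso (pushIso g) (Iso.refl (CohB1.tensorPow L j))),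
      euler_congr k ψ, ← euler_push k g _ hq]
    exact euler_congr k ν
  -- triviality of the multiples
  have htriv : ∀ t : ℕ, Curv2.euler k W ((Scheme.Modules.pullback g).obj (CohB1.tensorPow L (M * t))) =
      Curv2.euler k W (Coh.structureModule W) := by
    intro t
    have hLM := isInvertible_tensorPow hL M
    obtain ⟨ψ₁, -⟩ := exists_tensorPow_tensorPow_iso hL M t (M * t) rfl
    obtain ⟨ψ₂, -⟩ := PullbackInv.exists_pullback_tensorPow_iso g hLM t
    obtain ⟨ψ₃⟩ := AmpleUnit.nonempty_tensorPow_unit_iso W t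
    exact euler_congr k ((Scheme.Modules.pullback g).mapIso ψ₁.symm ≪≫ ψ₂ ≪≫
      AmpleIso.tensorPowIso e t ≪≫ ψ₃)
  obtain ⟨d', rfl⟩ : ∃ d', d = d' + 1 := ⟨d - 1, by omega⟩
  obtain ⟨j₀, hj₀⟩ := growth d' (fun i => hcoef k X L i
    (cls (ClSub.quotMod (Scheme.IdealSheafData.vanishingIdeal T')))) hpos
    (Curv2.euler k W (Coh.structureModule W) + 1)
  have h1 := hj₀ (M * j₀) (Nat.le_mul_of_pos_left _ hM)
  rw [← euler_twist_eq_sum k L hL _ hcQ (d' + 1) hsupp (M * j₀), hχ, htriv] at h1
  omega

open Groth.Agent.Lib.Helper6.DevGen Groth.Agent.Lib.Helper4.VanClass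

/-- ampleness on the reduced closed subscheme with underlying set `T` -/
def P (L : X.Modules) (T : Closeds X) : Prop :=
  CohB1.IsAmple ((Scheme.Modules.pullback (Scheme.IdealSheafData.vanishingIdeal T).subschemeι).obj L)

include k in
/-- ampleness on a closed subscheme follows from ampleness on the reduced irreducible closed subschemes
inside it -/
theorem isAmple_pullback_of_forall {L : X.Modules} (hL : PicF.IsInvertible L) {D : Scheme.{u}} (g : D ⟶ X)
    [IsClosedImmersion g]
    (h : ∀ T' : Closeds X, IsIrreducible (T' : Set X) → (T' : Set X) ⊆ Set.range g → P L T') :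
    CohB1.IsAmple ((Scheme.Modules.pullback g).obj L) := by
  refine Groth.Agent.Lib.Helper4.AmpleComp.isAmple_of_components k (g ≫ (X ↘ Spec (CommRingCat.of k)))
    (PullbackInv.isInvertible_pullback g hL) (fun Z hZ => ?_)
  haveI : IsReduced (Scheme.IdealSheafData.vanishingIdeal Z).subscheme :=
    Groth.Agent.Lib.Helper6.DevRed.isReduced_subscheme_vanishingIdeal Z
  set j := (Scheme.IdealSheafData.vanishingIdeal Z).subschemeι with hj
  have hrj : Set.range j = (Z : Set D) := by
    rw [hj, Scheme.IdealSheafData.range_subschemeι, Scheme.IdealSheafData.coe_support_vanishingIdeal]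
  have hr : Set.range (j ≫ g) = g '' (Z : Set D) := by
    rw [← hrj]
    ext x
    constructor
    · rintro ⟨w, rfl⟩
      exact ⟨j w, ⟨w, rfl⟩, rfl⟩
    · rintro ⟨_, ⟨w, rfl⟩, rfl⟩
      exact ⟨w, rfl⟩
  have hirr : IsIrreducible ((rangeCl (j ≫ g) : Closeds X) : Set X) := by
    show IsIrreducible (Set.range (j ≫ g))
    rw [hr]
    exact hZ.1.image g g.continuous.continuousOn
  have hsub : ((rangeCl (j ≫ g) : Closeds X) : Set X) ⊆ Set.range g := by
    show Set.range (j ≫ g) ⊆ Set.range g
    rw [hr]
    exact Set.image_subset_range _ _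
  have hA := h _ hirr hsub
  have h2 := Groth.Agent.Lib.Helper4.AmpleComp.isAmple_pullback_of_isClosedImmersion (toVan (j ≫ g)) hA
  exact AmpleIso.isAmple_of_iso
    ((Scheme.Modules.pullbackComp (toVan (j ≫ g)) _).app L ≪≫
      (Scheme.Modules.pullbackCongr (toVan_fac (j ≫ g))).app L ≪≫
      ((Scheme.Modules.pullbackComp j g).app L).symm) h2


open Groth.Agent.Lib.Helper4.NM3 in
/-- **the inductive step** -/
theorem step {L : X.Modules} (hL : PicF.IsInvertible L) (hP : Pos k X L) (T₀ : Closeds X)
    (hirr : IsIrreducible (T₀ : Set X))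
    (IH : ∀ T' : Closeds X, T' < T₀ → IsIrreducible (T' : Set X) → P L T') : P L T₀ := by
  haveI : IsNoetherian X := isNoetherian_of_proper k
  unfold P
  set I := Scheme.IdealSheafData.vanishingIdeal T₀ with hI
  letI : I.subscheme.Over (Spec (CommRingCat.of k)) := ⟨I.subschemeι ≫ (X ↘ (Spec (CommRingCat.of k)))⟩
  haveI : IsProper (I.subscheme ↘ (Spec (CommRingCat.of k))) :=
    inferInstanceAs (IsProper (I.subschemeι ≫ (X ↘ (Spec (CommRingCat.of k)))))
  haveI : IsIntegral I.subscheme :=
    Groth.Agent.Lib.Helper6.DevRed.isIntegral_subscheme_vanishingIdeal T₀ hirr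
  have hN := PullbackInv.isInvertible_pullback I.subschemeι hL
  have hsupI : (I.support : Set X) = (T₀ : Set X) := Scheme.IdealSheafData.coe_support_vanishingIdeal T₀
  have hrange : Set.range I.subschemeι = (T₀ : Set X) := by
    rw [Scheme.IdealSheafData.range_subschemeι, hsupI]
  have hinj : Function.Injective I.subschemeι := I.subschemeι.isClosedEmbedding.injective
  by_cases h2 : ∃ a ∈ T₀, ∃ b ∈ T₀, a ≠ b
  swap
  · -- the subscheme is a point
    push Not at h2
    haveI : Subsingleton I.subscheme := ⟨fun y y' => hinj (h2 _ (by rw [← SetLike.mem_coe, ← hrange]; exact ⟨y, rfl⟩) _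
      (by rw [← SetLike.mem_coe, ← hrange]; exact ⟨y', rfl⟩))⟩
    obtain ⟨z⟩ := (inferInstance : Nonempty I.subscheme)
    obtain ⟨U, hU, hzU, -⟩ := exists_isAffineOpen_mem_and_subset (x := z) (U := ⊤) trivial
    have hUtop : U = ⊤ := by
      rw [eq_top_iff]
      intro w _
      rw [Subsingleton.elim w z]
      exact hzU
    subst hUtop
    haveI : IsAffine (↑(⊤ : I.subscheme.Opens) : Scheme.{u}) := hU
    haveI : IsAffine I.subscheme := IsAffine.of_isIso I.subscheme.topIso.inv
    exact InvQC.isAmple_of_isQuasiAffine _ hN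
  obtain ⟨a, ha, b, hb, hab⟩ := h2
  -- dimension
  obtain ⟨d, hd⟩ := exists_dim_eq k (T₀ : Set X) hirr.nonempty
  have hdpos : 0 < d := by
    haveI : IrreducibleSpace (T₀ : Set X) := Subtype.irreducibleSpace hirr
    have h1 := dim_pos_of_ne (T := (T₀ : Set X)) ⟨a, ha⟩ ⟨b, hb⟩ (fun h => hab (congrArg Subtype.val h))
    rw [hd] at h1
    exact_mod_cast h1
  have hdimY : topologicalKrullDim I.subscheme = (d : WithBot ℕ∞) := by
    have e := I.subschemeι.isClosedEmbedding.isEmbedding.toHomeomorph
    rw [e.isHomeomorph.topologicalKrullDim_eq, hrange]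
    exact hd
  -- H2
  have H2 : 0 < hcoef k I.subscheme ((Scheme.Modules.pullback I.subschemeι).obj L) d
      (cls (Coh.structureModule I.subscheme)) := by
    rw [← hcoef_quotMod_eq k I L hL d]
    exact hP I d hdpos (by rw [hsupI]; exact hd)
  -- H1
  have H1' : H1 ((Scheme.Modules.pullback I.subschemeι).obj L) := by
    intro K hK hKsupp
    haveI : K.IsQuasicoherent := hK.1
    haveI : SheafOfModules.IsFiniteType.{u} (R := I.subscheme.ringCatSheaf) K := hK.2
    set J := Groth.Agent.Lib.Helper17.AnnIdeal.annIdeal K with hJ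
    have hJs : (J.support : Set I.subscheme) = CohB1.support K :=
      Groth.Agent.Lib.Helper17.AnnIdeal.support_annIdeal K
    have hamp : CohB1.IsAmple ((Scheme.Modules.pullback (J.subschemeι ≫ I.subschemeι)).obj L) := by
      apply isAmple_pullback_of_forall k hL
      intro T' hT'irr hT'sub
      apply IH T' ?_ hT'irr
      have hle : T' ≤ T₀ := by
        intro x hx
        obtain ⟨w, rfl⟩ := hT'sub hx
        rw [← SetLike.mem_coe, ← hrange]
        exact ⟨J.subschemeι w, rfl⟩
      refine lt_of_le_of_ne hle (fun heq => hKsupp ?_)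
      rw [← hJs, Set.eq_univ_iff_forall]
      intro y
      have hy : I.subschemeι y ∈ (T' : Set X) := by
        rw [heq, ← hrange]; exact ⟨y, rfl⟩
      obtain ⟨w, hw⟩ := hT'sub hy
      have : J.subschemeι w = y := hinj hw
      rw [← this, ← Scheme.IdealSheafData.range_subschemeι]
      exact ⟨w, rfl⟩
    have hamp' : CohB1.IsAmple ((Scheme.Modules.pullback J.subschemeι).obj
        ((Scheme.Modules.pullback I.subschemeι).obj L)) :=
      AmpleIso.isAmple_of_iso ((Scheme.Modules.pullbackComp J.subschemeι I.subschemeι).app L).symm hamp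
    refine van_of_killed k (I.subscheme ↘ (Spec (CommRingCat.of k))) hN J.subschemeι hamp' K hK ?_
    rw [Scheme.IdealSheafData.ker_subschemeι]
    intro U a ha m
    exact Module.mem_annihilator.mp ha m
  -- sections
  obtain ⟨m, hm, s, hs⟩ := exists_section k hN d hdpos hdimY H1' H2
  obtain ⟨M, hM, r, bb, hbb⟩ := Groth.Agent.Lib.Helper4.NM4.exists_cover k hN H1' m hm s hs
  refine Groth.Agent.Lib.Helper4.NM5.isAmple_of_cover k hN M hM r bb hbb ?_
  -- H3
  rintro T'' hT''irr ⟨a'', ha'', b'', hb'', hab''⟩ ⟨e⟩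
  set c := (Scheme.IdealSheafData.vanishingIdeal T'').subschemeι with hc
  haveI : IsIntegral (Scheme.IdealSheafData.vanishingIdeal T'').subscheme :=
    Groth.Agent.Lib.Helper6.DevRed.isIntegral_subscheme_vanishingIdeal T'' hT''irr
  have hrc : Set.range c = (T'' : Set I.subscheme) := by
    rw [hc, Scheme.IdealSheafData.range_subschemeι, Scheme.IdealSheafData.coe_support_vanishingIdeal]
  obtain ⟨wa, hwa⟩ : a'' ∈ Set.range c := by rw [hrc]; exact ha''
  obtain ⟨wb, hwb⟩ : b'' ∈ Set.range c := by rw [hrc]; exact hb''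
  have hwab : wa ≠ wb := by
    intro h
    apply hab''
    rw [← hwa, ← hwb, h]
  obtain ⟨ψ, -⟩ := PullbackInv.exists_pullback_tensorPow_iso I.subschemeι hL M
  exact not_trivial_of_pos k hL hP (c ≫ I.subschemeι) wa wb hwab M hM
    ⟨((Scheme.Modules.pullbackComp c I.subschemeι).app _).symm ≪≫
      (Scheme.Modules.pullback c).mapIso ψ ≪≫ e⟩

include k in
/-- **the positivity condition implies ampleness** -/
theorem isAmple_of_pos {L : X.Modules} (hL : PicF.IsInvertible L) (hP : Pos k X L) : CohB1.IsAmple L := by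
  haveI : IsNoetherian X := isNoetherian_of_proper k
  have key : ∀ T : Closeds X, IsIrreducible (T : Set X) → P L T := by
    intro T
    induction T using WellFoundedLT.induction with
    | ind T IH =>
      intro hirr
      exact step k hL hP T hirr (fun T' hlt hirr' => IH T' hlt hirr')
  have h := isAmple_pullback_of_forall k hL (𝟙 X) (fun T' hirr _ => key T' hirr)
  exact AmpleIso.isAmple_of_iso ((Scheme.Modules.pullbackId X).app L) h

end Groth.Agent.Lib.Helper4.NM6
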