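import Groth.Agent.Lib.Helper4.FC7
import Groth.Agent.Lib.Helper4.FC5
import Groth.Agent.Lib.Helper4.NM6
import Mathlib

set_option backward.isDefEq.respectTransparency.types false
set_option autoImplicit false
set_option linter.unusedSectionVars false
set_option linter.style.haveILetI false
universe u
open CategoryTheory CategoryTheory.Limits AlgebraicGeometry Opposite TopologicalSpace

namespace Groth.Agent.Lib.Helper4.FC8

open Groth.Agent.Lib.Helper6.K0Filt Groth.Agent.Lib.Helper6.K0Len Groth.Agent.Lib.Helper6.K0Op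
  Groth.Agent.Lib.Helper6.K0Tensor Groth.Agent.Lib.Helper4.Snapper Groth.Agent.Lib.Helper4.KLM1
  Groth.Agent.Lib.Helper4.KLM2 Groth.Agent.Lib.Helper4.KLM4 Groth.Agent.Lib.Helper4.KLM5
  Groth.Agent.Lib.Helper4.KLM6 Groth.Agent.Lib.Helper28 Groth.Agent.Lib.Helper4.FC6 Groth.Agent.Lib.Helper4.FC7

variable (k : Type u) [Field k] {X : Scheme.{u}} [X.Over (Spec (CommRingCat.of k))]
    [IsProper (X ↘ (Spec (CommRingCat.of k)))]

/-- Euler characteristics of the twists by the multiples of `n` -/
theorem eulerHom_Top_pow_mul {L : X.Modules} (hL : PicF.IsInvertible L) (n : ℕ)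
    (h : Pic13.IsAlgEquivZero k X (CohB1.tensorPow L n)) (F : X.Modules) (hF : Coh.IsCoh F) (j : ℕ) :
    eulerHom k X ((Top L ^ (n * j)) (cls F)) = eulerHom k X (cls F) := by
  haveI : IsNoetherian X := isNoetherian_of_proper k
  have hN := GenLocus.isInvertible_tensorPow hL n
  induction j with
  | zero => simp
  | succ j ih =>
    have hG : Coh.IsCoh (CohB1.tensorMod F (CohB1.tensorPow L (n * j))) :=
      isCoh_tensorMod _ _ hF (isCoh_of_isInvertible _ (GenLocus.isInvertible_tensorPow hL (n * j)))
    have h1 := ev_eq_zero k hN h _ hG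
    rw [ev_apply, ← Top_pow_cls L hL F hF (n * j), Top_tensorPow L hL n] at h1
    have h2 : (Top L ^ (n * (j + 1))) (cls F) = (Top L ^ n) ((Top L ^ (n * j)) (cls F)) := by
      rw [mul_add, mul_one, add_comm, pow_add]
      rfl
    rw [h2, ← ih]
    have h3 : ((Top L ^ n - 1 : AddMonoid.End (K0 X))) ((Top L ^ (n * j)) (cls F)) =
        (Top L ^ n) ((Top L ^ (n * j)) (cls F)) - (Top L ^ (n * j)) (cls F) := rfl
    rw [h3, map_sub] at h1
    linarith

/-- **tensoring with a module some power of which is algebraically equivalent to zero does not change Euler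
characteristics** -/
theorem euler_tensor_eq_of_tau {L : X.Modules} (hL : PicF.IsInvertible L) (n : ℕ) (hn : 0 < n)
    (h : Pic13.IsAlgEquivZero k X (CohB1.tensorPow L n)) (F : X.Modules) (hF : Coh.IsCoh F) :
    Curv2.euler k X (CohB1.tensorMod F L) = Curv2.euler k X F := by
  haveI : IsNoetherian X := isNoetherian_of_proper k
  obtain ⟨d, hd⟩ := Groth.Agent.Lib.Helper4.NM6.exists_dim_le k (X := X)
  have hsupp : topologicalKrullDim (CohB1.support F) ≤ (d : WithBot ℕ∞) :=
    (topologicalKrullDim_subspace_le X (CohB1.support F)).trans hd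
  have hsum : ∀ m : ℕ, eulerHom k X ((Top L ^ m) (cls F)) =
      ∑ i ∈ Finset.range (d + 1), (m.choose i : ℤ) * hcoef k X L i (cls F) := by
    intro m
    rw [eulerHom_Top_pow_cls k L hL F hF m, euler_twist_eq_sum k L hL F hF d hsupp m]
  have hconst := Groth.Agent.Lib.Helper4.FC5.const_of_const_on_multiples d (fun i => hcoef k X L i (cls F)) n hn
    (eulerHom k X (cls F)) (fun j => by rw [← hsum, eulerHom_Top_pow_mul k hL n h F hF j]) 1
  rw [← hsum 1, pow_one] at hconst
  have h1 := euler_sub_eq_ev k hL F hF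
  rw [ev_apply] at h1
  have h2 : ((Top L - 1 : AddMonoid.End (K0 X))) (cls F) = (Top L) (cls F) - cls F := rfl
  rw [h2, map_sub, hconst, sub_self] at h1
  linarith

end Groth.Agent.Lib.Helper4.FC8
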