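import Groth.Agent.Lib.Helper4.FC8
import Groth.Agent.Lib.Helper2.IntNum1
import Mathlib

set_option backward.isDefEq.respectTransparency.types false
set_option autoImplicit false
set_option linter.unusedSectionVars false
set_option linter.style.haveILetI false
universe u
open CategoryTheory CategoryTheory.Limits AlgebraicGeometry Opposite TopologicalSpace

namespace Groth.Agent.Lib.Helper4.FC9

open Groth.Agent.Lib.Helper6.K0Filt Groth.Agent.Lib.Helper6.K0Len Groth.Agent.Lib.Helper6.K0Op
  Groth.Agent.Lib.Helper6.K0Tensor Groth.Agent.Lib.Helper4.Snapper Groth.Agent.Lib.Helper4.KLM1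
  Groth.Agent.Lib.Helper4.KLM2 Groth.Agent.Lib.Helper4.KLM4 Groth.Agent.Lib.Helper4.KLM5
  Groth.Agent.Lib.Helper4.KLM6 Groth.Agent.Lib.Helper28 Groth.Agent.Lib.Helper4.FC6 Groth.Agent.Lib.Helper4.FC7
  Groth.Agent.Lib.Helper4.FC8

variable (k : Type u) [Field k] {X : Scheme.{u}} [X.Over (Spec (CommRingCat.of k))]
    [IsProper (X ↘ (Spec (CommRingCat.of k)))]

/-- operators on `K'_0(X)` preserving Euler characteristics -/
def EInv (φ : AddMonoid.End (K0 X)) : Prop := ∀ c : K0 X, eulerHom k X (φ c) = eulerHom k X c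

variable {k}

theorem EInv.one : EInv k (1 : AddMonoid.End (K0 X)) := fun _ => rfl

theorem EInv.mul {φ ψ : AddMonoid.End (K0 X)} (hφ : EInv k φ) (hψ : EInv k ψ) : EInv k (φ * ψ) := fun c => by
  show eulerHom k X (φ (ψ c)) = _
  rw [hφ, hψ]

theorem EInv.pow {φ : AddMonoid.End (K0 X)} (hφ : EInv k φ) (n : ℕ) : EInv k (φ ^ n) := by
  induction n with
  | zero => rw [pow_zero]; exact EInv.one
  | succ n ih => rw [pow_succ]; exact ih.mul hφ

theorem EInv.of_mul_eq_one {φ ψ : AddMonoid.End (K0 X)} (hφ : EInv k φ) (h : φ * ψ = 1) : EInv k ψ := fun c => by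
  rw [← hφ (ψ c)]
  show eulerHom k X ((φ * ψ) c) = _
  rw [h]
  rfl

variable (k)

/-- the Euler characteristic of a twist, in terms of the operators -/
theorem euler_tensorMod_eq {A : X.Modules} (hA : PicF.IsInvertible A) (F : X.Modules) (hF : Coh.IsCoh F) :
    Curv2.euler k X (CohB1.tensorMod F A) = eulerHom k X (Top A (cls F)) := by
  haveI : IsNoetherian X := isNoetherian_of_proper k
  have h1 := euler_sub_eq_ev k hA F hF
  rw [ev_apply] at h1
  have h2 : ((Top A - 1 : AddMonoid.End (K0 X))) (cls F) = (Top A) (cls F) - cls F := rfl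
  rw [h2, map_sub, eulerHom_cls k X F hF] at h1
  linarith

/-- **the operator of a module τ-equivalent to zero preserves Euler characteristics** -/
theorem einv_of_tau {L : X.Modules} (hL : PicF.IsInvertible L) (hτ : Pic13.IsTauEquivZero k X L) :
    EInv k (Top L) := by
  obtain ⟨n, hn, h⟩ := hτ
  intro c
  induction c using Groth.Agent.Lib.Helper6.K0Abs.K0sub_induction with
  | h0 => rw [map_zero]
  | hof F hF =>
    show eulerHom k X (Top L (cls F)) = eulerHom k X (cls F)
    rw [← euler_tensorMod_eq k hL F hF, euler_tensor_eq_of_tau k hL n hn h F hF, eulerHom_cls k X F hF]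
  | hneg c ih => rw [map_neg, map_neg, map_neg, ih]
  | hadd c d ihc ihd => rw [map_add, map_add, map_add, ihc, ihd]

theorem einv_of_tau_inverse {L L' : X.Modules} (hL : PicF.IsInvertible L) (hτ : Pic13.IsTauEquivZero k X L)
    (hLL' : Nonempty (CohB1.tensorMod L L' ≅ Coh.structureModule X)) :
    PicF.IsInvertible L' ∧ EInv k (Top L') := by
  obtain ⟨e⟩ := hLL'
  have hL' : PicF.IsInvertible L' := Groth.Agent.Lib.Helper6.K0Inv.isInvertible_of_tensor_iso L L' hL e
  refine ⟨hL', (einv_of_tau k hL hτ).of_mul_eq_one ?_⟩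
  rw [← Top_tensorMod L L' hL hL',
    Top_congr e (GenLocus.isInvertible_tensorMod hL hL') (AmpleUnit.isInvertible_structureModule X),
    Top_structureModule]

/-- the statement of S4276 -/
theorem main4276 (k : Type u) [Field k] [IsAlgClosed k] (X : Scheme.{u}) [X.Over (Spec (CommRingCat.of k))]
    [IsProper (X ↘ Spec (CommRingCat.of k))] (d : ℕ) (hd : topologicalKrullDim X ≤ d)
    (L : X.Modules) (hL : PicF.IsInvertible L) (hτ : Pic13.IsTauEquivZero k X L) (F : X.Modules) (hF : Coh.IsCoh F) :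
    FGA.eulerCharLE k X (CohB1.tensorMod F L) d = FGA.eulerCharLE k X F d := by
  obtain ⟨n, hn, h⟩ := hτ
  rw [Groth.Agent.Lib.Helper2.IntNum1.eulerCharLE_eq_euler k X d hd,
    Groth.Agent.Lib.Helper2.IntNum1.eulerCharLE_eq_euler k X d hd]
  exact euler_tensor_eq_of_tau k hL n hn h F hF

/-- the degree of an invertible module on an integral closed curve, as a difference of Euler characteristics on the
ambient scheme -/
theorem curveDeg_pullback_eq {L : X.Modules} (hL : PicF.IsInvertible L) (Y : Scheme.{u}) (i : Y ⟶ X)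
    [IsClosedImmersion i] (hY : IsIntegral Y) (hdim : topologicalKrullDim Y = 1) :
    Pic13.curveDeg k (i ≫ (X ↘ Spec (CommRingCat.of k))) ((Scheme.Modules.pullback i).obj L) =
      Curv2.euler k X (CohB1.tensorMod (ClSub.quotMod i.ker) L) - Curv2.euler k X (ClSub.quotMod i.ker) := by
  haveI : IsNoetherian X := isNoetherian_of_proper k
  haveI := hY
  set C : X.IdealSheafData := i.ker with hC
  set e : Y ⟶ C.subscheme := i.toImage with he'
  haveI : IsIso e := inferInstance
  have he : e ≫ C.subschemeι = i := i.toImage_imageι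
  obtain ⟨a, h1⟩ : ∃ a : ℤ, a = Curv2.euler k X (CohB1.tensorMod (ClSub.quotMod C) L) -
      Curv2.euler k X (ClSub.quotMod C) := ⟨_, rfl⟩
  rw [← h1]
  letI iC : C.subscheme.Over (Spec (CommRingCat.of k)) := ⟨C.subschemeι ≫ (X ↘ (Spec (CommRingCat.of k)))⟩
  haveI : IsProper (C.subscheme ↘ (Spec (CommRingCat.of k))) :=
    inferInstanceAs (IsProper (C.subschemeι ≫ (X ↘ (Spec (CommRingCat.of k)))))
  letI iY : Y.Over (Spec (CommRingCat.of k)) := ⟨i ≫ (X ↘ (Spec (CommRingCat.of k)))⟩
  haveI : IsProper (Y ↘ (Spec (CommRingCat.of k))) :=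
    inferInstanceAs (IsProper (i ≫ (X ↘ (Spec (CommRingCat.of k)))))
  have hLC := PullbackInv.isInvertible_pullback C.subschemeι hL
  have hLY := PullbackInv.isInvertible_pullback i hL
  rw [euler_sub_eq_ev k hL _ (Groth.Agent.Lib.Helper6.DevRed.isCoh_quotMod C)] at h1
  have h2 := ev_pow_mul_pow_quotMod_eq k C hL hL 1 0
  rw [pow_one, pow_zero, mul_one, pow_one, pow_zero, mul_one] at h2
  rw [h2, ← euler_sub_eq_ev k hLC _ Groth.Agent.Lib.Helper6.DevRed.isCoh_structureModule] at h1
  obtain ⟨ν⟩ := InvQC.nonempty_unit_tensor_iso ((Scheme.Modules.pullback C.subschemeι).obj L)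
  rw [Groth.Agent.Lib.Helper8.EulerK.euler_congr k ν] at h1
  have heK : e ≫ (C.subscheme ↘ Spec (CommRingCat.of k)) = Y ↘ Spec (CommRingCat.of k) := by
    show e ≫ (C.subschemeι ≫ (X ↘ Spec (CommRingCat.of k))) = i ≫ (X ↘ Spec (CommRingCat.of k))
    rw [← Category.assoc, he]
  have iso : (Scheme.Modules.pullback e).obj ((Scheme.Modules.pullback C.subschemeι).obj L) ≅
      (Scheme.Modules.pullback i).obj L :=
    (Scheme.Modules.pullbackComp e C.subschemeι).app L ≪≫ (Scheme.Modules.pullbackCongr he).app L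
  have hq : ((Scheme.Modules.pullback e).obj ((Scheme.Modules.pullback C.subschemeι).obj L)).IsQuasicoherent :=
    InvQC.isQuasicoherent_of_isInvertible _ (PullbackInv.isInvertible_pullback e hLC)
  have h3 := Groth.Agent.Lib.Helper2.NefFib.deg_pullback_iso e k heK
    ((Scheme.Modules.pullback C.subschemeι).obj L) hq 1
  show Pic13.curveDeg k (Y ↘ Spec (CommRingCat.of k)) ((Scheme.Modules.pullback i).obj L) = a
  rw [Groth.Agent.Lib.Helper2.NumPull.curveDeg_eq k (Y ↘ Spec (CommRingCat.of k)) hdim.le _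
    (isCoh_of_isInvertible _ hLY).1]
  have h4 : Curv2.deg k Y ((Scheme.Modules.pullback i).obj L) 1 =
      Curv2.deg k Y ((Scheme.Modules.pullback e).obj ((Scheme.Modules.pullback C.subschemeι).obj L)) 1 := by
    unfold Curv2.deg
    rw [Groth.Agent.Lib.Helper8.EulerK.euler_congr k iso]
  show Curv2.deg k Y ((Scheme.Modules.pullback i).obj L) 1 = a
  rw [h4, h3]
  unfold Curv2.deg
  rw [h1]
  simp

/-- the statement of S4278 -/
theorem main4278 (k : Type u) [Field k] [IsAlgClosed k] (X : Scheme.{u}) [X.Over (Spec (CommRingCat.of k))]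
    [IsProper (X ↘ Spec (CommRingCat.of k))]
    (L : X.Modules) (hL : PicF.IsInvertible L) (hτ : Pic13.IsTauEquivZero k X L) : Pic13.IsNumEquivZero k X L := by
  haveI : IsNoetherian X := isNoetherian_of_proper k
  obtain ⟨n, hn, h⟩ := hτ
  intro Y i _ hY hdim
  rw [curveDeg_pullback_eq k hL Y i hY hdim,
    euler_tensor_eq_of_tau k hL n hn h _ (Groth.Agent.Lib.Helper6.DevRed.isCoh_quotMod _), sub_self]

/-- twisting a coherent module on the left by a module whose operator preserves Euler characteristics -/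
theorem euler_tensorMod_left_eq {A : X.Modules} (hA : PicF.IsInvertible A) (hE : EInv k (Top A)) (B : X.Modules)
    (hB : Coh.IsCoh B) : Curv2.euler k X (CohB1.tensorMod A B) = Curv2.euler k X B := by
  haveI : IsNoetherian X := isNoetherian_of_proper k
  rw [← eulerHom_cls k X _ (isCoh_tensorMod _ _ (isCoh_of_isInvertible A hA) hB), ← Top_cls A hA B hB, hE,
    eulerHom_cls k X B hB]

theorem einv_tensorPow {A : X.Modules} (hA : PicF.IsInvertible A) (hE : EInv k (Top A)) (m : ℕ) :
    EInv k (Top (CohB1.tensorPow A m)) := by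
  rw [Top_tensorPow A hA m]
  exact hE.pow m

/-- the statement of S4305 -/
theorem main4305 (k : Type u) [Field k] [IsAlgClosed k] (X : Scheme.{u})
    [X.Over (Spec (CommRingCat.of k))] [IsProper (X ↘ Spec (CommRingCat.of k))] [IrreducibleSpace X]
    (d : ℕ) (hd : topologicalKrullDim X ≤ d) (H H' L L' : X.Modules) (hH : CohB1.IsAmple H) (hL : PicF.IsInvertible L)
    (hHH' : Nonempty (CohB1.tensorMod H H' ≅ Coh.structureModule X)) (hLL' : Nonempty (CohB1.tensorMod L L' ≅ Coh.structureModule X))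
    (hτ : Pic13.IsTauEquivZero k X L) :
    ∀ m n : ℕ,
      FGA.eulerCharLE k X (CohB1.tensorMod (CohB1.tensorPow L m) (CohB1.tensorPow H n)) d = FGA.eulerCharLE k X (CohB1.tensorPow H n) d ∧
      FGA.eulerCharLE k X (CohB1.tensorMod (CohB1.tensorPow L m) (CohB1.tensorPow H' n)) d = FGA.eulerCharLE k X (CohB1.tensorPow H' n) d ∧
      FGA.eulerCharLE k X (CohB1.tensorMod (CohB1.tensorPow L' m) (CohB1.tensorPow H n)) d = FGA.eulerCharLE k X (CohB1.tensorPow H n) d ∧
      FGA.eulerCharLE k X (CohB1.tensorMod (CohB1.tensorPow L' m) (CohB1.tensorPow H' n)) d = FGA.eulerCharLE k X (CohB1.tensorPow H' n) d := by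
  intro m n
  have hE := einv_of_tau k hL hτ
  obtain ⟨hL', hE'⟩ := einv_of_tau_inverse k hL hτ hLL'
  obtain ⟨eH⟩ := hHH'
  have hH' : PicF.IsInvertible H' := Groth.Agent.Lib.Helper6.K0Inv.isInvertible_of_tensor_iso H H' hH.1 eH
  have cH : Coh.IsCoh (CohB1.tensorPow H n) := isCoh_of_isInvertible _ (GenLocus.isInvertible_tensorPow hH.1 n)
  have cH' : Coh.IsCoh (CohB1.tensorPow H' n) := isCoh_of_isInvertible _ (GenLocus.isInvertible_tensorPow hH' n)
  simp only [Groth.Agent.Lib.Helper2.IntNum1.eulerCharLE_eq_euler k X d hd]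
  exact ⟨euler_tensorMod_left_eq k (GenLocus.isInvertible_tensorPow hL m) (einv_tensorPow k hL hE m) _ cH,
    euler_tensorMod_left_eq k (GenLocus.isInvertible_tensorPow hL m) (einv_tensorPow k hL hE m) _ cH',
    euler_tensorMod_left_eq k (GenLocus.isInvertible_tensorPow hL' m) (einv_tensorPow k hL' hE' m) _ cH,
    euler_tensorMod_left_eq k (GenLocus.isInvertible_tensorPow hL' m) (einv_tensorPow k hL' hE' m) _ cH'⟩

/-- twisting an ample module by a module whose operator preserves Euler characteristics gives an ample module -/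
theorem isAmple_tensorMod_of_einv (k : Type u) [Field k] [IsAlgClosed k] (X : Scheme.{u})
    [X.Over (Spec (CommRingCat.of k))] [IsProper (X ↘ Spec (CommRingCat.of k))]
    {A H : X.Modules} (hA : PicF.IsInvertible A) (hE : EInv k (Top A)) (hH : CohB1.IsAmple H) :
    CohB1.IsAmple (CohB1.tensorMod A H) := by
  haveI : IsNoetherian X := isNoetherian_of_proper k
  have hAH := GenLocus.isInvertible_tensorMod hA hH.1
  refine Groth.Agent.Lib.Helper4.KLM6.main k X H (CohB1.tensorMod A H) hH.1 hAH (fun C _ _ => ?_) hH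
  have hQ := Groth.Agent.Lib.Helper6.DevRed.isCoh_quotMod C
  rw [euler_tensorMod_eq k hH.1 _ hQ, euler_tensorMod_eq k hAH _ hQ, Top_tensorMod A H hA hH.1]
  exact (hE _).symm

/-- the statement of S4280 -/
theorem main4280 (k : Type u) [Field k] [IsAlgClosed k] (X : Scheme.{u}) [X.Over (Spec (CommRingCat.of k))]
    [IsProper (X ↘ Spec (CommRingCat.of k))]
    (H : X.Modules) (hH : CohB1.IsAmple H) (L L' : X.Modules) (hL : PicF.IsInvertible L)
    (hLL' : Nonempty (CohB1.tensorMod L L' ≅ Coh.structureModule X)) (hτ : Pic13.IsTauEquivZero k X L) (m : ℕ) :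
    CohB1.IsAmple (CohB1.tensorMod (CohB1.tensorPow L m) H) ∧ CohB1.IsAmple (CohB1.tensorMod (CohB1.tensorPow L' m) H) := by
  have hE := einv_of_tau k hL hτ
  obtain ⟨hL', hE'⟩ := einv_of_tau_inverse k hL hτ hLL'
  exact ⟨isAmple_tensorMod_of_einv k X (GenLocus.isInvertible_tensorPow hL m) (einv_tensorPow k hL hE m) hH,
    isAmple_tensorMod_of_einv k X (GenLocus.isInvertible_tensorPow hL' m) (einv_tensorPow k hL' hE' m) hH⟩

end Groth.Agent.Lib.Helper4.FC9
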