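import Mathlib.Tactic
import Mathlib.CategoryTheory.Limits.FormalCoproducts.Basic
import Mathlib.CategoryTheory.Limits.Shapes.BinaryProducts

namespace Groth.Agent.Lib.Helper4.FCProd

open CategoryTheory CategoryTheory.Limits Opposite

universe w v u

variable {C : Type u} [Category.{v} C] [HasBinaryProducts C]

/-- the product of two formal coproducts -/
noncomputable def prodObj (X Y : FormalCoproduct.{w} C) : FormalCoproduct.{w} C where
  I := X.I × Y.I
  obj p := X.obj p.1 ⨯ Y.obj p.2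

/-- first projection -/
noncomputable def fst (X Y : FormalCoproduct.{w} C) : prodObj X Y ⟶ X :=
  ⟨fun p => p.1, fun _ => prod.fst⟩

/-- second projection -/
noncomputable def snd (X Y : FormalCoproduct.{w} C) : prodObj X Y ⟶ Y :=
  ⟨fun p => p.2, fun _ => prod.snd⟩

/-- the lift -/
noncomputable def lift {T X Y : FormalCoproduct.{w} C} (a : T ⟶ X) (b : T ⟶ Y) : T ⟶ prodObj X Y :=
  ⟨fun t => (a.f t, b.f t), fun t => prod.lift (a.φ t) (b.φ t)⟩

lemma lift_fst {T X Y : FormalCoproduct.{w} C} (a : T ⟶ X) (b : T ⟶ Y) :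
    lift a b ≫ fst X Y = a := by
  refine FormalCoproduct.hom_ext rfl (fun i => ?_)
  change (prod.lift (a.φ i) (b.φ i) ≫ prod.fst) ≫ 𝟙 _ = a.φ i
  rw [Category.comp_id]
  exact prod.lift_fst _ _

lemma lift_snd {T X Y : FormalCoproduct.{w} C} (a : T ⟶ X) (b : T ⟶ Y) :
    lift a b ≫ snd X Y = b := by
  refine FormalCoproduct.hom_ext rfl (fun i => ?_)
  change (prod.lift (a.φ i) (b.φ i) ≫ prod.snd) ≫ 𝟙 _ = b.φ i
  rw [Category.comp_id]
  exact prod.lift_snd _ _

lemma hom_ext' {T X Y : FormalCoproduct.{w} C} (m m' : T ⟶ prodObj X Y)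
    (h1 : m ≫ fst X Y = m' ≫ fst X Y) (h2 : m ≫ snd X Y = m' ≫ snd X Y) : m = m' := by
  obtain ⟨f, φ⟩ := m
  obtain ⟨f', φ'⟩ := m'
  obtain ⟨hf1, hφ1⟩ := (FormalCoproduct.hom_ext_iff _ _).1 h1
  obtain ⟨hf2, hφ2⟩ := (FormalCoproduct.hom_ext_iff _ _).1 h2
  have hf : f = f' := by
    funext t
    exact Prod.ext (congrFun hf1 t) (congrFun hf2 t)
  subst hf
  refine FormalCoproduct.hom_ext rfl (fun i => ?_)
  have e1 : (φ i ≫ prod.fst) ≫ 𝟙 _ = φ' i ≫ prod.fst := hφ1 i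
  have e2 : (φ i ≫ prod.snd) ≫ 𝟙 _ = φ' i ≫ prod.snd := hφ2 i
  rw [Category.comp_id] at e1 e2
  change φ i ≫ 𝟙 _ = φ' i
  rw [Category.comp_id]
  exact Limits.prod.hom_ext e1 e2

/-- the binary fan -/
noncomputable def fan (X Y : FormalCoproduct.{w} C) : BinaryFan X Y :=
  BinaryFan.mk (fst X Y) (snd X Y)

/-- the binary fan is a limit -/
noncomputable def isLimitFan (X Y : FormalCoproduct.{w} C) : IsLimit (fan X Y) :=
  BinaryFan.isLimitMk (fun s => lift s.fst s.snd) (fun _ => lift_fst _ _) (fun _ => lift_snd _ _)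
    (fun _ _ h1 h2 => hom_ext' _ _ (h1.trans (lift_fst _ _).symm) (h2.trans (lift_snd _ _).symm))

instance : HasBinaryProducts (FormalCoproduct.{w} C) :=
  haveI : ∀ X Y : FormalCoproduct.{w} C, HasLimit (pair X Y) :=
    fun X Y => ⟨⟨⟨fan X Y, isLimitFan X Y⟩⟩⟩
  hasBinaryProducts_of_hasLimit_pair _

end Groth.Agent.Lib.Helper4.FCProd
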