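import Mathlib.Analysis.Convex.Combination
import Mathlib.Analysis.Convex.Segment
import Mathlib.LinearAlgebra.FreeModule.PID
import Mathlib.LinearAlgebra.Matrix.ToLin
import Mathlib.Algebra.Order.Archimedean.Real.Basic
import Mathlib.Tactic

namespace Groth.Agent.Lib.Helper4.FanCone1

open Finset


/-- Step 1: integer coordinates for a finite family of reals. -/
theorem exists_int_coords {N : Type} [Fintype N] (p : N → ℝ) :
    ∃ (s : ℕ) (q : N → Fin s → ℤ) (r : Fin s → ℝ),
      (∀ i, p i = ∑ j, (q i j : ℝ) * r j) ∧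
      (∀ i, p i = 0 → ∀ j, q i j = 0) ∧
      (∀ a : N → ℤ, (∑ i, (a i : ℝ) * p i = 0) → ∀ j, ∑ i, a i * q i j = 0) := by
  classical
  let W : Submodule ℤ ℝ := Submodule.span ℤ (Set.range p)
  haveI : Module.Finite ℤ W := Module.Finite.span_of_finite ℤ (Set.finite_range p)
  obtain ⟨s, b⟩ : Σ n, Module.Basis (Fin n) ℤ W := Module.basisOfFiniteTypeTorsionFree'
  let pe : N → W := fun i => ⟨p i, Submodule.subset_span ⟨i, rfl⟩⟩
  refine ⟨s, fun i j => b.repr (pe i) j, fun j => (b j : ℝ), ?_, ?_, ?_⟩
  · intro i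
    have h := b.sum_repr (pe i)
    have h2 := congrArg (fun w : W => (w : ℝ)) h
    simp only [Submodule.coe_sum, Submodule.coe_smul, zsmul_eq_mul] at h2
    exact h2.symm
  · intro i hi j
    have : pe i = 0 := Subtype.ext hi
    show b.repr (pe i) j = 0
    rw [this]; simp
  · intro a ha j
    have h0 : ∑ i, a i • pe i = 0 := by
      apply Subtype.ext
      simp only [Submodule.coe_sum, Submodule.coe_smul, zsmul_eq_mul, Submodule.coe_zero]
      exact ha
    have h1 := congrArg (fun w => b.repr w j) h0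
    simpa [Finsupp.coe_finsetSum, Finset.sum_apply] using h1



/-- Conic Carathéodory, indexed version. -/
theorem conic_caratheodory {E : Type*} [AddCommGroup E] [Module ℝ E] {ι : Type*} [DecidableEq ι]
    (z : ι → E) :
    ∀ (n : ℕ) (t : Finset ι) (c : ι → ℝ), t.card = n → (∀ i ∈ t, 0 ≤ c i) →
      ∃ (t' : Finset ι) (c' : ι → ℝ), t' ⊆ t ∧ (∀ i ∈ t', 0 < c' i) ∧
        ∑ i ∈ t', c' i • z i = ∑ i ∈ t, c i • z i ∧
        LinearIndependent ℝ (fun i : t' => z i) := by
  intro n
  induction n using Nat.strong_induction_on with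
  | _ n ih =>
    intro t c hn hc
    by_cases h0 : ∃ i ∈ t, c i = 0
    · obtain ⟨i, hi, hci⟩ := h0
      have hcard : (t.erase i).card < n := by rw [← hn]; exact Finset.card_erase_lt_of_mem hi
      obtain ⟨t', c', hsub, hpos, hsum, hli⟩ := ih _ hcard (t.erase i) c rfl
        (fun j hj => hc j (Finset.mem_of_mem_erase hj))
      refine ⟨t', c', hsub.trans (Finset.erase_subset _ _), hpos, ?_, hli⟩
      rw [hsum, ← Finset.add_sum_erase t _ hi, hci, zero_smul, zero_add]
    · push Not at h0
      have hpos : ∀ i ∈ t, 0 < c i := fun i hi => lt_of_le_of_ne (hc i hi) (h0 i hi).symm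
      by_cases hli : LinearIndependent ℝ (fun i : t => z i)
      · exact ⟨t, c, Finset.Subset.refl _, hpos, rfl, hli⟩
      · rw [Fintype.not_linearIndependent_iff] at hli
        obtain ⟨g0, hg0, i0, hi0⟩ := hli
        -- extend g0 to ι
        let g1 : ι → ℝ := fun i => if h : i ∈ t then g0 ⟨i, h⟩ else 0
        have hg1 : ∑ i ∈ t, g1 i • z i = 0 := by
          rw [← Finset.sum_coe_sort t]
          rw [← hg0]
          apply Finset.sum_congr rfl
          intro i _
          simp [g1]
        have hi1 : g1 i0 ≠ 0 := by simpa [g1] using hi0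
        -- WLOG positive somewhere
        obtain ⟨g, hg, i1, hi1t, hi1pos⟩ : ∃ g : ι → ℝ, ∑ i ∈ t, g i • z i = 0 ∧ ∃ i ∈ t, 0 < g i := by
          rcases lt_or_gt_of_ne hi1 with h | h
          · refine ⟨fun i => - g1 i, ?_, i0, i0.2, by simpa using h⟩
            simp only [neg_smul, Finset.sum_neg_distrib, hg1, neg_zero]
          · exact ⟨g1, hg1, i0, i0.2, h⟩
        -- argmin of c/g on positives
        let P := t.filter (fun i => 0 < g i)
        have hPne : P.Nonempty := ⟨i1, Finset.mem_filter.2 ⟨hi1t, hi1pos⟩⟩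
        obtain ⟨m, hmP, hmin⟩ := Finset.exists_min_image P (fun i => c i / g i) hPne
        have hmt : m ∈ t := (Finset.mem_filter.1 hmP).1
        have hgm : 0 < g m := (Finset.mem_filter.1 hmP).2
        set θ := c m / g m with hθ
        have hθpos : 0 < θ := div_pos (hpos m hmt) hgm
        let c2 : ι → ℝ := fun i => c i - θ * g i
        have hc2 : ∀ i ∈ t, 0 ≤ c2 i := by
          intro i hi
          by_cases hgi : 0 < g i
          · have := hmin i (Finset.mem_filter.2 ⟨hi, hgi⟩)
            have h2 : θ * g i ≤ c i := by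
              have := mul_le_mul_of_nonneg_right this hgi.le
              rwa [div_mul_cancel₀ _ hgi.ne'] at this
            simpa [c2] using h2
          · have : θ * g i ≤ 0 := mul_nonpos_of_nonneg_of_nonpos hθpos.le (not_lt.1 hgi)
            have := hc i hi
            simp only [c2]; linarith
        have hc2m : c2 m = 0 := by
          simp only [c2, hθ]; rw [div_mul_cancel₀ _ hgm.ne']; ring
        have hsum2 : ∑ i ∈ t, c2 i • z i = ∑ i ∈ t, c i • z i := by
          simp only [c2, sub_smul, Finset.sum_sub_distrib, mul_smul]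
          rw [← Finset.smul_sum, hg, smul_zero, sub_zero]
        have hcard : (t.erase m).card < n := by rw [← hn]; exact Finset.card_erase_lt_of_mem hmt
        obtain ⟨t', c', hsub, hpos', hsum, hli'⟩ := ih _ hcard (t.erase m) c2 rfl
          (fun j hj => hc2 j (Finset.mem_of_mem_erase hj))
        refine ⟨t', c', hsub.trans (Finset.erase_subset _ _), hpos', ?_, hli'⟩
        rw [hsum, ← hsum2, ← Finset.add_sum_erase t _ hmt, hc2m, zero_smul, zero_add]



/-- existence of a large multiplier -/
theorem exists_mult {N : Type} [Fintype N] (p C : N → ℝ) :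
    ∃ M : ℕ, 0 < M ∧ ∀ i, 0 < p i → C i < M * p i := by
  classical
  refine ⟨∑ i, ⌈C i / p i⌉₊ + 1, Nat.succ_pos _, ?_⟩
  intro i hi
  have h1 : C i / p i ≤ ⌈C i / p i⌉₊ := Nat.le_ceil _
  have h2 : (⌈C i / p i⌉₊ : ℝ) ≤ ((∑ i, ⌈C i / p i⌉₊ : ℕ) : ℝ) := by
    exact_mod_cast Finset.single_le_sum (f := fun i => ⌈C i / p i⌉₊) (fun _ _ => Nat.zero_le _) (Finset.mem_univ i)
  have h3 : C i / p i < ((∑ i, ⌈C i / p i⌉₊ + 1 : ℕ) : ℝ) := by
    push_cast
    push_cast at h2
    linarith
  rwa [div_lt_iff₀ hi] at h3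

/-- The set of "good" real vectors: integer valued, nonnegative, satisfying all the integer
relations of `p`. -/
def Good {N : Type} [Fintype N] (p : N → ℝ) : Set (N → ℝ) :=
  {y | ∃ u : N → ℤ, (∀ i, y i = u i) ∧ (∀ i, 0 ≤ u i) ∧
    ∀ a : N → ℤ, (∑ i, (a i : ℝ) * p i = 0) → ∑ i, a i * u i = 0}

theorem mem_convexHull_good {N : Type} [Fintype N] (p : N → ℝ) (hp : ∀ i, 0 ≤ p i) :
    ∃ M : ℕ, 0 < M ∧ ((M : ℝ) • p) ∈ convexHull ℝ (Good p) := by
  classical
  obtain ⟨s, q, r, hpr, hq0, hrel⟩ := exists_int_coords p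
  obtain ⟨M, hM, hMC⟩ := exists_mult p (fun i => ∑ j, |(q i j : ℝ)|)
  refine ⟨M, hM, ?_⟩
  let a : Fin s → ℤ := fun j => ⌊(M : ℝ) * r j⌋
  let V : Set (Fin s → ℝ) := Set.pi Set.univ (fun j => {(a j : ℝ), (a j : ℝ) + 1})
  let T : (Fin s → ℝ) →ₗ[ℝ] (N → ℝ) := (Matrix.of (fun i j => (q i j : ℝ))).mulVecLin
  have hT : ∀ x i, T x i = ∑ j, (q i j : ℝ) * x j := by
    intro x i
    simp [T, Matrix.mulVec, dotProduct]
  have hx : ((M : ℝ) • r) ∈ convexHull ℝ V := by
    apply mem_convexHull_pi
    intro j _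
    rw [convexHull_pair, segment_eq_Icc (by linarith)]
    constructor
    · exact Int.floor_le _
    · exact (Int.lt_floor_add_one _).le
  have hTx : T ((M : ℝ) • r) = (M : ℝ) • p := by
    ext i
    rw [hT]
    simp only [Pi.smul_apply, smul_eq_mul]
    rw [hpr i, Finset.mul_sum]
    apply Finset.sum_congr rfl
    intro j _; ring
  have h1 : (M : ℝ) • p ∈ convexHull ℝ (T '' V) := by
    rw [← hTx, ← LinearMap.image_convexHull]
    exact ⟨_, hx, rfl⟩
  refine convexHull_mono ?_ h1
  rintro _ ⟨v, hv, rfl⟩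
  have hv' : ∀ j, v j = (a j : ℝ) ∨ v j = (a j : ℝ) + 1 := by
    intro j
    have := hv j (Set.mem_univ j)
    simpa using this
  let vz : Fin s → ℤ := fun j => if v j = (a j : ℝ) then a j else a j + 1
  have hvz : ∀ j, v j = (vz j : ℝ) := by
    intro j
    simp only [vz]
    split_ifs with h
    · exact h
    · rcases hv' j with h' | h'
      · exact absurd h' h
      · rw [h']; push_cast; rfl
  have hclose : ∀ j, |v j - (M : ℝ) * r j| ≤ 1 := by
    intro j
    have h1 : (a j : ℝ) ≤ (M : ℝ) * r j := Int.floor_le _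
    have h2 : (M : ℝ) * r j < (a j : ℝ) + 1 := Int.lt_floor_add_one _
    rw [abs_le]
    rcases hv' j with h' | h' <;> rw [h'] <;> constructor <;> linarith
  refine ⟨fun i => ∑ j, q i j * vz j, ?_, ?_, ?_⟩
  · intro i
    rw [hT]
    push_cast
    apply Finset.sum_congr rfl
    intro j _
    rw [hvz j]
  · intro i
    rcases (hp i).lt_or_eq with hi | hi
    · -- positive case
      have key : (0 : ℝ) < ((∑ j, q i j * vz j : ℤ) : ℝ) := by
        push_cast
        have e1 : ∑ j, (q i j : ℝ) * (vz j : ℝ) =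
            (M : ℝ) * p i + ∑ j, (q i j : ℝ) * (v j - (M : ℝ) * r j) := by
          rw [hpr i, Finset.mul_sum, ← Finset.sum_add_distrib]
          apply Finset.sum_congr rfl
          intro j _
          rw [← hvz j]; ring
        have e2 : - ∑ j, |(q i j : ℝ)| ≤ ∑ j, (q i j : ℝ) * (v j - (M : ℝ) * r j) := by
          rw [← Finset.sum_neg_distrib]
          apply Finset.sum_le_sum
          intro j _
          have h3 : |(q i j : ℝ) * (v j - (M : ℝ) * r j)| ≤ |(q i j : ℝ)| := by
            rw [abs_mul]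
            exact mul_le_of_le_one_right (abs_nonneg _) (hclose j)
          exact neg_le_of_abs_le h3
        have e3 := hMC i hi
        rw [e1]; linarith
      exact_mod_cast key.le
    · have : ∀ j, q i j = 0 := hq0 i hi.symm
      simp [this]
  · intro b hb
    have h := hrel b hb
    calc ∑ i, b i * ∑ j, q i j * vz j = ∑ j, (∑ i, b i * q i j) * vz j := by
          simp only [Finset.mul_sum, Finset.sum_mul]
          rw [Finset.sum_comm]
          apply Finset.sum_congr rfl
          intro j _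
          apply Finset.sum_congr rfl
          intro i _; ring
      _ = 0 := by simp [h]

/-- Main theorem: a nonnegative real vector is a positive combination of linearly independent
nonnegative integer vectors satisfying all the integer relations it satisfies. -/
theorem exists_simplicial {N : Type} [Fintype N] (p : N → ℝ) (hp : ∀ i, 0 ≤ p i) :
    ∃ (l : ℕ) (u : Fin l → N → ℤ) (t : Fin l → ℝ),
      (∀ j i, 0 ≤ u j i) ∧ (∀ j, 0 < t j) ∧
      LinearIndependent ℝ (fun j : Fin l => (fun i => (u j i : ℝ))) ∧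
      (∀ i, p i = ∑ j, t j * (u j i : ℝ)) ∧
      (∀ a : N → ℤ, (∑ i, (a i : ℝ) * p i = 0) → ∀ j, ∑ i, a i * u j i = 0) := by
  classical
  obtain ⟨M, hM, hmem⟩ := mem_convexHull_good p hp
  rw [mem_convexHull_iff_exists_fintype] at hmem
  obtain ⟨ι, _, w, z, hw0, hw1, hz, hsum⟩ := hmem
  obtain ⟨t', c', -, hc'pos, hsum', hli⟩ :=
    conic_caratheodory z _ (Finset.univ : Finset ι) w rfl (fun i _ => hw0 i)
  rw [hsum] at hsum'
  choose uu huu using hz
  let e := t'.equivFin
  refine ⟨t'.card, fun j => uu (e.symm j), fun j => c' (e.symm j) / M, ?_, ?_, ?_, ?_, ?_⟩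
  · intro j i; exact (huu _).2.1 i
  · intro j; exact div_pos (hc'pos _ (e.symm j).2) (by exact_mod_cast hM)
  · have h2 : (fun j : Fin t'.card => (fun i => ((uu (e.symm j)) i : ℝ))) =
        (fun i : t' => z i) ∘ e.symm := by
      funext j i
      exact ((huu _).1 i).symm
    rw [h2]
    exact hli.comp _ e.symm.injective
  · intro i
    have hMne : (M : ℝ) ≠ 0 := by exact_mod_cast hM.ne'
    have h3 := congrFun hsum' i
    simp only [Finset.sum_apply, Pi.smul_apply, smul_eq_mul] at h3
    have h4 : ∑ j, c' (e.symm j) / (M : ℝ) * ((uu (e.symm j)) i : ℝ) =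
        (∑ k ∈ t', c' k * z k i) / M := by
      rw [Finset.sum_div, ← Finset.sum_coe_sort t', ← Equiv.sum_comp e.symm]
      apply Finset.sum_congr rfl
      intro j _
      rw [(huu _).1 i]; ring
    rw [h4, h3]
    field_simp
  · intro a ha j
    exact (huu _).2.2 a ha

end Groth.Agent.Lib.Helper4.FanCone1
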