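import Mathlib.Tactic
import Groth.Prelude.Def_W4c6instabfans3Fan
import Groth.Agent.Lib.Helper4.FanCone1

namespace Groth.Agent.Lib.Helper4.FanCone2

open CategoryTheory Opposite Instab Instab.Fan

/-- integer matrix of a cone morphism -/
def mat {k n : ICone} (φ : k ⟶ n) (j : Fin n.dim) (i : Fin k.dim) : ℤ :=
  φ.toLin (Pi.single i 1) j

theorem toLin_apply {k n : ICone} (φ : k ⟶ n) (x : Fin k.dim → ℤ) (j : Fin n.dim) :
    φ.toLin x j = ∑ i, mat φ j i * x i := by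
  have hx : x = ∑ i, x i • (Pi.single i (1 : ℤ) : Fin k.dim → ℤ) := by
    ext i'
    simp [Finset.sum_apply, Pi.single_apply]
  conv_lhs => rw [hx]
  rw [map_sum]
  simp only [map_smul, Finset.sum_apply, Pi.smul_apply, smul_eq_mul, mat]
  apply Finset.sum_congr rfl
  intro i _; ring

theorem realMap_apply {k n : ICone} (φ : k ⟶ n) (v : Fin k.dim → ℝ) (j : Fin n.dim) :
    φ.realMap v j = ∑ i, (mat φ j i : ℝ) * v i := rfl

theorem realMap_smul {k n : ICone} (φ : k ⟶ n) (c : ℝ) (v : Fin k.dim → ℝ) :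
    φ.realMap (c • v) = c • φ.realMap v := by
  ext j
  simp only [realMap_apply, Pi.smul_apply, smul_eq_mul, Finset.mul_sum]
  apply Finset.sum_congr rfl
  intro i _; ring

theorem mat_id (k : ICone) (j i : Fin k.dim) : mat (𝟙 k) j i = if j = i then 1 else 0 := by
  show (LinearMap.id : (Fin k.dim → ℤ) →ₗ[ℤ] _) (Pi.single i 1) j = _
  simp [Pi.single_apply]

theorem realMap_id (k : ICone) (v : Fin k.dim → ℝ) : (𝟙 k : k ⟶ k).realMap v = v := by
  ext j
  simp [realMap_apply, mat_id]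

theorem comp_toLin {k n m : ICone} (φ : k ⟶ n) (ψ : n ⟶ m) :
    (φ ≫ ψ).toLin = ψ.toLin.comp φ.toLin := rfl

theorem mat_comp {k n m : ICone} (φ : k ⟶ n) (ψ : n ⟶ m) (j : Fin m.dim) (i : Fin k.dim) :
    mat (φ ≫ ψ) j i = ∑ i', mat ψ j i' * mat φ i' i := by
  show ψ.toLin (φ.toLin (Pi.single i 1)) j = _
  rw [toLin_apply]
  rfl

theorem realMap_comp {k n m : ICone} (φ : k ⟶ n) (ψ : n ⟶ m) (v : Fin k.dim → ℝ) :
    (φ ≫ ψ).realMap v = ψ.realMap (φ.realMap v) := by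
  ext j
  simp only [realMap_apply, mat_comp]
  push_cast
  simp only [Finset.sum_mul, Finset.mul_sum]
  rw [Finset.sum_comm]
  apply Finset.sum_congr rfl
  intro i _
  apply Finset.sum_congr rfl
  intro i' _; ring

/-- cone of dimension `l` -/
abbrev cone (l : ℕ) (hl : 0 < l) : ICone := ⟨⟨l, hl⟩⟩

/-- Build a cone morphism from a linearly independent family of nonnegative integer vectors. -/
noncomputable def mkHom {k n : ICone} (u : Fin k.dim → Fin n.dim → ℤ)
    (hnn : ∀ j i, 0 ≤ u j i) (hli : LinearIndependent ℤ u) : k ⟶ n where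
  toLin := Fintype.linearCombination ℤ u
  injective := by
    rw [Fintype.linearIndependent_iff] at hli
    rw [← LinearMap.ker_eq_bot, LinearMap.ker_eq_bot']
    intro x hx
    ext j
    refine hli x ?_ j
    rw [Fintype.linearCombination_apply] at hx
    exact hx
  nonneg := by
    intro v hv j
    rw [Fintype.linearCombination_apply]
    simp only [Finset.sum_apply, Pi.smul_apply, smul_eq_mul]
    exact Finset.sum_nonneg (fun i _ => mul_nonneg (hv i) (hnn i j))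

theorem mkHom_mat {k n : ICone} (u : Fin k.dim → Fin n.dim → ℤ)
    (hnn : ∀ j i, 0 ≤ u j i) (hli : LinearIndependent ℤ u) (j : Fin n.dim) (i : Fin k.dim) :
    mat (mkHom u hnn hli) j i = u i j := by
  show (Fintype.linearCombination ℤ u) (Pi.single i 1) j = u i j
  rw [Fintype.linearCombination_apply]
  simp only [Finset.sum_apply, Pi.smul_apply, smul_eq_mul, Pi.single_apply]
  simp

theorem hom_ext_mat {k n : ICone} (φ ψ : k ⟶ n) (h : ∀ j i, mat φ j i = mat ψ j i) : φ = ψ := by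
  apply ICone.Hom.ext
  apply LinearMap.ext
  intro x
  ext j
  rw [toLin_apply, toLin_apply]
  simp only [h]

/-- Amalgamation: two cone morphisms into a common cone whose real maps agree on given points
admit a common simplicial refinement through the points. -/
theorem exists_amalg {k k' m : ICone} (φ : k ⟶ m) (ψ : k' ⟶ m) (y : Orth k) (y' : Orth k')
    (h : φ.realMap y.1 = ψ.realMap y'.1) :
    ∃ (l : ICone) (α : l ⟶ k) (β : l ⟶ k') (z : Orth l),
      α ≫ φ = β ≫ ψ ∧ α.realMap z.1 = y.1 ∧ β.realMap z.1 = y'.1 := by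
  classical
  let p : Fin k.dim ⊕ Fin k'.dim → ℝ := Sum.elim y.1 y'.1
  have hp : ∀ i, 0 ≤ p i := by
    rintro (i | i)
    · exact y.2.1 i
    · exact y'.2.1 i
  obtain ⟨l, u, t, hnn, htpos, hli, hsum, hrel⟩ := FanCone1.exists_simplicial p hp
  have hl : 0 < l := by
    rcases Nat.eq_zero_or_pos l with h0 | h0
    · exfalso
      subst h0
      apply y.2.2
      funext i
      have := hsum (Sum.inl i)
      simpa [p] using this
    · exact h0
  let u1 : Fin l → Fin k.dim → ℤ := fun j i => u j (Sum.inl i)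
  let u2 : Fin l → Fin k'.dim → ℤ := fun j i => u j (Sum.inr i)
  -- relations
  have hφψ : ∀ j, φ.toLin (u1 j) = ψ.toLin (u2 j) := by
    intro j
    ext j₀
    rw [toLin_apply, toLin_apply]
    have hr := hrel (Sum.elim (fun i => mat φ j₀ i) (fun i => - mat ψ j₀ i)) ?_ j
    · rw [Fintype.sum_sum_type] at hr
      simp only [Sum.elim_inl, Sum.elim_inr, neg_mul, Finset.sum_neg_distrib] at hr
      linarith
    · rw [Fintype.sum_sum_type]
      simp only [Sum.elim_inl, Sum.elim_inr, p]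
      have h1 := congrFun h j₀
      rw [realMap_apply, realMap_apply] at h1
      push_cast
      simp only [neg_mul, Finset.sum_neg_distrib]
      linarith
  have hli1 : LinearIndependent ℤ u1 ∧ LinearIndependent ℤ u2 := by
    have main : ∀ x : Fin l → ℤ, (∑ j, x j • u1 j = 0 ∨ ∑ j, x j • u2 j = 0) → ∀ j, x j = 0 := by
      intro x hx
      have h1 : ∑ j, x j • u1 j = 0 ∧ ∑ j, x j • u2 j = 0 := by
        have e : φ.toLin (∑ j, x j • u1 j) = ψ.toLin (∑ j, x j • u2 j) := by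
          simp only [map_sum, map_smul, hφψ]
        rcases hx with hx | hx
        · refine ⟨hx, ?_⟩
          rw [hx, map_zero] at e
          exact ψ.injective (by rw [← e, map_zero])
        · refine ⟨?_, hx⟩
          rw [hx, map_zero] at e
          exact φ.injective (by rw [e, map_zero])
      rw [Fintype.linearIndependent_iff] at hli
      have hcast : ∀ j, ((x j : ℤ) : ℝ) = 0 := by
        apply hli (fun j => (x j : ℝ))
        funext i
        simp only [Finset.sum_apply, Pi.smul_apply, smul_eq_mul, Pi.zero_apply]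
        rcases i with i | i
        · have := congrFun h1.1 i
          simp only [Finset.sum_apply, Pi.smul_apply, smul_eq_mul, Pi.zero_apply, u1] at this
          exact_mod_cast this
        · have := congrFun h1.2 i
          simp only [Finset.sum_apply, Pi.smul_apply, smul_eq_mul, Pi.zero_apply, u2] at this
          exact_mod_cast this
      intro j
      exact_mod_cast hcast j
    constructor
    · rw [Fintype.linearIndependent_iff]
      intro x hx
      exact main x (Or.inl hx)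
    · rw [Fintype.linearIndependent_iff]
      intro x hx
      exact main x (Or.inr hx)
  let α : cone l hl ⟶ k := mkHom (k := cone l hl) u1 (fun j i => hnn j _) hli1.1
  let β : cone l hl ⟶ k' := mkHom (k := cone l hl) u2 (fun j i => hnn j _) hli1.2
  have hα : ∀ i j, mat α i j = u1 j i := fun i j => mkHom_mat (k := cone l hl) u1 _ _ i j
  have hβ : ∀ i j, mat β i j = u2 j i := fun i j => mkHom_mat (k := cone l hl) u2 _ _ i j
  have htne : (t : Fin l → ℝ) ≠ 0 := by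
    intro h0
    have := htpos ⟨0, hl⟩
    rw [h0] at this
    exact lt_irrefl _ this
  refine ⟨cone l hl, α, β, ⟨t, fun j => (htpos j).le, htne⟩, ?_, ?_, ?_⟩
  · apply hom_ext_mat
    intro j₀ j
    rw [mat_comp, mat_comp]
    have := congrFun (hφψ j) j₀
    rw [toLin_apply, toLin_apply] at this
    simp only [hα, hβ]
    exact this
  · funext i
    rw [realMap_apply]
    simp only [hα]
    have := hsum (Sum.inl i)
    simp only [p, Sum.elim_inl] at this
    rw [this]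
    apply Finset.sum_congr rfl
    intro j _
    simp only [u1]; ring
  · funext i
    rw [realMap_apply]
    simp only [hβ]
    have := hsum (Sum.inr i)
    simp only [p, Sum.elim_inr] at this
    rw [this]
    apply Finset.sum_congr rfl
    intro j _
    simp only [u2]; ring

/-- positive rescaling of a point of the punctured orthant -/
def osmul {n : ICone} (c : ℝ) (hc : 0 < c) (v : Orth n) : Orth n :=
  ⟨c • v.1, fun i => by
      simp only [Pi.smul_apply, smul_eq_mul]; exact mul_nonneg hc.le (v.2.1 i),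
    fun h => v.2.2 (by
      have := congrArg (fun w => c⁻¹ • w) h
      simpa [smul_smul, inv_mul_cancel₀ hc.ne'] using this)⟩

@[simp] theorem osmul_val {n : ICone} (c : ℝ) (hc : 0 < c) (v : Orth n) :
    (osmul c hc v).1 = c • v.1 := rfl

universe u

/-- the common-subcone relation -/
def Sub (F : Fan.{u}) {n₁ n₂ : ICone} (σ₁ : F.obj (op n₁)) (σ₂ : F.obj (op n₂))
    (v₁ : Orth n₁) (v₂ : Orth n₂) : Prop :=
  ∃ (k : ICone) (φ₁ : k ⟶ n₁) (φ₂ : k ⟶ n₂) (y : Orth k) (c₁ c₂ : ℝ),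
    F.map φ₁.op σ₁ = F.map φ₂.op σ₂ ∧ 0 < c₁ ∧ 0 < c₂ ∧
      v₁.1 = c₁ • φ₁.realMap y.1 ∧ v₂.1 = c₂ • φ₂.realMap y.1

theorem Sub.refl (F : Fan.{u}) {n : ICone} (σ : F.obj (op n)) (v : Orth n) : Sub F σ σ v v :=
  ⟨n, 𝟙 n, 𝟙 n, v, 1, 1, rfl, one_pos, one_pos, by simp [realMap_id], by simp [realMap_id]⟩

theorem Sub.symm {F : Fan.{u}} {n₁ n₂ : ICone} {σ₁ : F.obj (op n₁)} {σ₂ : F.obj (op n₂)}
    {v₁ : Orth n₁} {v₂ : Orth n₂} (h : Sub F σ₁ σ₂ v₁ v₂) : Sub F σ₂ σ₁ v₂ v₁ := by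
  obtain ⟨k, φ₁, φ₂, y, c₁, c₂, e, h1, h2, e1, e2⟩ := h
  exact ⟨k, φ₂, φ₁, y, c₂, c₁, e.symm, h2, h1, e2, e1⟩

theorem Sub.trans {F : Fan.{u}} {n₁ n₂ n₃ : ICone} {σ₁ : F.obj (op n₁)} {σ₂ : F.obj (op n₂)}
    {σ₃ : F.obj (op n₃)} {v₁ : Orth n₁} {v₂ : Orth n₂} {v₃ : Orth n₃}
    (h12 : Sub F σ₁ σ₂ v₁ v₂) (h23 : Sub F σ₂ σ₃ v₂ v₃) : Sub F σ₁ σ₃ v₁ v₃ := by
  obtain ⟨k, φ₁, φ₂, y, c₁, c₂, e, hc1, hc2, e1, e2⟩ := h12
  obtain ⟨k', ψ₂, ψ₃, y', d₂, d₃, e', hd2, hd3, e2', e3'⟩ := h23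
  have hh : φ₂.realMap (osmul c₂ hc2 y).1 = ψ₂.realMap (osmul d₂ hd2 y').1 := by
    rw [osmul_val, osmul_val, realMap_smul, realMap_smul, ← e2, ← e2']
  obtain ⟨l, α, β, z, hαβ, hα, hβ⟩ := exists_amalg φ₂ ψ₂ _ _ hh
  rw [osmul_val] at hα hβ
  refine ⟨l, α ≫ φ₁, β ≫ ψ₃, z, c₁ / c₂, d₃ / d₂, ?_, div_pos hc1 hc2, div_pos hd3 hd2, ?_, ?_⟩
  · calc F.map (α ≫ φ₁).op σ₁ = F.map α.op (F.map φ₁.op σ₁) := by
          rw [op_comp, Functor.map_comp_apply]
      _ = F.map α.op (F.map φ₂.op σ₂) := by rw [e]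
      _ = F.map (α ≫ φ₂).op σ₂ := by rw [op_comp, Functor.map_comp_apply]
      _ = F.map (β ≫ ψ₂).op σ₂ := by rw [hαβ]
      _ = F.map β.op (F.map ψ₂.op σ₂) := by rw [op_comp, Functor.map_comp_apply]
      _ = F.map β.op (F.map ψ₃.op σ₃) := by rw [e']
      _ = F.map (β ≫ ψ₃).op σ₃ := by rw [op_comp, Functor.map_comp_apply]
  · rw [realMap_comp, hα, realMap_smul, smul_smul, div_mul_cancel₀ _ hc2.ne', e1]
  · rw [realMap_comp, hβ, realMap_smul, smul_smul, div_mul_cancel₀ _ hd2.ne', e3']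

/-- the relation on points of the disjoint union -/
def SubPt (F : Fan.{u}) (p q : Pt F) : Prop := Sub F p.1.2 q.1.2 p.2 q.2

theorem subPt_of_rel {F : Fan.{u}} {p q : Pt F} (h : Rel F p q) : SubPt F p q := by
  obtain ⟨φ, ξ, v, w, c, hc, hw⟩ := h
  exact ⟨_, 𝟙 _, φ, v, 1, c, by simp, one_pos, hc, by simp [realMap_id], hw⟩

theorem subPt_of_eqvGen {F : Fan.{u}} {p q : Pt F} (h : Relation.EqvGen (Rel F) p q) :
    SubPt F p q := by
  induction h with
  | rel _ _ h => exact subPt_of_rel h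
  | refl p => exact Sub.refl F _ _
  | symm _ _ _ ih => exact Sub.symm ih
  | trans _ _ _ _ _ ih1 ih2 => exact Sub.trans ih1 ih2

/-- Key lemma: equality of points of the realization gives a common subcone. -/
theorem sub_of_mk_eq {F : Fan.{u}} {n₁ n₂ : ICone} (σ₁ : F.obj (op n₁)) (σ₂ : F.obj (op n₂))
    (v₁ : Orth n₁) (v₂ : Orth n₂) (h : P.mk σ₁ v₁ = P.mk σ₂ v₂) : Sub F σ₁ σ₂ v₁ v₂ :=
  subPt_of_eqvGen (p := ⟨⟨n₁, σ₁⟩, v₁⟩) (q := ⟨⟨n₂, σ₂⟩, v₂⟩) (Quot.eqvGen_exact h)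

/-- Converse: a common subcone gives equality in the realization. -/
theorem mk_eq_of_sub {F : Fan.{u}} {n₁ n₂ : ICone} {σ₁ : F.obj (op n₁)} {σ₂ : F.obj (op n₂)}
    {v₁ : Orth n₁} {v₂ : Orth n₂} (h : Sub F σ₁ σ₂ v₁ v₂) : P.mk σ₁ v₁ = P.mk σ₂ v₂ := by
  obtain ⟨k, φ₁, φ₂, y, c₁, c₂, e, h1, h2, e1, e2⟩ := h
  have a1 : P.mk (F.map φ₁.op σ₁) y = P.mk σ₁ v₁ := Quot.sound (Rel.glue φ₁ σ₁ y v₁ c₁ h1 e1)
  have a2 : P.mk (F.map φ₂.op σ₂) y = P.mk σ₂ v₂ := Quot.sound (Rel.glue φ₂ σ₂ y v₂ c₂ h2 e2)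
  rw [← a1, ← a2, e]

theorem mk_eq_iff {F : Fan.{u}} {n₁ n₂ : ICone} (σ₁ : F.obj (op n₁)) (σ₂ : F.obj (op n₂))
    (v₁ : Orth n₁) (v₂ : Orth n₂) : P.mk σ₁ v₁ = P.mk σ₂ v₂ ↔ Sub F σ₁ σ₂ v₁ v₂ :=
  ⟨sub_of_mk_eq σ₁ σ₂ v₁ v₂, mk_eq_of_sub⟩

/-- every point of the realization is of the form `P.mk σ v` -/
theorem exists_mk {F : Fan.{u}} (x : P F) : ∃ (n : ICone) (σ : F.obj (op n)) (v : Orth n), x = P.mk σ v := by
  obtain ⟨⟨⟨n, σ⟩, v⟩, rfl⟩ := Quot.exists_rep x
  exact ⟨n, σ, v, rfl⟩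

theorem map_mk {F G : Fan.{u}} (f : F ⟶ G) {n : ICone} (σ : F.obj (op n)) (v : Orth n) :
    P.map f (P.mk σ v) = P.mk (f.app (op n) σ) v := rfl

/-- the basic glue identity -/
theorem mk_map_eq {F : Fan.{u}} {k n : ICone} (φ : k ⟶ n) (ξ : F.obj (op n)) (v : Orth k) (w : Orth n)
    (c : ℝ) (hc : 0 < c) (h : w.1 = c • φ.realMap v.1) : P.mk (F.map φ.op ξ) v = P.mk ξ w :=
  Quot.sound (Rel.glue φ ξ v w c hc h)

end Groth.Agent.Lib.Helper4.FanCone2
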