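import Mathlib.Tactic
import Mathlib.CategoryTheory.Limits.Types.Pullbacks
import Mathlib.CategoryTheory.Limits.FunctorCategory.Basic
import Mathlib.CategoryTheory.Limits.Shapes.Pullback.IsPullback.Basic
import Groth.Prelude.Def_W4c6instabfans3Fan
import Groth.Agent.Lib.Helper4.FanCone2

namespace Groth.Agent.Lib.Helper4.FanCone3

open CategoryTheory Opposite Instab Instab.Fan Limits
open Groth.Agent.Lib.Helper4.FanCone2

universe u

section pb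
variable {F F' G : Fan.{u}} (f : F ⟶ G) (g : F' ⟶ G)

theorem pb_isPullback (X : IConeᵒᵖ) :
    IsPullback ((pullback.fst f g).app X) ((pullback.snd f g).app X) (f.app X) (g.app X) :=
  (IsPullback.of_hasPullback f g).map ((evaluation IConeᵒᵖ (Type u)).obj X)

theorem pb_ext {X : IConeᵒᵖ} (z z' : (pullback f g).obj X)
    (h1 : (pullback.fst f g).app X z = (pullback.fst f g).app X z')
    (h2 : (pullback.snd f g).app X z = (pullback.snd f g).app X z') : z = z' :=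
  Types.ext_of_isPullback (pb_isPullback f g X) h1 h2

theorem pb_exists {X : IConeᵒᵖ} (a : F.obj X) (b : F'.obj X) (h : f.app X a = g.app X b) :
    ∃ z : (pullback f g).obj X, (pullback.fst f g).app X z = a ∧ (pullback.snd f g).app X z = b :=
  Types.exists_of_isPullback (pb_isPullback f g X) a b h

theorem pb_condition {X : IConeᵒᵖ} (z : (pullback f g).obj X) :
    f.app X ((pullback.fst f g).app X z) = g.app X ((pullback.snd f g).app X z) := by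
  have := congrArg (fun t => t.app X) (pullback.condition (f := f) (g := g))
  exact ConcreteCategory.congr_hom this z

end pb

/-- reflecting the common-subcone relation along a levelwise injective map -/
theorem sub_of_sub_map {F G : Fan.{u}} (f : F ⟶ G) (hf : ∀ n : ICone, Function.Injective (f.app (op n)))
    {n₁ n₂ : ICone} {σ₁ : F.obj (op n₁)} {σ₂ : F.obj (op n₂)} {v₁ : Orth n₁} {v₂ : Orth n₂}
    (h : Sub G (f.app _ σ₁) (f.app _ σ₂) v₁ v₂) : Sub F σ₁ σ₂ v₁ v₂ := by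
  obtain ⟨k, φ₁, φ₂, y, c₁, c₂, e, h1, h2, e1, e2⟩ := h
  refine ⟨k, φ₁, φ₂, y, c₁, c₂, ?_, h1, h2, e1, e2⟩
  apply hf k
  have n1 : f.app _ (F.map φ₁.op σ₁) = G.map φ₁.op (f.app _ σ₁) := NatTrans.naturality_apply f φ₁.op σ₁
  have n2 : f.app _ (F.map φ₂.op σ₂) = G.map φ₂.op (f.app _ σ₂) := NatTrans.naturality_apply f φ₂.op σ₂
  rw [n1, n2, e]

theorem sub_map {F G : Fan.{u}} (f : F ⟶ G)
    {n₁ n₂ : ICone} {σ₁ : F.obj (op n₁)} {σ₂ : F.obj (op n₂)} {v₁ : Orth n₁} {v₂ : Orth n₂}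
    (h : Sub F σ₁ σ₂ v₁ v₂) : Sub G (f.app _ σ₁) (f.app _ σ₂) v₁ v₂ := by
  obtain ⟨k, φ₁, φ₂, y, c₁, c₂, e, h1, h2, e1, e2⟩ := h
  refine ⟨k, φ₁, φ₂, y, c₁, c₂, ?_, h1, h2, e1, e2⟩
  have n1 : f.app _ (F.map φ₁.op σ₁) = G.map φ₁.op (f.app _ σ₁) := NatTrans.naturality_apply f φ₁.op σ₁
  have n2 : f.app _ (F.map φ₂.op σ₂) = G.map φ₂.op (f.app _ σ₂) := NatTrans.naturality_apply f φ₂.op σ₂
  rw [← n1, ← n2, e]

theorem main19358 {F G : Fan.{u}} (f : F ⟶ G) :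
    ((∀ n : ICone, Function.Injective (f.app (op n))) → Function.Injective (Fan.P.map f)) ∧
    ((∀ n : ICone, Function.Surjective (f.app (op n))) → Function.Surjective (Fan.P.map f)) := by
  constructor
  · intro hf x x' hxx'
    obtain ⟨n₁, σ₁, v₁, rfl⟩ := exists_mk x
    obtain ⟨n₂, σ₂, v₂, rfl⟩ := exists_mk x'
    rw [map_mk, map_mk] at hxx'
    exact mk_eq_of_sub (sub_of_sub_map f hf (sub_of_mk_eq _ _ _ _ hxx'))
  · intro hf y
    obtain ⟨n, τ, v, rfl⟩ := exists_mk y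
    obtain ⟨σ, rfl⟩ := hf n τ
    exact ⟨P.mk σ v, rfl⟩

/-- S19360 -/
theorem main19360 {F F' G : Fan.{u}} (f : F ⟶ G) (g : F' ⟶ G)
    (x : Fan.P F) (x' : Fan.P F') (h : Fan.P.map f x = Fan.P.map g x') :
    ∃ y : Fan.P (Limits.pullback f g),
      Fan.P.map (Limits.pullback.fst f g) y = x ∧ Fan.P.map (Limits.pullback.snd f g) y = x' := by
  obtain ⟨n₁, σ₁, v₁, rfl⟩ := exists_mk x
  obtain ⟨n₂, σ₂, v₂, rfl⟩ := exists_mk x'
  rw [map_mk, map_mk] at h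
  obtain ⟨k, φ₁, φ₂, y, c₁, c₂, e, h1, h2, e1, e2⟩ := sub_of_mk_eq _ _ _ _ h
  have n1 : f.app _ (F.map φ₁.op σ₁) = G.map φ₁.op (f.app _ σ₁) := NatTrans.naturality_apply f φ₁.op σ₁
  have n2 : g.app _ (F'.map φ₂.op σ₂) = G.map φ₂.op (g.app _ σ₂) := NatTrans.naturality_apply g φ₂.op σ₂
  obtain ⟨z, hz1, hz2⟩ := pb_exists f g (F.map φ₁.op σ₁) (F'.map φ₂.op σ₂) (by rw [n1, n2, e])
  refine ⟨P.mk z y, ?_, ?_⟩
  · rw [map_mk, hz1]
    exact mk_map_eq φ₁ σ₁ y v₁ c₁ h1 e1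
  · rw [map_mk, hz2]
    exact mk_map_eq φ₂ σ₂ y v₂ c₂ h2 e2

theorem map_comp {F G H : Fan.{u}} (a : F ⟶ G) (b : G ⟶ H) (x : P F) :
    P.map (a ≫ b) x = P.map b (P.map a x) := by
  obtain ⟨n, σ, v, rfl⟩ := exists_mk x
  rfl

theorem range_map_comp_of_surj {F G H : Fan.{u}} (a : F ⟶ G) (b : G ⟶ H)
    (ha : ∀ n : ICone, Function.Surjective (a.app (op n))) :
    Set.range (P.map (a ≫ b)) = Set.range (P.map b) := by
  have : P.map (a ≫ b) = P.map b ∘ P.map a := funext (map_comp a b)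
  rw [this, ((main19358 a).2 ha).range_comp]

theorem main19362 {F G G' : Fan.{u}} (f : F ⟶ G) (g : G' ⟶ G) :
    Set.range (Fan.P.map f) = Set.range (Fan.P.map (Subfunctor.range f).ι) ∧
    Set.range (Fan.P.map (Limits.pullback.snd f g)) = Fan.P.map g ⁻¹' Set.range (Fan.P.map f) := by
  constructor
  · have h := range_map_comp_of_surj (Subfunctor.toRange f) (Subfunctor.range f).ι (by
      intro n ⟨τ, σ, hσ⟩
      refine ⟨σ, Subtype.ext ?_⟩
      rw [Subfunctor.toRange_app_val]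
      exact hσ)
    rw [Subfunctor.toRange_ι] at h
    exact h
  · ext x'
    constructor
    · rintro ⟨y, rfl⟩
      refine ⟨P.map (pullback.fst f g) y, ?_⟩
      rw [← map_comp, ← map_comp, pullback.condition]
    · rintro ⟨x, hx⟩
      obtain ⟨y, -, hy⟩ := main19360 f g x x' hx
      exact ⟨y, hy⟩

theorem mk_ι {F : Fan.{u}} (S : Subfunctor F) {n : ICone} (σ : S.toFunctor.obj (op n)) (v : Orth n) :
    P.map S.ι (P.mk σ v) = P.mk (σ : F.obj (op n)) v := rfl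

theorem mem_range_ι_iff {F : Fan.{u}} (S : Subfunctor F) (x : P F) :
    x ∈ Set.range (P.map S.ι) ↔ ∃ (n : ICone) (σ : F.obj (op n)) (v : Orth n), σ ∈ S.obj (op n) ∧ x = P.mk σ v := by
  constructor
  · rintro ⟨y, rfl⟩
    obtain ⟨n, σ, v, rfl⟩ := exists_mk y
    exact ⟨n, σ.1, v, σ.2, rfl⟩
  · rintro ⟨n, σ, v, hσ, rfl⟩
    exact ⟨P.mk (F := S.toFunctor) ⟨σ, hσ⟩ v, rfl⟩

theorem main19368 (F : Fan.{u}) :
    (∀ U V : Set (Fan.P F), Fan.IsRealizable U → Fan.IsRealizable V → Fan.IsRealizable (U ∩ V)) ∧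
    ∀ (ι : Type u) (U : ι → Set (Fan.P F)), (∀ i, Fan.IsRealizable (U i)) →
      Fan.IsRealizable (Set.iUnion U) := by
  constructor
  · rintro U V ⟨S, rfl⟩ ⟨T, rfl⟩
    refine ⟨S ⊓ T, ?_⟩
    ext x
    simp only [Set.mem_inter_iff, mem_range_ι_iff]
    constructor
    · rintro ⟨⟨n₁, σ₁, v₁, h₁, rfl⟩, ⟨n₂, σ₂, v₂, h₂, e⟩⟩
      obtain ⟨k, φ₁, φ₂, y, c₁, c₂, e', h1, h2, e1, e2⟩ := sub_of_mk_eq _ _ _ _ e
      refine ⟨k, F.map φ₁.op σ₁, y, ?_, (mk_map_eq φ₁ σ₁ y v₁ c₁ h1 e1).symm⟩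
      rw [Subfunctor.min_obj]
      refine ⟨S.map φ₁.op h₁, ?_⟩
      rw [e']
      exact T.map φ₂.op h₂
    · rintro ⟨n, σ, v, hσ, rfl⟩
      rw [Subfunctor.min_obj] at hσ
      exact ⟨⟨n, σ, v, hσ.1, rfl⟩, ⟨n, σ, v, hσ.2, rfl⟩⟩
  · intro ι U hU
    choose S hS using hU
    refine ⟨⨆ i, S i, ?_⟩
    ext x
    simp only [Set.mem_iUnion, hS, mem_range_ι_iff, Subfunctor.iSup_obj]
    constructor
    · rintro ⟨i, n, σ, v, hσ, rfl⟩
      exact ⟨n, σ, v, ⟨i, hσ⟩, rfl⟩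
    · rintro ⟨n, σ, v, ⟨i, hσ⟩, rfl⟩
      exact ⟨i, n, σ, v, hσ, rfl⟩

end Groth.Agent.Lib.Helper4.FanCone3
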