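import Mathlib.Tactic
import Groth.Prelude.Def_W4c6instabfans3Fan
import Groth.Agent.Lib.Helper4.FanCone3

namespace Groth.Agent.Lib.Helper4.FanCone4

open CategoryTheory Opposite Instab Instab.Fan Limits
open Groth.Agent.Lib.Helper4.FanCone2 Groth.Agent.Lib.Helper4.FanCone3

universe u

theorem mat_nonneg {k n : ICone} (φ : k ⟶ n) (j : Fin n.dim) (i : Fin k.dim) : 0 ≤ mat φ j i := by
  apply φ.nonneg
  intro i'
  simp only [Pi.single_apply]
  split_ifs <;> norm_num

theorem realMap_nonneg {k n : ICone} (φ : k ⟶ n) (v : Fin k.dim → ℝ) (hv : ∀ i, 0 ≤ v i)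
    (j : Fin n.dim) : 0 ≤ φ.realMap v j := by
  rw [realMap_apply]
  exact Finset.sum_nonneg (fun i _ => mul_nonneg (by exact_mod_cast mat_nonneg φ j i) (hv i))

theorem realMap_ne_zero {k n : ICone} (φ : k ⟶ n) (v : Fin k.dim → ℝ) (hv : ∀ i, 0 ≤ v i)
    (hne : v ≠ 0) : φ.realMap v ≠ 0 := by
  intro h0
  apply hne
  funext i₀
  by_contra hi₀
  have hpos : 0 < v i₀ := lt_of_le_of_ne (hv i₀) (Ne.symm hi₀)
  -- column i₀ of the matrix vanishes
  have hcol : ∀ j, mat φ j i₀ = 0 := by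
    intro j
    have h1 := congrFun h0 j
    rw [realMap_apply] at h1
    have h2 := (Finset.sum_eq_zero_iff_of_nonneg (fun i _ =>
      mul_nonneg (by exact_mod_cast mat_nonneg φ j i) (hv i))).1 h1 i₀ (Finset.mem_univ _)
    rcases mul_eq_zero.1 h2 with h3 | h3
    · exact_mod_cast h3
    · exact absurd h3 hpos.ne'
  have hz : φ.toLin (Pi.single i₀ 1) = 0 := by
    funext j
    exact hcol j
  have := φ.injective (hz.trans (map_zero _).symm)
  have h1 := congrFun this i₀
  simp at h1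

/-- image of a point of the punctured orthant under a cone morphism -/
noncomputable def omap {k n : ICone} (φ : k ⟶ n) (v : Orth k) : Orth n :=
  ⟨φ.realMap v.1, realMap_nonneg φ v.1 v.2.1, realMap_ne_zero φ v.1 v.2.1 v.2.2⟩

@[simp] theorem omap_val {k n : ICone} (φ : k ⟶ n) (v : Orth k) : (omap φ v).1 = φ.realMap v.1 := rfl

theorem mk_map_omap {F : Fan.{u}} {k n : ICone} (φ : k ⟶ n) (ξ : F.obj (op n)) (v : Orth k) :
    P.mk (F.map φ.op ξ) v = P.mk ξ (omap φ v) :=
  mk_map_eq φ ξ v (omap φ v) 1 one_pos (by simp)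

theorem coneMap_app {F : Fan.{u}} {n : ICone} (σ : F.obj (op n)) {k : ICone}
    (y : (uliftYoneda.{u}.obj n).obj (op k)) :
    (coneMap σ).app (op k) y = F.map y.down.op σ := rfl

theorem coneMap_comp {F G : Fan.{u}} (f : F ⟶ G) {n : ICone} (σ : F.obj (op n)) :
    coneMap σ ≫ f = coneMap (f.app _ σ) :=
  uliftYonedaEquiv_symm_comp σ f

theorem yoneda_map {n k k' : ICone} (α : k' ⟶ k) (y : (uliftYoneda.{u}.obj n).obj (op k)) :
    (uliftYoneda.{u}.obj n).map α.op y = ULift.up (α ≫ y.down) := rfl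

theorem isBounded_yoneda (n : ICone) : IsBounded (uliftYoneda.{u}.obj n) := by
  classical
  refine ⟨{⟨n, ULift.up (𝟙 n)⟩}, ?_⟩
  intro x
  obtain ⟨k, σ, v, rfl⟩ := exists_mk x
  refine ⟨⟨n, ULift.up (𝟙 n)⟩, Finset.mem_singleton_self _, ?_⟩
  refine ⟨omap σ.down v, ?_⟩
  rw [← mk_map_omap]
  congr 1

/-- element of the representable fan -/
def yo (n : ICone) {k : ICone} (φ : k ⟶ n) : (uliftYoneda.{u}.obj n).obj (op k) := ULift.up φ

@[simp] theorem yo_down (n : ICone) {k : ICone} (φ : k ⟶ n) : (yo.{u} n φ).down = φ := rfl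

theorem coneMap_app_yo {F : Fan.{u}} {n : ICone} (σ : F.obj (op n)) {k : ICone} (φ : k ⟶ n) :
    (coneMap σ).app (op k) (yo n φ) = F.map φ.op σ := rfl

theorem comp_app_apply {F G H : Fan.{u}} (a : F ⟶ G) (b : G ⟶ H) (X : IConeᵒᵖ) (x : F.obj X) :
    (a ≫ b).app X x = b.app X (a.app X x) := rfl

theorem main19359 (G : Fan.{u}) :
    G.IsQuasiSeparated ↔
      ∀ (F : Fan.{u}) (f : F ⟶ G), F.IsBounded → Fan.IsBoundedMap f := by
  constructor
  · rintro hG F f ⟨s, hs⟩ n σ
    classical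
    have hQ : ∀ e : (Σ m : ICone, F.obj (op m)),
        IsBounded (pullback (coneMap (f.app _ e.2)) (coneMap σ)) := fun e => hG _ _ _ _
    choose se hse using hQ
    let θ : ∀ e : (Σ m : ICone, F.obj (op m)),
        pullback (coneMap (f.app _ e.2)) (coneMap σ) ⟶ pullback f (coneMap σ) := fun e =>
      pullback.lift (pullback.fst _ _ ≫ coneMap e.2) (pullback.snd _ _) (by
        rw [Category.assoc, coneMap_comp, pullback.condition])
    have hθ1 : ∀ e, θ e ≫ pullback.fst f (coneMap σ) = pullback.fst _ _ ≫ coneMap e.2 :=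
      fun e => pullback.lift_fst _ _ _
    have hθ2 : ∀ e, θ e ≫ pullback.snd f (coneMap σ) = pullback.snd _ _ :=
      fun e => pullback.lift_snd _ _ _
    refine ⟨s.biUnion (fun e => (se e).image (fun c => ⟨c.1, (θ e).app _ c.2⟩)), ?_⟩
    intro x
    obtain ⟨k, z, v, rfl⟩ := exists_mk x
    have hcond := pb_condition f (coneMap σ) z
    rw [coneMap_app] at hcond
    obtain ⟨e, hes, w, hw⟩ := hs (P.mk ((pullback.fst f (coneMap σ)).app _ z) v)
    obtain ⟨k', φ₁, φ₂, y, c₁, c₂, e', h1, h2, e1, e2⟩ := sub_of_mk_eq _ _ _ _ hw.symm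
    obtain ⟨q, hq1, hq2⟩ := pb_exists (coneMap (f.app _ e.2)) (coneMap σ) (X := op k')
      (yo _ φ₂) (yo _ (φ₁ ≫ ((pullback.snd f (coneMap σ)).app _ z).down)) (by
        rw [coneMap_app_yo, coneMap_app_yo]
        rw [op_comp, Functor.map_comp_apply, ← hcond]
        have n1 := NatTrans.naturality_apply f φ₁.op ((pullback.fst f (coneMap σ)).app _ z)
        have n2 := NatTrans.naturality_apply f φ₂.op e.2
        rw [← n1, ← n2, e'])
    have hz' : (pullback f (coneMap σ)).map φ₁.op z = (θ e).app _ q := by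
      apply pb_ext f (coneMap σ)
      · rw [NatTrans.naturality_apply, ← comp_app_apply, hθ1, comp_app_apply, hq1, coneMap_app_yo]
        exact e'
      · rw [NatTrans.naturality_apply, ← comp_app_apply, hθ2, hq2]
        rfl
    obtain ⟨c, hc, w', hw'⟩ := hse e (P.mk q y)
    refine ⟨⟨c.1, (θ e).app _ c.2⟩, ?_, w', ?_⟩
    · rw [Finset.mem_biUnion]
      exact ⟨e, hes, Finset.mem_image.2 ⟨c, hc, rfl⟩⟩
    · have := congrArg (P.map (θ e)) hw'
      rw [map_mk, map_mk] at this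
      rw [this, ← hz']
      exact mk_map_eq φ₁ z y v c₁ h1 e1
  · intro h n₀ n₁ σ₀ σ₁
    exact h _ (coneMap σ₀) (isBounded_yoneda n₀) n₁ σ₁

theorem main19373 (G : Fan.{u}) (hG : G.IsQuasiSeparated)
    {n n' : ICone} (ξ : G.obj (op n)) (ξ' : G.obj (op n')) :
    ∃ s : Finset (Σ k : ICone, (k ⟶ n) × (k ⟶ n')),
      (∀ e ∈ s, G.map e.2.1.op ξ = G.map e.2.2.op ξ') ∧
      ∀ (v : Fan.Orth n) (w : Fan.Orth n'), Fan.P.mk ξ v = Fan.P.mk ξ' w ↔
        ∃ e ∈ s, ∃ (y : Fan.Orth e.1) (c c' : ℝ), 0 < c ∧ 0 < c' ∧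
          v.1 = c • e.2.1.realMap y.1 ∧ w.1 = c' • e.2.2.realMap y.1 := by
  classical
  obtain ⟨s₀, hs₀⟩ := hG n n' ξ ξ'
  let pr : (Σ k : ICone, (pullback (coneMap ξ) (coneMap ξ')).obj (op k)) →
      (Σ k : ICone, (k ⟶ n) × (k ⟶ n')) := fun c =>
    ⟨c.1, (((pullback.fst (coneMap ξ) (coneMap ξ')).app _ c.2).down,
      ((pullback.snd (coneMap ξ) (coneMap ξ')).app _ c.2).down)⟩
  have hcond : ∀ c : (Σ k : ICone, (pullback (coneMap ξ) (coneMap ξ')).obj (op k)),
      G.map (pr c).2.1.op ξ = G.map (pr c).2.2.op ξ' := by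
    intro c
    have := pb_condition (coneMap ξ) (coneMap ξ') c.2
    rw [coneMap_app, coneMap_app] at this
    exact this
  refine ⟨s₀.image pr, ?_, ?_⟩
  · intro e he
    obtain ⟨c, -, rfl⟩ := Finset.mem_image.1 he
    exact hcond c
  · intro v w
    constructor
    · intro h
      obtain ⟨k, φ₁, φ₂, y, c₁, c₂, e', h1, h2, e1, e2⟩ := sub_of_mk_eq _ _ _ _ h
      obtain ⟨q, hq1, hq2⟩ := pb_exists (coneMap ξ) (coneMap ξ') (X := op k)
        (yo _ φ₁) (yo _ φ₂) (by rw [coneMap_app_yo, coneMap_app_yo]; exact e')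
      obtain ⟨c, hc, y₀, hy₀⟩ := hs₀ (P.mk q y)
      obtain ⟨m, α, β, z, a, b, eQ, ha, hb, ea, eb⟩ := sub_of_mk_eq _ _ _ _ hy₀
      -- eQ : Q.map α c.2 = Q.map β q ; ea : y₀ = a • α z ; eb : y = b • β z
      have f1 : α ≫ (pr c).2.1 = β ≫ φ₁ := by
        have := congrArg (fun t => ((pullback.fst (coneMap ξ) (coneMap ξ')).app _ t).down) eQ
        simp only [NatTrans.naturality_apply, hq1] at this
        exact this
      have f2 : α ≫ (pr c).2.2 = β ≫ φ₂ := by
        have := congrArg (fun t => ((pullback.snd (coneMap ξ) (coneMap ξ')).app _ t).down) eQ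
        simp only [NatTrans.naturality_apply, hq2] at this
        exact this
      refine ⟨pr c, Finset.mem_image.2 ⟨c, hc, rfl⟩, y₀, c₁ * b / a, c₂ * b / a,
        div_pos (mul_pos h1 hb) ha, div_pos (mul_pos h2 hb) ha, ?_, ?_⟩
      · have : (pr c).2.1.realMap y₀.1 = a • φ₁.realMap (β.realMap z.1) := by
          rw [ea, realMap_smul, ← realMap_comp, f1, realMap_comp]
        rw [this, e1, eb, realMap_smul]
        simp only [smul_smul]
        congr 1
        field_simp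
      · have : (pr c).2.2.realMap y₀.1 = a • φ₂.realMap (β.realMap z.1) := by
          rw [ea, realMap_smul, ← realMap_comp, f2, realMap_comp]
        rw [this, e2, eb, realMap_smul]
        simp only [smul_smul]
        congr 1
        field_simp
    · rintro ⟨e, he, y, c, c', hc, hc', e1, e2⟩
      obtain ⟨c₀, -, rfl⟩ := Finset.mem_image.1 he
      exact mk_eq_of_sub ⟨_, _, _, y, c, c', hcond c₀, hc, hc', e1, e2⟩

end Groth.Agent.Lib.Helper4.FanCone4
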