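import Mathlib.Tactic
import Mathlib.Topology.Algebra.Module.FiniteDimension
import Mathlib.Analysis.Normed.Module.FiniteDimension
import Groth.Prelude.Def_W4c6instabfans3Fan
import Groth.Agent.Lib.Helper4.FanCone4

namespace Groth.Agent.Lib.Helper4.FanTop1

open CategoryTheory Opposite Instab Instab.Fan Limits
open Groth.Agent.Lib.Helper4.FanCone2 Groth.Agent.Lib.Helper4.FanCone3
  Groth.Agent.Lib.Helper4.FanCone4

universe u

/-- real injectivity of the real map of a cone morphism -/
theorem realMap_injective {k n : ICone} (φ : k ⟶ n) : Function.Injective φ.realMap := by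
  -- first: kernel is trivial
  have hker : ∀ x : Fin k.dim → ℝ, φ.realMap x = 0 → x = 0 := by
    intro x hx
    obtain ⟨s, q, r, hxr, -, hrel⟩ := FanCone1.exists_int_coords x
    have hq : ∀ j, (fun i => q i j) = 0 := by
      intro j
      apply φ.injective
      rw [map_zero]
      funext j₀
      rw [toLin_apply]
      refine hrel (fun i => mat φ j₀ i) ?_ j
      have := congrFun hx j₀
      rw [realMap_apply] at this
      exact this
    funext i
    rw [hxr i]
    simp only [Pi.zero_apply]
    apply Finset.sum_eq_zero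
    intro j _
    have := congrFun (hq j) i
    simp only [Pi.zero_apply] at this
    rw [this]; simp
  intro x x' hxx'
  have hsub : φ.realMap (x - x') = 0 := by
    funext j
    have := congrFun hxx' j
    simp only [realMap_apply, Pi.sub_apply, Pi.zero_apply, mul_sub, Finset.sum_sub_distrib] at this ⊢
    linarith
  have := hker _ hsub
  exact sub_eq_zero.1 this

/-- realMap as a linear map -/
noncomputable def realLin {k n : ICone} (φ : k ⟶ n) : (Fin k.dim → ℝ) →ₗ[ℝ] (Fin n.dim → ℝ) where
  toFun := φ.realMap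
  map_add' x y := by
    funext j
    simp only [realMap_apply, Pi.add_apply, mul_add, Finset.sum_add_distrib]
  map_smul' c x := by
    simp only [RingHom.id_apply]
    exact realMap_smul φ c x

@[simp] theorem realLin_apply {k n : ICone} (φ : k ⟶ n) (x : Fin k.dim → ℝ) :
    realLin φ x = φ.realMap x := rfl

theorem isClosedEmbedding_realLin {k n : ICone} (φ : k ⟶ n) :
    Topology.IsClosedEmbedding (realLin φ) := by
  apply LinearMap.isClosedEmbedding_of_injective
  rw [LinearMap.ker_eq_bot]
  exact realMap_injective φ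

theorem continuous_val (n : ICone) : Continuous (fun v : Orth n => v.1) :=
  continuous_subtype_val

theorem isClosed_orth_iff {n : ICone} (B : Set (Orth n)) :
    IsClosed B ↔ ∃ B' : Set (Fin n.dim → ℝ), IsClosed B' ∧ B = (fun v : Orth n => v.1) ⁻¹' B' := by
  constructor
  · intro h
    obtain ⟨B', hB', e⟩ := isClosed_induced_iff.1 h
    exact ⟨B', hB', e.symm⟩
  · rintro ⟨B', hB', rfl⟩
    exact hB'.preimage (continuous_val n)

theorem isClosed_nonneg (k : ℕ) : IsClosed {x : Fin k → ℝ | ∀ i, 0 ≤ x i} := by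
  have : {x : Fin k → ℝ | ∀ i, 0 ≤ x i} = ⋂ i, {x | 0 ≤ x i} := by
    ext x; simp
  rw [this]
  exact isClosed_iInter (fun i => isClosed_le continuous_const (continuous_apply i))

theorem isClosedMap_omap {k n : ICone} (φ : k ⟶ n) : IsClosedMap (omap φ) := by
  intro B hB
  obtain ⟨B', hB', rfl⟩ := (isClosed_orth_iff B).1 hB
  rw [isClosed_orth_iff]
  refine ⟨realLin φ '' (B' ∩ {x | ∀ i, 0 ≤ x i}),
    (isClosedEmbedding_realLin φ).isClosedMap _ (hB'.inter (isClosed_nonneg _)), ?_⟩
  ext w
  constructor
  · rintro ⟨v, hv, rfl⟩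
    exact ⟨v.1, ⟨hv, v.2.1⟩, rfl⟩
  · rintro ⟨x, ⟨hx, hx0⟩, hxw⟩
    have hne : x ≠ 0 := by
      rintro rfl
      apply w.2.2
      exact hxw.symm.trans (map_zero (realLin φ))
    exact ⟨⟨x, hx0, hne⟩, hx, Subtype.ext hxw⟩

theorem continuous_omap {k n : ICone} (φ : k ⟶ n) : Continuous (omap φ) := by
  apply Continuous.subtype_mk
  exact (LinearMap.continuous_of_finiteDimensional (realLin φ)).comp (continuous_val k)

/-- continuity of `P.mk ξ` -/
theorem continuous_mk {F : Fan.{u}} {n : ICone} (ξ : F.obj (op n)) : Continuous (P.mk ξ) := by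
  have h1 : Continuous (Quot.mk (Rel F)) := continuous_quot_mk
  have h2 : Continuous (fun v : Orth n => (⟨⟨n, ξ⟩, v⟩ : Pt F)) := by
    show @Continuous _ (Σ e : (Σ n : ICone, F.obj (op n)), Orth e.1) _ instTopologicalSpaceSigma
      (Sigma.mk ⟨n, ξ⟩)
    exact continuous_sigmaMk
  exact h1.comp h2

theorem isClosed_iff {F : Fan.{u}} (C : Set (P F)) :
    IsClosed C ↔ ∀ (n : ICone) (ξ : F.obj (op n)), IsClosed {v : Orth n | P.mk ξ v ∈ C} := by
  constructor
  · intro h n ξ
    exact h.preimage (continuous_mk ξ)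
  · intro h
    have h1 : IsClosed (Quot.mk (Rel F) ⁻¹' C) := by
      show @IsClosed (Σ e : (Σ n : ICone, F.obj (op n)), Orth e.1) instTopologicalSpaceSigma
        (Quot.mk (Rel F) ⁻¹' C)
      rw [isClosed_sigma_iff]
      rintro ⟨n, ξ⟩
      exact h n ξ
    exact isClosed_coinduced.2 h1

theorem continuous_map {F G : Fan.{u}} (f : F ⟶ G) : Continuous (P.map f) := by
  rw [continuous_iff_isClosed]
  intro C hC
  rw [isClosed_iff] at hC ⊢
  intro n ξ
  exact hC n (f.app _ ξ)

end Groth.Agent.Lib.Helper4.FanTop1
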