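import Mathlib.Tactic
import Groth.Prelude.Def_W4c6instabfans3Fan
import Groth.Agent.Lib.Helper4.FanTop1

namespace Groth.Agent.Lib.Helper4.FanTop2

open CategoryTheory Opposite Instab Instab.Fan Limits
open Groth.Agent.Lib.Helper4.FanCone2 Groth.Agent.Lib.Helper4.FanCone3
  Groth.Agent.Lib.Helper4.FanCone4 Groth.Agent.Lib.Helper4.FanTop1

universe u

theorem yoneda_mk_eq {n k k' : ICone} (a : k ⟶ n) (b : k' ⟶ n) (y : Orth k) (y' : Orth k')
    (h : P.mk (F := uliftYoneda.{u}.obj n) (yo n a) y = P.mk (yo n b) y') :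
    ∃ c : ℝ, 0 < c ∧ a.realMap y.1 = c • b.realMap y'.1 := by
  obtain ⟨m, φ₁, φ₂, z, c₁, c₂, e, h1, h2, e1, e2⟩ := sub_of_mk_eq _ _ _ _ h
  have e' : φ₁ ≫ a = φ₂ ≫ b := congrArg ULift.down e
  refine ⟨c₁ / c₂, div_pos h1 h2, ?_⟩
  rw [e1, e2, realMap_smul, realMap_smul, ← realMap_comp, ← realMap_comp, e', smul_smul,
    div_mul_cancel₀ _ h2.ne']

theorem mk_scale {F : Fan.{u}} {n : ICone} (ξ : F.obj (op n)) (v w : Orth n) (c : ℝ) (hc : 0 < c)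
    (h : w.1 = c • v.1) : P.mk ξ v = P.mk ξ w := by
  have := mk_map_eq (𝟙 n) ξ v w c hc (by rw [realMap_id]; exact h)
  simpa using this

theorem mk_osmul {F : Fan.{u}} {n : ICone} (ξ : F.obj (op n)) (v : Orth n) (c : ℝ) (hc : 0 < c) :
    P.mk ξ (osmul c hc v) = P.mk ξ v :=
  (mk_scale ξ v (osmul c hc v) c hc rfl).symm

/-- The finite family of cells controlling a bounded map over a cone of the target. -/
theorem exists_cells {F G : Fan.{u}} (ψ : F ⟶ G) (hψ : IsBoundedMap ψ) {n : ICone}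
    (ξ : G.obj (op n)) :
    ∃ s : Finset (Σ k : ICone, F.obj (op k) × (k ⟶ n)),
      (∀ t ∈ s, ψ.app _ t.2.1 = G.map t.2.2.op ξ) ∧
      ∀ (x : P F) (v : Orth n), P.map ψ x = P.mk ξ v →
        ∃ t ∈ s, ∃ y : Orth t.1, x = P.mk t.2.1 y ∧ ∃ a : ℝ, 0 < a ∧ v.1 = a • t.2.2.realMap y.1 := by
  classical
  obtain ⟨s₀, hs₀⟩ := hψ n ξ
  let pr : (Σ k : ICone, (pullback ψ (coneMap ξ)).obj (op k)) →
      (Σ k : ICone, F.obj (op k) × (k ⟶ n)) := fun c =>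
    ⟨c.1, ((pullback.fst ψ (coneMap ξ)).app _ c.2, ((pullback.snd ψ (coneMap ξ)).app _ c.2).down)⟩
  refine ⟨s₀.image pr, ?_, ?_⟩
  · intro t ht
    obtain ⟨c, -, rfl⟩ := Finset.mem_image.1 ht
    exact pb_condition ψ (coneMap ξ) c.2
  · intro x v hxv
    have h1 : P.mk ξ v = P.map (coneMap ξ) (P.mk (yo n (𝟙 n)) v) := by
      rw [map_mk, coneMap_app_yo]
      simp
    rw [h1] at hxv
    obtain ⟨q, hq1, hq2⟩ := main19360 ψ (coneMap ξ) x _ hxv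
    obtain ⟨c, hc, y, hy⟩ := hs₀ q
    refine ⟨pr c, Finset.mem_image.2 ⟨c, hc, rfl⟩, y, ?_, ?_⟩
    · rw [← hq1, ← hy]; rfl
    · rw [← hy, map_mk] at hq2
      obtain ⟨a, ha, e⟩ := yoneda_mk_eq (((pullback.snd ψ (coneMap ξ)).app _ c.2).down) (𝟙 n) y v hq2
      rw [realMap_id] at e
      refine ⟨a⁻¹, inv_pos.2 ha, ?_⟩
      show v.1 = a⁻¹ • (((pullback.snd ψ (coneMap ξ)).app _ c.2).down).realMap y.1
      rw [e, smul_smul, inv_mul_cancel₀ ha.ne', one_smul]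

theorem mk_mem_range_of_cell {F G : Fan.{u}} (ψ : F ⟶ G) {n k : ICone} (ξ : G.obj (op n))
    (η : F.obj (op k)) (e : k ⟶ n) (he : ψ.app _ η = G.map e.op ξ) (y : Orth k) :
    P.map ψ (P.mk η y) = P.mk ξ (omap e y) := by
  rw [map_mk, he, mk_map_omap]

theorem main19363 {F G : Fan.{u}} (ψ : F ⟶ G)
    (hψ : Fan.IsBoundedMap ψ) :
    IsClosedMap (Fan.P.map ψ) ∧ (∀ y : Fan.P G, (Fan.P.map ψ ⁻¹' {y}).Finite) ∧
    ∀ (n : ICone) (ξ : G.obj (op n)), ∃ s : Finset (Σ k : ICone, k ⟶ n),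
      {v : Fan.Orth n | Fan.P.mk ξ v ∈ Set.range (Fan.P.map ψ)} =
        ⋃ e ∈ s, {v : Fan.Orth n | ∃ (y : Fan.Orth e.1) (c : ℝ), 0 < c ∧ v.1 = c • e.2.realMap y.1} := by
  classical
  refine ⟨?_, ?_, ?_⟩
  · intro A hA
    rw [isClosed_iff]
    intro n ξ
    obtain ⟨s, hs1, hs2⟩ := exists_cells ψ hψ ξ
    have key : {v : Orth n | P.mk ξ v ∈ P.map ψ '' A} =
        ⋃ t ∈ s, omap t.2.2 '' {y : Orth t.1 | P.mk t.2.1 y ∈ A} := by
      ext v
      simp only [Set.mem_ofPred_eq, Set.mem_iUnion, Set.mem_image]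
      constructor
      · rintro ⟨x, hxA, hx⟩
        obtain ⟨t, ht, y, rfl, a, ha, e⟩ := hs2 x v hx
        refine ⟨t, ht, osmul a ha y, ?_, ?_⟩
        · rw [mk_osmul]; exact hxA
        · apply Subtype.ext
          rw [omap_val, osmul_val, realMap_smul, e]
      · rintro ⟨t, ht, y, hy, rfl⟩
        exact ⟨_, hy, mk_mem_range_of_cell ψ ξ t.2.1 t.2.2 (hs1 t ht) y⟩
    rw [key]
    apply Set.Finite.isClosed_biUnion (Finset.finite_toSet s)
    intro t _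
    exact isClosedMap_omap t.2.2 _ (hA.preimage (continuous_mk t.2.1))
  · intro y₀
    obtain ⟨n, ξ, v, rfl⟩ := exists_mk y₀
    obtain ⟨s, hs1, hs2⟩ := exists_cells ψ hψ ξ
    let pt : (Σ k : ICone, F.obj (op k) × (k ⟶ n)) → P F := fun t =>
      if h : ∃ y : Orth t.1, ∃ a : ℝ, 0 < a ∧ v.1 = a • t.2.2.realMap y.1 then P.mk t.2.1 h.choose
      else P.mk t.2.1 (Orth.ones _)
    apply Set.Finite.subset (Finset.finite_toSet (s.image pt))
    intro x hx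
    obtain ⟨t, ht, y, rfl, a, ha, e⟩ := hs2 x v hx
    rw [Finset.mem_coe, Finset.mem_image]
    refine ⟨t, ht, ?_⟩
    have h : ∃ y : Orth t.1, ∃ a : ℝ, 0 < a ∧ v.1 = a • t.2.2.realMap y.1 := ⟨y, a, ha, e⟩
    simp only [pt, dif_pos h]
    obtain ⟨a', ha', e'⟩ := h.choose_spec
    -- a • e(y) = a' • e(y')
    have h3 : t.2.2.realMap (a • y.1) = t.2.2.realMap (a' • h.choose.1) := by
      rw [realMap_smul, realMap_smul, ← e, ← e']
    have h4 := realMap_injective t.2.2 h3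
    apply mk_scale t.2.1 h.choose y (a' / a) (div_pos ha' ha)
    have : y.1 = a⁻¹ • (a • y.1) := by rw [smul_smul, inv_mul_cancel₀ ha.ne', one_smul]
    rw [this, h4, smul_smul]
    congr 1
    field_simp
  · intro n ξ
    obtain ⟨s, hs1, hs2⟩ := exists_cells ψ hψ ξ
    refine ⟨s.image (fun t => ⟨t.1, t.2.2⟩), ?_⟩
    ext v
    simp only [Set.mem_ofPred_eq, Set.mem_iUnion, Set.mem_range, Finset.mem_image]
    constructor
    · rintro ⟨x, hx⟩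
      obtain ⟨t, ht, y, -, a, ha, e⟩ := hs2 x v hx
      exact ⟨⟨t.1, t.2.2⟩, ⟨t, ht, rfl⟩, y, a, ha, e⟩
    · rintro ⟨_, ⟨t, ht, rfl⟩, y, a, ha, e⟩
      refine ⟨P.mk t.2.1 y, ?_⟩
      rw [mk_mem_range_of_cell ψ ξ t.2.1 t.2.2 (hs1 t ht) y]
      exact mk_scale ξ _ _ a ha e

end Groth.Agent.Lib.Helper4.FanTop2
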