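import Mathlib.Tactic
import Groth.Prelude.Def_W4c6instabfans3Fan
import Groth.Agent.Lib.Helper4.FanTop2

namespace Groth.Agent.Lib.Helper4.FanTop3

open CategoryTheory Opposite Instab Instab.Fan Limits
open Groth.Agent.Lib.Helper4.FanCone2 Groth.Agent.Lib.Helper4.FanCone3
  Groth.Agent.Lib.Helper4.FanCone4 Groth.Agent.Lib.Helper4.FanTop1 Groth.Agent.Lib.Helper4.FanTop2

universe u

theorem main19365 {F G : Fan.{u}} (ψ : F ⟶ G)
    (hψ : Fan.IsBoundedMap ψ) (hinj : ∀ n : ICone, Function.Injective (ψ.app (op n))) :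
    Topology.IsClosedEmbedding (Fan.P.map ψ) :=
  Topology.IsClosedEmbedding.of_continuous_injective_isClosedMap (continuous_map ψ)
    ((main19358 ψ).1 hinj) (main19363 ψ hψ).1

theorem yo_eta {n k : ICone} (a : (uliftYoneda.{u}.obj n).obj (op k)) : yo n a.down = a := rfl

theorem mk_yo_eq {n k : ICone} (a : k ⟶ n) (y : Orth k) :
    P.mk (F := uliftYoneda.{u}.obj n) (yo n a) y = P.mk (yo n (𝟙 n)) (omap a y) := by
  rw [← mk_map_omap]
  congr 1

/-- closedness of the image of a closed cone in the realization of a representable fan -/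
theorem isClosed_yoneda_image {n : ICone} (S : Set (Orth n)) (hS : IsClosed S)
    (hinv : ∀ v w : Orth n, v ∈ S → ∀ c : ℝ, 0 < c → w.1 = c • v.1 → w ∈ S) :
    IsClosed (P.mk (F := uliftYoneda.{u}.obj n) (yo n (𝟙 n)) '' S) := by
  rw [isClosed_iff]
  intro k a
  have : {y : Orth k | P.mk a y ∈ P.mk (F := uliftYoneda.{u}.obj n) (yo n (𝟙 n)) '' S} =
      omap a.down ⁻¹' S := by
    ext y
    constructor
    · rintro ⟨v, hv, e⟩
      obtain ⟨c, hc, e'⟩ := yoneda_mk_eq (𝟙 n) a.down v y e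
      rw [realMap_id] at e'
      -- v = c • a(y) so a(y) = c⁻¹ • v
      refine hinv v _ hv c⁻¹ (inv_pos.2 hc) ?_
      rw [omap_val, e', smul_smul, inv_mul_cancel₀ hc.ne', one_smul]
    · intro hy
      exact ⟨omap a.down y, hy, (mk_yo_eq a.down y).symm⟩
  rw [this]
  exact hS.preimage (continuous_omap a.down)

theorem mk_eq_map_coneMap {F : Fan.{u}} {n : ICone} (ξ : F.obj (op n)) (v : Orth n) :
    P.mk ξ v = P.map (coneMap ξ) (P.mk (yo n (𝟙 n)) v) := by
  rw [map_mk, coneMap_app_yo]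
  simp

theorem isBoundedMap_coneMap {F : Fan.{u}} (hF : F.IsQuasiSeparated) {n : ICone} (ξ : F.obj (op n)) :
    IsBoundedMap (coneMap ξ) :=
  (main19359 F).1 hF _ (coneMap ξ) (isBounded_yoneda n)

theorem isClosed_image_mk {F : Fan.{u}} (hF : F.IsQuasiSeparated) {n : ICone} (ξ : F.obj (op n))
    (S : Set (Orth n)) (hS : IsClosed S)
    (hinv : ∀ v w : Orth n, v ∈ S → ∀ c : ℝ, 0 < c → w.1 = c • v.1 → w ∈ S) :
    IsClosed (P.mk ξ '' S) := by
  have : P.mk ξ '' S = P.map (coneMap ξ) '' (P.mk (F := uliftYoneda.{u}.obj n) (yo n (𝟙 n)) '' S) := by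
    rw [Set.image_image]
    apply Set.image_congr
    intro v _
    exact mk_eq_map_coneMap ξ v
  rw [this]
  exact (main19363 (coneMap ξ) (isBoundedMap_coneMap hF ξ)).1 _ (isClosed_yoneda_image S hS hinv)

theorem isClosed_cell {F : Fan.{u}} (hF : F.IsQuasiSeparated) {n : ICone} (ξ : F.obj (op n)) :
    IsClosed (P.cell ξ) := by
  have : P.cell ξ = P.mk ξ '' Set.univ := by
    rw [Set.image_univ]; rfl
  rw [this]
  exact isClosed_image_mk hF ξ _ isClosed_univ (fun _ _ _ _ _ _ => Set.mem_univ _)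

theorem main19366 (F : Fan.{u}) (hF : F.IsQuasiSeparated) :
    (∀ (n : ICone) (ξ : F.obj (op n)) (S : Set (Fan.Orth n)), IsClosed S →
      (∀ v w : Fan.Orth n, v ∈ S → ∀ c : ℝ, 0 < c → w.1 = c • v.1 → w ∈ S) →
        IsClosed (Fan.P.mk ξ '' S)) ∧
    ∀ S : Set (Fan.P F), IsClosed S ↔ ∀ (n : ICone) (ξ : F.obj (op n)), IsClosed (S ∩ Fan.P.cell ξ) := by
  refine ⟨fun n ξ S hS hinv => isClosed_image_mk hF ξ S hS hinv, ?_⟩
  intro S
  constructor
  · intro hS n ξ
    exact hS.inter (isClosed_cell hF ξ)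
  · intro h
    rw [isClosed_iff]
    intro n ξ
    have : {v : Orth n | P.mk ξ v ∈ S} = P.mk ξ ⁻¹' (S ∩ P.cell ξ) := by
      ext v
      simp only [Set.mem_ofPred_eq, Set.mem_preimage, Set.mem_inter_iff]
      constructor
      · intro hv
        exact ⟨hv, ⟨v, rfl⟩⟩
      · intro hv
        exact hv.1
    rw [this]
    exact (h n ξ).preimage (continuous_mk ξ)

end Groth.Agent.Lib.Helper4.FanTop3
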