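import Mathlib.Tactic
import Mathlib.Analysis.SpecificLimits.Basic
import Groth.Prelude.Def_W4c6instabfans3Fan
import Groth.Agent.Lib.Helper4.FanTop3

namespace Groth.Agent.Lib.Helper4.FanTop4

open CategoryTheory Opposite Instab Instab.Fan Limits
open Groth.Agent.Lib.Helper4.FanCone2 Groth.Agent.Lib.Helper4.FanCone3
  Groth.Agent.Lib.Helper4.FanCone4 Groth.Agent.Lib.Helper4.FanTop1 Groth.Agent.Lib.Helper4.FanTop2
  Groth.Agent.Lib.Helper4.FanTop3

universe u

noncomputable instance uniqueFinOne : Unique (Fin (Fan.one.dim : ℕ)) :=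
  inferInstanceAs (Unique (Fin 1))

/-- the ray morphism `[1] ⟶ [n]` of a nonzero nonnegative integer vector -/
noncomputable def ray {n : ICone} (ρ : Fin n.dim → ℤ) (hρ : ∀ i, 0 ≤ ρ i) (hne : ρ ≠ 0) :
    Fan.one ⟶ n :=
  mkHom (k := Fan.one) (fun _ => ρ) (fun _ i => hρ i) (by
    rw [Fintype.linearIndependent_iff]
    intro g hg i
    rw [Fintype.sum_unique] at hg
    rcases smul_eq_zero.1 hg with h | h
    · have : i = default := Subsingleton.elim _ _
      rw [this]; exact h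
    · exact absurd h hne)

theorem ray_realMap {n : ICone} (ρ : Fin n.dim → ℤ) (hρ : ∀ i, 0 ≤ ρ i) (hne : ρ ≠ 0) :
    (ray ρ hρ hne).realMap (Orth.ones Fan.one).1 = fun j => (ρ j : ℝ) := by
  funext j
  rw [realMap_apply]
  simp only [ray, mkHom_mat]
  rw [Fintype.sum_unique]
  simp [Orth.ones]

/-- integer points of the punctured orthant -/
def IsIntPt {n : ICone} (v : Orth n) : Prop := ∃ ρ : Fin n.dim → ℤ, ∀ i, v.1 i = ρ i

theorem exists_ray {n : ICone} (v : Orth n) (hv : IsIntPt v) :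
    ∃ r : Fan.one ⟶ n, ∀ (F : Fan.{u}) (ξ : F.obj (op n)),
      P.mk ξ v = P.mk (F.map r.op ξ) (Orth.ones Fan.one) := by
  obtain ⟨ρ, hρ⟩ := hv
  have hnn : ∀ i, 0 ≤ ρ i := fun i => by
    have := v.2.1 i
    rw [hρ i] at this
    exact_mod_cast this
  have hne : ρ ≠ 0 := by
    rintro rfl
    apply v.2.2
    funext i
    rw [hρ i]; simp
  refine ⟨ray ρ hnn hne, ?_⟩
  intro F ξ
  symm
  apply mk_map_eq (ray ρ hnn hne) ξ _ v 1 one_pos
  rw [one_smul, ray_realMap]
  funext i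
  exact hρ i

theorem mk_intPt_eq {F : Fan.{u}} {n : ICone} (ξ : F.obj (op n)) (v : Orth n) (hv : IsIntPt v) :
    ∃ r : Fan.one ⟶ n, P.mk ξ v = P.mk (F.map r.op ξ) (Orth.ones Fan.one) := by
  obtain ⟨ρ, hρ⟩ := hv
  have hnn : ∀ i, 0 ≤ ρ i := fun i => by
    have := v.2.1 i
    rw [hρ i] at this
    exact_mod_cast this
  have hne : ρ ≠ 0 := by
    rintro rfl
    apply v.2.2
    funext i
    rw [hρ i]; simp
  refine ⟨ray ρ hnn hne, ?_⟩
  symm
  apply mk_map_eq (ray ρ hnn hne) ξ _ v 1 one_pos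
  rw [one_smul, ray_realMap]
  funext i
  exact hρ i

/-- density: a closed scaling-invariant set of the punctured orthant containing all integer
points is everything -/
theorem eq_univ_of_intPts {n : ICone} (S : Set (Orth n)) (hS : IsClosed S)
    (hinv : ∀ v w : Orth n, v ∈ S → ∀ c : ℝ, 0 < c → w.1 = c • v.1 → w ∈ S)
    (hint : ∀ v : Orth n, IsIntPt v → v ∈ S) : S = Set.univ := by
  rw [Set.eq_univ_iff_forall]
  intro v
  -- approximating sequence
  have hpos : ∀ j : ℕ, (0 : ℝ) < (j : ℝ) + 1 := fun j => by positivity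
  -- integer points ρ_j = ⌈(j+1) v_i⌉
  let ρ : ℕ → Fin n.dim → ℤ := fun j i => ⌈((j : ℝ) + 1) * v.1 i⌉
  have hρnn : ∀ j i, 0 ≤ ρ j i := fun j i =>
    Int.ceil_nonneg (mul_nonneg (hpos j).le (v.2.1 i))
  have hρne : ∀ j, (fun i => (ρ j i : ℝ)) ≠ 0 := by
    intro j h0
    apply v.2.2
    funext i
    have h1 : ((ρ j i : ℤ) : ℝ) = 0 := congrFun h0 i
    have h2 : ((j : ℝ) + 1) * v.1 i ≤ 0 := by
      have := Int.le_ceil (((j : ℝ) + 1) * v.1 i)
      simp only [ρ] at h1
      rw [h1] at this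
      exact this
    have h3 : v.1 i ≤ 0 := by
      by_contra hlt
      push Not at hlt
      have := mul_pos (hpos j) hlt
      linarith
    exact le_antisymm h3 (v.2.1 i)
  let pj : ∀ j : ℕ, Orth n := fun j =>
    ⟨fun i => (ρ j i : ℝ), fun i => by
      show (0 : ℝ) ≤ ((ρ j i : ℤ) : ℝ)
      exact_mod_cast hρnn j i, hρne j⟩
  have hpj : ∀ j, pj j ∈ S := fun j => hint _ ⟨ρ j, fun i => rfl⟩
  let vj : ∀ j : ℕ, Orth n := fun j => osmul (((j : ℝ) + 1)⁻¹) (inv_pos.2 (hpos j)) (pj j)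
  have hvj : ∀ j, vj j ∈ S := fun j => hinv (pj j) _ (hpj j) _ (inv_pos.2 (hpos j)) rfl
  have hlim : Filter.Tendsto vj Filter.atTop (nhds v) := by
    have hind : Topology.IsInducing (fun v : Orth n => v.1) := Topology.IsInducing.subtypeVal
    rw [hind.tendsto_nhds_iff]
    rw [tendsto_pi_nhds]
    intro i
    show Filter.Tendsto (fun j : ℕ => ((j : ℝ) + 1)⁻¹ * (ρ j i : ℝ)) Filter.atTop (nhds (v.1 i))
    have h1 : ∀ j : ℕ, v.1 i ≤ ((j : ℝ) + 1)⁻¹ * (ρ j i : ℝ) := by
      intro j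
      have := Int.le_ceil (((j : ℝ) + 1) * v.1 i)
      rw [le_inv_mul_iff₀ (hpos j)]
      exact this
    have h2 : ∀ j : ℕ, ((j : ℝ) + 1)⁻¹ * (ρ j i : ℝ) ≤ v.1 i + 1 / ((j : ℝ) + 1) := by
      intro j
      have := (Int.ceil_lt_add_one (((j : ℝ) + 1) * v.1 i)).le
      rw [inv_mul_le_iff₀ (hpos j)]
      have e : ((j : ℝ) + 1) * (v.1 i + 1 / ((j : ℝ) + 1)) = ((j : ℝ) + 1) * v.1 i + 1 := by
        field_simp
      rw [e]
      exact this
    have h3 : Filter.Tendsto (fun j : ℕ => v.1 i + 1 / ((j : ℝ) + 1)) Filter.atTop (nhds (v.1 i)) := by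
      have := (tendsto_one_div_add_atTop_nhds_zero_nat (𝕜 := ℝ)).const_add (v.1 i)
      simpa using this
    exact tendsto_of_tendsto_of_tendsto_of_le_of_le tendsto_const_nhds h3 h1 h2
  exact hS.mem_of_tendsto hlim (Filter.Eventually.of_forall hvj)

theorem main19364 {F G : Fan.{u}} (ψ : F ⟶ G)
    (hψ : Fan.IsBoundedMap ψ) :
    Function.Surjective (Fan.P.map ψ) ↔
      ∀ y : Fan.P G, y.IsRational → y ∈ Set.range (Fan.P.map ψ) := by
  constructor
  · intro h y _
    exact h y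
  · intro h y
    obtain ⟨n, ξ, v, rfl⟩ := exists_mk y
    have hcl : IsClosed (Set.range (P.map ψ)) := by
      rw [← Set.image_univ]
      exact (main19363 ψ hψ).1 _ isClosed_univ
    have := eq_univ_of_intPts {v : Orth n | P.mk ξ v ∈ Set.range (P.map ψ)}
      ((isClosed_iff _).1 hcl n ξ) ?_ ?_
    · have hv : v ∈ {v : Orth n | P.mk ξ v ∈ Set.range (P.map ψ)} := by
        rw [this]; exact Set.mem_univ _
      exact hv
    · intro v w hv c hc e
      show P.mk ξ w ∈ Set.range (P.map ψ)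
      rw [← mk_scale ξ v w c hc e]
      exact hv
    · intro v hv
      obtain ⟨r, hr⟩ := mk_intPt_eq ξ v hv
      show P.mk ξ v ∈ Set.range (P.map ψ)
      rw [hr]
      exact h _ ⟨_, rfl⟩

/-- coordinate sum -/
def csum {k : ℕ} (x : Fin k → ℝ) : ℝ := ∑ i, x i

theorem csum_pos {n : ICone} (v : Orth n) : 0 < csum v.1 := by
  have hne : ∃ i, v.1 i ≠ 0 := by
    by_contra h
    push Not at h
    exact v.2.2 (funext h)
  obtain ⟨i, hi⟩ := hne
  have hpos : 0 < v.1 i := lt_of_le_of_ne (v.2.1 i) (Ne.symm hi)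
  exact Finset.sum_pos' (fun j _ => v.2.1 j) ⟨i, Finset.mem_univ _, hpos⟩

theorem csum_smul {k : ℕ} (c : ℝ) (x : Fin k → ℝ) : csum (c • x) = c * csum x := by
  simp [csum, Finset.mul_sum]

/-- the positively-parallel locus of two cone morphisms is closed -/
theorem isClosed_parallel {k m : ICone} (α β : m ⟶ k) :
    IsClosed {y : Orth m | csum (β.realMap y.1) • α.realMap y.1 = csum (α.realMap y.1) • β.realMap y.1} := by
  have hα : Continuous (fun y : Orth m => α.realMap y.1) :=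
    (continuous_val k).comp (continuous_omap α)
  have hβ : Continuous (fun y : Orth m => β.realMap y.1) :=
    (continuous_val k).comp (continuous_omap β)
  have hs : ∀ f : Orth m → (Fin k.dim → ℝ), Continuous f → Continuous (fun y => csum (f y)) := by
    intro f hf
    unfold csum
    exact continuous_finsetSum _ (fun i _ => (continuous_apply i).comp hf)
  exact isClosed_eq ((hs _ hβ).smul hα) ((hs _ hα).smul hβ)

theorem main19367 {F G : Fan.{u}} (ψ : F ⟶ G)
    (hF : F.IsQuasiSeparated) :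
    Function.Injective (Fan.P.map ψ) ↔
      ∀ x y : Fan.P F, x.IsRational → y.IsRational → Fan.P.map ψ x = Fan.P.map ψ y → x = y := by
  classical
  constructor
  · intro h x y _ _ hxy
    exact h hxy
  · intro hrat x x' hxx'
    obtain ⟨n₁, σ₁, v₁, rfl⟩ := exists_mk x
    obtain ⟨n₂, σ₂, v₂, rfl⟩ := exists_mk x'
    rw [map_mk, map_mk] at hxx'
    obtain ⟨k, φ₁, φ₂, y, c₁, c₂, e, h1, h2, e1, e2⟩ := sub_of_mk_eq _ _ _ _ hxx'
    have hτ : ψ.app _ (F.map φ₁.op σ₁) = ψ.app _ (F.map φ₂.op σ₂) := by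
      have n1 := NatTrans.naturality_apply ψ φ₁.op σ₁
      have n2 := NatTrans.naturality_apply ψ φ₂.op σ₂
      rw [n1, n2, e]
    rw [← mk_map_eq φ₁ σ₁ y v₁ c₁ h1 e1, ← mk_map_eq φ₂ σ₂ y v₂ c₂ h2 e2]
    generalize F.map φ₁.op σ₁ = τ₁ at hτ ⊢
    generalize F.map φ₂.op σ₂ = τ₂ at hτ ⊢
    obtain ⟨s, hs1, hs2⟩ := main19373 F hF τ₁ τ₂
    have key : {w : Orth k | P.mk τ₁ w = P.mk τ₂ w} =
        ⋃ t ∈ s, omap t.2.1 '' {y : Orth t.1 |
          csum (t.2.2.realMap y.1) • t.2.1.realMap y.1 = csum (t.2.1.realMap y.1) • t.2.2.realMap y.1} := by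
      ext w
      simp only [Set.mem_ofPred_eq, Set.mem_iUnion, Set.mem_image]
      rw [hs2 w w]
      constructor
      · rintro ⟨t, ht, y, c, c', hc, hc', ew, ew'⟩
        refine ⟨t, ht, osmul c hc y, ?_, ?_⟩
        · rw [osmul_val, realMap_smul, realMap_smul, ← ew]
          -- w = c' • β y ; β (c y) = c • β y = (c/c') • w
          have hβ : c • t.2.2.realMap y.1 = (c / c') • w.1 := by
            rw [ew', smul_smul, div_mul_cancel₀ _ hc'.ne']
          rw [hβ, csum_smul, smul_smul]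
          congr 1
          ring
        · apply Subtype.ext
          rw [omap_val, osmul_val, realMap_smul, ← ew]
      · rintro ⟨t, ht, y, hy, rfl⟩
        have pα := csum_pos (omap t.2.1 y)
        have pβ := csum_pos (omap t.2.2 y)
        rw [omap_val] at pα pβ
        refine ⟨t, ht, y, 1, csum (t.2.1.realMap y.1) / csum (t.2.2.realMap y.1), one_pos,
          div_pos pα pβ, by rw [one_smul, omap_val], ?_⟩
        rw [omap_val, div_eq_inv_mul, ← smul_smul, ← hy, smul_smul, inv_mul_cancel₀ pβ.ne', one_smul]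
    have hcl : IsClosed {w : Orth k | P.mk τ₁ w = P.mk τ₂ w} := by
      rw [key]
      apply Set.Finite.isClosed_biUnion (Finset.finite_toSet s)
      intro t _
      exact isClosedMap_omap t.2.1 _ (isClosed_parallel t.2.1 t.2.2)
    have huniv := eq_univ_of_intPts _ hcl ?_ ?_
    · have : y ∈ {w : Orth k | P.mk τ₁ w = P.mk τ₂ w} := by rw [huniv]; exact Set.mem_univ _
      exact this
    · intro v w hv c hc ew
      show P.mk τ₁ w = P.mk τ₂ w
      rw [← mk_scale τ₁ v w c hc ew, ← mk_scale τ₂ v w c hc ew]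
      exact hv
    · intro v hv
      obtain ⟨r, hr⟩ := exists_ray.{u} v hv
      show P.mk τ₁ v = P.mk τ₂ v
      rw [hr F τ₁, hr F τ₂]
      apply hrat _ _ ⟨_, rfl⟩ ⟨_, rfl⟩
      rw [map_mk, map_mk]
      have n1 := NatTrans.naturality_apply ψ r.op τ₁
      have n2 := NatTrans.naturality_apply ψ r.op τ₂
      rw [n1, n2, hτ]

end Groth.Agent.Lib.Helper4.FanTop4
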