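import Mathlib.Tactic
import Mathlib.Topology.MetricSpace.Pseudo.Defs
import Groth.Prelude.Def_W4c6instabfans3FanCvx
import Groth.Agent.Lib.Helper4.FanTop4

namespace Groth.Agent.Lib.Helper4.FanTop5

open CategoryTheory Opposite Instab Instab.Fan Limits
open Groth.Agent.Lib.Helper4.FanCone2 Groth.Agent.Lib.Helper4.FanCone3
  Groth.Agent.Lib.Helper4.FanCone4 Groth.Agent.Lib.Helper4.FanTop1 Groth.Agent.Lib.Helper4.FanTop2
  Groth.Agent.Lib.Helper4.FanTop3 Groth.Agent.Lib.Helper4.FanTop4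

universe u v

/-- rational directions approximate every point of the punctured orthant -/
theorem exists_seq_ratPts {n : ICone} (v : Orth n) :
    ∃ vj : ℕ → Orth n, Filter.Tendsto vj Filter.atTop (nhds v) ∧
      ∀ j, ∃ c : ℝ, 0 < c ∧ ∃ p : Orth n, IsIntPt p ∧ (vj j).1 = c • p.1 := by
  have hpos : ∀ j : ℕ, (0 : ℝ) < (j : ℝ) + 1 := fun j => by positivity
  let ρ : ℕ → Fin n.dim → ℤ := fun j i => ⌈((j : ℝ) + 1) * v.1 i⌉
  have hρnn : ∀ j i, 0 ≤ ρ j i := fun j i =>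
    Int.ceil_nonneg (mul_nonneg (hpos j).le (v.2.1 i))
  have hρne : ∀ j, (fun i => (ρ j i : ℝ)) ≠ 0 := by
    intro j h0
    apply v.2.2
    funext i
    have h1 : ((ρ j i : ℤ) : ℝ) = 0 := congrFun h0 i
    have h2 : ((j : ℝ) + 1) * v.1 i ≤ 0 := by
      have := Int.le_ceil (((j : ℝ) + 1) * v.1 i)
      simp only [ρ] at h1
      rw [h1] at this
      exact this
    have h3 : v.1 i ≤ 0 := by
      by_contra hlt
      push Not at hlt
      have := mul_pos (hpos j) hlt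
      linarith
    exact le_antisymm h3 (v.2.1 i)
  let pj : ∀ j : ℕ, Orth n := fun j =>
    ⟨fun i => (ρ j i : ℝ), fun i => by
      show (0 : ℝ) ≤ ((ρ j i : ℤ) : ℝ)
      exact_mod_cast hρnn j i, hρne j⟩
  let vj : ∀ j : ℕ, Orth n := fun j => osmul (((j : ℝ) + 1)⁻¹) (inv_pos.2 (hpos j)) (pj j)
  refine ⟨vj, ?_, fun j => ⟨_, inv_pos.2 (hpos j), pj j, ⟨ρ j, fun i => rfl⟩, rfl⟩⟩
  have hind : Topology.IsInducing (fun v : Orth n => v.1) := Topology.IsInducing.subtypeVal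
  rw [hind.tendsto_nhds_iff]
  rw [tendsto_pi_nhds]
  intro i
  show Filter.Tendsto (fun j : ℕ => ((j : ℝ) + 1)⁻¹ * (ρ j i : ℝ)) Filter.atTop (nhds (v.1 i))
  have h1 : ∀ j : ℕ, v.1 i ≤ ((j : ℝ) + 1)⁻¹ * (ρ j i : ℝ) := by
    intro j
    have := Int.le_ceil (((j : ℝ) + 1) * v.1 i)
    rw [le_inv_mul_iff₀ (hpos j)]
    exact this
  have h2 : ∀ j : ℕ, ((j : ℝ) + 1)⁻¹ * (ρ j i : ℝ) ≤ v.1 i + 1 / ((j : ℝ) + 1) := by
    intro j
    have := (Int.ceil_lt_add_one (((j : ℝ) + 1) * v.1 i)).le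
    rw [inv_mul_le_iff₀ (hpos j)]
    have e : ((j : ℝ) + 1) * (v.1 i + 1 / ((j : ℝ) + 1)) = ((j : ℝ) + 1) * v.1 i + 1 := by
      field_simp
    rw [e]
    exact this
  have h3 : Filter.Tendsto (fun j : ℕ => v.1 i + 1 / ((j : ℝ) + 1)) Filter.atTop (nhds (v.1 i)) := by
    have := (tendsto_one_div_add_atTop_nhds_zero_nat (𝕜 := ℝ)).const_add (v.1 i)
    simpa using this
  exact tendsto_of_tendsto_of_tendsto_of_le_of_le tendsto_const_nhds h3 h1 h2

theorem isRational_mk_of_ratPt {F : Fan.{u}} {n : ICone} (ξ : F.obj (op n)) (w : Orth n)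
    (hw : ∃ c : ℝ, 0 < c ∧ ∃ p : Orth n, IsIntPt p ∧ w.1 = c • p.1) : (P.mk ξ w).IsRational := by
  obtain ⟨c, hc, p, hp, e⟩ := hw
  obtain ⟨r, hr⟩ := exists_ray.{u} p hp
  refine ⟨F.map r.op ξ, ?_⟩
  rw [← hr F ξ]
  exact (mk_scale ξ p w c hc e).symm

/-- the segment point `(1-s) e₀ + s e₁` of the 2-orthant -/
noncomputable def seg (s : ℝ) (hs0 : 0 ≤ s) (hs1 : s ≤ 1) : Orth two :=
  ⟨(1 - s) • (Orth.basis two 0).1 + s • (Orth.basis two 1).1, fun j => by
      have h0 := (Orth.basis two 0).2.1 j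
      have h1 := (Orth.basis two 1).2.1 j
      simp only [Pi.add_apply, Pi.smul_apply, smul_eq_mul]
      have : 0 ≤ 1 - s := by linarith
      positivity, fun h => by
      have e0 := congrFun h 0
      have e1 := congrFun h 1
      simp only [Orth.basis, Pi.add_apply, Pi.smul_apply, smul_eq_mul, Pi.zero_apply] at e0 e1
      have d01 : (0 : Fin two.dim) ≠ 1 := by decide
      have d10 : (1 : Fin two.dim) ≠ 0 := by decide
      simp only [if_true, if_neg d01, if_neg d10] at e0 e1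
      linarith⟩

theorem seg_val (s : ℝ) (hs0 : 0 ≤ s) (hs1 : s ≤ 1) :
    (seg s hs0 hs1).1 = (1 - s) • (Orth.basis two 0).1 + s • (Orth.basis two 1).1 := rfl

theorem seg_zero : seg 0 le_rfl zero_le_one = Orth.basis two 0 := by
  apply Subtype.ext
  rw [seg_val]
  rw [sub_zero, one_smul, zero_smul, add_zero]

theorem not_parallel_basis : ¬ ∃ c : ℝ, (Orth.basis two 1).1 = c • (Orth.basis two 0).1 := by
  rintro ⟨c, hc⟩
  have e1 := congrFun hc 1
  have d10 : (1 : Fin two.dim) ≠ 0 := by decide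
  simp only [Orth.basis, Pi.smul_apply, smul_eq_mul, if_true, if_neg d10] at e1
  linarith

/-- A vertex of a rational 1-simplex in `U` along which `Φ` strictly increases is not a local
maximum. -/
theorem not_isLocalMax_vertex {F : Fan.{u}} (U : Set (P F)) {Γ : Type v} [LinearOrder Γ]
    (Φ : U → Γ) (τ : F.obj (op two)) (hτ : P.cell τ ⊆ U) (x : U)
    (hx : P.mk τ (Orth.basis two 0) = x.1)
    (hinc : ∀ (s : ℝ) (hs0 : 0 < s) (hs1 : s < 1),
      Φ x < Φ ⟨P.mk τ (seg s hs0.le hs1.le), hτ ⟨_, rfl⟩⟩) : ¬ IsLocalMax Φ x := by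
  intro hmax
  -- the path
  let γ : Set.Icc (0 : ℝ) 1 → U := fun s => ⟨P.mk τ (seg s.1 s.2.1 s.2.2), hτ ⟨_, rfl⟩⟩
  have hγc : Continuous γ := by
    apply Continuous.subtype_mk
    apply (continuous_mk τ).comp
    apply Continuous.subtype_mk
    have h1 : Continuous (fun s : Set.Icc (0 : ℝ) 1 => (1 - s.1)) :=
      continuous_const.sub continuous_subtype_val
    have h2 : Continuous (fun s : Set.Icc (0 : ℝ) 1 => s.1) := continuous_subtype_val
    exact (h1.smul continuous_const).add (h2.smul continuous_const)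
  have hγ0 : γ ⟨0, le_rfl, zero_le_one⟩ = x := by
    apply Subtype.ext
    show P.mk τ (seg 0 le_rfl zero_le_one) = x.1
    rw [seg_zero, hx]
  have hev : ∀ᶠ s in nhds (⟨0, le_rfl, zero_le_one⟩ : Set.Icc (0 : ℝ) 1), Φ (γ s) ≤ Φ x := by
    have := hγc.continuousAt (x := (⟨0, le_rfl, zero_le_one⟩ : Set.Icc (0 : ℝ) 1))
    rw [ContinuousAt, hγ0] at this
    exact this.eventually hmax
  rw [Metric.eventually_nhds_iff] at hev
  obtain ⟨ε, hε, hball⟩ := hev
  have hs0 : (0 : ℝ) < min (ε / 2) (1 / 2) := lt_min (by linarith) (by norm_num)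
  have hs1 : min (ε / 2) (1 / 2) < 1 := lt_of_le_of_lt (min_le_right _ _) (by norm_num)
  have hd : dist (⟨min (ε / 2) (1 / 2), hs0.le, hs1.le⟩ : Set.Icc (0 : ℝ) 1)
      ⟨0, le_rfl, zero_le_one⟩ < ε := by
    rw [Subtype.dist_eq, Real.dist_eq, sub_zero, abs_of_pos hs0]
    exact lt_of_le_of_lt (min_le_left _ _) (by linarith)
  have h1 := hball hd
  have h2 := hinc _ hs0 hs1
  exact absurd h1 (not_le.2 h2)

theorem main19370 (F : Fan.{u}) (U : Set (Fan.P F))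
    (hU : Fan.IsConvex U) {Γ : Type v} [LinearOrder Γ] (Φ : U → Γ) (hΦ : Fan.IsQuasiConcaveOn U Φ)
    (hlsc : ∀ c : Γ, IsClosed {x : U | Φ x ≤ c}) :
    (∀ x : U, (x : Fan.P F).IsRational → IsLocalMax Φ x → ∀ y : U, Φ y ≤ Φ x) ∧
    (Fan.IsStrictQuasiConcaveOn U Φ → ∀ x y : U, (x : Fan.P F).IsRational → (y : Fan.P F).IsRational →
      IsLocalMax Φ x → IsLocalMax Φ y → x = y) := by
  obtain ⟨hlc, ⟨S, hS⟩, hseg⟩ := hU
  have hab : ∀ (s : ℝ) (hs0 : 0 < s) (hs1 : s < 1), ∃ a b : ℝ, 0 < a ∧ 0 < b ∧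
      (seg s hs0.le hs1.le).1 = a • (Orth.basis two 0).1 + b • (Orth.basis two 1).1 :=
    fun s hs0 hs1 => ⟨1 - s, s, by linarith, hs0, rfl⟩
  constructor
  · intro x hxrat hmax y
    by_contra hlt
    push Not at hlt
    -- rational y' with Φ x < Φ y'
    have hyU : y.1 ∈ Set.range (P.map S.ι) := hS ▸ y.2
    obtain ⟨n, σ, v, hσ, hyv⟩ := (mem_range_ι_iff S y.1).1 hyU
    have hgU : ∀ w : Orth n, P.mk σ w ∈ U := fun w => by
      rw [hS]; exact (mem_range_ι_iff S _).2 ⟨n, σ, w, hσ, rfl⟩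
    let g : Orth n → U := fun w => ⟨P.mk σ w, hgU w⟩
    have hgc : Continuous g := (continuous_mk σ).subtype_mk _
    have hO : IsOpen {z : U | Φ x < Φ z} := by
      have : {z : U | Φ x < Φ z} = {z : U | Φ z ≤ Φ x}ᶜ := by
        ext z; simp
      rw [this]
      exact (hlsc (Φ x)).isOpen_compl
    have hgv : g v = y := Subtype.ext hyv.symm
    obtain ⟨vj, hvj, hrat⟩ := exists_seq_ratPts v
    have hev : ∀ᶠ j in Filter.atTop, vj j ∈ g ⁻¹' {z : U | Φ x < Φ z} := by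
      apply hvj.eventually
      apply (hO.preimage hgc).mem_nhds
      show Φ x < Φ (g v)
      rw [hgv]; exact hlt
    obtain ⟨j, hj⟩ := hev.exists
    set y' : U := g (vj j) with hy'
    have hy'rat : (y' : P F).IsRational := isRational_mk_of_ratPt σ (vj j) (hrat j)
    have hlt' : Φ x < Φ y' := hj
    have hne : (x : P F) ≠ y' := by
      intro h
      have : x = y' := Subtype.ext h
      rw [this] at hlt'
      exact lt_irrefl _ hlt'
    obtain ⟨τ, hτ, hτ0, hτ1⟩ := hseg x.1 y'.1 x.2 y'.2 hxrat hy'rat hne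
    refine not_isLocalMax_vertex U Φ τ hτ x hτ0 ?_ hmax
    intro s hs0 hs1
    have h0 : P.mk τ (Orth.basis two 0) ∈ U := hτ ⟨_, rfl⟩
    have h2 : P.mk τ (Orth.basis two 1) ∈ U := hτ ⟨_, rfl⟩
    have h1 : P.mk τ (seg s hs0.le hs1.le) ∈ U := hτ ⟨_, rfl⟩
    obtain ⟨hmin, heq⟩ := hΦ two τ (Orth.basis two 0) (seg s hs0.le hs1.le) (Orth.basis two 1) h0 h1 h2
      not_parallel_basis (hab s hs0 hs1)
    have e0 : (⟨P.mk τ (Orth.basis two 0), h0⟩ : U) = x := Subtype.ext hτ0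
    have e2 : (⟨P.mk τ (Orth.basis two 1), h2⟩ : U) = y' := Subtype.ext hτ1
    rw [e0, e2] at hmin heq
    rw [min_eq_left hlt'.le] at hmin heq
    rcases hmin.lt_or_eq with h | h
    · exact h
    · exact absurd (heq h.symm) hlt'.ne
  · intro hstrict x y hxrat hyrat hxmax hymax
    by_contra hne
    have hne' : (x : P F) ≠ y := fun h => hne (Subtype.ext h)
    rcases le_total (Φ x) (Φ y) with hle | hle
    · obtain ⟨τ, hτ, hτ0, hτ1⟩ := hseg x.1 y.1 x.2 y.2 hxrat hyrat hne'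
      refine not_isLocalMax_vertex U Φ τ hτ x hτ0 ?_ hxmax
      intro s hs0 hs1
      have h0 : P.mk τ (Orth.basis two 0) ∈ U := hτ ⟨_, rfl⟩
      have h2 : P.mk τ (Orth.basis two 1) ∈ U := hτ ⟨_, rfl⟩
      have h1 : P.mk τ (seg s hs0.le hs1.le) ∈ U := hτ ⟨_, rfl⟩
      have := hstrict two τ (Orth.basis two 0) (seg s hs0.le hs1.le) (Orth.basis two 1) h0 h1 h2
        not_parallel_basis (hab s hs0 hs1)
      have e0 : (⟨P.mk τ (Orth.basis two 0), h0⟩ : U) = x := Subtype.ext hτ0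
      have e2 : (⟨P.mk τ (Orth.basis two 1), h2⟩ : U) = y := Subtype.ext hτ1
      rw [e0, e2, min_eq_left hle] at this
      exact this
    · obtain ⟨τ, hτ, hτ0, hτ1⟩ := hseg y.1 x.1 y.2 x.2 hyrat hxrat (Ne.symm hne')
      refine not_isLocalMax_vertex U Φ τ hτ y hτ0 ?_ hymax
      intro s hs0 hs1
      have h0 : P.mk τ (Orth.basis two 0) ∈ U := hτ ⟨_, rfl⟩
      have h2 : P.mk τ (Orth.basis two 1) ∈ U := hτ ⟨_, rfl⟩
      have h1 : P.mk τ (seg s hs0.le hs1.le) ∈ U := hτ ⟨_, rfl⟩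
      have := hstrict two τ (Orth.basis two 0) (seg s hs0.le hs1.le) (Orth.basis two 1) h0 h1 h2
        not_parallel_basis (hab s hs0 hs1)
      have e0 : (⟨P.mk τ (Orth.basis two 0), h0⟩ : U) = y := Subtype.ext hτ0
      have e2 : (⟨P.mk τ (Orth.basis two 1), h2⟩ : U) = x := Subtype.ext hτ1
      rw [e0, e2, min_eq_left hle] at this
      exact this

end Groth.Agent.Lib.Helper4.FanTop5
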