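import Mathlib.Tactic
import Mathlib.Analysis.Convex.StdSimplex
import Mathlib.Topology.Sequences
import Groth.Prelude.Def_W4c6instabfans3Fan
import Groth.Agent.Lib.Helper4.FanTop4

namespace Groth.Agent.Lib.Helper4.FanTop6

open CategoryTheory Opposite Instab Instab.Fan Limits Filter
open Groth.Agent.Lib.Helper4.FanCone2 Groth.Agent.Lib.Helper4.FanCone3
  Groth.Agent.Lib.Helper4.FanCone4 Groth.Agent.Lib.Helper4.FanTop1 Groth.Agent.Lib.Helper4.FanTop2
  Groth.Agent.Lib.Helper4.FanTop3 Groth.Agent.Lib.Helper4.FanTop4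

universe u

theorem isInducing_val (n : ICone) : Topology.IsInducing (fun v : Orth n => v.1) :=
  Topology.IsInducing.subtypeVal

instance (n : ICone) : T2Space (Orth n) :=
  T2Space.of_injective_continuous (f := fun v : Orth n => v.1)
    (fun _ _ h => Subtype.ext h) (continuous_val n)

instance (n : ICone) : FirstCountableTopology (Orth n) :=
  (isInducing_val n).firstCountableTopology

theorem continuous_csum {n : ICone} : Continuous (fun w : Orth n => csum w.1) := by
  unfold csum
  exact continuous_finsetSum _ (fun i _ => (continuous_apply i).comp (continuous_val n))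

/-- positive parallelism via coordinate sums -/
theorem parallel_iff {n : ICone} (v w : Orth n) :
    (∃ c : ℝ, 0 < c ∧ w.1 = c • v.1) ↔ csum v.1 • w.1 = csum w.1 • v.1 := by
  constructor
  · rintro ⟨c, hc, e⟩
    rw [e, csum_smul, smul_smul, mul_comm]
  · intro h
    have pv := csum_pos v
    have pw := csum_pos w
    refine ⟨csum w.1 / csum v.1, div_pos pw pv, ?_⟩
    rw [div_eq_inv_mul, ← smul_smul, ← h, smul_smul, inv_mul_cancel₀ pv.ne', one_smul]

theorem isClosed_ray {n : ICone} (v : Orth n) :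
    IsClosed {w : Orth n | ∃ c : ℝ, 0 < c ∧ w.1 = c • v.1} := by
  have : {w : Orth n | ∃ c : ℝ, 0 < c ∧ w.1 = c • v.1} =
      {w : Orth n | csum v.1 • w.1 = csum w.1 • v.1} := by
    ext w
    exact parallel_iff v w
  rw [this]
  exact isClosed_eq ((continuous_val n).const_smul (csum v.1))
    (continuous_csum.smul continuous_const)

theorem isClosed_singleton {F : Fan.{u}} (hF : F.IsQuasiSeparated) (x : P F) : IsClosed ({x} : Set (P F)) := by
  obtain ⟨n, ξ, v, rfl⟩ := exists_mk x
  have : ({P.mk ξ v} : Set (P F)) = P.mk ξ '' {w : Orth n | ∃ c : ℝ, 0 < c ∧ w.1 = c • v.1} := by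
    ext y
    constructor
    · rintro rfl
      exact ⟨v, ⟨1, one_pos, by simp⟩, rfl⟩
    · rintro ⟨w, ⟨c, hc, e⟩, rfl⟩
      exact (mk_scale ξ v w c hc e).symm
  rw [this]
  apply isClosed_image_mk hF ξ _ (isClosed_ray v)
  rintro w w' ⟨c, hc, e⟩ c' hc' e'
  exact ⟨c' * c, mul_pos hc' hc, by rw [e', e, smul_smul]⟩

/-- normalisation to coordinate sum one -/
noncomputable def nu {n : ICone} (w : Orth n) : Orth n :=
  osmul (csum w.1)⁻¹ (inv_pos.2 (csum_pos w)) w

theorem nu_val {n : ICone} (w : Orth n) : (nu w).1 = (csum w.1)⁻¹ • w.1 := rfl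

theorem csum_nu {n : ICone} (w : Orth n) : csum (nu w).1 = 1 := by
  rw [nu_val, csum_smul, inv_mul_cancel₀ (csum_pos w).ne']

theorem nu_smul {n : ICone} (v w : Orth n) (c : ℝ) (hc : 0 < c) (h : w.1 = c • v.1) : nu w = nu v := by
  apply Subtype.ext
  rw [nu_val, nu_val, h, csum_smul, smul_smul]
  congr 1
  have := (csum_pos v).ne'
  field_simp

theorem nu_of_csum_one {n : ICone} (w : Orth n) (h : csum w.1 = 1) : nu w = w := by
  apply Subtype.ext
  rw [nu_val, h, inv_one, one_smul]

theorem continuous_nu {n : ICone} : Continuous (nu : Orth n → Orth n) := by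
  apply Continuous.subtype_mk
  have h1 : Continuous (fun w : Orth n => (csum w.1)⁻¹) :=
    continuous_csum.inv₀ (fun w => (csum_pos w).ne')
  exact h1.smul (continuous_val n)

theorem mk_nu {F : Fan.{u}} {n : ICone} (ξ : F.obj (op n)) (w : Orth n) : P.mk ξ (nu w) = P.mk ξ w :=
  mk_osmul ξ w _ _

theorem isCompact_simplex (n : ICone) : IsCompact {w : Orth n | csum w.1 = 1} := by
  have h1 : IsCompact (stdSimplex ℝ (Fin n.dim)) := isCompact_stdSimplex ℝ (Fin n.dim)
  have h2 : {w : Orth n | csum w.1 = 1} = (fun v : Orth n => v.1) ⁻¹' (stdSimplex ℝ (Fin n.dim)) := by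
    ext w
    constructor
    · intro h
      exact ⟨w.2.1, h⟩
    · intro h
      exact h.2
  rw [h2]
  apply (isInducing_val n).isCompact_preimage' h1
  intro x hx
  refine ⟨⟨x, hx.1, ?_⟩, rfl⟩
  rintro rfl
  have := hx.2
  simp at this

theorem main19369 (F : Fan.{u}) (hF : F.IsQuasiSeparated)
    (x : ℕ → Fan.P F) (x₀ : Fan.P F) (hx : Filter.Tendsto x Filter.atTop (nhds x₀)) :
    ∃ (n : ICone) (σ : F.obj (op n)) (r : ℕ → ℕ) (v : ℕ → Fan.Orth n) (v₀ : Fan.Orth n),
      StrictMono r ∧ (∀ j, Fan.P.mk σ (v j) = x (r j)) ∧ Fan.P.mk σ v₀ = x₀ ∧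
        Filter.Tendsto v Filter.atTop (nhds v₀) := by
  classical
  by_cases hfreq : ∃ᶠ j in atTop, x j = x₀
  · -- constant subsequence
    obtain ⟨r, hr, hrx⟩ := extraction_of_frequently_atTop hfreq
    obtain ⟨n, σ, v₀, rfl⟩ := exists_mk x₀
    exact ⟨n, σ, r, fun _ => v₀, v₀, hr, fun j => (hrx j).symm, rfl, tendsto_const_nhds⟩
  · -- eventually different from x₀
    rw [not_frequently] at hfreq
    obtain ⟨N, hN⟩ := eventually_atTop.1 hfreq
    -- some cell contains infinitely many terms
    have hcell : ∃ (n : ICone) (σ : F.obj (op n)), ∃ᶠ j in atTop, x j ∈ P.cell σ := by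
      by_contra hno
      push Not at hno
      -- the tail set is closed
      have hclosed : IsClosed (x '' {j | N ≤ j}) := by
        rw [(main19366 F hF).2]
        intro n σ
        have hfin : {j | N ≤ j ∧ x j ∈ P.cell σ}.Finite := by
          obtain ⟨M, hM⟩ := eventually_atTop.1 (hno n σ)
          apply (Set.finite_lt_nat M).subset
          intro j hj
          by_contra hge
          exact hM j (not_lt.1 hge) hj.2
        have heq : x '' {j | N ≤ j} ∩ P.cell σ = x '' {j | N ≤ j ∧ x j ∈ P.cell σ} := by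
          ext y
          constructor
          · rintro ⟨⟨j, hj, rfl⟩, hy⟩
            exact ⟨j, ⟨hj, hy⟩, rfl⟩
          · rintro ⟨j, ⟨hj, hy⟩, rfl⟩
            exact ⟨⟨j, hj, rfl⟩, hy⟩
        rw [heq]
        have hfin' := hfin.image x
        rw [← Set.biUnion_of_singleton (x '' {j | N ≤ j ∧ x j ∈ P.cell σ})]
        exact hfin'.isClosed_biUnion (fun y _ => isClosed_singleton hF y)
      have hnot : x₀ ∉ x '' {j | N ≤ j} := by
        rintro ⟨j, hj, e⟩
        exact hN j hj e
      have hev := hx.eventually (hclosed.isOpen_compl.mem_nhds hnot)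
      obtain ⟨M, hM⟩ := eventually_atTop.1 hev
      exact hM (max M N) (le_max_left _ _) ⟨max M N, (show N ≤ max M N from le_max_right _ _), rfl⟩
    obtain ⟨n, σ, hσ⟩ := hcell
    obtain ⟨r₁, hr₁, hr₁x⟩ := extraction_of_frequently_atTop hσ
    choose w hw using hr₁x
    -- normalise and extract a convergent subsequence
    obtain ⟨v₀, hv₀, r₂, hr₂, hlim⟩ := (isCompact_simplex n).tendsto_subseq
      (x := fun j => nu (w j)) (fun j => csum_nu (w j))
    refine ⟨n, σ, r₁ ∘ r₂, fun j => nu (w (r₂ j)), v₀, hr₁.comp hr₂, ?_, ?_, hlim⟩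
    · intro j
      rw [mk_nu]
      exact hw (r₂ j)
    · -- identify the limit
      by_contra hne
      -- closed set C_N
      set v : ℕ → Orth n := fun j => nu (w (r₂ j)) with hv
      have hlimN : Tendsto (fun j => v (j + N)) atTop (nhds v₀) :=
        hlim.comp (tendsto_add_atTop_nat N)
      have hT : IsCompact (insert v₀ (Set.range (fun j => v (j + N)))) :=
        hlimN.isCompact_insert_range
      have hS : IsClosed (nu ⁻¹' (insert v₀ (Set.range (fun j => v (j + N))))) :=
        hT.isClosed.preimage continuous_nu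
      have hC : IsClosed (P.mk σ '' (nu ⁻¹' (insert v₀ (Set.range (fun j => v (j + N)))))) := by
        apply isClosed_image_mk hF σ _ hS
        intro a b ha c hc e
        rw [Set.mem_preimage, nu_smul a b c hc e]
        exact ha
      have hxr : Tendsto (fun j => x ((r₁ ∘ r₂) (j + N))) atTop (nhds x₀) :=
        hx.comp (((hr₁.comp hr₂).tendsto_atTop).comp (tendsto_add_atTop_nat N))
      have hmem : ∀ j, x ((r₁ ∘ r₂) (j + N)) ∈
          P.mk σ '' (nu ⁻¹' (insert v₀ (Set.range (fun j => v (j + N))))) := by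
        intro j
        refine ⟨v (j + N), ?_, ?_⟩
        · rw [Set.mem_preimage, nu_of_csum_one _ (csum_nu _)]
          exact Set.mem_insert_of_mem _ ⟨j, rfl⟩
        · show P.mk σ (nu (w (r₂ (j + N)))) = _
          rw [mk_nu]
          exact hw (r₂ (j + N))
      have hx₀ := hC.mem_of_tendsto hxr (Eventually.of_forall hmem)
      obtain ⟨a, ha, hax⟩ := hx₀
      rcases ha with ha | ⟨j, hj⟩
      · apply hne
        rw [← hax, ← mk_nu σ a]
        exact congrArg (P.mk σ) ha.symm
      · -- x₀ = x (r (j+N)) contradiction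
        have h1 : P.mk σ a = x ((r₁ ∘ r₂) (j + N)) := by
          rw [← mk_nu σ a]
          have : nu a = v (j + N) := hj.symm
          rw [this]
          show P.mk σ (nu (w (r₂ (j + N)))) = _
          rw [mk_nu]
          exact hw (r₂ (j + N))
        have h2 : N ≤ (r₁ ∘ r₂) (j + N) :=
          le_trans (Nat.le_add_left N j) ((hr₁.comp hr₂).le_apply)
        exact hN _ h2 (h1.symm.trans hax)

end Groth.Agent.Lib.Helper4.FanTop6
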