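import Mathlib.Tactic
import Groth.Prelude.Def_W4c6instabfans3Fan
import Groth.Agent.Lib.Helper4.FanTop4

namespace Groth.Agent.Lib.Helper4.FanVec1

open CategoryTheory Opposite Instab Instab.Fan
open Groth.Agent.Lib.Helper4.FanCone2 Groth.Agent.Lib.Helper4.FanCone4

/-- integer matrix of a `ℤ`-linear map between standard lattices -/
def lmat {n N : ℕ} (φ : (Fin n → ℤ) →ₗ[ℤ] (Fin N → ℤ)) (j : Fin N) (i : Fin n) : ℤ :=
  φ (Pi.single i 1) j

theorem lin_apply {n N : ℕ} (φ : (Fin n → ℤ) →ₗ[ℤ] (Fin N → ℤ)) (x : Fin n → ℤ) (j : Fin N) :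
    φ x j = ∑ i, lmat φ j i * x i := by
  have hx : x = ∑ i, x i • (Pi.single i (1 : ℤ) : Fin n → ℤ) := by
    ext i'
    simp [Finset.sum_apply, Pi.single_apply]
  conv_lhs => rw [hx]
  rw [map_sum]
  simp only [map_smul, Finset.sum_apply, Pi.smul_apply, smul_eq_mul, lmat]
  apply Finset.sum_congr rfl
  intro i _; ring

/-- the real extension of a `ℤ`-linear map between standard lattices -/
def vecMap {n N : ℕ} (φ : (Fin n → ℤ) →ₗ[ℤ] (Fin N → ℤ)) (v : Fin n → ℝ) : Fin N → ℝ :=
  fun j => ∑ i, (lmat φ j i : ℝ) * v i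

theorem vecMap_apply {n N : ℕ} (φ : (Fin n → ℤ) →ₗ[ℤ] (Fin N → ℤ)) (v : Fin n → ℝ) (j : Fin N) :
    vecMap φ v j = ∑ i, (lmat φ j i : ℝ) * v i := rfl

theorem vecMap_smul {n N : ℕ} (φ : (Fin n → ℤ) →ₗ[ℤ] (Fin N → ℤ)) (c : ℝ) (v : Fin n → ℝ) :
    vecMap φ (c • v) = c • vecMap φ v := by
  ext j
  simp only [vecMap_apply, Pi.smul_apply, smul_eq_mul, Finset.mul_sum]
  apply Finset.sum_congr rfl
  intro i _; ring

theorem vecMap_add {n N : ℕ} (φ : (Fin n → ℤ) →ₗ[ℤ] (Fin N → ℤ)) (v w : Fin n → ℝ) :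
    vecMap φ (v + w) = vecMap φ v + vecMap φ w := by
  ext j
  simp only [vecMap_apply, Pi.add_apply, mul_add, Finset.sum_add_distrib]

theorem vecMap_int {n N : ℕ} (φ : (Fin n → ℤ) →ₗ[ℤ] (Fin N → ℤ)) (x : Fin n → ℤ) :
    vecMap φ (fun i => (x i : ℝ)) = fun j => ((φ x j : ℤ) : ℝ) := by
  funext j
  rw [vecMap_apply, lin_apply]
  push_cast
  rfl

theorem lmat_comp {k : ICone} {n N : ℕ} (hn : n = k.dim) (φ : (Fin k.dim → ℤ) →ₗ[ℤ] (Fin N → ℤ))
    {l : ICone} (α : l ⟶ k) (j : Fin N) (i : Fin l.dim) :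
    lmat (φ ∘ₗ α.toLin) j i = ∑ i', lmat φ j i' * mat α i' i := by
  show φ (α.toLin (Pi.single i 1)) j = _
  rw [lin_apply]
  rfl

theorem vecMap_comp {k : ICone} {N : ℕ} (φ : (Fin k.dim → ℤ) →ₗ[ℤ] (Fin N → ℤ))
    {l : ICone} (α : l ⟶ k) (v : Fin l.dim → ℝ) :
    vecMap (φ ∘ₗ α.toLin) v = vecMap φ (α.realMap v) := by
  ext j
  simp only [vecMap_apply, realMap_apply, lmat_comp rfl]
  push_cast
  simp only [Finset.sum_mul, Finset.mul_sum]
  rw [Finset.sum_comm]
  apply Finset.sum_congr rfl
  intro i _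
  apply Finset.sum_congr rfl
  intro i' _; ring

/-- real injectivity -/
theorem vecMap_injective {n N : ℕ} (φ : (Fin n → ℤ) →ₗ[ℤ] (Fin N → ℤ)) (hφ : Function.Injective φ) :
    Function.Injective (vecMap φ) := by
  have hker : ∀ x : Fin n → ℝ, vecMap φ x = 0 → x = 0 := by
    intro x hx
    obtain ⟨s, q, r, hxr, -, hrel⟩ := FanCone1.exists_int_coords x
    have hq : ∀ j, (fun i => q i j) = 0 := by
      intro j
      apply hφ
      rw [map_zero]
      funext j₀
      rw [lin_apply]
      refine hrel (fun i => lmat φ j₀ i) ?_ j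
      have := congrFun hx j₀
      rw [vecMap_apply] at this
      exact this
    funext i
    rw [hxr i]
    simp only [Pi.zero_apply]
    apply Finset.sum_eq_zero
    intro j _
    have := congrFun (hq j) i
    simp only [Pi.zero_apply] at this
    rw [this]; simp
  intro x x' hxx'
  have hsub : vecMap φ (x - x') = 0 := by
    have : x - x' = x + (-1 : ℝ) • x' := by simp [sub_eq_add_neg]
    rw [this, vecMap_add, vecMap_smul, hxx']
    simp
  exact sub_eq_zero.1 (hker _ hsub)

/-- Generalised amalgamation for injective lattice maps into a common lattice. -/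
theorem exists_amalg_lin {k k' : ICone} {N : ℕ}
    (φ : (Fin k.dim → ℤ) →ₗ[ℤ] (Fin N → ℤ)) (ψ : (Fin k'.dim → ℤ) →ₗ[ℤ] (Fin N → ℤ))
    (hφ : Function.Injective φ) (hψ : Function.Injective ψ) (y : Orth k) (y' : Orth k')
    (h : vecMap φ y.1 = vecMap ψ y'.1) :
    ∃ (l : ICone) (α : l ⟶ k) (β : l ⟶ k') (z : Orth l),
      φ ∘ₗ α.toLin = ψ ∘ₗ β.toLin ∧ α.realMap z.1 = y.1 ∧ β.realMap z.1 = y'.1 := by
  classical
  let p : Fin k.dim ⊕ Fin k'.dim → ℝ := Sum.elim y.1 y'.1
  have hp : ∀ i, 0 ≤ p i := by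
    rintro (i | i)
    · exact y.2.1 i
    · exact y'.2.1 i
  obtain ⟨l, u, t, hnn, htpos, hli, hsum, hrel⟩ := FanCone1.exists_simplicial p hp
  have hl : 0 < l := by
    rcases Nat.eq_zero_or_pos l with h0 | h0
    · exfalso
      subst h0
      apply y.2.2
      funext i
      have := hsum (Sum.inl i)
      simpa [p] using this
    · exact h0
  let u1 : Fin l → Fin k.dim → ℤ := fun j i => u j (Sum.inl i)
  let u2 : Fin l → Fin k'.dim → ℤ := fun j i => u j (Sum.inr i)
  have hφψ : ∀ j, φ (u1 j) = ψ (u2 j) := by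
    intro j
    ext j₀
    rw [lin_apply, lin_apply]
    have hr := hrel (Sum.elim (fun i => lmat φ j₀ i) (fun i => - lmat ψ j₀ i)) ?_ j
    · rw [Fintype.sum_sum_type] at hr
      simp only [Sum.elim_inl, Sum.elim_inr, neg_mul, Finset.sum_neg_distrib] at hr
      linarith
    · rw [Fintype.sum_sum_type]
      simp only [Sum.elim_inl, Sum.elim_inr, p]
      have h1 := congrFun h j₀
      rw [vecMap_apply, vecMap_apply] at h1
      push_cast
      simp only [neg_mul, Finset.sum_neg_distrib]
      linarith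
  have hli1 : LinearIndependent ℤ u1 ∧ LinearIndependent ℤ u2 := by
    have main : ∀ x : Fin l → ℤ, (∑ j, x j • u1 j = 0 ∨ ∑ j, x j • u2 j = 0) → ∀ j, x j = 0 := by
      intro x hx
      have h1 : ∑ j, x j • u1 j = 0 ∧ ∑ j, x j • u2 j = 0 := by
        have e : φ (∑ j, x j • u1 j) = ψ (∑ j, x j • u2 j) := by
          simp only [map_sum, map_smul, hφψ]
        rcases hx with hx | hx
        · refine ⟨hx, ?_⟩
          rw [hx, map_zero] at e
          exact hψ (by rw [← e, map_zero])
        · refine ⟨?_, hx⟩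
          rw [hx, map_zero] at e
          exact hφ (by rw [e, map_zero])
      rw [Fintype.linearIndependent_iff] at hli
      have hcast : ∀ j, ((x j : ℤ) : ℝ) = 0 := by
        apply hli (fun j => (x j : ℝ))
        funext i
        simp only [Finset.sum_apply, Pi.smul_apply, smul_eq_mul, Pi.zero_apply]
        rcases i with i | i
        · have := congrFun h1.1 i
          simp only [Finset.sum_apply, Pi.smul_apply, smul_eq_mul, Pi.zero_apply, u1] at this
          exact_mod_cast this
        · have := congrFun h1.2 i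
          simp only [Finset.sum_apply, Pi.smul_apply, smul_eq_mul, Pi.zero_apply, u2] at this
          exact_mod_cast this
      intro j
      exact_mod_cast hcast j
    constructor
    · rw [Fintype.linearIndependent_iff]
      intro x hx
      exact main x (Or.inl hx)
    · rw [Fintype.linearIndependent_iff]
      intro x hx
      exact main x (Or.inr hx)
  let α : cone l hl ⟶ k := mkHom (k := cone l hl) u1 (fun j i => hnn j _) hli1.1
  let β : cone l hl ⟶ k' := mkHom (k := cone l hl) u2 (fun j i => hnn j _) hli1.2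
  have hα : ∀ i j, mat α i j = u1 j i := fun i j => mkHom_mat (k := cone l hl) u1 _ _ i j
  have hβ : ∀ i j, mat β i j = u2 j i := fun i j => mkHom_mat (k := cone l hl) u2 _ _ i j
  have hαs : ∀ j : Fin (cone l hl).dim, α.toLin (Pi.single j 1) = u1 j := by
    intro j
    funext i
    exact hα i j
  have hβs : ∀ j : Fin (cone l hl).dim, β.toLin (Pi.single j 1) = u2 j := by
    intro j
    funext i
    exact hβ i j
  have htne : (t : Fin l → ℝ) ≠ 0 := by
    intro h0
    have := htpos ⟨0, hl⟩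
    rw [h0] at this
    exact lt_irrefl _ this
  refine ⟨cone l hl, α, β, ⟨t, fun j => (htpos j).le, htne⟩, ?_, ?_, ?_⟩
  · apply LinearMap.pi_ext
    intro j c
    have hc : (Pi.single j c : Fin (cone l hl).dim → ℤ) = c • Pi.single j 1 := by
      ext i'
      rw [Pi.smul_apply, Pi.single_apply, Pi.single_apply, smul_eq_mul]
      split_ifs <;> simp
    rw [hc, map_smul, map_smul, LinearMap.comp_apply, LinearMap.comp_apply, hαs j, hβs j, hφψ j]
  · funext i
    rw [realMap_apply]
    simp only [hα]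
    have := hsum (Sum.inl i)
    simp only [p, Sum.elim_inl] at this
    rw [this]
    apply Finset.sum_congr rfl
    intro j _
    simp only [u1]; ring
  · funext i
    rw [realMap_apply]
    simp only [hβ]
    have := hsum (Sum.inr i)
    simp only [p, Sum.elim_inr] at this
    rw [this]
    apply Finset.sum_congr rfl
    intro j _
    simp only [u2]; ring

end Groth.Agent.Lib.Helper4.FanVec1
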