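import Mathlib.Tactic
import Mathlib.Topology.Algebra.Module.FiniteDimension
import Mathlib.Analysis.Normed.Module.FiniteDimension
import Groth.Agent.Lib.Helper4.FanCone1

namespace Groth.Agent.Lib.Helper4.FanVec2

open Finset

/-- the cone generated by a finite set of integer vectors (in the form used by the statement) -/
def gcone {N : ℕ} (G : Finset (Fin N → ℤ)) : Set (Fin N → ℝ) :=
  {x | ∃ c : (Fin N → ℤ) → ℝ, (∀ g, 0 ≤ c g) ∧
    x = Finset.sum G fun g => c g • fun j => (g j : ℝ)}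

/-- real vector of an integer vector -/
abbrev icast {N : ℕ} (g : Fin N → ℤ) : Fin N → ℝ := fun j => (g j : ℝ)

theorem gcone_smul {N : ℕ} (G : Finset (Fin N → ℤ)) (x : Fin N → ℝ) (hx : x ∈ gcone G) (a : ℝ)
    (ha : 0 ≤ a) : a • x ∈ gcone G := by
  obtain ⟨c, hc, rfl⟩ := hx
  refine ⟨fun g => a * c g, fun g => mul_nonneg ha (hc g), ?_⟩
  rw [Finset.smul_sum]
  apply Finset.sum_congr rfl
  intro g _
  rw [smul_smul]

theorem gcone_mono {N : ℕ} {T G : Finset (Fin N → ℤ)} (h : T ⊆ G) : gcone T ⊆ gcone G := by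
  classical
  rintro x ⟨c, hc, rfl⟩
  refine ⟨fun g => if g ∈ T then c g else 0, fun g => by
    show 0 ≤ (if g ∈ T then c g else 0)
    split_ifs
    · exact hc g
    · exact le_rfl, ?_⟩
  rw [← Finset.sum_subset h]
  · apply Finset.sum_congr rfl
    intro g hg
    simp [hg]
  · intro g _ hgT
    simp [hgT]

/-- Carathéodory for `gcone` -/
theorem gcone_carath {N : ℕ} (G : Finset (Fin N → ℤ)) (x : Fin N → ℝ) (hx : x ∈ gcone G) :
    ∃ T : Finset (Fin N → ℤ), T ⊆ G ∧ LinearIndependent ℝ (fun g : T => icast (g : Fin N → ℤ)) ∧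
      ∃ c : (Fin N → ℤ) → ℝ, (∀ g ∈ T, 0 < c g) ∧ x = Finset.sum T fun g => c g • icast g := by
  classical
  obtain ⟨c, hc, rfl⟩ := hx
  obtain ⟨T, c', hTG, hpos, hsum, hli⟩ :=
    FanCone1.conic_caratheodory (fun g : Fin N → ℤ => icast g) _ G c rfl (fun g _ => hc g)
  exact ⟨T, hTG, hli, c', hpos, hsum.symm⟩

/-- the simplicial cone on a linearly independent set is closed -/
theorem isClosed_simplicial {N : ℕ} (T : Finset (Fin N → ℤ))
    (hli : LinearIndependent ℝ (fun g : T => icast (g : Fin N → ℤ))) :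
    IsClosed {x : Fin N → ℝ | ∃ c : T → ℝ, (∀ g, 0 ≤ c g) ∧ x = ∑ g : T, c g • icast (g : Fin N → ℤ)} := by
  let L : (T → ℝ) →ₗ[ℝ] (Fin N → ℝ) := Fintype.linearCombination ℝ (fun g : T => icast (g : Fin N → ℤ))
  have hL : Function.Injective L := by
    rw [← LinearMap.ker_eq_bot, LinearMap.ker_eq_bot']
    intro c hc
    rw [Fintype.linearIndependent_iff] at hli
    funext g
    exact hli c (by rw [← Fintype.linearCombination_apply]; exact hc) g
  have hemb : Topology.IsClosedEmbedding L :=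
    LinearMap.isClosedEmbedding_of_injective (LinearMap.ker_eq_bot.2 hL)
  have hcl : IsClosed {c : T → ℝ | ∀ g, 0 ≤ c g} := by
    have : {c : T → ℝ | ∀ g, 0 ≤ c g} = ⋂ g, {c | 0 ≤ c g} := by
      ext c; simp
    rw [this]
    exact isClosed_iInter (fun g => isClosed_le continuous_const (continuous_apply g))
  have himg := hemb.isClosedMap _ hcl
  convert himg using 1
  ext x
  constructor
  · rintro ⟨c, hc, rfl⟩
    exact ⟨c, hc, by rw [Fintype.linearCombination_apply]⟩
  · rintro ⟨c, hc, rfl⟩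
    exact ⟨c, hc, by rw [Fintype.linearCombination_apply]⟩

/-- the good subsets -/
def goodSets {N : ℕ} (G : Finset (Fin N → ℤ)) : Set (Finset (Fin N → ℤ)) :=
  {T | T ∈ G.powerset ∧ LinearIndependent ℝ (fun g : T => icast (g : Fin N → ℤ))}

theorem gcone_eq_iUnion {N : ℕ} (G : Finset (Fin N → ℤ)) :
    gcone G = ⋃ T ∈ goodSets G,
      {x : Fin N → ℝ | ∃ c : T → ℝ, (∀ g, 0 ≤ c g) ∧ x = ∑ g : T, c g • icast (g : Fin N → ℤ)} := by
  classical
  ext x
  simp only [Set.mem_iUnion, Set.mem_ofPred_eq, exists_prop, goodSets]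
  constructor
  · intro hx
    obtain ⟨T, hTG, hli, c, hpos, rfl⟩ := gcone_carath G x hx
    refine ⟨T, ⟨Finset.mem_powerset.2 hTG, hli⟩, fun g => c g, fun g => (hpos g g.2).le, ?_⟩
    rw [← Finset.sum_coe_sort T]
  · rintro ⟨T, ⟨hTG, hli⟩, c, hc, rfl⟩
    apply gcone_mono (Finset.mem_powerset.1 hTG)
    refine ⟨fun g => if h : g ∈ T then c ⟨g, h⟩ else 0, fun g => by
      show 0 ≤ (if h : g ∈ T then c ⟨g, h⟩ else 0)
      split_ifs
      · exact hc _
      · exact le_rfl, ?_⟩
    rw [← Finset.sum_coe_sort T]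
    apply Finset.sum_congr rfl
    intro g _
    simp

theorem isClosed_gcone {N : ℕ} (G : Finset (Fin N → ℤ)) : IsClosed (gcone G) := by
  classical
  rw [gcone_eq_iUnion]
  apply Set.Finite.isClosed_biUnion
  · exact Set.Finite.subset (Finset.finite_toSet G.powerset) (fun T hT => hT.1)
  · intro T hT
    exact isClosed_simplicial T hT.2

end Groth.Agent.Lib.Helper4.FanVec2
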