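import Mathlib.Tactic
import Groth.Prelude.Def_W4c6instabfans3FanCvx
import Groth.Agent.Lib.Helper4.FanVec1
import Groth.Agent.Lib.Helper4.FanVec2
import Groth.Agent.Lib.Helper4.FanTop6

namespace Groth.Agent.Lib.Helper4.FanVec3

open CategoryTheory Opposite Instab Instab.Fan
open Groth.Agent.Lib.Helper4.FanCone2 Groth.Agent.Lib.Helper4.FanCone3
  Groth.Agent.Lib.Helper4.FanCone4 Groth.Agent.Lib.Helper4.FanTop1 Groth.Agent.Lib.Helper4.FanTop2
  Groth.Agent.Lib.Helper4.FanTop3 Groth.Agent.Lib.Helper4.FanTop4 Groth.Agent.Lib.Helper4.FanTop6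
  Groth.Agent.Lib.Helper4.FanVec1 Groth.Agent.Lib.Helper4.FanVec2

section rays
variable {N : ℕ}

/-- the ray of a nonzero vector -/
def ray (w : Fin N → ℝ) (h : w ≠ 0) : Rays N := Quot.mk _ ⟨w, h⟩

/-- the ray relation -/
def rayRel (v w : {v : Fin N → ℝ // v ≠ 0}) : Prop := ∃ c : ℝ, 0 < c ∧ w.1 = c • v.1

theorem rayRel_equiv : Equivalence (rayRel (N := N)) where
  refl v := ⟨1, one_pos, by simp⟩
  symm := by
    rintro v w ⟨c, hc, e⟩
    exact ⟨c⁻¹, inv_pos.2 hc, by rw [e, smul_smul, inv_mul_cancel₀ hc.ne', one_smul]⟩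
  trans := by
    rintro u v w ⟨c, hc, e⟩ ⟨d, hd, e'⟩
    exact ⟨d * c, mul_pos hd hc, by rw [e', e, smul_smul]⟩

theorem ray_eq_iff (w w' : Fin N → ℝ) (h : w ≠ 0) (h' : w' ≠ 0) :
    ray w h = ray w' h' ↔ ∃ c : ℝ, 0 < c ∧ w' = c • w := by
  constructor
  · intro e
    have h1 : Relation.EqvGen (rayRel (N := N)) ⟨w, h⟩ ⟨w', h'⟩ := Quot.eqvGen_exact e
    rw [Equivalence.eqvGen_iff rayRel_equiv] at h1
    exact h1
  · rintro ⟨c, hc, e⟩
    exact Quot.sound ⟨c, hc, e⟩

theorem exists_ray (r : Rays N) : ∃ (w : Fin N → ℝ) (h : w ≠ 0), r = ray w h := by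
  obtain ⟨⟨w, h⟩, rfl⟩ := Quot.exists_rep r
  exact ⟨w, h, rfl⟩

/-- ℓ¹-type size of a vector -/
def asum (w : Fin N → ℝ) : ℝ := ∑ i, |w i|

theorem asum_pos (w : Fin N → ℝ) (h : w ≠ 0) : 0 < asum w := by
  have hne : ∃ i, w i ≠ 0 := by
    by_contra hh
    push Not at hh
    exact h (funext hh)
  obtain ⟨i, hi⟩ := hne
  exact Finset.sum_pos' (fun j _ => abs_nonneg _) ⟨i, Finset.mem_univ _, abs_pos.2 hi⟩

theorem asum_smul (c : ℝ) (hc : 0 < c) (w : Fin N → ℝ) : asum (c • w) = c * asum w := by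
  simp only [asum, Pi.smul_apply, smul_eq_mul, abs_mul, abs_of_pos hc, Finset.mul_sum]

/-- normalisation map from rays to vectors -/
noncomputable def rho : Rays N → (Fin N → ℝ) :=
  Quot.lift (fun w : {v : Fin N → ℝ // v ≠ 0} => (asum w.1)⁻¹ • w.1) (by
    rintro ⟨v, hv⟩ ⟨w, hw⟩ ⟨c, hc, e⟩
    simp only at e ⊢
    rw [e, asum_smul c hc, smul_smul]
    congr 1
    have := (asum_pos v hv).ne'
    field_simp)

theorem rho_ray (w : Fin N → ℝ) (h : w ≠ 0) : rho (ray w h) = (asum w)⁻¹ • w := rfl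

theorem continuous_rho : Continuous (rho (N := N)) := by
  apply continuous_quot_lift
  have h1 : Continuous (fun w : {v : Fin N → ℝ // v ≠ 0} => asum w.1) := by
    unfold asum
    exact continuous_finsetSum _ (fun i _ => ((continuous_apply i).comp continuous_subtype_val).abs)
  exact (h1.inv₀ (fun w => (asum_pos w.1 w.2).ne')).smul continuous_subtype_val

theorem rho_injective : Function.Injective (rho (N := N)) := by
  intro r r' e
  obtain ⟨w, h, rfl⟩ := exists_ray r
  obtain ⟨w', h', rfl⟩ := exists_ray r'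
  rw [rho_ray, rho_ray] at e
  rw [ray_eq_iff]
  have p := asum_pos w h
  have p' := asum_pos w' h'
  refine ⟨asum w' / asum w, div_pos p' p, ?_⟩
  have h1 : w' = asum w' • ((asum w')⁻¹ • w') := by
    rw [smul_smul, mul_inv_cancel₀ p'.ne', one_smul]
  calc w' = asum w' • ((asum w')⁻¹ • w') := h1
    _ = asum w' • ((asum w)⁻¹ • w) := by rw [e]
    _ = (asum w' / asum w) • w := by rw [smul_smul, div_eq_mul_inv]

instance : T2Space (Rays N) :=
  T2Space.of_injective_continuous rho_injective continuous_rho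

theorem continuous_ray_comp {X : Type*} [TopologicalSpace X] (f : X → (Fin N → ℝ)) (hf : Continuous f)
    (hne : ∀ x, f x ≠ 0) : Continuous (fun x => ray (f x) (hne x)) := by
  have : Continuous (fun x => (⟨f x, hne x⟩ : {v : Fin N → ℝ // v ≠ 0})) := hf.subtype_mk _
  exact continuous_quot_mk.comp this

end rays

section rfan
variable {N : ℕ} {ι : Type} (K : ι → Set (Fin N → ℝ))

theorem toVec_eq {n : ICone} (φ : RFan.Cone K n) (v : Fin n.dim → ℝ) :
    RFan.toVec K n φ v = vecMap φ.1 v := rfl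

theorem vecMap_zero {n N : ℕ} (φ : (Fin n → ℤ) →ₗ[ℤ] (Fin N → ℤ)) : vecMap φ 0 = 0 := by
  funext j
  simp [vecMap_apply]

theorem toVec_ne_zero {n : ICone} (φ : RFan.Cone K n) (v : Orth n) : RFan.toVec K n φ v.1 ≠ 0 := by
  rw [toVec_eq]
  intro h
  apply v.2.2
  apply vecMap_injective φ.1 φ.2.1
  rw [h, vecMap_zero]

theorem map_val {n k : ICone} (ψ : k ⟶ n) (ξ : RFan.Cone K n) :
    (((RFan K).map ψ.op ξ : RFan.Cone K k)).1 = ξ.1 ∘ₗ ψ.toLin := rfl

/-- the map on the disjoint union -/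
noncomputable def gPt (p : Pt (RFan K)) : Rays N :=
  ray (RFan.toVec K p.1.1 p.1.2 p.2.1) (toVec_ne_zero K p.1.2 p.2)

theorem gPt_rel {p q : Pt (RFan K)} (h : Rel (RFan K) p q) : gPt K p = gPt K q := by
  obtain ⟨ψ, ξ, v, w, c, hc, e⟩ := h
  show ray _ _ = ray _ _
  rw [ray_eq_iff]
  refine ⟨c, hc, ?_⟩
  show RFan.toVec K _ ξ w.1 = c • RFan.toVec K _ ((RFan K).map ψ.op ξ) v.1
  rw [toVec_eq, toVec_eq, e, vecMap_smul, map_val, vecMap_comp]

/-- the comparison map to the space of rays -/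
noncomputable def gmap : P (RFan K) → Rays N := Quot.lift (gPt K) (fun _ _ h => gPt_rel K h)

theorem gmap_mk {n : ICone} (φ : (RFan K).obj (op n)) (v : Orth n) :
    gmap K (P.mk φ v) = ray (RFan.toVec K n φ v.1) (toVec_ne_zero K φ v) := rfl

theorem gmap_injective : Function.Injective (gmap K) := by
  intro x x' e
  obtain ⟨n, φ, v, rfl⟩ := exists_mk x
  obtain ⟨n', φ', v', rfl⟩ := exists_mk x'
  rw [gmap_mk, gmap_mk, ray_eq_iff] at e
  obtain ⟨c, hc, e⟩ := e
  rw [toVec_eq, toVec_eq] at e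
  have h1 : vecMap (Subtype.val φ) (osmul c hc v).1 = vecMap (Subtype.val φ') v'.1 := by
    rw [osmul_val, vecMap_smul, e]
  obtain ⟨l, α, β, z, hαβ, hα, hβ⟩ := exists_amalg_lin (Subtype.val φ) (Subtype.val φ')
    (Subtype.property φ).1 (Subtype.property φ').1 (osmul c hc v) v' h1
  apply mk_eq_of_sub
  refine ⟨l, α, β, z, c⁻¹, 1, ?_, inv_pos.2 hc, one_pos, ?_, ?_⟩
  · apply Subtype.ext
    rw [map_val, map_val]
    exact hαβ
  · rw [hα, osmul_val, smul_smul, inv_mul_cancel₀ hc.ne', one_smul]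
  · rw [hβ, one_smul]

theorem continuous_gmap : Continuous (gmap K) := by
  apply continuous_quot_lift
  show @Continuous (Σ e : (Σ n : ICone, (RFan K).obj (op n)), Orth e.1) _ instTopologicalSpaceSigma _
    (gPt K)
  apply continuous_sigma
  rintro ⟨n, φ⟩
  show Continuous (fun v : Orth n => ray (RFan.toVec K n φ v.1) (toVec_ne_zero K φ v))
  apply continuous_ray_comp (fun v : Orth n => RFan.toVec K n φ v.1)
  have : (fun v : Orth n => RFan.toVec K n φ v.1) = fun v : Orth n => vecMap (Subtype.val φ) v.1 := rfl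
  rw [this]
  -- linear map continuity
  have hlin : Continuous (vecMap (Subtype.val φ)) := by
    apply continuous_pi
    intro j
    simp only [vecMap_apply]
    exact continuous_finsetSum _ (fun i _ => continuous_const.mul (continuous_apply i))
  exact hlin.comp (continuous_val n)

end rfan

end Groth.Agent.Lib.Helper4.FanVec3
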