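import Mathlib.Tactic
import Groth.Prelude.Def_W4c6instabfans3FanCvx
import Groth.Agent.Lib.Helper4.FanVec3

namespace Groth.Agent.Lib.Helper4.FanVec4

open CategoryTheory Opposite Instab Instab.Fan
open Groth.Agent.Lib.Helper4.FanCone2 Groth.Agent.Lib.Helper4.FanCone3
  Groth.Agent.Lib.Helper4.FanCone4 Groth.Agent.Lib.Helper4.FanTop1 Groth.Agent.Lib.Helper4.FanTop2
  Groth.Agent.Lib.Helper4.FanTop3 Groth.Agent.Lib.Helper4.FanTop4 Groth.Agent.Lib.Helper4.FanTop6
  Groth.Agent.Lib.Helper4.FanVec1 Groth.Agent.Lib.Helper4.FanVec2 Groth.Agent.Lib.Helper4.FanVec3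

section gc
variable {N : ℕ}

theorem gcone_zero (T : Finset (Fin N → ℤ)) : (0 : Fin N → ℝ) ∈ gcone T :=
  ⟨fun _ => 0, fun _ => le_rfl, by simp⟩

theorem gcone_add (T : Finset (Fin N → ℤ)) (x y : Fin N → ℝ) (hx : x ∈ gcone T) (hy : y ∈ gcone T) :
    x + y ∈ gcone T := by
  obtain ⟨c, hc, rfl⟩ := hx
  obtain ⟨d, hd, rfl⟩ := hy
  refine ⟨fun g => c g + d g, fun g => add_nonneg (hc g) (hd g), ?_⟩
  rw [← Finset.sum_add_distrib]
  apply Finset.sum_congr rfl
  intro g _
  rw [add_smul]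

theorem gcone_single (T : Finset (Fin N → ℤ)) (g₀ : Fin N → ℤ) (hg : g₀ ∈ T) (a : ℝ) (ha : 0 ≤ a) :
    a • icast g₀ ∈ gcone T := by
  classical
  refine ⟨fun g => if g = g₀ then a else 0, fun g => by
    show 0 ≤ (if g = g₀ then a else 0)
    split_ifs
    · exact ha
    · exact le_rfl, ?_⟩
  rw [Finset.sum_eq_single g₀]
  · simp
  · intro g _ hne
    simp [hne]
  · intro h
    exact absurd hg h

theorem sum_mem_gcone (T : Finset (Fin N → ℤ)) {m : ℕ} (t : Fin m → (Fin N → ℤ)) (ht : ∀ i, t i ∈ T)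
    (c : Fin m → ℝ) (hc : ∀ i, 0 ≤ c i) : ∑ i, c i • icast (t i) ∈ gcone T := by
  apply Finset.sum_induction _ (fun x => x ∈ gcone T) (gcone_add T) (gcone_zero T)
  intro i _
  exact gcone_single T (t i) (ht i) (c i) (hc i)

end gc

section rfan
variable {N : ℕ} {ι : Type} (K : ι → Set (Fin N → ℝ))
  (m : ι → ℕ) (gen : ∀ a, Fin (m a) → Finset (Fin N → ℤ))
  (hKeq : ∀ a, K a = ⋃ l, gcone (gen a l))

include hKeq in
theorem isClosed_K (a : ι) : IsClosed (K a) := by
  rw [hKeq a]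
  exact isClosed_iUnion_of_finite (fun l => isClosed_gcone (gen a l))

include hKeq in
theorem K_smul (a : ι) (x : Fin N → ℝ) (hx : x ∈ K a) (c : ℝ) (hc : 0 ≤ c) : c • x ∈ K a := by
  rw [hKeq a] at hx ⊢
  obtain ⟨l, hl⟩ := Set.mem_iUnion.1 hx
  exact Set.mem_iUnion.2 ⟨l, gcone_smul _ x hl c hc⟩

include hKeq in
/-- the real points of a cone of `R(K)` lie in a single `K a` -/
theorem toVec_mem_K {n : ICone} (φ : RFan.Cone K n) : ∃ a, ∀ v : Orth n, RFan.toVec K n φ v.1 ∈ K a := by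
  obtain ⟨a, ha⟩ := φ.2.2
  refine ⟨a, ?_⟩
  have hlin : Continuous (vecMap (Subtype.val φ)) := by
    apply continuous_pi
    intro j
    simp only [vecMap_apply]
    exact continuous_finsetSum _ (fun i _ => continuous_const.mul (continuous_apply i))
  have huniv := eq_univ_of_intPts {v : Orth n | vecMap (Subtype.val φ) v.1 ∈ K a}
    ((isClosed_K K m gen hKeq a).preimage (hlin.comp (continuous_val n))) ?_ ?_
  · intro v
    have : v ∈ {v : Orth n | vecMap (Subtype.val φ) v.1 ∈ K a} := by rw [huniv]; exact Set.mem_univ _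
    exact this
  · intro v w hv c hc e
    show vecMap (Subtype.val φ) w.1 ∈ K a
    rw [e, vecMap_smul]
    exact K_smul K m gen hKeq a _ hv c hc.le
  · rintro v ⟨ρ, hρ⟩
    show vecMap (Subtype.val φ) v.1 ∈ K a
    have hv : v.1 = fun i => (ρ i : ℝ) := funext hρ
    rw [hv, vecMap_int]
    apply ha ρ
    intro i
    have := v.2.1 i
    rw [hρ i] at this
    exact_mod_cast this

include hKeq in
theorem exists_cone_aux (a : ι) (l : Fin (m a)) (T : Finset (Fin N → ℤ)) (hT : T ⊆ gen a l)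
    (k : ICone) (t : Fin k.dim → (Fin N → ℤ)) (htT : ∀ i, t i ∈ T)
    (hli' : LinearIndependent ℝ (fun i => icast (t i))) :
    ∃ φ : RFan.Cone K k, ∀ v : Fin k.dim → ℝ, RFan.toVec K k φ v = ∑ i, v i • icast (t i) := by
  classical
  let L : (Fin k.dim → ℤ) →ₗ[ℤ] (Fin N → ℤ) := Fintype.linearCombination ℤ t
  have hLs : ∀ i : Fin k.dim, L (Pi.single i 1) = t i := by
    intro i
    show (Fintype.linearCombination ℤ t) (Pi.single i 1) = t i
    rw [Fintype.linearCombination_apply]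
    rw [Finset.sum_eq_single i]
    · simp
    · intro j _ hj
      simp [Pi.single_apply, hj]
    · intro h; exact absurd (Finset.mem_univ i) h
  have hcastL : ∀ x : Fin k.dim → ℤ,
      (fun j => ((L x j : ℤ) : ℝ)) = ∑ i, (x i : ℝ) • icast (t i) := by
    intro x
    funext j
    show (((Fintype.linearCombination ℤ t) x j : ℤ) : ℝ) = _
    rw [Fintype.linearCombination_apply]
    simp only [Finset.sum_apply, Pi.smul_apply, smul_eq_mul]
    push_cast
    rfl
  have hLinj : Function.Injective L := by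
    rw [← LinearMap.ker_eq_bot, LinearMap.ker_eq_bot']
    intro x hx
    have h0 : ∑ i, (x i : ℝ) • icast (t i) = 0 := by
      rw [← hcastL x, hx]
      funext j; simp
    rw [Fintype.linearIndependent_iff] at hli'
    funext i
    have := hli' (fun i => (x i : ℝ)) h0 i
    exact_mod_cast this
  have hLK : ∀ x : Fin k.dim → ℤ, (∀ i, 0 ≤ x i) →
      (fun j => ((L x j : ℤ) : ℝ)) ∈ K a := by
    intro x hx
    rw [hcastL x, hKeq a]
    refine Set.mem_iUnion.2 ⟨l, gcone_mono hT ?_⟩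
    exact sum_mem_gcone T t htT (fun i => (x i : ℝ)) (fun i => by exact_mod_cast hx i)
  refine ⟨⟨L, hLinj, a, hLK⟩, ?_⟩
  intro v
  rw [toVec_eq]
  funext j
  rw [vecMap_apply]
  simp only [Finset.sum_apply, Pi.smul_apply, smul_eq_mul]
  apply Finset.sum_congr rfl
  intro i _
  have : lmat L j i = t i j := by
    show L (Pi.single i 1) j = t i j
    rw [hLs i]
  rw [this]
  ring

include hKeq in
/-- simplicial cones of `R(K)` from linearly independent subsets of generators -/
theorem exists_cone_of_good (a : ι) (l : Fin (m a)) (T : Finset (Fin N → ℤ)) (hT : T ⊆ gen a l)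
    (hne : T.Nonempty) (hli : LinearIndependent ℝ (fun g : T => icast (g : Fin N → ℤ))) :
    ∃ (n : ICone) (φ : RFan.Cone K n), ∀ c : (Fin N → ℤ) → ℝ, (∀ g ∈ T, 0 < c g) →
      ∃ v : Orth n, RFan.toVec K n φ v.1 = ∑ g ∈ T, c g • icast g := by
  classical
  have hcard : 0 < T.card := Finset.card_pos.2 hne
  let e : Fin (cone T.card hcard).dim ≃ T := T.equivFin.symm
  let t : Fin (cone T.card hcard).dim → (Fin N → ℤ) := fun i => (e i : Fin N → ℤ)
  have htT : ∀ i, t i ∈ T := fun i => (e i).2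
  have hli' : LinearIndependent ℝ (fun i => icast (t i)) := hli.comp e e.injective
  obtain ⟨φ, hφ⟩ := exists_cone_aux K m gen hKeq a l T hT (cone T.card hcard) t htT hli'
  refine ⟨cone T.card hcard, φ, ?_⟩
  intro c hc
  have hvne : (fun i : Fin (cone T.card hcard).dim => c (t i)) ≠ 0 := by
    intro h0
    have := hc (t ⟨0, hcard⟩) (htT _)
    have h1 := congrFun h0 ⟨0, hcard⟩
    simp only [Pi.zero_apply] at h1
    rw [h1] at this
    exact lt_irrefl _ this
  refine ⟨⟨fun i => c (t i), fun i => (hc (t i) (htT i)).le, hvne⟩, ?_⟩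
  rw [hφ]
  rw [← Finset.sum_coe_sort T, ← Equiv.sum_comp e]

end rfan

end Groth.Agent.Lib.Helper4.FanVec4
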