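import Mathlib.Tactic
import Mathlib.Topology.Separation.Hausdorff
import Groth.Prelude.Def_W4c6instabfans3FanCvx
import Groth.Agent.Lib.Helper4.FanVec4

namespace Groth.Agent.Lib.Helper4.FanVec5

open CategoryTheory Opposite Instab Instab.Fan
open Groth.Agent.Lib.Helper4.FanCone2 Groth.Agent.Lib.Helper4.FanCone3
  Groth.Agent.Lib.Helper4.FanCone4 Groth.Agent.Lib.Helper4.FanTop1 Groth.Agent.Lib.Helper4.FanTop2
  Groth.Agent.Lib.Helper4.FanTop3 Groth.Agent.Lib.Helper4.FanTop4 Groth.Agent.Lib.Helper4.FanTop6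
  Groth.Agent.Lib.Helper4.FanVec1 Groth.Agent.Lib.Helper4.FanVec2 Groth.Agent.Lib.Helper4.FanVec3
  Groth.Agent.Lib.Helper4.FanVec4

universe u

theorem isCompact_cell {F : Fan.{u}} {n : ICone} (σ : F.obj (op n)) : IsCompact (P.cell σ) := by
  have : P.cell σ = P.mk σ '' {w : Orth n | csum w.1 = 1} := by
    ext x
    constructor
    · rintro ⟨v, rfl⟩
      exact ⟨nu v, csum_nu v, mk_nu σ v⟩
    · rintro ⟨v, -, rfl⟩
      exact ⟨v, rfl⟩
  rw [this]
  exact (isCompact_simplex n).image (continuous_mk σ)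

section rfan
variable {N : ℕ} {ι : Type} (K : ι → Set (Fin N → ℝ))
  (m : ι → ℕ) (gen : ∀ a, Fin (m a) → Finset (Fin N → ℤ))
  (hKeq : ∀ a, K a = ⋃ l, gcone (gen a l))

/-- good subsets of generators -/
def good (a : ι) (l : Fin (m a)) : Set (Finset (Fin N → ℤ)) :=
  {T | T ⊆ gen a l ∧ T.Nonempty ∧ LinearIndependent ℝ (fun g : T => icast (g : Fin N → ℤ))}

theorem good_finite (a : ι) (l : Fin (m a)) : (good m gen a l).Finite :=
  Set.Finite.subset (Finset.finite_toSet (gen a l).powerset)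
    (fun T hT => Finset.mem_coe.2 (Finset.mem_powerset.2 hT.1))

include hKeq in
/-- every nonzero vector of `K a` is the real point of a good simplicial cone -/
theorem exists_good_of_mem (a : ι) (w : Fin N → ℝ) (hw : w ≠ 0) (hwK : w ∈ K a) :
    ∃ (l : Fin (m a)) (T : Finset (Fin N → ℤ)), T ∈ good m gen a l ∧
      ∃ c : (Fin N → ℤ) → ℝ, (∀ g ∈ T, 0 < c g) ∧ w = ∑ g ∈ T, c g • icast g := by
  rw [hKeq a] at hwK
  obtain ⟨l, hl⟩ := Set.mem_iUnion.1 hwK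
  obtain ⟨T, hTG, hli, c, hpos, hsum⟩ := gcone_carath (gen a l) w hl
  refine ⟨l, T, ⟨hTG, ?_, hli⟩, c, hpos, hsum⟩
  rw [Finset.nonempty_iff_ne_empty]
  rintro rfl
  apply hw
  rw [hsum]
  simp

include hKeq in
theorem compactSpace_P [Finite ι] : CompactSpace (P (RFan K)) := by
  classical
  haveI : ∀ a l, Finite ↥(good m gen a l) := fun a l => (good_finite m gen a l).to_subtype
  -- choose cones
  have hcone : ∀ j : (Σ a : ι, Σ l : Fin (m a), ↥(good m gen a l)),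
      ∃ (n : ICone) (φ : RFan.Cone K n), ∀ c : (Fin N → ℤ) → ℝ, (∀ g ∈ j.2.2.1, 0 < c g) →
        ∃ v : Orth n, RFan.toVec K n φ v.1 = ∑ g ∈ j.2.2.1, c g • icast g := by
    rintro ⟨a, l, ⟨T, hT⟩⟩
    exact exists_cone_of_good K m gen hKeq a l T hT.1 hT.2.1 hT.2.2
  choose n φ hφ using hcone
  have hcover : (Set.univ : Set (P (RFan K))) = ⋃ j, P.cell (F := RFan K) (φ j) := by
    apply Set.eq_of_subset_of_subset
    · intro x _
      obtain ⟨k, ψ, v, rfl⟩ := exists_mk x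
      obtain ⟨a, ha⟩ := toVec_mem_K K m gen hKeq ψ
      obtain ⟨l, T, hT, c, hc, hsum⟩ := exists_good_of_mem K m gen hKeq a _ (toVec_ne_zero K ψ v) (ha v)
      obtain ⟨v', hv'⟩ := hφ ⟨a, l, ⟨T, hT⟩⟩ c hc
      refine Set.mem_iUnion.2 ⟨⟨a, l, ⟨T, hT⟩⟩, v', ?_⟩
      apply gmap_injective K
      rw [gmap_mk, gmap_mk, ray_eq_iff]
      exact ⟨1, one_pos, by rw [one_smul, hv', ← hsum]⟩
    · exact Set.subset_univ _
  refine ⟨?_⟩
  rw [hcover]
  exact isCompact_iUnion (fun j => isCompact_cell (F := RFan K) (φ j))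

end rfan

theorem main19372 {N : ℕ} {ι : Type} [Finite ι] (K : ι → Set (Fin N → ℝ))
    (hK : ∀ a, ∃ (m : ℕ) (gen : Fin m → Finset (Fin N → ℤ)),
      K a = Set.iUnion fun l => {x | ∃ c : (Fin N → ℤ) → ℝ, (∀ g, 0 ≤ c g) ∧
        x = Finset.sum (gen l) fun g => c g • fun j => (g j : ℝ)}) :
    ∃ g : Fan.P (RFan K) → Fan.Rays N,
      (∀ (n : ICone) (φ : (RFan K).obj (op n)) (v : Fan.Orth n) (h : RFan.toVec K n φ v.1 ≠ 0),
        g (Fan.P.mk φ v) = Quot.mk _ ⟨RFan.toVec K n φ v.1, h⟩) ∧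
      Topology.IsEmbedding g ∧
      Set.range g = {r | ∃ w : {w : Fin N → ℝ // w ≠ 0}, r = Quot.mk _ w ∧ w.1 ∈ Set.iUnion K} := by
  choose m gen hKeq' using hK
  have hKeq : ∀ a, K a = ⋃ l, gcone (gen a l) := hKeq'
  haveI := compactSpace_P K m gen hKeq
  refine ⟨gmap K, fun n φ v h => rfl, ?_, ?_⟩
  · exact ((continuous_gmap K).isClosedEmbedding (gmap_injective K)).isEmbedding
  · ext r
    constructor
    · rintro ⟨x, rfl⟩
      obtain ⟨k, ψ, v, rfl⟩ := exists_mk x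
      obtain ⟨a, ha⟩ := toVec_mem_K K m gen hKeq ψ
      exact ⟨⟨RFan.toVec K k ψ v.1, toVec_ne_zero K ψ v⟩, rfl, Set.mem_iUnion.2 ⟨a, ha v⟩⟩
    · rintro ⟨⟨w, hw⟩, rfl, hwK⟩
      obtain ⟨a, ha⟩ := Set.mem_iUnion.1 hwK
      obtain ⟨l, T, hT, c, hc, hsum⟩ := exists_good_of_mem K m gen hKeq a w hw ha
      obtain ⟨n, φ, hφ⟩ := exists_cone_of_good K m gen hKeq a l T hT.1 hT.2.1 hT.2.2
      obtain ⟨v, hv⟩ := hφ c hc
      refine ⟨P.mk (F := RFan K) φ v, ?_⟩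
      rw [gmap_mk]
      show FanVec3.ray _ _ = FanVec3.ray w hw
      rw [ray_eq_iff]
      exact ⟨1, one_pos, by rw [one_smul, hv, ← hsum]⟩

end Groth.Agent.Lib.Helper4.FanVec5
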