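import Mathlib.AlgebraicGeometry.Morphisms.Separated
import Mathlib.AlgebraicGeometry.Morphisms.Immersion
import Mathlib.AlgebraicGeometry.PullbackCarrier
import Mathlib.Tactic

set_option autoImplicit false
universe u
open CategoryTheory AlgebraicGeometry TopologicalSpace Limits

namespace Groth.Agent.Lib.Helper4.FibrePairsSeparated

theorem main {X S : Scheme.{u}} [IsAffine S] (f : X ⟶ S)
    (h : ∀ x y : X, f x = f y → ∃ U : X.Opens, IsAffineOpen U ∧ x ∈ U ∧ y ∈ U) :
    IsSeparated f := by
  constructor
  apply IsClosedImmersion.of_isPreimmersion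
  rw [← closure_subset_iff_isClosed]
  intro z hz
  have hfxy : f (pullback.fst f f z) = f (pullback.snd f f z) := by
    rw [← Scheme.Hom.comp_apply, ← Scheme.Hom.comp_apply, pullback.condition]
  obtain ⟨U, hU, hxU, hyU⟩ := h _ _ hfxy
  have : IsAffine (U : Scheme.{u}) := hU
  let g : (U : Scheme.{u}) ⟶ S := U.ι ≫ f
  have hsep : IsSeparated g := inferInstance
  let m : pullback g g ⟶ pullback f f :=
    pullback.map g g f f U.ι U.ι (𝟙 S) (by simp [g]) (by simp [g])
  have hm : IsOpenImmersion m := inferInstance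
  have hrange : Set.range m = pullback.fst f f ⁻¹' Set.range U.ι ∩ pullback.snd f f ⁻¹' Set.range U.ι :=
    Scheme.Pullback.range_map g g f f U.ι U.ι (𝟙 S) (by simp [g]) (by simp [g])
  obtain ⟨z', rfl⟩ : z ∈ Set.range m := by
    rw [hrange, Scheme.Opens.range_ι]
    exact ⟨hxU, hyU⟩
  have hnat : pullback.diagonal g ≫ m = U.ι ≫ pullback.diagonal f := by
    apply pullback.hom_ext
    · rw [Category.assoc, pullback.lift_fst, pullback.diagonal_fst_assoc, Category.assoc,
        pullback.diagonal_fst, Category.comp_id]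
    · rw [Category.assoc, pullback.lift_snd, pullback.diagonal_snd_assoc, Category.assoc,
        pullback.diagonal_snd, Category.comp_id]
  have hK : m ⁻¹' Set.range (pullback.diagonal f) = Set.range (pullback.diagonal g) := by
    ext t
    constructor
    · rintro ⟨x, hx⟩
      have hxU' : x ∈ U := by
        have h1 : pullback.fst f f (m t) ∈ Set.range U.ι := by
          have : m t ∈ Set.range m := ⟨t, rfl⟩
          rw [hrange] at this
          exact this.1
        rw [← hx, ← Scheme.Hom.comp_apply, pullback.diagonal_fst, Scheme.Opens.range_ι] at h1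
        exact h1
      obtain ⟨u, rfl⟩ : x ∈ Set.range U.ι := by rw [Scheme.Opens.range_ι]; exact hxU'
      refine ⟨u, ?_⟩
      apply m.isOpenEmbedding.injective
      rw [← Scheme.Hom.comp_apply, hnat, Scheme.Hom.comp_apply, hx]
    · rintro ⟨u, rfl⟩
      refine ⟨U.ι u, ?_⟩
      rw [← Scheme.Hom.comp_apply, ← hnat, Scheme.Hom.comp_apply]
  have hz' : z' ∈ closure (m ⁻¹' Set.range (pullback.diagonal f)) := by
    rw [← m.isOpenEmbedding.isOpenMap.preimage_closure_eq_closure_preimage m.continuous]
    exact hz
  rw [hK, (pullback.diagonal g).isClosedEmbedding.isClosed_range.closure_eq] at hz'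
  obtain ⟨u, rfl⟩ := hz'
  exact ⟨U.ι u, by rw [← Scheme.Hom.comp_apply, ← hnat, Scheme.Hom.comp_apply]⟩

end Groth.Agent.Lib.Helper4.FibrePairsSeparated
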