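import Mathlib.Tactic
import Mathlib.AlgebraicGeometry.Geometrically.Integral
import Mathlib.AlgebraicGeometry.Group.Abelian
import Mathlib.AlgebraicGeometry.Morphisms.Proper
import Mathlib.CategoryTheory.Monoidal.Cartesian.Grp_
import Mathlib.CategoryTheory.Monoidal.Cartesian.Over
import Groth.Agent.Lib.Helper4.RedSubscheme
import Groth.Agent.Lib.Helper4.ProperAntiAff2
import Groth.Agent.Lib.Helper4.AntiAffRigid
import Groth.Agent.Lib.Helper4.AntiAffOver

open CategoryTheory AlgebraicGeometry Limits TopologicalSpace MonoidalCategory CartesianMonoidalCategory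
  MonObj GrpObj

namespace Groth.Agent.Lib.Helper4.FibreTranslate

universe u

open Groth.Agent.Lib.Helper4.RedSubscheme Groth.Agent.Lib.Helper4.ProperAntiAff2
  Groth.Agent.Lib.Helper4.AntiAffRigid Groth.Agent.Lib.Helper4.AntiAffOver

theorem isClosed_connectedComponentIn {α : Type*} [TopologicalSpace α] {F : Set α}
    (hF : IsClosed F) (x : α) : IsClosed (connectedComponentIn F x) := by
  by_cases hx : x ∈ F
  · rw [connectedComponentIn_eq_image hx]
    exact hF.isClosedEmbedding_subtypeVal.isClosedMap _ isClosed_connectedComponent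
  · rw [connectedComponentIn_eq_empty hx]
    exact isClosed_empty

theorem isClosed_singleton_of_section (k : Type u) [Field k] {Y : Scheme.{u}}
    (q : Y ⟶ Spec (CommRingCat.of k)) (s : Spec (CommRingCat.of k) ⟶ Y)
    (hs : s ≫ q = 𝟙 _) (w : ↥(Spec (CommRingCat.of k))) : IsClosed ({s w} : Set Y) := by
  haveI : Subsingleton ↥(Spec (CommRingCat.of k)) :=
    inferInstanceAs (Subsingleton (PrimeSpectrum k))
  haveI := isClosedImmersion_of_comp_eq_id q s hs
  have : ({s w} : Set Y) = Set.range s := by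
    ext y
    constructor
    · rintro rfl
      exact ⟨w, rfl⟩
    · rintro ⟨w', rfl⟩
      rw [Subsingleton.elim w' w]
      rfl
  rw [this]
  exact s.isClosedEmbedding.isClosed_range

/-- a nonempty closed subscheme of the spectrum of a field is everything -/
theorem isIso_of_isClosedImmersion_of_nonempty (k : Type u) [Field k] {P : Scheme.{u}}
    (g : P ⟶ Spec (CommRingCat.of k)) [IsClosedImmersion g] [Nonempty P] : IsIso g := by
  apply IsClosedImmersion.isIso_of_injective_of_isAffine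
  haveI : Nonempty (⊤ : P.Opens) := by
    obtain ⟨w⟩ := ‹Nonempty P›
    exact ⟨⟨w, trivial⟩⟩
  haveI : Nontrivial Γ(P, ⊤) := inferInstance
  have h1 : Function.Injective ((Scheme.ΓSpecIso (CommRingCat.of k)).inv ≫ g.appTop).hom :=
    RingHom.injective _
  have h2 : g.appTop = (Scheme.ΓSpecIso (CommRingCat.of k)).hom ≫
      ((Scheme.ΓSpecIso (CommRingCat.of k)).inv ≫ g.appTop) := by
    rw [Iso.hom_inv_id_assoc]
  rw [h2]
  intro a b hab
  have h3 : ∀ c, ((Scheme.ΓSpecIso (CommRingCat.of k)).hom ≫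
      ((Scheme.ΓSpecIso (CommRingCat.of k)).inv ≫ g.appTop)) c =
      ((Scheme.ΓSpecIso (CommRingCat.of k)).inv ≫ g.appTop).hom
        ((Scheme.ΓSpecIso (CommRingCat.of k)).hom c) := fun c => rfl
  rw [h3, h3] at hab
  exact (ConcreteCategory.bijective_of_isIso (Scheme.ΓSpecIso (CommRingCat.of k)).hom).1 (h1 hab)


theorem translate_fibre_const (k : Type u) [Field k] (X : Over (Spec (CommRingCat.of k)))
    [GrpObj X] [IsProper X.hom] [IsLocallyNoetherian X.left] [PreconnectedSpace X.left]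
    {Y : Scheme.{u}} (q : Y ⟶ Spec (CommRingCat.of k)) [IsSeparated q] (f : X.left ⟶ Y)
    (hf : f ≫ q = X.hom)
    (x₁ z : 𝟙_ (Over (Spec (CommRingCat.of k))) ⟶ X) (u : X.left)
    (hu : u ∈ connectedComponentIn (f ⁻¹' {f (x₁.left (IsLocalRing.closedPoint k))})
      (x₁.left (IsLocalRing.closedPoint k))) :
    f ((lift (toUnit X ≫ (z * x₁⁻¹)) (𝟙 X) ≫ μ[X]).left u) =
      f (z.left (IsLocalRing.closedPoint k)) := by
  classical
  let pt : ↥(Spec (CommRingCat.of k)) := IsLocalRing.closedPoint k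
  have hpt : ∀ w : ↥(Spec (CommRingCat.of k)), w = pt := fun w =>
    (Subsingleton.elim (α := PrimeSpectrum k) w pt)
  let p₁ : X.left := x₁.left pt
  let C : Set X.left := connectedComponentIn (f ⁻¹' {f p₁}) p₁
  have hp₁mem : p₁ ∈ f ⁻¹' {f p₁} := rfl
  have hclosedpt : IsClosed ({f p₁} : Set Y) := by
    have := isClosed_singleton_of_section k q (x₁.left ≫ f)
      (by rw [Category.assoc, hf]; exact Over.w x₁) pt
    simpa using this
  have hfib : IsClosed (f ⁻¹' {f p₁}) := hclosedpt.preimage f.continuous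
  have hCclosed : IsClosed C := isClosed_connectedComponentIn hfib p₁
  have hCconn : _root_.IsConnected C := isConnected_connectedComponentIn_iff.mpr hp₁mem
  let Z : Closeds X.left := ⟨C, hCclosed⟩
  let F : Scheme.{u} := (Scheme.IdealSheafData.vanishingIdeal Z).subscheme
  let j : F ⟶ X.left := (Scheme.IdealSheafData.vanishingIdeal Z).subschemeι
  have hrange : Set.range j = C := range_subschemeι_vanishingIdeal Z
  haveI : IsReduced F := isReduced_subscheme_vanishingIdeal Z
  haveI : ConnectedSpace F := connectedSpace_subscheme_vanishingIdeal Z hCconn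
  haveI : IsClosedImmersion j := inferInstance
  -- rational point of F
  obtain ⟨u₁, hu₁⟩ : p₁ ∈ Set.range j := hrange ▸ mem_connectedComponentIn hp₁mem
  obtain ⟨w₀, -, -⟩ := Scheme.Pullback.exists_preimage_pullback (f := j) (g := x₁.left) u₁ pt hu₁
  haveI : Nonempty ↥(pullback j x₁.left) := ⟨w₀⟩
  haveI hiso : IsIso (pullback.snd j x₁.left) :=
    isIso_of_isClosedImmersion_of_nonempty k (pullback.snd j x₁.left)
  let eF : Spec (CommRingCat.of k) ⟶ F := inv (pullback.snd j x₁.left) ≫ pullback.fst j x₁.left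
  have heF : eF ≫ j = x₁.left := by
    rw [Category.assoc, pullback.condition, IsIso.inv_hom_id_assoc]
  let F' : Over (Spec (CommRingCat.of k)) := Over.mk (j ≫ X.hom)
  let j' : F' ⟶ X := Over.homMk j rfl
  let eF' : 𝟙_ (Over (Spec (CommRingCat.of k))) ⟶ F' := Over.homMk eF (by
    change eF ≫ j ≫ X.hom = _
    rw [← Category.assoc, heF]
    exact Over.w x₁)
  have heF' : eF' ≫ j' = x₁ := Over.OverMorphism.ext heF
  haveI hprop : IsProper F'.hom := by
    change IsProper (j ≫ X.hom)
    infer_instance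
  haveI : IsReduced F'.left := ‹IsReduced F›
  haveI : ConnectedSpace F'.left := ‹ConnectedSpace F›
  have hbij := bijective_of_universallyClosed_of_point k F' eF'
  have hXiso : IsIso F'.hom.appTop := isIso_appTop_of_bijective k F' hbij
  haveI : CompactSpace F'.left := QuasiCompact.compactSpace_of_compactSpace F'.hom
  haveI : QuasiSeparatedSpace F'.left := quasiSeparatedSpace_of_quasiSeparated F'.hom
  -- the morphism (u, z) ↦ z * x₁⁻¹ * u
  let ψ : F' ⊗ X ⟶ X := snd F' X * (toUnit (F' ⊗ X) ≫ x₁)⁻¹ * (fst F' X ≫ j')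
  let φ : pullback F'.hom X.hom ⟶ Y := ψ.left ≫ f
  have hφ : φ ≫ q = pullback.snd F'.hom X.hom ≫ X.hom := by
    rw [Category.assoc, hf, Over.w ψ, Over.tensorObj_hom, pullback.condition]
  let σ : X.left ⟶ pullback F'.hom X.hom := (lift (toUnit X ≫ eF') (𝟙 X)).left
  have hσ : σ ≫ pullback.snd F'.hom X.hom = 𝟙 X.left := by
    have := congrArg (fun t => t.left) (lift_snd (toUnit X ≫ eF') (𝟙 X))
    exact this
  have hu1 : ∀ (T : Over (Spec (CommRingCat.of k))) (a b : T ⟶ 𝟙_ (Over (Spec (CommRingCat.of k)))),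
      a = b := fun T a b => toUnit_unique a b
  have hu2 : ∀ {T T' : Over (Spec (CommRingCat.of k))} (a : T ⟶ T') (b : T ⟶ 𝟙_ _)
      (c : 𝟙_ (Over (Spec (CommRingCat.of k))) ⟶ X), a ≫ toUnit T' ≫ c = b ≫ c := by
    intro T T' a b c
    rw [← Category.assoc]
    congr 1
    exact hu1 _ _ _
  -- identity (1): restricted to `F × {x₁}` the map `ψ` is the inclusion
  have hψ1 : (F' ◁ x₁) ≫ ψ = fst F' (𝟙_ _) ≫ j' := by
    change (F' ◁ x₁) ≫ (snd F' X * (toUnit (F' ⊗ X) ≫ x₁)⁻¹ * (fst F' X ≫ j')) = _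
    rw [comp_mul, comp_mul, GrpObj.comp_inv, whiskerLeft_snd, whiskerLeft_fst_assoc,
      hu2 (F' ◁ x₁) (snd F' (𝟙_ _)) x₁, mul_inv_cancel, _root_.one_mul]
  -- identity (2): `ψ (e_F, z) = z`
  have hψ2 : ∀ z' : 𝟙_ (Over (Spec (CommRingCat.of k))) ⟶ X, lift eF' z' ≫ ψ = z' := by
    intro z'
    change lift eF' z' ≫ (snd F' X * (toUnit (F' ⊗ X) ≫ x₁)⁻¹ * (fst F' X ≫ j')) = _
    rw [comp_mul, comp_mul, GrpObj.comp_inv, lift_snd, lift_fst_assoc, heF',
      hu2 (lift eF' z') (𝟙 _) x₁, Category.id_comp, inv_mul_cancel_right]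
  -- identity (3): `ψ (u, z) = L_{z x₁⁻¹} u`
  have hψ3 : lift (𝟙 F') (toUnit F' ≫ z) ≫ ψ =
      j' ≫ (lift (toUnit X ≫ (z * x₁⁻¹)) (𝟙 X) ≫ μ[X]) := by
    change lift (𝟙 F') (toUnit F' ≫ z) ≫
      (snd F' X * (toUnit (F' ⊗ X) ≫ x₁)⁻¹ * (fst F' X ≫ j')) = _
    rw [← Hom.mul_def, comp_mul, comp_mul, comp_mul, GrpObj.comp_inv, lift_snd, lift_fst_assoc,
      Category.id_comp, Category.comp_id, comp_mul, comp_mul, GrpObj.comp_inv, GrpObj.comp_inv,
      hu2 (lift (𝟙 F') (toUnit F' ≫ z)) (toUnit F') x₁,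
      hu2 j' (toUnit F') x₁, hu2 j' (toUnit F') z]
  have hCsub : ∀ v : F, f (j v) = f p₁ := by
    intro v
    have h1 : j v ∈ C := hrange ▸ ⟨v, rfl⟩
    have h2 : j v ∈ f ⁻¹' {f p₁} := connectedComponentIn_subset _ _ h1
    exact h2
  have hσz : ∀ z' : 𝟙_ (Over (Spec (CommRingCat.of k))) ⟶ X,
      z'.left ≫ σ ≫ ψ.left = z'.left := by
    intro z'
    have h1 : z' ≫ lift (toUnit X ≫ eF') (𝟙 X) = lift eF' z' := by
      rw [comp_lift, Category.comp_id, ← Category.assoc,
        hu1 _ (z' ≫ toUnit X) (𝟙 _), Category.id_comp]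
    have h2 := congrArg (fun t => t.left) (hψ2 z')
    simp only [← h1, Over.comp_left] at h2
    exact h2
  have key := rigidity F'.hom X.hom q hXiso φ hφ σ hσ p₁ ?_
  · obtain ⟨u₀, rfl⟩ : u ∈ Set.range j := hrange ▸ hu
    have h3 := congrArg (fun t => t.left) hψ3
    simp only [Over.comp_left] at h3
    have h4 : (lift (𝟙 F') (toUnit F' ≫ z)).left ≫ pullback.snd F'.hom X.hom =
        (toUnit F').left ≫ z.left := by
      have := congrArg (fun t => t.left) (lift_snd (𝟙 F') (toUnit F' ≫ z))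
      simp only [Over.comp_left] at this
      exact this
    have h5 : j ≫ (lift (toUnit X ≫ (z * x₁⁻¹)) (𝟙 X)).left ≫ μ[X].left ≫ f =
        (toUnit F').left ≫ z.left ≫ f := by
      have h6 : j ≫ (lift (toUnit X ≫ (z * x₁⁻¹)) (𝟙 X)).left ≫ μ[X].left =
          (lift (𝟙 F') (toUnit F' ≫ z)).left ≫ ψ.left := h3.symm
      calc j ≫ (lift (toUnit X ≫ (z * x₁⁻¹)) (𝟙 X)).left ≫ μ[X].left ≫ f
          = (j ≫ (lift (toUnit X ≫ (z * x₁⁻¹)) (𝟙 X)).left ≫ μ[X].left) ≫ f := by
            simp only [Category.assoc]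
        _ = (lift (𝟙 F') (toUnit F' ≫ z)).left ≫ φ := by rw [h6, Category.assoc]
        _ = (lift (𝟙 F') (toUnit F' ≫ z)).left ≫ pullback.snd F'.hom X.hom ≫ σ ≫ φ := by
            rw [← key]
        _ = (toUnit F').left ≫ (z.left ≫ σ ≫ ψ.left) ≫ f := by
            rw [← Category.assoc, h4]
            simp only [Category.assoc, φ]
        _ = (toUnit F').left ≫ z.left ≫ f := by rw [hσz z]
    have h7 := congrArg (fun t : F ⟶ Y => t u₀) h5
    simp only [Scheme.Hom.comp_apply, Over.comp_left] at h7 ⊢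
    rw [h7]
    congr 2
    exact hpt _
  · intro w hw
    have hwr : w ∈ Set.range (F' ◁ x₁).left := by
      rw [Over.whiskerLeft_left, Scheme.Pullback.range_map]
      refine ⟨⟨pullback.fst F'.hom X.hom w, rfl⟩, ⟨pt, hw.symm⟩⟩
    obtain ⟨w', rfl⟩ := hwr
    have h1 := congrArg (fun t => t.left) hψ1
    simp only [Over.comp_left] at h1
    have h2 : φ ((F' ◁ x₁).left w') = f p₁ := by
      have h3 : (F' ◁ x₁).left ≫ φ = (fst F' (𝟙_ _)).left ≫ j ≫ f := by
        calc (F' ◁ x₁).left ≫ φ = ((F' ◁ x₁).left ≫ ψ.left) ≫ f := by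
              simp only [Category.assoc, φ]
          _ = (fst F' (𝟙_ _)).left ≫ j ≫ f := by
              rw [h1, Category.assoc]
              rfl
      have h4 := congrArg (fun t : (F' ⊗ 𝟙_ _).left ⟶ Y => t w') h3
      simp only [Scheme.Hom.comp_apply] at h4
      rw [h4]
      exact hCsub _
    have h5 : φ (σ p₁) = f p₁ := by
      have h6 : x₁.left ≫ σ ≫ φ = x₁.left ≫ f := by
        calc x₁.left ≫ σ ≫ φ = (x₁.left ≫ σ ≫ ψ.left) ≫ f := by
              simp only [Category.assoc, φ]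
          _ = x₁.left ≫ f := by rw [hσz x₁]
      have h7 := congrArg (fun t : Spec (CommRingCat.of k) ⟶ Y => t pt) h6
      simp only [Scheme.Hom.comp_apply] at h7
      exact h7
    rw [h2, h5]


theorem main7806 (k : Type u) [Field k] (X : Over (Spec (CommRingCat.of k)))
    [GrpObj X] [IsProper X.hom] [GeometricallyIntegral X.hom]
    {Y : Scheme.{u}} (q : Y ⟶ Spec (CommRingCat.of k)) [IsSeparated q] (f : X.left ⟶ Y)
    (hf : f ≫ q = X.hom)
    (x : 𝟙_ (Over (Spec (CommRingCat.of k))) ⟶ X) :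
    (lift (toUnit X ≫ x) (𝟙 X) ≫ μ[X]).left ''
        connectedComponentIn (f ⁻¹' {f (η[X].left (IsLocalRing.closedPoint k))})
          (η[X].left (IsLocalRing.closedPoint k)) =
      connectedComponentIn (f ⁻¹' {f (x.left (IsLocalRing.closedPoint k))})
        (x.left (IsLocalRing.closedPoint k)) := by
  haveI : IsLocallyNoetherian X.left := LocallyOfFiniteType.isLocallyNoetherian X.hom
  haveI : Subsingleton ↥(Spec (CommRingCat.of k)) :=
    inferInstanceAs (Subsingleton (PrimeSpectrum k))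
  haveI : IsIntegral X.left := GeometricallyIntegral.isIntegral_of_subsingleton X.hom
  haveI : PreconnectedSpace X.left := inferInstance
  let pt : ↥(Spec (CommRingCat.of k)) := IsLocalRing.closedPoint k
  let L : (𝟙_ (Over (Spec (CommRingCat.of k))) ⟶ X) → (X ⟶ X) := fun w =>
    lift (toUnit X ≫ w) (𝟙 X) ≫ μ[X]
  have hL : ∀ w, L w = (toUnit X ≫ w) * 𝟙 X := fun w => (Hom.mul_def _ _).symm
  have hu1 : ∀ (T : Over (Spec (CommRingCat.of k))) (a b : T ⟶ 𝟙_ (Over (Spec (CommRingCat.of k)))),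
      a = b := fun T a b => toUnit_unique a b
  have hLL : ∀ a b, L a ≫ L b = L (b * a) := by
    intro a b
    rw [hL b, comp_mul, Category.comp_id, ← Category.assoc, hu1 _ (L a ≫ toUnit X) (toUnit X),
      hL a, hL (b * a), comp_mul, _root_.mul_assoc]
  have hL1 : L 1 = 𝟙 X := by
    rw [hL, comp_one, _root_.one_mul]
  have hLpt : ∀ w z : 𝟙_ (Over (Spec (CommRingCat.of k))) ⟶ X,
      (L w).left (z.left pt) = (w * z).left pt := by
    intro w z
    have h1 : z ≫ L w = w * z := by
      rw [hL, comp_mul, Category.comp_id, ← Category.assoc, hu1 _ (z ≫ toUnit X) (𝟙 _),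
        Category.id_comp]
    rw [← Scheme.Hom.comp_apply, ← Over.comp_left, h1]
  have hη : η[X] = 1 := one_eq_one X
  -- claim A
  have hA : ∀ u ∈ connectedComponentIn (f ⁻¹' {f (η[X].left pt)}) (η[X].left pt),
      f ((L x).left u) = f (x.left pt) := by
    intro u hu
    have := translate_fibre_const k X q f hf η[X] x u hu
    rw [hη, inv_one, _root_.mul_one] at this
    exact this
  -- claim B
  have hB : ∀ u ∈ connectedComponentIn (f ⁻¹' {f (x.left pt)}) (x.left pt),
      f ((L x⁻¹).left u) = f (η[X].left pt) := by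
    intro u hu
    have := translate_fibre_const k X q f hf x η[X] u hu
    rw [hη, _root_.one_mul] at this
    rw [hη]
    exact this
  have hAsub : (L x).left '' connectedComponentIn (f ⁻¹' {f (η[X].left pt)}) (η[X].left pt) ⊆
      connectedComponentIn (f ⁻¹' {f (x.left pt)}) (x.left pt) := by
    apply IsPreconnected.subset_connectedComponentIn
    · exact isPreconnected_connectedComponentIn.image _ (L x).left.continuous.continuousOn
    · refine ⟨η[X].left pt, mem_connectedComponentIn rfl, ?_⟩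
      rw [hLpt, hη, _root_.mul_one]
    · rintro _ ⟨u, hu, rfl⟩
      exact hA u hu
  have hBsub : (L x⁻¹).left '' connectedComponentIn (f ⁻¹' {f (x.left pt)}) (x.left pt) ⊆
      connectedComponentIn (f ⁻¹' {f (η[X].left pt)}) (η[X].left pt) := by
    apply IsPreconnected.subset_connectedComponentIn
    · exact isPreconnected_connectedComponentIn.image _ (L x⁻¹).left.continuous.continuousOn
    · refine ⟨x.left pt, mem_connectedComponentIn rfl, ?_⟩
      rw [hLpt, inv_mul_cancel, hη]
    · rintro _ ⟨u, hu, rfl⟩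
      exact hB u hu
  apply subset_antisymm hAsub
  intro v hv
  refine ⟨(L x⁻¹).left v, hBsub ⟨v, hv, rfl⟩, ?_⟩
  rw [← Scheme.Hom.comp_apply, ← Over.comp_left, hLL, mul_inv_cancel, hL1]
  rfl

end Groth.Agent.Lib.Helper4.FibreTranslate
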