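import Mathlib.RingTheory.Support
import Mathlib.Tactic

namespace Groth.Agent.Lib.Helper4.FiltSupp

universe u

variable {R : Type u} [CommRing R] (M : Type u) [AddCommGroup M] [Module R M]

theorem supp_quot (I : Ideal R) :
    Module.support R (R ⧸ I) = PrimeSpectrum.zeroLocus (I : Set R) := by
  rw [Module.support_eq_zeroLocus, Ideal.annihilator_quotient]

theorem supp_filtration {n : ℕ} (N : Fin (n + 1) → Submodule R M) (hN : Monotone N) (h0 : N 0 = ⊥)
    (p : Fin n → PrimeSpectrum R)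
    (hquot : ∀ i : Fin n, Nonempty ((↥(N i.succ) ⧸ Submodule.comap (N i.succ).subtype (N i.castSucc)) ≃ₗ[R] (R ⧸ (p i).asIdeal)))
    (i : Fin (n + 1)) :
    Module.support R (N i) = {q | ∃ j : Fin n, j.castSucc < i ∧ p j ≤ q} := by
  induction i using Fin.induction with
  | zero =>
    rw [h0]
    have : Module.support R (⊥ : Submodule R M) = ∅ := Module.support_eq_empty
    rw [this]
    ext q
    simp
  | succ i ih =>
    have hle : N i.castSucc ≤ N i.succ := hN (Fin.castSucc_le_succ i)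
    have hex : Function.Exact (Submodule.inclusion hle)
        (Submodule.mkQ (Submodule.comap (N i.succ).subtype (N i.castSucc))) := by
      rw [LinearMap.exact_iff, Submodule.ker_mkQ, Submodule.range_inclusion]
    rw [Module.support_of_exact hex (Submodule.inclusion_injective hle)
      (Submodule.mkQ_surjective _), ih, (hquot i).some.support_eq, supp_quot]
    ext q
    simp only [Set.mem_union, Set.mem_ofPred_eq, PrimeSpectrum.mem_zeroLocus, SetLike.coe_subset_coe]
    constructor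
    · rintro (⟨j, hj, hjq⟩ | h)
      · exact ⟨j, lt_trans hj (Fin.castSucc_lt_succ), hjq⟩
      · exact ⟨i, Fin.castSucc_lt_succ, h⟩
    · rintro ⟨j, hj, hjq⟩
      rcases lt_or_eq_of_le (Fin.castSucc_lt_succ_iff.1 hj) with h | h
      · exact Or.inl ⟨j, Fin.castSucc_lt_castSucc_iff.2 h, hjq⟩
      · subst h
        exact Or.inr hjq

theorem main [IsNoetherianRing R] [Module.Finite R M]
    {n : ℕ} (N : Fin (n + 1) → Submodule R M) (hN : Monotone N) (h0 : N 0 = ⊥) (hlast : N (Fin.last n) = ⊤)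
    (p : Fin n → PrimeSpectrum R)
    (hquot : ∀ i : Fin n, Nonempty ((↥(N i.succ) ⧸ Submodule.comap (N i.succ).subtype (N i.castSucc)) ≃ₗ[R] (R ⧸ (p i).asIdeal))) :
    {q : PrimeSpectrum R | Minimal (fun x => x ∈ Set.range p) q} = {q : PrimeSpectrum R | Minimal (fun x => x ∈ Module.support R M) q} := by
  have hsupp : Module.support R M = {q | ∃ j : Fin n, p j ≤ q} := by
    have h1 := supp_filtration M N hN h0 p hquot (Fin.last n)
    rw [hlast, (Submodule.topEquiv (R := R) (M := M)).support_eq] at h1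
    rw [h1]
    ext q
    simp only [Set.mem_ofPred_eq]
    exact ⟨fun ⟨j, _, h⟩ => ⟨j, h⟩, fun ⟨j, h⟩ => ⟨j, Fin.castSucc_lt_last j, h⟩⟩
  rw [hsupp]
  ext q
  simp only [Set.mem_ofPred_eq, Minimal]
  constructor
  · rintro ⟨⟨j, rfl⟩, hmin⟩
    refine ⟨⟨j, le_rfl⟩, ?_⟩
    rintro y ⟨j', hj'⟩ hy
    exact (hmin ⟨j', rfl⟩ (hj'.trans hy)).trans hj'
  · rintro ⟨⟨j, hj⟩, hmin⟩
    have hq : q = p j := le_antisymm (hmin ⟨j, le_rfl⟩ hj) hj
    refine ⟨⟨j, hq.symm⟩, ?_⟩
    rintro y ⟨j', rfl⟩ hy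
    exact hmin ⟨j', le_rfl⟩ hy

end Groth.Agent.Lib.Helper4.FiltSupp

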