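import Mathlib.Tactic
import Mathlib.CategoryTheory.Limits.Constructions.FiniteProductsOfBinaryProducts
import Mathlib.CategoryTheory.Limits.Constructions.LimitsOfProductsAndEqualizers
import Mathlib.CategoryTheory.Limits.Constructions.Equalizers

namespace Groth.Agent.Lib.Helper4.FinNonempty

open CategoryTheory CategoryTheory.Limits Opposite

universe w v' u'

variable {E : Type u'} [Category.{v'} E] [HasBinaryProducts E]

/-- products indexed by `Fin (n+1)` from binary products -/
theorem hasProduct_fin_succ : ∀ (n : ℕ) (f : Fin (n + 1) → E), HasProduct f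
  | 0 => fun f => by
    haveI : Subsingleton (Fin (0 + 1)) := inferInstanceAs (Subsingleton (Fin 1))
    let c : Fan f := Fan.mk (f 0) (fun i => eqToHom (congrArg f (Subsingleton.elim 0 i)))
    refine HasLimit.mk ⟨c, Fan.IsLimit.mk c (fun s => s.proj 0) ?_ ?_⟩
    · intro s j
      obtain rfl : j = 0 := Subsingleton.elim _ _
      simp [c]
    · intro s m hm
      have := hm 0
      simpa [c] using this
  | n + 1 => fun f =>
    haveI := hasProduct_fin_succ n
    HasLimit.mk ⟨_, extendFanIsLimit f (limit.isLimit _) (limit.isLimit _)⟩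

theorem hasLimitsOfShape_discrete_fin_succ (n : ℕ) : HasLimitsOfShape (Discrete (Fin (n + 1))) E :=
  ⟨fun K => by
    let that : (Discrete.functor fun n => K.obj ⟨n⟩) ≅ K := Discrete.natIso fun ⟨_⟩ => Iso.refl _
    rw [← hasLimit_iff_of_iso that]
    apply hasProduct_fin_succ⟩

theorem hasLimitsOfShape_discrete (ι : Type w) [Finite ι] [Nonempty ι] :
    HasLimitsOfShape (Discrete ι) E := by
  obtain ⟨n, ⟨e⟩⟩ := Finite.exists_equiv_fin ι
  obtain ⟨k, rfl⟩ : ∃ k, n = k + 1 := by
    cases n with
    | zero => exact (IsEmpty.false (e (Classical.arbitrary ι))).elim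
    | succ k => exact ⟨k, rfl⟩
  haveI := hasLimitsOfShape_discrete_fin_succ (E := E) k
  exact hasLimitsOfShape_of_equivalence (Discrete.equivalence e.symm)

theorem hasProduct_of_finite_nonempty {ι : Type w} [Finite ι] [Nonempty ι] (f : ι → E) :
    HasProduct f := by
  haveI := hasLimitsOfShape_discrete (E := E) ι
  infer_instance

/-- finite nonempty limits from pullbacks and binary products -/
theorem hasLimitsOfShape_of_finite_nonempty [HasPullbacks E] (J : Type w) [SmallCategory J]
    [Finite J] [∀ a b : J, Finite (a ⟶ b)] [Nonempty J] : HasLimitsOfShape J E := by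
  haveI : HasEqualizers E := hasEqualizers_of_hasPullbacks_and_binary_products
  refine ⟨fun F => ?_⟩
  haveI : HasLimit (Discrete.functor F.obj) := hasProduct_of_finite_nonempty _
  haveI : Nonempty (Σ p : J × J, p.1 ⟶ p.2) :=
    ⟨⟨(Classical.arbitrary J, Classical.arbitrary J), 𝟙 _⟩⟩
  haveI : Finite (Σ p : J × J, p.1 ⟶ p.2) := inferInstance
  haveI : HasLimit (Discrete.functor fun f : Σ p : J × J, p.1 ⟶ p.2 => F.obj f.1.2) :=
    hasProduct_of_finite_nonempty _
  exact hasLimit_of_equalizer_and_product F

end Groth.Agent.Lib.Helper4.FinNonempty
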