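import Mathlib.AlgebraicGeometry.Morphisms.Finite
import Mathlib.Tactic
import Groth.Agent.Lib.Helper4.IntegralDim

set_option autoImplicit false
universe u
open CategoryTheory AlgebraicGeometry TopologicalSpace

namespace Groth.Agent.Lib.Helper4.FiniteDim

theorem main {X Y : Scheme.{u}} (f : X ⟶ Y) [IsIntegralHom f] :
    topologicalKrullDim X = topologicalKrullDim (Set.range f.base) ∧
      (Function.Surjective f.base → topologicalKrullDim X = topologicalKrullDim Y) := by
  constructor
  · let f' : X → Set.range f.base := Set.rangeFactorization f.base
    have hf' : Continuous f' := f.continuous.subtype_mk _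
    have hsurj : Function.Surjective f' := Set.rangeFactorization_surjective
    have hclosedrange : IsClosed (Set.range f.base) := f.isClosedMap.isClosed_range
    have : QuasiSober (Set.range f.base) :=
      hclosedrange.isClosedEmbedding_subtypeVal.quasiSober
    have hcl : IsClosedMap f' := by
      intro C hC
      have : f' '' C = Subtype.val ⁻¹' (f.base '' C) := by
        ext ⟨y, hy⟩
        simp only [Set.mem_image, Set.mem_preimage, f']
        constructor
        · rintro ⟨x, hx, hxy⟩
          exact ⟨x, hx, congrArg Subtype.val hxy⟩
        · rintro ⟨x, hx, hxy⟩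
          exact ⟨x, hx, Subtype.ext hxy⟩
      rw [this]
      exact (f.isClosedMap C hC).preimage continuous_subtype_val
    apply le_antisymm
    · apply Groth.Agent.Lib.Helper4.IntegralDim.dim_le_of_fibre_antichain f' hf'
      intro x x' hsp heq
      have heq' : f.base x = f.base x' := congrArg Subtype.val heq
      have hmem : x' ∈ closure {x} ∩ f.base ⁻¹' {f.base x} :=
        ⟨specializes_iff_mem_closure.mp hsp, heq'.symm⟩
      rw [Groth.Agent.Lib.Helper4.IntegralFibre.main f x] at hmem
      exact hmem.symm
    · exact Groth.Agent.Lib.Helper4.DimSurj.main f' hf' hsurj (Or.inl hcl.specializingMap)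
  · intro hs
    exact (Groth.Agent.Lib.Helper4.IntegralDim.main f).2 ⟨hs⟩

end Groth.Agent.Lib.Helper4.FiniteDim
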