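import Mathlib.FieldTheory.Finite.Basic
import Mathlib.FieldTheory.Finiteness
import Mathlib.FieldTheory.IsAlgClosed.AlgebraicClosure
import Mathlib.LinearAlgebra.Dual.Lemmas
import Mathlib.LinearAlgebra.Dimension.OrzechProperty
import Mathlib.RingTheory.Flat.Basic
import Mathlib.RingTheory.TensorProduct.Basic
import Mathlib.RingTheory.Adjoin.Basic
import Mathlib.Tactic

set_option autoImplicit false
set_option linter.unusedSectionVars false

namespace Groth.Agent.Lib.Helper4.FiniteFieldDualBasis
open TensorProduct

universe u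

section generic
variable {K : Type*} [Field K] {V : Type*} [Fintype V] [DecidableEq V] {ι : Type*} [Fintype ι]
  [DecidableEq ι]

/-- monomials -/
def mono (ev : ι → (V → K)) (β : ι → ℕ) : V → K := ∏ i, ev i ^ β i

theorem mono_add (ev : ι → (V → K)) (β γ : ι → ℕ) : mono ev (β + γ) = mono ev β * mono ev γ := by
  simp only [mono, Pi.add_apply, pow_add, Finset.prod_mul_distrib]

theorem mono_single (ev : ι → (V → K)) (i : ι) (d : ℕ) : mono ev (Pi.single i d) = ev i ^ d := by
  unfold mono
  rw [Fintype.prod_eq_single i]
  · simp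
  · intro j hj; simp [Pi.single_eq_of_ne hj]

theorem mono_zero (ev : ι → (V → K)) : mono ev 0 = 1 := by
  simp [mono]

/-- separating subalgebra of functions on a finite type is everything -/
theorem adjoin_eq_top (ev : ι → (V → K)) (hsep : ∀ x y, x ≠ y → ∃ i, ev i x ≠ ev i y) :
    Algebra.adjoin K (Set.range ev) = ⊤ := by
  set A := Algebra.adjoin K (Set.range ev) with hA
  have hev : ∀ i, ev i ∈ A := fun i => Algebra.subset_adjoin ⟨i, rfl⟩
  have hδ : ∀ x : V, (Pi.single x (1 : K) : V → K) ∈ A := by
    intro x
    choose i hi using hsep x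
    let g : V → (V → K) := fun y => if h : x = y then 1 else
      (ev (i y h) x - ev (i y h) y)⁻¹ • (ev (i y h) - algebraMap K (V → K) (ev (i y h) y))
    have hg : ∀ y, g y ∈ A := by
      intro y
      by_cases hy : x = y
      · simp only [g, hy, dite_true]; exact A.one_mem
      · simp only [g, hy, dite_false]
        exact A.smul_mem (A.sub_mem (hev _) (A.algebraMap_mem _)) _
    have : (Pi.single x (1 : K) : V → K) = ∏ y, g y := by
      funext z
      rw [Finset.prod_apply]
      by_cases hz : x = z
      · subst hz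
        rw [Pi.single_eq_same]
        symm
        apply Finset.prod_eq_one
        intro y _
        by_cases hy : x = y
        · simp [g, hy]
        · simp only [g, hy, dite_false, Pi.smul_apply, Pi.sub_apply, smul_eq_mul]
          have : ev (i y hy) x - ev (i y hy) y ≠ 0 := sub_ne_zero.mpr (hi y hy)
          simp [Algebra.algebraMap_eq_smul_one, this]
      · rw [Pi.single_eq_of_ne (Ne.symm hz)]
        symm
        apply Finset.prod_eq_zero (Finset.mem_univ z)
        simp [g, hz, Algebra.algebraMap_eq_smul_one]
    rw [this]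
    exact A.prod_mem fun y _ => hg y
  rw [eq_top_iff]
  intro f _
  have : f = ∑ x, f x • (Pi.single x (1 : K) : V → K) := by
    funext z
    simp [Finset.sum_apply, Pi.single_apply]
  rw [this]
  exact A.sum_mem fun x _ => A.smul_mem (hδ x) _

theorem adjoin_le_span_mono (ev : ι → (V → K)) :
    Subalgebra.toSubmodule (Algebra.adjoin K (Set.range ev)) ≤
      Submodule.span K (Set.range (mono ev)) := by
  rw [Algebra.adjoin_eq_span]
  apply Submodule.span_mono
  intro f hf
  induction hf using Submonoid.closure_induction with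
  | mem f hf =>
    obtain ⟨i, rfl⟩ := hf
    exact ⟨Pi.single i 1, by rw [mono_single, pow_one]⟩
  | one => exact ⟨0, mono_zero ev⟩
  | mul f g _ _ hf hg =>
    obtain ⟨β, rfl⟩ := hf
    obtain ⟨γ, rfl⟩ := hg
    exact ⟨β + γ, mono_add ev β γ⟩

theorem mono_mem_span_reduced (ev : ι → (V → K)) (q : ℕ) (hq : 2 ≤ q)
    (hA : ∀ i, ∃ c : ι → K, ev i ^ q = ∑ j, c j • ev j) (β : ι → ℕ) :
    mono ev β ∈ Submodule.span K (Set.range fun α : ι → Fin q => mono ev (fun i => (α i : ℕ))) := by
  induction' h : ∑ i, β i using Nat.strong_induction_on with d IH generalizing β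
  by_cases hred : ∀ i, β i < q
  · exact Submodule.subset_span ⟨fun i => ⟨β i, hred i⟩, rfl⟩
  · push Not at hred
    obtain ⟨i, hi⟩ := hred
    obtain ⟨c, hc⟩ := hA i
    set β' : ι → ℕ := Function.update β i (β i - q) with hβ'
    have hβ : β = β' + Pi.single i q := by
      funext j
      by_cases hj : j = i
      · subst hj; simp [hβ']; omega
      · simp [hβ', Function.update_of_ne hj, Pi.single_eq_of_ne hj]
    have hsum : ∑ j, β j = ∑ j, β' j + q := by
      conv_lhs => rw [hβ]
      simp [Finset.sum_add_distrib]
    rw [hβ, mono_add, mono_single, hc, Finset.mul_sum]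
    apply Submodule.sum_mem
    intro j _
    rw [mul_smul_comm]
    apply Submodule.smul_mem
    have : mono ev β' * ev j = mono ev (β' + Pi.single j 1) := by
      rw [mono_add, mono_single, pow_one]
    rw [this]
    apply IH (∑ l, β' l + 1) (by omega) _
    simp [Finset.sum_add_distrib]

end generic

theorem main (k : Type u) [Field k] [Finite k]
    (V : Type u) [AddCommGroup V] [Module k V] [Module.Finite k V] {ι : Type} [Fintype ι]
    (θ : Module.Basis ι (AlgebraicClosure k)
      (Module.Dual (AlgebraicClosure k) (AlgebraicClosure k ⊗[k] V))) :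
    ∃ x : V, ∀ i : ι, θ i ((1 : AlgebraicClosure k) ⊗ₜ[k] x) ≠ 0 := by
  classical
  have : Fintype k := Fintype.ofFinite k
  have : Finite V := Module.finite_of_finite k
  have : Fintype V := Fintype.ofFinite V
  let q := Fintype.card k
  have hq : 2 ≤ q := Fintype.one_lt_card
  let ev : ι → (V → AlgebraicClosure k) := fun i x => θ i (1 ⊗ₜ x)
  -- Step A
  have hA : ∀ i, ∃ c : ι → AlgebraicClosure k, ev i ^ q = ∑ j, c j • ev j := by
    intro i
    let g : V →ₗ[k] AlgebraicClosure k :=
      (FiniteField.frobeniusAlgHom k (AlgebraicClosure k)).toLinearMap ∘ₗ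
      ((θ i).restrictScalars k ∘ₗ (TensorProduct.mk k (AlgebraicClosure k) V 1))
    let ψ : Module.Dual (AlgebraicClosure k) (AlgebraicClosure k ⊗[k] V) :=
      g.liftBaseChange (AlgebraicClosure k)
    refine ⟨fun j => θ.repr ψ j, ?_⟩
    funext x
    have h1 : ψ (1 ⊗ₜ x) = (ev i x) ^ q := by
      simp [ψ, g, LinearMap.liftBaseChange_tmul, ev, q]
    have h2 : ψ = ∑ j, θ.repr ψ j • θ j := (θ.sum_repr ψ).symm
    simp only [Pi.pow_apply, Finset.sum_apply, Pi.smul_apply]
    rw [← h1]
    have h3 := congrArg (fun φ => φ ((1 : AlgebraicClosure k) ⊗ₜ[k] x)) h2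
    simp only [LinearMap.sum_apply, LinearMap.smul_apply] at h3
    exact h3
  -- separation
  have hsep : ∀ x y : V, x ≠ y → ∃ i, ev i x ≠ ev i y := by
    intro x y hxy
    by_contra hcon
    push Not at hcon
    apply hxy
    have hinj := Module.Flat.tensorProduct_mk_injective k V (AlgebraicClosure k)
    apply hinj
    rw [← sub_eq_zero, ← map_sub]
    rw [← Module.forall_dual_apply_eq_zero_iff (AlgebraicClosure k)]
    intro φ
    rw [← θ.sum_repr φ]
    simp only [LinearMap.sum_apply, LinearMap.smul_apply]
    apply Finset.sum_eq_zero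
    intro i _
    have := hcon i
    simp only [ev] at this
    rw [map_sub, map_sub, TensorProduct.mk_apply, TensorProduct.mk_apply, this, sub_self, smul_zero]
  -- span
  have hspan : ⊤ ≤ Submodule.span (AlgebraicClosure k)
      (Set.range fun α : ι → Fin q => mono ev (fun i => (α i : ℕ))) := by
    have h1 := adjoin_eq_top ev hsep
    have h2 := adjoin_le_span_mono ev
    rw [h1] at h2
    intro f _
    have hf : f ∈ Submodule.span (AlgebraicClosure k) (Set.range (mono ev)) := h2 (by simp)
    refine Submodule.span_le.mpr ?_ hf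
    rintro _ ⟨β, rfl⟩
    exact mono_mem_span_reduced ev q hq hA β
  -- cardinalities
  have hcard : Fintype.card (ι → Fin q) = Module.finrank (AlgebraicClosure k) (V → AlgebraicClosure k) := by
    rw [Module.finrank_fintype_fun_eq_card, Module.card_eq_pow_finrank (K := k) (V := V)]
    have h1 : Fintype.card ι = Module.finrank k V := by
      rw [← Module.finrank_eq_card_basis θ, Subspace.dual_finrank_eq, Module.finrank_baseChange]
    simp [h1, q]
  have hli := linearIndependent_of_top_le_span_of_card_eq_finrank hspan hcard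
  have hne := hli.ne_zero (fun _ => ⟨1, hq⟩)
  have : ∃ x, mono ev (fun _ => 1) x ≠ 0 := by
    by_contra hcon
    push Not at hcon
    exact hne (funext hcon)
  obtain ⟨x, hx⟩ := this
  refine ⟨x, fun i => ?_⟩
  simp only [mono, pow_one, Finset.prod_apply] at hx
  exact Finset.prod_ne_zero_iff.mp hx i (Finset.mem_univ i)

end Groth.Agent.Lib.Helper4.FiniteFieldDualBasis
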