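import Mathlib.Tactic
import Mathlib.AlgebraicGeometry.IdealSheaf.Subscheme
import Mathlib.AlgebraicGeometry.Morphisms.ClosedImmersion
import Groth.Prelude.Def_MoreMor

set_option autoImplicit false
universe u
open CategoryTheory AlgebraicGeometry Limits TopologicalSpace

namespace Groth.Agent.Lib.Helper4.FirstOrderNbhd

/-- a section vanishing on all affine opens below `V` vanishes -/
theorem eq_zero_of_affine {T : Scheme.{u}} (V : T.Opens) (s : Γ(T, V))
    (h : ∀ (W : T.affineOpens) (hW : W.1 ≤ V), T.presheaf.map (homOfLE hW).op s = 0) : s = 0 := by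
  refine T.sheaf.eq_of_locally_eq' (fun W : {W : T.affineOpens // W.1 ≤ V} => W.1.1) V
    (fun W => homOfLE W.2) ?_ s 0 ?_
  · intro x hx
    obtain ⟨W, hW, hxW, hWV⟩ := (T.isBasis_affineOpens).exists_subset_of_mem_open hx V.2
    obtain ⟨W', hW', rfl⟩ := hW
    rw [Opens.mem_iSup]
    exact ⟨⟨⟨W', hW'⟩, hWV⟩, hxW⟩
  · intro W
    rw [map_zero]
    exact h W.1 W.2


theorem mul_eq_zero_of_ker {T T' : Scheme.{u}} (t : T ⟶ T') [QuasiCompact t]
    (ht : t.ker * t.ker = ⊥) (V : T'.Opens) (x y : Γ(T', V))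
    (hx : (t.app V).hom x = 0) (hy : (t.app V).hom y = 0) : x * y = 0 := by
  apply eq_zero_of_affine
  intro W hW
  rw [map_mul]
  have key : ∀ z : Γ(T', V), (t.app V).hom z = 0 →
      (T'.presheaf.map (homOfLE hW).op).hom z ∈ t.ker.ideal W := by
    intro z hz
    rw [Scheme.Hom.ker_apply, RingHom.mem_ker]
    have nat := congrArg (fun φ => φ.hom z) (t.naturality (homOfLE hW).op)
    simp only [CommRingCat.hom_comp, RingHom.comp_apply] at nat
    rw [nat, hz, map_zero]
  have h1 := Ideal.mul_mem_mul (key x hx) (key y hy)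
  have h2 : t.ker.ideal W * t.ker.ideal W = (⊥ : Ideal Γ(T', W.1)) := by
    have := congrArg (fun I => I.ideal W) ht
    simpa using this
  rw [h2] at h1
  exact h1

theorem main1434 {X T T' : Scheme.{u}} (I : X.IdealSheafData) (t : T ⟶ T')
    (ht : MoreMor.IsFirstOrderThickening t)
    (a : T ⟶ I.subscheme) (b : T' ⟶ X) (w : a ≫ I.subschemeι = t ≫ b) :
    ∃! a' : T' ⟶ (I ^ 2).subscheme, a' ≫ (I ^ 2).subschemeι = b := by
  obtain ⟨⟨hci, -⟩, hsq⟩ := ht
  have hle : I ≤ (t ≫ b).ker := by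
    rw [← w]
    conv_lhs => rw [← I.ker_subschemeι]
    exact Scheme.Hom.le_ker_comp _ _
  have hI2 : (I ^ 2).subschemeι.ker ≤ b.ker := by
    rw [Scheme.IdealSheafData.ker_subschemeι]
    unfold Scheme.Hom.ker
    rw [Scheme.IdealSheafData.le_ofIdeals_iff]
    intro U
    rw [Scheme.IdealSheafData.ideal_pow, Pi.pow_apply, pow_two, Ideal.mul_le]
    intro x hx y hy
    rw [RingHom.mem_ker, map_mul]
    have key : ∀ z ∈ I.ideal U, (t.app (b ⁻¹ᵁ U.1)).hom ((b.app U.1).hom z) = 0 := by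
      intro z hz
      have h1 := (Scheme.Hom.ideal_ker_le (t ≫ b) U) (hle U hz)
      rw [RingHom.mem_ker, Scheme.Hom.comp_app] at h1
      exact h1
    exact mul_eq_zero_of_ker t hsq _ _ _ (key x hx) (key y hy)
  refine ⟨IsClosedImmersion.lift _ b hI2, IsClosedImmersion.lift_fac _ _ _, ?_⟩
  intro a' ha'
  rw [← cancel_mono (I ^ 2).subschemeι, ha', IsClosedImmersion.lift_fac]

end Groth.Agent.Lib.Helper4.FirstOrderNbhd
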