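import Groth.Agent.Lib.Helper28.SecExtendQC
import Groth.Agent.Lib.Helper28.TwistIso
import Groth.Agent.Lib.Helper28.FlatGr
import Groth.Agent.Lib.Helper28.AmpleSep

set_option autoImplicit false
set_option backward.isDefEq.respectTransparency.types false
set_option linter.unusedSectionVars false
universe u
open CategoryTheory CategoryTheory.Limits AlgebraicGeometry Opposite TopologicalSpace
noncomputable section

namespace Groth.Agent.Lib.Helper4.FlatTw

open Groth.Agent.Lib.Helper28 Groth.Agent.Lib.Helper28.QCohLoc Groth.Agent.Lib.Helper28.GenLocus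
  Groth.Agent.Lib.Helper28.TensorGen Groth.Agent.Lib.Helper28.TwistAmple

variable {X : Scheme.{u}} {L : X.Modules} (hL : PicF.IsInvertible L) (s : Coh.structureModule X ⟶ L)
  (F : X.Modules)

/-- the standard twist structure on `F ⊗ L^n` -/
theorem hT (n : ℕ) : IsTwist F L (0 + n) (CohB1.tensorMod F (CohB1.tensorPow L n))
    (fun W g x => tmulSec F (CohB1.tensorPow L n) x (gpow L g n)) :=
  (IsTwist.refl F L).tensorPow n

/-- the generator of `L` over `X_s` -/
abbrev σ : Γ(L, CohB1.genLocus L s) := res L le_top (secOf s)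

theorem hσ : IsGen L (CohB1.genLocus L s) (σ s) := isGen_genLocus s

/-- division by `s^n` on `X_s` -/
def φ (n : ℕ) (z : Γ(CohB1.tensorMod F (CohB1.tensorPow L n), ⊤)) : Γ(F, CohB1.genLocus L s) :=
  (Equiv.ofBijective _ ((hT F n).bij _ _ (hσ s))).symm (res _ le_top z)

theorem φ_spec (n : ℕ) (z : Γ(CohB1.tensorMod F (CohB1.tensorPow L n), ⊤)) :
    tmulSec F (CohB1.tensorPow L n) (φ s F n z) (gpow L (σ s) n) = res _ le_top z :=
  (Equiv.ofBijective _ ((hT F n).bij _ _ (hσ s))).apply_symm_apply _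

theorem φ_eq (n : ℕ) (z : Γ(CohB1.tensorMod F (CohB1.tensorPow L n), ⊤)) (x : Γ(F, CohB1.genLocus L s))
    (h : tmulSec F (CohB1.tensorPow L n) x (gpow L (σ s) n) = res _ le_top z) : φ s F n z = x := by
  apply ((hT F n).bij _ _ (hσ s)).1
  show tmulSec F (CohB1.tensorPow L n) (φ s F n z) (gpow L (σ s) n) = tmulSec F (CohB1.tensorPow L n) x (gpow L (σ s) n)
  rw [φ_spec, h]

theorem φ_add (n : ℕ) (z z' : Γ(CohB1.tensorMod F (CohB1.tensorPow L n), ⊤)) :
    φ s F n (z + z') = φ s F n z + φ s F n z' := by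
  apply φ_eq
  rw [tmulSec_add_left, φ_spec, φ_spec]
  exact (map_add _ _ _).symm

theorem φ_smul (n : ℕ) (c : Γ(X, ⊤)) (z : Γ(CohB1.tensorMod F (CohB1.tensorPow L n), ⊤)) :
    φ s F n (c • z) = (resO (le_top : CohB1.genLocus L s ≤ ⊤) c • φ s F n z : Γ(F, CohB1.genLocus L s)) := by
  apply φ_eq
  rw [tmulSec_smul_left, φ_spec, res_smul]

theorem φ_eq_zero (n : ℕ) (z : Γ(CohB1.tensorMod F (CohB1.tensorPow L n), ⊤)) (h : φ s F n z = 0) :
    res _ (le_top : CohB1.genLocus L s ≤ ⊤) z = 0 := by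
  rw [← φ_spec s F n z, h, tmulSec_zero_left]

include hL in
theorem exists_trans (n m : ℕ) (h : n ≤ m) :
    ∃ τ : Γ(CohB1.tensorMod F (CohB1.tensorPow L n), ⊤) → Γ(CohB1.tensorMod F (CohB1.tensorPow L m), ⊤),
      (∀ z z', τ (z + z') = τ z + τ z') ∧ (∀ (c : Γ(X, ⊤)) z, τ (c • z) = c • τ z) ∧
      (∀ z, φ s F m (τ z) = φ s F n z) ∧
      ∀ z, tmulSec (CohB1.tensorMod F (CohB1.tensorPow L n)) (CohB1.tensorPow L (m - n)) z
        (gpow L (secOf s) (m - n)) = 0 → τ z = 0 := by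
  have h1 := ((hT (L := L) F n).tensorPow (m - n)).congr_deg (show 0 + n + (m - n) = 0 + m by omega)
  obtain ⟨ψ, hψ⟩ := h1.exists_iso (hT (L := L) F m) hL
  refine ⟨fun z => ψ.hom.app ⊤ (tmulSec _ (CohB1.tensorPow L (m - n)) z (gpow L (secOf s) (m - n))),
    fun z z' => ?_, fun c z => ?_, fun z => ?_, fun z hz => ?_⟩
  · show ψ.hom.app ⊤ _ = _
    rw [tmulSec_add_left, map_add]
  · show ψ.hom.app ⊤ _ = _
    rw [tmulSec_smul_left, Scheme.Modules.Hom.app_smul]
  · apply φ_eq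
    show _ = res _ le_top (ψ.hom.app ⊤ _)
    rw [← app_res, tmulSec_res, gpow_res, ← φ_spec s F n z]
    exact (hψ _ _ (hσ s) _).symm
  · show ψ.hom.app ⊤ _ = 0
    rw [hz, map_zero]

variable {R : Type u} [CommRing R] (ρ : R →+* Γ(X, ⊤))

include hL in
/-- **Lemma A**: if the global sections of `F ⊗ L^n` are flat over `R` for all large `n`, then the sections of `F`
over `X_s` are flat over `R`. -/
theorem flat_sections_genLocus [CompactSpace X] [QuasiSeparatedSpace X] [F.IsQuasicoherent] (n₀ : ℕ)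
    (hflat : ∀ n, n₀ ≤ n →
      @Module.Flat R Γ(CohB1.tensorMod F (CohB1.tensorPow L n), ⊤) _ _ (Module.compHom _ ρ)) :
    @Module.Flat R Γ(F, CohB1.genLocus L s) _ _
      (Module.compHom _ ((X.presheaf.map (homOfLE (le_top : CohB1.genLocus L s ≤ ⊤)).op).hom.comp ρ)) := by
  classical
  letI mN : ∀ n, Module R Γ(CohB1.tensorMod F (CohB1.tensorPow L n), ⊤) := fun n => Module.compHom _ ρ
  letI mM : Module R Γ(F, CohB1.genLocus L s) :=
    Module.compHom _ ((X.presheaf.map (homOfLE (le_top : CohB1.genLocus L s ≤ ⊤)).op).hom.comp ρ)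
  let φl : ∀ n, Γ(CohB1.tensorMod F (CohB1.tensorPow L n), ⊤) →ₗ[R] Γ(F, CohB1.genLocus L s) := fun n =>
    { toFun := φ s F n
      map_add' := φ_add s F n
      map_smul' := fun a z => φ_smul s F n (ρ a) z }
  refine FlatGr.flat_of_cover (fun n => Γ(CohB1.tensorMod F (CohB1.tensorPow L n), ⊤)) (fun n => n₀ ≤ n)
    hflat φl ?_ ?_
  · intro l x
    have h1 : ∀ i, ∃ n : ℕ, ∃ t' : Γ(CohB1.tensorMod F (CohB1.tensorPow L n), ⊤), φ s F n t' = x i := by
      intro i
      obtain ⟨n, -, t', ht'⟩ := exists_extension_qcoh hL s F (x i)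
      exact ⟨n, t', φ_eq s F n t' (x i) ht'.symm⟩
    choose n t' ht' using h1
    refine ⟨n₀ + Finset.univ.sup n, by omega, ?_⟩
    have h2 : ∀ i, ∃ z : Γ(CohB1.tensorMod F (CohB1.tensorPow L (n₀ + Finset.univ.sup n)), ⊤),
        φ s F (n₀ + Finset.univ.sup n) z = x i := by
      intro i
      obtain ⟨τ, -, -, h3, -⟩ := exists_trans hL s F (n i) (n₀ + Finset.univ.sup n) (by
        have := Finset.le_sup (f := n) (Finset.mem_univ i)
        omega)
      exact ⟨τ (t' i), by rw [h3, ht']⟩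
    choose z hz using h2
    exact ⟨z, hz⟩
  · intro n hn z hz
    have h0 := φ_eq_zero s F n z hz
    haveI : (CohB1.tensorMod F (CohB1.tensorPow L n)).IsQuasicoherent := (hT (L := L) F n).isQuasicoherent hL
    obtain ⟨k, -, hk⟩ := tmulSec_gpow_eq_zero hL s (CohB1.tensorMod F (CohB1.tensorPow L n)) z h0
    obtain ⟨τ, ha, hs, h3, h4⟩ := exists_trans hL s F n (n + k) (by omega)
    refine ⟨n + k, by omega, { toFun := τ, map_add' := ha, map_smul' := fun a w => hs (ρ a) w }, h3, ?_⟩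
    apply h4
    rw [Nat.add_sub_cancel_left]
    exact hk

/-- flatness of sections is invariant under isomorphism of modules -/
theorem flat_of_iso {P P' : X.Modules} (e : P ≅ P') (U : X.Opens) {R : Type u} [CommRing R] (ρ : R →+* Γ(X, U))
    (h : @Module.Flat R Γ(P, U) _ _ (Module.compHom _ ρ)) :
    @Module.Flat R Γ(P', U) _ _ (Module.compHom _ ρ) := by
  letI m1 : Module R Γ(P, U) := Module.compHom _ ρ
  letI m2 : Module R Γ(P', U) := Module.compHom _ ρ
  let f : Γ(P, U) →ₗ[R] Γ(P', U) :=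
    { toFun := e.hom.app U
      map_add' := fun a b => map_add _ a b
      map_smul' := fun a z => Scheme.Modules.Hom.app_smul e.hom (ρ a) z }
  have hinv1 : ∀ z, e.inv.app U (e.hom.app U z) = z := fun z => by
    have := congrArg (fun φ : P ⟶ P => φ.app U z) e.hom_inv_id
    exact this
  have hinv2 : ∀ z, e.hom.app U (e.inv.app U z) = z := fun z => by
    have := congrArg (fun φ : P' ⟶ P' => φ.app U z) e.inv_hom_id
    exact this
  exact Module.Flat.of_linearEquiv (LinearEquiv.ofBijective f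
    ⟨fun a b hab => by rw [← hinv1 a, ← hinv1 b]; exact congrArg _ hab, fun z => ⟨e.inv.app U z, hinv2 z⟩⟩).symm

include hL in
/-- **Lemma A'**: the same with a section of a positive power of `L`. -/
theorem flat_sections_genLocus_pow [CompactSpace X] [QuasiSeparatedSpace X] [F.IsQuasicoherent] (n₀ : ℕ)
    (hflat : ∀ n, n₀ ≤ n →
      @Module.Flat R Γ(CohB1.tensorMod F (CohB1.tensorPow L n), ⊤) _ _ (Module.compHom _ ρ))
    (k : ℕ) (t : Coh.structureModule X ⟶ CohB1.tensorPow L (k + 1)) :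
    @Module.Flat R Γ(F, CohB1.genLocus _ t) _ _
      (Module.compHom _ ((X.presheaf.map (homOfLE (le_top : CohB1.genLocus _ t ≤ ⊤)).op).hom.comp ρ)) := by
  refine flat_sections_genLocus (isInvertible_tensorPow hL (k + 1)) t F ρ n₀ (fun m hm => ?_)
  have h1 := (IsTwist.refl F L).tensorPowPow (k + 1) m
  obtain ⟨ψ, -⟩ := (hT (L := L) F ((k + 1) * m)).exists_iso h1 hL
  refine flat_of_iso ψ ⊤ ρ (hflat _ ?_)
  calc n₀ ≤ m := hm
    _ ≤ (k + 1) * m := Nat.le_mul_of_pos_left m (Nat.succ_pos k)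

end Groth.Agent.Lib.Helper4.FlatTw
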