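import Groth.Agent.Lib.Helper4.FlatTw1
import Groth.Agent.Lib.Helper4.TwistRestrict
import Groth.Agent.Lib.Helper17.FlatDict
import Groth.Prelude.Def_LCI2

set_option autoImplicit false
set_option backward.isDefEq.respectTransparency.types false
set_option linter.unusedSectionVars false
universe u
open CategoryTheory CategoryTheory.Limits AlgebraicGeometry Opposite TopologicalSpace
noncomputable section

namespace Groth.Agent.Lib.Helper4.FlatTw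

open Groth.Agent.Lib.Helper28 Groth.Agent.Lib.Helper28.QCohLoc Groth.Agent.Lib.Helper28.GenLocus
  Groth.Agent.Lib.Helper28.TensorGen Groth.Agent.Lib.Helper28.TwistAmple

variable {X Y : Scheme.{u}} (f : X ⟶ Y)


/-- transport of flatness of sections along an equality of opens -/
theorem flat_of_eq_opens (P : X.Modules) {V V' : X.Opens} (h : V = V') {R : Type u} [CommRing R]
    (ρ : R →+* Γ(X, V)) (ρ' : R →+* Γ(X, V')) (hρ : ∀ a, resO (le_of_eq h.symm) (ρ a) = ρ' a)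
    (hfl : @Module.Flat R Γ(P, V) _ _ (Module.compHom _ ρ)) :
    @Module.Flat R Γ(P, V') _ _ (Module.compHom _ ρ') := by
  subst h
  have : ρ = ρ' := by
    ext a
    have := hρ a
    have h2 : resO (le_refl V) (ρ a) = ρ a := by
      unfold resO
      have : (homOfLE (le_refl V)).op = 𝟙 (op V) := rfl
      rw [this, X.presheaf.map_id]
      rfl
    rwa [h2] at this
  subst this
  exact hfl

/-- **flatness from flatness of the direct images of the twists**, for a relatively ample `L` -/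
theorem isFlatOver_of_flat_twists (L : X.Modules) (hL : RelAmple.IsRelAmple f L)
    (F : X.Modules) [F.IsQuasicoherent] (n₀ : ℕ)
    (hflat : ∀ n, n₀ ≤ n → ∀ W : Y.Opens, IsAffineOpen W →
      @Module.Flat Γ(Y, W) Γ(CohB1.tensorMod F (CohB1.tensorPow L n), f ⁻¹ᵁ W) _ _
        (Module.compHom _ (f.app W).hom)) :
    FlatMod.IsFlatOver f F := by
  intro x
  obtain ⟨W, hW, hxW⟩ : ∃ W : Y.Opens, IsAffineOpen W ∧ f x ∈ W := by
    obtain ⟨_, ⟨V, hV, rfl⟩, hyV, -⟩ :=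
      Y.isBasis_affineOpens.exists_subset_of_mem_open (Set.mem_univ (f x)) isOpen_univ
    exact ⟨V, hV, hyV⟩
  have hamp : CohB1.IsAmple (L.restrict (f ⁻¹ᵁ W).ι) := hL.2 ⟨W, hW⟩
  have hsep : ((f ⁻¹ᵁ W : X.Opens) : Scheme.{u}).IsSeparated := isSeparated_of_isAmple hamp
  obtain ⟨hinvU, hcompact, hpts⟩ := hamp
  obtain ⟨k, t, hxt, haff⟩ := hpts ⟨x, hxW⟩
  haveI : CompactSpace ((f ⁻¹ᵁ W : X.Opens) : Scheme.{u}) := hcompact
  haveI : QuasiSeparatedSpace ((f ⁻¹ᵁ W : X.Opens) : Scheme.{u}) := inferInstance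
  have hgW : (⊤ : ((f ⁻¹ᵁ W : X.Opens) : Scheme.{u}).Opens) ≤ ((f ⁻¹ᵁ W).ι ≫ f) ⁻¹ᵁ W := by
    intro y _
    exact y.2
  have key := flat_sections_genLocus_pow hinvU (F.restrict (f ⁻¹ᵁ W).ι)
    (((f ⁻¹ᵁ W).ι ≫ f).appLE W ⊤ hgW).hom n₀ (fun n hn => ?_) k t
  · have hV : IsAffineOpen ((f ⁻¹ᵁ W).ι ''ᵁ CohB1.genLocus _ t) := haff.image_of_isOpenImmersion (f ⁻¹ᵁ W).ι
    have hVW : (f ⁻¹ᵁ W).ι ''ᵁ CohB1.genLocus _ t ≤ f ⁻¹ᵁ W := by
      rintro _ ⟨y, -, rfl⟩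
      exact y.2
    have hxV : x ∈ (f ⁻¹ᵁ W).ι ''ᵁ CohB1.genLocus _ t := ⟨⟨x, hxW⟩, hxt, rfl⟩
    refine (Groth.Agent.Lib.Helper17.FlatDict.flat_sections_iff f F hV hW hVW).1 ?_ x hxV
    have hring : ∀ a : Γ(Y, W),
        (((f ⁻¹ᵁ W : X.Opens) : Scheme.{u}).presheaf.map
          (homOfLE (le_top : CohB1.genLocus _ t ≤ ⊤)).op).hom
            ((((f ⁻¹ᵁ W).ι ≫ f).appLE W ⊤ hgW).hom a) = (f.appLE W _ hVW).hom a := by
      intro a
      show ((((f ⁻¹ᵁ W).ι ≫ f).appLE W ⊤ hgW) ≫ (((f ⁻¹ᵁ W : X.Opens) : Scheme.{u}).presheaf.map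
          (homOfLE (le_top : CohB1.genLocus _ t ≤ ⊤)).op)) a = _
      rw [Scheme.Hom.appLE_map, Scheme.Hom.comp_appLE, Scheme.Opens.ι_appLE]
      rfl
    have e12 : (Module.compHom Γ(F.restrict (f ⁻¹ᵁ W).ι, CohB1.genLocus _ t)
        ((((f ⁻¹ᵁ W : X.Opens) : Scheme.{u}).presheaf.map
          (homOfLE (le_top : CohB1.genLocus _ t ≤ ⊤)).op).hom.comp
            (((f ⁻¹ᵁ W).ι ≫ f).appLE W ⊤ hgW).hom) : Module Γ(Y, W) _) =
        Module.compHom Γ(F, (f ⁻¹ᵁ W).ι ''ᵁ CohB1.genLocus _ t) (f.appLE W _ hVW).hom := by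
      refine Module.ext' _ _ (fun a z => ?_)
      have h5 := congrArg (fun c : Γ(X, (f ⁻¹ᵁ W).ι ''ᵁ CohB1.genLocus _ t) =>
        (c • (show Γ(F, (f ⁻¹ᵁ W).ι ''ᵁ CohB1.genLocus _ t) from z) :
          Γ(F, (f ⁻¹ᵁ W).ι ''ᵁ CohB1.genLocus _ t))) (hring a)
      have h6 : ∀ c : Γ(((f ⁻¹ᵁ W : X.Opens) : Scheme.{u}), CohB1.genLocus _ t),
          ((f ⁻¹ᵁ W).ι.appIso (CohB1.genLocus _ t)).inv c = c := by
        intro c
        rw [Scheme.Opens.ι_appIso]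
        rfl
      show ((((f ⁻¹ᵁ W).ι.appIso (CohB1.genLocus _ t)).inv
        ((((f ⁻¹ᵁ W : X.Opens) : Scheme.{u}).presheaf.map
          (homOfLE (le_top : CohB1.genLocus _ t ≤ ⊤)).op).hom
            ((((f ⁻¹ᵁ W).ι ≫ f).appLE W ⊤ hgW).hom a))) •
          (show Γ(F, (f ⁻¹ᵁ W).ι ''ᵁ CohB1.genLocus _ t) from z) :
            Γ(F, (f ⁻¹ᵁ W).ι ''ᵁ CohB1.genLocus _ t)) = _
      rw [h6]
      exact h5
    rw [← e12]
    exact key
  · obtain ⟨ψ⟩ := Groth.Agent.Lib.Helper4.TwistRestrict.nonempty_restrict_twist_iso F L (f ⁻¹ᵁ W) hinvU n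
    refine flat_of_iso ψ ⊤ _ ?_
    have himg : f ⁻¹ᵁ W = (f ⁻¹ᵁ W).ι ''ᵁ ⊤ := (Scheme.Opens.ι_image_top _).symm
    have h3 := flat_of_eq_opens (CohB1.tensorMod F (CohB1.tensorPow L n)) himg (f.app W).hom
      ((((f ⁻¹ᵁ W).ι.appIso ⊤).inv).hom.comp (((f ⁻¹ᵁ W).ι ≫ f).appLE W ⊤ hgW).hom) (fun a => ?_)
      (hflat n hn W hW)
    · exact h3
    · show _ = (((f ⁻¹ᵁ W).ι ≫ f).appLE W ⊤ hgW ≫ ((f ⁻¹ᵁ W).ι.appIso ⊤).inv) a
      rw [Scheme.Hom.comp_appLE, Category.assoc, Scheme.Hom.appLE_appIso_inv]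
      rfl

end Groth.Agent.Lib.Helper4.FlatTw
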