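import Mathlib

/-!
# `p`-linear injective endomorphisms of finite-dimensional spaces over perfect fields are bijective (helper4)
-/

set_option autoImplicit false
universe u

namespace Groth.Agent.Lib.Helper4.PLinear

theorem surjective_of_injective_of_pLinear (p : ℕ) [Fact p.Prime] (k : Type u) [Field k] [CharP k p]
    [PerfectField k] (V : Type u) [AddCommGroup V] [Module k V] [Module.Finite k V]
    (F : V →+ V) (hF : ∀ (a : k) (v : V), F (a • v) = a ^ p • F v) (hinj : Function.Injective F) :
    Function.Surjective F := by
  classical
  haveI : PerfectRing k p := PerfectField.toPerfectRing p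
  let b := Module.finBasis k V
  have hroot : ∀ c : k, ∃ d : k, d ^ p = c := fun c =>
    ⟨(frobeniusEquiv k p).symm c, frobeniusEquiv_symm_pow_p k p c⟩
  -- the images of the basis vectors are linearly independent
  have hli : LinearIndependent k (fun i => F (b i)) := by
    rw [Fintype.linearIndependent_iff]
    intro c hc i
    choose d hd using hroot
    have h1 : F (∑ j, d (c j) • b j) = 0 := by
      rw [map_sum, ← hc]
      refine Finset.sum_congr rfl (fun j _ => ?_)
      rw [hF, hd]
    have h2 : ∑ j, d (c j) • b j = 0 := hinj (h1.trans (map_zero F).symm)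
    have h3 := (Fintype.linearIndependent_iff.1 b.linearIndependent) (fun j => d (c j)) h2 i
    rw [← hd (c i), h3, zero_pow (Fact.out : p.Prime).ne_zero]
  have hspan : Submodule.span k (Set.range (fun i => F (b i))) = ⊤ :=
    hli.span_eq_top_of_card_eq_finrank' (by simp)
  intro w
  have hw : w ∈ Submodule.span k (Set.range (fun i => F (b i))) := by rw [hspan]; trivial
  obtain ⟨c, rfl⟩ := (Submodule.mem_span_range_iff_exists_fun k).1 hw
  choose d hd using hroot
  refine ⟨∑ j, d (c j) • b j, ?_⟩
  rw [map_sum]
  refine Finset.sum_congr rfl (fun j _ => ?_)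
  rw [hF, hd]

end Groth.Agent.Lib.Helper4.PLinear
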