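import Mathlib
import Groth.Agent.Lib.Helper4.PLinear
import Groth.Agent.Lib.Helper4.ProperFinal
import Groth.Agent.Lib.Helper4.CechPush
import Groth.Agent.Lib.Helper6.DevRed
import Groth.Agent.Lib.Helper2.HLes

/-!
# Frobenius split proper schemes: the cokernel of Frobenius has no cohomology (helper4)
-/

set_option backward.isDefEq.respectTransparency.types false
set_option autoImplicit false
universe u
open CategoryTheory CategoryTheory.Limits AlgebraicGeometry Opposite TopologicalSpace Abelian

noncomputable section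
namespace Groth.Agent.Lib.Helper4.FrobSplit

variable {X : Scheme.{u}}

/-- compatibility of the `p`-th power map with multiplication by global functions -/
lemma smulAb_comp_frob (p : ℕ)
    (φ : Coh.toAb (Coh.structureModule X) ⟶ Coh.toAb (Coh.structureModule X))
    (hφ : ∀ (U : X.Opens) (t : Γ(X, U)), φ.hom.app (op U) t = t ^ p) (r : Coh.Γtop X) :
    Coh.smulAb (Coh.structureModule X) r ≫ φ = φ ≫ Coh.smulAb (Coh.structureModule X) (r ^ p) := by
  ext U t
  obtain ⟨U⟩ := U
  change φ.hom.app (op U) ((Coh.smulAb (Coh.structureModule X) r).hom.app (op U) t) =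
    (Coh.smulAb (Coh.structureModule X) (r ^ p)).hom.app (op U) (φ.hom.app (op U) t)
  rw [Coh.smulAb_app, Coh.smulAb_app, map_pow (Coh.resTop X (op U)) r p]
  have h1 : ∀ (a : X.ringCatSheaf.obj.obj (op U)) (m : (Coh.structureModule X).val.obj (op U)),
      HSMul.hSMul (α := X.ringCatSheaf.obj.obj (op U)) a m = (show Γ(X, U) from a) * (show Γ(X, U) from m) :=
    fun a m => rfl
  rw [h1, h1]
  have h2 := hφ U ((show Γ(X, U) from Coh.resTop X (op U) r) * (show Γ(X, U) from t))
  have h3 := hφ U (show Γ(X, U) from t)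
  refine h2.trans ?_
  rw [mul_pow (show Γ(X, U) from Coh.resTop X (op U) r) (show Γ(X, U) from t) p]
  exact congrArg (fun z => (show Γ(X, U) from Coh.resTop X (op U) r) ^ p * z) h3.symm

variable (k : Type u) [Field k] [X.Over (Spec (CommRingCat.of k))]

open Groth.Agent.Lib.Helper4.CechPush in
/-- the map induced by Frobenius on cohomology is `p`-linear -/
lemma H_map_frob_smul (p : ℕ)
    (φ : Coh.toAb (Coh.structureModule X) ⟶ Coh.toAb (Coh.structureModule X))
    (hφ : ∀ (U : X.Opens) (t : Γ(X, U)), φ.hom.app (op U) t = t ^ p) (i : ℕ) (a : k)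
    (x : Coh.HH X (Coh.structureModule X) i) :
    Sheaf.H.map φ i (a • x) = a ^ p • Sheaf.H.map φ i x := by
  rw [smul_def k, smul_def k, ← Sheaf.H.map_comp_apply, smulAb_comp_frob p φ hφ,
    Sheaf.H.map_comp_apply, map_pow]

/-- **Frobenius split proper schemes over a perfect field**: the cokernel of the Frobenius of the
structure sheaf has no cohomology. -/
theorem subsingleton_H_cokernel (p : ℕ) [Fact p.Prime] [CharP k p] [PerfectField k]
    [IsProper (X ↘ Spec (CommRingCat.of k))]
    (φ : Coh.toAb (Coh.structureModule X) ⟶ Coh.toAb (Coh.structureModule X))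
    (hφ : ∀ (U : X.Opens) (t : Γ(X, U)), φ.hom.app (op U) t = t ^ p)
    (s : Coh.toAb (Coh.structureModule X) ⟶ Coh.toAb (Coh.structureModule X))
    (hs : φ ≫ s = 𝟙 _) (i : ℕ) : Subsingleton (Sheaf.H (Limits.cokernel φ) i) := by
  -- injectivity and surjectivity of Frobenius on cohomology
  have hinj : ∀ j, Function.Injective (Sheaf.H.map φ j) := by
    intro j
    refine Function.LeftInverse.injective (g := Sheaf.H.map s j) (fun x => ?_)
    rw [← Sheaf.H.map_comp_apply, hs, Sheaf.H.map_id_apply]
  have hsurj : ∀ j, Function.Surjective (Sheaf.H.map φ j) := by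
    intro j
    haveI : Module.Finite k (Coh.HH X (Coh.structureModule X) j) :=
      Groth.Agent.Lib.Helper4.ProperFinal.finite_HH k X _
        Groth.Agent.Lib.Helper6.DevRed.isCoh_structureModule j
    exact Groth.Agent.Lib.Helper4.PLinear.surjective_of_injective_of_pLinear p k
      (Coh.HH X (Coh.structureModule X) j) (Sheaf.H.map φ j)
      (fun a v => H_map_frob_smul k p φ hφ j a v) (hinj j)
  -- the short exact sequence
  haveI : Mono φ := mono_of_mono_fac hs
  let S : ShortComplex (CohTop.Ab X.toTopCat) :=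
    ShortComplex.mk φ (cokernel.π φ) (cokernel.condition φ)
  have hS : S.ShortExact :=
    { exact := ShortComplex.exact_cokernel φ
      mono_f := inferInstanceAs (Mono φ)
      epi_g := inferInstanceAs (Epi (cokernel.π φ)) }
  refine ⟨fun x y => ?_⟩
  have key : ∀ z : Sheaf.H (Limits.cokernel φ) i, z = 0 := by
    intro z
    have h1 : Sheaf.H.map φ (i + 1) (Groth.Agent.Lib.Helper2.HLes.δ hS i z) = 0 := by
      have h := ShortComplex.ShortExact.extClass_comp hS
      change ((z.comp hS.extClass rfl).comp (Ext.mk₀ S.f) (add_zero (i + 1))) = 0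
      rw [Ext.comp_assoc_of_third_deg_zero]
      exact (congrArg (fun e => z.comp e rfl) h).trans (Ext.comp_zero _ _ _ _ _)
    have h2 : Groth.Agent.Lib.Helper2.HLes.δ hS i z = 0 :=
      hinj (i + 1) (h1.trans (map_zero _).symm)
    obtain ⟨x₂, hx₂⟩ := Groth.Agent.Lib.Helper2.HLes.exact₃ hS i z h2
    obtain ⟨x₁, hx₁⟩ := hsurj i x₂
    rw [← hx₂, ← hx₁]
    change Sheaf.H.map (cokernel.π φ) i (Sheaf.H.map φ i x₁) = 0
    rw [← Sheaf.H.map_comp_apply, cokernel.condition]
    change ((Sheaf.functorH _ i).map (0 : Coh.toAb (Coh.structureModule X) ⟶ cokernel φ)).hom x₁ = 0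
    rw [Functor.map_zero]
    rfl
  rw [key x, key y]

end Groth.Agent.Lib.Helper4.FrobSplit
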