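import Mathlib.Tactic
import Mathlib.RingTheory.Jacobson.Ring
import Mathlib.RingTheory.Algebraic.Integral
import Mathlib.RingTheory.Localization.Away.Basic
import Mathlib.RingTheory.IntegralClosure.IsIntegralClosure.Basic

set_option autoImplicit false
universe u

namespace Groth.Agent.Lib.Helper4.FtPtsAlg

/-- a field of finite type over a subdomain is algebraic over it -/
theorem isAlgebraic_of_finiteType_field {D K : Type*} [CommRing D] [IsDomain D] [Field K]
    [Algebra D K] [Algebra.FiniteType D K] (hinj : Function.Injective (algebraMap D K)) :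
    Algebra.IsAlgebraic D K := by
  let F := FractionRing D
  let _ : Algebra F K := (IsFractionRing.lift hinj).toAlgebra
  have : IsScalarTower D F K := IsScalarTower.of_algebraMap_eq fun x => by
    simp [RingHom.algebraMap_toAlgebra]
  have : Algebra.FiniteType F K := Algebra.FiniteType.of_restrictScalars_finiteType D F K
  have : Module.Finite F K := finite_of_finite_type_of_isJacobsonRing F K
  have : Algebra.IsAlgebraic F K := Algebra.IsAlgebraic.of_finite F K
  have : Algebra.IsAlgebraic D F := IsLocalization.isAlgebraic F (nonZeroDivisors D)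
  exact Algebra.IsAlgebraic.trans D F K

/-- Artin–Tate style: if a field `K` is of finite type over a subdomain `D`, then after inverting
one nonzero element `D` becomes a field: every prime not containing it is zero. -/
theorem exists_ne_zero_forall_prime_eq_bot {D K : Type*} [CommRing D] [IsDomain D] [Field K]
    [Algebra D K] [Algebra.FiniteType D K] (hinj : Function.Injective (algebraMap D K)) :
    ∃ y : D, y ≠ 0 ∧ ∀ q : Ideal D, q.IsPrime → y ∉ q → q = ⊥ := by
  have halg := isAlgebraic_of_finiteType_field hinj
  obtain ⟨s, hs⟩ := (Algebra.FiniteType.out : (⊤ : Subalgebra D K).FG)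
  obtain ⟨y, hy0, hy⟩ := Algebra.IsAlgebraic.exists_integral_multiples D s
  refine ⟨y, hy0, ?_⟩
  let A := Localization.Away y
  have hyK : IsUnit (algebraMap D K y) :=
    (isUnit_iff_ne_zero.mpr fun h => hy0 (hinj (h.trans (map_zero _).symm)))
  let _ : Algebra A K := (IsLocalization.Away.lift y hyK).toAlgebra
  have : IsScalarTower D A K := IsScalarTower.of_algebraMap_eq fun x => by
    simp [RingHom.algebraMap_toAlgebra, A]
  -- every generator is integral over `A`
  have hsint : ∀ z ∈ s, IsIntegral A z := by
    intro z hz
    have h1 : IsIntegral A (y • z) := (hy z hz).tower_top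
    have h2 : IsIntegral A (algebraMap A K (IsLocalization.Away.invSelf y)) := isIntegral_algebraMap
    have h3 : algebraMap A K (IsLocalization.Away.invSelf y) * (y • z) = z := by
      rw [Algebra.smul_def, ← mul_assoc, IsScalarTower.algebraMap_apply D A K, ← map_mul,
        _root_.mul_comm (IsLocalization.Away.invSelf y), IsLocalization.Away.mul_invSelf, map_one,
        _root_.one_mul]
    rw [← h3]
    exact h2.mul h1
  have hint : Algebra.IsIntegral A K := by
    constructor
    intro x
    have hle : Algebra.adjoin D (s : Set K) ≤ (integralClosure A K).restrictScalars D :=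
      Algebra.adjoin_le hsint
    rw [hs] at hle
    exact hle (Algebra.mem_top : x ∈ (⊤ : Subalgebra D K))
  have hDA : ∀ x : D, algebraMap A K (algebraMap D A x) = algebraMap D K x := fun x =>
    (IsScalarTower.algebraMap_apply D A K x).symm
  have hAinj : Function.Injective (algebraMap A K) := by
    rw [IsLocalization.injective_iff_map_algebraMap_eq (Submonoid.powers y)]
    intro a b
    rw [hDA, hDA]
    exact ⟨fun h => by rw [← hDA, ← hDA, h], fun h => by rw [hinj h]⟩
  have hfield : IsField A := isField_of_isIntegral_of_isField hAinj (Field.toIsField K)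
  intro q hq hyq
  have hdisj : Disjoint (Submonoid.powers y : Set D) (q : Set D) := by
    rw [Set.disjoint_left]
    rintro _ ⟨n, rfl⟩ hn
    exact hyq (hq.mem_of_pow_mem n hn)
  have hprime := IsLocalization.isPrime_of_isPrime_disjoint (Submonoid.powers y) A q hq hdisj
  rw [eq_bot_iff]
  intro d hd
  rw [Ideal.mem_bot]
  by_contra hd0
  have hne : algebraMap D A d ≠ 0 := by
    intro h
    apply hd0
    apply hinj
    rw [← hDA, h, map_zero, map_zero]
  obtain ⟨b, hb⟩ := hfield.mul_inv_cancel hne
  apply hprime.ne_top
  rw [Ideal.eq_top_iff_one, ← hb]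
  exact Ideal.mul_mem_right _ _ (Ideal.mem_map_of_mem _ hd)

/-- ring-map form: a finite type ring map to a field has kernel which becomes maximal after
inverting one element -/
theorem exists_forall_prime_eq_ker {R k : Type*} [CommRing R] [Field k] (φ : R →+* k)
    (hφ : φ.FiniteType) :
    ∃ g : R, φ g ≠ 0 ∧ ∀ q : Ideal R, q.IsPrime → RingHom.ker φ ≤ q → g ∉ q → q = RingHom.ker φ := by
  let D := R ⧸ RingHom.ker φ
  let _ : Algebra R k := φ.toAlgebra
  let _ : Algebra D k := (RingHom.kerLift φ).toAlgebra
  have : IsScalarTower R D k := IsScalarTower.of_algebraMap_eq fun x => rfl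
  have hft : Algebra.FiniteType R k := hφ
  have : Algebra.FiniteType D k := Algebra.FiniteType.of_restrictScalars_finiteType R D k
  have hinj : Function.Injective (algebraMap D k) := RingHom.kerLift_injective φ
  have : IsDomain D := (Ideal.Quotient.isDomain_iff_prime _).mpr (RingHom.ker_isPrime φ)
  obtain ⟨y, hy0, hy⟩ := exists_ne_zero_forall_prime_eq_bot (D := D) (K := k) hinj
  obtain ⟨g, rfl⟩ := Ideal.Quotient.mk_surjective y
  refine ⟨g, ?_, ?_⟩
  · intro h
    apply hy0
    rw [Ideal.Quotient.eq_zero_iff_mem, RingHom.mem_ker]
    exact h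
  · intro q hq hle hgq
    have hq' : (q.map (Ideal.Quotient.mk (RingHom.ker φ))).IsPrime :=
      Ideal.map_isPrime_of_surjective Ideal.Quotient.mk_surjective (by rwa [Ideal.mk_ker])
    have hcomap : (q.map (Ideal.Quotient.mk (RingHom.ker φ))).comap
        (Ideal.Quotient.mk (RingHom.ker φ)) = q := by
      rw [Ideal.comap_map_of_surjective _ Ideal.Quotient.mk_surjective, ← RingHom.ker_eq_comap_bot,
        Ideal.mk_ker, sup_eq_left.mpr hle]
    have hnot : Ideal.Quotient.mk (RingHom.ker φ) g ∉ q.map (Ideal.Quotient.mk (RingHom.ker φ)) := by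
      intro h
      apply hgq
      rw [← hcomap]
      exact h
    have hbot := hy _ hq' hnot
    apply le_antisymm _ hle
    rw [← hcomap, hbot, ← RingHom.ker_eq_comap_bot, Ideal.mk_ker]

end Groth.Agent.Lib.Helper4.FtPtsAlg
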