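import Mathlib.Tactic
import Mathlib.AlgebraicGeometry.Morphisms.Finite
import Mathlib.AlgebraicGeometry.Morphisms.FiniteType
import Mathlib.AlgebraicGeometry.Morphisms.ClosedImmersion
import Mathlib.AlgebraicGeometry.ResidueField
import Groth.Agent.Lib.Helper4.FtPtsAlg

set_option autoImplicit false
universe u
open CategoryTheory AlgebraicGeometry Limits TopologicalSpace

namespace Groth.Agent.Lib.Helper4.FtPts

open Groth.Agent.Lib.Helper4.FtPtsAlg

theorem isClosed_singleton_subtype_iff {Y : Type*} [TopologicalSpace Y] (V : Set Y) (s : Y)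
    (hs : s ∈ V) :
    IsClosed ({⟨s, hs⟩} : Set V) ↔ ∀ v ∈ V, s ⤳ v → v = s := by
  constructor
  · intro hcl v hv hsv
    have h1 : (⟨s, hs⟩ : V) ⤳ ⟨v, hv⟩ := by
      rw [← Topology.IsInducing.subtypeVal.specializes_iff]
      exact hsv
    have h2 := hcl.stableUnderSpecialization h1 rfl
    exact congrArg Subtype.val h2
  · intro h
    apply isClosed_of_closure_subset
    intro b hb
    rw [← specializes_iff_mem_closure, ← Topology.IsInducing.subtypeVal.specializes_iff] at hb
    exact Subtype.ext (h b.1 b.2 hb)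

instance subsingleton_spec_field (k : Type u) [Field k] : Subsingleton (Spec (CommRingCat.of k)) :=
  inferInstanceAs (Subsingleton (PrimeSpectrum k))

/-- (L1) a finite type point is closed in some affine open -/
theorem exists_affineOpen_isClosed_of_lft {S : Scheme.{u}} {k : Type u} [Field k]
    (f : Spec (CommRingCat.of k) ⟶ S) [LocallyOfFiniteType f] (pt : Spec (CommRingCat.of k)) :
    ∃ V : S.Opens, IsAffineOpen V ∧ ∃ hs : f pt ∈ V, IsClosed ({⟨f pt, hs⟩} : Set ↥V) := by
  obtain ⟨_, ⟨U, hU0, rfl⟩, hsU, -⟩ :=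
    S.isBasis_affineOpens.exists_subset_of_mem_open (Set.mem_univ (f pt)) isOpen_univ
  have hU : IsAffineOpen U := hU0
  have hrange : Set.range f ⊆ Set.range hU.fromSpec := by
    rw [hU.range_fromSpec]
    rintro _ ⟨z, rfl⟩
    rw [Subsingleton.elim z pt]
    exact hsU
  let f' := IsOpenImmersion.lift hU.fromSpec f hrange
  have hf' : f' ≫ hU.fromSpec = f := IsOpenImmersion.lift_fac _ _ _
  have : LocallyOfFiniteType (f' ≫ hU.fromSpec) := by rw [hf']; infer_instance
  have hlft' : LocallyOfFiniteType f' := locallyOfFiniteType_of_comp f' hU.fromSpec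
  let φ := Spec.preimage f'
  have hφ : Spec.map φ = f' := Spec.map_preimage f'
  have hft : φ.hom.FiniteType := by
    rw [← hφ] at hlft'
    exact (HasRingHomProperty.Spec_iff (P := @LocallyOfFiniteType)).mp hlft'
  obtain ⟨g, hg0, hg⟩ := exists_forall_prime_eq_ker φ.hom hft
  set x := f' pt with hx
  have hxs : hU.fromSpec x = f pt := by
    rw [hx, ← Scheme.Hom.comp_apply, hf']
  have hxI : x.asIdeal = RingHom.ker φ.hom := by
    have : x = (Spec.map φ) pt := by rw [hφ]
    rw [this]
    change Ideal.comap φ.hom pt.asIdeal = _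
    have hpt : pt.asIdeal = ⊥ := by
      have := pt.2
      rcases Ideal.eq_bot_or_top pt.asIdeal with h | h
      · exact h
      · exact absurd h pt.2.ne_top
    rw [hpt, RingHom.ker_eq_comap_bot]
  have hmem : ∀ q : Spec Γ(S, U), hU.fromSpec q ∈ S.basicOpen g ↔ g ∉ q.asIdeal := by
    intro q
    have : q ∈ hU.fromSpec ⁻¹ᵁ S.basicOpen g ↔ g ∉ q.asIdeal := by
      rw [hU.fromSpec_preimage_basicOpen]
      exact PrimeSpectrum.mem_basicOpen _ _
    exact this
  have hsV : f pt ∈ S.basicOpen g := by
    rw [← hxs, hmem, hxI, RingHom.mem_ker]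
    exact hg0
  refine ⟨S.basicOpen g, hU.basicOpen g, hsV, ?_⟩
  rw [isClosed_singleton_subtype_iff]
  intro v hv hsv
  have hvU : v ∈ (U : Set S) := S.basicOpen_le g hv
  rw [← hU.range_fromSpec] at hvU
  obtain ⟨q, rfl⟩ := hvU
  rw [← hxs] at hsv ⊢
  rw [hU.fromSpec.isOpenEmbedding.isInducing.specializes_iff] at hsv
  have hsv' : x.asIdeal ≤ q.asIdeal :=
    (PrimeSpectrum.asIdeal_le_asIdeal x q).mpr ((PrimeSpectrum.le_iff_specializes x q).mpr hsv)
  have hq := hg q.asIdeal q.2 (hxI ▸ hsv') ((hmem q).mp hv)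
  congr 1
  exact PrimeSpectrum.ext (hq.trans hxI.symm)


/-- (L2) a point closed in an open subscheme is a finite type point -/
theorem lft_of_isClosed_in_open {S : Scheme.{u}} (s : S) (V : S.Opens) (hs : s ∈ V)
    (hcl : IsClosed ({⟨s, hs⟩} : Set ↥V)) : LocallyOfFiniteType (S.fromSpecResidueField s) := by
  let x : (V : Scheme.{u}) := ⟨s, hs⟩
  have hci : IsClosedImmersion ((V : Scheme.{u}).fromSpecResidueField x) :=
    isClosed_singleton_iff_isClosedImmersion.mp hcl
  have key := Scheme.Hom.SpecMap_residueFieldMap_fromSpecResidueField V.ι x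
  change LocallyOfFiniteType (S.fromSpecResidueField (V.ι x))
  have h2 : S.fromSpecResidueField (V.ι x) =
      inv (Spec.map (V.ι.residueFieldMap x)) ≫ (V : Scheme.{u}).fromSpecResidueField x ≫ V.ι := by
    rw [IsIso.eq_inv_comp]
    exact key
  rw [h2]
  have h3 : LocallyOfFiniteType ((V : Scheme.{u}).fromSpecResidueField x) := inferInstance
  infer_instance

theorem main9342 (S : Scheme.{u}) (s : S) :
    LocallyOfFiniteType (S.fromSpecResidueField s) ↔
      ∃ U : S.Opens, IsAffineOpen U ∧ ∃ hs : s ∈ U, IsClosed ({⟨s, hs⟩} : Set ↥U) := by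
  constructor
  · intro h
    obtain ⟨V, hV, hs, hcl⟩ := exists_affineOpen_isClosed_of_lft (k := S.residueField s)
      (S.fromSpecResidueField s) default
    have e : (S.fromSpecResidueField s) default = s := Scheme.fromSpecResidueField_apply _ _
    exact ⟨V, hV, e ▸ hs, by
      convert hcl using 3
      exact e.symm⟩
  · rintro ⟨U, -, hs, hcl⟩
    exact lft_of_isClosed_in_open s U hs hcl

theorem isIso_fromSpecResidueField_of_field (k : Type u) [Field k] (x : Spec (CommRingCat.of k)) :
    IsIso ((Spec (CommRingCat.of k)).fromSpecResidueField x) := by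
  have hcl : IsClosed ({x} : Set (Spec (CommRingCat.of k))) := by
    have : ({x} : Set (Spec (CommRingCat.of k))) = Set.univ := by
      ext y; simp [Subsingleton.elim y x]
    rw [this]; exact isClosed_univ
  have hci : IsClosedImmersion ((Spec (CommRingCat.of k)).fromSpecResidueField x) :=
    isClosed_singleton_iff_isClosedImmersion.mp hcl
  have hsurj : Surjective ((Spec (CommRingCat.of k)).fromSpecResidueField x) :=
    ⟨fun y => ⟨default, Subsingleton.elim _ _⟩⟩
  have hred : IsReduced (Spec (CommRingCat.of k)) := inferInstance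
  exact isIso_of_isClosedImmersion_of_surjective _

theorem main9337 (S : Scheme.{u}) (k : Type u) [Field k] (f : Spec (CommRingCat.of k) ⟶ S) :
    LocallyOfFiniteType f ↔
      ∃ U : S.Opens, IsAffineOpen U ∧ ∃ hu : f.base (IsLocalRing.closedPoint k) ∈ U,
        IsClosed ({⟨f.base (IsLocalRing.closedPoint k), hu⟩} : Set ↥U) ∧
          (f.residueFieldMap (IsLocalRing.closedPoint k)).hom.Finite := by
  set x : Spec (CommRingCat.of k) := IsLocalRing.closedPoint k with hx
  have hiso := isIso_fromSpecResidueField_of_field k x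
  have key := Scheme.Hom.SpecMap_residueFieldMap_fromSpecResidueField f x
  constructor
  · intro h
    obtain ⟨V, hV, hs, hcl⟩ := exists_affineOpen_isClosed_of_lft f x
    refine ⟨V, hV, hs, hcl, ?_⟩
    have h1 : LocallyOfFiniteType
        (Spec.map (f.residueFieldMap x) ≫ S.fromSpecResidueField (f x)) := by
      rw [key]; infer_instance
    have h2 : LocallyOfFiniteType (Spec.map (f.residueFieldMap x)) :=
      locallyOfFiniteType_of_comp _ (S.fromSpecResidueField (f x))
    have h3 : (f.residueFieldMap x).hom.FiniteType :=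
      (HasRingHomProperty.Spec_iff (P := @LocallyOfFiniteType)).mp h2
    exact RingHom.finite_iff_finiteType_of_isJacobsonRing.mpr h3
  · rintro ⟨U, -, hu, hcl, hfin⟩
    have h1 : LocallyOfFiniteType (S.fromSpecResidueField (f x)) :=
      lft_of_isClosed_in_open (f x) U hu hcl
    have h2 : LocallyOfFiniteType (Spec.map (f.residueFieldMap x)) :=
      (HasRingHomProperty.Spec_iff (P := @LocallyOfFiniteType)).mpr hfin.finiteType
    have h3 : f = inv ((Spec (CommRingCat.of k)).fromSpecResidueField x) ≫
        Spec.map (f.residueFieldMap x) ≫ S.fromSpecResidueField (f x) := by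
      rw [IsIso.eq_inv_comp]; exact key.symm
    rw [h3]
    infer_instance

end Groth.Agent.Lib.Helper4.FtPts
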