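import Mathlib.Tactic
import Mathlib.AlgebraicGeometry.PullbackCarrier
import Groth.Agent.Lib.Helper4.FtPts

set_option autoImplicit false
universe u
open CategoryTheory AlgebraicGeometry Limits TopologicalSpace

namespace Groth.Agent.Lib.Helper4.FtPts2

open Groth.Agent.Lib.Helper4.FtPts

theorem main9339 {T S : Scheme.{u}} (f : T ⟶ S) [LocallyOfFiniteType f] :
    f.base '' {t : ↑T | LocallyOfFiniteType (T.fromSpecResidueField t)} ⊆
      {s : ↑S | LocallyOfFiniteType (S.fromSpecResidueField s)} := by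
  rintro _ ⟨t, ht, rfl⟩
  have ht' : LocallyOfFiniteType (T.fromSpecResidueField t) := ht
  have hg : LocallyOfFiniteType (T.fromSpecResidueField t ≫ f) := inferInstance
  obtain ⟨V, -, hs, hcl⟩ := exists_affineOpen_isClosed_of_lft (k := T.residueField t)
    (T.fromSpecResidueField t ≫ f) default
  have e : (T.fromSpecResidueField t ≫ f) default = f t := by
    rw [Scheme.Hom.comp_apply, Scheme.fromSpecResidueField_apply]
  change LocallyOfFiniteType (S.fromSpecResidueField (f t))
  refine lft_of_isClosed_in_open (f t) V (e ▸ hs) ?_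
  convert hcl using 3
  exact e.symm

/-- a nonempty closed subset of a quasi-compact open of a scheme contains a point closed in it -/
theorem exists_ftPt_of_locallyClosed (S : Scheme.{u}) (Z : Set S) (hZ : IsLocallyClosed Z)
    (hne : Z.Nonempty) :
    (Z ∩ {s : ↑S | LocallyOfFiniteType (S.fromSpecResidueField s)}).Nonempty := by
  obtain ⟨O, C, hO, hC, rfl⟩ := hZ
  obtain ⟨z, hzO, hzC⟩ := hne
  obtain ⟨_, ⟨U, hU0, rfl⟩, hzU, hUO⟩ :=
    S.isBasis_affineOpens.exists_subset_of_mem_open hzO hO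
  have hU : IsAffineOpen U := hU0
  have : CompactSpace ↥U := isCompact_iff_compactSpace.mp hU.isCompact
  have hC' : IsClosed ((Subtype.val : ↥U → S) ⁻¹' C) := hC.preimage continuous_subtype_val
  obtain ⟨x, hxC, hxcl⟩ := hC'.exists_closed_singleton ⟨⟨z, hzU⟩, hzC⟩
  refine ⟨x.1, ⟨hUO x.2, hxC⟩, ?_⟩
  exact lft_of_isClosed_in_open x.1 U x.2 hxcl

theorem main9341 (S : Scheme.{u}) :
    (∀ Z : Set ↑S, IsLocallyClosed Z → Z.Nonempty →
        (Z ∩ {s : ↑S | LocallyOfFiniteType (S.fromSpecResidueField s)}).Nonempty) ∧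
      ∀ Z : Set ↑S, IsClosed Z →
        Z ⊆ closure (Z ∩ {s : ↑S | LocallyOfFiniteType (S.fromSpecResidueField s)}) := by
  refine ⟨fun Z hZ hne => exists_ftPt_of_locallyClosed S Z hZ hne, fun Z hZ z hz => ?_⟩
  rw [mem_closure_iff]
  intro o ho hzo
  have hlc : IsLocallyClosed (o ∩ Z) := ⟨o, Z, ho, hZ, rfl⟩
  obtain ⟨x, ⟨hxo, hxZ⟩, hx⟩ := exists_ftPt_of_locallyClosed S (o ∩ Z) hlc ⟨z, hzo, hz⟩
  exact ⟨x, hxo, hxZ, hx⟩

theorem main9340 {T S : Scheme.{u}} (f : T ⟶ S) [LocallyOfFiniteType f] [Surjective f] :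
    f.base '' {t : ↑T | LocallyOfFiniteType (T.fromSpecResidueField t)} =
      {s : ↑S | LocallyOfFiniteType (S.fromSpecResidueField s)} := by
  apply Set.Subset.antisymm (main9339 f)
  intro s hs
  have hs' : LocallyOfFiniteType (S.fromSpecResidueField s) := hs
  obtain ⟨t0, ht0⟩ := f.surjective s
  have h0 : f t0 = (S.fromSpecResidueField s) default := by
    rw [ht0, Scheme.fromSpecResidueField_apply]
  obtain ⟨p, -, -⟩ := Scheme.Pullback.exists_preimage_pullback t0 default h0
  obtain ⟨p', -, hp'⟩ := exists_ftPt_of_locallyClosed (pullback f (S.fromSpecResidueField s))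
    Set.univ isOpen_univ.isLocallyClosed ⟨p, trivial⟩
  have hfst : LocallyOfFiniteType (pullback.fst f (S.fromSpecResidueField s)) :=
    inferInstance
  have ht := main9339 (pullback.fst f (S.fromSpecResidueField s)) ⟨p', hp', rfl⟩
  refine ⟨pullback.fst f (S.fromSpecResidueField s) p', ht, ?_⟩
  change f (pullback.fst f (S.fromSpecResidueField s) p') = s
  rw [← Scheme.Hom.comp_apply, pullback.condition, Scheme.Hom.comp_apply,
    Scheme.fromSpecResidueField_apply]

end Groth.Agent.Lib.Helper4.FtPts2
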