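import Mathlib.Tactic
import Mathlib.AlgebraicGeometry.Morphisms.FiniteType
import Mathlib.RingTheory.Artinian.Ring
import Mathlib.RingTheory.Jacobson.Artinian
import Mathlib.RingTheory.LocalRing.ResidueField.Basic

set_option autoImplicit false
universe u
open CategoryTheory AlgebraicGeometry Limits TopologicalSpace

namespace Groth.Agent.Lib.Helper4.FtPtsArt

/-- a subalgebra containing generators of a nilpotent ideal `m` and surjecting onto `A/m`
is everything -/
theorem subalgebra_eq_top_of_nilpotent {R A : Type*} [CommRing R] [CommRing A] [Algebra R A]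
    (B : Subalgebra R A) (m : Ideal A) (gen : Set A) (hgen : Ideal.span gen = m)
    (hgenB : gen ⊆ B) (hnil : ∃ N : ℕ, m ^ N = ⊥)
    (hsurj : ∀ a : A, ∃ b ∈ B, a - b ∈ m) : B = ⊤ := by
  -- Claim Z
  have claimZ : ∀ z ∈ m, ∃ β ∈ B, β ∈ m ∧ z - β ∈ m ^ 2 := by
    intro z hz
    rw [← hgen] at hz
    induction hz using Submodule.span_induction with
    | mem x hx =>
      exact ⟨x, hgenB hx, hgen ▸ Ideal.subset_span hx, by rw [sub_self]; exact zero_mem _⟩
    | zero => exact ⟨0, zero_mem _, zero_mem _, by rw [sub_self]; exact zero_mem _⟩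
    | add x y _ _ hx hy =>
      obtain ⟨β1, h1B, h1m, h1⟩ := hx
      obtain ⟨β2, h2B, h2m, h2⟩ := hy
      refine ⟨β1 + β2, add_mem h1B h2B, add_mem h1m h2m, ?_⟩
      have : x + y - (β1 + β2) = (x - β1) + (y - β2) := by ring
      rw [this]; exact add_mem h1 h2
    | smul c x hx' hx =>
      obtain ⟨β1, h1B, h1m, h1⟩ := hx
      obtain ⟨bc, hbcB, hbc⟩ := hsurj c
      refine ⟨bc * β1, mul_mem hbcB h1B, Ideal.mul_mem_left _ _ h1m, ?_⟩
      have hxm : x ∈ m := hgen ▸ hx'
      have : c • x - bc * β1 = bc * (x - β1) + (c - bc) * x := by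
        rw [smul_eq_mul]; ring
      rw [this, pow_two]
      refine add_mem ?_ (Ideal.mul_mem_mul hbc hxm)
      rw [← pow_two]
      exact Ideal.mul_mem_left _ _ h1
  -- Claim(n)
  have claim : ∀ n : ℕ, ∀ x ∈ m ^ n, ∃ b ∈ B, x - b ∈ m ^ (n + 1) := by
    intro n
    induction n with
    | zero =>
      intro x _
      obtain ⟨b, hb, h⟩ := hsurj x
      exact ⟨b, hb, by simpa using h⟩
    | succ n ih =>
      intro x hx
      rw [pow_succ] at hx
      induction hx using Submodule.mul_induction_on' with
      | mem_mul_mem y hy z hz =>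
        obtain ⟨b, hbB, hb⟩ := ih y hy
        obtain ⟨β, hβB, hβm, hβ⟩ := claimZ z hz
        refine ⟨b * β, mul_mem hbB hβB, ?_⟩
        have : y * z - b * β = y * (z - β) + (y - b) * β := by ring
        rw [this]
        refine add_mem ?_ ?_
        · have : m ^ (n + 1 + 1) = m ^ n * m ^ 2 := by rw [← pow_add]
          rw [this]
          exact Ideal.mul_mem_mul hy hβ
        · rw [pow_succ (n := n + 1)]
          exact Ideal.mul_mem_mul hb hβm
      | add x1 _ x2 _ h1 h2 =>
        obtain ⟨b1, hb1, h1⟩ := h1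
        obtain ⟨b2, hb2, h2⟩ := h2
        refine ⟨b1 + b2, add_mem hb1 hb2, ?_⟩
        have : x1 + x2 - (b1 + b2) = (x1 - b1) + (x2 - b2) := by ring
        rw [this]; exact add_mem h1 h2
  have approx : ∀ n : ℕ, ∀ a : A, ∃ b ∈ B, a - b ∈ m ^ n := by
    intro n
    induction n with
    | zero => intro a; exact ⟨0, zero_mem _, by simp⟩
    | succ n ih =>
      intro a
      obtain ⟨b, hb, h⟩ := ih a
      obtain ⟨b', hb', h'⟩ := claim n _ h
      refine ⟨b + b', add_mem hb hb', ?_⟩
      have : a - (b + b') = a - b - b' := by ring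
      rw [this]; exact h'
  obtain ⟨N, hN⟩ := hnil
  rw [eq_top_iff]
  intro a _
  obtain ⟨b, hb, h⟩ := approx N a
  rw [hN, Ideal.mem_bot, sub_eq_zero] at h
  rw [h]; exact hb

theorem finiteType_of_artinian_local {R A : Type*} [CommRing R] [CommRing A] [IsArtinianRing A]
    [IsLocalRing A] (φ : R →+* A) (h : ((IsLocalRing.residue A).comp φ).FiniteType) :
    φ.FiniteType := by
  let k := IsLocalRing.ResidueField A
  let _ : Algebra R A := φ.toAlgebra
  let _ : Algebra R k := ((IsLocalRing.residue A).comp φ).toAlgebra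
  have : IsScalarTower R A k := IsScalarTower.of_algebraMap_eq fun x => rfl
  have hft : Algebra.FiniteType R k := h
  obtain ⟨t, ht⟩ := (Algebra.FiniteType.out : (⊤ : Subalgebra R k).FG)
  let f : A →ₐ[R] k := IsScalarTower.toAlgHom R A k
  have hf : ∀ a, f a = IsLocalRing.residue A a := fun a => rfl
  have hfsurj : Function.Surjective f := IsLocalRing.residue_surjective
  choose lift hlift using hfsurj
  classical
  let T : Finset A := t.image lift
  obtain ⟨G, hG⟩ := (IsNoetherian.noetherian (IsLocalRing.maximalIdeal A) :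
    (IsLocalRing.maximalIdeal A).FG)
  let B : Subalgebra R A := Algebra.adjoin R ((T ∪ G : Finset A) : Set A)
  have hBtop : B = ⊤ := by
    refine subalgebra_eq_top_of_nilpotent B (IsLocalRing.maximalIdeal A) (G : Set A) hG ?_ ?_ ?_
    · intro x hx
      exact Algebra.subset_adjoin (by simp [Finset.mem_coe.mp hx])
    · have h1 := IsArtinianRing.isNilpotent_jacobson_bot (R := A)
      rw [IsLocalRing.jacobson_eq_maximalIdeal ⊥ bot_ne_top] at h1
      obtain ⟨N, hN⟩ := h1
      exact ⟨N, hN⟩
    · intro a
      have hmap : B.map f = ⊤ := by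
        rw [eq_top_iff, ← ht]
        apply Algebra.adjoin_le
        intro y hy
        refine ⟨lift y, Algebra.subset_adjoin ?_, hlift y⟩
        simp only [Finset.coe_union, Set.mem_union, Finset.mem_coe]
        exact Or.inl (Finset.mem_image_of_mem _ hy)
      have ha : f a ∈ B.map f := by rw [hmap]; trivial
      obtain ⟨b, hb, hba⟩ := ha
      refine ⟨b, hb, ?_⟩
      rw [← IsLocalRing.residue_eq_zero_iff, map_sub, sub_eq_zero]
      exact hba.symm
  exact ⟨⟨(T ∪ G), hBtop⟩⟩

theorem subsingleton_primeSpectrum_artinian_local (A : Type u) [CommRing A] [IsArtinianRing A]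
    [IsLocalRing A] : Subsingleton (PrimeSpectrum A) := by
  constructor
  intro p q
  have hp : p.asIdeal = IsLocalRing.maximalIdeal A :=
    IsLocalRing.eq_maximalIdeal (IsArtinianRing.isMaximal_of_isPrime p.asIdeal)
  have hq : q.asIdeal = IsLocalRing.maximalIdeal A :=
    IsLocalRing.eq_maximalIdeal (IsArtinianRing.isMaximal_of_isPrime q.asIdeal)
  exact PrimeSpectrum.ext (hp.trans hq.symm)

theorem main9338 (S : Scheme.{u}) (A : Type u) [CommRing A] [IsArtinianRing A] [IsLocalRing A]
    (f : Spec (CommRingCat.of A) ⟶ S) :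
    LocallyOfFiniteType f ↔
      LocallyOfFiniteType (Spec.map (CommRingCat.ofHom (IsLocalRing.residue A)) ≫ f) := by
  have hres : LocallyOfFiniteType (Spec.map (CommRingCat.ofHom (IsLocalRing.residue A))) :=
    (HasRingHomProperty.Spec_iff (P := @LocallyOfFiniteType)).mpr
      (RingHom.FiniteType.of_surjective _ IsLocalRing.residue_surjective)
  constructor
  · intro h
    infer_instance
  · intro h
    have hsub : Subsingleton (Spec (CommRingCat.of A)) :=
      subsingleton_primeSpectrum_artinian_local A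
    let pt : Spec (CommRingCat.of A) := IsLocalRing.closedPoint A
    obtain ⟨_, ⟨U, hU0, rfl⟩, hsU, -⟩ :=
      S.isBasis_affineOpens.exists_subset_of_mem_open (Set.mem_univ (f pt)) isOpen_univ
    have hU : IsAffineOpen U := hU0
    have hrange : Set.range f ⊆ Set.range hU.fromSpec := by
      rw [hU.range_fromSpec]
      rintro _ ⟨z, rfl⟩
      rw [Subsingleton.elim z pt]
      exact hsU
    let f' := IsOpenImmersion.lift hU.fromSpec f hrange
    have hf' : f' ≫ hU.fromSpec = f := IsOpenImmersion.lift_fac _ _ _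
    let φ := Spec.preimage f'
    have hφ : Spec.map φ = f' := Spec.map_preimage f'
    have h1 : LocallyOfFiniteType
        (Spec.map (φ ≫ CommRingCat.ofHom (IsLocalRing.residue A)) ≫ hU.fromSpec) := by
      rw [Spec.map_comp, hφ, Category.assoc, hf']
      exact h
    have h2 : LocallyOfFiniteType (Spec.map (φ ≫ CommRingCat.ofHom (IsLocalRing.residue A))) :=
      locallyOfFiniteType_of_comp _ hU.fromSpec
    have h3 : (φ ≫ CommRingCat.ofHom (IsLocalRing.residue A)).hom.FiniteType :=
      (HasRingHomProperty.Spec_iff (P := @LocallyOfFiniteType)).mp h2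
    have h4 : φ.hom.FiniteType := finiteType_of_artinian_local φ.hom h3
    have h5 : LocallyOfFiniteType (Spec.map φ) :=
      (HasRingHomProperty.Spec_iff (P := @LocallyOfFiniteType)).mpr h4
    rw [← hf', ← hφ]
    infer_instance

end Groth.Agent.Lib.Helper4.FtPtsArt
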