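import Mathlib.Algebra.Group.ForwardDiff
import Mathlib.Algebra.Module.LinearMap.End
import Mathlib.RingTheory.Ideal.Operations
import Mathlib.Tactic

namespace Groth.Agent.Lib.Helper4.FwdDiffTwist

open Finset

section
variable (S : Type*) [CommRing S]

/-- shift operator -/
def Eop : Module.End S (ℕ → S) := LinearMap.funLeft S S (fun j => j + 1)

theorem Eop_apply (y : ℕ → S) (j : ℕ) : Eop S y j = y (j + 1) := rfl

theorem Eop_pow_apply (l : ℕ) (y : ℕ → S) (j : ℕ) : (Eop S ^ l) y j = y (j + l) := by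
  induction l generalizing y j with
  | zero => simp
  | succ l ih =>
    rw [pow_succ, Module.End.mul_apply, ih, Eop_apply]
    rfl

/-- difference operator -/
def Dop : Module.End S (ℕ → S) := Eop S - 1

theorem Dop_apply (y : ℕ → S) : Dop S y = fwdDiff (1 : ℕ) y := by
  funext j
  simp [Dop, Eop_apply, fwdDiff]

theorem Dop_pow_apply (n : ℕ) (y : ℕ → S) : (Dop S ^ n) y = (fwdDiff (1 : ℕ))^[n] y := by
  rw [Module.End.pow_apply]
  have : ⇑(Dop S) = fwdDiff (1 : ℕ) := funext (Dop_apply S)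
  rw [this]

/-- scalar operator -/
def sc (g : S) : Module.End S (ℕ → S) := algebraMap S _ g

theorem sc_apply (g : S) (y : ℕ → S) (j : ℕ) : sc S g y j = g * y j := by
  simp [sc, Module.algebraMap_end_apply]

theorem sc_pow (g : S) (n : ℕ) : sc S g ^ n = sc S (g ^ n) := by
  simp [sc, map_pow]

theorem sc_commute (g : S) (T : Module.End S (ℕ → S)) : Commute (sc S g) T :=
  Algebra.commute_algebraMap_left g T

theorem natCast_op_apply (n : ℕ) (y : ℕ → S) (j : ℕ) :
    ((n : Module.End S (ℕ → S)) y) j = (n : S) * y j := by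
  rw [Module.End.natCast_apply, Pi.smul_apply, nsmul_eq_mul]

end

theorem main
    (S : Type*) [CommRing S] (I : Ideal S) (g₀ g₁ : S) (hg : g₁ - g₀ ∈ I)
    (N : ℕ) (y : ℕ → S)
    (hy : ∀ i : ℕ, 1 ≤ i → i ≤ N → (fwdDiff (1 : ℕ))^[N - i] y i ∈ I ^ (N - i)) :
    g₀ ^ N * (fwdDiff (1 : ℕ))^[N] y 0 -
        (fwdDiff (1 : ℕ))^[N] (fun j : ℕ => g₀ ^ (N - j) * g₁ ^ j * y j) 0 ∈ I ^ N := by
  obtain ⟨ε, hε⟩ : ∃ ε, ε = g₁ - g₀ := ⟨_, rfl⟩
  rw [← hε] at hg
  obtain ⟨z, hz⟩ : ∃ z : ℕ → S, z = fun j : ℕ => g₀ ^ (N - j) * g₁ ^ j * y j := ⟨_, rfl⟩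
  rw [← hz]
  -- operator identity
  have hop : sc S g₁ * Eop S + sc S (-g₀) = sc S ε * Eop S + sc S g₀ * Dop S := by
    simp only [sc, Dop, hε, map_sub, map_neg]
    rw [sub_mul, mul_sub, mul_one]
    abel
  have hc1 : Commute (sc S g₁ * Eop S) (sc S (-g₀)) := (sc_commute S _ _).symm
  have hc2 : Commute (sc S ε * Eop S) (sc S g₀ * Dop S) := by
    have h1 : Commute (Eop S) (Dop S) := by
      unfold Dop
      exact (Commute.refl _).sub_right (Commute.one_right _)
    exact Commute.mul_left ((sc_commute S ε _)) (Commute.mul_right (sc_commute S g₀ _).symm h1)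
  have e1 := hc1.add_pow N
  have e2 := hc2.add_pow N
  rw [hop] at e1
  have e3 := e1.symm.trans e2
  have e4 := congrFun (LinearMap.congr_fun e3 y) 0
  simp only [LinearMap.sum_apply, Finset.sum_apply] at e4
  -- evaluate the left side
  have hL : ∀ j ∈ range (N + 1),
      (((sc S g₁ * Eop S) ^ j * sc S (-g₀) ^ (N - j) * (N.choose j : Module.End S (ℕ → S))) y) 0 =
      ((-1 : ℤ) ^ (N - j) * (N.choose j : ℤ)) • z (0 + j • 1) := by
    intro j _
    rw [(sc_commute S g₁ (Eop S)).mul_pow, sc_pow, sc_pow, hz]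
    simp only [Module.End.mul_apply, sc_apply, Eop_pow_apply, zero_add, smul_eq_mul, mul_one,
      zsmul_eq_mul, Int.cast_mul, Int.cast_pow, Int.cast_neg, Int.cast_one, Int.cast_natCast,
      neg_pow g₀]
    rw [natCast_op_apply]
    ring
  have hR : ∀ l ∈ range (N + 1),
      (((sc S ε * Eop S) ^ l * (sc S g₀ * Dop S) ^ (N - l) * (N.choose l : Module.End S (ℕ → S))) y) 0 =
      (N.choose l : S) * (ε ^ l * (g₀ ^ (N - l) * (fwdDiff (1 : ℕ))^[N - l] y l)) := by
    intro l _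
    rw [(sc_commute S ε (Eop S)).mul_pow, (sc_commute S g₀ (Dop S)).mul_pow, sc_pow, sc_pow]
    have hcomm : (N.choose l : Module.End S (ℕ → S)) y = (N.choose l : S) • y := by
      rw [Module.End.natCast_apply, Nat.cast_smul_eq_nsmul]
    simp only [Module.End.mul_apply, hcomm, map_smul, Pi.smul_apply, smul_eq_mul, sc_apply,
      Eop_pow_apply, zero_add, Dop_pow_apply]
  have hzN := fwdDiff_iter_eq_sum_shift (h := (1 : ℕ)) z N 0
  rw [sum_congr rfl hL, sum_congr rfl hR, ← hzN] at e4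
  rw [e4, sum_range_succ']
  simp only [Nat.choose_zero_right, Nat.cast_one, pow_zero, Nat.sub_zero, one_mul]
  rw [sub_add_cancel_right]
  refine neg_mem (Ideal.sum_mem _ fun l hl => ?_)
  have hlN : l + 1 ≤ N := by have := mem_range.1 hl; omega
  have h1 : ε ^ (l + 1) ∈ I ^ (l + 1) := Ideal.pow_mem_pow hg _
  have h2 := hy (l + 1) (by omega) hlN
  have h3 : ε ^ (l + 1) * (g₀ ^ (N - (l + 1)) * (fwdDiff (1 : ℕ))^[N - (l + 1)] y (l + 1)) ∈ I ^ N := by
    have : I ^ N = I ^ (l + 1) * I ^ (N - (l + 1)) := by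
      rw [← pow_add]; congr 1; omega
    rw [this]
    exact Ideal.mul_mem_mul h1 (Ideal.mul_mem_left _ _ h2)
  exact Ideal.mul_mem_left _ _ h3

end Groth.Agent.Lib.Helper4.FwdDiffTwist
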