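import Mathlib.Tactic
import Mathlib.RingTheory.Coprime.Lemmas
import Mathlib.Data.Real.Basic
set_option autoImplicit false

namespace Groth.Agent.Lib.Helper4.GPCore

/-- numeric core of S18570 -/
theorem core (n d a : ℕ) (hn : 2 ≤ n) (hd : 0 < d) (had : a ≤ d) (degE : ℤ)
    (hcop : IsCoprime (n : ℤ) degE) (α : ℝ) (hα1 : α < 1)
    (hα : 1 - 1 / ((d : ℝ) * (n : ℝ) * ((n : ℝ) - 1)) < α)
    (r' : ℕ) (hr' : 0 < r') (hr'n : r' < n) (degF : ℤ) (f' : ℕ) (hf' : f' ≤ r' * d)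
    (L : ℝ → ℝ) (hL : ∀ β : ℝ, L β = ((degF : ℝ) + β * (f' : ℝ)) * (n : ℝ) -
      ((degE : ℝ) + β * ((a * n : ℕ) : ℝ)) * (r' : ℝ)) :
    (L 1 ≤ 0 → L α < 0) ∧ (L α ≤ 0 → L 1 ≤ 0) ∧ (L 1 ≤ 0 → L 1 < 0) := by
  set A : ℤ := degF * n - degE * r' with hA
  set B : ℤ := (n : ℤ) * f' - (a : ℤ) * n * r' with hB
  have hLβ : ∀ β : ℝ, L β = (A : ℝ) + β * (B : ℝ) := by
    intro β
    rw [hL, hA, hB]
    push_cast
    ring
  -- A + B ≠ 0
  have hne : A + B ≠ 0 := by
    intro h0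
    have hdvd : (n : ℤ) ∣ degE * r' := by
      refine ⟨degF + f' - a * r', ?_⟩
      have : A + B = n * (degF + f' - a * r') - degE * r' := by rw [hA, hB]; ring
      rw [this] at h0
      linarith
    have hdvd' : (n : ℤ) ∣ (r' : ℤ) := hcop.dvd_of_dvd_mul_left hdvd
    have := Int.le_of_dvd (by exact_mod_cast hr') hdvd'
    have : n ≤ r' := by exact_mod_cast this
    omega
  -- |B| ≤ N
  have hnR : (2 : ℝ) ≤ n := by exact_mod_cast hn
  have hdR : (1 : ℝ) ≤ d := by exact_mod_cast hd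
  set N : ℝ := (d : ℝ) * (n : ℝ) * ((n : ℝ) - 1) with hN
  have hNpos : 0 < N := by
    rw [hN]
    have h1 : (0 : ℝ) < (n : ℝ) - 1 := by linarith
    have h2 : (0 : ℝ) < (d : ℝ) := by linarith
    have h3 : (0 : ℝ) < (n : ℝ) := by linarith
    positivity
  have hBabs : |(B : ℝ)| ≤ N := by
    have h1 : (B : ℤ) ≤ (d : ℤ) * n * (n - 1) := by
      rw [hB]
      have h1 : (f' : ℤ) ≤ (r' : ℤ) * d := by exact_mod_cast hf'
      have h2 : (r' : ℤ) ≤ n - 1 := by omega
      have h3 : (0 : ℤ) ≤ (a : ℤ) * n * r' := by positivity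
      have h4 : (n : ℤ) * f' ≤ n * ((n - 1) * d) := by
        apply mul_le_mul_of_nonneg_left _ (by positivity)
        calc (f' : ℤ) ≤ r' * d := h1
          _ ≤ (n - 1) * d := by apply mul_le_mul_of_nonneg_right h2 (by positivity)
      nlinarith
    have h2 : -((d : ℤ) * n * (n - 1)) ≤ B := by
      rw [hB]
      have h2 : (r' : ℤ) ≤ n - 1 := by omega
      have h3 : (a : ℤ) ≤ d := by exact_mod_cast had
      have h4 : (a : ℤ) * n * r' ≤ d * n * (n - 1) := by
        have : (a : ℤ) * n ≤ d * n := mul_le_mul_of_nonneg_right h3 (by positivity)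
        calc (a : ℤ) * n * r' ≤ d * n * r' := mul_le_mul_of_nonneg_right this (by positivity)
          _ ≤ d * n * (n - 1) := mul_le_mul_of_nonneg_left h2 (by positivity)
      have h5 : (0 : ℤ) ≤ (n : ℤ) * f' := by positivity
      linarith
    rw [abs_le]
    constructor
    · have : ((-((d : ℤ) * n * (n - 1)) : ℤ) : ℝ) ≤ (B : ℝ) := by exact_mod_cast h2
      rw [hN]; push_cast at this; linarith
    · have : (B : ℝ) ≤ (((d : ℤ) * n * (n - 1) : ℤ) : ℝ) := by exact_mod_cast h1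
      rw [hN]; push_cast at this; linarith
  have hδ : (1 - α) * N < 1 := by
    have h1 : 1 - α < 1 / N := by linarith
    calc (1 - α) * N < 1 / N * N := mul_lt_mul_of_pos_right h1 hNpos
      _ = 1 := by field_simp
  have hδ0 : 0 < 1 - α := by linarith
  have hδB : (1 - α) * |(B : ℝ)| < 1 :=
    lt_of_le_of_lt (mul_le_mul_of_nonneg_left hBabs hδ0.le) hδ
  have hL1 : L 1 = ((A + B : ℤ) : ℝ) := by rw [hLβ]; push_cast; ring
  have hLα : L α = ((A + B : ℤ) : ℝ) - (1 - α) * (B : ℝ) := by rw [hLβ]; push_cast; ring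
  have hB1 := le_abs_self (B : ℝ)
  have hB2 := neg_abs_le (B : ℝ)
  refine ⟨fun h => ?_, fun h => ?_, fun h => ?_⟩
  · rw [hL1] at h
    have h' : A + B ≤ 0 := by exact_mod_cast h
    have h'' : A + B ≤ -1 := by omega
    have : ((A + B : ℤ) : ℝ) ≤ -1 := by exact_mod_cast h''
    rw [hLα]
    nlinarith
  · rw [hLα] at h
    rw [hL1]
    have : ((A + B : ℤ) : ℝ) < 1 := by nlinarith
    have : A + B < 1 := by exact_mod_cast this
    have : A + B ≤ 0 := by omega
    exact_mod_cast this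
  · rw [hL1] at h ⊢
    have h' : A + B ≤ 0 := by exact_mod_cast h
    have h'' : A + B < 0 := lt_of_le_of_ne h' hne
    exact_mod_cast h''

end Groth.Agent.Lib.Helper4.GPCore
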