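import Groth.Agent.Lib.Helper4.GPKer2
set_option autoImplicit false
set_option linter.style.haveILetI false

universe u
open CategoryTheory CategoryTheory.Limits AlgebraicGeometry

namespace Groth.Agent.Lib.Helper4.GPKer
open Groth.Agent.Lib.Helper8.CurveTensor Groth.Agent.Lib.Helper4.GPRank Groth.Agent.Lib.Helper8.EulerK
open Groth.Agent.Lib.Helper4.HilbPoly Groth.Agent.Lib.Helper4.CurveVB

variable (k : Type u) [Field k] (X : Scheme.{u}) [X.Over (Spec (CommRingCat.of k))] [IsIntegral X]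
  [IsProper (X ↘ Spec (CommRingCat.of k))]

omit [IsIntegral X] in
theorem finite_fibD (I : X.IdealSheafData) {E : X.Modules} {n : ℕ} (hE : FlatMod.IsFinLocFreeOfRank n E) :
    Module.Finite k (ParSh.fibD X I E) := by
  haveI : IsLocallyNoetherian X := isLocallyNoetherian k X
  exact finite_HH k X _ (Groth.Agent.Lib.Helper6.K0Op.isCoh_tensorMod E _ (isCoh_of_isFinLocFreeOfRank E hE)
    (Groth.Agent.Lib.Helper6.DevRed.isCoh_quotMod I)) 0

/-- linear algebra: `dim F₁ = dim φ(F₁) + κ₁` with `κ₁ ≤ dim ker φ` -/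
theorem finrank_eq_map_add {V W : Type*} [AddCommGroup V] [Module k V] [AddCommGroup W] [Module k W]
    [Module.Finite k V] (φ : V →ₗ[k] W) (S : Submodule k V) :
    ∃ κ₁ : ℕ, κ₁ ≤ Module.finrank k (LinearMap.ker φ) ∧
      Module.finrank k S = Module.finrank k (S.map φ) + κ₁ := by
  refine ⟨Module.finrank k (LinearMap.ker (φ.domRestrict S)), ?_, ?_⟩
  · rw [LinearMap.ker_domRestrict]
    refine LinearMap.finrank_le_finrank_of_injective
      (f := ((S.subtype.restrict (p := Submodule.comap S.subtype (LinearMap.ker φ)) (q := LinearMap.ker φ)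
        (fun x hx => hx)))) ?_
    intro a b hab
    apply Subtype.ext
    apply Subtype.ext
    exact congrArg (fun z : LinearMap.ker φ => (z : V)) hab
  · have := LinearMap.finrank_range_add_finrank_ker (φ.domRestrict S)
    rw [LinearMap.range_domRestrict] at this
    exact this.symm

/-- **S18564** -/
theorem gpDeg_le_and_eq_iff (hdim : topologicalKrullDim X = 1)
    (I : X.IdealSheafData) (hD : FGA.IsEffCartier I) (α : ℝ) (hα0 : 0 ≤ α) (hα1 : α < 1)
    {E F : X.Modules} (n : ℕ) (hE : FlatMod.IsFinLocFreeOfRank n E) (hF : FlatMod.IsFinLocFreeOfRank n F)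
    (F₁ : Submodule k (ParSh.fibD X I E)) (F₁' : Submodule k (ParSh.fibD X I F))
    (f : E ⟶ F) [Mono f] (hf : ParSh.IsGPHom k X I F₁ F₁' f) :
    ParSh.gpDeg k X α E F₁ n ≤ ParSh.gpDeg k X α F F₁' n ∧
      (ParSh.gpDeg k X α E F₁ n = ParSh.gpDeg k X α F F₁' n ↔
        (IsIso f ∧ (0 < α → Submodule.map (ParSh.fibDMap k X I f) F₁ = F₁'))) := by
  haveI : IsLocallyNoetherian X := isLocallyNoetherian k X
  haveI := finite_fibD k X I hE
  haveI := finite_fibD k X I hF
  have hI := genericPoint_notMem_support_quotMod I hD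
  have hEc := isCoh_of_isFinLocFreeOfRank E hE
  have hFc := isCoh_of_isFinLocFreeOfRank F hF
  have hT := Groth.Agent.Lib.Helper6.DevCore.isCoh_cokernel f hEc hFc
  have hTgen := genericPoint_notMem_support_cokernel k X f hE hF
  have ht0 := euler_nonneg k X hdim.le _ hT hTgen
  have hdeg := deg_eq_add_euler_cokernel k X n hE hF f
  have hκ := finrank_ker_fibDMap_le k X hdim.le I hI n hE hF f
  obtain ⟨κ₁, hκ₁, ha⟩ := finrank_eq_map_add k (ParSh.fibDMap k X I f) F₁
  have hm : Module.finrank k (F₁.map (ParSh.fibDMap k X I f)) ≤ Module.finrank k F₁' :=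
    Submodule.finrank_mono hf
  set t := Curv2.euler k X (cokernel f) with ht
  set a := Module.finrank k F₁ with ha_def
  set a' := Module.finrank k F₁' with ha'_def
  set m := Module.finrank k (F₁.map (ParSh.fibDMap k X I f)) with hm_def
  have hκ₁t : (κ₁ : ℤ) ≤ t := le_trans (by exact_mod_cast hκ₁) hκ
  have hdegR : (Curv2.deg k X F n : ℝ) = (Curv2.deg k X E n : ℝ) + (t : ℝ) := by exact_mod_cast hdeg
  have haR : (a : ℝ) = (m : ℝ) + (κ₁ : ℝ) := by exact_mod_cast ha
  have hmR : (m : ℝ) ≤ (a' : ℝ) := by exact_mod_cast hm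
  have hκR : (κ₁ : ℝ) ≤ (t : ℝ) := by exact_mod_cast hκ₁t
  have htR : (0 : ℝ) ≤ (t : ℝ) := by exact_mod_cast ht0
  have hκ0 : (0 : ℝ) ≤ (κ₁ : ℝ) := by positivity
  -- key identity
  have hkey : ParSh.gpDeg k X α F F₁' n - ParSh.gpDeg k X α E F₁ n =
      (1 - α) * (t : ℝ) + α * ((t : ℝ) - κ₁) + α * ((a' : ℝ) - m) := by
    unfold ParSh.gpDeg ParSh.gpWt
    rw [hdegR, haR]
    ring
  have h1 : 0 ≤ (1 - α) * (t : ℝ) := mul_nonneg (by linarith) htR
  have h2 : 0 ≤ α * ((t : ℝ) - κ₁) := mul_nonneg hα0 (by linarith)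
  have h3 : 0 ≤ α * ((a' : ℝ) - m) := mul_nonneg hα0 (by linarith)
  refine ⟨by linarith, ⟨fun heq => ?_, fun ⟨hiso, hmap⟩ => ?_⟩⟩
  · have hz : (1 - α) * (t : ℝ) = 0 ∧ α * ((a' : ℝ) - m) = 0 := by
      constructor <;> linarith
    have ht0' : (t : ℝ) = 0 := by
      rcases mul_eq_zero.1 hz.1 with h | h
      · linarith
      · exact h
    have ht0'' : t = 0 := by exact_mod_cast ht0'
    have hdeg' : Curv2.deg k X E n = Curv2.deg k X F n := by rw [hdeg, ht0'']; ring
    refine ⟨(deg_le_of_mono_of_rank_eq k X hdim.le f hE hF).2 hdeg', fun hα => ?_⟩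
    have hma : (a' : ℝ) = m := by
      rcases mul_eq_zero.1 hz.2 with h | h
      · linarith
      · linarith
    have hma' : m = a' := by exact_mod_cast hma.symm
    exact Submodule.eq_of_le_of_finrank_eq hf hma'
  · haveI := hiso
    have hdeg' := deg_congr k X (asIso f) n
    change Curv2.deg k X E n = Curv2.deg k X F n at hdeg'
    have ht0' : (t : ℝ) = 0 := by
      have : t = 0 := by linarith
      exact_mod_cast this
    have hbij := fibDMap_bijective_of_isIso k X I f
    have hκ₁0 : (κ₁ : ℝ) = 0 := by linarith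
    rcases hα0.eq_or_lt with h0 | hpos
    · subst h0
      rw [ht0'] at hkey
      linarith
    · have := hmap hpos
      have hma : m = a' := by rw [hm_def, this]
      have hmaR : (m : ℝ) = a' := by exact_mod_cast hma
      rw [ht0', hκ₁0, hmaR] at hkey
      linarith

end Groth.Agent.Lib.Helper4.GPKer
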