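import Groth.Agent.Lib.Helper4.GPKer3
import Groth.Agent.Lib.Helper4.GPCore
set_option autoImplicit false
set_option linter.style.haveILetI false

universe u
open CategoryTheory CategoryTheory.Limits AlgebraicGeometry

namespace Groth.Agent.Lib.Helper4.GPKer
open Groth.Agent.Lib.Helper8.CurveTensor Groth.Agent.Lib.Helper4.GPRank Groth.Agent.Lib.Helper8.EulerK
open Groth.Agent.Lib.Helper4.HilbPoly Groth.Agent.Lib.Helper4.CurveVB

variable (k : Type u) [Field k] (X : Scheme.{u}) [X.Over (Spec (CommRingCat.of k))] [IsIntegral X]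
  [IsProper (X ↘ Spec (CommRingCat.of k))]

/-- full-rank subsheaves never destabilise, for weights in `[0, 1]` -/
theorem full_rank_test (hdim : topologicalKrullDim X ≤ 1)
    (I : X.IdealSheafData) (hI : genericPoint X ∉ CohB1.support (ClSub.quotMod I))
    {E F : X.Modules} (n : ℕ) (hE : FlatMod.IsFinLocFreeOfRank n E) (hF : FlatMod.IsFinLocFreeOfRank n F)
    (i : F ⟶ E) [Mono i] (F₁ : Submodule k (ParSh.fibD X I E)) (β : ℝ) (hβ0 : 0 ≤ β) (hβ1 : β ≤ 1) :
    ParSh.gpDeg k X β F (ParSh.gpInduced k X I i F₁) n ≤ ParSh.gpDeg k X β E F₁ n := by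
  haveI : IsLocallyNoetherian X := isLocallyNoetherian k X
  haveI := finite_fibD k X I hE
  haveI := finite_fibD k X I hF
  have hEc := isCoh_of_isFinLocFreeOfRank E hE
  have hFc := isCoh_of_isFinLocFreeOfRank F hF
  have hT := Groth.Agent.Lib.Helper6.DevCore.isCoh_cokernel i hFc hEc
  have hTgen := genericPoint_notMem_support_cokernel k X i hF hE
  have ht0 := euler_nonneg k X hdim _ hT hTgen
  have hdeg := deg_eq_add_euler_cokernel k X n hF hE i
  have hκ := finrank_ker_fibDMap_le k X hdim I hI n hF hE i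
  obtain ⟨κ₁, hκ₁, ha⟩ := finrank_eq_map_add k (ParSh.fibDMap k X I i) (ParSh.gpInduced k X I i F₁)
  have hm : Module.finrank k ((ParSh.gpInduced k X I i F₁).map (ParSh.fibDMap k X I i)) ≤ Module.finrank k F₁ :=
    Submodule.finrank_mono (Submodule.map_comap_le _ _)
  set t := Curv2.euler k X (cokernel i) with ht
  set a := Module.finrank k F₁ with ha_def
  set f' := Module.finrank k (ParSh.gpInduced k X I i F₁) with hf'_def
  set m := Module.finrank k ((ParSh.gpInduced k X I i F₁).map (ParSh.fibDMap k X I i)) with hm_def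
  have hκ₁t : (κ₁ : ℤ) ≤ t := le_trans (by exact_mod_cast hκ₁) hκ
  have hdegR : (Curv2.deg k X E n : ℝ) = (Curv2.deg k X F n : ℝ) + (t : ℝ) := by exact_mod_cast hdeg
  have haR : (f' : ℝ) = (m : ℝ) + (κ₁ : ℝ) := by exact_mod_cast ha
  have hmR : (m : ℝ) ≤ (a : ℝ) := by exact_mod_cast hm
  have hκR : (κ₁ : ℝ) ≤ (t : ℝ) := by exact_mod_cast hκ₁t
  have htR : (0 : ℝ) ≤ (t : ℝ) := by exact_mod_cast ht0
  have hkey : ParSh.gpDeg k X β E F₁ n - ParSh.gpDeg k X β F (ParSh.gpInduced k X I i F₁) n =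
      (1 - β) * (t : ℝ) + β * ((t : ℝ) - κ₁) + β * ((a : ℝ) - m) := by
    unfold ParSh.gpDeg ParSh.gpWt
    rw [hdegR, ← hf'_def, haR]
    ring
  have h1 : 0 ≤ (1 - β) * (t : ℝ) := mul_nonneg (by linarith) htR
  have h2 : 0 ≤ β * ((t : ℝ) - κ₁) := mul_nonneg hβ0 (by linarith)
  have h3 : 0 ≤ β * ((a : ℝ) - m) := mul_nonneg hβ0 (by linarith)
  linarith

/-- **S18570** -/
theorem gpStability_four_equiv (hdim : topologicalKrullDim X = 1)
    (I : X.IdealSheafData) (hD : FGA.IsEffCartier I) (d : ℕ) (hd : 0 < d)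
    (hdegD : ∀ (G : X.Modules) (r : ℕ), FlatMod.IsFinLocFreeOfRank r G →
      Module.finrank k (ParSh.fibD X I G) = r * d)
    {E : X.Modules} (n : ℕ) (hn : 2 ≤ n) (hE : FlatMod.IsFinLocFreeOfRank n E)
    (F₁ : Submodule k (ParSh.fibD X I E))
    (α : ℝ) (hα0 : 0 ≤ α) (hα1 : α < 1) (hα : 1 - 1 / ((d : ℝ) * (n : ℝ) * ((n : ℝ) - 1)) < α)
    (hcop : IsCoprime (n : ℤ) (Curv2.deg k X E n)) (a : ℕ) (ha : Module.finrank k F₁ = a * n) :
    (ParSh.IsGPSemistable k X I α F₁ n ↔ ParSh.IsGPSemistable k X I 1 F₁ n) ∧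
      (ParSh.IsGPStable k X I α F₁ n ↔ ParSh.IsGPSemistable k X I 1 F₁ n) ∧
      (ParSh.IsGPStable k X I 1 F₁ n ↔ ParSh.IsGPSemistable k X I 1 F₁ n) := by
  haveI := finite_fibD k X I hE
  have hI := genericPoint_notMem_support_quotMod I hD
  have had : a ≤ d := by
    have h1 : Module.finrank k F₁ ≤ Module.finrank k (ParSh.fibD X I E) := Submodule.finrank_le _
    rw [ha, hdegD E n hE] at h1
    have hn0 : 0 < n := by omega
    rw [mul_comm a n] at h1
    exact Nat.le_of_mul_le_mul_left h1 hn0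
  -- the test quantity
  have hnR : (0 : ℝ) < n := by
    have : 0 < n := by omega
    exact_mod_cast this
  -- full rank tests
  have hfull : ∀ (β : ℝ), 0 ≤ β → β ≤ 1 → ∀ (F : X.Modules) (i : F ⟶ E), Mono i →
      FlatMod.IsFinLocFreeOfRank n F →
      ParSh.gpDeg k X β F (ParSh.gpInduced k X I i F₁) n * (n : ℝ) ≤ ParSh.gpDeg k X β E F₁ n * (n : ℝ) := by
    intro β hβ0 hβ1 F i hi hF
    haveI := hi
    exact mul_le_mul_of_nonneg_right (full_rank_test k X hdim.le I hI n hE hF i F₁ β hβ0 hβ1) hnR.le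
  -- small rank tests: the core
  have hcore : ∀ (F : X.Modules) (r' : ℕ) (i : F ⟶ E), Mono i → 0 < r' → r' < n →
      FlatMod.IsFinLocFreeOfRank r' F →
      ((ParSh.gpDeg k X 1 F (ParSh.gpInduced k X I i F₁) r' * (n : ℝ) ≤ ParSh.gpDeg k X 1 E F₁ n * (r' : ℝ) →
        ParSh.gpDeg k X α F (ParSh.gpInduced k X I i F₁) r' * (n : ℝ) < ParSh.gpDeg k X α E F₁ n * (r' : ℝ)) ∧
      (ParSh.gpDeg k X α F (ParSh.gpInduced k X I i F₁) r' * (n : ℝ) ≤ ParSh.gpDeg k X α E F₁ n * (r' : ℝ) →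
        ParSh.gpDeg k X 1 F (ParSh.gpInduced k X I i F₁) r' * (n : ℝ) ≤ ParSh.gpDeg k X 1 E F₁ n * (r' : ℝ)) ∧
      (ParSh.gpDeg k X 1 F (ParSh.gpInduced k X I i F₁) r' * (n : ℝ) ≤ ParSh.gpDeg k X 1 E F₁ n * (r' : ℝ) →
        ParSh.gpDeg k X 1 F (ParSh.gpInduced k X I i F₁) r' * (n : ℝ) < ParSh.gpDeg k X 1 E F₁ n * (r' : ℝ))) := by
    intro F r' i hi hr' hr'n hF
    haveI := finite_fibD k X I hF
    have hf' : Module.finrank k (ParSh.gpInduced k X I i F₁) ≤ r' * d := by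
      have h1 : Module.finrank k (ParSh.gpInduced k X I i F₁) ≤ Module.finrank k (ParSh.fibD X I F) :=
        Submodule.finrank_le _
      rw [hdegD F r' hF] at h1
      exact h1
    have := Groth.Agent.Lib.Helper4.GPCore.core n d a hn hd had (Curv2.deg k X E n) hcop α hα1 hα r' hr' hr'n
      (Curv2.deg k X F r') (Module.finrank k (ParSh.gpInduced k X I i F₁)) hf'
      (fun β => ParSh.gpDeg k X β F (ParSh.gpInduced k X I i F₁) r' * (n : ℝ) -
        ParSh.gpDeg k X β E F₁ n * (r' : ℝ))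
      (fun β => by
        unfold ParSh.gpDeg ParSh.gpWt
        rw [ha])
    simp only [sub_nonpos, sub_neg] at this
    exact this
  have hrank : ∀ (F : X.Modules) (r' : ℕ) (i : F ⟶ E), Mono i → FlatMod.IsFinLocFreeOfRank r' F → r' ≤ n := by
    intro F r' i hi hF
    haveI := hi
    exact rank_le_of_mono i hF hE
  refine ⟨⟨fun h F r' i hi hr' hF => ?_, fun h F r' i hi hr' hF => ?_⟩,
    ⟨fun h F r' i hi hr' hF => ?_, fun h F r' i hi hr' hr'n hF => ?_⟩,
    ⟨fun h F r' i hi hr' hF => ?_, fun h F r' i hi hr' hr'n hF => ?_⟩⟩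
  · rcases (hrank F r' i hi hF).eq_or_lt with rfl | hlt
    · exact hfull 1 zero_le_one le_rfl F i hi hF
    · exact (hcore F r' i hi hr' hlt hF).2.1 (h F r' i hi hr' hF)
  · rcases (hrank F r' i hi hF).eq_or_lt with rfl | hlt
    · exact hfull α hα0 hα1.le F i hi hF
    · exact ((hcore F r' i hi hr' hlt hF).1 (h F r' i hi hr' hF)).le
  · rcases (hrank F r' i hi hF).eq_or_lt with rfl | hlt
    · exact hfull 1 zero_le_one le_rfl F i hi hF
    · exact (hcore F r' i hi hr' hlt hF).2.1 (h F r' i hi hr' hlt hF).le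
  · exact (hcore F r' i hi hr' hr'n hF).1 (h F r' i hi hr' hF)
  · rcases (hrank F r' i hi hF).eq_or_lt with rfl | hlt
    · exact hfull 1 zero_le_one le_rfl F i hi hF
    · exact (h F r' i hi hr' hlt hF).le
  · exact (hcore F r' i hi hr' hr'n hF).2.2 (h F r' i hi hr' hF)

end Groth.Agent.Lib.Helper4.GPKer
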