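import Mathlib
import Groth.Prelude.Def_ParBun2
set_option autoImplicit false

universe u
open CategoryTheory CategoryTheory.Limits AlgebraicGeometry

namespace Groth.Agent.Lib.Helper4.GPNum

/-- numerical core of `S18569` -/
theorem stable_of_stable_one {DF DE : ℤ} {f e n r' d : ℕ} {α : ℝ} (hd : 0 < d) (hn : 2 ≤ n) (hr0 : 0 < r')
    (hr : r' < n) (he : e ≤ n * d) (hα1 : α < 1)
    (hα : 1 - 1 / ((d : ℝ) * (n : ℝ) * ((n : ℝ) - 1)) < α)
    (h : ((DF : ℝ) + 1 * (f : ℝ)) * (n : ℝ) < ((DE : ℝ) + 1 * (e : ℝ)) * (r' : ℝ)) :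
    ((DF : ℝ) + α * (f : ℝ)) * (n : ℝ) < ((DE : ℝ) + α * (e : ℝ)) * (r' : ℝ) := by
  have hint : (DF + f) * n + 1 ≤ (DE + e) * r' := by
    have : (((DF + f) * n : ℤ) : ℝ) < (((DE + e) * r' : ℤ) : ℝ) := by push_cast; linarith
    exact_mod_cast this
  have hint' : ((DF : ℝ) + f) * n + 1 ≤ ((DE : ℝ) + e) * r' := by exact_mod_cast hint
  have hnr : (2 : ℝ) ≤ n := by exact_mod_cast hn
  have hdr : (1 : ℝ) ≤ d := by exact_mod_cast hd
  have hc : (0 : ℝ) < (d : ℝ) * (n : ℝ) * ((n : ℝ) - 1) :=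
    mul_pos (mul_pos (by linarith) (by linarith)) (by linarith)
  have h1α : 1 - α < 1 / ((d : ℝ) * (n : ℝ) * ((n : ℝ) - 1)) := by linarith
  have her : (e : ℝ) * (r' : ℝ) ≤ (d : ℝ) * (n : ℝ) * ((n : ℝ) - 1) := by
    have h1 : (e : ℝ) ≤ (n : ℝ) * d := by exact_mod_cast he
    have h2 : (r' : ℝ) ≤ (n : ℝ) - 1 := by
      have : r' + 1 ≤ n := hr
      have : ((r' + 1 : ℕ) : ℝ) ≤ (n : ℝ) := by exact_mod_cast this
      push_cast at this; linarith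
    have h3 : (0 : ℝ) ≤ (r' : ℝ) := by positivity
    have h4 : (0 : ℝ) ≤ (e : ℝ) := by positivity
    nlinarith
  have hf0 : (0 : ℝ) ≤ (f : ℝ) * n := by positivity
  have key : (1 - α) * ((e : ℝ) * r' - f * n) < 1 := by
    by_cases hneg : (e : ℝ) * r' - f * n ≤ 0
    · have : (1 - α) * ((e : ℝ) * r' - f * n) ≤ 0 := mul_nonpos_of_nonneg_of_nonpos (by linarith) hneg
      linarith
    · rw [not_le] at hneg
      have h5 : (e : ℝ) * r' - f * n ≤ (d : ℝ) * (n : ℝ) * ((n : ℝ) - 1) := by linarith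
      calc (1 - α) * ((e : ℝ) * r' - f * n)
          < 1 / ((d : ℝ) * (n : ℝ) * ((n : ℝ) - 1)) * ((e : ℝ) * r' - f * n) :=
            mul_lt_mul_of_pos_right h1α hneg
        _ ≤ 1 / ((d : ℝ) * (n : ℝ) * ((n : ℝ) - 1)) * ((d : ℝ) * (n : ℝ) * ((n : ℝ) - 1)) :=
            mul_le_mul_of_nonneg_left h5 (by positivity)
        _ = 1 := one_div_mul_cancel hc.ne'
  nlinarith

end Groth.Agent.Lib.Helper4.GPNum
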