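import Mathlib
set_option autoImplicit false

namespace Groth.Agent.Lib.Helper4.GPNum2

/-- numerical core of `S18568` -/
theorem semistable_one_of_semistable {DF DE : ℤ} {f e n r' d : ℕ} {α : ℝ} (hd : 0 < d) (hn : 2 ≤ n)
    (hr0 : 0 < r') (hr : r' ≤ n) (hf : f ≤ r' * d) (hα1 : α < 1)
    (hα : 1 - 1 / ((d : ℝ) * (n : ℝ) * ((n : ℝ) - 1)) < α)
    (h : ((DF : ℝ) + α * (f : ℝ)) * (n : ℝ) ≤ ((DE : ℝ) + α * (e : ℝ)) * (r' : ℝ)) :
    ((DF : ℝ) + 1 * (f : ℝ)) * (n : ℝ) ≤ ((DE : ℝ) + 1 * (e : ℝ)) * (r' : ℝ) := by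
  have hnr : (2 : ℝ) ≤ n := by exact_mod_cast hn
  have hdr : (1 : ℝ) ≤ d := by exact_mod_cast hd
  have hc : (0 : ℝ) < (d : ℝ) * (n : ℝ) * ((n : ℝ) - 1) :=
    mul_pos (mul_pos (by linarith) (by linarith)) (by linarith)
  have h1α : 1 - α < 1 / ((d : ℝ) * (n : ℝ) * ((n : ℝ) - 1)) := by linarith
  -- integer form of the goal
  suffices hint : (DF + f) * n ≤ (DE + e) * r' by
    have : (((DF + f) * n : ℤ) : ℝ) ≤ (((DE + e) * r' : ℤ) : ℝ) := by exact_mod_cast hint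
    push_cast at this
    linarith
  set B : ℝ := (f : ℝ) * n - (e : ℝ) * r' with hB
  have hAB : ((DF : ℝ) + f) * n - ((DE : ℝ) + e) * r' ≤ (1 - α) * B := by
    rw [hB]; nlinarith
  by_cases hneg : B ≤ 0
  · have : (1 - α) * B ≤ 0 := mul_nonpos_of_nonneg_of_nonpos (by linarith) hneg
    have h2 : ((DF : ℝ) + f) * n ≤ ((DE : ℝ) + e) * r' := by linarith
    exact_mod_cast h2
  · rw [not_le] at hneg
    have hfn : (f : ℝ) ≤ (r' : ℝ) * d := by exact_mod_cast hf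
    have hBle : B ≤ (r' : ℝ) * d * n := by
      have : (0 : ℝ) ≤ (e : ℝ) * r' := by positivity
      rw [hB]; nlinarith
    have hlt : (1 - α) * B < 1 / ((d : ℝ) * (n : ℝ) * ((n : ℝ) - 1)) * B :=
      mul_lt_mul_of_pos_right h1α hneg
    rcases Nat.lt_or_ge r' n with hrn | hrn
    · -- `r' ≤ n - 1`
      have h2 : (r' : ℝ) ≤ (n : ℝ) - 1 := by
        have : ((r' + 1 : ℕ) : ℝ) ≤ (n : ℝ) := by exact_mod_cast hrn
        push_cast at this; linarith
      have h3 : B ≤ (d : ℝ) * (n : ℝ) * ((n : ℝ) - 1) := by nlinarith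
      have h4 : 1 / ((d : ℝ) * (n : ℝ) * ((n : ℝ) - 1)) * B ≤ 1 := by
        calc 1 / ((d : ℝ) * (n : ℝ) * ((n : ℝ) - 1)) * B
            ≤ 1 / ((d : ℝ) * (n : ℝ) * ((n : ℝ) - 1)) * ((d : ℝ) * (n : ℝ) * ((n : ℝ) - 1)) :=
              mul_le_mul_of_nonneg_left h3 (by positivity)
          _ = 1 := one_div_mul_cancel hc.ne'
      have h5 : ((DF : ℝ) + f) * n - ((DE : ℝ) + e) * r' < 1 := by linarith
      have h6 : (((DF + f) * n - (DE + e) * r' : ℤ) : ℝ) < ((1 : ℤ) : ℝ) := by push_cast; linarith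
      have h7 : (DF + f) * n - (DE + e) * r' < 1 := by exact_mod_cast h6
      linarith
    · -- `r' = n`
      have hrn' : r' = n := le_antisymm hr hrn
      subst hrn'
      have h3 : B ≤ 2 * ((d : ℝ) * (r' : ℝ) * ((r' : ℝ) - 1)) := by nlinarith
      have h4 : 1 / ((d : ℝ) * (r' : ℝ) * ((r' : ℝ) - 1)) * B ≤ 2 := by
        calc 1 / ((d : ℝ) * (r' : ℝ) * ((r' : ℝ) - 1)) * B
            ≤ 1 / ((d : ℝ) * (r' : ℝ) * ((r' : ℝ) - 1)) * (2 * ((d : ℝ) * (r' : ℝ) * ((r' : ℝ) - 1))) :=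
              mul_le_mul_of_nonneg_left h3 (by positivity)
          _ = 2 := by rw [mul_comm 2, ← mul_assoc, one_div_mul_cancel hc.ne', one_mul]
      have h5 : ((DF : ℝ) + f) * r' - ((DE : ℝ) + e) * r' < 2 := by linarith
      have h6 : (((DF + f) * r' - (DE + e) * r' : ℤ) : ℝ) < ((2 : ℤ) : ℝ) := by push_cast; linarith
      have h7 : (DF + f) * r' - (DE + e) * r' < 2 := by exact_mod_cast h6
      have h8 : (DF + f) * r' - (DE + e) * r' = (DF + f - DE - e) * r' := by ring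
      by_contra hcon
      rw [not_le] at hcon
      have h9 : 0 < (DF + f - DE - e) * (r' : ℤ) := by linarith
      have hr' : (2 : ℤ) ≤ (r' : ℤ) := by exact_mod_cast hn
      have h10 : 0 < DF + f - DE - e := by
        by_contra h11
        rw [not_lt] at h11
        have : (DF + f - DE - e) * (r' : ℤ) ≤ 0 := mul_nonpos_of_nonpos_of_nonneg h11 (by linarith)
        linarith
      nlinarith

end Groth.Agent.Lib.Helper4.GPNum2
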