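import Groth.Agent.Lib.Helper4.HilbPoly1
set_option backward.isDefEq.respectTransparency.types false
set_option autoImplicit false
set_option linter.style.haveILetI false

universe u
open CategoryTheory CategoryTheory.Limits AlgebraicGeometry Opposite TopologicalSpace Polynomial

namespace Groth.Agent.Lib.Helper4.HilbPoly
open Groth.Agent.Lib.Helper4.Snapper Groth.Agent.Lib.Helper6.K0Len Groth.Agent.Lib.Helper6.K0Op

theorem alpha_add (d : ℕ) (P Q : ℚ[X]) : StabCat.alpha d (P + Q) = StabCat.alpha d P + StabCat.alpha d Q := by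
  unfold StabCat.alpha
  rw [coeff_add]
  ring

theorem alpha_sub (d : ℕ) (P Q : ℚ[X]) : StabCat.alpha d (P - Q) = StabCat.alpha d P - StabCat.alpha d Q := by
  unfold StabCat.alpha
  rw [coeff_sub]
  ring

theorem alpha_smul (d : ℕ) (c : ℚ) (P : ℚ[X]) : StabCat.alpha d (c • P) = c * StabCat.alpha d P := by
  unfold StabCat.alpha
  rw [coeff_smul, smul_eq_mul]
  ring

/-- the short exact sequence of a monomorphism and its cokernel -/
theorem shortExact_cokernel {C : Type*} [Category C] [Abelian C] {A B : C} (f : A ⟶ B) [Mono f] :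
    (ShortComplex.mk f (cokernel.π f) (cokernel.condition f)).ShortExact :=
  { exact := ShortComplex.exact_of_g_is_cokernel _ (cokernelIsCokernel f)
    mono_f := inferInstanceAs (Mono f)
    epi_g := inferInstanceAs (Epi (cokernel.π f)) }

/-- the short exact sequence of an epimorphism and its kernel -/
theorem shortExact_kernel {C : Type*} [Category C] [Abelian C] {A B : C} (f : A ⟶ B) [Epi f] :
    (ShortComplex.mk (kernel.ι f) f (kernel.condition f)).ShortExact :=
  { exact := ShortComplex.exact_of_f_is_kernel _ (kernelIsKernel f)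
    mono_f := inferInstanceAs (Mono (kernel.ι f))
    epi_g := inferInstanceAs (Epi f) }

variable (k : Type u) [Field k] {X : Scheme.{u}} [X.Over (Spec (CommRingCat.of k))]
    [IsProper (X ↘ (Spec (CommRingCat.of k)))] {L : X.Modules}

theorem polyLE_of_mono (hL : CohB1.IsAmple L) {E E' : X.Modules} (hE : Coh.IsCoh E) (hE' : Coh.IsCoh E')
    (ι : E ⟶ E') [Mono ι] {pE pE' : ℚ[X]} (hpE : ShStab.IsHilbPoly k X L E pE)
    (hpE' : ShStab.IsHilbPoly k X L E' pE') :
    ShStab.IsHilbPoly k X L (cokernel ι) (pE' - pE) ∧ StabCat.PolyLE pE pE' := by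
  have hC : Coh.IsCoh (cokernel ι) := Groth.Agent.Lib.Helper6.DevCore.isCoh_cokernel ι hE hE'
  have hpC := isHilbPoly_sub_left k hL.1 _ (shortExact_cokernel ι) hE hE' hC hpE hpE'
  refine ⟨hpC, ?_⟩
  obtain ⟨N, hN⟩ := polyLE_zero k hL hC hpC
  refine ⟨N, fun m hm => ?_⟩
  have := hN m hm
  rw [eval_zero, eval_sub] at this
  linarith

theorem S16340 (hL : CohB1.IsAmple L) (d : ℕ) (E E' : X.Modules)
    (hE : Coh.IsCoh E) (hE' : Coh.IsCoh E') (ι : E ⟶ E') [Mono ι]
    (pE pE' : ℚ[X]) (hpE : ShStab.IsHilbPoly k X L E pE) (hpE' : ShStab.IsHilbPoly k X L E' pE') :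
    StabCat.PolyLE pE pE' ∧
      (topologicalKrullDim (CohB1.support (cokernel ι)) < (d : WithBot ℕ∞) →
        StabCat.alpha d pE = StabCat.alpha d pE') := by
  obtain ⟨hpC, hle⟩ := polyLE_of_mono k hL hE hE' ι hpE hpE'
  refine ⟨hle, fun hdim => ?_⟩
  have hC : Coh.IsCoh (cokernel ι) := Groth.Agent.Lib.Helper6.DevCore.isCoh_cokernel ι hE hE'
  have := alpha_eq_zero k hL.1 hC hdim hpC
  rw [alpha_sub] at this
  linarith

theorem isHilbPoly_zero (hL : PicF.IsInvertible L) {F : X.Modules} (hF : IsZero F) :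
    ShStab.IsHilbPoly k X L F 0 := by
  rw [isHilbPoly_iff k hL F (Groth.Agent.Lib.Helper6.DevRed.isCoh_of_isZero hF)]
  intro m
  rw [cls_of_isZero F hF, map_zero, map_zero, eval_zero]
  simp

omit [IsProper (X ↘ (Spec (CommRingCat.of k)))] [X.Over (Spec (CommRingCat.of k))] in
theorem redLE_iff (d : ℕ) (P Q : ℚ[X]) : StabCat.RedLE d P Q ↔
    ∃ N : ℕ, ∀ m : ℕ, N ≤ m → StabCat.alpha d Q * P.eval (m : ℚ) ≤ StabCat.alpha d P * Q.eval (m : ℚ) := by
  unfold StabCat.RedLE StabCat.PolyLE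
  simp only [eval_smul, smul_eq_mul]

omit [IsProper (X ↘ (Spec (CommRingCat.of k)))] [X.Over (Spec (CommRingCat.of k))] in
theorem redLT_iff (d : ℕ) (P Q : ℚ[X]) : StabCat.RedLT d P Q ↔
    ∃ N : ℕ, ∀ m : ℕ, N ≤ m → StabCat.alpha d Q * P.eval (m : ℚ) < StabCat.alpha d P * Q.eval (m : ℚ) := by
  unfold StabCat.RedLT StabCat.PolyLT
  simp only [eval_smul, smul_eq_mul]

omit [IsProper (X ↘ (Spec (CommRingCat.of k)))] [X.Over (Spec (CommRingCat.of k))] in
theorem redLE_refl (d : ℕ) (P : ℚ[X]) : StabCat.RedLE d P P := by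
  rw [redLE_iff]
  exact ⟨0, fun m _ => le_rfl⟩

omit [IsProper (X ↘ (Spec (CommRingCat.of k)))] [X.Over (Spec (CommRingCat.of k))] in
theorem redLE_trans {d : ℕ} {P Q R : ℚ[X]} (h1 : StabCat.RedLE d P Q) (h2 : StabCat.RedLE d Q R)
    (hQ : 0 < StabCat.alpha d Q) (hP : 0 ≤ StabCat.alpha d P) (hR : 0 ≤ StabCat.alpha d R) :
    StabCat.RedLE d P R := by
  rw [redLE_iff] at *
  obtain ⟨N1, h1⟩ := h1
  obtain ⟨N2, h2⟩ := h2
  refine ⟨max N1 N2, fun m hm => ?_⟩
  have a := h1 m (le_of_max_le_left hm)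
  have b := h2 m (le_of_max_le_right hm)
  have a' := mul_le_mul_of_nonneg_left a hR
  have b' := mul_le_mul_of_nonneg_left b hP
  have : StabCat.alpha d Q * (StabCat.alpha d R * P.eval (m : ℚ)) ≤
      StabCat.alpha d Q * (StabCat.alpha d P * R.eval (m : ℚ)) := by nlinarith
  exact le_of_mul_le_mul_left this hQ

omit [IsProper (X ↘ (Spec (CommRingCat.of k)))] [X.Over (Spec (CommRingCat.of k))] in
theorem redLT_of_lt_of_le {d : ℕ} {P Q R : ℚ[X]} (h1 : StabCat.RedLT d P Q) (h2 : StabCat.RedLE d Q R)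
    (hQ : 0 < StabCat.alpha d Q) (hP : 0 ≤ StabCat.alpha d P) (hR : 0 < StabCat.alpha d R) :
    StabCat.RedLT d P R := by
  rw [redLE_iff] at h2
  rw [redLT_iff] at *
  obtain ⟨N1, h1⟩ := h1
  obtain ⟨N2, h2⟩ := h2
  refine ⟨max N1 N2, fun m hm => ?_⟩
  have a := h1 m (le_of_max_le_left hm)
  have b := h2 m (le_of_max_le_right hm)
  have a' := mul_lt_mul_of_pos_left a hR
  have b' := mul_le_mul_of_nonneg_left b hP
  have : StabCat.alpha d Q * (StabCat.alpha d R * P.eval (m : ℚ)) <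
      StabCat.alpha d Q * (StabCat.alpha d P * R.eval (m : ℚ)) := by nlinarith
  exact lt_of_mul_lt_mul_left this hQ.le

omit [IsProper (X ↘ (Spec (CommRingCat.of k)))] [X.Over (Spec (CommRingCat.of k))] in
theorem redLT_of_le_of_lt {d : ℕ} {P Q R : ℚ[X]} (h1 : StabCat.RedLE d P Q) (h2 : StabCat.RedLT d Q R)
    (hQ : 0 < StabCat.alpha d Q) (hP : 0 < StabCat.alpha d P) (hR : 0 ≤ StabCat.alpha d R) :
    StabCat.RedLT d P R := by
  rw [redLE_iff] at h1
  rw [redLT_iff] at *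
  obtain ⟨N1, h1⟩ := h1
  obtain ⟨N2, h2⟩ := h2
  refine ⟨max N1 N2, fun m hm => ?_⟩
  have a := h1 m (le_of_max_le_left hm)
  have b := h2 m (le_of_max_le_right hm)
  have a' := mul_le_mul_of_nonneg_left a hR
  have b' := mul_lt_mul_of_pos_left b hP
  have : StabCat.alpha d Q * (StabCat.alpha d R * P.eval (m : ℚ)) <
      StabCat.alpha d Q * (StabCat.alpha d P * R.eval (m : ℚ)) := by nlinarith
  exact lt_of_mul_lt_mul_left this hQ.le

omit [IsProper (X ↘ (Spec (CommRingCat.of k)))] [X.Over (Spec (CommRingCat.of k))] in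
theorem not_redLT_of_redLE {d : ℕ} {P Q : ℚ[X]} (h1 : StabCat.RedLE d P Q) (h2 : StabCat.RedLT d Q P) : False := by
  rw [redLE_iff] at h1
  rw [redLT_iff] at h2
  obtain ⟨N1, h1⟩ := h1
  obtain ⟨N2, h2⟩ := h2
  have a := h1 (max N1 N2) (le_max_left _ _)
  have b := h2 (max N1 N2) (le_max_right _ _)
  linarith

omit [IsProper (X ↘ (Spec (CommRingCat.of k)))] [X.Over (Spec (CommRingCat.of k))] in
theorem not_redLT_of_redEq {d : ℕ} {P Q : ℚ[X]} (h1 : StabCat.RedEq d P Q) (h2 : StabCat.RedLT d P Q) : False := by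
  rw [redLT_iff] at h2
  obtain ⟨N2, h2⟩ := h2
  have b := h2 N2 le_rfl
  have a : StabCat.alpha d Q * P.eval (N2 : ℚ) = StabCat.alpha d P * Q.eval (N2 : ℚ) := by
    have := congrArg (fun R : ℚ[X] => R.eval (N2 : ℚ)) h1
    simpa only [eval_smul, smul_eq_mul] using this
  linarith

/-- semistability in terms of quotients -/
theorem redLE_of_epi (hL : PicF.IsInvertible L) (d : ℕ) {E Q : X.Modules} (hE : Coh.IsCoh E) (hQ : Coh.IsCoh Q)
    (hss : StabCat.IsSS Coh.IsCoh (ShStab.IsHilbPoly k X L) d E) (π : E ⟶ Q) [Epi π]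
    {pE pQ : ℚ[X]} (hpE : ShStab.IsHilbPoly k X L E pE) (hpQ : ShStab.IsHilbPoly k X L Q pQ) :
    StabCat.RedLE d pE pQ := by
  haveI : IsLocallyNoetherian X := Groth.Agent.Lib.Helper8.EulerK.isLocallyNoetherian k X
  have hK : Coh.IsCoh (kernel π) := Groth.Agent.Lib.Helper6.DevCore.isCoh_kernel π hE hQ
  have hpK := isHilbPoly_sub_right k hL _ (shortExact_kernel π) hK hE hQ hpE hpQ
  by_cases hK0 : IsZero (kernel π)
  · -- `π` is an isomorphism
    haveI : Mono π := Preadditive.mono_of_kernel_zero (hK0.eq_of_src _ _)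
    haveI : IsIso π := isIso_of_mono_of_epi π
    have := isHilbPoly_unique k (isHilbPoly_of_iso k hL (asIso π) hE hpE) hpQ
    rw [this]
    exact redLE_refl d pQ
  by_cases hKi : IsIso (kernel.ι π)
  · -- `Q = 0`
    have hπ : π = 0 := by
      rw [← cancel_epi (kernel.ι π), kernel.condition, Limits.comp_zero]
    have hQ0 : IsZero Q := by
      have hepi : Epi (0 : E ⟶ Q) := hπ ▸ inferInstance
      exact @IsZero.of_epi_zero _ _ _ E Q hepi
    have := isHilbPoly_unique k hpQ (isHilbPoly_zero k hL hQ0)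
    rw [this, redLE_iff]
    refine ⟨0, fun m _ => ?_⟩
    unfold StabCat.alpha
    simp
  · have h := hss (kernel π) (kernel.ι π) inferInstance hK hK0 hKi _ _ hpK hpE
    rw [redLE_iff] at *
    obtain ⟨N, hN⟩ := h
    refine ⟨N, fun m hm => ?_⟩
    have := hN m hm
    rw [alpha_sub, eval_sub] at this
    nlinarith

/-- stability in terms of quotients -/
theorem redLT_of_epi (hL : PicF.IsInvertible L) (d : ℕ) {E Q : X.Modules} (hE : Coh.IsCoh E) (hQ : Coh.IsCoh Q)
    (hst : StabCat.IsSt Coh.IsCoh (ShStab.IsHilbPoly k X L) d E) (π : E ⟶ Q) [Epi π]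
    (hQ0 : ¬ IsZero Q) (hπ : ¬ IsIso π)
    {pE pQ : ℚ[X]} (hpE : ShStab.IsHilbPoly k X L E pE) (hpQ : ShStab.IsHilbPoly k X L Q pQ) :
    StabCat.RedLT d pE pQ := by
  haveI : IsLocallyNoetherian X := Groth.Agent.Lib.Helper8.EulerK.isLocallyNoetherian k X
  have hK : Coh.IsCoh (kernel π) := Groth.Agent.Lib.Helper6.DevCore.isCoh_kernel π hE hQ
  have hpK := isHilbPoly_sub_right k hL _ (shortExact_kernel π) hK hE hQ hpE hpQ
  have hK0 : ¬ IsZero (kernel π) := by
    intro hK0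
    haveI : Mono π := Preadditive.mono_of_kernel_zero (hK0.eq_of_src _ _)
    exact hπ (isIso_of_mono_of_epi π)
  have hKi : ¬ IsIso (kernel.ι π) := by
    intro hKi
    have hπ0 : π = 0 := by
      rw [← cancel_epi (kernel.ι π), kernel.condition, Limits.comp_zero]
    apply hQ0
    have hepi : Epi (0 : E ⟶ Q) := hπ0 ▸ inferInstance
    exact @IsZero.of_epi_zero _ _ _ E Q hepi
  have h := hst (kernel π) (kernel.ι π) inferInstance hK hK0 hKi _ _ hpK hpE
  rw [redLT_iff] at *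
  obtain ⟨N, hN⟩ := h
  refine ⟨N, fun m hm => ?_⟩
  have := hN m hm
  rw [alpha_sub, eval_sub] at this
  nlinarith

end Groth.Agent.Lib.Helper4.HilbPoly
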