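import Groth.Agent.Lib.Helper4.GPNum2
import Groth.Agent.Lib.Helper8.CurveTensor
import Groth.Agent.Lib.Helper6.K0Tensor
import Groth.Agent.Lib.Helper4.HilbPoly2
import Groth.Prelude.Def_ParBun2
set_option backward.isDefEq.respectTransparency.types false
set_option autoImplicit false
set_option linter.style.haveILetI false

universe u
open CategoryTheory CategoryTheory.Limits AlgebraicGeometry

namespace Groth.Agent.Lib.Helper4.GPRank
open Groth.Agent.Lib.Helper8.CurveTensor

variable {X : Scheme.{u}} [IsIntegral X]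

theorem grank_of_isFinLocFreeOfRank {n : ℕ} (E : X.Modules) (hE : FlatMod.IsFinLocFreeOfRank n E) :
    grank X E = n := by
  obtain ⟨b⟩ := Groth.Agent.Lib.Helper6.K0Tensor.exists_stalkBasis E hE (genericPoint X)
  unfold grank
  rw [Module.finrank_eq_card_basis b]
  simp

theorem rank_le_of_mono {F E : X.Modules} (i : F ⟶ E) [Mono i] {r' n : ℕ}
    (hF : FlatMod.IsFinLocFreeOfRank r' F) (hE : FlatMod.IsFinLocFreeOfRank n E) : r' ≤ n := by
  have hFc := isCoh_of_isFinLocFreeOfRank F hF
  have hEc := isCoh_of_isFinLocFreeOfRank E hE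
  have := grank_add X _ (Groth.Agent.Lib.Helper4.HilbPoly.shortExact_cokernel i) hFc hEc
    (Groth.Agent.Lib.Helper6.DevCore.isCoh_cokernel i hFc hEc)
  dsimp only at this
  rw [grank_of_isFinLocFreeOfRank F hF, grank_of_isFinLocFreeOfRank E hE] at this
  omega

end Groth.Agent.Lib.Helper4.GPRank
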