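import Groth.Agent.Lib.Helper4.GPExact
import Groth.Agent.Lib.Helper4.TFCurve2
import Groth.Agent.Lib.Helper17.GrVan
set_option autoImplicit false
set_option backward.isDefEq.respectTransparency.types false
set_option linter.style.haveILetI false

universe u
open CategoryTheory CategoryTheory.Limits AlgebraicGeometry

namespace Groth.Agent.Lib.Helper4.GPStab
open Groth.Agent.Lib.Helper8.CurveTensor Groth.Agent.Lib.Helper4.GPRank Groth.Agent.Lib.Helper8.EulerK
open Groth.Agent.Lib.Helper4.HilbPoly Groth.Agent.Lib.Helper4.CurveVB Groth.Agent.Lib.Helper4.GPKer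
open Groth.Agent.Lib.Helper4.GPExact

/-- `F₀` of a zero module vanishes -/
theorem subsingleton_fibD_of_isZero {X : Scheme.{u}} (I : X.IdealSheafData) {K : X.Modules} (hK : IsZero K) :
    Subsingleton (ParSh.fibD X I K) :=
  Groth.Agent.Lib.Helper17.Graded.subsingleton_HH_of_isZero _
    (Groth.Agent.Lib.Helper17.Graded.isZero_tensorMod_of_isZero K _ hK) 0

variable (k : Type u) [Field k] (X : Scheme.{u}) [X.Over (Spec (CommRingCat.of k))]

variable [IsIntegral X] [IsProper (X ↘ Spec (CommRingCat.of k))] [Smooth (X ↘ Spec (CommRingCat.of k))]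

omit [IsIntegral X] [IsProper (X ↘ Spec (CommRingCat.of k))] [Smooth (X ↘ Spec (CommRingCat.of k))] in
theorem fibDMap_fac (I : X.IdealSheafData) {E F : X.Modules} (f : E ⟶ F) (v : ParSh.fibD X I E) :
    ParSh.fibDMap k X I (Abelian.image.ι f) (ParSh.fibDMap k X I (Abelian.factorThruImage f) v) =
      ParSh.fibDMap k X I f v := by
  rw [fibDMap_comp, Abelian.image.fac]

omit [IsIntegral X] [IsProper (X ↘ Spec (CommRingCat.of k))] [Smooth (X ↘ Spec (CommRingCat.of k))] in
/-- the coinduced structure on the image is contained in the structure induced from the target -/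
theorem coinduced_le_induced (I : X.IdealSheafData) {E F : X.Modules}
    (F₁ : Submodule k (ParSh.fibD X I E)) (F₁' : Submodule k (ParSh.fibD X I F))
    (f : E ⟶ F) (hf : ParSh.IsGPHom k X I F₁ F₁' f) :
    ParSh.gpCoinduced k X I (Abelian.factorThruImage f) F₁ ≤
      ParSh.gpInduced k X I (Abelian.image.ι f) F₁' := by
  unfold ParSh.gpCoinduced ParSh.gpInduced
  rw [Submodule.map_le_iff_le_comap]
  intro v hv
  rw [Submodule.mem_comap, Submodule.mem_comap, fibDMap_fac]
  exact hf (Submodule.mem_map_of_mem hv)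

/-- kernel and image of a morphism out of a GP-semistable bundle: the image with its coinduced structure has
slope at least that of the source -/
theorem image_gpDeg_ge (hdim : topologicalKrullDim X = 1) (I : X.IdealSheafData) (hD : FGA.IsEffCartier I)
    (α : ℝ) (hα0 : 0 ≤ α) {E F : X.Modules} (n m : ℕ) (hE : FlatMod.IsFinLocFreeOfRank n E)
    (hF : FlatMod.IsFinLocFreeOfRank m F) (F₁ : Submodule k (ParSh.fibD X I E))
    (hEss : ParSh.IsGPSemistable k X I α F₁ n) (f : E ⟶ F) :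
    ∃ rK rI : ℕ, FlatMod.IsFinLocFreeOfRank rK (kernel f) ∧ FlatMod.IsFinLocFreeOfRank rI (Abelian.image f) ∧
      rK + rI = n ∧ rI ≤ m ∧ (f ≠ 0 → 0 < rI) ∧ (¬ IsZero (kernel f) → 0 < rK) ∧
      ParSh.gpDeg k X α E F₁ n * (rI : ℝ) ≤
        ParSh.gpDeg k X α (Abelian.image f) (ParSh.gpCoinduced k X I (Abelian.factorThruImage f) F₁) rI * (n : ℝ) ∧
      (ParSh.IsGPStable k X I α F₁ n → 0 < rK → 0 < rI → ParSh.gpDeg k X α E F₁ n * (rI : ℝ) <
        ParSh.gpDeg k X α (Abelian.image f) (ParSh.gpCoinduced k X I (Abelian.factorThruImage f) F₁) rI * (n : ℝ)) := by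
  haveI : IsLocallyNoetherian X := isLocallyNoetherian k X
  have hI := genericPoint_notMem_support_quotMod I hD
  obtain ⟨rK, rI, hK, hIm, hr', hIs, hdeg, hI0, hK0⟩ := ker_im k X hdim f hE hF
  refine ⟨rK, rI, hK, hIm, hr', hIs, hI0, hK0, ?_⟩
  have hEc := isCoh_of_isFinLocFreeOfRank E hE
  have hKc := isCoh_of_isFinLocFreeOfRank _ hK
  have hIc := isCoh_of_isFinLocFreeOfRank _ hIm
  have hS := Groth.Agent.Lib.Helper8.CurveVan.shortExact_kernel_image f
  have hdim' := finrank_le_induced_add_coinduced k X hdim.le I hI _ hS hKc hEc hIc F₁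
  dsimp only at hdim'
  set dE := Curv2.deg k X E n with hdE
  set dK := Curv2.deg k X (kernel f) rK with hdK
  set dI := Curv2.deg k X (Abelian.image f) rI with hdI
  set a := Module.finrank k F₁ with ha
  set aK := Module.finrank k (ParSh.gpInduced k X I (kernel.ι f) F₁) with haK
  set c := Module.finrank k (ParSh.gpCoinduced k X I (Abelian.factorThruImage f) F₁) with hc
  have hdegR : (dE : ℝ) = (dK : ℝ) + (dI : ℝ) := by exact_mod_cast hdeg.symm
  have haR : (a : ℝ) ≤ (aK : ℝ) + (c : ℝ) := by exact_mod_cast hdim'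
  have hnR : (n : ℝ) = (rK : ℝ) + (rI : ℝ) := by exact_mod_cast hr'.symm
  have hgE : ParSh.gpDeg k X α E F₁ n = (dE : ℝ) + α * (a : ℝ) := rfl
  have hgI : ParSh.gpDeg k X α (Abelian.image f)
      (ParSh.gpCoinduced k X I (Abelian.factorThruImage f) F₁) rI = (dI : ℝ) + α * (c : ℝ) := rfl
  rw [hgE, hgI]
  have hαa : α * (a : ℝ) ≤ α * (aK : ℝ) + α * (c : ℝ) := by nlinarith
  have hrI0 : (0 : ℝ) ≤ (rI : ℝ) := by positivity
  have hrK0 : (0 : ℝ) ≤ (rK : ℝ) := by positivity
  rcases Nat.eq_zero_or_pos rK with h0 | hpos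
  · subst h0
    have hz := isZero_of_rank_zero hK
    have hdK0 : dK = 0 := deg_of_isZero k X hz
    haveI := subsingleton_fibD_of_isZero I hz
    have haK0 : aK = 0 := by
      rw [haK]
      exact Module.finrank_zero_of_subsingleton
    have hdK0R : (dK : ℝ) = 0 := by exact_mod_cast hdK0
    have haK0R : (aK : ℝ) = 0 := by exact_mod_cast haK0
    refine ⟨?_, fun _ h => absurd h (lt_irrefl 0)⟩
    rw [hnR]
    have h1 : (dE : ℝ) + α * (a : ℝ) ≤ (dI : ℝ) + α * (c : ℝ) := by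
      rw [hdegR, hdK0R]
      rw [haK0R] at hαa
      linarith
    simp only [Nat.cast_zero, zero_add]
    exact mul_le_mul_of_nonneg_right h1 hrI0
  · have h1 := hEss _ rK (kernel.ι f) inferInstance hpos hK
    have hgK : ParSh.gpDeg k X α (kernel f) (ParSh.gpInduced k X I (kernel.ι f) F₁) rK =
        (dK : ℝ) + α * (aK : ℝ) := rfl
    rw [hgK, hgE] at h1
    have hn0 : (0 : ℝ) ≤ (n : ℝ) := by positivity
    have h3 : (α * (a : ℝ) - α * (aK : ℝ)) * (n : ℝ) ≤ (α * (c : ℝ)) * (n : ℝ) :=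
      mul_le_mul_of_nonneg_right (by linarith) hn0
    have key : ((dI : ℝ) + α * (c : ℝ)) * (n : ℝ) - ((dE : ℝ) + α * (a : ℝ)) * (rI : ℝ) =
        (((dE : ℝ) + α * (a : ℝ)) * (rK : ℝ) - ((dK : ℝ) + α * (aK : ℝ)) * (n : ℝ)) +
        ((α * (c : ℝ)) * (n : ℝ) - (α * (a : ℝ) - α * (aK : ℝ)) * (n : ℝ)) := by
      rw [hdegR, hnR]
      ring
    refine ⟨by linarith, fun hst _ hrIpos => ?_⟩
    have hlt : rK < n := by omega
    have h2 := hst _ rK (kernel.ι f) inferInstance hpos hlt hK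
    rw [hgK, hgE] at h2
    linarith



/-- **S18566** -/
theorem eq_zero_or_isIso (hdim : topologicalKrullDim X = 1)
    (I : X.IdealSheafData) (hD : FGA.IsEffCartier I) (α : ℝ) (hα0 : 0 ≤ α) (hα1 : α < 1)
    {E F : X.Modules} (n m : ℕ) (hn : 0 < n) (hm : 0 < m)
    (hE : FlatMod.IsFinLocFreeOfRank n E) (hF : FlatMod.IsFinLocFreeOfRank m F)
    (F₁ : Submodule k (ParSh.fibD X I E)) (F₁' : Submodule k (ParSh.fibD X I F))
    (hEss : ParSh.IsGPSemistable k X I α F₁ n) (hEst : ParSh.IsGPStable k X I α F₁ n)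
    (hFss : ParSh.IsGPSemistable k X I α F₁' m) (hFst : ParSh.IsGPStable k X I α F₁' m)
    (hμ : ParSh.gpDeg k X α E F₁ n * (m : ℝ) = ParSh.gpDeg k X α F F₁' m * (n : ℝ))
    (f : E ⟶ F) (hf : ParSh.IsGPHom k X I F₁ F₁' f) :
    f = 0 ∨ (IsIso f ∧ (0 < α → Submodule.map (ParSh.fibDMap k X I f) F₁ = F₁')) := by
  by_cases hf0 : f = 0
  · exact Or.inl hf0
  right
  obtain ⟨rK, rI, hK, hIm, hr', hIs, hI0, hK0, hA, hAst⟩ :=
    image_gpDeg_ge k X hdim I hD α hα0 n m hE hF F₁ hEss f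
  have hrI := hI0 hf0
  haveI := finite_fibD k X I hIm
  set gE := ParSh.gpDeg k X α E F₁ n with hgE
  set gF := ParSh.gpDeg k X α F F₁' m with hgF
  set gC := ParSh.gpDeg k X α (Abelian.image f)
    (ParSh.gpCoinduced k X I (Abelian.factorThruImage f) F₁) rI with hgC
  set gI := ParSh.gpDeg k X α (Abelian.image f)
    (ParSh.gpInduced k X I (Abelian.image.ι f) F₁') rI with hgI
  have hCI : gC ≤ gI := by
    have h1 : Module.finrank k (ParSh.gpCoinduced k X I (Abelian.factorThruImage f) F₁) ≤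
        Module.finrank k (ParSh.gpInduced k X I (Abelian.image.ι f) F₁') :=
      Submodule.finrank_mono (coinduced_le_induced k X I F₁ F₁' f hf)
    have h2 : ((Module.finrank k (ParSh.gpCoinduced k X I (Abelian.factorThruImage f) F₁) : ℕ) : ℝ) ≤
        ((Module.finrank k (ParSh.gpInduced k X I (Abelian.image.ι f) F₁') : ℕ) : ℝ) := by exact_mod_cast h1
    rw [hgC, hgI]
    unfold ParSh.gpDeg ParSh.gpWt
    nlinarith
  have hIF : gI * (m : ℝ) ≤ gF * (rI : ℝ) := hFss _ rI (Abelian.image.ι f) inferInstance hrI hIm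
  have hnR : (0 : ℝ) < (n : ℝ) := by exact_mod_cast hn
  have hmR : (0 : ℝ) < (m : ℝ) := by exact_mod_cast hm
  have hrIR : (0 : ℝ) < (rI : ℝ) := by exact_mod_cast hrI
  -- the chain of inequalities
  have chain1 : gC * (n : ℝ) * (m : ℝ) ≤ gE * (m : ℝ) * (rI : ℝ) := by
    calc gC * (n : ℝ) * (m : ℝ) ≤ gI * (n : ℝ) * (m : ℝ) := by
          apply mul_le_mul_of_nonneg_right _ hmR.le
          exact mul_le_mul_of_nonneg_right hCI hnR.le
      _ = (gI * (m : ℝ)) * (n : ℝ) := by ring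
      _ ≤ (gF * (rI : ℝ)) * (n : ℝ) := mul_le_mul_of_nonneg_right hIF hnR.le
      _ = (gF * (n : ℝ)) * (rI : ℝ) := by ring
      _ = gE * (m : ℝ) * (rI : ℝ) := by rw [← hμ]
  -- the kernel vanishes
  have hrK : rK = 0 := by
    by_contra h
    have hpos : 0 < rK := Nat.pos_of_ne_zero h
    have h1 := hAst hEst hpos hrI
    have h2 : gE * (rI : ℝ) * (m : ℝ) < gC * (n : ℝ) * (m : ℝ) := mul_lt_mul_of_pos_right h1 hmR
    nlinarith
  subst hrK
  have hrIn : rI = n := by omega
  subst hrIn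
  have hz := isZero_of_rank_zero hK
  haveI : Mono f := mono_of_isZero_kernel' X f hz
  -- the ranks agree
  have hrm : rI = m := by
    by_contra h
    have hlt : rI < m := lt_of_le_of_ne hIs h
    have h1 : gI * (m : ℝ) < gF * (rI : ℝ) := hFst _ rI (Abelian.image.ι f) inferInstance hrI hlt hIm
    have h2 : gC * (rI : ℝ) * (m : ℝ) < gE * (m : ℝ) * (rI : ℝ) := by
      calc gC * (rI : ℝ) * (m : ℝ) ≤ gI * (rI : ℝ) * (m : ℝ) := by
            apply mul_le_mul_of_nonneg_right _ hmR.le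
            exact mul_le_mul_of_nonneg_right hCI hnR.le
        _ = (gI * (m : ℝ)) * (rI : ℝ) := by ring
        _ < (gF * (rI : ℝ)) * (rI : ℝ) := mul_lt_mul_of_pos_right h1 hnR
        _ = gE * (m : ℝ) * (rI : ℝ) := by rw [← hμ]
    have h3 : gE * (rI : ℝ) * (m : ℝ) ≤ gC * (rI : ℝ) * (m : ℝ) := mul_le_mul_of_nonneg_right hA hmR.le
    nlinarith
  subst hrm
  obtain ⟨-, hiff⟩ := gpDeg_le_and_eq_iff k X hdim I hD α hα0 hα1 rI hE hF F₁ F₁' f hf
  apply hiff.1
  exact mul_right_cancel₀ hnR.ne' hμ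

end Groth.Agent.Lib.Helper4.GPStab
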