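import Groth.Agent.Lib.Helper4.GPStab
set_option autoImplicit false
set_option backward.isDefEq.respectTransparency.types false
set_option linter.style.haveILetI false

universe u
open CategoryTheory CategoryTheory.Limits AlgebraicGeometry

namespace Groth.Agent.Lib.Helper4.GPStab
open Groth.Agent.Lib.Helper8.CurveTensor Groth.Agent.Lib.Helper4.GPRank Groth.Agent.Lib.Helper8.EulerK
open Groth.Agent.Lib.Helper4.HilbPoly Groth.Agent.Lib.Helper4.CurveVB Groth.Agent.Lib.Helper4.GPKer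
open Groth.Agent.Lib.Helper4.GPExact Groth.Agent.Lib.Helper4.TFCurve

variable (k : Type u) [Field k] (X : Scheme.{u}) [X.Over (Spec (CommRingCat.of k))]
  [IsIntegral X] [IsProper (X ↘ Spec (CommRingCat.of k))] [Smooth (X ↘ Spec (CommRingCat.of k))]

omit [Smooth (X ↘ Spec (CommRingCat.of k))] in
/-- full-rank subsheaves: quantitative version -/
theorem full_rank_test' (hdim : topologicalKrullDim X ≤ 1)
    (I : X.IdealSheafData) (hI : genericPoint X ∉ CohB1.support (ClSub.quotMod I))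
    {E F : X.Modules} (n : ℕ) (hE : FlatMod.IsFinLocFreeOfRank n E) (hF : FlatMod.IsFinLocFreeOfRank n F)
    (i : F ⟶ E) [Mono i] (F₁ : Submodule k (ParSh.fibD X I E)) (β : ℝ) (hβ0 : 0 ≤ β) (hβ1 : β ≤ 1) :
    ParSh.gpDeg k X β F (ParSh.gpInduced k X I i F₁) n +
      (1 - β) * ((Curv2.deg k X E n : ℝ) - (Curv2.deg k X F n : ℝ)) ≤ ParSh.gpDeg k X β E F₁ n := by
  haveI : IsLocallyNoetherian X := isLocallyNoetherian k X
  haveI := finite_fibD k X I hE
  haveI := finite_fibD k X I hF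
  have hEc := isCoh_of_isFinLocFreeOfRank E hE
  have hFc := isCoh_of_isFinLocFreeOfRank F hF
  have hT := Groth.Agent.Lib.Helper6.DevCore.isCoh_cokernel i hFc hEc
  have hTgen := genericPoint_notMem_support_cokernel k X i hF hE
  have ht0 := euler_nonneg k X hdim _ hT hTgen
  have hdeg := deg_eq_add_euler_cokernel k X n hF hE i
  have hκ := finrank_ker_fibDMap_le k X hdim I hI n hF hE i
  obtain ⟨κ₁, hκ₁, ha⟩ := finrank_eq_map_add k (ParSh.fibDMap k X I i) (ParSh.gpInduced k X I i F₁)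
  have hm : Module.finrank k ((ParSh.gpInduced k X I i F₁).map (ParSh.fibDMap k X I i)) ≤ Module.finrank k F₁ :=
    Submodule.finrank_mono (Submodule.map_comap_le _ _)
  set t := Curv2.euler k X (cokernel i) with ht
  set a := Module.finrank k F₁ with ha_def
  set f' := Module.finrank k (ParSh.gpInduced k X I i F₁) with hf'_def
  set m := Module.finrank k ((ParSh.gpInduced k X I i F₁).map (ParSh.fibDMap k X I i)) with hm_def
  have hκ₁t : (κ₁ : ℤ) ≤ t := le_trans (by exact_mod_cast hκ₁) hκ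
  have hdegR : (Curv2.deg k X E n : ℝ) = (Curv2.deg k X F n : ℝ) + (t : ℝ) := by exact_mod_cast hdeg
  have haR : (f' : ℝ) = (m : ℝ) + (κ₁ : ℝ) := by exact_mod_cast ha
  have hmR : (m : ℝ) ≤ (a : ℝ) := by exact_mod_cast hm
  have hκR : (κ₁ : ℝ) ≤ (t : ℝ) := by exact_mod_cast hκ₁t
  have htR : (0 : ℝ) ≤ (t : ℝ) := by exact_mod_cast ht0
  have hkey : ParSh.gpDeg k X β E F₁ n - ParSh.gpDeg k X β F (ParSh.gpInduced k X I i F₁) n =
      (1 - β) * (t : ℝ) + β * ((t : ℝ) - κ₁) + β * ((a : ℝ) - m) := by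
    unfold ParSh.gpDeg ParSh.gpWt
    rw [hdegR, ← hf'_def, haR]
    ring
  have h2 : 0 ≤ β * ((t : ℝ) - κ₁) := mul_nonneg hβ0 (by linarith)
  have h3 : 0 ≤ β * ((a : ℝ) - m) := mul_nonneg hβ0 (by linarith)
  rw [hdegR]
  have : (Curv2.deg k X F n : ℝ) + (t : ℝ) - (Curv2.deg k X F n : ℝ) = (t : ℝ) := by ring
  rw [this]
  linarith

/-- the preimage in a bundle `F` of a coherent submodule `G` of a quotient `F/A`, with the inclusion of `A` -/
theorem preimage_locFree' (hdim : topologicalKrullDim X = 1) (S : ShortComplex X.Modules) (hS : S.ShortExact)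
    {rA s : ℕ} (hA : FlatMod.IsFinLocFreeOfRank rA S.X₁) (hF : FlatMod.IsFinLocFreeOfRank s S.X₂)
    {G : X.Modules} (j : G ⟶ S.X₃) (hj : Mono j) (hG : Coh.IsCoh G) :
    ∃ (G' : X.Modules) (p₁ : G' ⟶ S.X₂) (u : S.X₁ ⟶ G'), Mono p₁ ∧ Mono u ∧ u ≫ p₁ = S.f ∧
      FlatMod.IsFinLocFreeOfRank (rA + grank X G) G' ∧
      Curv2.deg k X G' (rA + grank X G) = Curv2.deg k X S.X₁ rA + Curv2.deg k X G (grank X G) := by
  haveI := hj
  haveI : IsLocallyNoetherian X := isLocallyNoetherian k X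
  obtain ⟨G', p₁, a, p₂, w, hp₁, hap, -, hS'⟩ := preimage_shortExact S.f S.g S.zero hS j
  haveI := hp₁
  have hAc := isCoh_of_isFinLocFreeOfRank _ hA
  have hG'c : Coh.IsCoh G' := isCoh_of_shortExact _ hS' hAc hG
  have hloc := isFinLocFreeOfRank_of_mono (X ↘ Spec (CommRingCat.of k)) hdim p₁ hG'c hF
  have hg := grank_add X _ hS' hAc hG'c hG
  dsimp only at hg
  rw [grank_of_isFinLocFreeOfRank _ hA] at hg
  rw [hg] at hloc
  refine ⟨G', p₁, a, hp₁, hS'.mono_f, hap, hloc, ?_⟩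
  exact deg_add k X _ hS' hAc hG'c hG rA (grank X G)



/-- the preimage in `F` of a torsion submodule of `coker f` -/
theorem preimage_image (hdim : topologicalKrullDim X = 1) {E F : X.Modules} (f : E ⟶ F)
    {rI s : ℕ} (hIm : FlatMod.IsFinLocFreeOfRank rI (Abelian.image f)) (hF : FlatMod.IsFinLocFreeOfRank s F)
    {G : X.Modules} (j : G ⟶ cokernel f) (hj : Mono j) (hG : Coh.IsCoh G) :
    ∃ (J : X.Modules) (p₁ : J ⟶ F) (u : Abelian.image f ⟶ J), Mono p₁ ∧ Mono u ∧ u ≫ p₁ = Abelian.image.ι f ∧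
      FlatMod.IsFinLocFreeOfRank (rI + grank X G) J ∧
      Curv2.deg k X J (rI + grank X G) = Curv2.deg k X (Abelian.image f) rI + Curv2.deg k X G (grank X G) :=
  preimage_locFree' k X hdim _ (Groth.Agent.Lib.Helper6.DevStep.sc2_shortExact f) hIm hF j hj hG

omit [IsIntegral X] [IsProper (X ↘ Spec (CommRingCat.of k))] [Smooth (X ↘ Spec (CommRingCat.of k))] in
theorem gpInduced_comp (I : X.IdealSheafData) {A B C : X.Modules} (u : A ⟶ B) (p : B ⟶ C)
    (F₁ : Submodule k (ParSh.fibD X I C)) :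
    ParSh.gpInduced k X I u (ParSh.gpInduced k X I p F₁) = ParSh.gpInduced k X I (u ≫ p) F₁ := by
  unfold ParSh.gpInduced
  ext v
  rw [Submodule.mem_comap, Submodule.mem_comap, Submodule.mem_comap, fibDMap_comp]

/-- **S18565** -/
theorem exists_cokernel_finLocFree (hdim : topologicalKrullDim X = 1)
    (I : X.IdealSheafData) (hD : FGA.IsEffCartier I) (α : ℝ) (hα0 : 0 ≤ α) (hα1 : α < 1)
    {E F : X.Modules} (n m : ℕ) (hn : 0 < n) (hm : 0 < m)
    (hE : FlatMod.IsFinLocFreeOfRank n E) (hF : FlatMod.IsFinLocFreeOfRank m F)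
    (F₁ : Submodule k (ParSh.fibD X I E)) (F₁' : Submodule k (ParSh.fibD X I F))
    (hEss : ParSh.IsGPSemistable k X I α F₁ n) (hFss : ParSh.IsGPSemistable k X I α F₁' m)
    (hμ : ParSh.gpDeg k X α E F₁ n * (m : ℝ) = ParSh.gpDeg k X α F F₁' m * (n : ℝ))
    (f : E ⟶ F) (hf : ParSh.IsGPHom k X I F₁ F₁' f) :
    ∃ r₀ : ℕ, FlatMod.IsFinLocFreeOfRank r₀ (cokernel f) := by
  haveI : IsLocallyNoetherian X := isLocallyNoetherian k X
  haveI : CompactSpace X := QuasiCompact.compactSpace_of_compactSpace (X ↘ Spec (CommRingCat.of k))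
  haveI : IsNoetherian X := { }
  have hI := genericPoint_notMem_support_quotMod I hD
  have hEc := isCoh_of_isFinLocFreeOfRank E hE
  have hFc := isCoh_of_isFinLocFreeOfRank F hF
  obtain ⟨rK, rI, hK, hIm, hr', hIs, hI0, hK0, hA, -⟩ :=
    image_gpDeg_ge k X hdim I hD α hα0 n m hE hF F₁ hEss f
  haveI := finite_fibD k X I hIm
  have hSc := Groth.Agent.Lib.Helper6.DevStep.sc2_shortExact f
  have hCc : Coh.IsCoh (cokernel f) := Groth.Agent.Lib.Helper6.DevCore.isCoh_cokernel f hEc hFc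
  refine ⟨grank X (cokernel f), isFinLocFreeOfRank_of_pure (X ↘ Spec (CommRingCat.of k)) hdim _ hCc ?_⟩
  intro S j hj hS hgen
  obtain ⟨J, p₁, u, hp₁, hu, hup, hloc, hdegJ⟩ := preimage_image k X hdim f hIm hF j hj hS
  haveI := hp₁
  haveI := hu
  rw [grank_eq_zero X S hgen, add_zero] at hloc hdegJ
  rw [deg_zero_rank] at hdegJ
  apply isZero_of_euler_nonpos k X hdim.le S hS hgen
  rcases Nat.eq_zero_or_pos rI with h0 | hpos
  · subst h0
    have hz := isZero_of_rank_zero hloc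
    have hzI := isZero_of_rank_zero hIm
    have h1 : Curv2.deg k X J 0 = 0 := deg_of_isZero k X hz
    have h2 : Curv2.deg k X (Abelian.image f) 0 = 0 := deg_of_isZero k X hzI
    rw [h1, h2] at hdegJ
    linarith
  · set gE := ParSh.gpDeg k X α E F₁ n with hgE
    set gF := ParSh.gpDeg k X α F F₁' m with hgF
    set gC := ParSh.gpDeg k X α (Abelian.image f)
      (ParSh.gpCoinduced k X I (Abelian.factorThruImage f) F₁) rI with hgC
    set gI := ParSh.gpDeg k X α (Abelian.image f)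
      (ParSh.gpInduced k X I (Abelian.image.ι f) F₁') rI with hgI
    set gJ := ParSh.gpDeg k X α J (ParSh.gpInduced k X I p₁ F₁') rI with hgJ
    have hCI : gC ≤ gI := by
      have h1 : Module.finrank k (ParSh.gpCoinduced k X I (Abelian.factorThruImage f) F₁) ≤
          Module.finrank k (ParSh.gpInduced k X I (Abelian.image.ι f) F₁') :=
        Submodule.finrank_mono (coinduced_le_induced k X I F₁ F₁' f hf)
      have h2 : ((Module.finrank k (ParSh.gpCoinduced k X I (Abelian.factorThruImage f) F₁) : ℕ) : ℝ) ≤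
          ((Module.finrank k (ParSh.gpInduced k X I (Abelian.image.ι f) F₁') : ℕ) : ℝ) := by exact_mod_cast h1
      rw [hgC, hgI]
      unfold ParSh.gpDeg ParSh.gpWt
      nlinarith
    have hJF : gJ * (m : ℝ) ≤ gF * (rI : ℝ) := hFss _ rI p₁ hp₁ hpos hloc
    have hIJ := full_rank_test' k X hdim.le I hI rI hloc hIm u (ParSh.gpInduced k X I p₁ F₁') α hα0 hα1.le
    rw [gpInduced_comp, hup] at hIJ
    have hχ : (Curv2.deg k X J rI : ℝ) - (Curv2.deg k X (Abelian.image f) rI : ℝ) = (Curv2.euler k X S : ℝ) := by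
      rw [hdegJ]; push_cast; ring
    rw [hχ] at hIJ
    change gI + (1 - α) * (Curv2.euler k X S : ℝ) ≤ gJ at hIJ
    have hnR : (0 : ℝ) < (n : ℝ) := by exact_mod_cast hn
    have hmR : (0 : ℝ) < (m : ℝ) := by exact_mod_cast hm
    by_contra hcon
    rw [not_le] at hcon
    have hχpos : (0 : ℝ) < (Curv2.euler k X S : ℝ) := by exact_mod_cast hcon
    have hα' : 0 < 1 - α := by linarith
    have hδ : 0 < (1 - α) * (Curv2.euler k X S : ℝ) := mul_pos hα' hχpos
    -- chain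
    have c1 : gE * (rI : ℝ) * (m : ℝ) ≤ gC * (n : ℝ) * (m : ℝ) := mul_le_mul_of_nonneg_right hA hmR.le
    have c2 : gC * (n : ℝ) * (m : ℝ) ≤ gI * (n : ℝ) * (m : ℝ) :=
      mul_le_mul_of_nonneg_right (mul_le_mul_of_nonneg_right hCI hnR.le) hmR.le
    have c3 : (gI + (1 - α) * (Curv2.euler k X S : ℝ)) * (m : ℝ) * (n : ℝ) ≤ gF * (rI : ℝ) * (n : ℝ) :=
      mul_le_mul_of_nonneg_right ((mul_le_mul_of_nonneg_right hIJ hmR.le).trans hJF) hnR.le
    have c4 : gF * (rI : ℝ) * (n : ℝ) = gE * (rI : ℝ) * (m : ℝ) := by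
      calc gF * (rI : ℝ) * (n : ℝ) = (gF * (n : ℝ)) * (rI : ℝ) := by ring
        _ = (gE * (m : ℝ)) * (rI : ℝ) := by rw [hμ]
        _ = gE * (rI : ℝ) * (m : ℝ) := by ring
    have c5 : 0 < (1 - α) * (Curv2.euler k X S : ℝ) * (m : ℝ) * (n : ℝ) := by positivity
    nlinarith

end Groth.Agent.Lib.Helper4.GPStab
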