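import Groth.Agent.Lib.Helper4.RS3
import Groth.Agent.Lib.Helper4.GPEnd
import Groth.Agent.Lib.Helper8.CurveRR
import Groth.Agent.Lib.Helper8.KillF
set_option autoImplicit false
set_option backward.isDefEq.respectTransparency.types false
set_option linter.unusedSectionVars false
set_option linter.style.haveILetI false

universe u
open CategoryTheory CategoryTheory.Limits AlgebraicGeometry Opposite TopologicalSpace MonoidalCategory

noncomputable section
namespace Groth.Agent.Lib.Helper4.GZ1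
open Groth.Agent.Lib.Helper28 Groth.Agent.Lib.Helper28.QCohLoc Groth.Agent.Lib.Helper28.GenLocus
  Groth.Agent.Lib.Helper28.TensorGen Groth.Agent.Lib.Helper4.CM1
  Groth.Agent.Lib.Helper8.KillA Groth.Agent.Lib.Helper2.HomExt

section lin

variable (k : Type u) [Field k] (X : Scheme.{u}) [X.Over (Spec (CommRingCat.of k))]

/-- the identification `H⁰(X, M) ≃ Γ(X, M)` is `k`-linear -/
theorem equiv₀_smul (M : X.Modules) (c : k) (v : Coh.HH X M 0) :
    Sheaf.H.equiv₀ (Coh.toAb M) Limits.isTerminalTop (c • v) =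
      ((show Γ(X, ⊤) from Coh.toGlobal (X ↘ Spec (CommRingCat.of k)) c) •
        (show Γ(M, ⊤) from Sheaf.H.equiv₀ (Coh.toAb M) Limits.isTerminalTop v) : Γ(M, ⊤)) := by
  rw [← Groth.Agent.Lib.Helper4.GPEnd.HHlin_smulHom k X M c 0 v]
  have h := Sheaf.H.equiv₀_naturality (Limits.isTerminalTop (α := Opens X))
    ((SheafOfModules.toSheaf X.ringCatSheaf).map
      (smulHom M (Coh.toGlobal (X ↘ Spec (CommRingCat.of k)) c))) v
  refine h.symm.trans ?_
  have h2 := smulHom_app M (Coh.toGlobal (X ↘ Spec (CommRingCat.of k)) c) ⊤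
    (show Γ(M, ⊤) from Sheaf.H.equiv₀ (Coh.toAb M) Limits.isTerminalTop v)
  rw [show gOn (Coh.toGlobal (X ↘ Spec (CommRingCat.of k)) c) ⊤ =
    Coh.toGlobal (X ↘ Spec (CommRingCat.of k)) c from Groth.Agent.Lib.Helper28.HomMod.resO_self _] at h2
  exact h2

/-- a basis of `H⁰(X, L)` as a family of sections through which every section is a `k`-combination -/
theorem exists_sections_of_finrank (L : X.Modules) [Module.Finite k (Coh.HH X L 0)] (N : ℕ)
    (h : Module.finrank k (Coh.HH X L 0) = N + 1) :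
    ∃ s : Fin (N + 1) → (Coh.structureModule X ⟶ L), ∀ τ : Coh.structureModule X ⟶ L,
      ∃ c : Fin (N + 1) → k, secOf τ =
        ∑ j, ((show Γ(X, ⊤) from Coh.toGlobal (X ↘ Spec (CommRingCat.of k)) (c j)) • secOf (s j) : Γ(L, ⊤)) := by
  let b : Module.Basis (Fin (N + 1)) k (Coh.HH X L 0) := Module.finBasisOfFinrankEq k _ h
  choose s hs using fun j => exists_hom_of_H0 L (b j)
  refine ⟨s, fun τ => ⟨fun j => b.repr (HHmap τ 0 (unitH X)) j, ?_⟩⟩
  let e := Sheaf.H.equiv₀ (Coh.toAb L) Limits.isTerminalTop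
  have he : ∀ φ : Coh.structureModule X ⟶ L, e (HHmap φ 0 (unitH X)) = secOf φ := fun φ => HHmap_unitH φ
  have h1 : HHmap τ 0 (unitH X) = ∑ j, b.repr (HHmap τ 0 (unitH X)) j • b j := (b.sum_repr _).symm
  have h2 := congrArg e h1
  rw [he, map_sum] at h2
  rw [h2]
  refine Finset.sum_congr rfl fun j _ => ?_
  rw [← hs j]
  refine (equiv₀_smul k X L _ _).trans ?_
  rw [← he (s j)]

end lin

section cover

open Groth.Agent.Lib.Helper4.VA4

variable {X : Scheme.{u}}

open Classical in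
/-- a combination of sections generates at `x` only if one of them does -/
theorem exists_mem_genLocus_of_sum {L : X.Modules} (hL : PicF.IsInvertible L) {ι : Type*} (T : Finset ι)
    (γ : ι → Γ(X, ⊤)) (y : ι → Γ(L, ⊤)) (x : X)
    (hx : x ∈ CohB1.genLocus L (TwistGen.ofSection L (∑ j ∈ T, (γ j • y j : Γ(L, ⊤))))) :
    ∃ j ∈ T, x ∈ CohB1.genLocus L (TwistGen.ofSection L (y j)) := by
  induction T using Finset.induction_on with
  | empty =>
    rw [Finset.sum_empty, ofSection_zero, genLocus_zero hL] at hx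
    exact absurd hx (by simp)
  | insert a T ha ih =>
    rw [Finset.sum_insert ha, ofSection_add] at hx
    rcases genLocus_add_le hL _ _ hx with h | h
    · exact ⟨a, Finset.mem_insert_self _ _, genLocus_smul_le hL _ _ h⟩
    · obtain ⟨j, hj, hxj⟩ := ih h
      exact ⟨j, Finset.mem_insert_of_mem hj, hxj⟩

/-- if every section is a combination of the `s j`, the loci of the `s j` cover wherever some section generates -/
theorem exists_mem_genLocus_of_span {L : X.Modules} (hL : PicF.IsInvertible L) {N : ℕ}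
    (s : Fin (N + 1) → (Coh.structureModule X ⟶ L))
    (hspan : ∀ τ : Coh.structureModule X ⟶ L, ∃ γ : Fin (N + 1) → Γ(X, ⊤),
      secOf τ = ∑ j, (γ j • secOf (s j) : Γ(L, ⊤)))
    (x : X) (hx : ∃ τ : Coh.structureModule X ⟶ L, x ∈ CohB1.genLocus L τ) :
    ∃ j, x ∈ CohB1.genLocus L (s j) := by
  obtain ⟨τ, hτ⟩ := hx
  obtain ⟨γ, hγ⟩ := hspan τ
  rw [← ofSection_secOf τ, hγ] at hτ
  obtain ⟨j, -, hj⟩ := exists_mem_genLocus_of_sum hL Finset.univ γ (fun j => secOf (s j)) x hτ
  rw [ofSection_secOf] at hj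
  exact ⟨j, hj⟩

end cover

section closure

open Groth.Agent.Lib.Helper4.VA2 Groth.Agent.Lib.Helper4.VA3

variable {X Y : Scheme.{u}}

theorem appLE_top_eq (q : X ⟶ Y) (U : X.Opens) (c : Γ(Y, ⊤)) :
    (q.appLE ⊤ U le_top).hom c = resO (le_top : U ≤ ⊤) (q.appTop.hom c) := rfl

open Classical in
/-- **the ratios of a spanning family of sections already generate** -/
theorem mem_closure_of_span (q : X ⟶ Y) {L : X.Modules} {N : ℕ}
    (s : Fin (N + 1) → (Coh.structureModule X ⟶ L))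
    (hspan : ∀ τ : Coh.structureModule X ⟶ L, ∃ c : Fin (N + 1) → Γ(Y, ⊤),
      secOf τ = ∑ j, ((q.appTop.hom (c j)) • secOf (s j) : Γ(L, ⊤)))
    (a : Fin (N + 1)) (z : Γ(X, CohB1.genLocus L (s a))) (hz : z ∈ C q (s a)) :
    z ∈ Subring.closure ({c | ∃ k, res L (le_top : CohB1.genLocus L (s a) ≤ ⊤) (secOf (s k)) =
          (c • res L (le_top : CohB1.genLocus L (s a) ≤ ⊤) (secOf (s a)) : Γ(L, CohB1.genLocus L (s a)))} ∪
        Set.range (q.appLE ⊤ (CohB1.genLocus L (s a)) le_top)) := by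
  set A : Set Γ(X, CohB1.genLocus L (s a)) :=
    {c | ∃ k, res L (le_top : CohB1.genLocus L (s a) ≤ ⊤) (secOf (s k)) =
          (c • res L (le_top : CohB1.genLocus L (s a) ≤ ⊤) (secOf (s a)) : Γ(L, CohB1.genLocus L (s a)))} ∪
        Set.range (q.appLE ⊤ (CohB1.genLocus L (s a)) le_top) with hA
  have hg := hgσ (s a)
  -- the basic ratios
  have hbasic : ∀ j, hg.coef le_rfl (res L (le_top : CohB1.genLocus L (s a) ≤ ⊤) (secOf (s j))) ∈
      Subring.closure A := by
    intro j
    refine Subring.subset_closure (Or.inl ⟨j, ?_⟩)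
    have := hg.coef_smul le_rfl (res L (le_top : CohB1.genLocus L (s a) ≤ ⊤) (secOf (s j)))
    rw [res_self] at this
    exact this.symm
  -- combinations
  have hsum : ∀ (T : Finset (Fin (N + 1))) (c : Fin (N + 1) → Γ(Y, ⊤)),
      hg.coef le_rfl (res L (le_top : CohB1.genLocus L (s a) ≤ ⊤)
        (∑ j ∈ T, ((q.appTop.hom (c j)) • secOf (s j) : Γ(L, ⊤)))) ∈ Subring.closure A := by
    intro T c
    induction T using Finset.induction_on with
    | empty =>
      rw [Finset.sum_empty, res_zero]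
      have h0 : hg.coef le_rfl (0 : Γ(L, CohB1.genLocus L (s a))) = 0 := hg.coef_eq _ _ _ (zero_smul _ _)
      rw [h0]
      exact Subring.zero_mem _
    | insert b T hb ih =>
      rw [Finset.sum_insert hb, res_add, hg.coef_add, res_smul, hg.coef_smul_left]
      refine Subring.add_mem _ (Subring.mul_mem _ ?_ (hbasic b)) ih
      exact Subring.subset_closure (Or.inr ⟨c b, appLE_top_eq q _ _⟩)
  refine Subring.closure_le.2 ?_ hz
  rintro c (⟨τ, hτ⟩ | hc)
  · obtain ⟨γ, hγ⟩ := hspan τ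
    have h1 : hg.coef le_rfl (res L (le_top : CohB1.genLocus L (s a) ≤ ⊤) (secOf τ)) = c := by
      apply hg.coef_eq
      rw [res_self]
      exact hτ.symm
    rw [← h1, hγ]
    exact hsum Finset.univ γ
  · exact Subring.subset_closure (Or.inr hc)

end closure

section main

open Groth.Agent.Lib.Helper4.VA2 Groth.Agent.Lib.Helper4.VA3 Groth.Agent.Lib.Helper4.Bridge

variable {X Y : Scheme.{u}}

/-- **closed immersion into `P^N` defined by a family of sections spanning all sections over the base** -/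
theorem exists_closedImm_of_span [IsAffine Y] (q : X ⟶ Y) [IsProper q] {L : X.Modules}
    (hL : CohB1.IsAmple L) (hgg : ∀ x : X, ∃ τ : Coh.structureModule X ⟶ L, x ∈ CohB1.genLocus L τ)
    (hng : ∀ n : ℕ, 1 ≤ n → ∀ t : Γ(CohB1.tensorMod (CohB1.tensorPow L n) L, ⊤),
      t ∈ Submodule.span Γ(X, ⊤) (Set.range fun p : Γ(CohB1.tensorPow L n, ⊤) × Γ(L, ⊤) =>
        tmulSec (CohB1.tensorPow L n) L p.1 p.2))
    (N : ℕ) (s : Fin (N + 1) → (Coh.structureModule X ⟶ L))
    (hspan : ∀ τ : Coh.structureModule X ⟶ L, ∃ c : Fin (N + 1) → Γ(Y, ⊤),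
      secOf τ = ∑ j, ((q.appTop.hom (c j)) • secOf (s j) : Γ(L, ⊤))) :
    ∃ i : X ⟶ CohB1.ProjSpaceOver N Y, IsClosedImmersion i ∧
      i ≫ pullback.snd (CohB1.ProjSpace.toSpec N (ULift.{u} ℤ)) (specULiftZIsTerminal.from Y) = q ∧
      Nonempty (L ≅ (Scheme.Modules.pullback i).obj (Twist.twistOver N Y 1)) := by
  haveI : CompactSpace X := hL.2.1
  haveI : QuasiSeparatedSpace X := quasiSeparatedSpace_of_quasiSeparated q
  refine exists_closedImm_of_sections q hL N s Set.univ (fun x => ?_) (fun a _ z => ?_)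
  · obtain ⟨j, hj⟩ := exists_mem_genLocus_of_span hL.1 s (fun τ => by
      obtain ⟨c, hc⟩ := hspan τ
      exact ⟨fun j => q.appTop.hom (c j), hc⟩) x (hgg x)
    exact ⟨j, Set.mem_univ _, hj⟩
  · exact mem_closure_of_span q s hspan a z (mem_C q (s a) hL.1 hng z)

/-- transport a closed immersion into `P^N_{Spec B}` to `Proj B[T₀..T_N]`, keeping `N` -/
theorem exists_projSpace_fixed (B : Type u) [CommRing B] (q : X ⟶ Spec (CommRingCat.of B)) (M : X.Modules)
    (N : ℕ)
    (h : ∃ (i : X ⟶ CohB1.ProjSpaceOver N (Spec (CommRingCat.of B))), IsClosedImmersion i ∧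
      i ≫ pullback.snd (CohB1.ProjSpace.toSpec N (ULift.{u} ℤ))
        (specULiftZIsTerminal.from (Spec (CommRingCat.of B))) = q ∧
      Nonempty (M ≅ (Scheme.Modules.pullback i).obj (Twist.twistOver N (Spec (CommRingCat.of B)) 1))) :
    ∃ (i : X ⟶ CohB1.ProjSpace N B), IsClosedImmersion i ∧ i ≫ CohB1.ProjSpace.toSpec N B = q ∧
      Nonempty ((Scheme.Modules.pullback i).obj (Twist.twistProjSpace N B 1) ≅ M) := by
  obtain ⟨i, hi, hq, ⟨φ⟩⟩ := h
  obtain ⟨e, he, ⟨ψ⟩⟩ := Groth.Agent.Lib.Helper6.PnBridge.exists_iso N B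
  refine ⟨i ≫ e.hom, inferInstance, ?_, ⟨?_⟩⟩
  · rw [Category.assoc, he]; exact hq
  · exact (Scheme.Modules.pullbackComp i e.hom).symm.app _ ≪≫
      (Scheme.Modules.pullback i).mapIso ψ ≪≫ φ.symm

end main

end Groth.Agent.Lib.Helper4.GZ1
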