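import Groth.Agent.Lib.Helper4.GZ1
set_option autoImplicit false
set_option backward.isDefEq.respectTransparency.types false
set_option linter.unusedSectionVars false
set_option linter.style.haveILetI false

universe u
open CategoryTheory CategoryTheory.Limits AlgebraicGeometry Opposite TopologicalSpace MonoidalCategory

noncomputable section
namespace Groth.Agent.Lib.Helper4.GZ2
open Groth.Agent.Lib.Helper28 Groth.Agent.Lib.Helper28.QCohLoc Groth.Agent.Lib.Helper28.GenLocus
  Groth.Agent.Lib.Helper28.TensorGen Groth.Agent.Lib.Helper4.CM1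
  Groth.Agent.Lib.Helper8.KillA Groth.Agent.Lib.Helper2.HomExt Groth.Agent.Lib.Helper4.GZ1

/-- **a proper integral curve of genus zero with `h⁰(O) = 1` is embedded in `P^d` by any invertible module of
degree `d > 0`** -/
theorem closedImm_of_genus_zero (k : Type u) [Field k] (X : Scheme.{u}) [X.Over (Spec (CommRingCat.of k))]
    [IsIntegral X] [IsProper (X ↘ (Spec (CommRingCat.of k)))] (hdim : topologicalKrullDim X = 1)
    (h0 : Module.finrank k (Coh.HH X (Coh.structureModule X) 0) = 1) (hg : Curv2.genus k X = 0)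
    (L : X.Modules) (hL : PicF.IsInvertible L) (d : ℕ) (hd : 0 < d) (hdeg : Curv2.deg k X L 1 = d) :
    ∃ i : X ⟶ CohB1.ProjSpace d k, IsClosedImmersion i ∧
      i ≫ CohB1.ProjSpace.toSpec d k = X ↘ (Spec (CommRingCat.of k)) ∧
      Nonempty ((Scheme.Modules.pullback i).obj (Twist.twistProjSpace d k 1) ≅ L) := by
  haveI : IsNoetherian X := Groth.Agent.Lib.Helper4.Snapper.isNoetherian_of_proper k
  obtain ⟨hh0, hH1⟩ := Groth.Agent.Lib.Helper8.CurveRR.h0_h1_of_genus_zero k X hdim h0 hg L hL d hd hdeg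
  have hample : CohB1.IsAmple L := Groth.Agent.Lib.Helper8.KillF.isAmple_of_deg_pos k X hdim.le hL (by
    rw [hdeg]; exact_mod_cast hd)
  have hO := Groth.Agent.Lib.Helper28.AmpleUnit.isInvertible_structureModule X
  have hcO := Groth.Agent.Lib.Helper6.K0Op.isCoh_of_isInvertible _ hO
  have hcL := Groth.Agent.Lib.Helper6.K0Op.isCoh_of_isInvertible _ hL
  haveI := Groth.Agent.Lib.Helper8.EulerK.finite_HH k X (Coh.structureModule X) hcO 1
  haveI := Groth.Agent.Lib.Helper8.EulerK.finite_HH k X L hcL 0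
  have hO1 : Subsingleton (Coh.HH X (Coh.structureModule X) 1) :=
    Groth.Agent.Lib.Helper8.CurveRR.subsingleton_of_finrank_eq_zero k hg
  -- a regular section
  have hnt : Nontrivial (Coh.HH X L 0) := Module.finrank_pos_iff.1 (by rw [hh0]; omega)
  obtain ⟨s, hs⟩ := Groth.Agent.Lib.Helper8.CurveRR.exists_section_ne_zero L hnt
  haveI : Mono s := Groth.Agent.Lib.Helper8.CurveInv.mono_of_ne_zero hO hL s hs
  -- global generation
  have hggpt : ∀ x : X, ∃ τ : Coh.structureModule X ⟶ L, x ∈ CohB1.genLocus L τ := by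
    intro x
    by_cases hx : x ∈ CohB1.genLocus L s
    · exact ⟨s, hx⟩
    · obtain ⟨T, hT⟩ := Groth.Agent.Lib.Helper4.RS2.exists_mem_genLocus_of_notMem hdim.le hL s
        (Coh.structureModule X) hcO hO1 (isInvertible_tensorMod hO hL) x hx
      refine ⟨T ≫ (Groth.Agent.Lib.Helper4.VA2.unitorL L).hom, ?_⟩
      rw [Groth.Agent.Lib.Helper28.AmpleUnit.genLocus_comp_iso]
      exact hT
  have hgg : Curv2.IsGloballyGenerated L :=
    Groth.Agent.Lib.Helper4.RS2.isGloballyGenerated_of_forall_mem_genLocus hggpt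
  -- normal generation
  have hng : ∀ n : ℕ, 1 ≤ n → ∀ t : Γ(CohB1.tensorMod (CohB1.tensorPow L n) L, ⊤),
      t ∈ Submodule.span Γ(X, ⊤) (Set.range fun p : Γ(CohB1.tensorPow L n, ⊤) × Γ(L, ⊤) =>
        tmulSec (CohB1.tensorPow L n) L p.1 p.2) := fun n hn t =>
    Groth.Agent.Lib.Helper4.VA6.mem_span_of_eq_top n
      (Groth.Agent.Lib.Helper4.CM3.span_tmul_tensorPow hdim.le hL hgg 0 hO1 n hn) t
  -- a basis of sections
  obtain ⟨s', hs'⟩ := exists_sections_of_finrank k X L d hh0
  refine exists_projSpace_fixed k (X ↘ (Spec (CommRingCat.of k))) L d ?_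
  refine exists_closedImm_of_span (X ↘ (Spec (CommRingCat.of k))) hample hggpt hng d s' (fun τ => ?_)
  obtain ⟨c, hc⟩ := hs' τ
  exact ⟨fun j => (Scheme.ΓSpecIso (CommRingCat.of k)).inv.hom (c j), hc⟩

end Groth.Agent.Lib.Helper4.GZ2
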