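import Mathlib.NumberTheory.LSeries.PrimesInAP
import Mathlib.NumberTheory.Multiplicity
import Mathlib.RingTheory.ZMod.UnitsCyclic
import Mathlib.NumberTheory.Basic
import Mathlib.Data.Nat.Factorization.Basic
import Mathlib.Tactic

open Finset

namespace Groth.Agent.Lib.Helper4.GcdSp

/-- the product -/
def PP (g ℓ : ℕ) : ℕ := ∏ a ∈ Icc 1 g, (ℓ ^ (2 * a) - 1)

lemma one_lt_pow' {ℓ : ℕ} (hℓ : 2 ≤ ℓ) {k : ℕ} (hk : k ≠ 0) : 1 < ℓ ^ k :=
  Nat.one_lt_pow hk (by omega)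

lemma factor_ne_zero {g ℓ : ℕ} (hℓ : 2 ≤ ℓ) {a : ℕ} (ha : a ∈ Icc 1 g) : ℓ ^ (2 * a) - 1 ≠ 0 := by
  have := one_lt_pow' hℓ (k := 2 * a) (by simp at ha; omega)
  omega

lemma PP_ne_zero {g ℓ : ℕ} (hℓ : 2 ≤ ℓ) : PP g ℓ ≠ 0 := by
  rw [PP, Finset.prod_ne_zero_iff]
  intro a ha
  exact factor_ne_zero hℓ ha

lemma fact_PP {g ℓ p : ℕ} (hℓ : 2 ≤ ℓ) :
    (PP g ℓ).factorization p = ∑ a ∈ Icc 1 g, (ℓ ^ (2 * a) - 1).factorization p := by
  rw [PP, Nat.factorization_prod (fun a ha => factor_ne_zero hℓ ha)]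
  simp

lemma fact_factorial (g p : ℕ) : (g.factorial).factorization p = ∑ a ∈ Icc 1 g, a.factorization p := by
  have e : Icc 1 g = Ico 1 (g + 1) := by ext; simp
  rw [e, ← Finset.prod_Ico_id_eq_factorial, Nat.factorization_prod]
  · simp
  · intro a ha; simp at ha; omega

/-- 2-adic part -/
lemma two_term {ℓ a : ℕ} (hℓ : 2 ≤ ℓ) (hodd : ¬ 2 ∣ ℓ) (ha : a ≠ 0) :
    (ℓ ^ (2 * a) - 1).factorization 2 = (ℓ + 1).factorization 2 + (ℓ - 1).factorization 2
      + a.factorization 2 := by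
  have h := padicValNat.pow_two_sub_one (x := ℓ) (n := 2 * a) (by omega) hodd (by omega) (by simp)
  have h2 : padicValNat 2 (2 * a) = 1 + padicValNat 2 a := by
    rw [padicValNat.mul (by norm_num) ha]; simp
  simp only [Nat.factorization_def _ Nat.prime_two]
  omega

lemma two_sum {g ℓ : ℕ} (hℓ : 2 ≤ ℓ) (hodd : ¬ 2 ∣ ℓ) :
    (PP g ℓ).factorization 2 = g * ((ℓ + 1).factorization 2 + (ℓ - 1).factorization 2)
      + (g.factorial).factorization 2 := by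
  rw [fact_PP hℓ, fact_factorial, Finset.sum_congr rfl (fun a ha => two_term hℓ hodd (a := a)
    (by simp at ha; omega)), Finset.sum_add_distrib]
  simp

lemma two_c_ge {ℓ : ℕ} (hℓ : 2 ≤ ℓ) (hodd : ¬ 2 ∣ ℓ) :
    3 ≤ (ℓ + 1).factorization 2 + (ℓ - 1).factorization 2 := by
  have h1 : ℓ + 1 ≠ 0 := by omega
  have h2 : ℓ - 1 ≠ 0 := by omega
  rw [← Finsupp.add_apply, ← Nat.factorization_mul h1 h2]
  have h8 : 2 ^ 3 ∣ (ℓ + 1) * (ℓ - 1) := by
    have := Nat.eight_dvd_sq_sub_one_of_odd (k := ℓ) (Nat.odd_iff.mpr (by omega))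
    have e : (ℓ + 1) * (ℓ - 1) = ℓ ^ 2 - 1 := by
      zify [show 1 ≤ ℓ by omega, show 1 ≤ ℓ ^ 2 from Nat.one_le_pow _ _ (by omega)]
      ring
    rw [e]; exact this
  exact (Nat.Prime.pow_dvd_iff_le_factorization Nat.prime_two (mul_ne_zero h1 h2)).mp h8

lemma two_c_eq {ℓ : ℕ} (h8 : ℓ % 8 = 3) :
    (ℓ + 1).factorization 2 + (ℓ - 1).factorization 2 = 3 := by
  have e1 : (ℓ + 1).factorization 2 = 2 := by
    obtain ⟨k, hk⟩ : ∃ k, ℓ + 1 = 2 ^ 2 * (2 * k + 1) := ⟨ℓ / 8, by omega⟩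
    rw [hk, Nat.factorization_mul (by norm_num) (by omega), Finsupp.add_apply,
      Nat.Prime.factorization_pow Nat.prime_two]
    simp
    rw [Nat.factorization_eq_zero_of_not_dvd (by omega)]
  have e2 : (ℓ - 1).factorization 2 = 1 := by
    obtain ⟨k, hk⟩ : ∃ k, ℓ - 1 = 2 ^ 1 * (2 * k + 1) := ⟨ℓ / 4, by omega⟩
    rw [hk, Nat.factorization_mul (by norm_num) (by omega), Finsupp.add_apply,
      Nat.Prime.factorization_pow Nat.prime_two]
    simp
    rw [Nat.factorization_eq_zero_of_not_dvd (by omega)]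
  rw [e1, e2]


/-- generic splitting of the sum according to divisibility by `h` -/
lemma split_sum (F : ℕ → ℕ) (g h : ℕ) (hh : 0 < h) :
    ∑ a ∈ Icc 1 g, F a = ∑ m ∈ Icc 1 (g / h), F (h * m)
      + ∑ a ∈ (Icc 1 g).filter (fun a => ¬ h ∣ a), F a := by
  rw [← Finset.sum_filter_add_sum_filter_not (Icc 1 g) (fun a => h ∣ a)]
  congr 1
  refine Finset.sum_nbij' (fun a => a / h) (fun m => h * m) ?_ ?_ ?_ ?_ ?_
  · intro a ha
    simp only [mem_filter, mem_Icc] at ha ⊢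
    obtain ⟨⟨h1, h2⟩, k, rfl⟩ := ha
    rw [Nat.mul_div_cancel_left _ hh]
    constructor
    · rcases k with _ | k
      · simp at h1
      · omega
    · exact (Nat.le_div_iff_mul_le hh).mpr (by rw [mul_comm]; exact h2)
  · intro m hm
    simp only [mem_filter, mem_Icc] at hm ⊢
    refine ⟨⟨?_, ?_⟩, dvd_mul_right _ _⟩
    · exact Nat.mul_pos hh (by omega)
    · have := (Nat.le_div_iff_mul_le hh).mp hm.2
      rw [mul_comm]; exact this
  · intro a ha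
    simp only [mem_filter, mem_Icc] at ha
    exact Nat.mul_div_cancel' ha.2
  · intro m _
    exact Nat.mul_div_cancel_left _ hh
  · intro a ha
    simp only [mem_filter, mem_Icc] at ha
    rw [Nat.mul_div_cancel' ha.2]

section odd
variable {p : ℕ} [hp : Fact p.Prime] (hp2 : p ≠ 2)
include hp2

lemma p_odd : Odd p := hp.out.odd_of_ne_two hp2

lemma p_sub_one : p - 1 = 2 * ((p - 1) / 2) := by
  obtain ⟨k, hk⟩ := p_odd hp2
  omega

lemma half_pos : 0 < (p - 1) / 2 := by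
  have := hp.out.two_le
  obtain ⟨k, hk⟩ := p_odd hp2
  omega

lemma fermat {ℓ : ℕ} (hpl : ¬ p ∣ ℓ) : p ∣ ℓ ^ (p - 1) - 1 := by
  have h1 : ℓ.Coprime p := ((Nat.Prime.coprime_iff_not_dvd hp.out).mpr hpl).symm
  have := Nat.ModEq.pow_totient h1
  rw [Nat.totient_prime hp.out] at this
  exact (Nat.modEq_iff_dvd' (Nat.one_le_pow _ _ (Nat.pos_of_ne_zero (by rintro rfl; simp at hpl)))).mp
    this.symm

lemma odd_term {ℓ : ℕ} (hℓ : 2 ≤ ℓ) (hpl : ¬ p ∣ ℓ) {m : ℕ} (hm : m ≠ 0) :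
    (ℓ ^ (2 * ((p - 1) / 2 * m)) - 1).factorization p =
      (ℓ ^ (p - 1) - 1).factorization p + m.factorization p := by
  have hp1 : p - 1 ≠ 0 := by have := hp.out.two_le; omega
  have h := padicValNat.pow_sub_pow (p := p) (p_odd hp2) (x := ℓ ^ (p - 1)) (y := 1)
    (one_lt_pow' hℓ hp1) (fermat hp2 hpl) (fun hd => hpl (hp.out.dvd_of_dvd_pow hd)) hm
  simp only [Nat.factorization_def _ hp.out]
  rw [one_pow, ← pow_mul] at h
  rw [← mul_assoc, ← p_sub_one hp2]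
  exact h

lemma odd_sum {g ℓ : ℕ} (hℓ : 2 ≤ ℓ) (hpl : ¬ p ∣ ℓ) :
    (PP g ℓ).factorization p = (g / ((p - 1) / 2)) * (ℓ ^ (p - 1) - 1).factorization p
      + ∑ m ∈ Icc 1 (g / ((p - 1) / 2)), m.factorization p
      + ∑ a ∈ (Icc 1 g).filter (fun a => ¬ ((p - 1) / 2) ∣ a), (ℓ ^ (2 * a) - 1).factorization p := by
  rw [fact_PP hℓ, split_sum _ g _ (half_pos hp2)]
  congr 1
  rw [Finset.sum_congr rfl (fun m hm => odd_term hp2 hℓ hpl (m := m) (by simp at hm; omega)),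
    Finset.sum_add_distrib]
  simp

lemma c_ge {ℓ : ℕ} (hℓ : 2 ≤ ℓ) (hpl : ¬ p ∣ ℓ) : 1 ≤ (ℓ ^ (p - 1) - 1).factorization p := by
  have hp1 : p - 1 ≠ 0 := by have := hp.out.two_le; omega
  have h1 := one_lt_pow' hℓ hp1
  have := (Nat.Prime.pow_dvd_iff_le_factorization hp.out (n := ℓ ^ (p - 1) - 1) (k := 1) (by omega)).mp
    (by simpa using fermat hp2 hpl)
  exact this

end odd


section gen
variable {p : ℕ} [hp : Fact p.Prime]

/-- `ℓ` reduces to a generator of `(ZMod (p^2))ˣ` -/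
def IsGen (p ℓ : ℕ) : Prop :=
  ∀ k : ℕ, ((ℓ : ZMod (p ^ 2)) ^ k = 1) → p * (p - 1) ∣ k

lemma exists_gen (hp2 : p ≠ 2) (B : ℕ) : ∃ ℓ > B, ℓ.Prime ∧ ¬ p ∣ ℓ ∧ IsGen p ℓ := by
  have : NeZero (p ^ 2) := ⟨pow_ne_zero _ hp.out.ne_zero⟩
  have := ZMod.isCyclic_units_of_prime_pow p hp.out hp2 2
  obtain ⟨u, hu⟩ := IsCyclic.exists_generator (α := (ZMod (p ^ 2))ˣ)
  have hord : orderOf u = p * (p - 1) := by
    rw [orderOf_eq_card_of_forall_mem_zpowers hu, Nat.card_eq_fintype_card, ZMod.card_units_eq_totient,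
      Nat.totient_prime_pow hp.out (by norm_num)]
    simp
  obtain ⟨ℓ, hℓB, hℓp, hℓu⟩ := Nat.forall_exists_prime_gt_and_eq_mod (q := p ^ 2) u.isUnit (max B p)
  refine ⟨ℓ, lt_of_le_of_lt (le_max_left _ _) hℓB, hℓp, ?_, ?_⟩
  · intro hd
    have := (Nat.prime_dvd_prime_iff_eq hp.out hℓp).mp hd
    have := lt_of_le_of_lt (le_max_right B p) hℓB
    omega
  intro k hk
  rw [hℓu] at hk
  have : u ^ k = 1 := by
    ext; push_cast; exact hk
  rw [← hord]
  exact orderOf_dvd_of_pow_eq_one this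


lemma gen_A {ℓ : ℕ} (hg : IsGen p ℓ) {k : ℕ} (hk : p ∣ ℓ ^ k - 1) (hℓ : 1 ≤ ℓ) : p - 1 ∣ k := by
  have h1 : ((p : ℕ) : ZMod (p ^ 2)) ∣ ((ℓ : ZMod (p ^ 2)) ^ k) - 1 := by
    obtain ⟨c, hc⟩ := hk
    refine ⟨(c : ZMod (p ^ 2)), ?_⟩
    have := congrArg (Nat.cast (R := ZMod (p ^ 2))) hc
    rw [Nat.cast_sub (Nat.one_le_pow _ _ hℓ)] at this
    push_cast at this
    exact this
  have h2 := dvd_sub_pow_of_dvd_sub h1 1
  have h3 : ((p : ZMod (p ^ 2))) ^ (1 + 1) = 0 := by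
    have := ZMod.natCast_self (p ^ 2)
    push_cast at this
    exact this
  rw [h3, zero_dvd_iff, one_pow, pow_one, sub_eq_zero, ← pow_mul] at h2
  have h4 := hg _ h2
  rw [mul_comm k p] at h4
  exact (Nat.mul_dvd_mul_iff_left hp.out.pos).mp h4

lemma gen_B {ℓ : ℕ} (hg : IsGen p ℓ) (hℓ : 2 ≤ ℓ) (hpl : ¬ p ∣ ℓ) (hp2 : p ≠ 2) :
    (ℓ ^ (p - 1) - 1).factorization p = 1 := by
  apply le_antisymm _ (c_ge hp2 hℓ hpl)
  by_contra hlt
  push Not at hlt
  have hp1 : p - 1 ≠ 0 := by have := hp.out.two_le; omega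
  have h1 := one_lt_pow' hℓ hp1
  have hd : p ^ 2 ∣ ℓ ^ (p - 1) - 1 :=
    (Nat.Prime.pow_dvd_iff_le_factorization hp.out (by omega)).mpr hlt
  have h2 : ((ℓ : ZMod (p ^ 2)) ^ (p - 1)) = 1 := by
    obtain ⟨c, hc⟩ := hd
    have := congrArg (Nat.cast (R := ZMod (p ^ 2))) hc
    rw [Nat.cast_sub h1.le] at this
    push_cast at this
    have h0 : ((p : ZMod (p ^ 2))) ^ 2 = 0 := by
      have := ZMod.natCast_self (p ^ 2)
      push_cast at this
      exact this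
    rw [h0, zero_mul, sub_eq_zero] at this
    exact this
  have h3 := hg _ h2
  have h4 := Nat.le_of_dvd (by omega) h3
  have := hp.out.two_le
  have h5 : 2 * (p - 1) ≤ p * (p - 1) := Nat.mul_le_mul_right _ this
  omega

end gen


/-- exponent -/
def ee (g p : ℕ) : ℕ := if p = 2 then 3 * g + (g.factorial).factorization 2
  else (2 * g) / (p - 1) + ∑ i ∈ Icc 1 ((2 * g) / (p - 1)), i.factorization p

def MM (g : ℕ) : ℕ := 2 ^ (3 * g + padicValNat 2 g.factorial) *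
        ∏ p ∈ (Icc 3 (2 * g + 1)).filter Nat.Prime,
          p ^ ((2 * g) / (p - 1) + ∑ i ∈ Icc 1 ((2 * g) / (p - 1)), padicValNat p i)

lemma prodpart_ne_zero (g : ℕ) : ∏ p ∈ (Icc 3 (2 * g + 1)).filter Nat.Prime,
          p ^ ((2 * g) / (p - 1) + ∑ i ∈ Icc 1 ((2 * g) / (p - 1)), padicValNat p i) ≠ 0 := by
  rw [Finset.prod_ne_zero_iff]
  intro q hq
  simp only [mem_filter, mem_Icc] at hq
  exact pow_ne_zero _ (by omega)

lemma MM_ne_zero (g : ℕ) : MM g ≠ 0 :=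
  mul_ne_zero (pow_ne_zero _ (by norm_num)) (prodpart_ne_zero g)

lemma fact_MM (g : ℕ) {p : ℕ} (hp : p.Prime) : (MM g).factorization p = ee g p := by
  rw [MM, Nat.factorization_mul (pow_ne_zero _ (by norm_num)) (prodpart_ne_zero g), Finsupp.add_apply,
    Nat.factorization_prod_apply (fun q hq => by
      simp only [mem_filter, mem_Icc] at hq
      exact pow_ne_zero _ (by omega))]
  have e1 : ∀ q ∈ (Icc 3 (2 * g + 1)).filter Nat.Prime,
      (q ^ ((2 * g) / (q - 1) + ∑ i ∈ Icc 1 ((2 * g) / (q - 1)), padicValNat q i)).factorization p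
      = if q = p then ((2 * g) / (p - 1) + ∑ i ∈ Icc 1 ((2 * g) / (p - 1)), i.factorization p) else 0 := by
    intro q hq
    simp only [mem_filter, mem_Icc] at hq
    rw [Nat.Prime.factorization_pow hq.2, Finsupp.single_apply]
    split_ifs with h
    · subst h
      congr 1
      exact Finset.sum_congr rfl (fun i _ => (Nat.factorization_def i hq.2).symm)
    · rfl
  rw [Finset.sum_congr rfl e1, Finset.sum_ite_eq', Nat.Prime.factorization_pow Nat.prime_two,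
    Finsupp.single_apply, ee]
  by_cases h2 : p = 2
  · subst h2
    simp [Nat.factorization_def _ Nat.prime_two]
  · rw [if_neg (Ne.symm h2), if_neg h2, zero_add]
    split_ifs with hmem
    · rfl
    · simp only [mem_filter, mem_Icc, not_and] at hmem
      have hp3 : 3 ≤ p := by
        have := hp.two_le; omega
      have : ¬ p ≤ 2 * g + 1 := fun h => hmem ⟨hp3, h⟩ hp
      have h0 : 2 * g / (p - 1) = 0 := Nat.div_eq_of_lt (by omega)
      simp [h0]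

lemma lower {g p ℓ : ℕ} (hp : p.Prime) (hℓ : ℓ.Prime) (hgl : 2 * g + 1 < ℓ) :
    ee g p ≤ (PP g ℓ).factorization p := by
  have hℓ2 := hℓ.two_le
  by_cases h2 : p = 2
  · subst h2
    rw [ee, if_pos rfl]
    rcases Nat.eq_zero_or_pos g with rfl | hg
    · simp
    · have hodd : ¬ 2 ∣ ℓ := by
        intro hd
        have := (Nat.prime_dvd_prime_iff_eq Nat.prime_two hℓ).mp hd
        omega
      rw [two_sum hℓ2 hodd]
      have := two_c_ge hℓ2 hodd
      nlinarith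
  · have : Fact p.Prime := ⟨hp⟩
    rw [ee, if_neg h2]
    by_cases hpl : p ∣ ℓ
    · have := (Nat.prime_dvd_prime_iff_eq hp hℓ).mp hpl
      have h0 : 2 * g / (p - 1) = 0 := Nat.div_eq_of_lt (by omega)
      simp [h0]
    · rw [odd_sum h2 hℓ2 hpl]
      have hdiv : 2 * g / (p - 1) = g / ((p - 1) / 2) := by
        conv_lhs => rw [p_sub_one h2]
        exact Nat.mul_div_mul_left _ _ (by norm_num)
      rw [hdiv]
      have := c_ge h2 hℓ2 hpl
      have h5 : g / ((p - 1) / 2) * 1 ≤ g / ((p - 1) / 2) * (ℓ ^ (p - 1) - 1).factorization p :=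
        Nat.mul_le_mul_left _ this
      omega

lemma attain (g : ℕ) {p : ℕ} (hp : p.Prime) (B : ℕ) :
    ∃ ℓ > B, ℓ.Prime ∧ (PP g ℓ).factorization p = ee g p := by
  by_cases h2 : p = 2
  · subst h2
    have hu : IsUnit (3 : ZMod 8) := IsUnit.of_mul_eq_one (3 : ZMod 8) (by decide)
    obtain ⟨ℓ, hℓB, hℓp, hℓ3⟩ := Nat.forall_exists_prime_gt_and_eq_mod (q := 8) hu B
    refine ⟨ℓ, hℓB, hℓp, ?_⟩
    have h8 : ℓ % 8 = 3 := by
      have : ((ℓ : ℕ) : ZMod 8) = ((3 : ℕ) : ZMod 8) := by simpa using hℓ3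
      rw [ZMod.natCast_eq_natCast_iff'] at this
      simpa using this
    have hodd : ¬ 2 ∣ ℓ := by omega
    rw [two_sum hℓp.two_le hodd, two_c_eq h8, ee, if_pos rfl]
    ring
  · have : Fact p.Prime := ⟨hp⟩
    obtain ⟨ℓ, hℓB, hℓp, hpl, hgen⟩ := exists_gen h2 B
    refine ⟨ℓ, hℓB, hℓp, ?_⟩
    have hℓ2 := hℓp.two_le
    rw [odd_sum h2 hℓ2 hpl, gen_B hgen hℓ2 hpl h2, ee, if_neg h2]
    have hdiv : 2 * g / (p - 1) = g / ((p - 1) / 2) := by
      conv_lhs => rw [p_sub_one h2]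
      exact Nat.mul_div_mul_left _ _ (by norm_num)
    rw [hdiv, mul_one, add_assoc]
    congr 1
    rw [Nat.add_eq_left]
    apply Finset.sum_eq_zero
    intro a ha
    simp only [mem_filter, mem_Icc] at ha
    apply Nat.factorization_eq_zero_of_not_dvd
    intro hd
    have h3 := gen_A hgen hd (by omega)
    rw [p_sub_one h2] at h3
    exact ha.2 ((Nat.mul_dvd_mul_iff_left (by norm_num)).mp h3)

theorem main (g B d : ℕ) (hB : 2 * g + 1 ≤ B) :
    (∀ ℓ : ℕ, ℓ.Prime → B < ℓ → d ∣ ∏ a ∈ Icc 1 g, (ℓ ^ (2 * a) - 1)) ↔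
      d ∣ 2 ^ (3 * g + padicValNat 2 g.factorial) *
        ∏ p ∈ (Icc 3 (2 * g + 1)).filter Nat.Prime,
          p ^ ((2 * g) / (p - 1) + ∑ i ∈ Icc 1 ((2 * g) / (p - 1)), padicValNat p i) := by
  change (∀ ℓ : ℕ, ℓ.Prime → B < ℓ → d ∣ PP g ℓ) ↔ d ∣ MM g
  constructor
  · intro h
    have hd : d ≠ 0 := by
      obtain ⟨ℓ, hℓB, hℓp⟩ := Nat.exists_infinite_primes (B + 1)
      have := h ℓ hℓp (by omega)
      rintro rfl
      exact PP_ne_zero hℓp.two_le (zero_dvd_iff.mp this)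
    rw [← Nat.factorization_prime_le_iff_dvd hd (MM_ne_zero g)]
    intro p hp
    obtain ⟨ℓ, hℓB, hℓp, he⟩ := attain g hp B
    rw [fact_MM g hp, ← he]
    exact (Nat.factorization_le_iff_dvd hd (PP_ne_zero hℓp.two_le)).mpr (h ℓ hℓp hℓB) p
  · intro h ℓ hℓp hℓB
    refine h.trans ?_
    rw [← Nat.factorization_prime_le_iff_dvd (MM_ne_zero g) (PP_ne_zero hℓp.two_le)]
    intro p hp
    rw [fact_MM g hp]
    exact lower hp hℓp (by omega)

end Groth.Agent.Lib.Helper4.GcdSp
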