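import Mathlib.Tactic
import Mathlib.RingTheory.Localization.Integral
import Mathlib.RingTheory.RingHom.Finite
import Mathlib.RingTheory.Algebraic.Integral
import Mathlib.RingTheory.Localization.AtPrime.Basic

open scoped nonZeroDivisors

namespace Groth.Agent.Lib.Helper4.GenStalkInt

variable {A B : Type*} [CommRing A] [CommRing B]

lemma primeCompl_bot_eq [IsDomain B] : (⊥ : Ideal B).primeCompl = B⁰ := by
  ext b
  simp [Ideal.primeCompl, mem_nonZeroDivisors_iff_ne_zero]

lemma isFractionRing_of_atPrime_bot [IsDomain B] (S' : Type*) [CommRing S'] [Algebra B S']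
    [h : IsLocalization.AtPrime S' (⊥ : Ideal B)] : IsFractionRing B S' := by
  have h' : IsLocalization (⊥ : Ideal B).primeCompl S' := h
  rwa [primeCompl_bot_eq] at h'

/-- the key localization statement -/
lemma isLocalization_map_primeCompl [IsDomain B] (φ : A →+* B) (hinj : Function.Injective φ)
    (hint : φ.IsIntegral) (p : Ideal A) [p.IsPrime] (hp : p = ⊥)
    (S' : Type*) [CommRing S'] [Algebra B S'] [IsLocalization.AtPrime S' (⊥ : Ideal B)] :
    IsLocalization (p.primeCompl.map φ) S' := by
  subst hp
  have hA : IsDomain A := hinj.isDomain φ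
  letI := φ.toAlgebra
  have : FaithfulSMul A B := (faithfulSMul_iff_algebraMap_injective A B).mpr hinj
  have : Algebra.IsIntegral A B := ⟨hint⟩
  have : Algebra.IsAlgebraic A B := inferInstance
  have hfr : IsFractionRing B S' := isFractionRing_of_atPrime_bot S'
  have h2 : IsLocalization (Algebra.algebraMapSubmonoid B A⁰) S' := inferInstance
  rw [primeCompl_bot_eq]
  exact h2

universe u in
theorem localRingHom_isIntegral_finite {A B : Type u} [CommRing A] [CommRing B] [IsDomain B]
    (φ : A →+* B) (hinj : Function.Injective φ)
    (p : Ideal A) [p.IsPrime] (q : Ideal B) [q.IsPrime] (hq : q = ⊥) (hpq : p = q.comap φ) :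
    (φ.IsIntegral → (Localization.localRingHom p q φ hpq).IsIntegral) ∧
    (φ.Finite → (Localization.localRingHom p q φ hpq).Finite) := by
  subst hq
  have hp : p = ⊥ := by
    rw [hpq]
    exact Ideal.comap_bot_of_injective φ hinj
  have key : ∀ hint : φ.IsIntegral, ∃ _ : IsLocalization (p.primeCompl.map φ)
      (Localization.AtPrime (⊥ : Ideal B)), Localization.localRingHom p ⊥ φ hpq =
        IsLocalization.map (Localization.AtPrime (⊥ : Ideal B)) φ
          (Submonoid.le_comap_map p.primeCompl) := by
    intro hint
    have h := isLocalization_map_primeCompl φ hinj hint p hp (Localization.AtPrime (⊥ : Ideal B))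
    refine ⟨h, ?_⟩
    apply IsLocalization.ringHom_ext p.primeCompl
    ext a
    simp [Localization.localRingHom_to_map, IsLocalization.map_eq]
  constructor
  · intro hint
    obtain ⟨h, e⟩ := key hint
    rw [e]
    letI := φ.toAlgebra
    have : Algebra.IsIntegral A B := ⟨hint⟩
    have h' : IsLocalization (Algebra.algebraMapSubmonoid B p.primeCompl)
        (Localization.AtPrime (⊥ : Ideal B)) := by
      rwa [Algebra.algebraMapSubmonoid, RingHom.algebraMap_toAlgebra]
    exact isIntegral_localization (M := p.primeCompl) (Rₘ := Localization.AtPrime p)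
      (Sₘ := Localization.AtPrime (⊥ : Ideal B))
  · intro hfin
    obtain ⟨h, e⟩ := key hfin.to_isIntegral
    rw [e]
    exact RingHom.finite_localizationPreserves φ p.primeCompl (Localization.AtPrime p)
      (Localization.AtPrime (⊥ : Ideal B)) hfin

end Groth.Agent.Lib.Helper4.GenStalkInt
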