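import Mathlib.Tactic
import Mathlib.AlgebraicGeometry.Morphisms.Finite
import Mathlib.AlgebraicGeometry.Morphisms.Integral
import Mathlib.AlgebraicGeometry.Morphisms.SchemeTheoreticallyDominant
import Mathlib.AlgebraicGeometry.FunctionField
import Groth.Agent.Lib.Helper4.GenStalkInt

open AlgebraicGeometry CategoryTheory

universe u

namespace Groth.Agent.Lib.Helper4.GenStalk

lemma prop_arrow_iso (P : ∀ {R S : Type u} [CommRing R] [CommRing S], (R →+* S) → Prop)
    (hP : RingHom.RespectsIso @P) {R S R' S' : CommRingCat.{u}} {a : R ⟶ S} {b : R' ⟶ S'}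
    (i : Arrow.mk a ≅ Arrow.mk b) (h : P a.hom) : P b.hom := by
  have := (RingHom.toMorphismProperty_respectsIso_iff.mp hP)
  exact ((RingHom.toMorphismProperty @P).arrow_mk_iso_iff i).mp h

theorem main4435 {X S : Scheme.{u}} [IsIntegral X] [IsIntegral S] (f : X ⟶ S) [IsDominant f] :
    (IsIntegralHom f → (f.stalkMap (genericPoint X)).hom.IsIntegral) ∧
      (IsFinite f → (f.stalkMap (genericPoint X)).hom.Finite) := by
  have common : ∀ [IsAffineHom f],
      ((∀ (V : S.Opens), IsAffineOpen V → (f.app V).hom.IsIntegral) →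
        (f.stalkMap (genericPoint X)).hom.IsIntegral) ∧
      ((∀ (V : S.Opens), IsAffineOpen V → (f.app V).hom.Finite) →
        (f.stalkMap (genericPoint X)).hom.Finite) := by
    intro _
    obtain ⟨_, ⟨V, hV, rfl⟩, hηV, -⟩ :=
      S.isBasis_affineOpens.exists_subset_of_mem_open (Set.mem_univ (f (genericPoint X)))
        isOpen_univ
    have hU : IsAffineOpen (f ⁻¹ᵁ V) := hV.preimage f
    have hη : genericPoint X ∈ f ⁻¹ᵁ V := hηV
    have hne : Nonempty (f ⁻¹ᵁ V) := ⟨⟨_, hη⟩⟩
    have hdom : IsDomain Γ(X, f ⁻¹ᵁ V) := inferInstance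
    have hstd : IsSchemeTheoreticallyDominant f := .of_isDominant f
    have hinj : Function.Injective (f.appLE V (f ⁻¹ᵁ V) le_rfl).hom := by
      rw [Scheme.Hom.appLE_eq_app]
      exact f.app_injective V
    have hq : (hU.primeIdealOf ⟨genericPoint X, hη⟩).asIdeal = ⊥ := by
      rw [hU.primeIdealOf_genericPoint, genericPoint_eq_bot_of_affine]
      rfl
    have hpq := congr($(IsAffineOpen.comap_primeIdealOf_appLE V hV _ hU le_rfl hη).1).symm
    obtain ⟨h1, h2⟩ := GenStalkInt.localRingHom_isIntegral_finite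
      (f.appLE V (f ⁻¹ᵁ V) le_rfl).hom hinj _ _ hq hpq
    have i := IsAffineOpen.arrowStalkMapIso f V hV _ hU le_rfl hη
    constructor
    · intro hint
      have := h1 (by rw [Scheme.Hom.appLE_eq_app]; exact hint V hV)
      exact prop_arrow_iso (fun f => f.IsIntegral) RingHom.isIntegral_respectsIso i.symm this
    · intro hfin
      have := h2 (by rw [Scheme.Hom.appLE_eq_app]; exact hfin V hV)
      exact prop_arrow_iso (fun f => f.Finite) RingHom.finite_respectsIso i.symm this
  constructor
  · intro h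
    exact common.1 (fun V hV => f.isIntegral_app V hV)
  · intro h
    exact common.2 (fun V hV => f.finite_app V hV)

end Groth.Agent.Lib.Helper4.GenStalk
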