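import Mathlib.AlgebraicGeometry.SpreadingOut
import Mathlib.AlgebraicGeometry.Properties
import Mathlib.Tactic

set_option autoImplicit false
universe u
open CategoryTheory AlgebraicGeometry TopologicalSpace Opposite

namespace Groth.Agent.Lib.Helper4.GermInjReduced

theorem main (X : Scheme.{u}) [AlgebraicGeometry.IsReduced X]
    (hirr : (irreducibleComponents (X : Type u)).Finite) (x : X) : X.IsGermInjectiveAt x := by
  -- the bad components
  let B : Set (Set X) := {Z ∈ irreducibleComponents (X : Type u) | x ∉ Z}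
  have hBfin : B.Finite := hirr.subset (fun Z hZ => hZ.1)
  have hBcl : IsClosed (⋃ Z ∈ B, Z) :=
    hBfin.isClosed_biUnion (fun Z hZ => isClosed_of_mem_irreducibleComponents Z hZ.1)
  let O : X.Opens := ⟨(⋃ Z ∈ B, Z)ᶜ, hBcl.isOpen_compl⟩
  have hxO : x ∈ O := by
    change x ∈ (⋃ Z ∈ B, Z)ᶜ
    simp only [Set.mem_compl_iff, Set.mem_iUnion, not_exists]
    intro Z hZ hxZ
    exact hZ.2 hxZ
  obtain ⟨U, hU, hxU, hUO⟩ := exists_isAffineOpen_mem_and_subset (U := O) (x := x) hxO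
  refine ⟨⟨U, hxU, hU, ?_⟩⟩
  rw [injective_iff_map_eq_zero]
  intro s hs
  have hs' : X.presheaf.germ U x hxU s = X.presheaf.germ U x hxU 0 := by rw [hs, map_zero]
  obtain ⟨N, hxN, iU, iV, e⟩ := X.presheaf.germ_eq x hxU hxU s 0 hs'
  rw [map_zero] at e
  have hN : N ⊓ X.basicOpen s = ⊥ := by
    rw [← Scheme.basicOpen_res X s iU.op, e, Scheme.basicOpen_zero]
  rw [← basicOpen_eq_bot_iff]
  by_contra hne
  obtain ⟨y, hy⟩ : ((X.basicOpen s : X.Opens) : Set X).Nonempty := by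
    rw [Set.nonempty_iff_ne_empty]
    intro h
    exact hne (Opens.ext h)
  have hyU : y ∈ U := X.basicOpen_le s hy
  have hyO : y ∈ O := hUO hyU
  let Z := irreducibleComponent y
  have hZ : Z ∈ irreducibleComponents (X : Type u) := irreducibleComponent_mem_irreducibleComponents y
  have hxZ : x ∈ Z := by
    by_contra hxZ
    have : y ∈ ⋃ Z ∈ B, Z := Set.mem_biUnion (⟨hZ, hxZ⟩ : Z ∈ B) mem_irreducibleComponent
    exact hyO this
  obtain ⟨w, -, hwN, hws⟩ := hZ.1.2 N (X.basicOpen s) N.isOpen (X.basicOpen s).isOpen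
    ⟨x, hxZ, hxN⟩ ⟨y, mem_irreducibleComponent, hy⟩
  have : w ∈ (N ⊓ X.basicOpen s : X.Opens) := ⟨hwN, hws⟩
  rw [hN] at this
  exact this

end Groth.Agent.Lib.Helper4.GermInjReduced
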