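import Mathlib.AlgebraicGeometry.Morphisms.Flat
import Mathlib.AlgebraicGeometry.Morphisms.UniversallyOpen
import Mathlib.Tactic
import Groth.Prelude.Def_Grpd
import Groth.Agent.Lib.Helper4.GrpToGrpd
import Groth.Agent.Lib.Helper4.GrpdInvariant
import Groth.Agent.Lib.Helper4.GrpdAct

set_option autoImplicit false
universe u
open CategoryTheory MonoidalCategory CartesianMonoidalCategory MonObj GrpObj AlgebraicGeometry Limits

namespace Groth.Agent.Lib.Helper4.GrpSchFlat

open GrpToGrpd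

variable {S : Scheme.{u}} (G : Over S) [GrpObj G]

theorem flat_mul (h : Flat G.hom) : Flat μ[G].left := by
  have h3 : Flat (ofGrp G).s := h
  exact MorphismProperty.of_isPullback (P := @Flat)
    (GrpdInvariant.isPullback_c (ofGrp G)).flip h3

theorem translate_eq {T : Scheme.{u}} (a : T ⟶ G.left) :
    ((Over.homMk a rfl : Over.mk (a ≫ G.hom) ⟶ G) ▷ G ≫ μ[G]).left = GrpdAct.μ (ofGrp G) a := by
  rw [Over.comp_left]
  unfold GrpdAct.μ GrpdCalc.cmp
  congr 1

theorem flat_translate' {T : Scheme.{u}} (p : T ⟶ S) (a : T ⟶ G.left) (ha : a ≫ G.hom = p)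
    (h : Flat p) : Flat ((Over.homMk a ha : Over.mk p ⟶ G) ▷ G ≫ μ[G]).left := by
  subst ha
  rw [translate_eq]
  have h3 : Flat (a ≫ (ofGrp G).t) := h
  exact MorphismProperty.of_isPullback (P := @Flat)
    (GrpdAct.isPullback_μ (ofGrp G) a).flip h3

theorem flat_translate (T : Over S) (ψ : T ⟶ G) (h : Flat T.hom) : Flat (ψ ▷ G ≫ μ[G]).left :=
  flat_translate' G T.hom ψ.left (Over.w ψ) h

theorem main : (∀ (T : Over S) (ψ : T ⟶ G), Flat T.hom → Flat (ψ ▷ G ≫ μ[G]).left) ∧
    (Flat G.hom → Flat μ[G].left) :=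
  ⟨fun T ψ h => flat_translate G T ψ h, flat_mul G⟩

end Groth.Agent.Lib.Helper4.GrpSchFlat
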