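import Mathlib.AlgebraicGeometry.Morphisms.UniversallyOpen
import Mathlib.AlgebraicGeometry.PullbackCarrier
import Mathlib.Tactic
import Groth.Prelude.Def_Grpd
import Groth.Agent.Lib.Helper4.GrpdDense
import Groth.Agent.Lib.Helper4.GrpToGrpd

set_option autoImplicit false
universe u
open CategoryTheory AlgebraicGeometry TopologicalSpace Limits

namespace Groth.Agent.Lib.Helper4.GrpdCompact

open Grpd

variable {S : Scheme.{u}} (G : GroupoidScheme S)

/-- a groupoid over a field whose space of arrows is irreducible is quasi-compact -/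
theorem main (k : Type u) [Field k] (eU : G.U ≅ Spec (CommRingCat.of k))
    [IrreducibleSpace G.R] : CompactSpace G.R := by
  obtain ⟨x⟩ : Nonempty G.R := inferInstance
  obtain ⟨V, hV, hxV⟩ : ∃ V : G.R.Opens, IsAffineOpen V ∧ x ∈ V := by
    obtain ⟨_, ⟨V, hV, rfl⟩, hxV, -⟩ :=
      G.R.isBasis_affineOpens.exists_subset_of_mem_open (Set.mem_univ x) isOpen_univ
    exact ⟨V, hV, hxV⟩
  have hVd : Dense (V : Set G.R) := V.2.dense ⟨x, hxV⟩
  have hmain := GrpdDense.main G k eU V V hVd hVd
  have hUaff : IsAffine G.U := IsAffine.of_isIso eU.hom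
  have hVaff : IsAffine V.toScheme := hV
  let P := pullback (V.ι ≫ G.s) (V.ι ≫ G.t)
  have hP : IsAffine P := inferInstance
  have hPc : CompactSpace P := inferInstance
  let j : P ⟶ pullback G.s G.t :=
    pullback.map _ _ _ _ V.ι V.ι (𝟙 G.U) (by simp) (by simp)
  have hr : Set.range j = pullback.fst G.s G.t ⁻¹' (V : Set G.R) ∩
      pullback.snd G.s G.t ⁻¹' (V : Set G.R) := by
    have := Scheme.Pullback.range_map (f := V.ι ≫ G.s) (g := V.ι ≫ G.t) G.s G.t V.ι V.ι (𝟙 G.U)
      (by simp) (by simp)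
    rw [Scheme.Opens.range_ι] at this
    exact this
  rw [← hr, ← Set.range_comp] at hmain
  constructor
  rw [← hmain]
  have : (⇑G.c ∘ ⇑j) = ⇑(j ≫ G.c) := by
    ext y; simp
  rw [this]
  exact isCompact_range (j ≫ G.c).continuous

end Groth.Agent.Lib.Helper4.GrpdCompact
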