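import Mathlib.AlgebraicGeometry.Morphisms.UniversallyOpen
import Mathlib.AlgebraicGeometry.Morphisms.QuasiCompact
import Mathlib.Tactic

set_option autoImplicit false
universe u
open CategoryTheory AlgebraicGeometry TopologicalSpace Limits

namespace Groth.Agent.Lib.Helper4.QCSpecClosure

/-- the property: points in the closure of the image of a closed set are specializations of
image points -/
def P {X Y : Scheme.{u}} (f : X ⟶ Y) : Prop :=
  ∀ Z : Set X, IsClosed Z → ∀ y ∈ closure (f '' Z), ∃ x ∈ Z, f x ⤳ y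

theorem ring_case {A B : Type u} [CommRing A] [CommRing B] (φ : A →+* B)
    (Z : Set (PrimeSpectrum B)) (hZ : IsClosed Z) (p : PrimeSpectrum A)
    (hp : p ∈ closure (PrimeSpectrum.comap φ '' Z)) :
    ∃ q ∈ Z, PrimeSpectrum.comap φ q ⤳ p := by
  obtain ⟨J, rfl⟩ := (PrimeSpectrum.isClosed_iff_zeroLocus_ideal Z).mp hZ
  rw [PrimeSpectrum.closure_image_comap_zeroLocus] at hp
  obtain ⟨Q, hJQ, hQ, hQp⟩ := p.asIdeal.exists_ideal_comap_le_prime J hp
  exact ⟨⟨Q, hQ⟩, hJQ, (PrimeSpectrum.le_iff_specializes ⟨Q.comap φ, inferInstance⟩ p).mp hQp⟩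

theorem P_specMap {A B : CommRingCat.{u}} (φ : A ⟶ B) : P (Spec.map φ) := by
  intro Z hZ y hy
  exact ring_case φ.hom Z hZ y hy

theorem P_of_comp_iso {X Y Y' : Scheme.{u}} (f : X ⟶ Y) (e : Y ⟶ Y') [IsIso e]
    (h : P (f ≫ e)) : P f := by
  intro Z hZ y hy
  have h1 : e y ∈ closure ((f ≫ e) '' Z) := by
    have : (f ≫ e) '' Z = e '' (f '' Z) := by
      rw [Scheme.Hom.comp_base, TopCat.coe_comp, Set.image_comp]
    rw [this]
    exact image_closure_subset_closure_image e.continuous ⟨y, hy, rfl⟩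
  obtain ⟨x, hx, hxy⟩ := h Z hZ _ h1
  refine ⟨x, hx, ?_⟩
  have h2 := hxy.map (inv e).continuous
  simp only [Scheme.Hom.comp_base, TopCat.coe_comp, Function.comp_apply] at h2
  have h3 : ∀ z : Y, (inv e) (e z) = z := fun z => by
    rw [← Scheme.Hom.comp_apply]; simp
  rwa [h3, h3] at h2

theorem P_of_comp_surj {X' X Y : Scheme.{u}} (g : X' ⟶ X) (f : X ⟶ Y)
    (hg : Function.Surjective g) (h : P (g ≫ f)) : P f := by
  intro Z hZ y hy
  have h1 : (g ≫ f) '' (g ⁻¹' Z) = f '' Z := by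
    rw [Scheme.Hom.comp_base, TopCat.coe_comp, Set.image_comp, Set.image_preimage_eq _ hg]
  obtain ⟨x, hx, hxy⟩ := h (g ⁻¹' Z) (hZ.preimage g.continuous) y (h1 ▸ hy)
  exact ⟨g x, hx, by simpa using hxy⟩

theorem P_affine_affine {X Y : Scheme.{u}} [IsAffine X] [IsAffine Y] (f : X ⟶ Y) : P f := by
  have h1 : P (X.isoSpec.inv ≫ f ≫ Y.isoSpec.hom) := by
    obtain ⟨φ, hφ⟩ := Spec.map_surjective (X.isoSpec.inv ≫ f ≫ Y.isoSpec.hom)
    rw [← hφ]
    exact P_specMap φ
  have h2 : P (X.isoSpec.inv ≫ f) := by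
    apply P_of_comp_iso _ Y.isoSpec.hom
    simpa using h1
  exact P_of_comp_surj X.isoSpec.inv f
    (X.isoSpec.inv.homeomorph.surjective) h2

theorem P_affine_target {X Y : Scheme.{u}} [IsAffine Y] (f : X ⟶ Y) [QuasiCompact f] : P f := by
  have : CompactSpace X := QuasiCompact.compactSpace_of_compactSpace f
  obtain ⟨R, g, hg⟩ := compactSpace_iff_exists.mp this
  exact P_of_comp_surj g f hg (P_affine_affine _)

theorem main {X Y : Scheme.{u}} (f : X ⟶ Y) [QuasiCompact f] : P f := by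
  intro Z hZ y hy
  obtain ⟨U, hU, hyU⟩ : ∃ U : Y.Opens, IsAffineOpen U ∧ y ∈ U := by
    obtain ⟨_, ⟨U, hU, rfl⟩, hyU, -⟩ :=
      Y.isBasis_affineOpens.exists_subset_of_mem_open (Set.mem_univ y) isOpen_univ
    exact ⟨U, hU, hyU⟩
  have : IsAffine U.toScheme := hU
  have hP := P_affine_target (f ∣_ U)
  let Z' : Set (f ⁻¹ᵁ U).toScheme := (Subtype.val) ⁻¹' Z
  have hZ' : IsClosed Z' := hZ.preimage continuous_subtype_val
  let y' : U.toScheme := ⟨y, hyU⟩
  have hy' : y' ∈ closure ((f ∣_ U) '' Z') := by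
    have h1 : y ∈ closure (Subtype.val '' ((f ∣_ U) '' Z')) := by
      have h2 : Subtype.val '' ((f ∣_ U) '' Z') = (U : Set Y) ∩ f '' Z := by
        ext z
        constructor
        · rintro ⟨_, ⟨x, hx, rfl⟩, rfl⟩
          refine ⟨((f ∣_ U) x).2, x.1, hx, ?_⟩
          rw [morphismRestrict_base_coe]
        · rintro ⟨hzU, x, hx, rfl⟩
          have hzU' : x ∈ f ⁻¹ᵁ U := hzU
          exact ⟨_, ⟨(⟨x, hzU'⟩ : ↥(f ⁻¹ᵁ U)), hx, rfl⟩, morphismRestrict_base_coe f U ⟨x, hzU'⟩⟩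
      rw [h2]
      exact U.2.inter_closure ⟨hyU, hy⟩
    exact (closure_subtype (x := (⟨y, hyU⟩ : {a // a ∈ U})) (s := (f ∣_ U) '' Z')).mpr h1
  obtain ⟨x, hx, hxy⟩ := hP Z' hZ' y' hy'
  refine ⟨x.1, hx, ?_⟩
  have := hxy.map continuous_subtype_val
  rwa [morphismRestrict_base_coe] at this

/-- the set of specializations of the image of a closed set under a quasi-compact morphism
is closed -/
theorem isClosed_specClosure {X Y : Scheme.{u}} (f : X ⟶ Y) [QuasiCompact f]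
    (Z : Set X) (hZ : IsClosed Z) : IsClosed {y : Y | ∃ x ∈ Z, f x ⤳ y} := by
  have : {y : Y | ∃ x ∈ Z, f x ⤳ y} = closure (f '' Z) := by
    apply Set.Subset.antisymm
    · rintro y ⟨x, hx, hxy⟩
      exact hxy.mem_closed isClosed_closure (subset_closure ⟨x, hx, rfl⟩)
    · intro y hy
      exact main f Z hZ y hy
  rw [this]
  exact isClosed_closure

end Groth.Agent.Lib.Helper4.QCSpecClosure
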