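import Mathlib.AlgebraicGeometry.Morphisms.UniversallyOpen
import Mathlib.AlgebraicGeometry.Morphisms.QuasiCompact
import Mathlib.Tactic
import Groth.Prelude.Def_Grpd
import Groth.Agent.Lib.Helper4.CompactGenStable
import Groth.Agent.Lib.Helper4.QCSpecClosure

set_option autoImplicit false
universe u
open CategoryTheory AlgebraicGeometry TopologicalSpace Limits

namespace Groth.Agent.Lib.Helper4.GrpdInvOpen

open Grpd

variable {S : Scheme.{u}} (G : GroupoidScheme S)

theorem pt_e_s (x : G.U) : G.s (G.e x) = x := by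
  rw [← Scheme.Hom.comp_apply, G.e_s]; rfl

theorem pt_e_t (x : G.U) : G.t (G.e x) = x := by
  rw [← Scheme.Hom.comp_apply, G.e_t]; rfl

theorem pt_i_s (r : G.R) : G.s (G.i r) = G.t r := by
  rw [← Scheme.Hom.comp_apply, G.i_s]

theorem pt_i_t (r : G.R) : G.t (G.i r) = G.s r := by
  rw [← Scheme.Hom.comp_apply, G.i_t]

theorem c_s : G.c ≫ G.s = pullback.snd G.s G.t ≫ G.s := by
  have := G.comp_s (pullback.fst G.s G.t) (pullback.snd G.s G.t) pullback.condition
  have h : pullback.lift (pullback.fst G.s G.t) (pullback.snd G.s G.t) pullback.condition = 𝟙 _ := by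
    apply pullback.hom_ext <;> simp
  rwa [h, Category.id_comp] at this

theorem c_t : G.c ≫ G.t = pullback.fst G.s G.t ≫ G.t := by
  have := G.comp_t (pullback.fst G.s G.t) (pullback.snd G.s G.t) pullback.condition
  have h : pullback.lift (pullback.fst G.s G.t) (pullback.snd G.s G.t) pullback.condition = 𝟙 _ := by
    apply pullback.hom_ext <;> simp
  rwa [h, Category.id_comp] at this

theorem pt_comp (r' r₀ : G.R) (h : G.s r' = G.t r₀) :
    ∃ r'' : G.R, G.s r'' = G.s r₀ ∧ G.t r'' = G.t r' := by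
  obtain ⟨z, hz1, hz2⟩ := Scheme.Pullback.exists_preimage_pullback r' r₀ h
  refine ⟨G.c z, ?_, ?_⟩
  · rw [← Scheme.Hom.comp_apply, c_s, Scheme.Hom.comp_apply, hz2]
  · rw [← Scheme.Hom.comp_apply, c_t, Scheme.Hom.comp_apply, hz1]

theorem main [QuasiCompact G.s] [Flat G.s] [QuasiCompact G.t] [Flat G.t]
    (W : G.U.Opens) (hW : IsCompact (W : Set G.U)) :
    ∃ V W' : G.U.Opens, G.s ⁻¹ᵁ V = G.t ⁻¹ᵁ V ∧ IsCompact (W' : Set G.U) ∧ W ≤ V ∧ V ≤ W' := by
  obtain ⟨W', hW'c, hEW', -⟩ := CompactGenStable.exists_compact_open_between _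
    (CompactGenStable.orbit_compact G W hW) ⊤ (fun _ _ => trivial)
  let Z : Set G.U := (W' : Set G.U)ᶜ
  have hZ : IsClosed (G.s ⁻¹' Z) := (W'.2.isClosed_compl).preimage G.s.continuous
  let C : Set G.U := {y | ∃ x ∈ G.s ⁻¹' Z, G.t x ⤳ y}
  have hC : IsClosed C := QCSpecClosure.isClosed_specClosure G.t _ hZ
  -- key: s⁻¹ C ⊆ t⁻¹ C
  have key : ∀ r : G.R, G.s r ∈ C → G.t r ∈ C := by
    rintro r ⟨r₀, hr₀, hsp⟩
    obtain ⟨r', hr'r, hr'⟩ := (Flat.generalizingMap G.s) hsp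
    obtain ⟨r'', h1, h2⟩ := pt_comp G r' r₀ hr'
    refine ⟨r'', ?_, ?_⟩
    · show G.s r'' ∈ Z
      rw [h1]; exact hr₀
    · rw [h2]
      exact hr'r.map G.t.continuous
  refine ⟨⟨Cᶜ, hC.isOpen_compl⟩, W', ?_, hW'c, ?_, ?_⟩
  · ext r
    simp only [Scheme.Hom.coe_preimage, Opens.coe_mk, Set.preimage_compl, Set.mem_compl_iff,
      Set.mem_preimage]
    constructor
    · intro h1 h2
      apply h1
      have := key (G.i r) (by rw [pt_i_s]; exact h2)
      rwa [pt_i_t] at this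
    · intro h1 h2
      exact h1 (key r h2)
  · intro w hw
    rintro ⟨r, hr, hsp⟩
    have h1 : G.t r ∈ (W : Set G.U) := hsp.mem_open W.2 hw
    have h2 : G.s r ∈ (W' : Set G.U) := by
      apply hEW'
      exact ⟨G.i r, by simpa [pt_i_s] using h1, pt_i_t G r⟩
    exact hr h2
  · intro y hy
    by_contra hyW
    apply hy
    refine ⟨G.e y, ?_, ?_⟩
    · show G.s (G.e y) ∈ Z
      rw [pt_e_s]; exact hyW
    · rw [pt_e_t]

end Groth.Agent.Lib.Helper4.GrpdInvOpen
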