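import Mathlib.AlgebraicGeometry.Morphisms.UniversallyOpen
import Mathlib.AlgebraicGeometry.ResidueField
import Mathlib.Topology.LocallyClosed
import Mathlib.Tactic
import Groth.Prelude.Def_Grpd
import Groth.Agent.Lib.Helper4.GrpdCalc
import Groth.Agent.Lib.Helper4.GrpdHom
import Groth.Agent.Lib.Helper4.GrpdAct
import Groth.Agent.Lib.Helper4.GrpdUO

set_option autoImplicit false
universe u
open CategoryTheory AlgebraicGeometry TopologicalSpace Limits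

namespace Groth.Agent.Lib.Helper4.GrpdLC

open Grpd GrpdCalc GrpdHom GrpdUO

variable {S : Scheme.{u}} {G₁ G₂ : GroupoidScheme S} (a : GroupoidScheme.Hom G₁ G₂)

/-- the image of the homomorphism -/
def H : Set G₂.R := Set.range a.fR

/-- its closure -/
def Z : Set G₂.R := closure (H a)

theorem H_sub_Z : H a ⊆ Z a := subset_closure
theorem isClosed_Z : IsClosed (Z a) := isClosed_closure

theorem mem_H_of_fac {T : Scheme.{u}} (α : T ⟶ G₂.R) (ξ : T ⟶ G₁.R) (h : α = ξ ≫ a.fR) (p : T) :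
    α p ∈ H a := by
  rw [h, Scheme.Hom.comp_apply]; exact Set.mem_range_self _

/-! ### right translations by points of `H` -/

/-- `(ζ, y) ↦ ζ ∘ fR(y)` -/
noncomputable def ρ : pullback G₂.s (a.fR ≫ G₂.t) ⟶ G₂.R :=
  cmp G₂ (pullback.fst G₂.s (a.fR ≫ G₂.t)) (pullback.snd G₂.s (a.fR ≫ G₂.t) ≫ a.fR)
    (by rw [Category.assoc]; exact pullback.condition)

theorem N_cond {T : Scheme.{u}} (n : T ⟶ pullback G₂.s (a.fR ≫ G₂.t)) :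
    (n ≫ pullback.fst G₂.s (a.fR ≫ G₂.t)) ≫ G₂.s =
      (n ≫ pullback.snd G₂.s (a.fR ≫ G₂.t) ≫ a.fR) ≫ G₂.t := by
  have := congrArg (fun x => n ≫ x) (pullback.condition (f := G₂.s) (g := a.fR ≫ G₂.t))
  simpa only [Category.assoc] using this

theorem precomp_ρ {T : Scheme.{u}} (n : T ⟶ pullback G₂.s (a.fR ≫ G₂.t)) :
    n ≫ ρ a = cmp G₂ (n ≫ pullback.fst G₂.s (a.fR ≫ G₂.t))
      (n ≫ pullback.snd G₂.s (a.fR ≫ G₂.t) ≫ a.fR) (N_cond a n) := by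
  unfold ρ
  rw [precomp G₂ n _ _ _ (N_cond a n)]

theorem ρ_H [Mono a.fU] (n : (pullback G₂.s (a.fR ≫ G₂.t) : Scheme.{u}))
    (h : pullback.fst G₂.s (a.fR ≫ G₂.t) n ∈ H a) : ρ a n ∈ H a := by
  obtain ⟨x₁, hx₁⟩ := h
  obtain ⟨p, hp, -⟩ := Scheme.Pullback.exists_preimage_pullback
    (f := pullback.fst G₂.s (a.fR ≫ G₂.t)) (g := a.fR) n x₁ hx₁.symm
  obtain ⟨x, hx⟩ : ∃ x : pullback (pullback.fst G₂.s (a.fR ≫ G₂.t)) a.fR ⟶ G₁.R,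
      x = pullback.snd _ _ := ⟨_, rfl⟩
  obtain ⟨y, hy⟩ : ∃ y : pullback (pullback.fst G₂.s (a.fR ≫ G₂.t)) a.fR ⟶ G₁.R,
      y = pullback.fst _ _ ≫ pullback.snd G₂.s (a.fR ≫ G₂.t) := ⟨_, rfl⟩
  obtain ⟨q, hq⟩ : ∃ q : pullback (pullback.fst G₂.s (a.fR ≫ G₂.t)) a.fR ⟶
      pullback G₂.s (a.fR ≫ G₂.t), q = pullback.fst _ _ := ⟨_, rfl⟩
  have h1 : q ≫ pullback.fst G₂.s (a.fR ≫ G₂.t) = x ≫ a.fR := by
    rw [hq, hx]; exact pullback.condition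
  have h2 : q ≫ pullback.snd G₂.s (a.fR ≫ G₂.t) ≫ a.fR = y ≫ a.fR := by
    rw [hq, hy, Category.assoc]
  have hxy : x ≫ G₁.s = y ≫ G₁.t := by
    rw [← cancel_mono a.fU, Category.assoc, Category.assoc, ← a.comm_s, ← a.comm_t,
      ← Category.assoc, ← Category.assoc, ← h1, ← h2]
    exact N_cond a q
  have h3 : q ≫ ρ a = cmp G₁ x y hxy ≫ a.fR := by
    rw [precomp_ρ, hom_cmp]
    exact cmp_congr G₂ h1 h2 _ _
  have := mem_H_of_fac a (q ≫ ρ a) _ h3 p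
  rw [Scheme.Hom.comp_apply, hq, hp] at this
  exact this

theorem ρ_Z [Mono a.fU] (hUO : UOBase G₂.U) (n : (pullback G₂.s (a.fR ≫ G₂.t) : Scheme.{u}))
    (h : pullback.fst G₂.s (a.fR ≫ G₂.t) n ∈ Z a) : ρ a n ∈ Z a := by
  have hpr : UniversallyOpen (pullback.fst G₂.s (a.fR ≫ G₂.t)) :=
    MorphismProperty.of_isPullback (P := @UniversallyOpen)
      (IsPullback.of_hasPullback G₂.s (a.fR ≫ G₂.t)).flip (hUO _)
  have h1 : pullback.fst G₂.s (a.fR ≫ G₂.t) ⁻¹' (Z a) ⊆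
      closure (pullback.fst G₂.s (a.fR ≫ G₂.t) ⁻¹' (H a)) :=
    (pullback.fst G₂.s (a.fR ≫ G₂.t)).isOpenMap.preimage_closure_subset_closure_preimage
  have h2 : closure (pullback.fst G₂.s (a.fR ≫ G₂.t) ⁻¹' (H a)) ⊆ ρ a ⁻¹' (Z a) := by
    apply closure_minimal
    · intro n hn
      exact H_sub_Z a (ρ_H a n hn)
    · exact (isClosed_Z a).preimage (ρ a).continuous
  exact h2 (h1 h)

/-! ### inversion -/

theorem i_H (r : G₂.R) (h : r ∈ H a) : G₂.i r ∈ H a := by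
  obtain ⟨x, rfl⟩ := h
  refine ⟨G₁.i x, ?_⟩
  rw [← Scheme.Hom.comp_apply, ← Scheme.Hom.comp_apply, comm_i]

theorem i_Z (r : G₂.R) (h : r ∈ Z a) : G₂.i r ∈ Z a := by
  have h1 : ⇑G₂.i '' closure (H a) ⊆ closure (⇑G₂.i '' H a) :=
    image_closure_subset_closure_image G₂.i.continuous
  have h2 : closure (⇑G₂.i '' H a) ⊆ Z a := by
    apply closure_mono
    rintro _ ⟨r, hr, rfl⟩
    exact i_H a r hr
  exact h2 (h1 ⟨r, h, rfl⟩)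

/-! ### left translations by a family of points of `Z` -/

section left

variable {T₀ : Scheme.{u}} (a' : T₀ ⟶ G₂.R)

theorem M_cond {T : Scheme.{u}} (n : T ⟶ pullback (a' ≫ G₂.s) G₂.t) :
    (n ≫ pullback.fst (a' ≫ G₂.s) G₂.t ≫ a') ≫ G₂.s =
      (n ≫ pullback.snd (a' ≫ G₂.s) G₂.t) ≫ G₂.t := by
  have := congrArg (fun x => n ≫ x) (pullback.condition (f := a' ≫ G₂.s) (g := G₂.t))
  simpa only [Category.assoc] using this

theorem precomp_μ {T : Scheme.{u}} (n : T ⟶ pullback (a' ≫ G₂.s) G₂.t) :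
    n ≫ GrpdAct.μ G₂ a' = cmp G₂ (n ≫ pullback.fst (a' ≫ G₂.s) G₂.t ≫ a')
      (n ≫ pullback.snd (a' ≫ G₂.s) G₂.t) (M_cond a' n) := by
  unfold GrpdAct.μ
  rw [precomp G₂ n _ _ _ (M_cond a' n)]

theorem μ_H_Z [Mono a.fU] (hUO : UOBase G₂.U) (ha' : ∀ w, a' w ∈ Z a)
    (m : (pullback (a' ≫ G₂.s) G₂.t : Scheme.{u}))
    (h : pullback.snd (a' ≫ G₂.s) G₂.t m ∈ H a) : GrpdAct.μ G₂ a' m ∈ Z a := by
  obtain ⟨y₁, hy₁⟩ := h
  obtain ⟨p, hp, -⟩ := Scheme.Pullback.exists_preimage_pullback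
    (f := pullback.snd (a' ≫ G₂.s) G₂.t) (g := a.fR) m y₁ hy₁.symm
  obtain ⟨q, hq⟩ : ∃ q : pullback (pullback.snd (a' ≫ G₂.s) G₂.t) a.fR ⟶
      pullback (a' ≫ G₂.s) G₂.t, q = pullback.fst _ _ := ⟨_, rfl⟩
  obtain ⟨y, hy⟩ : ∃ y : pullback (pullback.snd (a' ≫ G₂.s) G₂.t) a.fR ⟶ G₁.R,
      y = pullback.snd _ _ := ⟨_, rfl⟩
  have h1 : q ≫ pullback.snd (a' ≫ G₂.s) G₂.t = y ≫ a.fR := by
    rw [hq, hy]; exact pullback.condition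
  have hc : (q ≫ pullback.fst (a' ≫ G₂.s) G₂.t ≫ a') ≫ G₂.s = y ≫ a.fR ≫ G₂.t := by
    rw [M_cond a' q, h1, Category.assoc]
  let φ : pullback (pullback.snd (a' ≫ G₂.s) G₂.t) a.fR ⟶ pullback G₂.s (a.fR ≫ G₂.t) :=
    pullback.lift (q ≫ pullback.fst (a' ≫ G₂.s) G₂.t ≫ a') y hc
  have hφ : φ ≫ ρ a = q ≫ GrpdAct.μ G₂ a' := by
    rw [precomp_ρ, precomp_μ]
    apply cmp_congr G₂
    · exact pullback.lift_fst _ _ _
    · rw [pullback.lift_snd_assoc, h1]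
  have h2 : pullback.fst G₂.s (a.fR ≫ G₂.t) (φ p) ∈ Z a := by
    rw [← Scheme.Hom.comp_apply, pullback.lift_fst, ← Category.assoc, Scheme.Hom.comp_apply]
    exact ha' _
  have h3 := ρ_Z a hUO (φ p) h2
  rw [← Scheme.Hom.comp_apply, hφ, Scheme.Hom.comp_apply, hq, hp] at h3
  exact h3

theorem μ_Z_of_snd [Mono a.fU] (hUO : UOBase G₂.U) (ha' : ∀ w, a' w ∈ Z a)
    (m : (pullback (a' ≫ G₂.s) G₂.t : Scheme.{u}))
    (h : pullback.snd (a' ≫ G₂.s) G₂.t m ∈ Z a) : GrpdAct.μ G₂ a' m ∈ Z a := by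
  have hpr : UniversallyOpen (pullback.snd (a' ≫ G₂.s) G₂.t) :=
    MorphismProperty.of_isPullback (P := @UniversallyOpen)
      (IsPullback.of_hasPullback (a' ≫ G₂.s) G₂.t) (hUO _)
  have h1 : pullback.snd (a' ≫ G₂.s) G₂.t ⁻¹' (Z a) ⊆
      closure (pullback.snd (a' ≫ G₂.s) G₂.t ⁻¹' (H a)) :=
    (pullback.snd (a' ≫ G₂.s) G₂.t).isOpenMap.preimage_closure_subset_closure_preimage
  have h2 : closure (pullback.snd (a' ≫ G₂.s) G₂.t ⁻¹' (H a)) ⊆ GrpdAct.μ G₂ a' ⁻¹' (Z a) := by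
    apply closure_minimal
    · intro n hn
      exact μ_H_Z a a' hUO ha' n hn
    · exact (isClosed_Z a).preimage (GrpdAct.μ G₂ a').continuous
  exact h2 (h1 h)

/-- `(z, β) ↦ (z, a'(z) ∘ β)` into the translation space of `a' ≫ i` -/
noncomputable def θ : pullback (a' ≫ G₂.s) G₂.t ⟶ pullback ((a' ≫ G₂.i) ≫ G₂.s) G₂.t :=
  pullback.lift (pullback.fst (a' ≫ G₂.s) G₂.t) (GrpdAct.μ G₂ a') (by
    rw [GrpdAct.μ_t, Category.assoc a', G₂.i_s])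

theorem θ_snd : θ a' ≫ pullback.snd ((a' ≫ G₂.i) ≫ G₂.s) G₂.t = GrpdAct.μ G₂ a' :=
  pullback.lift_snd _ _ _

theorem θ_μ : θ a' ≫ GrpdAct.μ G₂ (a' ≫ G₂.i) = pullback.snd (a' ≫ G₂.s) G₂.t := by
  rw [precomp_μ]
  have h0 : (pullback.fst (a' ≫ G₂.s) G₂.t ≫ a') ≫ G₂.s = pullback.snd (a' ≫ G₂.s) G₂.t ≫ G₂.t := by
    rw [Category.assoc]; exact pullback.condition
  have hL := L1 G₂ (pullback.fst (a' ≫ G₂.s) G₂.t ≫ a') (pullback.snd (a' ≫ G₂.s) G₂.t) h0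
    (by rw [cmp_t, Category.assoc, G₂.i_s])
  rw [← hL]
  apply cmp_congr G₂
  · unfold θ
    rw [pullback.lift_fst_assoc, Category.assoc]
  · rw [θ_snd]; rfl

theorem snd_Z_of_μ [Mono a.fU] (hUO : UOBase G₂.U) (ha' : ∀ w, a' w ∈ Z a)
    (m : (pullback (a' ≫ G₂.s) G₂.t : Scheme.{u}))
    (h : GrpdAct.μ G₂ a' m ∈ Z a) : pullback.snd (a' ≫ G₂.s) G₂.t m ∈ Z a := by
  have ha'' : ∀ w, (a' ≫ G₂.i) w ∈ Z a := fun w => by
    rw [Scheme.Hom.comp_apply]; exact i_Z a _ (ha' w)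
  have h1 : pullback.snd ((a' ≫ G₂.i) ≫ G₂.s) G₂.t (θ a' m) ∈ Z a := by
    rw [← Scheme.Hom.comp_apply, θ_snd]; exact h
  have h2 := μ_Z_of_snd a (a' ≫ G₂.i) hUO ha'' (θ a' m) h1
  rw [← Scheme.Hom.comp_apply, θ_μ] at h2
  exact h2

theorem meets [Mono a.fU] (m : (pullback (a' ≫ G₂.s) G₂.t : Scheme.{u}))
    (h1 : pullback.snd (a' ≫ G₂.s) G₂.t m ∈ H a) (h2 : GrpdAct.μ G₂ a' m ∈ H a) :
    a' (pullback.fst (a' ≫ G₂.s) G₂.t m) ∈ H a := by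
  obtain ⟨x₁, hx₁⟩ := h2
  obtain ⟨y₁, hy₁⟩ := h1
  obtain ⟨p₁, hp₁, -⟩ := Scheme.Pullback.exists_preimage_pullback
    (f := GrpdAct.μ G₂ a') (g := a.fR) m x₁ hx₁.symm
  let q₀ : pullback (GrpdAct.μ G₂ a') a.fR ⟶ G₂.R :=
    pullback.fst (GrpdAct.μ G₂ a') a.fR ≫ pullback.snd (a' ≫ G₂.s) G₂.t
  have hq₀ : q₀ p₁ = a.fR y₁ := by
    show (pullback.fst (GrpdAct.μ G₂ a') a.fR ≫ pullback.snd (a' ≫ G₂.s) G₂.t) p₁ = _
    rw [Scheme.Hom.comp_apply, hp₁, hy₁]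
  obtain ⟨p₂, hp₂, -⟩ := Scheme.Pullback.exists_preimage_pullback (f := q₀) (g := a.fR) p₁ y₁ hq₀
  obtain ⟨pT, hpT⟩ : ∃ pT : pullback q₀ a.fR ⟶ pullback (a' ≫ G₂.s) G₂.t,
      pT = pullback.fst q₀ a.fR ≫ pullback.fst (GrpdAct.μ G₂ a') a.fR := ⟨_, rfl⟩
  obtain ⟨x, hx⟩ : ∃ x : pullback q₀ a.fR ⟶ G₁.R,
      x = pullback.fst q₀ a.fR ≫ pullback.snd (GrpdAct.μ G₂ a') a.fR := ⟨_, rfl⟩
  obtain ⟨y, hy⟩ : ∃ y : pullback q₀ a.fR ⟶ G₁.R, y = pullback.snd q₀ a.fR := ⟨_, rfl⟩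
  have hA : pT ≫ GrpdAct.μ G₂ a' = x ≫ a.fR := by
    rw [hpT, hx, Category.assoc, Category.assoc, pullback.condition]
  have hB : pT ≫ pullback.snd (a' ≫ G₂.s) G₂.t = y ≫ a.fR := by
    rw [hpT, hy, Category.assoc, ← pullback.condition]
  obtain ⟨α, hα⟩ : ∃ α, α = pT ≫ pullback.fst (a' ≫ G₂.s) G₂.t ≫ a' := ⟨_, rfl⟩
  have hαβ : α ≫ G₂.s = (y ≫ a.fR) ≫ G₂.t := by
    rw [hα, ← hB]; exact M_cond a' pT
  have hcmp : cmp G₂ α (y ≫ a.fR) hαβ = x ≫ a.fR := by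
    rw [← hA, precomp_μ]
    exact cmp_congr G₂ hα hB.symm _ _
  have hxy : x ≫ G₁.s = (y ≫ G₁.i) ≫ G₁.t := by
    rw [Category.assoc, G₁.i_t, ← cancel_mono a.fU, Category.assoc, Category.assoc, ← a.comm_s,
      ← Category.assoc, ← Category.assoc, ← hcmp, cmp_s]
  have h3 := L3 G₂ (y ≫ a.fR) α hαβ (by rw [cmp_s, Category.assoc (y ≫ a.fR), G₂.i_t])
  have h4 : (y ≫ a.fR) ≫ G₂.i = (y ≫ G₁.i) ≫ a.fR := by
    rw [Category.assoc, comm_i, Category.assoc]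
  have h5 : α = cmp G₁ x (y ≫ G₁.i) hxy ≫ a.fR := by
    rw [hom_cmp, ← h3]
    exact cmp_congr G₂ hcmp h4 _ _
  have h6 := mem_H_of_fac a α _ h5 p₂
  rw [hα, Scheme.Hom.comp_apply, Scheme.Hom.comp_apply, hpT, Scheme.Hom.comp_apply, hp₂, hp₁] at h6
  exact h6

end left

/-- a locally closed image of a homomorphism of groupoid schemes is closed -/
theorem main [IsIso a.fU] (hUO : UOBase G₂.U) (hlc : IsLocallyClosed (Set.range ⇑a.fR)) :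
    IsClosed (Set.range ⇑a.fR) := by
  obtain ⟨O, C, hO, hC, hHO⟩ := hlc
  have hZC : Z a ⊆ C :=
    closure_minimal (by show Set.range a.fR ⊆ C; rw [hHO]; exact Set.inter_subset_right) hC
  have hOZ : ∀ r, r ∈ O → r ∈ Z a → r ∈ H a := fun r h1 h2 => by
    show r ∈ Set.range a.fR
    rw [hHO]; exact ⟨h1, hZC h2⟩
  have hHsubO : H a ⊆ O := fun r hr => by
    have : r ∈ Set.range a.fR := hr
    rw [hHO] at this
    exact this.1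
  suffices hsub : Z a ⊆ H a by
    have : H a = Z a := Set.Subset.antisymm (H_sub_Z a) hsub
    show IsClosed (H a)
    rw [this]; exact isClosed_Z a
  intro z hz
  let a' := G₂.R.fromSpecResidueField z
  have ha' : ∀ w, a' w ∈ Z a := fun w => by
    rw [Scheme.fromSpecResidueField_apply]; exact hz
  have hμo := universallyOpen_μ G₂ hUO a'
  have hpr : UniversallyOpen (pullback.snd (a' ≫ G₂.s) G₂.t) :=
    MorphismProperty.of_isPullback (P := @UniversallyOpen)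
      (IsPullback.of_hasPullback (a' ≫ G₂.s) G₂.t) (hUO _)
  -- base point
  have hcond : 𝟙 _ ≫ a' ≫ G₂.s = (a' ≫ G₂.s ≫ G₂.e) ≫ G₂.t := by
    rw [Category.id_comp, Category.assoc, Category.assoc, G₂.e_t, Category.comp_id]
  let m₀ : (pullback (a' ≫ G₂.s) G₂.t : Scheme.{u}) :=
    (pullback.lift (𝟙 _) (a' ≫ G₂.s ≫ G₂.e) hcond) (default : Spec (G₂.R.residueField z))
  have hm₀ : pullback.snd (a' ≫ G₂.s) G₂.t m₀ ∈ H a := by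
    have h1 : G₂.e = inv a.fU ≫ G₁.e ≫ a.fR := by
      rw [comm_e, IsIso.inv_hom_id_assoc]
    show pullback.snd (a' ≫ G₂.s) G₂.t ((pullback.lift (𝟙 _) (a' ≫ G₂.s ≫ G₂.e) hcond) _) ∈ H a
    rw [← Scheme.Hom.comp_apply, pullback.lift_snd]
    exact mem_H_of_fac a _ (a' ≫ G₂.s ≫ inv a.fU ≫ G₁.e) (by rw [h1]; simp only [Category.assoc]) _
  have hm₀Z : GrpdAct.μ G₂ a' m₀ ∈ Z a := μ_Z_of_snd a a' hUO ha' m₀ (H_sub_Z a hm₀)
  -- a point of μ⁻¹(H)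
  have hd1 : GrpdAct.μ G₂ a' ⁻¹' (Z a) ⊆ closure (GrpdAct.μ G₂ a' ⁻¹' (H a)) :=
    (GrpdAct.μ G₂ a').isOpenMap.preimage_closure_subset_closure_preimage
  obtain ⟨m₁, hm₁⟩ : (GrpdAct.μ G₂ a' ⁻¹' (H a)).Nonempty := by
    have : m₀ ∈ closure (GrpdAct.μ G₂ a' ⁻¹' (H a)) := hd1 hm₀Z
    exact closure_nonempty_iff.mp ⟨m₀, this⟩
  have hm₁Z : pullback.snd (a' ≫ G₂.s) G₂.t m₁ ∈ Z a :=
    snd_Z_of_μ a a' hUO ha' m₁ (H_sub_Z a hm₁)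
  have hd2 : pullback.snd (a' ≫ G₂.s) G₂.t ⁻¹' (Z a) ⊆
      closure (pullback.snd (a' ≫ G₂.s) G₂.t ⁻¹' (H a)) :=
    (pullback.snd (a' ≫ G₂.s) G₂.t).isOpenMap.preimage_closure_subset_closure_preimage
  have hB'o : IsOpen (GrpdAct.μ G₂ a' ⁻¹' O) := hO.preimage (GrpdAct.μ G₂ a').continuous
  obtain ⟨m, hmB, hmA⟩ := mem_closure_iff.mp (hd2 hm₁Z) _ hB'o (hHsubO hm₁)
  have hmμ : GrpdAct.μ G₂ a' m ∈ H a :=
    hOZ _ hmB (μ_Z_of_snd a a' hUO ha' m (H_sub_Z a hmA))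
  have := meets a a' m hmA hmμ
  rwa [Scheme.fromSpecResidueField_apply] at this

end Groth.Agent.Lib.Helper4.GrpdLC
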