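import Mathlib.AlgebraicGeometry.ResidueField
import Mathlib.AlgebraicGeometry.Pullbacks
import Mathlib.RingTheory.LocalRing.ResidueField.Ideal
import Mathlib.Tactic
import Groth.Prelude.Def_Grpd
import Groth.Agent.Lib.Helper4.GrpdCalc

set_option autoImplicit false
universe u
open CategoryTheory AlgebraicGeometry TopologicalSpace Limits

namespace Groth.Agent.Lib.Helper4.GrpdTranslate

open Grpd GrpdCalc

theorem isIso_fromSpecResidueField_field (k : Type u) [Field k] (x : Spec (CommRingCat.of k)) :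
    IsIso ((Spec (CommRingCat.of k)).fromSpecResidueField x) := by
  rw [← Scheme.Spec.map_residueFieldIso_inv_eq_fromSpecResidueField]
  have hmax : x.asIdeal.IsMaximal := by
    have : x.asIdeal = ⊥ := Ideal.eq_bot_of_prime (h := x.isPrime)
    rw [this]; exact Ideal.bot_isMaximal
  have h2 : IsIso (CommRingCat.ofHom (algebraMap (CommRingCat.of k) x.asIdeal.ResidueField)) := by
    rw [ConcreteCategory.isIso_iff_bijective]
    refine ⟨?_, ?_⟩
    · exact (algebraMap k x.asIdeal.ResidueField).injective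
    · exact Ideal.algebraMap_residueField_surjective x.asIdeal
  infer_instance

theorem isIso_fromSpecResidueField {U : Scheme.{u}} (k : Type u) [Field k]
    (eU : U ≅ Spec (CommRingCat.of k)) (x : U) : IsIso (U.fromSpecResidueField x) := by
  have h1 := eU.hom.SpecMap_residueFieldMap_fromSpecResidueField x
  have h2 := isIso_fromSpecResidueField_field k (eU.hom x)
  have h3 : U.fromSpecResidueField x =
      (Spec.map (eU.hom.residueFieldMap x) ≫
        (Spec (CommRingCat.of k)).fromSpecResidueField (eU.hom x)) ≫ eU.inv := by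
    rw [h1, Category.assoc, Iso.hom_inv_id, Category.comp_id]
  rw [h3]
  infer_instance

variable {S : Scheme.{u}} (G : GroupoidScheme S)

/-- a section of `s` through a point with trivial residue field extension -/
theorem exists_section (k : Type u) [Field k] (eU : G.U ≅ Spec (CommRingCat.of k)) (r : G.R)
    (hs : IsIso (G.s.residueFieldMap r)) (ht : IsIso (G.t.residueFieldMap r)) :
    ∃ ρ : G.U ⟶ G.R, ρ ≫ G.s = 𝟙 _ ∧ IsIso (ρ ≫ G.t) ∧ ∀ x, ρ x = r := by
  let ρ₀ := G.R.fromSpecResidueField r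
  have h1 : ρ₀ ≫ G.s = Spec.map (G.s.residueFieldMap r) ≫ G.U.fromSpecResidueField (G.s r) :=
    (G.s.SpecMap_residueFieldMap_fromSpecResidueField r).symm
  have h2 : ρ₀ ≫ G.t = Spec.map (G.t.residueFieldMap r) ≫ G.U.fromSpecResidueField (G.t r) :=
    (G.t.SpecMap_residueFieldMap_fromSpecResidueField r).symm
  have i1 : IsIso (ρ₀ ≫ G.s) := by
    rw [h1]
    have := isIso_fromSpecResidueField k eU (G.s r)
    infer_instance
  have i2 : IsIso (ρ₀ ≫ G.t) := by
    rw [h2]
    have := isIso_fromSpecResidueField k eU (G.t r)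
    infer_instance
  refine ⟨inv (ρ₀ ≫ G.s) ≫ ρ₀, ?_, ?_, ?_⟩
  · rw [Category.assoc, IsIso.inv_hom_id]
  · rw [Category.assoc]; infer_instance
  · intro x
    rw [Scheme.Hom.comp_apply]
    exact Scheme.fromSpecResidueField_apply _ _

theorem main (k : Type u) [Field k] (eU : G.U ≅ Spec (CommRingCat.of k)) (r : G.R)
    (hs : IsIso (G.s.residueFieldMap r)) (ht : IsIso (G.t.residueFieldMap r)) :
    ∃ φ : G.R ≅ G.R, φ.hom (G.e (eU.inv (IsLocalRing.closedPoint k))) = r := by
  obtain ⟨ρ, hρs, hρt, hρ⟩ := exists_section G k eU r hs ht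
  let τ := ρ ≫ G.t
  let a : G.R ⟶ G.R := G.t ≫ ρ
  have ha : a ≫ G.s = 𝟙 _ ≫ G.t := by
    simp only [a, Category.assoc, hρs, Category.comp_id, Category.id_comp]
  let b : G.R ⟶ G.R := G.t ≫ inv τ ≫ ρ
  have hbs : b ≫ G.s = G.t ≫ inv τ := by
    simp only [b, Category.assoc, hρs, Category.comp_id]
  have hbt : b ≫ G.t = G.t := by
    simp only [b, Category.assoc]
    change G.t ≫ inv τ ≫ τ = G.t
    rw [IsIso.inv_hom_id, Category.comp_id]
  have hb : (b ≫ G.i) ≫ G.s = 𝟙 _ ≫ G.t := by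
    rw [Category.assoc, G.i_s, hbt, Category.id_comp]
  let φ : G.R ⟶ G.R := cmp G a (𝟙 _) ha
  let ψ : G.R ⟶ G.R := cmp G (b ≫ G.i) (𝟙 _) hb
  have hφt : φ ≫ G.t = G.t ≫ τ := by
    simp only [φ, cmp_t, a, Category.assoc, τ]
  have hψt : ψ ≫ G.t = G.t ≫ inv τ := by
    simp only [ψ, cmp_t]
    rw [Category.assoc, G.i_t, hbs]
  have h1 : φ ≫ ψ = 𝟙 _ := by
    have e1 : φ ≫ b ≫ G.i = a ≫ G.i := by
      have : φ ≫ b = a := by
        show φ ≫ G.t ≫ inv τ ≫ ρ = G.t ≫ ρ
        rw [← Category.assoc, hφt, Category.assoc, IsIso.hom_inv_id_assoc]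
      rw [← Category.assoc, this]
    show φ ≫ cmp G (b ≫ G.i) (𝟙 _) hb = 𝟙 _
    rw [precomp G φ _ _ _ (by rw [Category.comp_id, e1, Category.assoc, G.i_s, hφt]; simp [a, τ])]
    rw [cmp_congr G e1 (Category.comp_id φ) _ (by rw [Category.assoc, G.i_s, hφt]; simp [a, τ])]
    exact L1 G a (𝟙 _) ha _
  have h2 : ψ ≫ φ = 𝟙 _ := by
    have e1 : ψ ≫ a = b := by
      simp only [a, b]
      rw [← Category.assoc, hψt, Category.assoc]
    show ψ ≫ cmp G a (𝟙 _) ha = 𝟙 _
    rw [precomp G ψ _ _ _ (by rw [Category.comp_id, e1, hbs, hψt])]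
    rw [cmp_congr G e1 (Category.comp_id ψ) _ (by rw [hbs, hψt])]
    exact L2 G b (𝟙 _) hb _
  refine ⟨⟨φ, ψ, h1, h2⟩, ?_⟩
  show φ _ = r
  have h3 : G.e ≫ φ = ρ := by
    show G.e ≫ cmp G a (𝟙 _) ha = ρ
    rw [precomp G G.e _ _ _ (by simp [a, hρs])]
    have e2 : G.e ≫ a = ρ := by
      simp only [a]; rw [← Category.assoc, G.e_t, Category.id_comp]
    rw [cmp_congr G e2 (Category.comp_id G.e) _ (by rw [hρs, G.e_t])]
    exact cmp_e G ρ G.e (by rw [← Category.assoc, hρs, Category.id_comp]) _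
  rw [← Scheme.Hom.comp_apply, h3]
  exact hρ _

end Groth.Agent.Lib.Helper4.GrpdTranslate
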