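import Mathlib.Tactic
import Mathlib.CategoryTheory.Limits.Shapes.FiniteProducts
import Mathlib.CategoryTheory.Limits.Shapes.Pullback.HasPullback
import Mathlib.AlgebraicTopology.SimplexCategory.Basic
import Groth.Agent.Lib.Helper4.CoskPw

namespace Groth.Agent.Lib.Helper4.Refine1

open CategoryTheory CategoryTheory.Limits Opposite Simplicial

universe v' u'

variable {E : Type u'} [Category.{v'} E] [HasFiniteLimits E]
  (K : SimplicialObject E) (n : ℕ) {Z : E} (u : Z ⟶ K.obj (op ⦋n⦌))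

/-- the product of copies of `K_n` indexed by maps `[n] ⟶ m` -/
noncomputable abbrev PK (m : SimplexCategory) : E := ∏ᶜ fun _ : (⦋n⦌ ⟶ m) => K.obj (op ⦋n⦌)

/-- the product of copies of `Z` -/
noncomputable abbrev PZ (Z : E) (m : SimplexCategory) : E := ∏ᶜ fun _ : (⦋n⦌ ⟶ m) => Z

/-- all `n`-faces -/
noncomputable def a (m : SimplexCategory) : K.obj (op m) ⟶ PK K n m :=
  Pi.lift fun φ => K.map φ.op

/-- the map induced by `u` -/
noncomputable def bmap (m : SimplexCategory) : PZ n Z m ⟶ PK K n m :=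
  Limits.Pi.map fun _ => u

/-- the refined simplicial object, on objects -/
noncomputable abbrev Lobj (m : SimplexCategory) : E := pullback (a K n m) (bmap K n u m)

/-- the projection to `K` -/
noncomputable def fL (m : SimplexCategory) : Lobj K n u m ⟶ K.obj (op m) := pullback.fst _ _

/-- the projection to `Z` -/
noncomputable def ζ (m : SimplexCategory) (φ : ⦋n⦌ ⟶ m) : Lobj K n u m ⟶ Z :=
  pullback.snd _ _ ≫ Pi.π _ φ

lemma ζ_u (m : SimplexCategory) (φ : ⦋n⦌ ⟶ m) :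
    ζ K n u m φ ≫ u = fL K n u m ≫ K.map φ.op := by
  have h := pullback.condition (f := a K n m) (g := bmap K n u m)
  have h1 : a K n m ≫ Pi.π (fun _ : (⦋n⦌ ⟶ m) => K.obj (op ⦋n⦌)) φ = K.map φ.op := Pi.lift_π _ _
  have h2 : bmap K n u m ≫ Pi.π (fun _ : (⦋n⦌ ⟶ m) => K.obj (op ⦋n⦌)) φ =
      Pi.π (fun _ : (⦋n⦌ ⟶ m) => Z) φ ≫ u := Limits.Pi.map_π _ _
  calc ζ K n u m φ ≫ u
      = pullback.snd (a K n m) (bmap K n u m) ≫ (Pi.π (fun _ : (⦋n⦌ ⟶ m) => Z) φ ≫ u) :=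
        Category.assoc _ _ _
    _ = pullback.snd (a K n m) (bmap K n u m) ≫ (bmap K n u m ≫ Pi.π _ φ) := by rw [h2]
    _ = (pullback.snd (a K n m) (bmap K n u m) ≫ bmap K n u m) ≫ Pi.π _ φ :=
        (Category.assoc _ _ _).symm
    _ = (pullback.fst (a K n m) (bmap K n u m) ≫ a K n m) ≫ Pi.π _ φ := by rw [h]
    _ = pullback.fst (a K n m) (bmap K n u m) ≫ (a K n m ≫ Pi.π _ φ) := Category.assoc _ _ _
    _ = fL K n u m ≫ K.map φ.op := by rw [h1]; rfl

variable {K n u}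

/-- lifting into `L_m` -/
noncomputable def liftL {m : SimplexCategory} {T : E} (x : T ⟶ K.obj (op m))
    (z : (⦋n⦌ ⟶ m) → (T ⟶ Z)) (h : ∀ φ, z φ ≫ u = x ≫ K.map φ.op) : T ⟶ Lobj K n u m :=
  pullback.lift x (Pi.lift z) (by
    apply Limits.Pi.hom_ext
    intro φ
    unfold a bmap
    rw [Category.assoc, Category.assoc, Pi.lift_π, Limits.Pi.map_π, ← Category.assoc, Pi.lift_π]
    exact (h φ).symm)

@[reassoc (attr := simp)]
lemma liftL_f {m : SimplexCategory} {T : E} (x : T ⟶ K.obj (op m))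
    (z : (⦋n⦌ ⟶ m) → (T ⟶ Z)) (h : ∀ φ, z φ ≫ u = x ≫ K.map φ.op) :
    liftL x z h ≫ fL K n u m = x := pullback.lift_fst _ _ _

@[reassoc (attr := simp)]
lemma liftL_ζ {m : SimplexCategory} {T : E} (x : T ⟶ K.obj (op m))
    (z : (⦋n⦌ ⟶ m) → (T ⟶ Z)) (h : ∀ φ, z φ ≫ u = x ≫ K.map φ.op) (φ : ⦋n⦌ ⟶ m) :
    liftL x z h ≫ ζ K n u m φ = z φ := by
  unfold liftL ζ
  rw [pullback.lift_snd_assoc, Pi.lift_π]

lemma Lobj_hom_ext {m : SimplexCategory} {T : E} (s t : T ⟶ Lobj K n u m)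
    (h1 : s ≫ fL K n u m = t ≫ fL K n u m)
    (h2 : ∀ φ, s ≫ ζ K n u m φ = t ≫ ζ K n u m φ) : s = t := by
  apply pullback.hom_ext h1
  apply Limits.Pi.hom_ext
  intro φ
  have := h2 φ
  unfold ζ at this
  rw [Category.assoc, Category.assoc]
  exact this

variable (K n u)

/-- the structure maps of the refinement -/
noncomputable def Lmap {m m' : SimplexCategory} (ψ : m' ⟶ m) : Lobj K n u m ⟶ Lobj K n u m' :=
  liftL (fL K n u m ≫ K.map ψ.op) (fun φ' => ζ K n u m (φ' ≫ ψ)) (by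
    intro φ'
    rw [ζ_u, Category.assoc, ← K.map_comp]
    rfl)

@[reassoc (attr := simp)]
lemma Lmap_f {m m' : SimplexCategory} (ψ : m' ⟶ m) :
    Lmap K n u ψ ≫ fL K n u m' = fL K n u m ≫ K.map ψ.op := liftL_f _ _ _

@[reassoc (attr := simp)]
lemma Lmap_ζ {m m' : SimplexCategory} (ψ : m' ⟶ m) (φ' : ⦋n⦌ ⟶ m') :
    Lmap K n u ψ ≫ ζ K n u m' φ' = ζ K n u m (φ' ≫ ψ) := liftL_ζ _ _ _ _

/-- the refinement as a simplicial object -/
noncomputable def L : SimplicialObject E where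
  obj X := Lobj K n u X.unop
  map {X Y} g := Lmap K n u g.unop
  map_id X := by
    apply Lobj_hom_ext
    · rw [Lmap_f, Category.id_comp]
      have : (𝟙 X : X ⟶ X).unop.op = 𝟙 X := rfl
      rw [this, K.map_id]
      exact Category.comp_id _
    · intro φ
      rw [Lmap_ζ, Category.id_comp]
      congr 1
      exact Category.comp_id φ
  map_comp {X Y W} g h := by
    apply Lobj_hom_ext
    · rw [Lmap_f, Category.assoc, Lmap_f, Lmap_f_assoc, ← K.map_comp]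
      rfl
    · intro φ
      rw [Lmap_ζ, Category.assoc, Lmap_ζ, Lmap_ζ]
      exact congrArg (ζ K n u (unop X)) (Category.assoc _ _ _).symm

/-- the map to `K` -/
noncomputable def fNat : L K n u ⟶ K where
  app X := fL K n u X.unop
  naturality X Y g := Lmap_f K n u g.unop

/-- the map `L_n ⟶ Z` -/
noncomputable def gmap : (L K n u).obj (op ⦋n⦌) ⟶ Z := ζ K n u ⦋n⦌ (𝟙 _)

lemma gmap_u : gmap K n u ≫ u = (fNat K n u).app (op ⦋n⦌) := by
  have h := ζ_u K n u ⦋n⦌ (𝟙 _)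
  have h2 : K.map (𝟙 (⦋n⦌ : SimplexCategory)).op = 𝟙 _ := K.map_id _
  rw [h2, Category.comp_id] at h
  exact h

section Cosk

variable (m : ℕ)
  [∀ (F : (SimplexCategory.Truncated m)ᵒᵖ ⥤ E),
    (SimplexCategory.Truncated.inclusion m).op.HasPointwiseRightKanExtension F]

/-- index object for a simplex map -/
def mkIdx (d : SimplexCategory) (hd : d.len ≤ m) (θ : d ⟶ ⦋m + 1⦌) :
    CoskPw.Idx m (op ⦋m + 1⦌) :=
  StructuredArrow.mk (Y := op (⟨d, hd⟩ : SimplexCategory.Truncated m)) θ.op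

omit [HasFiniteLimits E] in
lemma π_comp (M : SimplicialObject E) {d d' : SimplexCategory} (hd : d.len ≤ m) (hd' : d'.len ≤ m)
    (θ : d ⟶ ⦋m + 1⦌) (ψ : d' ⟶ d) :
    CoskPw.π m M (mkIdx m d' hd' (ψ ≫ θ)) = CoskPw.π m M (mkIdx m d hd θ) ≫ M.map ψ.op := by
  let φ : mkIdx m d hd θ ⟶ mkIdx m d' hd' (ψ ≫ θ) :=
    StructuredArrow.homMk (SimplexCategory.Truncated.Hom.tr ψ hd' hd).op rfl
  exact (CoskPw.π_naturality m M φ).symm

omit [HasFiniteLimits E] in
lemma cosk_map_π {M N : SimplicialObject E} (f : M ⟶ N) {X : SimplexCategoryᵒᵖ}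
    (A : CoskPw.Idx m X) :
    ((SimplicialObject.cosk m).map f).app X ≫ CoskPw.π m N A =
      CoskPw.π m M A ≫ f.app ((SimplexCategory.Truncated.inclusion m).op.obj A.right) := by
  have h1 : ((SimplicialObject.cosk m).obj M).map A.hom ≫
      ((SimplicialObject.cosk m).map f).app ((SimplexCategory.Truncated.inclusion m).op.obj A.right) =
      ((SimplicialObject.cosk m).map f).app X ≫ ((SimplicialObject.cosk m).obj N).map A.hom :=
    ((SimplicialObject.cosk m).map f).naturality A.hom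
  have h2 : ((SimplicialObject.cosk m).map f).app
        ((SimplexCategory.Truncated.inclusion m).op.obj A.right) ≫ (CoskPw.ε m N).app A.right =
      (CoskPw.ε m M).app A.right ≫ f.app ((SimplexCategory.Truncated.inclusion m).op.obj A.right) :=
    NatTrans.congr_app
      ((SimplicialObject.coskAdj m).counit.naturality ((SimplicialObject.truncation m).map f)) A.right
  exact (Category.assoc _ _ _).symm.trans
    ((congrArg (fun z => z ≫ (CoskPw.ε m N).app A.right) h1.symm).trans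
      ((Category.assoc _ _ _).trans
        ((congrArg (fun z => ((SimplicialObject.cosk m).obj M).map A.hom ≫ z) h2).trans
          (Category.assoc _ _ _).symm)))


variable {T : E} (b : T ⟶ ((SimplicialObject.cosk m).obj (L K n u)).obj (op ⦋m + 1⦌))

/-- the components of `b` -/
noncomputable def bA (d : SimplexCategory) (hd : d.len ≤ m) (θ : d ⟶ ⦋m + 1⦌) :
    T ⟶ Lobj K n u d :=
  b ≫ CoskPw.π m (L K n u) (mkIdx m d hd θ)

lemma bA_comp {d d' : SimplexCategory} (hd : d.len ≤ m) (hd' : d'.len ≤ m) (θ : d ⟶ ⦋m + 1⦌)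
    (ψ : d' ⟶ d) :
    bA K n u m b d' hd' (ψ ≫ θ) = bA K n u m b d hd θ ≫ Lmap K n u ψ := by
  unfold bA
  rw [π_comp m (L K n u) hd hd' θ ψ]
  exact (Category.assoc _ _ _).symm

variable (x : T ⟶ K.obj (op ⦋m + 1⦌))
  (hx : x ≫ (CoskPw.η m K).app (op ⦋m + 1⦌) =
    b ≫ ((SimplicialObject.cosk m).map (fNat K n u)).app (op ⦋m + 1⦌))

include hx in
lemma bA_f (d : SimplexCategory) (hd : d.len ≤ m) (θ : d ⟶ ⦋m + 1⦌) :
    bA K n u m b d hd θ ≫ fL K n u d = x ≫ K.map θ.op := by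
  have h1 := congrArg (fun z => z ≫ CoskPw.π m K (mkIdx m d hd θ)) hx
  have h2 : (x ≫ (CoskPw.η m K).app (op ⦋m + 1⦌)) ≫ CoskPw.π m K (mkIdx m d hd θ) =
      x ≫ K.map θ.op :=
    (Category.assoc _ _ _).trans (congrArg (fun z => x ≫ z) (CoskPw.η_π m K (mkIdx m d hd θ)))
  have h3 : (b ≫ ((SimplicialObject.cosk m).map (fNat K n u)).app (op ⦋m + 1⦌)) ≫
      CoskPw.π m K (mkIdx m d hd θ) = bA K n u m b d hd θ ≫ fL K n u d :=
    (Category.assoc _ _ _).trans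
      ((congrArg (fun z => b ≫ z) (cosk_map_π m (fNat K n u) (mkIdx m d hd θ))).trans
        (Category.assoc _ _ _).symm)
  exact h3.symm.trans (h1.symm.trans h2)


variable (zs : (⦋n⦌ ⟶ ⦋m + 1⦌) → (T ⟶ Z))

/-- the assembled `Z`-components -/
noncomputable def zAll (φ : ⦋n⦌ ⟶ ⦋m + 1⦌) : T ⟶ Z :=
  if h : (Limits.image φ).len ≤ m then
    bA K n u m b (Limits.image φ) h (Limits.image.ι φ) ≫ ζ K n u (Limits.image φ) (factorThruImage φ)
  else zs φ

lemma claim (d : SimplexCategory) (hd : d.len ≤ m) (θ : d ⟶ ⦋m + 1⦌) (φ'' : ⦋n⦌ ⟶ d) :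
    bA K n u m b d hd θ ≫ ζ K n u d φ'' = zAll K n u m b zs (φ'' ≫ θ) := by
  -- image factorisation of θ
  have hJ : (Limits.image θ).len ≤ m :=
    (SimplexCategory.len_le_of_epi (factorThruImage θ)).trans hd
  have hsq : CommSq (φ'' ≫ factorThruImage θ) (factorThruImage (φ'' ≫ θ))
      (Limits.image.ι θ) (Limits.image.ι (φ'' ≫ θ)) := ⟨by
    rw [Limits.image.fac, Category.assoc, Limits.image.fac]⟩
  let ψ : Limits.image (φ'' ≫ θ) ⟶ Limits.image θ := hsq.lift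
  have hψ1 : factorThruImage (φ'' ≫ θ) ≫ ψ = φ'' ≫ factorThruImage θ := hsq.fac_left
  have hψ2 : ψ ≫ Limits.image.ι θ = Limits.image.ι (φ'' ≫ θ) := hsq.fac_right
  have : Mono ψ := mono_of_mono_fac hψ2
  have hI : (Limits.image (φ'' ≫ θ)).len ≤ m := (SimplexCategory.len_le_of_mono ψ).trans hJ
  unfold zAll
  rw [dif_pos hI]
  have e1 : bA K n u m b d hd θ = bA K n u m b (Limits.image θ) hJ (Limits.image.ι θ) ≫
      Lmap K n u (factorThruImage θ) :=
    (congrArg (bA K n u m b d hd) (Limits.image.fac θ).symm).trans (bA_comp K n u m b hJ hd _ _)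
  have e2 : bA K n u m b (Limits.image (φ'' ≫ θ)) hI (Limits.image.ι (φ'' ≫ θ)) =
      bA K n u m b (Limits.image θ) hJ (Limits.image.ι θ) ≫ Lmap K n u ψ :=
    (congrArg (bA K n u m b (Limits.image (φ'' ≫ θ)) hI) hψ2.symm).trans
      (bA_comp K n u m b hJ hI _ _)
  rw [e1, e2, Category.assoc, Category.assoc, Lmap_ζ, Lmap_ζ, hψ1]


variable (hzs : ∀ φ, zs φ ≫ u = x ≫ K.map φ.op)

include hx hzs in
lemma zAll_u (φ : ⦋n⦌ ⟶ ⦋m + 1⦌) : zAll K n u m b zs φ ≫ u = x ≫ K.map φ.op := by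
  unfold zAll
  split_ifs with h
  · rw [Category.assoc, ζ_u, ← Category.assoc, bA_f K n u m b x hx, Category.assoc, ← K.map_comp,
      ← op_comp, Limits.image.fac]
  · exact hzs φ

include hx in
lemma lemmaA_aux (t : T ⟶ Lobj K n u ⦋m + 1⦌) (ht1 : t ≫ fL K n u ⦋m + 1⦌ = x)
    (ht2 : ∀ φ, t ≫ ζ K n u ⦋m + 1⦌ φ = zAll K n u m b zs φ)
    (d : SimplexCategory) (hd : d.len ≤ m) (θ : d ⟶ ⦋m + 1⦌) :
    t ≫ Lmap K n u θ = bA K n u m b d hd θ := by
  apply Lobj_hom_ext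
  · rw [Category.assoc, Lmap_f, bA_f K n u m b x hx, ← Category.assoc, ht1]
  · intro φ''
    rw [Category.assoc, Lmap_ζ, claim, ht2]

include hx hzs in
theorem lemmaA : ∃ t : T ⟶ (L K n u).obj (op ⦋m + 1⦌),
    t ≫ (CoskPw.η m (L K n u)).app (op ⦋m + 1⦌) = b ∧ t ≫ (fNat K n u).app (op ⦋m + 1⦌) = x := by
  let t : T ⟶ (L K n u).obj (op ⦋m + 1⦌) :=
    liftL x (zAll K n u m b zs) (zAll_u K n u m b x hx zs hzs)
  have ht1 : t ≫ fL K n u ⦋m + 1⦌ = x := liftL_f _ _ _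
  have ht2 : ∀ φ, t ≫ ζ K n u ⦋m + 1⦌ φ = zAll K n u m b zs φ := fun φ => liftL_ζ _ _ _ φ
  refine ⟨t, ?_, ht1⟩
  apply CoskPw.hom_ext
  intro A
  refine (Category.assoc _ _ _).trans ?_
  refine (congrArg (fun z => t ≫ z) (CoskPw.η_π m (L K n u) A)).trans ?_
  obtain ⟨⟨⟨⟩⟩, ⟨⟨d, hd⟩⟩, θ⟩ := A
  exact lemmaA_aux K n u m b x hx zs t ht1 ht2 d hd θ.unop

end Cosk

end Groth.Agent.Lib.Helper4.Refine1
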