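import Mathlib.Tactic
import Groth.Agent.Lib.Helper4.HyperSite
import Groth.Agent.Lib.Helper4.HyperPB
import Groth.Agent.Lib.Helper4.Refine1

namespace Groth.Agent.Lib.Helper4.Refine2

open CategoryTheory CategoryTheory.Limits Opposite Simplicial Groth.Agent.Lib.Helper4.SRCov
  Groth.Agent.Lib.Helper4

universe u

section General

variable {D : Type u} [SmallCategory D] (JD : GrothendieckTopology D)

/-- the sieve of arrows over which `y` lifts along `p` -/
def liftSieve {P Y : FormalCoproduct.{u} D} (p : P ⟶ Y) {V : D}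
    (y : (FormalCoproduct.incl D).obj V ⟶ Y) : Sieve V where
  arrows W h := ∃ z : (FormalCoproduct.incl D).obj W ⟶ P, z ≫ p = (FormalCoproduct.incl D).map h ≫ y
  downward_closed := by
    rintro W W' h ⟨z, hz⟩ f
    refine ⟨(FormalCoproduct.incl D).map f ≫ z, ?_⟩
    rw [Category.assoc, hz, Functor.map_comp, Category.assoc]

theorem liftSieve_mem {P Y : FormalCoproduct.{u} D} (p : P ⟶ Y) (hp : Hyper.IsSRCovering JD p)
    {V : D} (y : (FormalCoproduct.incl D).obj V ⟶ Y) : liftSieve p y ∈ JD V := by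
  refine JD.superset_covering ?_ (JD.pullback_stable (y.φ PUnit.unit) (hp (y.f PUnit.unit)))
  intro W g hg
  obtain ⟨i, hi, c, hc⟩ := srSieve_exists p _ _ hg
  exact ⟨FormalCoproduct.Hom.fromIncl i c, HyperSite.fromIncl_comp_eq p g y i hi c hc⟩

theorem isSRCovering_of_liftSieve {P Y : FormalCoproduct.{u} D} (p : P ⟶ Y)
    (h : ∀ (V : D) (y : (FormalCoproduct.incl D).obj V ⟶ Y), liftSieve p y ∈ JD V) :
    Hyper.IsSRCovering JD p := by
  intro j
  let y : (FormalCoproduct.incl D).obj (Y.obj j) ⟶ Y := FormalCoproduct.Hom.fromIncl j (𝟙 _)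
  refine JD.superset_covering ?_ (h _ y)
  rintro W g ⟨z, hz⟩
  obtain ⟨h1, h2⟩ := (FormalCoproduct.hom_ext_iff _ _).1 hz
  have hs : p.f (z.f PUnit.unit) = j := congrFun h1 PUnit.unit
  rw [Sieve.mem_ofArrows_iff]
  refine ⟨⟨z.f PUnit.unit, hs⟩, z.φ PUnit.unit, ?_⟩
  have h3 := h2 PUnit.unit
  have h4 : (z.φ PUnit.unit ≫ p.φ (z.f PUnit.unit)) ≫ eqToHom _ = g ≫ 𝟙 _ := h3
  rw [Category.comp_id] at h4
  exact h4.symm.trans (Category.assoc _ _ _)

lemma finite_inf_mem {ι : Type*} [Finite ι] {V : D} (S : ι → Sieve V) (h : ∀ i, S i ∈ JD V) :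
    ∃ R : Sieve V, R ∈ JD V ∧ ∀ i, R ≤ S i := by
  classical
  have : Fintype ι := Fintype.ofFinite ι
  have key : ∀ s : Finset ι, s.inf S ∈ JD V := by
    intro s
    induction s using Finset.induction_on with
    | empty => rw [Finset.inf_empty]; exact JD.top_mem V
    | insert a s _ ih => rw [Finset.inf_insert]; exact JD.intersection_covering (h a) ih
  exact ⟨Finset.univ.inf S, key _, fun i => Finset.inf_le (Finset.mem_univ i)⟩

end General


section Main

open Refine1

variable {D : Type u} [SmallCategory D] (JD : GrothendieckTopology D)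
  [HasFiniteLimits (FormalCoproduct.{u} D)]
  (K : SimplicialObject (FormalCoproduct.{u} D)) (n : ℕ) {Z : FormalCoproduct.{u} D}
  (u : Z ⟶ K.obj (op ⦋n⦌)) (hu : Hyper.IsSRCovering JD u)

omit [HasFiniteLimits (FormalCoproduct.{u} D)] in
include hu in
/-- simultaneous lifts of all `n`-faces of a simplex of `K` to `Z`, locally -/
lemma exists_zs (m : SimplexCategory) {V : D}
    (y : (FormalCoproduct.incl D).obj V ⟶ K.obj (op m)) :
    ∃ R : Sieve V, R ∈ JD V ∧ ∀ (W : D) (h : W ⟶ V), R h →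
      ∃ zs : (⦋n⦌ ⟶ m) → ((FormalCoproduct.incl D).obj W ⟶ Z),
        ∀ φ, zs φ ≫ u = ((FormalCoproduct.incl D).map h ≫ y) ≫ K.map φ.op := by
  obtain ⟨R, hR, hRle⟩ := finite_inf_mem JD
    (fun φ : (⦋n⦌ ⟶ m) => liftSieve u (y ≫ K.map φ.op))
    (fun φ => liftSieve_mem JD u hu _)
  refine ⟨R, hR, fun W h hh => ?_⟩
  have : ∀ φ : (⦋n⦌ ⟶ m), ∃ z : (FormalCoproduct.incl D).obj W ⟶ Z,
      z ≫ u = (FormalCoproduct.incl D).map h ≫ y ≫ K.map φ.op := fun φ => hRle φ _ hh
  choose zs hzs using this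
  exact ⟨zs, fun φ => (hzs φ).trans (Category.assoc _ _ _).symm⟩

include hu in
theorem fL_cov (m : SimplexCategory) : Hyper.IsSRCovering JD (fL K n u m) := by
  apply isSRCovering_of_liftSieve
  intro V y
  obtain ⟨R, hR, hR'⟩ := exists_zs JD K n u hu m y
  refine JD.superset_covering ?_ hR
  intro W h hh
  obtain ⟨zs, hzs⟩ := hR' W h hh
  exact ⟨liftL _ zs hzs, liftL_f _ _ _⟩

include hu in
theorem unit_cov (m : ℕ)
    [∀ (F : (SimplexCategory.Truncated m)ᵒᵖ ⥤ FormalCoproduct.{u} D),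
      (SimplexCategory.Truncated.inclusion m).op.HasPointwiseRightKanExtension F]
    (hK : Hyper.IsSRCovering JD ((CoskPw.η m K).app (op ⦋m + 1⦌))) :
    Hyper.IsSRCovering JD ((CoskPw.η m (L K n u)).app (op ⦋m + 1⦌)) := by
  apply isSRCovering_of_liftSieve
  intro V b
  refine JD.transitive (liftSieve_mem JD _ hK
    (b ≫ ((SimplicialObject.cosk m).map (fNat K n u)).app (op ⦋m + 1⦌))) _ ?_
  rintro W h ⟨x, hx⟩
  obtain ⟨R, hR, hR'⟩ := exists_zs JD K n u hu ⦋m + 1⦌ x
  refine JD.superset_covering ?_ hR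
  intro W' g hg
  obtain ⟨zs, hzs⟩ := hR' W' g hg
  have hx' : ((FormalCoproduct.incl D).map g ≫ x) ≫ (CoskPw.η m K).app (op ⦋m + 1⦌) =
      ((FormalCoproduct.incl D).map (g ≫ h) ≫ b) ≫
        ((SimplicialObject.cosk m).map (fNat K n u)).app (op ⦋m + 1⦌) := by
    rw [Category.assoc, hx, Functor.map_comp, Category.assoc, Category.assoc]
  obtain ⟨t, ht, -⟩ := lemmaA K n u m ((FormalCoproduct.incl D).map (g ≫ h) ≫ b)
    ((FormalCoproduct.incl D).map g ≫ x) hx' zs hzs
  exact ⟨t, ht⟩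

end Main


section Final

open Refine1

variable {C : Type u} [SmallCategory C] [HasPullbacks C] (J : GrothendieckTopology C) (X : C)
    [∀ (n : ℕ) (F : (SimplexCategory.Truncated n)ᵒᵖ ⥤ Limits.FormalCoproduct.{u} (Over X)),
      (SimplexCategory.Truncated.inclusion n).op.HasRightKanExtension F]

theorem isHypercovering_L (K : SimplicialObject (FormalCoproduct.{u} (Over X)))
    (hK : Hyper.IsHypercovering J X K) (n : ℕ)
    (Z : FormalCoproduct.{u} (Over X)) (u : Z ⟶ K.obj (op ⦋n⦌))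
    (hu : Hyper.IsSRCovering (J.over X) u) : Hyper.IsHypercovering J X (L K n u) := by
  refine ⟨?_, ?_⟩
  · exact HyperPB.covers_of_srCovering J X (fL K n u ⦋0⦌) (fL_cov (J.over X) K n u hu ⦋0⦌) hK.1
  · intro m
    have : ∀ (F : (SimplexCategory.Truncated m)ᵒᵖ ⥤ FormalCoproduct.{u} (Over X)),
        (SimplexCategory.Truncated.inclusion m).op.HasPointwiseRightKanExtension F :=
      fun F => Groth.Agent.S6800.result m F
    exact unit_cov (J.over X) K n u hu m (hK.2 m)

theorem main3881 (K : SimplicialObject (FormalCoproduct.{u} (Over X)))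
    (hK : Hyper.IsHypercovering J X K) (n : ℕ)
    (Z : FormalCoproduct.{u} (Over X)) (u : Z ⟶ K.obj (op (SimplexCategory.mk n)))
    (hu : Hyper.IsSRCovering (J.over X) u) :
    ∃ (L : SimplicialObject (FormalCoproduct.{u} (Over X))) (f : L ⟶ K)
      (g : L.obj (op (SimplexCategory.mk n)) ⟶ Z),
      Hyper.IsHypercovering J X L ∧ g ≫ u = f.app (op (SimplexCategory.mk n)) :=
  ⟨L K n u, fNat K n u, gmap K n u, isHypercovering_L J X K hK n Z u hu, gmap_u K n u⟩

end Final

end Groth.Agent.Lib.Helper4.Refine2
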