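import Mathlib.Tactic
import Mathlib.CategoryTheory.Sites.LocallyInjective
import Mathlib.CategoryTheory.Sites.ConcreteSheafification
import Mathlib.Algebra.Category.Grp.Zero
import Groth.Agent.Lib.Helper4.CechH0
import Groth.Agent.Lib.Helper4.Refine2
import Groth.Prelude.Def_Hyper2

namespace Groth.Agent.Lib.Helper4.Refine4

open CategoryTheory CategoryTheory.Limits Opposite Simplicial Groth.Agent.Lib.Helper4.SRCov
  Groth.Agent.Lib.Helper4

universe u

section LocZero

variable {C : Type u} [SmallCategory C] (J : GrothendieckTopology C)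

lemma locally_zero (N : Cᵒᵖ ⥤ AddCommGrpCat.{u})
    (hN : IsZero ((presheafToSheaf J AddCommGrpCat.{u}).obj N)) (U : C) (s : N.obj (op U)) :
    ∃ S ∈ J U, ∀ (V : C) (g : V ⟶ U), S g → N.map g.op s = 0 := by
  have hinj : Presheaf.IsLocallyInjective J (toSheafify J N) := inferInstance
  have hz : IsZero (sheafify J N) := (sheafToPresheaf J AddCommGrpCat.{u}).map_isZero hN
  have hz' : IsZero ((sheafify J N).obj (op U)) := (Functor.isZero_iff _).1 hz _
  have : Subsingleton ((sheafify J N).obj (op U)) := AddCommGrpCat.subsingleton_of_isZero hz'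
  have h := Presheaf.equalizerSieve_mem J (toSheafify J N) (X := op U) s 0 (Subsingleton.elim _ _)
  refine ⟨_, h, ?_⟩
  intro V g hg
  have hg' : N.map g.op s = N.map g.op 0 := hg
  rw [hg', map_zero]

end LocZero


section Kill

variable {D : Type u} [SmallCategory D] (Q : Dᵒᵖ ⥤ AddCommGrpCat.{u}) (Y : FormalCoproduct.{u} D)
  (c : (∏ᶜ fun i : Y.I => Q.obj (op (Y.obj i)) : AddCommGrpCat.{u}))

/-- the component of a cochain -/
noncomputable def comp (i : Y.I) : Q.obj (op (Y.obj i)) :=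
  Pi.π (fun i : Y.I => Q.obj (op (Y.obj i))) i c

/-- formal coproduct of the arrows killing `c` -/
abbrev Zkill : FormalCoproduct.{u} D :=
  ⟨Σ i : Y.I, Σ V : D, {g : V ⟶ Y.obj i // Q.map g.op (comp Q Y c i) = 0}, fun x => x.2.1⟩

/-- the map to `Y` -/
def ukill : Zkill Q Y c ⟶ Y := ⟨fun x => x.1, fun x => x.2.2.1⟩

/-- the evaluation map -/
noncomputable def evalMap {A B : FormalCoproduct.{u} D} (f : A ⟶ B) :
    (∏ᶜ fun i : B.I => Q.obj (op (B.obj i)) : AddCommGrpCat.{u}) ⟶
      (∏ᶜ fun i : A.I => Q.obj (op (A.obj i)) : AddCommGrpCat.{u}) :=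
  ((FormalCoproduct.evalOp.{u} D AddCommGrpCat.{u}).obj Q).map f.op

lemma evalMap_π {A B : FormalCoproduct.{u} D} (f : A ⟶ B) (x : A.I) :
    evalMap Q f ≫ Pi.π (fun i : A.I => Q.obj (op (A.obj i))) x =
      Pi.π (fun i : B.I => Q.obj (op (B.obj i))) (f.f x) ≫ Q.map (f.φ x).op := Pi.lift_π _ _

lemma evalMap_comp {A B B' : FormalCoproduct.{u} D} (f : A ⟶ B) (g : B ⟶ B') :
    evalMap Q (f ≫ g) = evalMap Q g ≫ evalMap Q f := by
  unfold evalMap
  rw [op_comp, Functor.map_comp]
  rfl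

lemma ukill_zero : evalMap Q (ukill Q Y c) c = 0 := by
  refine CechH0.elt_ext _ _ _ (fun x => ?_)
  have h2 : Pi.π (fun x : (Zkill Q Y c).I => Q.obj (op ((Zkill Q Y c).obj x))) x
      (evalMap Q (ukill Q Y c) c) = Q.map (x.2.2.1).op (comp Q Y c x.1) :=
    ConcreteCategory.congr_hom (evalMap_π Q (ukill Q Y c) x) c
  exact (h2.trans x.2.2.2).trans (map_zero _).symm

theorem ukill_cov (JD : GrothendieckTopology D)
    (h : ∀ i, ∃ S ∈ JD (Y.obj i), ∀ (V : D) (g : V ⟶ Y.obj i), S g →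
      Q.map g.op (comp Q Y c i) = 0) :
    Hyper.IsSRCovering JD (ukill Q Y c) := by
  intro i
  obtain ⟨S, hS, hS'⟩ := h i
  refine JD.superset_covering ?_ hS
  intro V g hg
  rw [Sieve.mem_ofArrows_iff]
  exact ⟨⟨(⟨i, V, g, hS' V g hg⟩ : (Zkill Q Y c).I), rfl⟩, 𝟙 _,
    ((Category.id_comp _).trans (Category.comp_id g)).symm⟩

end Kill


section Final

variable {C : Type u} [SmallCategory C] [HasPullbacks C] (J : GrothendieckTopology C) (X : C)
    [∀ (n : ℕ) (F : (SimplexCategory.Truncated n)ᵒᵖ ⥤ Limits.FormalCoproduct.{u} (Over X)),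
      (SimplexCategory.Truncated.inclusion n).op.HasRightKanExtension F]

theorem main3882 (K : SimplicialObject (FormalCoproduct.{u} (Over X)))
    (hK : Hyper.IsHypercovering J X K)
    (N : Cᵒᵖ ⥤ AddCommGrpCat.{u}) (hN : IsZero ((presheafToSheaf J AddCommGrpCat.{u}).obj N))
    (p : ℕ) (ξ : Hyper.cechH X K N p) :
    ∃ (L : SimplicialObject (FormalCoproduct.{u} (Over X))) (f : L ⟶ K),
      Hyper.IsHypercovering J X L ∧ Hyper.cechHMap X f N p ξ = 0 := by
  have hsurj : Function.Surjective ((Hyper.cechCx X K N).homologyπ p) :=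
    (AddCommGrpCat.epi_iff_surjective _).1 inferInstance
  obtain ⟨z, rfl⟩ := hsurj ξ
  let Q : (Over X)ᵒᵖ ⥤ AddCommGrpCat.{u} := (Over.forget X).op ⋙ N
  let Y : FormalCoproduct.{u} (Over X) := K.obj (op ⦋p⦌)
  let c : (∏ᶜ fun i : Y.I => Q.obj (op (Y.obj i)) : AddCommGrpCat.{u}) :=
    (Hyper.cechCx X K N).iCycles p z
  have hloc : ∀ i, ∃ S ∈ (J.over X) (Y.obj i), ∀ (V : Over X) (g : V ⟶ Y.obj i), S g →
      Q.map g.op (comp Q Y c i) = 0 := by
    intro i
    obtain ⟨S, hS, hS'⟩ := locally_zero J N hN ((Y.obj i).left) (comp Q Y c i)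
    refine ⟨(Sieve.overEquiv _).symm S, ?_, ?_⟩
    · rw [GrothendieckTopology.mem_over_iff]
      have : (Sieve.overEquiv (Y.obj i)) ((Sieve.overEquiv (Y.obj i)).symm S) = S :=
        OrderIso.apply_symm_apply _ _
      rw [this]
      exact hS
    · intro V g hg
      rw [Sieve.overEquiv_symm_iff] at hg
      exact hS' _ g.left hg
  obtain ⟨L, f, g, hL, hg⟩ := Refine2.main3881 J X K hK p (Zkill Q Y c) (ukill Q Y c)
    (ukill_cov Q Y c (J.over X) hloc)
  refine ⟨L, f, hL, ?_⟩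
  have h1 : Hyper.cechHMap X f N p ((Hyper.cechCx X K N).homologyπ p z) =
      (Hyper.cechCx X L N).homologyπ p
        (HomologicalComplex.cyclesMap (Hyper.cechMap X f N) p z) :=
    ConcreteCategory.congr_hom
      (HomologicalComplex.homologyπ_naturality (Hyper.cechMap X f N) p) z
  rw [h1]
  have h2 : HomologicalComplex.cyclesMap (Hyper.cechMap X f N) p z = 0 := by
    apply (AddCommGrpCat.mono_iff_injective ((Hyper.cechCx X L N).iCycles p)).1 inferInstance
    rw [map_zero]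
    have h3 := ConcreteCategory.congr_hom
      (HomologicalComplex.cyclesMap_i (Hyper.cechMap X f N) p) z
    refine h3.trans ?_
    have h4 : (Hyper.cechMap X f N).f p = evalMap Q (f.app (op ⦋p⦌)) := rfl
    rw [ConcreteCategory.comp_apply, h4, ← hg, evalMap_comp]
    have h5 : evalMap Q (ukill Q Y c) ((Hyper.cechCx X K N).iCycles p z) = 0 := ukill_zero Q Y c
    show (evalMap Q g) ((evalMap Q (ukill Q Y c)) ((Hyper.cechCx X K N).iCycles p z)) = 0
    rw [h5, map_zero]
  rw [h2, map_zero]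

end Final

end Groth.Agent.Lib.Helper4.Refine4
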