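import Mathlib.Tactic
import Groth.Agent.Lib.Helper4.AcycCech
import Groth.Agent.Lib.Helper4.Refine4

namespace Groth.Agent.Lib.Helper4.HCech1

open CategoryTheory CategoryTheory.Limits Opposite Simplicial
open Groth.Agent.Lib.Helper4.AcycCech Groth.Agent.Lib.Helper4.AcycChase Groth.Agent.Lib.Helper4.Refine4

universe u

section General

variable {D : Type u} [SmallCategory D] {K L M : SimplicialObject (FormalCoproduct.{u} D)}

/-- pullback of Cech cochains along a map of simplicial objects -/
noncomputable def pb (f : L ⟶ K) (P : Dᵒᵖ ⥤ AddCommGrpCat.{u}) : Kc K P ⟶ Kc L P :=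
  (AlgebraicTopology.alternatingCofaceMapComplex AddCommGrpCat.{u}).map
    (((Functor.whiskeringLeft _ _ _).map (NatTrans.rightOp f)).app
      ((FormalCoproduct.evalOp.{u} D AddCommGrpCat.{u}).obj P))

lemma pb_f (f : L ⟶ K) (P : Dᵒᵖ ⥤ AddCommGrpCat.{u}) (p : ℕ) :
    (pb f P).f p = evalMap P (f.app (op ⦋p⦌)) := rfl

lemma pb_id (P : Dᵒᵖ ⥤ AddCommGrpCat.{u}) : pb (𝟙 K) P = 𝟙 _ := by
  ext p : 1
  rw [pb_f]
  unfold evalMap
  erw [CategoryTheory.Functor.map_id]
  rfl

lemma pb_comp (g : M ⟶ L) (f : L ⟶ K) (P : Dᵒᵖ ⥤ AddCommGrpCat.{u}) :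
    pb (g ≫ f) P = pb f P ≫ pb g P := by
  ext p : 1
  rw [HomologicalComplex.comp_f, pb_f, pb_f, pb_f]
  exact evalMap_comp P (g.app (op ⦋p⦌)) (f.app (op ⦋p⦌))

lemma pb_Km (f : L ⟶ K) {P Q : Dᵒᵖ ⥤ AddCommGrpCat.{u}} (α : P ⟶ Q) :
    pb f P ≫ Km L α = Km K α ≫ pb f Q := by
  ext p : 1
  rw [HomologicalComplex.comp_f, HomologicalComplex.comp_f, pb_f, pb_f]
  exact ((FormalCoproduct.evalOp.{u} D AddCommGrpCat.{u}).map α).naturality
    (f.app (op ⦋p⦌)).op

end General


section Cob

/-- coboundary predicate -/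
def IsCob (A : CochainComplex AddCommGrpCat.{u} ℕ) (q : ℕ) (x : A.X q) : Prop :=
  match q, x with
  | 0, x => x = 0
  | r + 1, x => ∃ y : A.X r, A.d r (r + 1) y = x

lemma isCob_zero (A : CochainComplex AddCommGrpCat.{u} ℕ) (x : A.X 0) : IsCob A 0 x ↔ x = 0 :=
  Iff.rfl

lemma isCob_succ (A : CochainComplex AddCommGrpCat.{u} ℕ) (r : ℕ) (x : A.X (r + 1)) :
    IsCob A (r + 1) x ↔ ∃ y : A.X r, A.d r (r + 1) y = x := Iff.rfl

lemma iCycles_injective (A : CochainComplex AddCommGrpCat.{u} ℕ) (q : ℕ) :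
    Function.Injective (A.iCycles q) :=
  (AddCommGrpCat.mono_iff_injective _).1 inferInstance

lemma homologyπ_eq_zero_iff (A : CochainComplex AddCommGrpCat.{u} ℕ) (q : ℕ) (z : A.cycles q) :
    A.homologyπ q z = 0 ↔ IsCob A q (A.iCycles q z) := by
  cases q with
  | zero =>
    rw [isCob_zero]
    have hiso : IsIso (A.homologyπ 0) := A.isIso_homologyπ _ 0 rfl (by simp)
    have hinj : Function.Injective (A.homologyπ 0) :=
      ((ConcreteCategory.isIso_iff_bijective _).1 hiso).1
    constructor
    · intro h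
      have : z = 0 := hinj (h.trans (map_zero _).symm)
      rw [this, map_zero]
    · intro h
      have : z = 0 := iCycles_injective A 0 (h.trans (map_zero _).symm)
      rw [this, map_zero]
  | succ r =>
    rw [isCob_succ]
    have hex : (ShortComplex.mk (A.toCycles r (r + 1)) (A.homologyπ (r + 1))
        (A.toCycles_comp_homologyπ r (r + 1))).Exact :=
      ShortComplex.exact_of_g_is_cokernel _ (A.homologyIsCokernel r (r + 1) (by simp))
    rw [ShortComplex.ab_exact_iff] at hex
    constructor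
    · intro h
      obtain ⟨y, hy⟩ := hex z h
      refine ⟨y, ?_⟩
      have h1 := ConcreteCategory.congr_hom (A.toCycles_i r (r + 1)) y
      rw [ConcreteCategory.comp_apply] at h1
      rw [← h1]
      exact congrArg _ hy
    · rintro ⟨y, hy⟩
      have h1 := ConcreteCategory.congr_hom (A.toCycles_i r (r + 1)) y
      rw [ConcreteCategory.comp_apply] at h1
      have : A.toCycles r (r + 1) y = z := iCycles_injective A (r + 1) (h1.trans hy)
      rw [← this]
      have h2 := ConcreteCategory.congr_hom (A.toCycles_comp_homologyπ r (r + 1)) y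
      rw [ConcreteCategory.comp_apply] at h2
      exact h2

/-- every cocycle comes from the cycles object -/
lemma exists_cycle (A : CochainComplex AddCommGrpCat.{u} ℕ) (q : ℕ) (c : A.X q)
    (hc : A.d q (q + 1) c = 0) : ∃ z : A.cycles q, A.iCycles q z = c := by
  have hex : (ShortComplex.mk (A.iCycles q) (A.d q (q + 1)) (A.iCycles_d q (q + 1))).Exact :=
    ShortComplex.exact_of_f_is_kernel _ (A.cyclesIsKernel q (q + 1) (by simp))
  rw [ShortComplex.ab_exact_iff] at hex
  exact hex c hc

lemma d_iCycles (A : CochainComplex AddCommGrpCat.{u} ℕ) (q : ℕ) (z : A.cycles q) :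
    A.d q (q + 1) (A.iCycles q z) = 0 := by
  have h := ConcreteCategory.congr_hom (A.iCycles_d q (q + 1)) z
  rw [ConcreteCategory.comp_apply] at h
  exact h

/-- bridge: vanishing of the image of a class -/
lemma homologyMap_eq_zero_iff {A B : CochainComplex AddCommGrpCat.{u} ℕ} (φ : A ⟶ B) (q : ℕ)
    (z : A.cycles q) :
    (HomologicalComplex.homologyMap φ q) (A.homologyπ q z) = 0 ↔
      IsCob B q (φ.f q (A.iCycles q z)) := by
  have h1 : (HomologicalComplex.homologyMap φ q) (A.homologyπ q z) =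
      B.homologyπ q (HomologicalComplex.cyclesMap φ q z) := by
    have := ConcreteCategory.congr_hom (HomologicalComplex.homologyπ_naturality φ q) z
    rw [ConcreteCategory.comp_apply, ConcreteCategory.comp_apply] at this
    exact this
  have h2 : B.iCycles q (HomologicalComplex.cyclesMap φ q z) = φ.f q (A.iCycles q z) := by
    have := ConcreteCategory.congr_hom (HomologicalComplex.cyclesMap_i φ q) z
    rw [ConcreteCategory.comp_apply, ConcreteCategory.comp_apply] at this
    exact this
  rw [h1, homologyπ_eq_zero_iff, h2]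

end Cob

end Groth.Agent.Lib.Helper4.HCech1
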