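import Mathlib.Tactic
import Groth.Agent.Lib.Helper4.HCech1

namespace Groth.Agent.Lib.Helper4.HCech2

open CategoryTheory CategoryTheory.Limits Opposite Simplicial
open Groth.Agent.Lib.Helper4.AcycCech Groth.Agent.Lib.Helper4.AcycChase Groth.Agent.Lib.Helper4.Refine4
  Groth.Agent.Lib.Helper4.HCech1

universe u

section General

variable {D : Type u} [SmallCategory D]

/-- the map on products induced by a map of presheaves -/
noncomputable def evalα {P Q : Dᵒᵖ ⥤ AddCommGrpCat.{u}} (α : P ⟶ Q) (A : FormalCoproduct.{u} D) :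
    (∏ᶜ fun i : A.I => P.obj (op (A.obj i)) : AddCommGrpCat.{u}) ⟶
      (∏ᶜ fun i : A.I => Q.obj (op (A.obj i)) : AddCommGrpCat.{u}) :=
  ((FormalCoproduct.evalOp.{u} D AddCommGrpCat.{u}).map α).app (op A)

lemma evalα_π {P Q : Dᵒᵖ ⥤ AddCommGrpCat.{u}} (α : P ⟶ Q) (A : FormalCoproduct.{u} D) (i : A.I) :
    evalα α A ≫ Pi.π (fun i : A.I => Q.obj (op (A.obj i))) i =
      Pi.π (fun i : A.I => P.obj (op (A.obj i))) i ≫ α.app (op (A.obj i)) := by
  show Limits.Pi.map (fun i : A.I => α.app (op (A.obj i))) ≫ _ = _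
  exact Limits.Pi.map_π _ _

lemma evalα_π_apply {P Q : Dᵒᵖ ⥤ AddCommGrpCat.{u}} (α : P ⟶ Q) (A : FormalCoproduct.{u} D)
    (i : A.I) (x : (∏ᶜ fun i : A.I => P.obj (op (A.obj i)) : AddCommGrpCat.{u})) :
    Pi.π (fun i : A.I => Q.obj (op (A.obj i))) i (evalα α A x) =
      α.app (op (A.obj i)) (Pi.π (fun i : A.I => P.obj (op (A.obj i))) i x) :=
  ConcreteCategory.congr_hom (evalα_π α A i) x

lemma evalMap_evalα {P Q : Dᵒᵖ ⥤ AddCommGrpCat.{u}} (α : P ⟶ Q) {A B : FormalCoproduct.{u} D}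
    (h : A ⟶ B) : evalMap P h ≫ evalα α A = evalα α B ≫ evalMap Q h :=
  ((FormalCoproduct.evalOp.{u} D AddCommGrpCat.{u}).map α).naturality h.op

lemma evalMap_evalα_apply {P Q : Dᵒᵖ ⥤ AddCommGrpCat.{u}} (α : P ⟶ Q)
    {A B : FormalCoproduct.{u} D} (h : A ⟶ B)
    (x : (∏ᶜ fun i : B.I => P.obj (op (B.obj i)) : AddCommGrpCat.{u})) :
    evalα α A (evalMap P h x) = evalMap Q h (evalα α B x) :=
  ConcreteCategory.congr_hom (evalMap_evalα α h) x

lemma evalMap_π_apply (P : Dᵒᵖ ⥤ AddCommGrpCat.{u}) {A B : FormalCoproduct.{u} D} (f : A ⟶ B)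
    (i : A.I) (x : (∏ᶜ fun i : B.I => P.obj (op (B.obj i)) : AddCommGrpCat.{u})) :
    Pi.π (fun i : A.I => P.obj (op (A.obj i))) i (evalMap P f x) =
      P.map (f.φ i).op (Pi.π (fun i : B.I => P.obj (op (B.obj i))) (f.f i) x) :=
  ConcreteCategory.congr_hom (evalMap_π P f i) x

lemma evalMap_comp_apply (P : Dᵒᵖ ⥤ AddCommGrpCat.{u}) {A B B' : FormalCoproduct.{u} D}
    (f : A ⟶ B) (g : B ⟶ B')
    (x : (∏ᶜ fun i : B'.I => P.obj (op (B'.obj i)) : AddCommGrpCat.{u})) :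
    evalMap P (f ≫ g) x = evalMap P f (evalMap P g x) :=
  ConcreteCategory.congr_hom (evalMap_comp P f g) x

lemma Km_f_eq {K : SimplicialObject (FormalCoproduct.{u} D)} {P Q : Dᵒᵖ ⥤ AddCommGrpCat.{u}}
    (α : P ⟶ Q) (p : ℕ) : (Km K α).f p = evalα α (K.obj (op ⦋p⦌)) := rfl

end General


section Lift

variable {D : Type u} [SmallCategory D] {P Q : Dᵒᵖ ⥤ AddCommGrpCat.{u}} (α : P ⟶ Q)
  (Y : FormalCoproduct.{u} D)
  (x : (∏ᶜ fun i : Y.I => Q.obj (op (Y.obj i)) : AddCommGrpCat.{u}))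

/-- formal coproduct of the local lifts of `x` along `α` -/
abbrev Zlift : FormalCoproduct.{u} D :=
  ⟨Σ i : Y.I, Σ V : D, Σ g : V ⟶ Y.obj i,
    {t : P.obj (op V) // α.app (op V) t = Q.map g.op (comp Q Y x i)}, fun z => z.2.1⟩

/-- the map to `Y` -/
def ulift : Zlift α Y x ⟶ Y := ⟨fun z => z.1, fun z => z.2.2.1⟩

/-- the tautological lift -/
noncomputable def tlift :
    (∏ᶜ fun z : (Zlift α Y x).I => P.obj (op ((Zlift α Y x).obj z)) : AddCommGrpCat.{u}) :=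
  mkElt (fun z : (Zlift α Y x).I => P.obj (op ((Zlift α Y x).obj z))) (fun z => z.2.2.2.1)

lemma evalα_tlift : evalα α (Zlift α Y x) (tlift α Y x) = evalMap Q (ulift α Y x) x := by
  refine CechH0.elt_ext _ _ _ (fun z => ?_)
  rw [evalα_π_apply, evalMap_π_apply]
  unfold tlift
  rw [π_mkElt]
  exact z.2.2.2.2

theorem ulift_cov (JD : GrothendieckTopology D)
    (h : ∀ i, ∃ S ∈ JD (Y.obj i), ∀ (V : D) (g : V ⟶ Y.obj i), S g →
      ∃ t : P.obj (op V), α.app (op V) t = Q.map g.op (comp Q Y x i)) :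
    Hyper.IsSRCovering JD (ulift α Y x) := by
  intro i
  obtain ⟨S, hS, hS'⟩ := h i
  refine JD.superset_covering ?_ hS
  intro V g hg
  obtain ⟨t, ht⟩ := hS' V g hg
  rw [Sieve.mem_ofArrows_iff]
  exact ⟨⟨(⟨i, V, g, t, ht⟩ : (Zlift α Y x).I), rfl⟩, 𝟙 _,
    ((Category.id_comp _).trans (Category.comp_id g)).symm⟩

end Lift

section Refine

variable {C : Type u} [SmallCategory C] [HasPullbacks C] (J : GrothendieckTopology C) (X : C)
    [∀ (n : ℕ) (F : (SimplexCategory.Truncated n)ᵒᵖ ⥤ Limits.FormalCoproduct.{u} (Over X)),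
      (SimplexCategory.Truncated.inclusion n).op.HasRightKanExtension F]
  (K : SimplicialObject (FormalCoproduct.{u} (Over X))) (hK : Hyper.IsHypercovering J X K)

include hK in
theorem exists_kill (P : (Over X)ᵒᵖ ⥤ AddCommGrpCat.{u}) (p : ℕ) (x : CX K P p)
    (hx : ∀ i, ∃ S ∈ (J.over X) ((K.obj (op ⦋p⦌)).obj i),
      ∀ (V : Over X) (g : V ⟶ (K.obj (op ⦋p⦌)).obj i), S g →
        P.map g.op (comp P (K.obj (op ⦋p⦌)) x i) = 0) :
    ∃ (L : SimplicialObject (FormalCoproduct.{u} (Over X))) (f : L ⟶ K),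
      Hyper.IsHypercovering J X L ∧ evalMap P (f.app (op ⦋p⦌)) x = 0 := by
  obtain ⟨L, f, g, hL, hg⟩ := Refine2.main3881 J X K hK p (Zkill P (K.obj (op ⦋p⦌)) x)
    (ukill P (K.obj (op ⦋p⦌)) x) (ukill_cov P (K.obj (op ⦋p⦌)) x (J.over X) hx)
  refine ⟨L, f, hL, ?_⟩
  rw [← hg, evalMap_comp_apply, ukill_zero, map_zero]

include hK in
theorem exists_lift {P Q : (Over X)ᵒᵖ ⥤ AddCommGrpCat.{u}} (α : P ⟶ Q) (p : ℕ)
    (x : CX K Q p)
    (hx : ∀ i, ∃ S ∈ (J.over X) ((K.obj (op ⦋p⦌)).obj i),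
      ∀ (V : Over X) (g : V ⟶ (K.obj (op ⦋p⦌)).obj i), S g →
        ∃ t : P.obj (op V), α.app (op V) t = Q.map g.op (comp Q (K.obj (op ⦋p⦌)) x i)) :
    ∃ (L : SimplicialObject (FormalCoproduct.{u} (Over X))) (f : L ⟶ K),
      Hyper.IsHypercovering J X L ∧ ∃ y : CX L P p,
        evalα α (L.obj (op ⦋p⦌)) y = evalMap Q (f.app (op ⦋p⦌)) x := by
  obtain ⟨L, f, g, hL, hg⟩ := Refine2.main3881 J X K hK p (Zlift α (K.obj (op ⦋p⦌)) x)
    (ulift α (K.obj (op ⦋p⦌)) x) (ulift_cov α (K.obj (op ⦋p⦌)) x (J.over X) hx)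
  refine ⟨L, f, hL, evalMap P g (tlift α (K.obj (op ⦋p⦌)) x), ?_⟩
  rw [evalMap_evalα_apply, evalα_tlift, ← hg, evalMap_comp_apply]

end Refine

end Groth.Agent.Lib.Helper4.HCech2
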