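import Mathlib.Tactic
import Groth.Agent.Lib.Helper4.HCech2

namespace Groth.Agent.Lib.Helper4.HCech3

open CategoryTheory CategoryTheory.Limits Opposite Simplicial
open Groth.Agent.Lib.Helper4.AcycCech Groth.Agent.Lib.Helper4.AcycChase Groth.Agent.Lib.Helper4.Refine4
  Groth.Agent.Lib.Helper4.HCech1 Groth.Agent.Lib.Helper4.HCech2

universe u

section API

variable {D : Type u} [SmallCategory D] {K L M : SimplicialObject (FormalCoproduct.{u} D)}
  {P Q : Dᵒᵖ ⥤ AddCommGrpCat.{u}}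

lemma pb_d (f : L ⟶ K) (P : Dᵒᵖ ⥤ AddCommGrpCat.{u}) (p : ℕ) (x : (Kc K P).X p) :
    (Kc L P).d p (p + 1) ((pb f P).f p x) = (pb f P).f (p + 1) ((Kc K P).d p (p + 1) x) :=
  comm_apply (pb f P) p (p + 1) x

lemma Km_d (K : SimplicialObject (FormalCoproduct.{u} D)) (α : P ⟶ Q) (p : ℕ)
    (x : (Kc K P).X p) :
    (Kc K Q).d p (p + 1) ((Km K α).f p x) = (Km K α).f (p + 1) ((Kc K P).d p (p + 1) x) :=
  comm_apply (Km K α) p (p + 1) x

lemma pb_Km_apply (f : L ⟶ K) (α : P ⟶ Q) (p : ℕ) (x : (Kc K P).X p) :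
    (Km L α).f p ((pb f P).f p x) = (pb f Q).f p ((Km K α).f p x) := by
  have h := ConcreteCategory.congr_hom (congrArg (fun t => t.f p) (pb_Km f α)) x
  exact h

lemma pb_comp_apply (g : M ⟶ L) (f : L ⟶ K) (P : Dᵒᵖ ⥤ AddCommGrpCat.{u}) (p : ℕ)
    (x : (Kc K P).X p) :
    (pb g P).f p ((pb f P).f p x) = (pb (g ≫ f) P).f p x := by
  have h := ConcreteCategory.congr_hom (congrArg (fun t => t.f p) (pb_comp g f P)) x
  exact h.symm

lemma pb_id_apply (P : Dᵒᵖ ⥤ AddCommGrpCat.{u}) (p : ℕ) (x : (Kc K P).X p) :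
    (pb (𝟙 K) P).f p x = x := by
  have h := ConcreteCategory.congr_hom (congrArg (fun t => t.f p) (pb_id (K := K) P)) x
  exact h

end API


section Over

variable {C : Type u} [SmallCategory C] [HasPullbacks C] (J : GrothendieckTopology C) (X : C)
    [∀ (n : ℕ) (F : (SimplexCategory.Truncated n)ᵒᵖ ⥤ Limits.FormalCoproduct.{u} (Over X)),
      (SimplexCategory.Truncated.inclusion n).op.HasRightKanExtension F]

/-- every Cech cocycle of degree `q` becomes a coboundary on a refinement -/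
def Zq (P : (Over X)ᵒᵖ ⥤ AddCommGrpCat.{u}) (q : ℕ) : Prop :=
  ∀ (K : SimplicialObject (FormalCoproduct.{u} (Over X))), Hyper.IsHypercovering J X K →
    ∀ c : (Kc K P).X q, (Kc K P).d q (q + 1) c = 0 →
      ∃ (L : SimplicialObject (FormalCoproduct.{u} (Over X))) (f : L ⟶ K),
        Hyper.IsHypercovering J X L ∧ IsCob (Kc L P) q ((pb f P).f q c)

variable {P Q : (Over X)ᵒᵖ ⥤ AddCommGrpCat.{u}} (α : P ⟶ Q)

/-- local surjectivity in elementary form -/
def LocSurj : Prop :=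
  ∀ (U : Over X) (s : Q.obj (op U)), ∃ S ∈ (J.over X) U, ∀ (V : Over X) (g : V ⟶ U), S g →
    ∃ t : P.obj (op V), α.app (op V) t = Q.map g.op s

/-- local injectivity in elementary form -/
def LocInj : Prop :=
  ∀ (U : Over X) (s : P.obj (op U)), α.app (op U) s = 0 →
    ∃ S ∈ (J.over X) U, ∀ (V : Over X) (g : V ⟶ U), S g → P.map g.op s = 0

variable {J X α}

theorem lift_cochain (hα : LocSurj J X α)
    {K : SimplicialObject (FormalCoproduct.{u} (Over X))} (hK : Hyper.IsHypercovering J X K)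
    (p : ℕ) (x : (Kc K Q).X p) :
    ∃ (L : SimplicialObject (FormalCoproduct.{u} (Over X))) (f : L ⟶ K),
      Hyper.IsHypercovering J X L ∧ ∃ y : (Kc L P).X p, (Km L α).f p y = (pb f Q).f p x := by
  obtain ⟨L, f, hL, y, hy⟩ := exists_lift J X K hK α p x (fun i => hα _ _)
  exact ⟨L, f, hL, y, hy⟩

theorem kill_cochain (hα : LocInj J X α)
    {K : SimplicialObject (FormalCoproduct.{u} (Over X))} (hK : Hyper.IsHypercovering J X K)
    (p : ℕ) (x : (Kc K P).X p) (hx : (Km K α).f p x = 0) :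
    ∃ (L : SimplicialObject (FormalCoproduct.{u} (Over X))) (f : L ⟶ K),
      Hyper.IsHypercovering J X L ∧ (pb f P).f p x = 0 := by
  obtain ⟨L, f, hL, h⟩ := exists_kill J X K hK P p x (fun i => hα _ _ (by
    have h1 := evalα_π_apply α (K.obj (op ⦋p⦌)) i x
    have h2 : evalα α (K.obj (op ⦋p⦌)) x = 0 := hx
    rw [h2, map_zero] at h1
    exact h1.symm))
  exact ⟨L, f, hL, h⟩

/-- transfer along a locally bijective map, first direction -/
theorem Zq_of_locBij_target (hinj : LocInj J X α) (hsurj : LocSurj J X α) (q : ℕ)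
    (hQ : Zq J X Q q) : Zq J X P q := by
  intro K hK c hc
  have hαc : (Kc K Q).d q (q + 1) ((Km K α).f q c) = 0 := by
    rw [Km_d, hc, map_zero]
  obtain ⟨L, f, hL, hcob⟩ := hQ K hK _ hαc
  cases q with
  | zero =>
    have h0 : (pb f Q).f 0 ((Km K α).f 0 c) = 0 := hcob
    rw [← pb_Km_apply] at h0
    obtain ⟨M, g, hM, hg⟩ := kill_cochain hinj hL 0 _ h0
    refine ⟨M, g ≫ f, hM, ?_⟩
    show (pb (g ≫ f) P).f 0 c = 0
    rw [← pb_comp_apply]
    exact hg
  | succ r =>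
    obtain ⟨e, he⟩ := hcob
    obtain ⟨M, g, hM, e', he'⟩ := lift_cochain hsurj hL r e
    let w : (Kc M P).X (r + 1) := (pb g P).f (r + 1) ((pb f P).f (r + 1) c) -
      (Kc M P).d r (r + 1) e'
    have hw : (Km M α).f (r + 1) w = 0 := by
      show (Km M α).f (r + 1) ((pb g P).f (r + 1) ((pb f P).f (r + 1) c) -
        (Kc M P).d r (r + 1) e') = 0
      rw [map_sub, pb_Km_apply, pb_Km_apply, ← Km_d, he', pb_d, he, sub_self]
    obtain ⟨N, h, hN, hh⟩ := kill_cochain hinj hM (r + 1) w hw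
    refine ⟨N, h ≫ g ≫ f, hN, (pb h P).f r e', ?_⟩
    have hh' : (pb h P).f (r + 1) ((pb g P).f (r + 1) ((pb f P).f (r + 1) c)) -
        (pb h P).f (r + 1) ((Kc M P).d r (r + 1) e') = 0 := by
      rw [← map_sub]
      exact hh
    rw [pb_d, ← pb_comp_apply, ← pb_comp_apply]
    exact (sub_eq_zero.1 hh').symm

/-- transfer along a locally bijective map, second direction -/
theorem Zq_of_locBij_source (hinj : LocInj J X α) (hsurj : LocSurj J X α) (q : ℕ)
    (hP : Zq J X P q) : Zq J X Q q := by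
  intro K hK c hc
  obtain ⟨L, f, hL, c', hc'⟩ := lift_cochain hsurj hK q c
  have h1 : (Km L α).f (q + 1) ((Kc L P).d q (q + 1) c') = 0 := by
    rw [← Km_d, hc', pb_d, hc, map_zero]
  obtain ⟨M, g, hM, hg⟩ := kill_cochain hinj hL (q + 1) _ h1
  have h2 : (Kc M P).d q (q + 1) ((pb g P).f q c') = 0 := by
    rw [pb_d]
    exact hg
  obtain ⟨N, h, hN, hcob⟩ := hP M hM _ h2
  refine ⟨N, h ≫ g ≫ f, hN, ?_⟩
  have h3 : (pb (h ≫ g ≫ f) Q).f q c = (Km N α).f q ((pb h P).f q ((pb g P).f q c')) := by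
    rw [pb_Km_apply, pb_Km_apply, hc', pb_comp_apply, pb_comp_apply, Category.assoc]
  rw [h3]
  cases q with
  | zero =>
    have h0 : (pb h P).f 0 ((pb g P).f 0 c') = 0 := hcob
    show (Km N α).f 0 ((pb h P).f 0 ((pb g P).f 0 c')) = 0
    rw [h0, map_zero]
  | succ r =>
    obtain ⟨a, ha⟩ := hcob
    refine ⟨(Km N α).f r a, ?_⟩
    rw [Km_d, ha]

end Over

section Shift

variable {C : Type u} [SmallCategory C] [HasPullbacks C] {J : GrothendieckTopology C} {X : C}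
    [∀ (n : ℕ) (F : (SimplexCategory.Truncated n)ᵒᵖ ⥤ Limits.FormalCoproduct.{u} (Over X)),
      (SimplexCategory.Truncated.inclusion n).op.HasRightKanExtension F]
  {P' P P'' : (Over X)ᵒᵖ ⥤ AddCommGrpCat.{u}} (α : P' ⟶ P) (β : P ⟶ P'')

omit [HasPullbacks C] [∀ (n : ℕ) (F : (SimplexCategory.Truncated n)ᵒᵖ ⥤ Limits.FormalCoproduct.{u} (Over X)),
      (SimplexCategory.Truncated.inclusion n).op.HasRightKanExtension F] in
lemma Km_injective (h : ∀ U, Function.Injective (α.app U))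
    (K : SimplicialObject (FormalCoproduct.{u} (Over X))) (m : ℕ) :
    Function.Injective ((Km K α).f m) := KmF_injective K α h m

omit [HasPullbacks C] [∀ (n : ℕ) (F : (SimplexCategory.Truncated n)ᵒᵖ ⥤ Limits.FormalCoproduct.{u} (Over X)),
      (SimplexCategory.Truncated.inclusion n).op.HasRightKanExtension F] in
lemma Km_exact (h : ∀ (U : (Over X)ᵒᵖ) (x : P.obj U), β.app U x = 0 → ∃ w, α.app U w = x)
    (K : SimplicialObject (FormalCoproduct.{u} (Over X))) (m : ℕ)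
    (x : (Kc K P).X m) (hx : (Km K β).f m x = 0) : ∃ w : (Kc K P').X m, (Km K α).f m w = x :=
  KmF_exact K α β h m x hx

omit [HasPullbacks C] [∀ (n : ℕ) (F : (SimplexCategory.Truncated n)ᵒᵖ ⥤ Limits.FormalCoproduct.{u} (Over X)),
      (SimplexCategory.Truncated.inclusion n).op.HasRightKanExtension F] in
lemma Km_comp_zero (h : α ≫ β = 0)
    (K : SimplicialObject (FormalCoproduct.{u} (Over X))) (m : ℕ) (w : (Kc K P').X m) :
    (Km K β).f m ((Km K α).f m w) = 0 := KmF_comp_zero K α β h m w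

variable (hinj : ∀ U, Function.Injective (α.app U))
  (hex : ∀ (U : (Over X)ᵒᵖ) (x : P.obj U), β.app U x = 0 → ∃ w, α.app U w = x)
  (hzero : α ≫ β = 0) (hβ : LocSurj J X β)
  (hacyc : ∀ (K : SimplicialObject (FormalCoproduct.{u} (Over X))), Hyper.IsHypercovering J X K →
    ∀ j, ExactSucc (Kc K P) j)

include hinj hex hzero hβ hacyc in
theorem Zq_shift_up (r : ℕ) (hQ : Zq J X P'' (r + 1)) : Zq J X P' (r + 2) := by
  intro K hK c hc
  have h1 : (Kc K P).d (r + 2) (r + 3) ((Km K α).f (r + 2) c) = 0 := by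
    rw [Km_d, hc, map_zero]
  obtain ⟨b, hb⟩ := hacyc K hK (r + 1) _ h1
  have h2 : (Kc K P'').d (r + 1) (r + 2) ((Km K β).f (r + 1) b) = 0 := by
    rw [Km_d, hb, Km_comp_zero α β hzero]
  obtain ⟨L, f, hL, e, he⟩ := hQ K hK _ h2
  obtain ⟨M, g, hM, e', he'⟩ := lift_cochain hβ hL r e
  let x : (Kc M P).X (r + 1) := (pb g P).f (r + 1) ((pb f P).f (r + 1) b) -
    (Kc M P).d r (r + 1) e'
  have hx : (Km M β).f (r + 1) x = 0 := by
    show (Km M β).f (r + 1) ((pb g P).f (r + 1) ((pb f P).f (r + 1) b) -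
      (Kc M P).d r (r + 1) e') = 0
    rw [map_sub, pb_Km_apply, pb_Km_apply, ← Km_d, he', pb_d, he, sub_self]
  obtain ⟨a, ha⟩ := Km_exact α β hex M (r + 1) x hx
  refine ⟨M, g ≫ f, hM, a, ?_⟩
  apply Km_injective α hinj M (r + 2)
  rw [← Km_d, ha]
  show (Kc M P).d (r + 1) (r + 2) ((pb g P).f (r + 1) ((pb f P).f (r + 1) b) -
      (Kc M P).d r (r + 1) e') = _
  rw [map_sub, d_d_apply, sub_zero, pb_d, pb_d, hb, pb_Km_apply]
  exact pb_comp_apply g f P (r + 2) _

include hinj hex hzero hβ hacyc in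
theorem Zq_shift_down (r : ℕ) (hP' : Zq J X P' (r + 2)) : Zq J X P'' (r + 1) := by
  intro K hK b' hb'
  obtain ⟨L, f, hL, b, hb⟩ := lift_cochain hβ hK (r + 1) b'
  have h1 : (Km L β).f (r + 2) ((Kc L P).d (r + 1) (r + 2) b) = 0 := by
    rw [← Km_d, hb, pb_d, hb', map_zero]
  obtain ⟨c, hc⟩ := Km_exact α β hex L (r + 2) _ h1
  have hdc : (Kc L P').d (r + 2) (r + 3) c = 0 := by
    apply Km_injective α hinj L (r + 3)
    rw [← Km_d, hc, d_d_apply, map_zero]
  obtain ⟨M, g, hM, a, ha⟩ := hP' L hL c hdc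
  let y : (Kc M P).X (r + 1) := (pb g P).f (r + 1) b - (Km M α).f (r + 1) a
  have hy : (Kc M P).d (r + 1) (r + 2) y = 0 := by
    show (Kc M P).d (r + 1) (r + 2) ((pb g P).f (r + 1) b - (Km M α).f (r + 1) a) = 0
    rw [map_sub, pb_d, Km_d, ha, ← hc, pb_Km_apply, sub_self]
  obtain ⟨e, he⟩ := hacyc M hM r y hy
  refine ⟨M, g ≫ f, hM, (Km M β).f r e, ?_⟩
  rw [Km_d, he]
  show (Km M β).f (r + 1) ((pb g P).f (r + 1) b - (Km M α).f (r + 1) a) = _
  rw [map_sub, Km_comp_zero α β hzero, sub_zero, pb_Km_apply, hb, pb_comp_apply]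

end Shift



end Groth.Agent.Lib.Helper4.HCech3
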