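import Mathlib.Tactic
import Mathlib.Data.Finset.Sort
import Mathlib.CategoryTheory.Sites.Spaces
import Mathlib.Topology.Category.TopCat.Opens
import Mathlib.Topology.Sets.Opens
import Groth.Agent.Lib.Helper4.CoskUP
import Groth.Agent.Lib.Helper4.CoskUP2
import Groth.Agent.Lib.Helper4.PairLift
import Groth.Prelude.Def_Hyper

namespace Groth.Agent.Lib.Helper4.HyperBasis

open CategoryTheory CategoryTheory.Limits Opposite Simplicial TopologicalSpace

universe u

/-- nonempty faces of the `n`-simplex -/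
abbrev Face (n : ℕ) := {S : Finset (Fin (n + 1)) // S.Nonempty}

/-- the top face -/
def Face.top (n : ℕ) : Face n := ⟨Finset.univ, Finset.univ_nonempty⟩

/-- image of a face -/
def Face.img {m n : ℕ} (θ : Fin (m + 1) → Fin (n + 1)) (S : Face m) : Face n :=
  ⟨S.1.image θ, S.2.image θ⟩

lemma Face.img_id {n : ℕ} (S : Face n) : S.img id = S := Subtype.ext Finset.image_id

lemma Face.img_img {l m n : ℕ} (θ : Fin (l + 1) → Fin (m + 1)) (φ : Fin (m + 1) → Fin (n + 1))
    (S : Face l) : (S.img θ).img φ = S.img (φ ∘ θ) := Subtype.ext Finset.image_image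

variable {X : TopCat.{u}} (B : Set (Opens X))

/-- simplices of the subdivision nerve -/
@[ext]
structure Simp (n : ℕ) where
  W : Face n → Opens X
  mem : ∀ S, W S ∈ B
  anti : ∀ S T : Face n, S.1 ⊆ T.1 → W T ≤ W S

variable {B}

/-- pull back a simplex -/
def Simp.pull {m n : ℕ} (θ : Fin (m + 1) → Fin (n + 1)) (s : Simp B n) : Simp B m where
  W S := s.W (S.img θ)
  mem S := s.mem _
  anti S T h := s.anti _ _ (Finset.image_subset_image h)

lemma Simp.pull_id {n : ℕ} (s : Simp B n) : s.pull id = s := by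
  ext1
  funext S
  exact congrArg s.W (Face.img_id S)

lemma Simp.pull_pull {l m n : ℕ} (θ : Fin (l + 1) → Fin (m + 1)) (φ : Fin (m + 1) → Fin (n + 1))
    (s : Simp B n) : (s.pull φ).pull θ = s.pull (φ ∘ θ) := by
  ext1
  funext S
  exact congrArg s.W (Face.img_img θ φ S)

instance (A A' : Over (⊤ : Opens X)) : Subsingleton (A ⟶ A') :=
  ⟨fun f g => Over.OverMorphism.ext (Subsingleton.elim _ _)⟩

variable (B)

/-- the object attached to a simplex -/
def ob {n : ℕ} (s : Simp B n) : Over (⊤ : Opens X) := Over.mk (homOfLE le_top : s.W (Face.top n) ⟶ ⊤)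

/-- the hypercovering -/
def K : SimplicialObject (FormalCoproduct.{u} (Over (⊤ : Opens X))) where
  obj d := ⟨Simp B d.unop.len, fun s => ob B s⟩
  map {d d'} θ :=
    { f := fun s => s.pull θ.unop.toOrderHom
      φ := fun s => Over.homMk (homOfLE (s.anti _ _ (Finset.subset_univ _))) (Subsingleton.elim _ _) }
  map_id d := by
    refine FormalCoproduct.hom_ext ?_ ?_
    · funext s
      exact Simp.pull_id s
    · intro s
      exact Subsingleton.elim _ _
  map_comp {d d' d''} θ φ := by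
    refine FormalCoproduct.hom_ext ?_ ?_
    · funext s
      exact (Simp.pull_pull (⇑φ.unop.toOrderHom) (⇑θ.unop.toOrderHom) s).symm
    · intro s
      exact Subsingleton.elim _ _


/-! ### combinatorics of faces -/

section Comb

lemma Face.card_eq {N : ℕ} (T : Face N) : T.1.card = T.1.card - 1 + 1 := by
  have := Finset.card_pos.2 T.2
  omega

/-- the canonical simplex map onto a face -/
def faceHom {N : ℕ} (T : Face N) : SimplexCategory.mk (T.1.card - 1) ⟶ SimplexCategory.mk N :=
  SimplexCategory.mkHom (T.1.orderEmbOfFin T.card_eq).toOrderHom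

lemma faceHom_apply {N : ℕ} (T : Face N) (i : Fin (T.1.card - 1 + 1)) :
    (faceHom T).toOrderHom i = T.1.orderEmbOfFin T.card_eq i := rfl

lemma faceHom_mem {N : ℕ} (T : Face N) (i : Fin (T.1.card - 1 + 1)) :
    (faceHom T).toOrderHom i ∈ T.1 := Finset.orderEmbOfFin_mem T.1 T.card_eq i

lemma img_faceHom_top {N : ℕ} (T : Face N) :
    (Face.top (T.1.card - 1)).img (faceHom T).toOrderHom = T :=
  Subtype.ext (Finset.image_orderEmbOfFin_univ T.1 T.card_eq)

lemma faceHom_injective {N : ℕ} (T : Face N) : Function.Injective (faceHom T).toOrderHom :=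
  (T.1.orderEmbOfFin T.card_eq).injective

/-- factor a simplex map with image in `T` through `faceHom T` -/
lemma exists_factor {N k : ℕ} (T : Face N) (θ : SimplexCategory.mk k ⟶ SimplexCategory.mk N)
    (h : ∀ i, θ.toOrderHom i ∈ T.1) :
    ∃ ψ : SimplexCategory.mk k ⟶ SimplexCategory.mk (T.1.card - 1), ψ ≫ faceHom T = θ := by
  let e := T.1.orderIsoOfFin T.card_eq
  refine ⟨SimplexCategory.mkHom ⟨fun i => e.symm ⟨θ.toOrderHom i, h i⟩, ?_⟩, ?_⟩
  · intro i j hij
    exact e.symm.monotone (Subtype.mk_le_mk.2 (θ.toOrderHom.monotone hij))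
  · apply SimplexCategory.Hom.ext
    ext i : 2
    change ((T.1.orderEmbOfFin T.card_eq) (e.symm ⟨θ.toOrderHom i, h i⟩) : Fin (N + 1)) = θ.toOrderHom i
    rw [← Finset.coe_orderIsoOfFin_apply]
    change ((e (e.symm ⟨θ.toOrderHom i, h i⟩) : T.1) : Fin (N + 1)) = _
    rw [OrderIso.apply_symm_apply]

lemma card_lt_of_ne_univ {N : ℕ} (T : Face N) (h : T.1 ≠ Finset.univ) : T.1.card - 1 < N := by
  have h1 : T.1.card < (Finset.univ : Finset (Fin (N + 1))).card :=
    Finset.card_lt_card (Finset.ssubset_univ_iff.2 h)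
  rw [Finset.card_univ, Fintype.card_fin] at h1
  have := Finset.card_pos.2 T.2
  omega

lemma img_ne_univ {m N : ℕ} (hm : m < N) (θ : Fin (m + 1) → Fin (N + 1)) (S : Face m) :
    (S.img θ).1 ≠ Finset.univ := by
  intro h
  have h1 : (S.img θ).1.card ≤ S.1.card := Finset.card_image_le
  have h2 : S.1.card ≤ m + 1 := by
    have := Finset.card_le_univ S.1
    rwa [Fintype.card_fin] at this
  rw [h, Finset.card_univ, Fintype.card_fin] at h1
  omega

end Comb


/-! ### lifting -/

section Lift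

variable [∀ (n : ℕ) (F : (SimplexCategory.Truncated n)ᵒᵖ ⥤ FormalCoproduct.{u} (Over (⊤ : Opens X))),
      (SimplexCategory.Truncated.inclusion n).op.HasRightKanExtension F]
variable (n : ℕ) {O : Over (⊤ : Opens X)}
  (b : (FormalCoproduct.incl _).obj O ⟶ ((SimplicialObject.cosk n).obj (K B)).obj (op ⦋n + 1⦌))

/-- index object for a simplex map -/
def idx {k : ℕ} (hk : k ≤ n) (θ : SimplexCategory.mk k ⟶ ⦋n + 1⦌) : CoskUP.Idx n (op ⦋n + 1⦌) :=
  StructuredArrow.mk (Y := op (⟨SimplexCategory.mk k, hk⟩ : SimplexCategory.Truncated n)) θ.op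

/-- the simplex of the compatible family attached to a simplex map -/
noncomputable def fam {k : ℕ} (hk : k ≤ n) (θ : SimplexCategory.mk k ⟶ ⦋n + 1⦌) : Simp B k :=
  (b ≫ CoskUP.π n (K B) (idx n hk θ)).f PUnit.unit

lemma le_fam {k : ℕ} (hk : k ≤ n) (θ : SimplexCategory.mk k ⟶ ⦋n + 1⦌) :
    O.left ≤ (fam B n b hk θ).W (Face.top k) :=
  leOfHom ((b ≫ CoskUP.π n (K B) (idx n hk θ)).φ PUnit.unit).left

lemma fam_comp {k l : ℕ} (hk : k ≤ n) (hl : l ≤ n) (θ : SimplexCategory.mk k ⟶ ⦋n + 1⦌)
    (ψ : SimplexCategory.mk l ⟶ SimplexCategory.mk k) :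
    fam B n b hl (ψ ≫ θ) = (fam B n b hk θ).pull ψ.toOrderHom := by
  have h := CoskUP.π_map n (K B) (idx n hk θ)
    (r := op (⟨SimplexCategory.mk l, hl⟩ : SimplexCategory.Truncated n))
    (SimplexCategory.Truncated.Hom.tr ψ hl hk).op
  have h' : CoskUP.π n (K B) (idx n hl (ψ ≫ θ)) =
      CoskUP.π n (K B) (idx n hk θ) ≫ (K B).map ψ.op := h.symm
  unfold fam
  rw [h']
  rfl


lemma face_card_le {k : ℕ} (S : Face k) : S.1.card - 1 ≤ k := by
  have := Finset.card_le_univ S.1
  rw [Fintype.card_fin] at this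
  omega

/-- the key compatibility: values of the family are determined by the canonical faces -/
lemma fam_eq {k : ℕ} (hk : k ≤ n) (θ : SimplexCategory.mk k ⟶ ⦋n + 1⦌) (S : Face k)
    (hT : (S.img θ.toOrderHom).1.card - 1 ≤ n) :
    (fam B n b hk θ).W S =
      (fam B n b hT (faceHom (S.img θ.toOrderHom))).W (Face.top _) := by
  set T := S.img θ.toOrderHom with hTdef
  have hl : S.1.card - 1 ≤ n := (face_card_le S).trans hk
  have hmem : ∀ i, (faceHom S ≫ θ).toOrderHom i ∈ T.1 := by
    intro i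
    exact Finset.mem_image_of_mem _ (faceHom_mem S i)
  obtain ⟨ψ, hψ⟩ := exists_factor T (faceHom S ≫ θ) hmem
  have h1 : fam B n b hl (faceHom S ≫ θ) = (fam B n b hk θ).pull (faceHom S).toOrderHom :=
    fam_comp B n b hk hl θ (faceHom S)
  have h2 : fam B n b hl (ψ ≫ faceHom T) = (fam B n b hT (faceHom T)).pull ψ.toOrderHom :=
    fam_comp B n b hT hl (faceHom T) ψ
  rw [hψ, h1] at h2
  have h3 := congrArg (fun s => s.W (Face.top _)) h2
  have h4 : (Face.top (S.1.card - 1)).img ψ.toOrderHom = Face.top _ := by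
    apply Subtype.ext
    apply Finset.image_injective (faceHom_injective T)
    have e1 := congrArg Subtype.val (Face.img_img ψ.toOrderHom (faceHom T).toOrderHom (Face.top _))
    have e2 := congrArg Subtype.val (img_faceHom_top T)
    have e3 : ((Face.top (S.1.card - 1)).img ((faceHom T).toOrderHom ∘ ψ.toOrderHom)) = T := by
      have : (⇑(faceHom T).toOrderHom ∘ ⇑ψ.toOrderHom) = ⇑(ψ ≫ faceHom T).toOrderHom := rfl
      rw [this, hψ]
      have : ⇑(faceHom S ≫ θ).toOrderHom = ⇑θ.toOrderHom ∘ ⇑(faceHom S).toOrderHom := rfl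
      rw [this, ← Face.img_img, img_faceHom_top]
    exact e1.trans ((congrArg Subtype.val e3).trans e2.symm)
  have h5 : (fam B n b hk θ).W ((Face.top _).img (faceHom S).toOrderHom) =
      (fam B n b hT (faceHom T)).W ((Face.top _).img ψ.toOrderHom) := h3
  rw [img_faceHom_top, h4] at h5
  exact h5


open Classical in
/-- the assembled simplex -/
noncomputable def bigW (V : Opens X) : Face (n + 1) → Opens X := fun S =>
  if h : S.1 = Finset.univ then V
  else (fam B n b (Nat.le_of_lt_succ (card_lt_of_ne_univ S h)) (faceHom S)).W (Face.top _)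

lemma bigW_univ (V : Opens X) (S : Face (n + 1)) (h : S.1 = Finset.univ) : bigW B n b V S = V := by
  unfold bigW
  rw [dif_pos h]

lemma bigW_ne (V : Opens X) (S : Face (n + 1)) (h : S.1 ≠ Finset.univ) :
    bigW B n b V S =
      (fam B n b (Nat.le_of_lt_succ (card_lt_of_ne_univ S h)) (faceHom S)).W (Face.top _) := by
  unfold bigW
  rw [dif_neg h]

/-- the assembled simplex -/
noncomputable def bigSimp (V : Opens X) (hV : V ∈ B) (hVO : V ≤ O.left) : Simp B (n + 1) where
  W := bigW B n b V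
  mem S := by
    by_cases h : S.1 = Finset.univ
    · rw [bigW_univ B n b V S h]; exact hV
    · rw [bigW_ne B n b V S h]; exact Simp.mem _ _
  anti S T hST := by
    by_cases hT : T.1 = Finset.univ
    · rw [bigW_univ B n b V T hT]
      by_cases hS : S.1 = Finset.univ
      · rw [bigW_univ B n b V S hS]
      · rw [bigW_ne B n b V S hS]
        exact hVO.trans (le_fam B n b _ _)
    · have hS : S.1 ≠ Finset.univ := by
        intro h
        apply hT
        exact Finset.eq_univ_of_forall (fun x => hST (h ▸ Finset.mem_univ x))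
      rw [bigW_ne B n b V T hT, bigW_ne B n b V S hS]
      have hmem : ∀ i, (faceHom S).toOrderHom i ∈ T.1 := fun i => hST (faceHom_mem S i)
      obtain ⟨ψ, hψ⟩ := exists_factor T (faceHom S) hmem
      have h2 := fam_comp B n b (Nat.le_of_lt_succ (card_lt_of_ne_univ T hT))
        (Nat.le_of_lt_succ (card_lt_of_ne_univ S hS)) (faceHom T) ψ
      rw [hψ] at h2
      rw [h2]
      exact Simp.anti _ _ _ (Finset.subset_univ _)

lemma pull_bigSimp (V : Opens X) (hV : V ∈ B) (hVO : V ≤ O.left) {k : ℕ} (hk : k ≤ n)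
    (θ : SimplexCategory.mk k ⟶ ⦋n + 1⦌) :
    (bigSimp B n b V hV hVO).pull θ.toOrderHom = fam B n b hk θ := by
  ext1
  funext S
  have hne : (S.img θ.toOrderHom).1 ≠ Finset.univ := img_ne_univ (Nat.lt_succ_of_le hk) _ S
  change bigW B n b V (S.img θ.toOrderHom) = _
  rw [bigW_ne B n b V _ hne]
  exact (fam_eq B n b hk θ S _).symm

end Lift


section Main

variable [∀ (n : ℕ) (F : (SimplexCategory.Truncated n)ᵒᵖ ⥤ FormalCoproduct.{u} (Over (⊤ : Opens X))),
      (SimplexCategory.Truncated.inclusion n).op.HasRightKanExtension F]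

/-- the lifted simplex maps to the given component -/
lemma η_bigSimp (n : ℕ) {O : Over (⊤ : Opens X)}
    (b : (FormalCoproduct.incl _).obj O ⟶ ((SimplicialObject.cosk n).obj (K B)).obj (op ⦋n + 1⦌))
    (V : Opens X) (hV : V ∈ B) (hVO : V ≤ O.left) :
    ((CoskUP.η n (K B)).app (op ⦋n + 1⦌)).f (bigSimp B n b V hV hVO) = b.f PUnit.unit := by
  let s := bigSimp B n b V hV hVO
  have hle : (ob B s).left ≤ O.left := by
    change bigW B n b V (Face.top _) ≤ _
    rw [bigW_univ B n b V _ rfl]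
    exact hVO
  let g : ob B s ⟶ O := Over.homMk (homOfLE hle) (Subsingleton.elim _ _)
  have key : FormalCoproduct.Hom.fromIncl (Y := (K B).obj (op ⦋n + 1⦌)) s (𝟙 _) ≫
      (CoskUP.η n (K B)).app (op ⦋n + 1⦌) = (FormalCoproduct.incl _).map g ≫ b := by
    apply CoskUP.hom_ext
    intro A
    rw [Category.assoc, CoskUP.η_π]
    obtain ⟨⟨⟨⟩⟩, ⟨⟨d, hd⟩⟩, θ⟩ := A
    refine FormalCoproduct.hom_ext ?_ ?_
    · funext x
      exact pull_bigSimp B n b V hV hVO hd θ.unop
    · intro x
      exact Subsingleton.elim _ _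
  exact congrArg (fun z => z.f PUnit.unit) key

theorem isHypercovering (hB : Opens.IsBasis B) :
    Hyper.IsHypercovering (Opens.grothendieckTopology X) ⊤ (K B) := by
  refine ⟨?_, ?_⟩
  · intro x _
    obtain ⟨V, hV, hxV, -⟩ := Opens.isBasis_iff_nbhd.1 hB (U := ⊤) (x := x) trivial
    let s : Simp B 0 := ⟨fun _ => V, fun _ => hV, fun _ _ _ => le_rfl⟩
    exact ⟨V, homOfLE le_top, Sieve.ofArrows_mk _ _ (show ((K B).obj (op ⦋0⦌)).I from s), hxV⟩
  · intro n j
    rw [GrothendieckTopology.mem_over_iff]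
    intro x hx
    let b : (FormalCoproduct.incl _).obj ((((SimplicialObject.cosk n).obj (K B)).obj (op ⦋n + 1⦌)).obj j) ⟶
      ((SimplicialObject.cosk n).obj (K B)).obj (op ⦋n + 1⦌) := FormalCoproduct.Hom.fromIncl j (𝟙 _)
    obtain ⟨V, hV, hxV, hVO⟩ := Opens.isBasis_iff_nbhd.1 hB hx
    refine ⟨V, homOfLE hVO, ?_, hxV⟩
    rw [Sieve.overEquiv_iff]
    have hs := η_bigSimp B n b V hV hVO
    rw [Sieve.mem_ofArrows_iff]
    refine ⟨⟨bigSimp B n b V hV hVO, hs⟩, Over.homMk (homOfLE ?_) (Subsingleton.elim _ _), Subsingleton.elim _ _⟩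
    change V ≤ bigW B n b V (Face.top _)
    rw [bigW_univ B n b V _ rfl]

end Main

end Groth.Agent.Lib.Helper4.HyperBasis
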