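import Mathlib.Tactic
import Mathlib.Data.Finset.Sort
import Mathlib.CategoryTheory.Category.Preorder
import Mathlib.CategoryTheory.EqToHom
import Groth.Agent.Lib.Helper4.HyperBasis
import Groth.Agent.Lib.Helper4.CoskPw
import Groth.Prelude.Def_Hyper

namespace Groth.Agent.Lib.Helper4.HyperEx

open CategoryTheory CategoryTheory.Limits Opposite Simplicial
open Groth.Agent.Lib.Helper4.HyperBasis (Face faceHom)

universe u

/-! ### functors on thin categories -/

section Thin

variable {C₀ : Type*} [Category C₀] [Quiver.IsThin C₀] {D : Type*} [Category D]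

lemma thin_functor_ext {C₁ : Type*} [Category C₁] {G G' : C₁ ⥤ C₀}
    (h : ∀ X, G.obj X = G'.obj X) : G = G' :=
  CategoryTheory.Functor.ext h (fun _ _ _ => Subsingleton.elim _ _)

lemma map_eq_eqToHom (F : C₀ ⥤ D) {X Y : C₀} (g : X ⟶ Y) (h : X = Y) :
    F.map g = eqToHom (congrArg F.obj h) := by
  subst h
  rw [Subsingleton.elim g (𝟙 X), F.map_id, eqToHom_refl]

lemma map_comp_eqToHom (F : C₀ ⥤ D) {X Y Y' : C₀} (g : X ⟶ Y) (g' : X ⟶ Y') (h : Y = Y') :
    F.map g ≫ eqToHom (congrArg F.obj h) = F.map g' := by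
  subst h
  rw [eqToHom_refl, Category.comp_id, Subsingleton.elim g g']

lemma map_eq_conj (F : C₀ ⥤ D) {X Y X' Y' : C₀} (g : X ⟶ Y) (g' : X' ⟶ Y') (hX : X = X')
    (hY : Y = Y') :
    F.map g = eqToHom (congrArg F.obj hX) ≫ F.map g' ≫ eqToHom (congrArg F.obj hY.symm) := by
  subst hX
  subst hY
  rw [eqToHom_refl, eqToHom_refl, Category.comp_id, Category.id_comp, Subsingleton.elim g g']

lemma eqToHom_comp_map (F : C₀ ⥤ D) {X X' Y : C₀} (g : X ⟶ Y) (g' : X' ⟶ Y) (h : X' = X) :
    eqToHom (congrArg F.obj h) ≫ F.map g = F.map g' := by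
  subst h
  rw [eqToHom_refl, Category.id_comp, Subsingleton.elim g g']

end Thin

/-! ### the image functors on faces -/

/-- image of faces as a functor on opposite categories -/
def imgF {m n : ℕ} (θ : Fin (m + 1) → Fin (n + 1)) : (Face m)ᵒᵖ ⥤ (Face n)ᵒᵖ :=
  (Monotone.functor (f := Face.img θ)
    (fun _ _ h => Finset.image_subset_image h)).op

@[simp] lemma imgF_obj {m n : ℕ} (θ : Fin (m + 1) → Fin (n + 1)) (S : Face m) :
    (imgF θ).obj (op S) = op (S.img θ) := rfl

lemma imgF_id (n : ℕ) : imgF (id : Fin (n + 1) → Fin (n + 1)) = 𝟭 _ :=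
  thin_functor_ext (fun X => congrArg op (Face.img_id X.unop))

lemma imgF_comp {l m n : ℕ} (θ : Fin (l + 1) → Fin (m + 1)) (φ : Fin (m + 1) → Fin (n + 1)) :
    imgF θ ⋙ imgF φ = imgF (φ ∘ θ) :=
  thin_functor_ext (fun X => congrArg op (Face.img_img θ φ X.unop))

variable {D : Type u} [SmallCategory D] (P : D → Prop)

/-- simplices: diagrams on the face poset with values in `P` -/
@[ext]
structure Simp (n : ℕ) where
  F : (Face n)ᵒᵖ ⥤ D
  mem : ∀ S, P (F.obj S)

variable {P}

/-- pull back a simplex -/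
def Simp.pull {m n : ℕ} (θ : Fin (m + 1) → Fin (n + 1)) (s : Simp P n) : Simp P m where
  F := imgF θ ⋙ s.F
  mem S := s.mem _

lemma Simp.pull_id {n : ℕ} (s : Simp P n) : s.pull id = s := by
  ext1
  change imgF id ⋙ s.F = s.F
  rw [imgF_id, Functor.id_comp]

lemma Simp.pull_pull {l m n : ℕ} (θ : Fin (l + 1) → Fin (m + 1)) (φ : Fin (m + 1) → Fin (n + 1))
    (s : Simp P n) : (s.pull φ).pull θ = s.pull (φ ∘ θ) := by
  ext1
  change imgF θ ⋙ imgF φ ⋙ s.F = imgF (φ ∘ θ) ⋙ s.F
  rw [← Functor.assoc, imgF_comp]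

/-- the top face, as an object of the opposite category -/
abbrev topF (n : ℕ) : (Face n)ᵒᵖ := op (Face.top n)

/-- the morphism from the top face -/
def fromTop {n : ℕ} (S : Face n) : topF n ⟶ op S :=
  (homOfLE (show S ≤ Face.top n from Finset.subset_univ _)).op

variable (P)

/-- the hypercovering -/
def K : SimplicialObject (FormalCoproduct.{u} D) where
  obj d := ⟨Simp P d.unop.len, fun s => s.F.obj (topF _)⟩
  map {d d'} θ :=
    { f := fun s => s.pull θ.unop.toOrderHom
      φ := fun s => s.F.map (fromTop ((Face.top _).img θ.unop.toOrderHom)) }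
  map_id d := by
    refine FormalCoproduct.hom_ext ?_ ?_
    · funext s
      exact Simp.pull_id s
    · intro s
      have h : op ((Face.top d.unop.len).img id) = topF d.unop.len := congrArg op (Face.img_id _)
      exact (map_comp_eqToHom s.F _ (𝟙 _) h).trans (s.F.map_id _)
  map_comp {d d' d''} θ φ := by
    refine FormalCoproduct.hom_ext ?_ ?_
    · funext s
      exact (Simp.pull_pull (⇑φ.unop.toOrderHom) (⇑θ.unop.toOrderHom) s).symm
    · intro s
      have h : op (((Face.top d''.unop.len).img φ.unop.toOrderHom).img θ.unop.toOrderHom) =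
          op ((Face.top d''.unop.len).img (θ.unop.toOrderHom ∘ φ.unop.toOrderHom)) :=
        congrArg op (Face.img_img _ _ _)
      exact (map_comp_eqToHom s.F
        (fromTop ((Face.top d''.unop.len).img (θ.unop.toOrderHom ∘ φ.unop.toOrderHom)))
        (fromTop ((Face.top d'.unop.len).img θ.unop.toOrderHom) ≫
          (imgF θ.unop.toOrderHom).map (fromTop ((Face.top d''.unop.len).img φ.unop.toOrderHom)))
        h.symm).trans (s.F.map_comp _ _)


/-! ### combinatorics -/

section Comb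

open Groth.Agent.Lib.Helper4.HyperBasis

lemma Face.img_injective {m n : ℕ} {θ : Fin (m + 1) → Fin (n + 1)} (hθ : Function.Injective θ) :
    Function.Injective (Face.img θ) := by
  intro S T h
  exact Subtype.ext (Finset.image_injective hθ (congrArg Subtype.val h))

/-- the canonical factorization of `faceHom S` through `faceHom T` for `S ⊆ T` -/
noncomputable def sub {N : ℕ} (S T : Face N) (h : S.1 ⊆ T.1) :
    SimplexCategory.mk (S.1.card - 1) ⟶ SimplexCategory.mk (T.1.card - 1) :=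
  Classical.choose (exists_factor T (faceHom S) (fun i => h (faceHom_mem S i)))

lemma sub_comp {N : ℕ} (S T : Face N) (h : S.1 ⊆ T.1) : sub S T h ≫ faceHom T = faceHom S :=
  Classical.choose_spec (exists_factor T (faceHom S) (fun i => h (faceHom_mem S i)))

lemma img_comp {l m n : ℕ} (ψ : SimplexCategory.mk l ⟶ SimplexCategory.mk m)
    (θ : SimplexCategory.mk m ⟶ SimplexCategory.mk n) (S : Face l) :
    S.img (ψ ≫ θ).toOrderHom = (S.img ψ.toOrderHom).img θ.toOrderHom :=
  (Face.img_img (⇑ψ.toOrderHom) (⇑θ.toOrderHom) S).symm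

/-- a face of `T` is recovered from its image -/
lemma img_sub_top {N : ℕ} (S T : Face N) (h : S.1 ⊆ T.1) :
    ((Face.top _).img (sub S T h).toOrderHom).img (faceHom T).toOrderHom = S := by
  rw [← img_comp, sub_comp, img_faceHom_top]

lemma img_sub_top_eq {N : ℕ} (T : Face N) (R : Face (T.1.card - 1))
    (h : (R.img (faceHom T).toOrderHom).1 ⊆ T.1) :
    (Face.top _).img (sub (R.img (faceHom T).toOrderHom) T h).toOrderHom = R :=
  Face.img_injective (faceHom_injective T) (img_sub_top _ T h)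

lemma img_faceHom_subset {N : ℕ} (T : Face N) (R : Face (T.1.card - 1)) :
    (R.img (faceHom T).toOrderHom).1 ⊆ T.1 := by
  intro x hx
  obtain ⟨i, -, rfl⟩ := Finset.mem_image.1 hx
  exact faceHom_mem T i

/-- surjectivity on top faces of a factorization onto the image -/
lemma img_top_of_factor {N k : ℕ} (T : Face N) (θ : SimplexCategory.mk k ⟶ SimplexCategory.mk N)
    (hT : (Face.top k).img θ.toOrderHom = T)
    (χ : SimplexCategory.mk k ⟶ SimplexCategory.mk (T.1.card - 1)) (hχ : χ ≫ faceHom T = θ) :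
    (Face.top k).img χ.toOrderHom = Face.top _ := by
  apply Face.img_injective (faceHom_injective T)
  rw [← img_comp, hχ, hT, img_faceHom_top]

end Comb


/-! ### the compatible family attached to a map into the coskeleton -/

section Lift

open Groth.Agent.Lib.Helper4.HyperBasis

variable (n : ℕ)
  [∀ (F : (SimplexCategory.Truncated n)ᵒᵖ ⥤ FormalCoproduct.{u} D),
    (SimplexCategory.Truncated.inclusion n).op.HasPointwiseRightKanExtension F]
  {O : D}
  (b : (FormalCoproduct.incl D).obj O ⟶ ((SimplicialObject.cosk n).obj (K P)).obj (op ⦋n + 1⦌))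

/-- index object for a simplex map -/
def idx {k : ℕ} (hk : k ≤ n) (θ : SimplexCategory.mk k ⟶ ⦋n + 1⦌) : CoskPw.Idx n (op ⦋n + 1⦌) :=
  StructuredArrow.mk (Y := op (⟨SimplexCategory.mk k, hk⟩ : SimplexCategory.Truncated n)) θ.op

/-- the simplex of the compatible family attached to a simplex map -/
noncomputable def fam {k : ℕ} (hk : k ≤ n) (θ : SimplexCategory.mk k ⟶ ⦋n + 1⦌) : Simp P k :=
  (b ≫ CoskPw.π n (K P) (idx n hk θ)).f PUnit.unit

/-- the map of the compatible family -/
noncomputable def β {k : ℕ} (hk : k ≤ n) (θ : SimplexCategory.mk k ⟶ ⦋n + 1⦌) :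
    O ⟶ (fam P n b hk θ).F.obj (topF k) :=
  (b ≫ CoskPw.π n (K P) (idx n hk θ)).φ PUnit.unit

lemma π_comp {k l : ℕ} (hk : k ≤ n) (hl : l ≤ n) (θ : SimplexCategory.mk k ⟶ ⦋n + 1⦌)
    (ψ : SimplexCategory.mk l ⟶ SimplexCategory.mk k) :
    CoskPw.π n (K P) (idx n hl (ψ ≫ θ)) =
      CoskPw.π n (K P) (idx n hk θ) ≫ (K P).map ψ.op := by
  let φ : idx n hk θ ⟶ idx n hl (ψ ≫ θ) :=
    StructuredArrow.homMk (SimplexCategory.Truncated.Hom.tr ψ hl hk).op rfl
  exact (CoskPw.π_naturality n (K P) φ).symm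

lemma fam_comp {k l : ℕ} (hk : k ≤ n) (hl : l ≤ n) (θ : SimplexCategory.mk k ⟶ ⦋n + 1⦌)
    (ψ : SimplexCategory.mk l ⟶ SimplexCategory.mk k) (θ' : SimplexCategory.mk l ⟶ ⦋n + 1⦌)
    (hθ' : ψ ≫ θ = θ') :
    fam P n b hl θ' = (fam P n b hk θ).pull ψ.toOrderHom := by
  subst hθ'
  unfold fam
  rw [π_comp P n hk hl θ ψ]
  rfl

lemma β_comp {k l : ℕ} (hk : k ≤ n) (hl : l ≤ n) (θ : SimplexCategory.mk k ⟶ ⦋n + 1⦌)
    (ψ : SimplexCategory.mk l ⟶ SimplexCategory.mk k) (θ' : SimplexCategory.mk l ⟶ ⦋n + 1⦌)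
    (hθ' : ψ ≫ θ = θ') :
    β P n b hl θ' = β P n b hk θ ≫
      (fam P n b hk θ).F.map (fromTop ((Face.top l).img ψ.toOrderHom)) ≫
        eqToHom (congrArg (fun s => s.F.obj (topF l)) (fam_comp P n b hk hl θ ψ θ' hθ').symm) := by
  subst hθ'
  have h : b ≫ CoskPw.π n (K P) (idx n hl (ψ ≫ θ)) =
      (b ≫ CoskPw.π n (K P) (idx n hk θ)) ≫ (K P).map ψ.op :=
    (congrArg (fun z => b ≫ z) (π_comp P n hk hl θ ψ)).trans (Category.assoc _ _ _).symm
  obtain ⟨h1, h2⟩ := (FormalCoproduct.hom_ext_iff _ _).1 h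
  have h3 := h2 PUnit.unit
  exact ((comp_eqToHom_iff _ _ _).1 h3).trans (Category.assoc _ _ _)

end Lift


/-! ### transition maps -/

section Trans

variable {P}

/-- the transition map between top objects -/
def trans {k l : ℕ} (s : Simp P k) (t : Simp P l) (ψ : Fin (l + 1) → Fin (k + 1))
    (h : t = s.pull ψ) : s.F.obj (topF k) ⟶ t.F.obj (topF l) :=
  s.F.map (fromTop ((Face.top l).img ψ)) ≫ eqToHom (by rw [h]; rfl)

lemma trans_id {k : ℕ} (s : Simp P k) (ψ : Fin (k + 1) → Fin (k + 1)) (h : s = s.pull ψ)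
    (htop : (Face.top k).img ψ = Face.top k) : trans s s ψ h = 𝟙 _ := by
  unfold trans
  have h' : op ((Face.top k).img ψ) = topF k := congrArg op htop
  exact (map_comp_eqToHom s.F _ (𝟙 _) h').trans (s.F.map_id _)

lemma trans_comp {k l m : ℕ} (s : Simp P k) (t : Simp P l) (r : Simp P m)
    (ψ₁ : Fin (l + 1) → Fin (k + 1)) (ψ₂ : Fin (m + 1) → Fin (l + 1)) (ψ₃ : Fin (m + 1) → Fin (k + 1))
    (h1 : t = s.pull ψ₁) (h2 : r = t.pull ψ₂) (h3 : r = s.pull ψ₃)
    (hψ : (Face.top m).img ψ₃ = ((Face.top m).img ψ₂).img ψ₁) :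
    trans s t ψ₁ h1 ≫ trans t r ψ₂ h2 = trans s r ψ₃ h3 := by
  subst h1
  subst h2
  unfold trans
  have h' : op ((Face.top m).img ψ₃) = op (((Face.top m).img ψ₂).img ψ₁) := congrArg op hψ
  have e := map_comp_eqToHom s.F (fromTop ((Face.top m).img ψ₃))
    (fromTop ((Face.top l).img ψ₁) ≫ (imgF ψ₁).map (fromTop ((Face.top m).img ψ₂))) h'
  change (s.F.map (fromTop ((Face.top l).img ψ₁)) ≫ 𝟙 _) ≫
    (s.F.map ((imgF ψ₁).map (fromTop ((Face.top m).img ψ₂))) ≫ 𝟙 _) = _
  rw [Category.comp_id, Category.comp_id]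
  exact (s.F.map_comp _ _).symm.trans e.symm

lemma trans_eq {k l m : ℕ} (s : Simp P k) (t : Simp P l) (r : Simp P m)
    (ψ₁ : Fin (l + 1) → Fin (k + 1)) (ψ₂ : Fin (m + 1) → Fin (l + 1))
    (h1 : t = s.pull ψ₁) (h2 : r = t.pull ψ₂) :
    trans t r ψ₂ h2 = eqToHom (by rw [h1]; rfl) ≫
      s.F.map ((imgF ψ₁).map (fromTop ((Face.top m).img ψ₂))) ≫ eqToHom (by rw [h2, h1]; rfl) := by
  subst h1
  subst h2
  unfold trans
  change s.F.map ((imgF ψ₁).map (fromTop ((Face.top m).img ψ₂))) ≫ 𝟙 _ =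
    𝟙 _ ≫ s.F.map ((imgF ψ₁).map (fromTop ((Face.top m).img ψ₂))) ≫ 𝟙 _
  rw [Category.comp_id, Category.id_comp]

end Trans


/-! ### the assembled simplex -/

section Big

open Groth.Agent.Lib.Helper4.HyperBasis

variable (n : ℕ)
  [∀ (F : (SimplexCategory.Truncated n)ᵒᵖ ⥤ FormalCoproduct.{u} D),
    (SimplexCategory.Truncated.inclusion n).op.HasPointwiseRightKanExtension F]
  {O : D}
  (b : (FormalCoproduct.incl D).obj O ⟶ ((SimplicialObject.cosk n).obj (K P)).obj (op ⦋n + 1⦌))

lemma le_of_ne {S : Face (n + 1)} (h : S.1 ≠ Finset.univ) : S.1.card - 1 ≤ n :=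
  Nat.le_of_lt_succ (card_lt_of_ne_univ S h)

/-- the simplex of the family attached to a proper face -/
noncomputable abbrev famF (S : Face (n + 1)) (h : S.1 ≠ Finset.univ) : Simp P (S.1.card - 1) :=
  fam P n b (le_of_ne n h) (faceHom S)

/-- the map of the family attached to a proper face -/
noncomputable abbrev βF (S : Face (n + 1)) (h : S.1 ≠ Finset.univ) :
    O ⟶ (famF P n b S h).F.obj (topF _) :=
  β P n b (le_of_ne n h) (faceHom S)

lemma ne_of_subset {S T : Face (n + 1)} (hST : S.1 ⊆ T.1) (hT : T.1 ≠ Finset.univ) :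
    S.1 ≠ Finset.univ := by
  intro h
  apply hT
  exact Finset.eq_univ_of_forall (fun x => hST (h ▸ Finset.mem_univ x))

lemma famF_sub {S T : Face (n + 1)} (hST : S.1 ⊆ T.1) (hT : T.1 ≠ Finset.univ) :
    famF P n b S (ne_of_subset n hST hT) = (famF P n b T hT).pull (sub S T hST).toOrderHom :=
  fam_comp P n b (le_of_ne n hT) (le_of_ne n (ne_of_subset n hST hT)) (faceHom T) (sub S T hST)
    (faceHom S) (sub_comp S T hST)

lemma βF_sub {S T : Face (n + 1)} (hST : S.1 ⊆ T.1) (hT : T.1 ≠ Finset.univ) :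
    βF P n b S (ne_of_subset n hST hT) = βF P n b T hT ≫
      trans (famF P n b T hT) (famF P n b S (ne_of_subset n hST hT)) (sub S T hST).toOrderHom
        (famF_sub P n b hST hT) :=
  β_comp P n b (le_of_ne n hT) (le_of_ne n (ne_of_subset n hST hT)) (faceHom T) (sub S T hST)
    (faceHom S) (sub_comp S T hST)

variable (V : D) (g : V ⟶ O)

open Classical in
/-- objects of the assembled simplex -/
noncomputable def bigObj (S : Face (n + 1)) : D :=
  if h : S.1 = Finset.univ then V else (famF P n b S h).F.obj (topF _)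

lemma bigObj_univ (S : Face (n + 1)) (h : S.1 = Finset.univ) : bigObj P n b V S = V := by
  unfold bigObj
  rw [dif_pos h]

lemma bigObj_ne (S : Face (n + 1)) (h : S.1 ≠ Finset.univ) :
    bigObj P n b V S = (famF P n b S h).F.obj (topF _) := by
  unfold bigObj
  rw [dif_neg h]

open Classical in
/-- morphisms of the assembled simplex -/
noncomputable def bigMap (S T : Face (n + 1)) (hST : S.1 ⊆ T.1) :
    bigObj P n b V T ⟶ bigObj P n b V S :=
  if hT : T.1 = Finset.univ then
    if hS : S.1 = Finset.univ then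
      eqToHom ((bigObj_univ P n b V T hT).trans (bigObj_univ P n b V S hS).symm)
    else
      eqToHom (bigObj_univ P n b V T hT) ≫ g ≫ βF P n b S hS ≫ eqToHom (bigObj_ne P n b V S hS).symm
  else
    eqToHom (bigObj_ne P n b V T hT) ≫
      trans (famF P n b T hT) (famF P n b S (ne_of_subset n hST hT)) (sub S T hST).toOrderHom
        (famF_sub P n b hST hT) ≫
      eqToHom (bigObj_ne P n b V S (ne_of_subset n hST hT)).symm

lemma bigMap_uu (S T : Face (n + 1)) (hST : S.1 ⊆ T.1) (hT : T.1 = Finset.univ)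
    (hS : S.1 = Finset.univ) :
    bigMap P n b V g S T hST =
      eqToHom ((bigObj_univ P n b V T hT).trans (bigObj_univ P n b V S hS).symm) := by
  unfold bigMap
  rw [dif_pos hT, dif_pos hS]

lemma bigMap_pu (S T : Face (n + 1)) (hST : S.1 ⊆ T.1) (hT : T.1 = Finset.univ)
    (hS : S.1 ≠ Finset.univ) :
    bigMap P n b V g S T hST =
      eqToHom (bigObj_univ P n b V T hT) ≫ g ≫ βF P n b S hS ≫
        eqToHom (bigObj_ne P n b V S hS).symm := by
  unfold bigMap
  rw [dif_pos hT, dif_neg hS]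

lemma bigMap_pp (S T : Face (n + 1)) (hST : S.1 ⊆ T.1) (hT : T.1 ≠ Finset.univ) :
    bigMap P n b V g S T hST =
      eqToHom (bigObj_ne P n b V T hT) ≫
      trans (famF P n b T hT) (famF P n b S (ne_of_subset n hST hT)) (sub S T hST).toOrderHom
        (famF_sub P n b hST hT) ≫
      eqToHom (bigObj_ne P n b V S (ne_of_subset n hST hT)).symm := by
  unfold bigMap
  rw [dif_neg hT]


lemma sub_top_comp {N : ℕ} (R S T : Face N) (hRS : R.1 ⊆ S.1) (hST : S.1 ⊆ T.1) :
    (Face.top _).img (sub R T (hRS.trans hST)).toOrderHom =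
      ((Face.top _).img (sub R S hRS).toOrderHom).img (sub S T hST).toOrderHom := by
  apply Face.img_injective (faceHom_injective T)
  rw [img_sub_top, ← img_comp, sub_comp, img_sub_top]

lemma sub_top_self {N : ℕ} (S : Face N) :
    (Face.top _).img (sub S S subset_rfl).toOrderHom = Face.top _ :=
  img_top_of_factor S (faceHom S) (img_faceHom_top S) _ (sub_comp S S subset_rfl)

lemma bigMap_id (S : Face (n + 1)) : bigMap P n b V g S S subset_rfl = 𝟙 _ := by
  by_cases hS : S.1 = Finset.univ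
  · rw [bigMap_uu P n b V g S S _ hS hS, eqToHom_refl]
  · rw [bigMap_pp P n b V g S S _ hS, trans_id _ _ _ (sub_top_self S), Category.id_comp,
      eqToHom_trans, eqToHom_refl]

lemma bigMap_comp (R S T : Face (n + 1)) (hRS : R.1 ⊆ S.1) (hST : S.1 ⊆ T.1) :
    bigMap P n b V g S T hST ≫ bigMap P n b V g R S hRS =
      bigMap P n b V g R T (hRS.trans hST) := by
  by_cases hT : T.1 = Finset.univ
  · by_cases hS : S.1 = Finset.univ
    · by_cases hR : R.1 = Finset.univ
      · rw [bigMap_uu P n b V g S T _ hT hS, bigMap_uu P n b V g R S _ hS hR,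
          bigMap_uu P n b V g R T _ hT hR, eqToHom_trans]
      · rw [bigMap_uu P n b V g S T _ hT hS, bigMap_pu P n b V g R S _ hS hR,
          bigMap_pu P n b V g R T _ hT hR, eqToHom_trans_assoc]
    · have hR : R.1 ≠ Finset.univ := ne_of_subset n hRS hS
      rw [bigMap_pu P n b V g S T _ hT hS, bigMap_pp P n b V g R S _ hS,
        bigMap_pu P n b V g R T _ hT hR, βF_sub P n b hRS hS]
      simp only [Category.assoc, eqToHom_trans_assoc, eqToHom_refl, Category.id_comp]
  · have hS : S.1 ≠ Finset.univ := ne_of_subset n hST hT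
    rw [bigMap_pp P n b V g S T _ hT, bigMap_pp P n b V g R S _ hS,
      bigMap_pp P n b V g R T _ hT]
    simp only [Category.assoc, eqToHom_trans_assoc, eqToHom_refl, Category.id_comp]
    rw [← Category.assoc (trans _ _ _ _), trans_comp _ _ _ _ _ _ _ _
      (famF_sub P n b (hRS.trans hST) hT) (sub_top_comp R S T hRS hST)]

/-- the assembled functor -/
noncomputable def bigF : (Face (n + 1))ᵒᵖ ⥤ D where
  obj X := bigObj P n b V X.unop
  map {X Y} f := bigMap P n b V g Y.unop X.unop (leOfHom f.unop)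
  map_id X := bigMap_id P n b V g X.unop
  map_comp {X Y Z} f f' := (bigMap_comp P n b V g Z.unop Y.unop X.unop _ _).symm

/-- the assembled simplex -/
noncomputable def bigSimp (hV : P V) : Simp P (n + 1) where
  F := bigF P n b V g
  mem X := by
    change P (bigObj P n b V X.unop)
    by_cases h : X.unop.1 = Finset.univ
    · rw [bigObj_univ P n b V _ h]; exact hV
    · rw [bigObj_ne P n b V _ h]; exact Simp.mem _ _


section Restrict

lemma ne_img (T : Face (n + 1)) (hT : T.1 ≠ Finset.univ) (R : Face (T.1.card - 1)) :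
    (R.img (faceHom T).toOrderHom).1 ≠ Finset.univ :=
  ne_of_subset n (img_faceHom_subset T R) hT

variable (T : Face (n + 1)) (hT : T.1 ≠ Finset.univ)

lemma objEq (R : Face (T.1.card - 1)) :
    bigObj P n b V (R.img (faceHom T).toOrderHom) = (famF P n b T hT).F.obj (op R) := by
  rw [bigObj_ne P n b V _ (ne_img n T hT R), famF_sub P n b (img_faceHom_subset T R) hT]
  change (famF P n b T hT).F.obj (op ((Face.top _).img (sub _ T _).toOrderHom)) = _
  rw [img_sub_top_eq T R]

lemma pull_bigSimp_face (hV : P V) :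
    (bigSimp P n b V g hV).pull (faceHom T).toOrderHom = famF P n b T hT := by
  ext1
  change imgF (faceHom T).toOrderHom ⋙ bigF P n b V g = (famF P n b T hT).F
  refine CategoryTheory.Functor.ext (fun X => objEq P n b V T hT X.unop) ?_
  intro X Y f
  have hRR' : Y.unop.1 ⊆ X.unop.1 := leOfHom f.unop
  set R' := X.unop with hR'
  set R := Y.unop with hR
  have hSS' : (R.img (faceHom T).toOrderHom).1 ⊆ (R'.img (faceHom T).toOrderHom).1 :=
    Finset.image_subset_image hRR'
  change bigMap P n b V g _ _ hSS' = _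
  rw [bigMap_pp P n b V g _ _ hSS' (ne_img n T hT R')]
  rw [trans_eq (famF P n b T hT) _ _ (sub _ T (img_faceHom_subset T R')).toOrderHom _
    (famF_sub P n b (img_faceHom_subset T R') hT) (famF_sub P n b hSS' (ne_img n T hT R'))]
  have hX : (imgF (sub _ T (img_faceHom_subset T R')).toOrderHom).obj (topF _) = X :=
    congrArg op (img_sub_top_eq T R' _)
  have hY : (imgF (sub _ T (img_faceHom_subset T R')).toOrderHom).obj
      (op ((Face.top _).img (sub _ _ hSS').toOrderHom)) = Y := by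
    change op (((Face.top _).img (sub _ _ hSS').toOrderHom).img
      (sub _ T (img_faceHom_subset T R')).toOrderHom) = Y
    rw [← sub_top_comp _ _ T hSS' (img_faceHom_subset T R')]
    exact congrArg op (img_sub_top_eq T R _)
  have e := map_eq_conj (famF P n b T hT).F
    ((imgF (sub _ T (img_faceHom_subset T R')).toOrderHom).map
      (fromTop ((Face.top _).img (sub _ _ hSS').toOrderHom))) f hX hY
  rw [e]
  simp only [Category.assoc, eqToHom_trans_assoc, eqToHom_trans]
  rfl

end Restrict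


lemma pull_bigSimp (hV : P V) {k : ℕ} (hk : k ≤ n) (θ : SimplexCategory.mk k ⟶ ⦋n + 1⦌) :
    (bigSimp P n b V g hV).pull θ.toOrderHom = fam P n b hk θ := by
  have hT : ((Face.top k).img θ.toOrderHom).1 ≠ Finset.univ :=
    img_ne_univ (Nat.lt_succ_of_le hk) _ _
  obtain ⟨χ, hχ⟩ := exists_factor ((Face.top k).img θ.toOrderHom) θ
    (fun i => Finset.mem_image_of_mem _ (Finset.mem_univ i))
  have h1 : fam P n b hk θ = (famF P n b _ hT).pull χ.toOrderHom :=
    fam_comp P n b (le_of_ne n hT) hk (faceHom _) χ θ hχ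
  rw [h1, ← pull_bigSimp_face P n b V g _ hT hV, Simp.pull_pull]
  congr 1
  exact (congrArg (fun z => ⇑(SimplexCategory.Hom.toOrderHom z)) hχ).symm

include g in
lemma bigObj_img_eq (hV : P V) {k : ℕ} (hk : k ≤ n) (θ : SimplexCategory.mk k ⟶ ⦋n + 1⦌) :
    bigObj P n b V ((Face.top k).img θ.toOrderHom) = (fam P n b hk θ).F.obj (topF k) :=
  congrArg (fun s => s.F.obj (topF k)) (pull_bigSimp P n b V g hV hk θ)

lemma bigMap_fromTop (hV : P V) {k : ℕ} (hk : k ≤ n) (θ : SimplexCategory.mk k ⟶ ⦋n + 1⦌)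
    (hsub : ((Face.top k).img θ.toOrderHom).1 ⊆ (Face.top (n + 1)).1) :
    bigMap P n b V g ((Face.top k).img θ.toOrderHom) (Face.top (n + 1)) hsub ≫
      eqToHom (bigObj_img_eq P n b V g hV hk θ) =
    eqToHom (bigObj_univ P n b V (Face.top (n + 1)) rfl) ≫ g ≫ β P n b hk θ := by
  have hT : ((Face.top k).img θ.toOrderHom).1 ≠ Finset.univ :=
    img_ne_univ (Nat.lt_succ_of_le hk) _ _
  obtain ⟨χ, hχ⟩ := exists_factor ((Face.top k).img θ.toOrderHom) θ
    (fun i => Finset.mem_image_of_mem _ (Finset.mem_univ i))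
  have hβ := β_comp P n b (le_of_ne n hT) hk (faceHom _) χ θ hχ
  have htop : topF _ = op ((Face.top k).img χ.toOrderHom) :=
    congrArg op (img_top_of_factor _ θ rfl χ hχ).symm
  rw [map_eq_eqToHom (fam P n b (le_of_ne n hT) (faceHom _)).F _ htop] at hβ
  rw [hβ]
  have htv : (Face.top (n + 1)).1 = Finset.univ := rfl
  rw [bigMap_pu P n b V g _ _ hsub htv hT]
  simp only [Category.assoc, eqToHom_trans]
  try exact congrArg (fun z => eqToHom (bigObj_univ P n b V (Face.top (n + 1)) rfl) ≫ g ≫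
    β P n b (le_of_ne n hT) (faceHom _) ≫ z) (eqToHom_trans _ _).symm

end Big


/-! ### the covering property -/

section Main

open Groth.Agent.Lib.Helper4.HyperBasis

variable (JD : GrothendieckTopology D)

/-- arrows factoring through an object satisfying `P` -/
def covSieve (O : D) : Sieve O where
  arrows V g := ∃ (V' : D) (a : V ⟶ V') (g' : V' ⟶ O), P V' ∧ a ≫ g' = g
  downward_closed := by
    rintro V W g ⟨V', a, g', hV', rfl⟩ f
    exact ⟨V', f ≫ a, g', hV', Category.assoc _ _ _⟩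

variable (n : ℕ)
  [∀ (F : (SimplexCategory.Truncated n)ᵒᵖ ⥤ FormalCoproduct.{u} D),
    (SimplexCategory.Truncated.inclusion n).op.HasPointwiseRightKanExtension F]

/-- the key equation: the assembled simplex lifts the given map -/
lemma key {O : D}
    (b : (FormalCoproduct.incl D).obj O ⟶ ((SimplicialObject.cosk n).obj (K P)).obj (op ⦋n + 1⦌))
    (V : D) (g : V ⟶ O) (hV : P V) :
    FormalCoproduct.Hom.fromIncl (Y := (K P).obj (op ⦋n + 1⦌)) (bigSimp P n b V g hV)
        (eqToHom (bigObj_univ P n b V (Face.top (n + 1)) rfl).symm) ≫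
      (CoskPw.η n (K P)).app (op ⦋n + 1⦌) = (FormalCoproduct.incl D).map g ≫ b := by
  apply CoskPw.hom_ext
  intro A
  rw [Category.assoc, CoskPw.η_π]
  obtain ⟨⟨⟨⟩⟩, ⟨⟨d, hd⟩⟩, θ⟩ := A
  refine FormalCoproduct.hom_ext ?_ ?_
  · funext x
    exact pull_bigSimp P n b V g hV hd θ.unop
  · intro x
    have h := bigMap_fromTop P n b V g hV hd θ.unop
      (le_of_le_of_eq (Finset.subset_univ _) (rfl : (Face.top (n + 1)).1 = Finset.univ).symm)
    have h' : eqToHom (bigObj_univ P n b V (Face.top (n + 1)) rfl).symm ≫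
        bigMap P n b V g ((Face.top d.len).img θ.unop.toOrderHom) (Face.top (n + 1))
          (le_of_le_of_eq (Finset.subset_univ _) (rfl : (Face.top (n + 1)).1 = Finset.univ).symm) ≫
        eqToHom (bigObj_img_eq P n b V g hV hd θ.unop) = g ≫ β P n b hd θ.unop := by
      rw [h, eqToHom_trans_assoc, eqToHom_refl, Category.id_comp]
    exact ((Category.assoc _ _ _).trans h').trans (Category.assoc _ _ _).symm

theorem isSRCovering_unit (hcov : ∀ O : D, covSieve P O ∈ JD O) :
    Hyper.IsSRCovering JD ((CoskPw.η n (K P)).app (op ⦋n + 1⦌)) := by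
  intro j
  refine JD.superset_covering ?_ (hcov _)
  rintro W g₀ ⟨V, a, g, hV, rfl⟩
  apply Sieve.downward_closed
  let b : (FormalCoproduct.incl D).obj ((((SimplicialObject.cosk n).obj (K P)).obj (op ⦋n + 1⦌)).obj j) ⟶
      ((SimplicialObject.cosk n).obj (K P)).obj (op ⦋n + 1⦌) := FormalCoproduct.Hom.fromIncl j (𝟙 _)
  obtain ⟨h1, h2⟩ := (FormalCoproduct.hom_ext_iff _ _).1 (key P n b V g hV)
  have hs : ((CoskPw.η n (K P)).app (op ⦋n + 1⦌)).f (bigSimp P n b V g hV) = j :=
    congrFun h1 PUnit.unit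
  rw [Sieve.mem_ofArrows_iff]
  refine ⟨⟨bigSimp P n b V g hV, hs⟩,
    eqToHom (bigObj_univ P n b V (Face.top (n + 1)) rfl).symm, ?_⟩
  have h3 := h2 PUnit.unit
  have h4 : (eqToHom (bigObj_univ P n b V (Face.top (n + 1)) rfl).symm ≫
      ((CoskPw.η n (K P)).app (op ⦋n + 1⦌)).φ (bigSimp P n b V g hV)) ≫ eqToHom _ = g ≫ 𝟙 _ := h3
  rw [Category.comp_id] at h4
  exact h4.symm.trans (Category.assoc _ _ _)

end Main

end Groth.Agent.Lib.Helper4.HyperEx
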