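import Mathlib.Tactic
import Groth.Agent.Lib.Helper4.CoskPw
import Groth.Agent.Lib.Helper4.PairLift
import Groth.Agent.Lib.Helper4.YonPres
import Groth.Agent.Lib.Helper4.HyperSite

namespace Groth.Agent.Lib.Helper4.PairSite

open CategoryTheory CategoryTheory.Limits Opposite Simplicial Groth.Agent.Lib.Helper4

universe v u

section General

variable {E : Type u} [Category.{v} E]
  [∀ (F : (SimplexCategory.Truncated 0)ᵒᵖ ⥤ E),
    (SimplexCategory.Truncated.inclusion 0).op.HasPointwiseRightKanExtension F]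
  (K : SimplicialObject E)

/-- the face projections `(cosk_0 K)_1 ⟶ K_0` -/
noncomputable def faceπ (i : Fin 2) :
    ((SimplicialObject.cosk 0).obj K).obj (op ⦋1⦌) ⟶ K.obj (op ⦋0⦌) :=
  CoskPw.π 0 K (PairLift.faceIdx i)

lemma η_faceπ (i : Fin 2) : (CoskPw.η 0 K).app (op ⦋1⦌) ≫ faceπ K i = K.δ i :=
  CoskPw.η_π 0 K (PairLift.faceIdx i)

/-- the face index of a general index object -/
def faceOf (A : CoskPw.Idx 0 (op ⦋1⦌)) : Fin 2 :=
  if A.hom.unop.toOrderHom 0 = 0 then 1 else 0

lemma δ_faceOf (A : CoskPw.Idx 0 (op ⦋1⦌)) :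
    (SimplexCategory.δ (faceOf A)).toOrderHom 0 = A.hom.unop.toOrderHom 0 := by
  unfold faceOf
  generalize A.hom.unop.toOrderHom 0 = v
  fin_cases v
  · rfl
  · rfl

/-- the comparison morphism in the index category -/
def toIdx (A : CoskPw.Idx 0 (op ⦋1⦌)) : PairLift.faceIdx (faceOf A) ⟶ A :=
  StructuredArrow.homMk
    (Quiver.Hom.op (ObjectProperty.homMk (SimplexCategory.const A.right.unop.obj ⦋0⦌ 0) :
      A.right.unop ⟶ (⟨⦋0⦌, le_rfl⟩ : SimplexCategory.Truncated 0))) (by
    apply Quiver.Hom.unop_inj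
    apply SimplexCategory.Hom.ext
    ext a : 2
    have ha : a = 0 := PairLift.vertex_eq _ _
    subst ha
    exact δ_faceOf A)

lemma π_eq (A : CoskPw.Idx 0 (op ⦋1⦌)) :
    CoskPw.π 0 K A = faceπ K (faceOf A) ≫
      K.map ((SimplexCategory.Truncated.inclusion 0).op.map (toIdx A).right) :=
  (CoskPw.π_naturality 0 K (toIdx A)).symm

lemma hom_ext2 {T : E} (f g : T ⟶ ((SimplicialObject.cosk 0).obj K).obj (op ⦋1⦌))
    (h : ∀ i : Fin 2, f ≫ faceπ K i = g ≫ faceπ K i) : f = g := by
  apply CoskPw.hom_ext 0 K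
  intro A
  rw [π_eq, ← Category.assoc, ← Category.assoc, h]

end General

section Site

variable {D : Type u} [SmallCategory D] (JD : GrothendieckTopology D)
  (K : SimplicialObject (FormalCoproduct.{u} D))

/-- converse of `HyperSite.locallySurjective_prodLift` -/
theorem liftSieve_mem
    (h : Presheaf.IsLocallySurjective JD
      (prod.lift (FormalCoproduct.yoneda.map (K.δ (1 : Fin 2)))
        (FormalCoproduct.yoneda.map (K.δ (0 : Fin 2)))))
    {U : D} (s t : (FormalCoproduct.incl D).obj U ⟶ K.obj (op ⦋0⦌)) :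
    PairLift.liftSieve K s t ∈ JD U := by
  let z : (FormalCoproduct.yoneda.obj (K.obj (op ⦋0⦌)) ⨯
      FormalCoproduct.yoneda.obj (K.obj (op ⦋0⦌))).obj (op U) :=
    FunctorToTypes.prodMk (YonElt.mk s) (YonElt.mk t)
  refine JD.superset_covering ?_ (h.imageSieve_mem z)
  rintro V g ⟨x, hx⟩
  obtain ⟨b, rfl⟩ := YonElt.exists_mk x
  refine ⟨b, ?_, ?_⟩
  · apply YonPres.mk_injective
    have e1 := ConcreteCategory.congr_hom (NatTrans.congr_app (prod.lift_fst
      (FormalCoproduct.yoneda.map (K.δ (1 : Fin 2)))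
      (FormalCoproduct.yoneda.map (K.δ (0 : Fin 2)))) (op V)) (YonElt.mk b)
    have e2 := ConcreteCategory.congr_hom ((prod.fst (X := FormalCoproduct.yoneda.obj (K.obj (op ⦋0⦌)))
      (Y := FormalCoproduct.yoneda.obj (K.obj (op ⦋0⦌)))).naturality g.op) z
    have e3 : (prod.fst (X := FormalCoproduct.yoneda.obj (K.obj (op ⦋0⦌)))
      (Y := FormalCoproduct.yoneda.obj (K.obj (op ⦋0⦌)))).app (op U) z = YonElt.mk s :=
      FunctorToTypes.prodMk_fst _ _
    rw [← YonElt.map_mk, ← YonElt.res_mk, ← e3]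
    refine e1.symm.trans ?_
    refine Eq.trans ?_ e2
    exact congrArg _ hx
  · apply YonPres.mk_injective
    have e1 := ConcreteCategory.congr_hom (NatTrans.congr_app (prod.lift_snd
      (FormalCoproduct.yoneda.map (K.δ (1 : Fin 2)))
      (FormalCoproduct.yoneda.map (K.δ (0 : Fin 2)))) (op V)) (YonElt.mk b)
    have e2 := ConcreteCategory.congr_hom ((prod.snd (X := FormalCoproduct.yoneda.obj (K.obj (op ⦋0⦌)))
      (Y := FormalCoproduct.yoneda.obj (K.obj (op ⦋0⦌)))).naturality g.op) z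
    have e3 : (prod.snd (X := FormalCoproduct.yoneda.obj (K.obj (op ⦋0⦌)))
      (Y := FormalCoproduct.yoneda.obj (K.obj (op ⦋0⦌)))).app (op U) z = YonElt.mk t :=
      FunctorToTypes.prodMk_snd _ _
    rw [← YonElt.map_mk, ← YonElt.res_mk, ← e3]
    refine e1.symm.trans ?_
    refine Eq.trans ?_ e2
    exact congrArg _ hx

variable [∀ (F : (SimplexCategory.Truncated 0)ᵒᵖ ⥤ FormalCoproduct.{u} D),
    (SimplexCategory.Truncated.inclusion 0).op.HasPointwiseRightKanExtension F]

/-- the unit of `cosk_0` in degree one is locally surjective -/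
theorem locallySurjective_unit_zero
    (h : Presheaf.IsLocallySurjective JD
      (prod.lift (FormalCoproduct.yoneda.map (K.δ (1 : Fin 2)))
        (FormalCoproduct.yoneda.map (K.δ (0 : Fin 2))))) :
    Presheaf.IsLocallySurjective JD
      (FormalCoproduct.yoneda.map ((CoskPw.η 0 K).app (op ⦋1⦌))) := by
  constructor
  intro U x
  obtain ⟨a, rfl⟩ := YonElt.exists_mk x
  refine JD.superset_covering ?_ (liftSieve_mem JD K h (a ≫ faceπ K 1) (a ≫ faceπ K 0))
  rintro V g ⟨b, h1, h0⟩
  refine ⟨YonElt.mk b, ?_⟩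
  rw [YonElt.map_mk, YonElt.res_mk]
  congr 1
  apply hom_ext2
  intro i
  fin_cases i
  · rw [Category.assoc, Category.assoc, η_faceπ]
    exact h0
  · rw [Category.assoc, Category.assoc, η_faceπ]
    exact h1

end Site

end Groth.Agent.Lib.Helper4.PairSite
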