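import Mathlib.Tactic
import Groth.Agent.Lib.Helper4.HyperAcyc
import Groth.Agent.Lib.Helper4.CoskGen

namespace Groth.Agent.Lib.Helper4.HyperAcyc2

open CategoryTheory CategoryTheory.Limits Opposite Simplicial
open Groth.Agent.Lib.Helper4.FreeLocBij Groth.Agent.Lib.Helper4.CoskGen
open Groth.Agent.Lib.Helper4.HyperAcyc (G Zc HEq' HEq'.trans HEq'.of_isIso HEq'.of_isIso_le pt toPt toPt_ext
  ptIsTerminal cpt toCpt isCoskeletal_const Y cpt_isZero cpt_zero)

universe u

variable {D : Type u} [SmallCategory D] (JD : GrothendieckTopology D)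

section Tower

variable [∀ (n : ℕ) (F : (SimplexCategory.Truncated n)ᵒᵖ ⥤ FormalCoproduct.{u} D),
    (SimplexCategory.Truncated.inclusion n).op.HasPointwiseRightKanExtension F]
  (K : SimplicialObject (FormalCoproduct.{u} D))

/-- the `n`-th coskeleton -/
noncomputable abbrev Q (n : ℕ) : SimplicialObject (FormalCoproduct.{u} D) :=
  (SimplicialObject.cosk n).obj K

lemma step_unit (i : ℕ) : HEq' JD i (K ⋙ Y) (Q K (i + 1) ⋙ Y) := by
  apply HEq'.of_isIso_le JD (Functor.whiskerRight (η K (i + 1)) Y)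
  intro j hj
  haveI := isIso_unit_app K (i + 1) ⦋j⦌ hj
  show IsIso (Y.map ((η K (i + 1)).app (op ⦋j⦌)))
  infer_instance

lemma step_t (hK : ∀ n : ℕ, Presheaf.IsLocallySurjective JD
      (Y.map ((η K n).app (op (SimplexCategory.mk (n + 1)))))) (i n : ℕ) :
    HEq' JD i (Q K (n + 1) ⋙ Y) (Q K n ⋙ Y) := by
  apply HEq'.of_isIso JD (Functor.whiskerRight (t K n) Y)
  haveI : ∀ (F : (SimplexCategory.Truncated (n + 1))ᵒᵖ ⥤ (Dᵒᵖ ⥤ Type u)),
      (SimplexCategory.Truncated.inclusion (n + 1)).op.HasRightKanExtension F := fun F => by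
    have := Groth.Agent.S6800.result (n + 1) F
    infer_instance
  have h3 : SimplicialObject.IsCoskeletal (Q K (n + 1) ⋙ Y) (n + 1) :=
    Groth.Agent.Lib.Helper4.CoskGen.isCoskeletal_comp Y (Q K (n + 1)) (n + 1)
  haveI := isCoskeletal_cosk_succ K n
  have h4 : SimplicialObject.IsCoskeletal (Q K n ⋙ Y) (n + 1) :=
    Groth.Agent.Lib.Helper4.CoskGen.isCoskeletal_comp Y (Q K n) (n + 1)
  refine Groth.Agent.Lib.Helper4.HyperQI.main6529 (Functor.whiskerRight (t K n) Y) (n + 1) ?_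
    ((SimplicialObject.isCoskeletal_iff_isIso _ _).1 h3)
    ((SimplicialObject.isCoskeletal_iff_isIso _ _).1 h4) JD ?_ i
  · intro j hj
    haveI := isIso_t_app K n ⦋j⦌ (Nat.lt_succ_iff.1 hj)
    show IsIso (Y.map ((t K n).app (op ⦋j⦌)))
    infer_instance
  · show Presheaf.IsLocallySurjective JD (Y.map ((t K n).app (op ⦋n + 1⦌)))
    rw [t_app_succ, Functor.map_comp]
    haveI := hK n
    haveI := isIso_unit_app K (n + 1) ⦋n + 1⦌ le_rfl
    infer_instance

lemma tower (hK : ∀ n : ℕ, Presheaf.IsLocallySurjective JD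
      (Y.map ((η K n).app (op (SimplexCategory.mk (n + 1)))))) (i n : ℕ) :
    HEq' JD i (Q K n ⋙ Y) (Q K 0 ⋙ Y) := by
  induction n with
  | zero => exact ⟨Iso.refl _⟩
  | succ n ih => exact (step_t JD K hK i n).trans JD ih

lemma step_bottom (h0 : Presheaf.IsLocallySurjective JD
      (toPt (Y.obj (K.obj (op (SimplexCategory.mk 0)))))) (i : ℕ) :
    HEq' JD i (Q K 0 ⋙ Y) cpt := by
  apply HEq'.of_isIso JD (toCpt (Q K 0 ⋙ Y))
  haveI : ∀ (F : (SimplexCategory.Truncated 0)ᵒᵖ ⥤ (Dᵒᵖ ⥤ Type u)),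
      (SimplexCategory.Truncated.inclusion 0).op.HasRightKanExtension F := fun F => by
    have := Groth.Agent.S6800.result 0 F
    infer_instance
  have h3 : SimplicialObject.IsCoskeletal (Q K 0 ⋙ Y) 0 :=
    Groth.Agent.Lib.Helper4.CoskGen.isCoskeletal_comp Y (Q K 0) 0
  have h4 : SimplicialObject.IsCoskeletal (cpt (D := D)) 0 := isCoskeletal_const ptIsTerminal 0
  refine Groth.Agent.Lib.Helper4.HyperQI.main6529 (toCpt (Q K 0 ⋙ Y)) 0 ?_
    ((SimplicialObject.isCoskeletal_iff_isIso _ _).1 h3)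
    ((SimplicialObject.isCoskeletal_iff_isIso _ _).1 h4) JD ?_ i
  · intro j hj
    exact absurd hj (Nat.not_lt_zero j)
  · show Presheaf.IsLocallySurjective JD (toPt (Y.obj ((Q K 0).obj (op ⦋0⦌))))
    have fac : Y.map ((η K 0).app (op ⦋0⦌)) ≫ toPt (Y.obj ((Q K 0).obj (op ⦋0⦌))) =
        toPt (Y.obj (K.obj (op ⦋0⦌))) := toPt_ext _ _
    exact Presheaf.isLocallySurjective_of_isLocallySurjective_fac JD fac

theorem main (h0 : Presheaf.IsLocallySurjective JD
      (toPt (Y.obj (K.obj (op (SimplexCategory.mk 0))))))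
    (hK : ∀ n : ℕ, Presheaf.IsLocallySurjective JD
      (Y.map ((η K n).app (op (SimplexCategory.mk (n + 1)))))) :
    (∀ i : ℕ, IsZero ((Zc JD (K ⋙ Y)).homology (i + 1))) ∧
    Nonempty ((Zc JD (K ⋙ Y)).homology 0 ≅
      (presheafToSheaf JD AddCommGrpCat.{u}).obj
        ((Functor.const Dᵒᵖ).obj (AddCommGrpCat.free.{u}.obj PUnit.{u + 1}))) := by
  have key : ∀ i, HEq' JD i (K ⋙ Y) cpt := fun i =>
    ((step_unit JD K i).trans JD (tower JD K hK i (i + 1))).trans JD (step_bottom JD K h0 i)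
  constructor
  · intro i
    exact IsZero.of_iso (cpt_isZero JD i) (key (i + 1)).some
  · exact ⟨(key 0).some ≪≫ (cpt_zero JD).some⟩

end Tower

end Groth.Agent.Lib.Helper4.HyperAcyc2
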