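import Mathlib.Tactic
import Groth.Agent.Lib.Helper4.FinNonempty
import Groth.Agent.Lib.Helper4.FCProd
import Groth.Agent.Lib.Helper4.HyperAcyc2
import Groth.Agent.Lib.Helper4.PairSite
import Groth.Prelude.Def_Hyper

namespace Groth.Agent.Lib.Helper4.SiteAcyc

open CategoryTheory CategoryTheory.Limits Opposite Simplicial Groth.Agent.Lib.Helper4

universe v' u' u

/-- pointwise right Kan extensions along the truncation inclusions exist in a category with
pullbacks and binary products -/
theorem hasPointwiseRKE {E : Type u'} [Category.{v'} E] [HasPullbacks E] [HasBinaryProducts E]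
    (m : ℕ) (U : (SimplexCategory.Truncated m)ᵒᵖ ⥤ E) :
    (SimplexCategory.Truncated.inclusion m).op.HasPointwiseRightKanExtension U := by
  intro Y
  haveI := Groth.Agent.S6800.finite_structuredArrow m Y
  haveI := fun A B => Groth.Agent.S6800.finite_structuredArrow_hom m Y A B
  haveI : Nonempty (StructuredArrow Y (SimplexCategory.Truncated.inclusion m).op) :=
    ⟨StructuredArrow.mk (Y := op (⟨⦋0⦌, Nat.zero_le m⟩ : SimplexCategory.Truncated m))
      (SimplexCategory.const ⦋0⦌ Y.unop 0).op⟩
  haveI := FinNonempty.hasLimitsOfShape_of_finite_nonempty (E := E)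
    (StructuredArrow Y (SimplexCategory.Truncated.inclusion m).op)
  show HasLimit _
  infer_instance

/-- the free group on a point -/
noncomputable def freePUnitIso : AddCommGrpCat.free.{u}.obj PUnit.{u + 1} ≅
    AddCommGrpCat.of (ULift.{u} ℤ) :=
  AddEquiv.toAddCommGrpIso
    ((FreeAbelianGroup.uniqueEquiv PUnit.{u + 1}).trans AddEquiv.ulift.symm)

theorem main3091 {C : Type u} [SmallCategory C] [HasPullbacks C] [HasBinaryProducts C]
    (J : GrothendieckTopology C) (K : SimplicialObject (FormalCoproduct.{u} C))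
    [∀ (n : ℕ) (F : (SimplexCategory.Truncated n)ᵒᵖ ⥤ Limits.FormalCoproduct.{u} C),
      (SimplexCategory.Truncated.inclusion n).op.HasRightKanExtension F]
    (hK : Hyper.IsHypercoveringSite J K) :
    (∀ n : ℕ, IsZero ((Hyper.freeChainCx J K).homology (n + 1))) ∧
    Nonempty ((Hyper.freeChainCx J K).homology 0 ≅
      (constantSheaf J AddCommGrpCat.{u}).obj (AddCommGrpCat.of (ULift.{u} ℤ))) := by
  haveI : ∀ (n : ℕ) (F : (SimplexCategory.Truncated n)ᵒᵖ ⥤ FormalCoproduct.{u} C),
      (SimplexCategory.Truncated.inclusion n).op.HasPointwiseRightKanExtension F :=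
    fun n F => hasPointwiseRKE n F
  have h0 : Presheaf.IsLocallySurjective J
      (HyperAcyc.toPt (HyperAcyc.Y.obj (K.obj (op (SimplexCategory.mk 0))))) :=
    HyperAcyc.toPt_locallySurjective _ _ hK.1
  have hn : ∀ n : ℕ, Presheaf.IsLocallySurjective J
      (HyperAcyc.Y.map ((CoskGen.η K n).app (op (SimplexCategory.mk (n + 1))))) := by
    intro n
    cases n with
    | zero => exact PairSite.locallySurjective_unit_zero J K hK.2.1
    | succ n => exact hK.2.2 (n + 1) (by omega)
  obtain ⟨h1, ⟨e⟩⟩ := HyperAcyc2.main J K h0 hn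
  refine ⟨h1, ⟨e ≪≫ (presheafToSheaf J AddCommGrpCat.{u}).mapIso
    ((Functor.const Cᵒᵖ).mapIso freePUnitIso)⟩⟩

end Groth.Agent.Lib.Helper4.SiteAcyc
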