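import Mathlib.Tactic
import Groth.Agent.Lib.Helper4.HyperEx
import Groth.Agent.Lib.Helper4.PairLift
import Groth.Agent.Lib.Helper4.PairSite
import Groth.Agent.Lib.Helper4.SiteAcyc
import Groth.Prelude.Def_Hyper

namespace Groth.Agent.Lib.Helper4.HyperExApp

open CategoryTheory CategoryTheory.Limits Opposite Simplicial
open Groth.Agent.Lib.Helper4.HyperBasis (Face)
open Groth.Agent.Lib.Helper4.HyperEx

universe u

section Const

variable {D : Type u} [SmallCategory D] (P : D → Prop)

/-- constant simplices -/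
def constSimp (n : ℕ) (V : D) (hV : P V) : Simp P n where
  F := (Functor.const _).obj V
  mem _ := hV

end Const

/-! ### hypercoverings of an object -/

section Over

variable {C : Type u} [SmallCategory C] [HasPullbacks C] (J : GrothendieckTopology C)
  (B : Set C) (X : C)
  [∀ (n : ℕ) (F : (SimplexCategory.Truncated n)ᵒᵖ ⥤ Limits.FormalCoproduct.{u} (Over X)),
      (SimplexCategory.Truncated.inclusion n).op.HasRightKanExtension F]

/-- the property of lying over `B` -/
def PB : Over X → Prop := fun Y => Y.left ∈ B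

theorem main6506
    (h1 : ∀ U : C, ∃ (ι : Type u) (V : ι → C) (f : ∀ i, V i ⟶ U), Sieve.ofArrows V f ∈ J U ∧ ∀ i, V i ∈ B) :
    ∃ K : SimplicialObject (FormalCoproduct.{u} (Over X)), Hyper.IsHypercovering J X K ∧
      ∀ (n : ℕ) (i : (K.obj (op (SimplexCategory.mk n))).I),
        ((K.obj (op (SimplexCategory.mk n))).obj i).left ∈ B := by
  refine ⟨K (PB B X), ⟨?_, ?_⟩, fun n i => i.mem _⟩
  · obtain ⟨ι, V, f, hcov, hV⟩ := h1 X
    refine J.superset_covering ?_ hcov
    rw [Sieve.ofArrows, Sieve.generate_le_iff]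
    rintro _ _ ⟨i⟩
    exact Sieve.ofArrows_mk _ _
      (show ((K (PB B X)).obj (op ⦋0⦌)).I from constSimp (PB B X) 0 (Over.mk (f i)) (hV i))
  · intro n
    haveI : ∀ (F : (SimplexCategory.Truncated n)ᵒᵖ ⥤ FormalCoproduct.{u} (Over X)),
        (SimplexCategory.Truncated.inclusion n).op.HasPointwiseRightKanExtension F :=
      fun F => Groth.Agent.S6800.result n F
    refine isSRCovering_unit (PB B X) (J.over X) n ?_
    intro O
    obtain ⟨ι, V, f, hcov, hV⟩ := h1 O.left
    rw [GrothendieckTopology.mem_over_iff]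
    refine J.superset_covering ?_ hcov
    rw [Sieve.ofArrows, Sieve.generate_le_iff]
    rintro _ _ ⟨i⟩
    rw [Sieve.overEquiv_iff]
    exact ⟨Over.mk (f i ≫ O.hom), 𝟙 _, Over.homMk (f i), hV i, Category.id_comp _⟩

end Over

end Groth.Agent.Lib.Helper4.HyperExApp
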