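import Mathlib.Tactic
import Mathlib.CategoryTheory.Sites.EpiMono
import Groth.Agent.Lib.Helper4.HCech3
import Groth.Agent.S6506

namespace Groth.Agent.Lib.Helper4.HCech4

open CategoryTheory CategoryTheory.Limits Opposite Simplicial Abelian
open Groth.Agent.Lib.Helper4.AcycCech Groth.Agent.Lib.Helper4.AcycChase Groth.Agent.Lib.Helper4.Refine4
  Groth.Agent.Lib.Helper4.HCech1 Groth.Agent.Lib.Helper4.HCech2 Groth.Agent.Lib.Helper4.HCech3
  Groth.Agent.Lib.Helper6.SheafCoh

universe u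

section ExtSide

variable {C : Type u} [SmallCategory C] (J : GrothendieckTopology C) (X : C)

lemma subsingleton_HU_zero_iff (F : Sheaf J AddCommGrpCat.{u}) :
    Subsingleton (CohSite.HU F 0 X) ↔ Subsingleton (F.obj.obj (op X)) := by
  constructor
  · intro h
    haveI : Subsingleton (Ext.{u} (Zfree J X) F 0) := h
    exact (H'equiv₀ J F X).symm.toEquiv.subsingleton
  · intro h
    exact ((H'equiv₀ J F X).toEquiv.subsingleton : Subsingleton (Ext.{u} (Zfree J X) F 0))

variable (S : ShortComplex (Sheaf J AddCommGrpCat.{u})) (hS : S.ShortExact)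

include hS in
lemma subsingleton_HU_one_iff [Injective S.X₂] :
    Subsingleton (CohSite.HU S.X₁ 1 X) ↔ Function.Surjective (S.g.hom.app (op X)) := by
  constructor
  · intro h s
    let ψ : Zfree J X ⟶ S.X₃ := (homEquiv J X S.X₃).symm s
    have h0 : (Ext.mk₀ ψ).comp hS.extClass (zero_add 1) = 0 :=
      Subsingleton.elim (α := CohSite.HU S.X₁ 1 X) _ _
    obtain ⟨y, hy⟩ := Ext.covariant_sequence_exact₃ (Zfree J X) hS (Ext.mk₀ ψ) (zero_add 1) h0
    obtain ⟨h', rfl⟩ := (Ext.mk₀_bijective _ _).2 y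
    rw [Ext.mk₀_comp_mk₀] at hy
    have hy' : h' ≫ S.g = ψ := (Ext.mk₀_bijective _ _).1 hy
    refine ⟨homEquiv J X S.X₂ h', ?_⟩
    rw [← homEquiv_naturality_right, hy', Equiv.apply_symm_apply]
  · intro hsurj
    refine ⟨fun a b => ?_⟩
    have key : ∀ x : Ext.{u} (Zfree J X) S.X₁ 1, x = 0 := by
      intro x
      have hx : x.comp (Ext.mk₀ S.f) (add_zero 1) = 0 := Ext.eq_zero_of_injective _
      obtain ⟨y, hy⟩ := Ext.covariant_sequence_exact₁ (Zfree J X) hS x hx (zero_add 1)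
      obtain ⟨ψ, rfl⟩ := (Ext.mk₀_bijective _ _).2 y
      obtain ⟨s, hs⟩ := hsurj (homEquiv J X S.X₃ ψ)
      have hψ : ψ = (homEquiv J X S.X₂).symm s ≫ S.g := by
        apply (homEquiv J X S.X₃).injective
        rw [homEquiv_naturality_right, Equiv.apply_symm_apply, hs]
      rw [← hy, hψ, ← Ext.mk₀_comp_mk₀, Ext.comp_assoc_of_second_deg_zero,
        ShortComplex.ShortExact.comp_extClass, Ext.comp_zero]
    exact (key a).trans (key b).symm

include hS in
lemma subsingleton_HU_succ_iff [Injective S.X₂] (q : ℕ) :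
    Subsingleton (CohSite.HU S.X₁ (q + 2) X) ↔ Subsingleton (CohSite.HU S.X₃ (q + 1) X) := by
  constructor
  · intro h
    refine ⟨fun a b => ?_⟩
    have key : ∀ y : Ext.{u} (Zfree J X) S.X₃ (q + 1), y = 0 := by
      intro y
      have h0 : y.comp hS.extClass (rfl : q + 1 + 1 = q + 2) = 0 :=
        Subsingleton.elim (α := CohSite.HU S.X₁ (q + 2) X) _ _
      obtain ⟨y', hy'⟩ := Ext.covariant_sequence_exact₃ (Zfree J X) hS y rfl h0
      rw [← hy', Ext.eq_zero_of_injective y', Ext.zero_comp]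
    exact (key a).trans (key b).symm
  · intro h
    refine ⟨fun a b => ?_⟩
    have key : ∀ x : Ext.{u} (Zfree J X) S.X₁ (q + 2), x = 0 := by
      intro x
      have hx : x.comp (Ext.mk₀ S.f) (add_zero (q + 2)) = 0 := Ext.eq_zero_of_injective _
      obtain ⟨y, hy⟩ := Ext.covariant_sequence_exact₁ (Zfree J X) hS x hx
        (rfl : q + 1 + 1 = q + 2)
      have hy0 : y = 0 := Subsingleton.elim (α := CohSite.HU S.X₃ (q + 1) X) _ _
      rw [← hy, hy0, Ext.zero_comp]
    exact (key a).trans (key b).symm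

end ExtSide


section CechSide

variable {C : Type u} [SmallCategory C] [HasPullbacks C] (J : GrothendieckTopology C) (X : C)
    [∀ (n : ℕ) (F : (SimplexCategory.Truncated n)ᵒᵖ ⥤ Limits.FormalCoproduct.{u} (Over X)),
      (SimplexCategory.Truncated.inclusion n).op.HasRightKanExtension F]

omit [HasPullbacks C] [∀ (n : ℕ) (F : (SimplexCategory.Truncated n)ᵒᵖ ⥤ Limits.FormalCoproduct.{u} (Over X)),
      (SimplexCategory.Truncated.inclusion n).op.HasRightKanExtension F] in
/-- an epimorphism of sheaves is locally surjective over `X` in the elementary sense -/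
lemma locSurj_of_epi {F G : Sheaf J AddCommGrpCat.{u}} (g : F ⟶ G) [Epi g] :
    LocSurj J X (PrMap J X g) := by
  intro U s
  have hls : Sheaf.IsLocallySurjective g := (Sheaf.isLocallySurjective_iff_epi' (φ := g)).2 inferInstance
  have h1 : Presheaf.imageSieve g.hom (U := U.left) s ∈ J U.left :=
    Presheaf.imageSieve_mem J g.hom s
  refine ⟨(Sieve.overEquiv U).symm (Presheaf.imageSieve g.hom (U := U.left) s), ?_, ?_⟩
  · rw [GrothendieckTopology.mem_over_iff]
    have : (Sieve.overEquiv U) ((Sieve.overEquiv U).symm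
        (Presheaf.imageSieve g.hom (U := U.left) s)) = _ := OrderIso.apply_symm_apply _ _
    rw [this]
    exact h1
  · intro V a ha
    rw [Sieve.overEquiv_symm_iff] at ha
    obtain ⟨t, ht⟩ := ha
    exact ⟨t, ht⟩

variable (S : ShortComplex (Sheaf J AddCommGrpCat.{u})) (hS : S.ShortExact)

omit [HasPullbacks C] [∀ (n : ℕ) (F : (SimplexCategory.Truncated n)ᵒᵖ ⥤ Limits.FormalCoproduct.{u} (Over X)),
      (SimplexCategory.Truncated.inclusion n).op.HasRightKanExtension F] in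
lemma prMap_zero : PrMap J X S.f ≫ PrMap J X S.g = 0 := by
  have h1 : S.f.hom ≫ S.g.hom = 0 := congrArg (fun t => t.hom) S.zero
  ext U : 2
  exact congrArg (fun t => t.app ((Over.forget X).op.obj U)) h1

include hS in
theorem Zq_shift_iff [Injective S.X₂] (r : ℕ) :
    Zq J X (Pr J X S.X₃) (r + 1) ↔ Zq J X (Pr J X S.X₁) (r + 2) := by
  haveI := hS.epi_g
  have hacyc : ∀ (K : SimplicialObject (FormalCoproduct.{u} (Over X))),
      Hyper.IsHypercovering J X K → ∀ j, ExactSucc (Kc K (Pr J X S.X₂)) j := fun K hK j =>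
    (isZero_homology_succ_iff _ j).1 (Groth.Agent.Lib.Helper4.CechInj.main0895 J X K hK S.X₂ j)
  constructor
  · exact Zq_shift_up (PrMap J X S.f) (PrMap J X S.g) (fun U => sections_injective J S hS _)
      (fun U x hx => sections_exact J S hS _ x hx) (prMap_zero J X S)
      (locSurj_of_epi J X S.g) hacyc r
  · exact Zq_shift_down (PrMap J X S.f) (PrMap J X S.g) (fun U => sections_injective J S hS _)
      (fun U x hx => sections_exact J S hS _ x hx) (prMap_zero J X S)
      (locSurj_of_epi J X S.g) hacyc r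

end CechSide


section H0

variable {C : Type u} [SmallCategory C] (J : GrothendieckTopology C) (X : C)
  (K L : SimplicialObject (FormalCoproduct.{u} (Over X))) (F G : Sheaf J AddCommGrpCat.{u})

/-- the degree zero comparison, typed in the product -/
noncomputable def φ0 : F.obj.obj (op X) ⟶ CX K (Pr J X F) 0 := HyperH0.φ J X K F

lemma π_φ0 (i : (K.obj (op ⦋0⦌)).I) (s : F.obj.obj (op X)) :
    Pi.π (fun j : (K.obj (op ⦋0⦌)).I => (Pr J X F).obj (op ((K.obj (op ⦋0⦌)).obj j))) i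
      (φ0 J X K F s) = F.obj.map ((K.obj (op ⦋0⦌)).obj i).hom.op s :=
  HyperH0.π_φ J X K F i s

lemma φ0_injective (hK0 : HyperPB.Covers J X (K.obj (op ⦋0⦌))) :
    Function.Injective (φ0 J X K F) := HyperH0.φ_injective J X K F hK0

variable {K L} in
lemma evalMap_φ0 (f : L ⟶ K) (s : F.obj.obj (op X)) :
    evalMap (Pr J X F) (f.app (op ⦋0⦌)) (φ0 J X K F s) = φ0 J X L F s := by
  refine CechH0.elt_ext (fun l : (L.obj (op ⦋0⦌)).I =>
    (Pr J X F).obj (op ((L.obj (op ⦋0⦌)).obj l))) _ _ (fun l => ?_)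
  rw [evalMap_π_apply, π_φ0, π_φ0]
  have hw : ((f.app (op ⦋0⦌)).φ l).left ≫ ((K.obj (op ⦋0⦌)).obj ((f.app (op ⦋0⦌)).f l)).hom =
      ((L.obj (op ⦋0⦌)).obj l).hom := Over.w _
  rw [← hw]
  exact HyperH0.map_map_apply J F _ _ s

variable {F G} in
lemma evalα_φ0 (g : F ⟶ G) (s : F.obj.obj (op X)) :
    evalα (PrMap J X g) (K.obj (op ⦋0⦌)) (φ0 J X K F s) = φ0 J X K G (g.hom.app (op X) s) := by
  refine CechH0.elt_ext (fun i : (K.obj (op ⦋0⦌)).I =>
    (Pr J X G).obj (op ((K.obj (op ⦋0⦌)).obj i))) _ _ (fun i => ?_)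
  rw [evalα_π_apply, π_φ0, π_φ0]
  have h6 := ConcreteCategory.congr_hom (g.hom.naturality ((K.obj (op ⦋0⦌)).obj i).hom.op) s
  rw [ConcreteCategory.comp_apply, ConcreteCategory.comp_apply] at h6
  exact h6

/-- the comparison as a cochain -/
noncomputable def φc (s : F.obj.obj (op X)) : (Kc K (Pr J X F)).X 0 := φ0 J X K F s

lemma φc_injective (hK0 : HyperPB.Covers J X (K.obj (op ⦋0⦌))) :
    Function.Injective (φc J X K F) := φ0_injective J X K F hK0

lemma φc_zero : φc J X K F 0 = 0 := map_zero (φ0 J X K F).hom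

lemma φc_sub (s t : F.obj.obj (op X)) :
    φc J X K F (s - t) = φc J X K F s - φc J X K F t := map_sub (φ0 J X K F).hom s t

lemma d_φc (s : F.obj.obj (op X)) : (Kc K (Pr J X F)).d 0 1 (φc J X K F s) = 0 := by
  have h1 := ConcreteCategory.congr_hom (HyperH0.φ_d J X K F) s
  have h2 : (Kc K (Pr J X F)).d 0 1 =
      HyperH0.cof' J X K F 0 - HyperH0.cof' J X K F 1 := HyperH0.d01' J X K F
  rw [h2]
  exact h1

variable {K L} in
lemma pb_φc (f : L ⟶ K) (s : F.obj.obj (op X)) :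
    (pb f (Pr J X F)).f 0 (φc J X K F s) = φc J X L F s := evalMap_φ0 J X F f s

variable {F G} in
lemma Km_φc (g : F ⟶ G) (s : F.obj.obj (op X)) :
    (Km K (PrMap J X g)).f 0 (φc J X K F s) = φc J X K G (g.hom.app (op X) s) :=
  evalα_φ0 J X K g s

variable [HasPullbacks C]
    [∀ (n : ℕ) (F : (SimplexCategory.Truncated n)ᵒᵖ ⥤ Limits.FormalCoproduct.{u} (Over X)),
      (SimplexCategory.Truncated.inclusion n).op.HasRightKanExtension F]

lemma φc_surj (hK : Hyper.IsHypercovering J X K) (y : (Kc K (Pr J X F)).X 0)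
    (hy : (Kc K (Pr J X F)).d 0 1 y = 0) : ∃ s, φc J X K F s = y := by
  have h2 : (Kc K (Pr J X F)).d 0 1 =
      HyperH0.cof' J X K F 0 - HyperH0.cof' J X K F 1 := HyperH0.d01' J X K F
  rw [h2] at hy
  exact HyperH0.φ_surj J X K F hK y hy

end H0


section Main

variable {C : Type u} [SmallCategory C] [HasPullbacks C] (J : GrothendieckTopology C) (X : C)
    [∀ (n : ℕ) (F : (SimplexCategory.Truncated n)ᵒᵖ ⥤ Limits.FormalCoproduct.{u} (Over X)),
      (SimplexCategory.Truncated.inclusion n).op.HasRightKanExtension F]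

lemma exists_hyper : ∃ K : SimplicialObject (FormalCoproduct.{u} (Over X)),
    Hyper.IsHypercovering J X K := by
  have h1 : ∀ U : C, ∃ (ι : Type u) (V : ι → C) (f : ∀ i, V i ⟶ U),
      Sieve.ofArrows V f ∈ J U ∧ ∀ i, V i ∈ (Set.univ : Set C) := by
    intro U
    refine ⟨PUnit.{u + 1}, fun _ => U, fun _ => 𝟙 U, ?_, fun _ => Set.mem_univ _⟩
    have hmem : Sieve.ofArrows (fun _ : PUnit.{u + 1} => U) (fun _ => 𝟙 U) (𝟙 U) := by
      rw [Sieve.mem_ofArrows_iff]
      exact ⟨PUnit.unit, 𝟙 U, (Category.comp_id _).symm⟩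
    rw [(Sieve.id_mem_iff_eq_top).1 hmem]
    exact J.top_mem U
  have h2 : ∀ (U : C) (ι : Type u) (V : ι → C) (f : ∀ i, V i ⟶ U),
      Sieve.ofArrows V f ∈ J U → (∀ i, V i ∈ (Set.univ : Set C)) → ∀ (U' : C) (g : U' ⟶ U),
      U' ∈ (Set.univ : Set C) →
      Sieve.ofArrows (Option.elim' U' V) (fun o => Option.rec g f o) ∈ J U := by
    intro U ι V f hcov _ U' g _
    refine J.superset_covering ?_ hcov
    intro W a ha
    rw [Sieve.mem_ofArrows_iff] at ha ⊢
    obtain ⟨i, b, hb⟩ := ha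
    exact ⟨some i, b, hb⟩
  obtain ⟨K, hK, -⟩ := Groth.Agent.S6506.result J (Set.univ) h1 h2 X
  exact ⟨K, hK⟩

theorem base0 (F : Sheaf J AddCommGrpCat.{u}) :
    Subsingleton (CohSite.HU F 0 X) ↔ Zq J X (Pr J X F) 0 := by
  rw [subsingleton_HU_zero_iff]
  constructor
  · intro h K hK c hc
    obtain ⟨s, rfl⟩ := φc_surj J X K F hK c hc
    refine ⟨K, 𝟙 K, hK, ?_⟩
    show (pb (𝟙 K) (Pr J X F)).f 0 (φc J X K F s) = 0
    rw [pb_id_apply, Subsingleton.elim s 0, φc_zero]
  · intro h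
    obtain ⟨K, hK⟩ := exists_hyper J X
    refine ⟨fun s t => ?_⟩
    obtain ⟨L, f, hL, hcob⟩ := h K hK (φc J X K F (s - t)) (d_φc J X K F _)
    have h0 : (pb f (Pr J X F)).f 0 (φc J X K F (s - t)) = 0 := hcob
    rw [pb_φc] at h0
    have := φc_injective J X L F hL.1 (h0.trans (φc_zero J X L F).symm)
    exact sub_eq_zero.1 this

theorem base1' (S : ShortComplex (Sheaf J AddCommGrpCat.{u})) (hS : S.ShortExact)
    [Injective S.X₂] :
    Subsingleton (CohSite.HU S.X₁ 1 X) ↔ Zq J X (Pr J X S.X₁) 1 := by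
  haveI := hS.epi_g
  have hacyc : ∀ (K : SimplicialObject (FormalCoproduct.{u} (Over X))),
      Hyper.IsHypercovering J X K → ∀ j, ExactSucc (Kc K (Pr J X S.X₂)) j := fun K hK j =>
    (isZero_homology_succ_iff _ j).1
      (Groth.Agent.Lib.Helper4.CechInj.main0895 J X K hK S.X₂ j)
  have hinj : ∀ U, Function.Injective ((PrMap J X S.f).app U) :=
    fun U => sections_injective J S hS _
  have hex : ∀ (U : (Over X)ᵒᵖ) (x : (Pr J X S.X₂).obj U),
      (PrMap J X S.g).app U x = 0 → ∃ w, (PrMap J X S.f).app U w = x :=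
    fun U x hx => sections_exact J S hS _ x hx
  have hzero := prMap_zero J X S
  have hβ := locSurj_of_epi J X S.g
  refine (subsingleton_HU_one_iff J X S hS).trans ?_
  constructor
  · intro hsurj K hK c hc
    have h1 : (Kc K (Pr J X S.X₂)).d 1 2 ((Km K (PrMap J X S.f)).f 1 c) = 0 := by
      rw [Km_d, hc, map_zero]
    obtain ⟨b, hb⟩ := hacyc K hK 0 _ h1
    have h2 : (Kc K (Pr J X S.X₃)).d 0 1 ((Km K (PrMap J X S.g)).f 0 b) = 0 := by
      rw [Km_d, hb, Km_comp_zero _ _ hzero]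
    obtain ⟨t, ht⟩ := φc_surj J X K S.X₃ hK _ h2
    obtain ⟨s, hs⟩ := hsurj t
    obtain ⟨a, ha⟩ := Km_exact (PrMap J X S.f) (PrMap J X S.g) hex K 0
      (b - φc J X K S.X₂ s) (by rw [map_sub, Km_φc, hs, ht, sub_self])
    refine ⟨K, 𝟙 K, hK, a, ?_⟩
    rw [pb_id_apply]
    apply Km_injective (PrMap J X S.f) hinj K 1
    rw [← Km_d, ha, map_sub, d_φc, sub_zero, hb]
  · intro hZ t
    obtain ⟨K, hK⟩ := exists_hyper J X
    obtain ⟨L, f, hL, b, hb⟩ := lift_cochain hβ hK 0 (φc J X K S.X₃ t)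
    rw [pb_φc] at hb
    have h1 : (Km L (PrMap J X S.g)).f 1 ((Kc L (Pr J X S.X₂)).d 0 1 b) = 0 := by
      rw [← Km_d, hb, d_φc]
    obtain ⟨c, hc⟩ := Km_exact (PrMap J X S.f) (PrMap J X S.g) hex L 1 _ h1
    have hdc : (Kc L (Pr J X S.X₁)).d 1 2 c = 0 := by
      apply Km_injective (PrMap J X S.f) hinj L 2
      rw [← Km_d, hc, d_d_apply, map_zero]
    obtain ⟨M, g, hM, a, ha⟩ := hZ L hL c hdc
    let y : (Kc M (Pr J X S.X₂)).X 0 := (pb g (Pr J X S.X₂)).f 0 b -
      (Km M (PrMap J X S.f)).f 0 a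
    have hy : (Kc M (Pr J X S.X₂)).d 0 1 y = 0 := by
      show (Kc M (Pr J X S.X₂)).d 0 1 ((pb g (Pr J X S.X₂)).f 0 b -
        (Km M (PrMap J X S.f)).f 0 a) = 0
      rw [map_sub, pb_d, Km_d, ha, ← hc, pb_Km_apply, sub_self]
    obtain ⟨s, hs⟩ := φc_surj J X M S.X₂ hM y hy
    refine ⟨s, ?_⟩
    apply φc_injective J X M S.X₃ hM.1
    rw [← Km_φc, hs]
    show (Km M (PrMap J X S.g)).f 0 ((pb g (Pr J X S.X₂)).f 0 b -
        (Km M (PrMap J X S.f)).f 0 a) = _
    rw [map_sub, Km_comp_zero _ _ hzero, sub_zero, pb_Km_apply, hb, pb_φc]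

theorem base1 (F : Sheaf J AddCommGrpCat.{u}) :
    Subsingleton (CohSite.HU F 1 X) ↔ Zq J X (Pr J X F) 1 :=
  base1' J X (emb J F) (emb_shortExact J F)

theorem main (q : ℕ) : ∀ F : Sheaf J AddCommGrpCat.{u},
    Subsingleton (CohSite.HU F q X) ↔ Zq J X (Pr J X F) q := by
  induction q with
  | zero => exact base0 J X
  | succ n ih =>
    cases n with
    | zero => exact base1 J X
    | succ r =>
      intro F
      exact (subsingleton_HU_succ_iff J X (emb J F) (emb_shortExact J F) r).trans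
        ((ih (emb J F).X₃).trans (Zq_shift_iff J X (emb J F) (emb_shortExact J F) r))

omit [HasPullbacks C] in
theorem zq_iff_homology (P : (Over X)ᵒᵖ ⥤ AddCommGrpCat.{u}) (q : ℕ) :
    Zq J X P q ↔
      ∀ (K : SimplicialObject (FormalCoproduct.{u} (Over X))), Hyper.IsHypercovering J X K →
        ∀ ξ : (Kc K P).homology q,
          ∃ (L : SimplicialObject (FormalCoproduct.{u} (Over X))) (f : L ⟶ K),
            Hyper.IsHypercovering J X L ∧ (HomologicalComplex.homologyMap (pb f P) q) ξ = 0 := by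
  constructor
  · intro h K hK ξ
    have hsurj : Function.Surjective ((Kc K P).homologyπ q) :=
      (AddCommGrpCat.epi_iff_surjective _).1 inferInstance
    obtain ⟨z, rfl⟩ := hsurj ξ
    obtain ⟨L, f, hL, hcob⟩ := h K hK ((Kc K P).iCycles q z) (d_iCycles _ q z)
    exact ⟨L, f, hL, (homologyMap_eq_zero_iff (pb f P) q z).2 hcob⟩
  · intro h K hK c hc
    obtain ⟨z, rfl⟩ := exists_cycle (Kc K P) q c hc
    obtain ⟨L, f, hL, h0⟩ := h K hK ((Kc K P).homologyπ q z)
    exact ⟨L, f, hL, (homologyMap_eq_zero_iff (pb f P) q z).1 h0⟩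

theorem main3891 (F : Sheaf J AddCommGrpCat.{u}) (q : ℕ) :
    Subsingleton (CohSite.HU F q X) ↔
      ∀ (K : SimplicialObject (FormalCoproduct.{u} (Over X))), Hyper.IsHypercovering J X K →
        ∀ ξ : Hyper.cechH X K F.obj q,
          ∃ (L : SimplicialObject (FormalCoproduct.{u} (Over X))) (f : L ⟶ K),
            Hyper.IsHypercovering J X L ∧ Hyper.cechHMap X f F.obj q ξ = 0 :=
  (main J X q F).trans (zq_iff_homology J X (Pr J X F) q)

end Main

end Groth.Agent.Lib.Helper4.HCech4
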