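import Mathlib.Tactic
import Mathlib.CategoryTheory.Sites.LocallyInjective
import Mathlib.CategoryTheory.Sites.LocallySurjective
import Groth.Agent.Lib.Helper4.HCech4

namespace Groth.Agent.Lib.Helper4.HCech5

open CategoryTheory CategoryTheory.Limits Opposite Simplicial Abelian
open Groth.Agent.Lib.Helper4.AcycCech Groth.Agent.Lib.Helper4.AcycChase Groth.Agent.Lib.Helper4.Refine4
  Groth.Agent.Lib.Helper4.HCech1 Groth.Agent.Lib.Helper4.HCech2 Groth.Agent.Lib.Helper4.HCech3
  Groth.Agent.Lib.Helper4.HCech4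

universe u

variable {C : Type u} [SmallCategory C] (J : GrothendieckTopology C) (X : C)

/-- restriction of a presheaf map to `Over X` -/
abbrev wh {G H : Cᵒᵖ ⥤ AddCommGrpCat.{u}} (η : G ⟶ H) :
    (Over.forget X).op ⋙ G ⟶ (Over.forget X).op ⋙ H :=
  Functor.whiskerLeft (Over.forget X).op η

lemma locSurj_wh {G H : Cᵒᵖ ⥤ AddCommGrpCat.{u}} (η : G ⟶ H)
    [Presheaf.IsLocallySurjective J η] : LocSurj J X (wh X η) := by
  intro U s
  have h1 : Presheaf.imageSieve η (U := U.left) s ∈ J U.left :=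
    Presheaf.imageSieve_mem J η s
  refine ⟨(Sieve.overEquiv U).symm (Presheaf.imageSieve η (U := U.left) s), ?_, ?_⟩
  · rw [GrothendieckTopology.mem_over_iff]
    have : (Sieve.overEquiv U) ((Sieve.overEquiv U).symm
        (Presheaf.imageSieve η (U := U.left) s)) = _ := OrderIso.apply_symm_apply _ _
    rw [this]
    exact h1
  · intro V a ha
    rw [Sieve.overEquiv_symm_iff] at ha
    obtain ⟨t, ht⟩ := ha
    exact ⟨t, ht⟩

lemma locInj_wh {G H : Cᵒᵖ ⥤ AddCommGrpCat.{u}} (η : G ⟶ H)
    [Presheaf.IsLocallyInjective J η] : LocInj J X (wh X η) := by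
  intro U s hs
  have h1 : Presheaf.equalizerSieve (F := G) (X := op U.left) s 0 ∈ J U.left :=
    Presheaf.equalizerSieve_mem J η (X := op U.left) s 0 (hs.trans (map_zero _).symm)
  refine ⟨(Sieve.overEquiv U).symm (Presheaf.equalizerSieve (F := G) (X := op U.left) s 0), ?_, ?_⟩
  · rw [GrothendieckTopology.mem_over_iff]
    have : (Sieve.overEquiv U) ((Sieve.overEquiv U).symm
        (Presheaf.equalizerSieve (F := G) (X := op U.left) s 0)) = _ :=
      OrderIso.apply_symm_apply _ _
    rw [this]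
    exact h1
  · intro V a ha
    rw [Sieve.overEquiv_symm_iff] at ha
    have ha' : G.map a.left.op s = G.map a.left.op 0 := ha
    rw [map_zero] at ha'
    exact ha'

variable [HasPullbacks C]
    [∀ (n : ℕ) (F : (SimplexCategory.Truncated n)ᵒᵖ ⥤ Limits.FormalCoproduct.{u} (Over X)),
      (SimplexCategory.Truncated.inclusion n).op.HasRightKanExtension F]

theorem main3892 (G : Cᵒᵖ ⥤ AddCommGrpCat.{u}) (q : ℕ) :
    Subsingleton (CohSite.HU ((presheafToSheaf J AddCommGrpCat.{u}).obj G) q X) ↔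
      ∀ (K : SimplicialObject (FormalCoproduct.{u} (Over X))), Hyper.IsHypercovering J X K →
        ∀ ξ : Hyper.cechH X K G q,
          ∃ (L : SimplicialObject (FormalCoproduct.{u} (Over X))) (f : L ⟶ K),
            Hyper.IsHypercovering J X L ∧ Hyper.cechHMap X f G q ξ = 0 := by
  refine (main J X q _).trans (Iff.trans ?_ (zq_iff_homology J X ((Over.forget X).op ⋙ G) q))
  have hs := locSurj_wh J X (toSheafify J G)
  have hi := locInj_wh J X (toSheafify J G)
  exact ⟨Zq_of_locBij_target hi hs q, Zq_of_locBij_source hi hs q⟩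

end Groth.Agent.Lib.Helper4.HCech5
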