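import Groth.Agent.Lib.Helper4.TwistInv
import Groth.Agent.Lib.Helper2.CurveExt
set_option backward.isDefEq.respectTransparency.types false
set_option autoImplicit false
set_option linter.style.haveILetI false

universe u
open CategoryTheory CategoryTheory.Limits AlgebraicGeometry Opposite TopologicalSpace

namespace Groth.Agent.Lib.Helper4.Higgs

open Groth.Agent.Lib.Helper8.CurveTensor Groth.Agent.Lib.Helper4.GPRank Groth.Agent.Lib.Helper8.EulerK
open Groth.Agent.Lib.Helper4.HilbPoly Groth.Agent.Lib.Helper4.CurveVB Groth.Agent.Lib.Helper4.TFCurve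
open Groth.Agent.Lib.Helper4.TwistInv

section cat
variable {C : Type*} [Category C] [Abelian C]

theorem pullback_w {E Q G : C} (π : E ⟶ Q) (j : G ⟶ Q) :
    pullback.fst π j ≫ π ≫ cokernel.π j = 0 := by
  rw [← Category.assoc, pullback.condition, Category.assoc, cokernel.condition, comp_zero]

/-- the preimage of a subobject `j` of a quotient `π : E ⟶ Q` is the kernel of `E ⟶ Q ⟶ Q / G` -/
theorem pullback_shortExact {E Q G : C} (π : E ⟶ Q) [Epi π] (j : G ⟶ Q) [Mono j] :
    (ShortComplex.mk (pullback.fst π j) (π ≫ cokernel.π j) (pullback_w π j)).ShortExact := by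
  refine ShortComplex.ShortExact.mk' ?_ inferInstance inferInstance
  apply ShortComplex.exact_of_f_is_kernel
  refine KernelFork.IsLimit.ofι _ _
    (fun {Z} t ht => pullback.lift t (Abelian.monoLift j (t ≫ π) (by rw [Category.assoc]; exact ht))
      (by rw [Abelian.monoLift_comp])) ?_ ?_
  · intro Z t ht
    exact pullback.lift_fst _ _ _
  · intro Z t ht m hm
    dsimp at hm
    rw [← cancel_mono (pullback.fst π j), hm, pullback.lift_fst]

/-- the preimage of a subobject of a quotient is an extension of it by the kernel -/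
theorem pullback_ses {A F Q G : C} (i : A ⟶ F) (π : F ⟶ Q) (hπ : i ≫ π = 0)
    (hex : (ShortComplex.mk i π hπ).ShortExact) (j : G ⟶ Q) [Mono j] :
    ∃ (a : A ⟶ pullback π j) (w : a ≫ pullback.snd π j = 0), a ≫ pullback.fst π j = i ∧
      (ShortComplex.mk a (pullback.snd π j) w).ShortExact := by
  haveI : Mono i := hex.mono_f
  haveI : Epi π := hex.epi_g
  let a : A ⟶ pullback π j := pullback.lift i 0 (by rw [hπ, zero_comp])
  have ha₁ : a ≫ pullback.fst π j = i := pullback.lift_fst _ _ _
  have ha₂ : a ≫ pullback.snd π j = 0 := pullback.lift_snd _ _ _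
  haveI : Mono a := by
    haveI : Mono (a ≫ pullback.fst π j) := by rw [ha₁]; infer_instance
    exact mono_of_mono a (pullback.fst π j)
  haveI : Epi (pullback.snd π j) := Abelian.epi_pullback_of_epi_f π j
  refine ⟨a, ha₂, ha₁, ?_⟩
  refine ShortComplex.ShortExact.mk' ?_ inferInstance inferInstance
  apply ShortComplex.exact_of_f_is_kernel
  refine KernelFork.IsLimit.ofι _ _ (fun {Z} t ht => hex.exact.lift (t ≫ pullback.fst π j) ?_) ?_ ?_
  · dsimp
    rw [Category.assoc, pullback.condition, ← Category.assoc, ht, zero_comp]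
  · intro Z t ht
    dsimp
    apply pullback.hom_ext
    · rw [Category.assoc, ha₁]
      exact hex.exact.lift_f _ _
    · rw [Category.assoc, ha₂, comp_zero, ht]
  · intro Z t ht m hm
    dsimp at hm ⊢
    rw [← cancel_mono a, hm]
    apply pullback.hom_ext
    · rw [Category.assoc, ha₁]
      exact (hex.exact.lift_f _ _).symm
    · rw [Category.assoc, ha₂, comp_zero, ht]

end cat

section general
variable {X : Scheme.{u}}

/-- lifting through `(-) ⊗ L` of a monomorphism with flat `L` -/
theorem exists_lift_tensor (S : ShortComplex X.Modules) (hS : S.ShortExact) (L : X.Modules)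
    (hL : FlatMod.IsFlat L) {W : X.Modules} (t : W ⟶ CohB1.tensorMod S.X₂ L)
    (ht : t ≫ LimSh.tensorModMap S.g L = 0) :
    ∃ ψ : W ⟶ CohB1.tensorMod S.X₁ L, ψ ≫ LimSh.tensorModMap S.f L = t := by
  have hT := shortExact_tensorModMap S hS L hL
  haveI := hT.mono_f
  exact ⟨hT.exact.lift t ht, hT.exact.lift_f t ht⟩

end general


section rank
variable (X : Scheme.{u}) [IsIntegral X]

/-- the cokernel of a monomorphism of bundles of the same rank is torsion -/
theorem notMem_support_cokernel {A B : X.Modules} (j : A ⟶ B) [Mono j] {r : ℕ}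
    (hA : FlatMod.IsFinLocFreeOfRank r A) (hB : FlatMod.IsFinLocFreeOfRank r B) :
    genericPoint X ∉ CohB1.support (cokernel j) := by
  have hAc := isCoh_of_isFinLocFreeOfRank A hA
  have hBc := isCoh_of_isFinLocFreeOfRank B hB
  have hQc := Groth.Agent.Lib.Helper6.DevCore.isCoh_cokernel j hAc hBc
  have hg := grank_add X _ (shortExact_cokernel j) hAc hBc hQc
  dsimp only at hg
  rw [grank_of_isFinLocFreeOfRank A hA, grank_of_isFinLocFreeOfRank B hB] at hg
  exact notMem_support_of_grank_eq_zero X _ hQc (by omega)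

end rank

section curve

variable (k : Type u) [Field k] (X : Scheme.{u}) [X.Over (Spec (CommRingCat.of k))] [IsIntegral X]
  [IsProper (X ↘ Spec (CommRingCat.of k))] [Smooth (X ↘ Spec (CommRingCat.of k))]

include k in
/-- a morphism from a torsion coherent module to a bundle vanishes -/
theorem hom_eq_zero_of_torsion (hdim : topologicalKrullDim X = 1) {T V : X.Modules} (hT : Coh.IsCoh T)
    (hgen : genericPoint X ∉ CohB1.support T) {n : ℕ} (hV : FlatMod.IsFinLocFreeOfRank n V) (t : T ⟶ V) :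
    t = 0 := by
  haveI : IsLocallyNoetherian X := isLocallyNoetherian k X
  have hVc := isCoh_of_isFinLocFreeOfRank V hV
  have hIc := Groth.Agent.Lib.Helper6.DevCore.isCoh_image t hT hVc
  have hKc := Groth.Agent.Lib.Helper6.DevCore.isCoh_kernel t hT hVc
  have hadd := grank_add X _ (Groth.Agent.Lib.Helper8.CurveVan.shortExact_kernel_image t) hKc hT hIc
  dsimp only at hadd
  rw [grank_eq_zero X T hgen] at hadd
  have hI0 : grank X (Abelian.image t) = 0 := by omega
  have hIz := Groth.Agent.Lib.Helper2.CurveExt.isZero_of_torsion_sub k X hdim (Abelian.image.ι t) hIc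
    (notMem_support_of_grank_eq_zero X _ hIc hI0) hV
  rw [← Abelian.image.fac t, hIz.eq_of_tgt (Abelian.factorThruImage t) 0, zero_comp]

/-- the preimage in a bundle `F` of a coherent submodule `G` of a quotient `F/A`, with all its structure maps -/
theorem pullback_locFree (hdim : topologicalKrullDim X = 1) (S : ShortComplex X.Modules) (hS : S.ShortExact)
    {rA s : ℕ} (hA : FlatMod.IsFinLocFreeOfRank rA S.X₁) (hF : FlatMod.IsFinLocFreeOfRank s S.X₂)
    {G : X.Modules} (j : G ⟶ S.X₃) [Mono j] (hG : Coh.IsCoh G) :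
    FlatMod.IsFinLocFreeOfRank (rA + grank X G) (pullback S.g j) ∧
      Curv2.deg k X (pullback S.g j) (rA + grank X G) = Curv2.deg k X S.X₁ rA + Curv2.deg k X G (grank X G) ∧
      ∃ a : S.X₁ ⟶ pullback S.g j, a ≫ pullback.fst S.g j = S.f := by
  haveI : IsLocallyNoetherian X := isLocallyNoetherian k X
  obtain ⟨a, w, ha, hS'⟩ := pullback_ses S.f S.g S.zero hS j
  have hAc := isCoh_of_isFinLocFreeOfRank _ hA
  have hG'c : Coh.IsCoh (pullback S.g j) := isCoh_of_shortExact _ hS' hAc hG
  haveI : Mono (pullback.fst S.g j) := inferInstance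
  have hloc := isFinLocFreeOfRank_of_mono (X ↘ Spec (CommRingCat.of k)) hdim (pullback.fst S.g j) hG'c hF
  have hg := grank_add X _ hS' hAc hG'c hG
  dsimp only at hg
  rw [grank_of_isFinLocFreeOfRank _ hA] at hg
  rw [hg] at hloc
  exact ⟨hloc, deg_add k X _ hS' hAc hG'c hG rA (grank X G), a, ha⟩


/-- Higgs semistability (for `L`-twisted pairs), in the shape of the statements -/
def HSS (L : X.Modules) (r : ℕ) {E : X.Modules} (φ : E ⟶ CohB1.tensorMod E L) : Prop :=
  ∀ (G : X.Modules) (s : ℕ) (j : G ⟶ E) (ψ : G ⟶ CohB1.tensorMod G L), Mono j → 0 < s →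
    FlatMod.IsFinLocFreeOfRank s G → ψ ≫ LimSh.tensorModMap j L = j ≫ φ →
    Curv2.deg k X G s * (r : ℤ) ≤ Curv2.deg k X E r * (s : ℤ)

/-- a Higgs subbundle of the same slope as a semistable Higgs bundle is saturated -/
theorem cokernel_locFree_of_inv (hdim : topologicalKrullDim X = 1)
    (L : X.Modules) (hL : PicF.IsInvertible L)
    (r : ℕ) (hr : 0 < r) (E : X.Modules) (hE : FlatMod.IsFinLocFreeOfRank r E)
    (φ : E ⟶ CohB1.tensorMod E L) (hss : HSS k X L r φ)
    (F : X.Modules) (r' : ℕ) (hr' : 0 < r') (hF : FlatMod.IsFinLocFreeOfRank r' F)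
    (i : F ⟶ E) [Mono i] (ψF : F ⟶ CohB1.tensorMod F L)
    (hψF : ψF ≫ LimSh.tensorModMap i L = i ≫ φ)
    (hslope : Curv2.deg k X F r' * (r : ℤ) = Curv2.deg k X E r * (r' : ℤ)) :
    FlatMod.IsFinLocFreeOfRank (r - r') (cokernel i) := by
  haveI : IsLocallyNoetherian X := isLocallyNoetherian k X
  haveI : CompactSpace X := QuasiCompact.compactSpace_of_compactSpace (X ↘ Spec (CommRingCat.of k))
  haveI : IsNoetherian X := { }
  have hEc := isCoh_of_isFinLocFreeOfRank E hE
  have hFc := isCoh_of_isFinLocFreeOfRank F hF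
  have hL1 := Groth.Agent.Lib.Helper6.K0Op.isFinLocFreeOfRank_one_of_isInvertible L hL
  have hLflat := Groth.Agent.Lib.Helper6.K0Op.isFlat_of_isFinLocFreeOfRank L hL1
  obtain ⟨N, hN⟩ := Groth.Agent.Lib.Helper2.VBDeg.exists_deg_bound k X hdim E hE
  -- a subbundle of rank `r'` containing `F`, of maximal degree
  let P : ℤ → Prop := fun z => ∃ (G' : X.Modules) (a : F ⟶ G') (p : G' ⟶ E), Mono p ∧ a ≫ p = i ∧
    FlatMod.IsFinLocFreeOfRank r' G' ∧ z = Curv2.deg k X G' r'
  have hbdd : ∃ b : ℤ, ∀ z, P z → z ≤ b := by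
    refine ⟨N, ?_⟩
    rintro z ⟨G', a, p, hp, -, hG', rfl⟩
    exact hN G' r' p hp hG'
  have hinh : ∃ z, P z := ⟨_, F, 𝟙 F, i, inferInstance, Category.id_comp i, hF, rfl⟩
  obtain ⟨z, ⟨G', a, p, hp, hap, hG', rfl⟩, hmax⟩ := Int.exists_greatest_of_bdd hbdd hinh
  haveI := hp
  haveI : Mono a := by
    haveI : Mono (a ≫ p) := by rw [hap]; infer_instance
    exact mono_of_mono a p
  have hG'c := isCoh_of_isFinLocFreeOfRank G' hG'
  have hCc := Groth.Agent.Lib.Helper6.DevCore.isCoh_cokernel p hG'c hEc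
  -- `E / G'` is locally free
  have hC' : FlatMod.IsFinLocFreeOfRank (grank X (cokernel p)) (cokernel p) := by
    refine isFinLocFreeOfRank_of_pure (X ↘ Spec (CommRingCat.of k)) hdim _ hCc ?_
    intro S j hj hS hgen
    haveI := hj
    obtain ⟨hG'', hdeg, a₂, ha₂⟩ := pullback_locFree k X hdim _ (shortExact_cokernel p) hG' hE j hS
    dsimp only at hG'' hdeg a₂ ha₂
    have hg0 : grank X S = 0 := grank_eq_zero X S hgen
    rw [hg0, add_zero] at hG'' hdeg
    rw [deg_zero_rank] at hdeg
    have h1 := hmax _ ⟨pullback (cokernel.π p) j, a ≫ a₂, pullback.fst (cokernel.π p) j, inferInstance,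
      by rw [Category.assoc, ha₂, hap], hG'', rfl⟩
    rw [hdeg] at h1
    exact isZero_of_euler_nonpos k X hdim.le S hS hgen (by linarith)
  have hCL : FlatMod.IsFinLocFreeOfRank (grank X (cokernel p)) (CohB1.tensorMod (cokernel p) L) := by
    have := isFinLocFreeOfRank_tensorMod (cokernel p) L hC' hL1
    rwa [mul_one] at this
  -- `G'` is `φ`-invariant
  have hQc := Groth.Agent.Lib.Helper6.DevCore.isCoh_cokernel a hFc hG'c
  have hQgen := notMem_support_cokernel X a hF hG'
  have hzero : (p ≫ φ) ≫ LimSh.tensorModMap (cokernel.π p) L = 0 := by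
    have h0 : a ≫ ((p ≫ φ) ≫ LimSh.tensorModMap (cokernel.π p) L) = 0 := by
      rw [← Category.assoc, ← Category.assoc, hap, ← hψF, Category.assoc, ← LimSh.tensorModMap_comp,
        ← hap, Category.assoc, cokernel.condition, comp_zero, tensorModMap_zero, comp_zero]
    have hfac : cokernel.π a ≫ cokernel.desc a _ h0 = (p ≫ φ) ≫ LimSh.tensorModMap (cokernel.π p) L :=
      cokernel.π_desc _ _ _
    rw [← hfac, hom_eq_zero_of_torsion k X hdim hQc hQgen hCL (cokernel.desc a _ h0), comp_zero]
  obtain ⟨ψ', hψ'⟩ := exists_lift_tensor _ (shortExact_cokernel p) L hLflat (p ≫ φ) hzero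
  have h1 := hss G' r' p ψ' hp hr' hG' hψ'
  rw [← hslope] at h1
  have hrZ : (0 : ℤ) < r := by exact_mod_cast hr
  have h2 : Curv2.deg k X G' r' ≤ Curv2.deg k X F r' := le_of_mul_le_mul_right h1 hrZ
  obtain ⟨h3, h4⟩ := deg_le_of_mono_of_rank_eq k X hdim.le a hF hG'
  haveI : IsIso a := h4 (le_antisymm h3 h2)
  -- conclude
  have e : cokernel i ≅ cokernel p := cokernelIsoOfEq hap.symm ≪≫ cokernelEpiComp a p
  have hg := grank_add X _ (shortExact_cokernel p) hG'c hEc hCc
  dsimp only at hg
  rw [grank_of_isFinLocFreeOfRank _ hG', grank_of_isFinLocFreeOfRank _ hE] at hg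
  have hrk : grank X (cokernel p) = r - r' := by omega
  rw [hrk] at hC'
  exact isFinLocFreeOfRank_of_iso e.symm hC'

/-- the quotient of a semistable Higgs bundle by a Higgs subbundle of the same slope is semistable -/
theorem quotient_semistable (hdim : topologicalKrullDim X = 1)
    (L : X.Modules) (hL : PicF.IsInvertible L)
    (r : ℕ) (hr : 0 < r) (E : X.Modules) (hE : FlatMod.IsFinLocFreeOfRank r E)
    (φ : E ⟶ CohB1.tensorMod E L) (hss : HSS k X L r φ)
    (F : X.Modules) (r' : ℕ) (hF : FlatMod.IsFinLocFreeOfRank r' F)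
    (i : F ⟶ E) [Mono i]
    (hslope : Curv2.deg k X F r' * (r : ℤ) = Curv2.deg k X E r * (r' : ℤ))
    (hC : FlatMod.IsFinLocFreeOfRank (r - r') (cokernel i))
    (φ' : cokernel i ⟶ CohB1.tensorMod (cokernel i) L)
    (hφ' : cokernel.π i ≫ φ' = φ ≫ LimSh.tensorModMap (cokernel.π i) L)
    (G : X.Modules) (s : ℕ) (j : G ⟶ cokernel i) (ψ : G ⟶ CohB1.tensorMod G L) [Mono j] (hs : 0 < s)
    (hG : FlatMod.IsFinLocFreeOfRank s G) (hψ : ψ ≫ LimSh.tensorModMap j L = j ≫ φ') :
    Curv2.deg k X G s * ((r - r' : ℕ) : ℤ) ≤ Curv2.deg k X (cokernel i) (r - r') * (s : ℤ) := by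
  haveI : IsLocallyNoetherian X := isLocallyNoetherian k X
  have hEc := isCoh_of_isFinLocFreeOfRank E hE
  have hFc := isCoh_of_isFinLocFreeOfRank F hF
  have hGc := isCoh_of_isFinLocFreeOfRank G hG
  have hCc := isCoh_of_isFinLocFreeOfRank _ hC
  have hL1 := Groth.Agent.Lib.Helper6.K0Op.isFinLocFreeOfRank_one_of_isInvertible L hL
  have hLflat := Groth.Agent.Lib.Helper6.K0Op.isFlat_of_isFinLocFreeOfRank L hL1
  have hle : r' ≤ r := rank_le_of_mono i hF hE
  obtain ⟨hP, hdeg, -⟩ := pullback_locFree k X hdim _ (shortExact_cokernel i) hF hE j hGc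
  dsimp only at hP hdeg
  rw [grank_of_isFinLocFreeOfRank _ hG] at hP hdeg
  have hT := pullback_shortExact (cokernel.π i) j
  have ht : (pullback.fst (cokernel.π i) j ≫ φ) ≫
      LimSh.tensorModMap (cokernel.π i ≫ cokernel.π j) L = 0 := by
    rw [LimSh.tensorModMap_comp, Category.assoc, ← Category.assoc φ, ← hφ', ← Category.assoc,
      ← Category.assoc, pullback.condition, Category.assoc, Category.assoc, ← Category.assoc j,
      ← hψ, Category.assoc, ← LimSh.tensorModMap_comp, cokernel.condition, tensorModMap_zero,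
      comp_zero, comp_zero]
  obtain ⟨ψ', hψ'⟩ := exists_lift_tensor _ hT L hLflat _ ht
  dsimp only at hψ'
  have h1 := hss _ (r' + s) (pullback.fst (cokernel.π i) j) ψ' inferInstance (by omega) hP hψ'
  rw [hdeg] at h1
  have hadd := deg_add k X _ (shortExact_cokernel i) hFc hEc hCc r' (r - r')
  dsimp only at hadd
  rw [show r' + (r - r') = r by omega] at hadd
  rw [Nat.cast_sub hle]
  have hrZ : (0 : ℤ) < r := by exact_mod_cast hr
  have hle' : (r' : ℤ) ≤ r := by exact_mod_cast hle
  push_cast at h1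
  have h2 : Curv2.deg k X G s * (r : ℤ) ≤ Curv2.deg k X E r * (s : ℤ) := by linarith
  have key : (Curv2.deg k X G s * ((r : ℤ) - r')) * r ≤ (Curv2.deg k X (cokernel i) (r - r') * (s : ℤ)) * r := by
    have h3 : Curv2.deg k X (cokernel i) (r - r') = Curv2.deg k X E r - Curv2.deg k X F r' := by linarith
    rw [h3]
    have h4 : Curv2.deg k X G s * (r : ℤ) * ((r : ℤ) - r') ≤ Curv2.deg k X E r * (s : ℤ) * ((r : ℤ) - r') :=
      mul_le_mul_of_nonneg_right h2 (by linarith)
    have h5 : (Curv2.deg k X E r - Curv2.deg k X F r') * (s : ℤ) * r =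
        Curv2.deg k X E r * (s : ℤ) * ((r : ℤ) - r') := by
      have : Curv2.deg k X F r' * (s : ℤ) * r = Curv2.deg k X E r * (r' : ℤ) * s := by
        rw [← hslope]; ring
      linarith [this]
    rw [h5]
    linarith [h4]
  exact le_of_mul_le_mul_right key hrZ

end curve

end Groth.Agent.Lib.Helper4.Higgs
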