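import Groth.Agent.Lib.Helper4.Higgs
set_option backward.isDefEq.respectTransparency.types false
set_option autoImplicit false
set_option linter.style.haveILetI false
set_option linter.unusedSectionVars false

universe u
open CategoryTheory CategoryTheory.Limits AlgebraicGeometry Opposite TopologicalSpace

namespace Groth.Agent.Lib.Helper4.Higgs

open Groth.Agent.Lib.Helper8.CurveTensor Groth.Agent.Lib.Helper4.GPRank Groth.Agent.Lib.Helper8.EulerK
open Groth.Agent.Lib.Helper4.HilbPoly Groth.Agent.Lib.Helper4.CurveVB Groth.Agent.Lib.Helper4.TFCurve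
open Groth.Agent.Lib.Helper4.TwistInv

section curve

variable (k : Type u) [Field k] (X : Scheme.{u}) [X.Over (Spec (CommRingCat.of k))] [IsIntegral X]
  [IsProper (X ↘ Spec (CommRingCat.of k))] [Smooth (X ↘ Spec (CommRingCat.of k))]

/-- degree inequality for Higgs subbundles of any rank (including zero) -/
theorem deg_le_of_hss (L : X.Modules) (r : ℕ) {E : X.Modules} (φ : E ⟶ CohB1.tensorMod E L)
    (hss : HSS k X L r φ) (G : X.Modules) (s : ℕ) (j : G ⟶ E) (ψ : G ⟶ CohB1.tensorMod G L) [Mono j]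
    (hG : FlatMod.IsFinLocFreeOfRank s G) (hψ : ψ ≫ LimSh.tensorModMap j L = j ≫ φ) :
    Curv2.deg k X G s * (r : ℤ) ≤ Curv2.deg k X E r * (s : ℤ) := by
  rcases Nat.eq_zero_or_pos s with rfl | hs
  · rw [deg_of_isZero k X (isZero_of_rank_zero hG)]
    simp
  · exact hss G s j ψ inferInstance hs hG hψ

/-- a Higgs subbundle of the same slope of a semistable Higgs bundle is semistable -/
theorem hss_sub (L : X.Modules) (r : ℕ) (hr : 0 < r) {E : X.Modules} (φ : E ⟶ CohB1.tensorMod E L)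
    (hss : HSS k X L r φ) (E' : X.Modules) (r' : ℕ) (ι : E' ⟶ E) (ψ' : E' ⟶ CohB1.tensorMod E' L) [Mono ι]
    (hψ' : ψ' ≫ LimSh.tensorModMap ι L = ι ≫ φ)
    (hslope : Curv2.deg k X E' r' * (r : ℤ) = Curv2.deg k X E r * (r' : ℤ)) :
    HSS k X L r' ψ' := by
  intro G s j χ hj hs hG hχ
  haveI := hj
  have h1 := hss G s (j ≫ ι) χ inferInstance hs hG (by
    rw [LimSh.tensorModMap_comp, ← Category.assoc, hχ, Category.assoc, hψ', Category.assoc])
  have hrZ : (0 : ℤ) < r := by exact_mod_cast hr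
  have key : (Curv2.deg k X G s * (r' : ℤ)) * r ≤ (Curv2.deg k X E' r' * (s : ℤ)) * r := by
    have h2 : Curv2.deg k X G s * (r : ℤ) * r' ≤ Curv2.deg k X E r * (s : ℤ) * r' :=
      mul_le_mul_of_nonneg_right h1 (by positivity)
    have h3 : Curv2.deg k X E' r' * (s : ℤ) * r = Curv2.deg k X E r * (s : ℤ) * r' := by
      have : Curv2.deg k X E' r' * (s : ℤ) * r = Curv2.deg k X E' r' * (r : ℤ) * s := by ring
      rw [this, hslope]; ring
    rw [h3]
    linarith [h2]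
  exact le_of_mul_le_mul_right key hrZ

/-- `cokernel_locFree_of_inv` without positivity of the rank of the subbundle -/
theorem cokernel_locFree_of_inv' (hdim : topologicalKrullDim X = 1)
    (L : X.Modules) (hL : PicF.IsInvertible L)
    (r : ℕ) (hr : 0 < r) (E : X.Modules) (hE : FlatMod.IsFinLocFreeOfRank r E)
    (φ : E ⟶ CohB1.tensorMod E L) (hss : HSS k X L r φ)
    (F : X.Modules) (r' : ℕ) (hF : FlatMod.IsFinLocFreeOfRank r' F)
    (i : F ⟶ E) [Mono i] (ψF : F ⟶ CohB1.tensorMod F L)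
    (hψF : ψF ≫ LimSh.tensorModMap i L = i ≫ φ)
    (hslope : Curv2.deg k X F r' * (r : ℤ) = Curv2.deg k X E r * (r' : ℤ)) :
    FlatMod.IsFinLocFreeOfRank (r - r') (cokernel i) := by
  rcases Nat.eq_zero_or_pos r' with rfl | hr'
  · have hz : IsZero F := isZero_of_rank_zero hF
    have hi : i = 0 := hz.eq_of_src _ _
    subst hi
    exact isFinLocFreeOfRank_of_iso (cokernelZeroIsoTarget (X := F) (Y := E)).symm (by simpa using hE)
  · exact cokernel_locFree_of_inv k X hdim L hL r hr E hE φ hss F r' hr' hF i ψF hψF hslope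

/-- opposite Higgs filtrations of semistable Higgs bundles of the same rank and degree: all the steps have the
same slope -/
theorem opposite_filtrations_slope
    (L : X.Modules) (r : ℕ) (d : ℤ)
    (E : X.Modules) (φE : E ⟶ CohB1.tensorMod E L)
    (hEd : Curv2.deg k X E r = d) (hEss : HSS k X L r φE)
    (F : X.Modules) (φF : F ⟶ CohB1.tensorMod F L)
    (hFd : Curv2.deg k X F r = d) (hFss : HSS k X L r φF)
    (n : ℕ)
    (Es : ℕ → X.Modules) (rE : ℕ → ℕ) (hEs : ∀ i, FlatMod.IsFinLocFreeOfRank (rE i) (Es i))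
    (ιE : ∀ i, Es i ⟶ E) (hιE : ∀ i, Mono (ιE i))
    (ψE : ∀ i, Es i ⟶ CohB1.tensorMod (Es i) L)
    (hψE : ∀ i, ψE i ≫ LimSh.tensorModMap (ιE i) L = ιE i ≫ φE)
    (a : ∀ i, Es i ⟶ Es (i + 1)) (ha : ∀ i, a i ≫ ιE (i + 1) = ιE i)
    (hE0 : IsZero (Es 0))
    (Fs : ℕ → X.Modules) (rF : ℕ → ℕ) (hFs : ∀ i, FlatMod.IsFinLocFreeOfRank (rF i) (Fs i))
    (ιF : ∀ i, Fs i ⟶ F) (hιF : ∀ i, Mono (ιF i))
    (ψF : ∀ i, Fs i ⟶ CohB1.tensorMod (Fs i) L)
    (hψF : ∀ i, ψF i ≫ LimSh.tensorModMap (ιF i) L = ιF i ≫ φF)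
    (b : ∀ i, Fs (i + 1) ⟶ Fs i) (hb : ∀ i, b i ≫ ιF i = ιF (i + 1))
    (hF0 : IsIso (ιF 0))
    (hrk : ∀ i, i ≤ n → rE i + rF i = r)
    (hopp : ∀ i, i < n → Nonempty (cokernel (a i) ≅ cokernel (b i))) :
    ∀ i, i ≤ n → Curv2.deg k X (Es i) (rE i) * (r : ℤ) = d * (rE i : ℤ) ∧
      Curv2.deg k X (Fs i) (rF i) * (r : ℤ) = d * (rF i : ℤ) := by
  haveI : IsLocallyNoetherian X := isLocallyNoetherian k X
  have hma : ∀ i, Mono (a i) := fun i => by
    haveI : Mono (a i ≫ ιE (i + 1)) := by rw [ha]; exact hιE i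
    exact mono_of_mono (a i) (ιE (i + 1))
  have hmb : ∀ i, Mono (b i) := fun i => by
    haveI : Mono (b i ≫ ιF i) := by rw [hb]; exact hιF (i + 1)
    exact mono_of_mono (b i) (ιF i)
  have hsum : ∀ i, i ≤ n → Curv2.deg k X (Es i) (rE i) + Curv2.deg k X (Fs i) (rF i) = d := by
    intro i
    induction i with
    | zero =>
      intro _
      have h0 : rE 0 = 0 := by
        by_contra hne
        exact Groth.Agent.Lib.Helper4.CurveVB.not_isZero_of_rank_pos (Nat.pos_of_ne_zero hne) (hEs 0) hE0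
      have h1 : rF 0 = r := by have := hrk 0 (Nat.zero_le n); omega
      haveI := hF0
      rw [h0, h1, deg_of_isZero k X hE0, deg_congr k X (asIso (ιF 0)) r, zero_add]
      exact hFd
    | succ i ih =>
      intro hi
      have ih' := ih (by omega)
      haveI := hma i
      haveI := hmb i
      have hcE := isCoh_of_isFinLocFreeOfRank _ (hEs i)
      have hcE' := isCoh_of_isFinLocFreeOfRank _ (hEs (i + 1))
      have hcF := isCoh_of_isFinLocFreeOfRank _ (hFs i)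
      have hcF' := isCoh_of_isFinLocFreeOfRank _ (hFs (i + 1))
      have hle1 : rE i ≤ rE (i + 1) := rank_le_of_mono (a i) (hEs i) (hEs (i + 1))
      have hle2 : rF (i + 1) ≤ rF i := rank_le_of_mono (b i) (hFs (i + 1)) (hFs i)
      have hr1 := hrk i (by omega)
      have hr2 := hrk (i + 1) hi
      have hA := deg_add k X _ (shortExact_cokernel (a i)) hcE hcE'
        (Groth.Agent.Lib.Helper6.DevCore.isCoh_cokernel (a i) hcE hcE') (rE i) (rE (i + 1) - rE i)
      have hB := deg_add k X _ (shortExact_cokernel (b i)) hcF' hcF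
        (Groth.Agent.Lib.Helper6.DevCore.isCoh_cokernel (b i) hcF' hcF) (rF (i + 1)) (rE (i + 1) - rE i)
      dsimp only at hA hB
      rw [show rE i + (rE (i + 1) - rE i) = rE (i + 1) by omega] at hA
      rw [show rF (i + 1) + (rE (i + 1) - rE i) = rF i by omega] at hB
      obtain ⟨e⟩ := hopp i (by omega)
      rw [deg_congr k X e] at hA
      linarith
  intro i hi
  haveI := hιE i
  haveI := hιF i
  have h1 := deg_le_of_hss k X L r φE hEss (Es i) (rE i) (ιE i) (ψE i) (hEs i) (hψE i)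
  have h2 := deg_le_of_hss k X L r φF hFss (Fs i) (rF i) (ιF i) (ψF i) (hFs i) (hψF i)
  rw [hEd] at h1
  rw [hFd] at h2
  have h3 := hsum i hi
  have h4 : ((rE i : ℤ) + (rF i : ℤ)) = r := by exact_mod_cast hrk i hi
  have h5 : (Curv2.deg k X (Es i) (rE i) + Curv2.deg k X (Fs i) (rF i)) * (r : ℤ) =
      d * ((rE i : ℤ) + (rF i : ℤ)) := by rw [h3, h4]
  constructor <;> nlinarith

/-- **S15330**: opposite Higgs filtrations of semistable Higgs bundles of the same rank and degree -/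
theorem opposite_filtrations (hdim : topologicalKrullDim X = 1)
    (L : X.Modules) (hL : PicF.IsInvertible L) (r : ℕ) (hr : 0 < r) (d : ℤ)
    (E : X.Modules) (φE : E ⟶ CohB1.tensorMod E L)
    (hEd : Curv2.deg k X E r = d) (hEss : HSS k X L r φE)
    (F : X.Modules) (φF : F ⟶ CohB1.tensorMod F L)
    (hFd : Curv2.deg k X F r = d) (hFss : HSS k X L r φF)
    (n : ℕ)
    (Es : ℕ → X.Modules) (rE : ℕ → ℕ) (hEs : ∀ i, FlatMod.IsFinLocFreeOfRank (rE i) (Es i))
    (ιE : ∀ i, Es i ⟶ E) (hιE : ∀ i, Mono (ιE i))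
    (ψE : ∀ i, Es i ⟶ CohB1.tensorMod (Es i) L)
    (hψE : ∀ i, ψE i ≫ LimSh.tensorModMap (ιE i) L = ιE i ≫ φE)
    (a : ∀ i, Es i ⟶ Es (i + 1)) (ha : ∀ i, a i ≫ ιE (i + 1) = ιE i)
    (hE0 : IsZero (Es 0))
    (Fs : ℕ → X.Modules) (rF : ℕ → ℕ) (hFs : ∀ i, FlatMod.IsFinLocFreeOfRank (rF i) (Fs i))
    (ιF : ∀ i, Fs i ⟶ F) (hιF : ∀ i, Mono (ιF i))
    (ψF : ∀ i, Fs i ⟶ CohB1.tensorMod (Fs i) L)
    (hψF : ∀ i, ψF i ≫ LimSh.tensorModMap (ιF i) L = ιF i ≫ φF)
    (b : ∀ i, Fs (i + 1) ⟶ Fs i) (hb : ∀ i, b i ≫ ιF i = ιF (i + 1))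
    (hF0 : IsIso (ιF 0))
    (hrk : ∀ i, i ≤ n → rE i + rF i = r)
    (hopp : ∀ i, i < n → Nonempty (cokernel (a i) ≅ cokernel (b i))) :
    (∀ i, i ≤ n → 0 < rE i →
      Curv2.deg k X (Es i) (rE i) * (r : ℤ) = d * (rE i : ℤ) ∧ HSS k X L (rE i) (ψE i)) ∧
    (∀ i, i ≤ n → 0 < rF i →
      Curv2.deg k X (Fs i) (rF i) * (r : ℤ) = d * (rF i : ℤ) ∧ HSS k X L (rF i) (ψF i)) ∧
    (∀ i, i < n → rE i < rE (i + 1) →
      FlatMod.IsFinLocFreeOfRank (rE (i + 1) - rE i) (cokernel (a i)) ∧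
      Curv2.deg k X (cokernel (a i)) (rE (i + 1) - rE i) * (r : ℤ) = d * ((rE (i + 1) - rE i : ℕ) : ℤ) ∧
      ∀ (φ' : cokernel (a i) ⟶ CohB1.tensorMod (cokernel (a i)) L),
        cokernel.π (a i) ≫ φ' = ψE (i + 1) ≫ LimSh.tensorModMap (cokernel.π (a i)) L →
        HSS k X L (rE (i + 1) - rE i) φ') := by
  haveI : IsLocallyNoetherian X := isLocallyNoetherian k X
  have hL1 := Groth.Agent.Lib.Helper6.K0Op.isFinLocFreeOfRank_one_of_isInvertible L hL
  have hLflat := Groth.Agent.Lib.Helper6.K0Op.isFlat_of_isFinLocFreeOfRank L hL1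
  have hslope := opposite_filtrations_slope k X L r d E φE hEd hEss F φF hFd hFss n Es rE hEs ιE hιE ψE hψE
    a ha hE0 Fs rF hFs ιF hιF ψF hψF b hb hF0 hrk hopp
  have hrZ : (r : ℤ) ≠ 0 := by exact_mod_cast hr.ne'
  have hP1 : ∀ i, i ≤ n → HSS k X L (rE i) (ψE i) := fun i hi => by
    haveI := hιE i
    exact hss_sub k X L r hr φE hEss (Es i) (rE i) (ιE i) (ψE i) (hψE i) (by rw [hEd]; exact (hslope i hi).1)
  have hP2 : ∀ i, i ≤ n → HSS k X L (rF i) (ψF i) := fun i hi => by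
    haveI := hιF i
    exact hss_sub k X L r hr φF hFss (Fs i) (rF i) (ιF i) (ψF i) (hψF i) (by rw [hFd]; exact (hslope i hi).2)
  refine ⟨fun i hi _ => ⟨(hslope i hi).1, hP1 i hi⟩, fun i hi _ => ⟨(hslope i hi).2, hP2 i hi⟩, ?_⟩
  intro i hi hlt
  haveI : Mono (a i) := by
    haveI : Mono (a i ≫ ιE (i + 1)) := by rw [ha]; exact hιE i
    exact mono_of_mono (a i) (ιE (i + 1))
  haveI := hιE (i + 1)
  haveI := mono_tensorModMap (ιE (i + 1)) L hLflat
  have hinv : ψE i ≫ LimSh.tensorModMap (a i) L = a i ≫ ψE (i + 1) := by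
    rw [← cancel_mono (LimSh.tensorModMap (ιE (i + 1)) L), Category.assoc, ← LimSh.tensorModMap_comp, ha,
      hψE, Category.assoc, hψE, ← Category.assoc, ha]
  have hs1 := (hslope i (by omega)).1
  have hs2 := (hslope (i + 1) (by omega)).1
  have hsl : Curv2.deg k X (Es i) (rE i) * (rE (i + 1) : ℤ) =
      Curv2.deg k X (Es (i + 1)) (rE (i + 1)) * (rE i : ℤ) := by
    apply mul_right_cancel₀ hrZ
    calc Curv2.deg k X (Es i) (rE i) * (rE (i + 1) : ℤ) * r
        = (Curv2.deg k X (Es i) (rE i) * r) * (rE (i + 1) : ℤ) := by ring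
      _ = (Curv2.deg k X (Es (i + 1)) (rE (i + 1)) * r) * (rE i : ℤ) := by rw [hs1, hs2]; ring
      _ = Curv2.deg k X (Es (i + 1)) (rE (i + 1)) * (rE i : ℤ) * r := by ring
  have hpos : 0 < rE (i + 1) := by omega
  have hC := cokernel_locFree_of_inv' k X hdim L hL (rE (i + 1)) hpos (Es (i + 1)) (hEs (i + 1)) (ψE (i + 1))
    (hP1 (i + 1) (by omega)) (Es i) (rE i) (hEs i) (a i) (ψE i) hinv hsl
  refine ⟨hC, ?_, ?_⟩
  · have hcE := isCoh_of_isFinLocFreeOfRank _ (hEs i)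
    have hcE' := isCoh_of_isFinLocFreeOfRank _ (hEs (i + 1))
    have hA := deg_add k X _ (shortExact_cokernel (a i)) hcE hcE'
      (Groth.Agent.Lib.Helper6.DevCore.isCoh_cokernel (a i) hcE hcE') (rE i) (rE (i + 1) - rE i)
    dsimp only at hA
    rw [show rE i + (rE (i + 1) - rE i) = rE (i + 1) by omega] at hA
    rw [Nat.cast_sub hlt.le]
    have : Curv2.deg k X (cokernel (a i)) (rE (i + 1) - rE i) =
        Curv2.deg k X (Es (i + 1)) (rE (i + 1)) - Curv2.deg k X (Es i) (rE i) := by linarith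
    rw [this, sub_mul, hs1, hs2]
    ring
  · intro φ' hφ' G s j χ hj hs hG hχ
    haveI := hj
    exact quotient_semistable k X hdim L hL (rE (i + 1)) hpos (Es (i + 1)) (hEs (i + 1)) (ψE (i + 1))
      (hP1 (i + 1) (by omega)) (Es i) (rE i) (hEs i) (a i) hsl hC φ' hφ' G s j χ hs hG hχ

end curve

end Groth.Agent.Lib.Helper4.Higgs
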