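import Groth.Agent.Lib.Helper4.Higgs2
set_option backward.isDefEq.respectTransparency.types false
set_option autoImplicit false
set_option linter.style.haveILetI false
set_option linter.unusedSectionVars false

universe u
open CategoryTheory CategoryTheory.Limits AlgebraicGeometry Opposite TopologicalSpace

namespace Groth.Agent.Lib.Helper4.Higgs

open Groth.Agent.Lib.Helper8.CurveTensor Groth.Agent.Lib.Helper4.GPRank Groth.Agent.Lib.Helper8.EulerK
open Groth.Agent.Lib.Helper4.HilbPoly Groth.Agent.Lib.Helper4.CurveVB Groth.Agent.Lib.Helper4.TFCurve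
open Groth.Agent.Lib.Helper4.TwistInv Groth.Agent.Lib.Helper4.MaxSub

section general
variable {X : Scheme.{u}}

/-- the Higgs field induced on the quotient by an invariant submodule -/
theorem exists_desc_higgs (L : X.Modules) {E F : X.Modules} (φ : E ⟶ CohB1.tensorMod E L) (i : F ⟶ E)
    (ψF : F ⟶ CohB1.tensorMod F L) (hψF : ψF ≫ LimSh.tensorModMap i L = i ≫ φ) :
    ∃ φ' : cokernel i ⟶ CohB1.tensorMod (cokernel i) L,
      cokernel.π i ≫ φ' = φ ≫ LimSh.tensorModMap (cokernel.π i) L := by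
  refine ⟨cokernel.desc i (φ ≫ LimSh.tensorModMap (cokernel.π i) L) ?_, cokernel.π_desc _ _ _⟩
  rw [← Category.assoc, ← hψF, Category.assoc, ← LimSh.tensorModMap_comp, cokernel.condition,
    tensorModMap_zero, comp_zero]

/-- kernel and image of a morphism of twisted pairs are invariant -/
theorem higgs_ker_im (L : X.Modules) (hL : FlatMod.IsFlat L) {A B : X.Modules} (f : A ⟶ B)
    (χA : A ⟶ CohB1.tensorMod A L) (χB : B ⟶ CohB1.tensorMod B L)
    (hf : f ≫ χB = χA ≫ LimSh.tensorModMap f L) :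
    (∃ χK : kernel f ⟶ CohB1.tensorMod (kernel f) L,
      χK ≫ LimSh.tensorModMap (kernel.ι f) L = kernel.ι f ≫ χA) ∧
    (∃ χI : Abelian.image f ⟶ CohB1.tensorMod (Abelian.image f) L,
      χI ≫ LimSh.tensorModMap (Abelian.image.ι f) L = Abelian.image.ι f ≫ χB) := by
  have hS := Groth.Agent.Lib.Helper8.CurveVan.shortExact_kernel_image f
  haveI := mono_tensorModMap (Abelian.image.ι f) L hL
  have hfac : LimSh.tensorModMap f L =
      LimSh.tensorModMap (Abelian.factorThruImage f) L ≫ LimSh.tensorModMap (Abelian.image.ι f) L := by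
    rw [← LimSh.tensorModMap_comp, Abelian.image.fac]
  have h0 : (kernel.ι f ≫ χA) ≫ LimSh.tensorModMap (Abelian.factorThruImage f) L = 0 := by
    rw [← cancel_mono (LimSh.tensorModMap (Abelian.image.ι f) L), Category.assoc, Category.assoc, ← hfac,
      ← hf, ← Category.assoc, kernel.condition, zero_comp, zero_comp]
  constructor
  · exact exists_lift_tensor _ hS L hL (kernel.ι f ≫ χA) h0
  · haveI : Epi (Abelian.factorThruImage f) := inferInstance
    -- `image f` is the cokernel of `kernel.ι f`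
    have hcok := hS.gIsCokernel
    let χI : Abelian.image f ⟶ CohB1.tensorMod (Abelian.image f) L :=
      hcok.desc (CokernelCofork.ofπ (χA ≫ LimSh.tensorModMap (Abelian.factorThruImage f) L)
        (by dsimp only; rw [← Category.assoc]; exact h0))
    have hχI : Abelian.factorThruImage f ≫ χI = χA ≫ LimSh.tensorModMap (Abelian.factorThruImage f) L :=
      hcok.fac _ WalkingParallelPair.one
    refine ⟨χI, ?_⟩
    rw [← cancel_epi (Abelian.factorThruImage f), ← Category.assoc, hχI, Category.assoc, ← hfac, ← hf,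
      ← Category.assoc, Abelian.image.fac]

end general

section curve

variable (k : Type u) [Field k] (X : Scheme.{u}) [X.Over (Spec (CommRingCat.of k))] [IsIntegral X]
  [IsProper (X ↘ Spec (CommRingCat.of k))] [Smooth (X ↘ Spec (CommRingCat.of k))]

/-- an invariant subbundle of maximal slope and, among those, of maximal rank -/
theorem exists_maxSub_higgs (hdim : topologicalKrullDim X = 1) (L : X.Modules) (r : ℕ) (hr : 0 < r) (E : X.Modules)
    (hE : FlatMod.IsFinLocFreeOfRank r E) (φ : E ⟶ CohB1.tensorMod E L) :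
    ∃ (E₁ : X.Modules) (r₁ : ℕ) (i₁ : E₁ ⟶ E) (χ₁ : E₁ ⟶ CohB1.tensorMod E₁ L), Mono i₁ ∧ 0 < r₁ ∧
      FlatMod.IsFinLocFreeOfRank r₁ E₁ ∧ χ₁ ≫ LimSh.tensorModMap i₁ L = i₁ ≫ φ ∧
      (∀ (F : X.Modules) (r' : ℕ) (j : F ⟶ E) (χ : F ⟶ CohB1.tensorMod F L), Mono j → 0 < r' →
        FlatMod.IsFinLocFreeOfRank r' F → χ ≫ LimSh.tensorModMap j L = j ≫ φ →
        Curv2.deg k X F r' * (r₁ : ℤ) ≤ Curv2.deg k X E₁ r₁ * (r' : ℤ)) ∧
      (∀ (F : X.Modules) (r' : ℕ) (j : F ⟶ E) (χ : F ⟶ CohB1.tensorMod F L), Mono j → 0 < r' →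
        FlatMod.IsFinLocFreeOfRank r' F → χ ≫ LimSh.tensorModMap j L = j ≫ φ →
        Curv2.deg k X F r' * (r₁ : ℤ) = Curv2.deg k X E₁ r₁ * (r' : ℤ) → r' ≤ r₁) := by
  obtain ⟨N, hN⟩ := Groth.Agent.Lib.Helper2.VBDeg.exists_deg_bound k X hdim E hE
  set R := r.factorial with hR
  have hRpos : 0 < R := Nat.factorial_pos r
  have hdiv : ∀ (F : X.Modules) (r' : ℕ) (j : F ⟶ E), Mono j → 0 < r' → FlatMod.IsFinLocFreeOfRank r' F →
      (R / r') * r' = R := by
    intro F r' j hj hr' hF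
    haveI := hj
    exact Nat.div_mul_cancel (Nat.dvd_factorial hr' (rank_le_of_mono j hF hE))
  let P : ℤ → Prop := fun z => ∃ (F : X.Modules) (r' : ℕ) (j : F ⟶ E) (χ : F ⟶ CohB1.tensorMod F L),
    Mono j ∧ 0 < r' ∧ FlatMod.IsFinLocFreeOfRank r' F ∧ χ ≫ LimSh.tensorModMap j L = j ≫ φ ∧
    z = Curv2.deg k X F r' * ((R / r' : ℕ) : ℤ)
  have hbdd : ∃ b : ℤ, ∀ z, P z → z ≤ b := by
    refine ⟨|N| * R, ?_⟩
    rintro z ⟨F, r', j, χ, hj, hr', hF, -, rfl⟩
    have h1 := hN F r' j hj hF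
    have h2 : Curv2.deg k X F r' ≤ |N| := h1.trans (le_abs_self N)
    have h3 : ((R / r' : ℕ) : ℤ) ≤ R := by exact_mod_cast Nat.div_le_self R r'
    have h4 : (0 : ℤ) ≤ ((R / r' : ℕ) : ℤ) := Int.natCast_nonneg _
    calc Curv2.deg k X F r' * ((R / r' : ℕ) : ℤ) ≤ |N| * ((R / r' : ℕ) : ℤ) :=
          mul_le_mul_of_nonneg_right h2 h4
      _ ≤ |N| * R := mul_le_mul_of_nonneg_left h3 (abs_nonneg N)
  have hinh : ∃ z, P z := ⟨_, E, r, 𝟙 E, φ, inferInstance, hr, hE,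
    by rw [LimSh.tensorModMap_id, Category.comp_id, Category.id_comp], rfl⟩
  obtain ⟨M, ⟨F₀, r₀, j₀, χ₀, hj₀, hr₀, hF₀, hχ₀, hM₀⟩, hMmax⟩ := Int.exists_greatest_of_bdd hbdd hinh
  let P₂ : ℤ → Prop := fun z => ∃ (F : X.Modules) (r' : ℕ) (j : F ⟶ E) (χ : F ⟶ CohB1.tensorMod F L),
    Mono j ∧ 0 < r' ∧ FlatMod.IsFinLocFreeOfRank r' F ∧ χ ≫ LimSh.tensorModMap j L = j ≫ φ ∧
    M = Curv2.deg k X F r' * ((R / r' : ℕ) : ℤ) ∧ z = r'
  have hbdd₂ : ∃ b : ℤ, ∀ z, P₂ z → z ≤ b := by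
    refine ⟨r, ?_⟩
    rintro z ⟨F, r', j, χ, hj, hr', hF, -, -, rfl⟩
    haveI := hj
    exact_mod_cast rank_le_of_mono j hF hE
  have hinh₂ : ∃ z, P₂ z := ⟨_, F₀, r₀, j₀, χ₀, hj₀, hr₀, hF₀, hχ₀, hM₀, rfl⟩
  obtain ⟨z₁, ⟨E₁, r₁, i₁, χ₁, hi₁, hr₁, hE₁, hχ₁, hM₁, rfl⟩, hmax₂⟩ := Int.exists_greatest_of_bdd hbdd₂ hinh₂
  refine ⟨E₁, r₁, i₁, χ₁, hi₁, hr₁, hE₁, hχ₁, ?_, ?_⟩
  · intro F r' j χ hj hr' hF hχ
    have h1 : Curv2.deg k X F r' * ((R / r' : ℕ) : ℤ) ≤ M := hMmax _ ⟨F, r', j, χ, hj, hr', hF, hχ, rfl⟩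
    rw [hM₁] at h1
    exact slope_le_of_scaled hRpos (hdiv F r' j hj hr' hF) (hdiv E₁ r₁ i₁ hi₁ hr₁ hE₁) h1
  · intro F r' j χ hj hr' hF hχ heq
    have h1 := scaled_eq_of_slope_eq hr' hr₁ (hdiv F r' j hj hr' hF) (hdiv E₁ r₁ i₁ hi₁ hr₁ hE₁) heq
    have := hmax₂ r' ⟨F, r', j, χ, hj, hr', hF, hχ, by rw [hM₁, h1], rfl⟩
    exact_mod_cast this

/-- an invariant subbundle whose degree is maximal among invariant subbundles of the same rank is saturated -/
theorem cokernel_locFree_of_max (hdim : topologicalKrullDim X = 1)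
    (L : X.Modules) (hL : PicF.IsInvertible L)
    (r : ℕ) (E : X.Modules) (hE : FlatMod.IsFinLocFreeOfRank r E)
    (φ : E ⟶ CohB1.tensorMod E L)
    (F : X.Modules) (r' : ℕ) (hF : FlatMod.IsFinLocFreeOfRank r' F)
    (i : F ⟶ E) [Mono i] (ψF : F ⟶ CohB1.tensorMod F L)
    (hψF : ψF ≫ LimSh.tensorModMap i L = i ≫ φ)
    (hmax : ∀ (G : X.Modules) (j : G ⟶ E) (ψ : G ⟶ CohB1.tensorMod G L), Mono j →
      FlatMod.IsFinLocFreeOfRank r' G → ψ ≫ LimSh.tensorModMap j L = j ≫ φ →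
      Curv2.deg k X G r' ≤ Curv2.deg k X F r') :
    FlatMod.IsFinLocFreeOfRank (r - r') (cokernel i) := by
  haveI : IsLocallyNoetherian X := isLocallyNoetherian k X
  haveI : CompactSpace X := QuasiCompact.compactSpace_of_compactSpace (X ↘ Spec (CommRingCat.of k))
  haveI : IsNoetherian X := { }
  have hEc := isCoh_of_isFinLocFreeOfRank E hE
  have hFc := isCoh_of_isFinLocFreeOfRank F hF
  have hL1 := Groth.Agent.Lib.Helper6.K0Op.isFinLocFreeOfRank_one_of_isInvertible L hL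
  have hLflat := Groth.Agent.Lib.Helper6.K0Op.isFlat_of_isFinLocFreeOfRank L hL1
  obtain ⟨N, hN⟩ := Groth.Agent.Lib.Helper2.VBDeg.exists_deg_bound k X hdim E hE
  -- a subbundle of rank `r'` containing `F`, of maximal degree
  let P : ℤ → Prop := fun z => ∃ (G' : X.Modules) (a : F ⟶ G') (p : G' ⟶ E), Mono p ∧ a ≫ p = i ∧
    FlatMod.IsFinLocFreeOfRank r' G' ∧ z = Curv2.deg k X G' r'
  have hbdd : ∃ b : ℤ, ∀ z, P z → z ≤ b := by
    refine ⟨N, ?_⟩
    rintro z ⟨G', a, p, hp, -, hG', rfl⟩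
    exact hN G' r' p hp hG'
  have hinh : ∃ z, P z := ⟨_, F, 𝟙 F, i, inferInstance, Category.id_comp i, hF, rfl⟩
  obtain ⟨z, ⟨G', a, p, hp, hap, hG', rfl⟩, hmaxd⟩ := Int.exists_greatest_of_bdd hbdd hinh
  haveI := hp
  haveI : Mono a := by
    haveI : Mono (a ≫ p) := by rw [hap]; infer_instance
    exact mono_of_mono a p
  have hG'c := isCoh_of_isFinLocFreeOfRank G' hG'
  have hCc := Groth.Agent.Lib.Helper6.DevCore.isCoh_cokernel p hG'c hEc
  -- `E / G'` is locally free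
  have hC' : FlatMod.IsFinLocFreeOfRank (grank X (cokernel p)) (cokernel p) := by
    refine isFinLocFreeOfRank_of_pure (X ↘ Spec (CommRingCat.of k)) hdim _ hCc ?_
    intro S j hj hS hgen
    haveI := hj
    obtain ⟨hG'', hdeg, a₂, ha₂⟩ := pullback_locFree k X hdim _ (shortExact_cokernel p) hG' hE j hS
    dsimp only at hG'' hdeg a₂ ha₂
    have hg0 : grank X S = 0 := grank_eq_zero X S hgen
    rw [hg0, add_zero] at hG'' hdeg
    rw [deg_zero_rank] at hdeg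
    have h1 := hmaxd _ ⟨pullback (cokernel.π p) j, a ≫ a₂, pullback.fst (cokernel.π p) j, inferInstance,
      by rw [Category.assoc, ha₂, hap], hG'', rfl⟩
    rw [hdeg] at h1
    exact isZero_of_euler_nonpos k X hdim.le S hS hgen (by linarith)
  have hCL : FlatMod.IsFinLocFreeOfRank (grank X (cokernel p)) (CohB1.tensorMod (cokernel p) L) := by
    have := isFinLocFreeOfRank_tensorMod (cokernel p) L hC' hL1
    rwa [mul_one] at this
  -- `G'` is `φ`-invariant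
  have hQc := Groth.Agent.Lib.Helper6.DevCore.isCoh_cokernel a hFc hG'c
  have hQgen := notMem_support_cokernel X a hF hG'
  have hzero : (p ≫ φ) ≫ LimSh.tensorModMap (cokernel.π p) L = 0 := by
    have h0 : a ≫ ((p ≫ φ) ≫ LimSh.tensorModMap (cokernel.π p) L) = 0 := by
      rw [← Category.assoc, ← Category.assoc, hap, ← hψF, Category.assoc, ← LimSh.tensorModMap_comp,
        ← hap, Category.assoc, cokernel.condition, comp_zero, tensorModMap_zero, comp_zero]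
    have hfac : cokernel.π a ≫ cokernel.desc a _ h0 = (p ≫ φ) ≫ LimSh.tensorModMap (cokernel.π p) L :=
      cokernel.π_desc _ _ _
    rw [← hfac, hom_eq_zero_of_torsion k X hdim hQc hQgen hCL (cokernel.desc a _ h0), comp_zero]
  obtain ⟨ψ', hψ'⟩ := exists_lift_tensor _ (shortExact_cokernel p) L hLflat (p ≫ φ) hzero
  have h2 : Curv2.deg k X G' r' ≤ Curv2.deg k X F r' := hmax G' p ψ' hp hG' hψ'
  obtain ⟨h3, h4⟩ := deg_le_of_mono_of_rank_eq k X hdim.le a hF hG'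
  haveI : IsIso a := h4 (le_antisymm h3 h2)
  -- conclude
  have e : cokernel i ≅ cokernel p := cokernelIsoOfEq hap.symm ≪≫ cokernelEpiComp a p
  have hg := grank_add X _ (shortExact_cokernel p) hG'c hEc hCc
  dsimp only at hg
  rw [grank_of_isFinLocFreeOfRank _ hG', grank_of_isFinLocFreeOfRank _ hE] at hg
  have hrk : grank X (cokernel p) = r - r' := by omega
  rw [hrk] at hC'
  exact isFinLocFreeOfRank_of_iso e.symm hC'

/-- the preimage of an invariant subbundle of the quotient by an invariant subbundle is an invariant subbundle -/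
theorem preimage_higgs (hdim : topologicalKrullDim X = 1)
    (L : X.Modules) (hL : PicF.IsInvertible L)
    (r : ℕ) (E : X.Modules) (hE : FlatMod.IsFinLocFreeOfRank r E)
    (φ : E ⟶ CohB1.tensorMod E L)
    (F : X.Modules) (r' : ℕ) (hF : FlatMod.IsFinLocFreeOfRank r' F)
    (i : F ⟶ E) [Mono i]
    (φ' : cokernel i ⟶ CohB1.tensorMod (cokernel i) L)
    (hφ' : cokernel.π i ≫ φ' = φ ≫ LimSh.tensorModMap (cokernel.π i) L)
    (G : X.Modules) (s : ℕ) (j : G ⟶ cokernel i) (ψ : G ⟶ CohB1.tensorMod G L) [Mono j]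
    (hG : FlatMod.IsFinLocFreeOfRank s G) (hψ : ψ ≫ LimSh.tensorModMap j L = j ≫ φ') :
    ∃ (P : X.Modules) (p : P ⟶ E) (ψ' : P ⟶ CohB1.tensorMod P L), Mono p ∧
      FlatMod.IsFinLocFreeOfRank (r' + s) P ∧ ψ' ≫ LimSh.tensorModMap p L = p ≫ φ ∧
      Curv2.deg k X P (r' + s) = Curv2.deg k X F r' + Curv2.deg k X G s := by
  haveI : IsLocallyNoetherian X := isLocallyNoetherian k X
  have hGc := isCoh_of_isFinLocFreeOfRank G hG
  have hL1 := Groth.Agent.Lib.Helper6.K0Op.isFinLocFreeOfRank_one_of_isInvertible L hL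
  have hLflat := Groth.Agent.Lib.Helper6.K0Op.isFlat_of_isFinLocFreeOfRank L hL1
  obtain ⟨hP, hdeg, -⟩ := pullback_locFree k X hdim _ (shortExact_cokernel i) hF hE j hGc
  dsimp only at hP hdeg
  rw [grank_of_isFinLocFreeOfRank _ hG] at hP hdeg
  have hT := pullback_shortExact (cokernel.π i) j
  have ht : (pullback.fst (cokernel.π i) j ≫ φ) ≫
      LimSh.tensorModMap (cokernel.π i ≫ cokernel.π j) L = 0 := by
    rw [LimSh.tensorModMap_comp, Category.assoc, ← Category.assoc φ, ← hφ', ← Category.assoc,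
      ← Category.assoc, pullback.condition, Category.assoc, Category.assoc, ← Category.assoc j,
      ← hψ, Category.assoc, ← LimSh.tensorModMap_comp, cokernel.condition, tensorModMap_zero,
      comp_zero, comp_zero]
  obtain ⟨ψ', hψ'⟩ := exists_lift_tensor _ hT L hLflat _ ht
  dsimp only at hψ'
  exact ⟨_, pullback.fst (cokernel.π i) j, ψ', inferInstance, hP, hψ', hdeg⟩

/-- a maximal destabilizing invariant subbundle is preserved by every endomorphism commuting with the twisted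
endomorphism -/
theorem maxSub_invariant (hdim : topologicalKrullDim X = 1) (L : X.Modules) (hL : PicF.IsInvertible L)
    (r : ℕ) (E : X.Modules) (hE : FlatMod.IsFinLocFreeOfRank r E)
    (φ : E ⟶ CohB1.tensorMod E L) (ψ : E ⟶ E) (hcomm : ψ ≫ φ = φ ≫ LimSh.tensorModMap ψ L)
    (E₁ : X.Modules) (r₁ : ℕ) (i₁ : E₁ ⟶ E) (χ₁ : E₁ ⟶ CohB1.tensorMod E₁ L) [Mono i₁] (hr₁ : 0 < r₁)
    (hE₁ : FlatMod.IsFinLocFreeOfRank r₁ E₁) (hχ₁ : χ₁ ≫ LimSh.tensorModMap i₁ L = i₁ ≫ φ)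
    (hmax : ∀ (F : X.Modules) (r' : ℕ) (j : F ⟶ E) (χ : F ⟶ CohB1.tensorMod F L), Mono j → 0 < r' →
        FlatMod.IsFinLocFreeOfRank r' F → χ ≫ LimSh.tensorModMap j L = j ≫ φ →
        Curv2.deg k X F r' * (r₁ : ℤ) ≤ Curv2.deg k X E₁ r₁ * (r' : ℤ))
    (hrk : ∀ (F : X.Modules) (r' : ℕ) (j : F ⟶ E) (χ : F ⟶ CohB1.tensorMod F L), Mono j → 0 < r' →
        FlatMod.IsFinLocFreeOfRank r' F → χ ≫ LimSh.tensorModMap j L = j ≫ φ →
        Curv2.deg k X F r' * (r₁ : ℤ) = Curv2.deg k X E₁ r₁ * (r' : ℤ) → r' ≤ r₁) :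
    ∃ ψ' : E₁ ⟶ E₁, ψ' ≫ i₁ = i₁ ≫ ψ := by
  have hL1 := Groth.Agent.Lib.Helper6.K0Op.isFinLocFreeOfRank_one_of_isInvertible L hL
  have hLflat := Groth.Agent.Lib.Helper6.K0Op.isFlat_of_isFinLocFreeOfRank L hL1
  have hr₁Z : (0 : ℤ) < r₁ := by exact_mod_cast hr₁
  have hC : FlatMod.IsFinLocFreeOfRank (r - r₁) (cokernel i₁) :=
    cokernel_locFree_of_max k X hdim L hL r E hE φ E₁ r₁ hE₁ i₁ χ₁ hχ₁ (fun G j χ hj hG hχ =>
      le_of_mul_le_mul_right (hmax G r₁ j χ hj hr₁ hG hχ) hr₁Z)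
  obtain ⟨φ', hφ'⟩ := exists_desc_higgs L φ i₁ χ₁ hχ₁
  have hf : (i₁ ≫ ψ ≫ cokernel.π i₁) ≫ φ' = χ₁ ≫ LimSh.tensorModMap (i₁ ≫ ψ ≫ cokernel.π i₁) L := by
    rw [LimSh.tensorModMap_comp, LimSh.tensorModMap_comp, ← Category.assoc χ₁, hχ₁, Category.assoc,
      Category.assoc, Category.assoc, hφ', ← Category.assoc ψ, hcomm, Category.assoc]
  have hzero : i₁ ≫ ψ ≫ cokernel.π i₁ = 0 := by
    by_contra hne
    obtain ⟨rK, rI, hK, hI, hr', -, hdeg, hI0, -⟩ := ker_im k X hdim (i₁ ≫ ψ ≫ cokernel.π i₁) hE₁ hC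
    obtain ⟨⟨χK, hχK⟩, ⟨χI, hχI⟩⟩ := higgs_ker_im L hLflat (i₁ ≫ ψ ≫ cokernel.π i₁) χ₁ φ' hf
    have hrI := hI0 hne
    obtain ⟨P, p, ψP, hp, hP, hψP, hdegP⟩ := preimage_higgs k X hdim L hL r E hE φ E₁ r₁ hE₁ i₁ φ' hφ'
      _ rI (Abelian.image.ι _) χI hI hχI
    have h1 := hmax P (r₁ + rI) p ψP hp (by omega) hP hψP
    rw [hdegP] at h1
    push_cast at h1
    set dK := Curv2.deg k X (kernel (i₁ ≫ ψ ≫ cokernel.π i₁)) rK with hdK
    set dI := Curv2.deg k X (Abelian.image (i₁ ≫ ψ ≫ cokernel.π i₁)) rI with hdI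
    set d := Curv2.deg k X E₁ r₁ with hd
    have h2 : dI * (r₁ : ℤ) < d * (rI : ℤ) := by
      rcases lt_or_eq_of_le (show dI * (r₁ : ℤ) ≤ d * (rI : ℤ) by linarith) with h | h
      · exact h
      · exfalso
        have heq : Curv2.deg k X P (r₁ + rI) * (r₁ : ℤ) = d * ((r₁ + rI : ℕ) : ℤ) := by
          rw [hdegP]; push_cast; linarith
        have := hrk P (r₁ + rI) p ψP hp (by omega) hP hψP heq
        omega
    have hr'Z : (rK : ℤ) + rI = r₁ := by exact_mod_cast hr'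
    rcases Nat.eq_zero_or_pos rK with h0 | hpos
    · subst h0
      have hz := isZero_of_rank_zero hK
      have hdK0 : dK = 0 := deg_of_isZero k X hz
      have : rI = r₁ := by omega
      rw [hdK0, zero_add] at hdeg
      rw [hdeg, this] at h2
      exact lt_irrefl _ h2
    · have h3 := hmax _ rK (kernel.ι _ ≫ i₁) χK inferInstance hpos hK (by
        rw [LimSh.tensorModMap_comp, ← Category.assoc χK, hχK, Category.assoc, hχ₁, Category.assoc])
      have : (dK + dI) * (r₁ : ℤ) < d * ((rK : ℤ) + rI) := by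
        have : (dK + dI) * (r₁ : ℤ) = dK * r₁ + dI * r₁ := by ring
        rw [this, mul_add]
        exact add_lt_add_of_le_of_lt h3 h2
      rw [hdeg, hr'Z] at this
      exact lt_irrefl _ this
  exact ⟨Abelian.monoLift i₁ (i₁ ≫ ψ) (by rw [Category.assoc]; exact hzero), Abelian.monoLift_comp _ _ _⟩

/-- **S16005** (the nontrivial direction): semistability with respect to subbundles invariant under the twisted
endomorphism and a commuting endomorphism implies semistability with respect to subbundles invariant under the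
twisted endomorphism -/
theorem hss_of_commuting (hdim : topologicalKrullDim X = 1) (L : X.Modules) (hL : PicF.IsInvertible L)
    (r : ℕ) (hr : 0 < r) (E : X.Modules) (hE : FlatMod.IsFinLocFreeOfRank r E)
    (φ : E ⟶ CohB1.tensorMod E L) (ψ : E ⟶ E) (hcomm : ψ ≫ φ = φ ≫ LimSh.tensorModMap ψ L)
    (h : ∀ (G : X.Modules) (n : ℕ) (j : G ⟶ E) (χ : G ⟶ CohB1.tensorMod G L) (ψ' : G ⟶ G), Mono j → 0 < n →
      FlatMod.IsFinLocFreeOfRank n G → χ ≫ LimSh.tensorModMap j L = j ≫ φ → ψ' ≫ j = j ≫ ψ →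
      Curv2.deg k X G n * (r : ℤ) ≤ Curv2.deg k X E r * (n : ℤ)) :
    HSS k X L r φ := by
  obtain ⟨E₁, r₁, i₁, χ₁, hi₁, hr₁, hE₁, hχ₁, hmax, hrk⟩ := exists_maxSub_higgs k X hdim L r hr E hE φ
  haveI := hi₁
  obtain ⟨ψ', hψ'⟩ := maxSub_invariant k X hdim L hL r E hE φ ψ hcomm E₁ r₁ i₁ χ₁ hr₁ hE₁ hχ₁ hmax hrk
  have h1 := h E₁ r₁ i₁ χ₁ ψ' hi₁ hr₁ hE₁ hχ₁ hψ'
  intro G n j χ hj hn hG hχ
  have h2 := hmax G n j χ hj hn hG hχ
  have hr₁Z : (0 : ℤ) < r₁ := by exact_mod_cast hr₁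
  have key : (Curv2.deg k X G n * (r : ℤ)) * r₁ ≤ (Curv2.deg k X E r * (n : ℤ)) * r₁ := by
    have a1 : Curv2.deg k X G n * (r₁ : ℤ) * r ≤ Curv2.deg k X E₁ r₁ * (n : ℤ) * r :=
      mul_le_mul_of_nonneg_right h2 (by positivity)
    have a2 : Curv2.deg k X E₁ r₁ * (r : ℤ) * n ≤ Curv2.deg k X E r * (r₁ : ℤ) * n :=
      mul_le_mul_of_nonneg_right h1 (by positivity)
    linarith
  exact le_of_mul_le_mul_right key hr₁Z

end curve

end Groth.Agent.Lib.Helper4.Higgs
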