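import Groth.Agent.Lib.Helper4.Snapper14
import Groth.Prelude.Def_ShStab
set_option backward.isDefEq.respectTransparency.types false
set_option autoImplicit false
set_option linter.style.haveILetI false

universe u
open CategoryTheory CategoryTheory.Limits AlgebraicGeometry Opposite TopologicalSpace Polynomial

namespace Groth.Agent.Lib.Helper4.HilbPoly
open Groth.Agent.Lib.Helper4.NumPoly

/-- a rational polynomial is determined by its values at the natural numbers -/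
theorem eq_of_eval_nat {P Q : ℚ[X]} (h : ∀ n : ℕ, P.eval (n : ℚ) = Q.eval (n : ℚ)) : P = Q := by
  apply Polynomial.eq_of_infinite_eval_eq
  apply Set.Infinite.mono (s := Set.range (Nat.cast : ℕ → ℚ))
  · rintro _ ⟨n, rfl⟩
    exact h n
  · exact Set.infinite_range_of_injective Nat.cast_injective

/-- the polynomial `Σ_{m ≤ d} a_m (x choose m)` -/
noncomputable def binPoly (a : ℕ → ℤ) (d : ℕ) : ℚ[X] :=
  ∑ m ∈ Finset.range (d + 1), C (a m : ℚ) * bp m

theorem eval_binPoly (a : ℕ → ℤ) (d n : ℕ) :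
    (binPoly a d).eval (n : ℚ) = ∑ m ∈ Finset.range (d + 1), (n.choose m : ℚ) * (a m : ℚ) := by
  unfold binPoly
  rw [Polynomial.eval_finsetSum]
  apply Finset.sum_congr rfl
  intro m _
  rw [eval_mul, eval_C, bp_eval, mul_comm]

theorem natDegree_binPoly_le (a : ℕ → ℤ) (d : ℕ) : (binPoly a d).natDegree ≤ d := by
  unfold binPoly
  apply Polynomial.natDegree_sum_le_of_forall_le
  intro m hm
  rw [Finset.mem_range] at hm
  refine (Polynomial.natDegree_C_mul_le _ _).trans ((bp_natDegree_le m).trans (by omega))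

theorem coeff_bp_self (d : ℕ) : (bp d).coeff d = ((d.factorial : ℚ))⁻¹ := by
  unfold bp
  rw [coeff_C_mul]
  have h1 : (descPochhammer ℚ d).coeff d = 1 := by
    have := (monic_descPochhammer ℚ d)
    rw [Monic, leadingCoeff, descPochhammer_natDegree] at this
    exact this
  rw [h1, mul_one]

theorem coeff_binPoly (a : ℕ → ℤ) (d : ℕ) : (binPoly a d).coeff d = (a d : ℚ) * ((d.factorial : ℚ))⁻¹ := by
  unfold binPoly
  rw [Polynomial.finsetSum_coeff, Finset.sum_range_succ, Finset.sum_eq_zero, zero_add, coeff_C_mul,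
    coeff_bp_self]
  intro m hm
  rw [Finset.mem_range] at hm
  rw [coeff_C_mul, Polynomial.coeff_eq_zero_of_natDegree_lt ((bp_natDegree_le m).trans_lt hm), mul_zero]

theorem alpha_binPoly (a : ℕ → ℤ) (d : ℕ) : StabCat.alpha d (binPoly a d) = (a d : ℚ) := by
  unfold StabCat.alpha
  rw [coeff_binPoly]
  have : (d.factorial : ℚ) ≠ 0 := by exact_mod_cast Nat.factorial_ne_zero d
  field_simp

section geom
open Groth.Agent.Lib.Helper4.Snapper Groth.Agent.Lib.Helper6.K0Len Groth.Agent.Lib.Helper6.K0Op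

variable (k : Type u) [Field k] {X : Scheme.{u}} [X.Over (Spec (CommRingCat.of k))]
    [IsProper (X ↘ (Spec (CommRingCat.of k)))] (L : X.Modules)

/-- the canonical Hilbert polynomial of a coherent module with `dim Supp ≤ d` -/
noncomputable def hilb (F : X.Modules) (d : ℕ) : ℚ[X] := binPoly (fun m => hcoef k X L m (cls F)) d

variable {L}

theorem isHilbPoly_hilb (hL : PicF.IsInvertible L) (F : X.Modules) (hF : Coh.IsCoh F) (d : ℕ)
    (hsupp : topologicalKrullDim (CohB1.support F) ≤ (d : WithBot ℕ∞)) :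
    ShStab.IsHilbPoly k X L F (hilb k L F d) := by
  intro m
  unfold hilb
  rw [eval_binPoly]
  show (Curv2.euler k X (CohB1.tensorMod F (CohB1.tensorPow L m)) : ℚ) = _
  rw [euler_twist_eq_sum k L hL F hF d hsupp m]
  push_cast
  rfl

theorem isHilbPoly_unique {F : X.Modules} {P Q : ℚ[X]} (hP : ShStab.IsHilbPoly k X L F P)
    (hQ : ShStab.IsHilbPoly k X L F Q) : P = Q :=
  eq_of_eval_nat fun n => (hP n).symm.trans (hQ n)

theorem eq_hilb (hL : PicF.IsInvertible L) {F : X.Modules} (hF : Coh.IsCoh F) {d : ℕ}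
    (hsupp : topologicalKrullDim (CohB1.support F) ≤ (d : WithBot ℕ∞)) {P : ℚ[X]}
    (hP : ShStab.IsHilbPoly k X L F P) : P = hilb k L F d :=
  isHilbPoly_unique k hP (isHilbPoly_hilb k hL F hF d hsupp)

theorem alpha_eq (hL : PicF.IsInvertible L) {F : X.Modules} (hF : Coh.IsCoh F) {d : ℕ}
    (hsupp : topologicalKrullDim (CohB1.support F) ≤ (d : WithBot ℕ∞)) {P : ℚ[X]}
    (hP : ShStab.IsHilbPoly k X L F P) : StabCat.alpha d P = (hcoef k X L d (cls F) : ℚ) := by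
  rw [eq_hilb k hL hF hsupp hP]
  exact alpha_binPoly _ d

theorem natDegree_le (hL : PicF.IsInvertible L) {F : X.Modules} (hF : Coh.IsCoh F) {d : ℕ}
    (hsupp : topologicalKrullDim (CohB1.support F) ≤ (d : WithBot ℕ∞)) {P : ℚ[X]}
    (hP : ShStab.IsHilbPoly k X L F P) : P.natDegree ≤ d := by
  rw [eq_hilb k hL hF hsupp hP]
  exact natDegree_binPoly_le _ d

theorem alpha_pos (hL : CohB1.IsAmple L) {F : X.Modules} (hF : Coh.IsCoh F) {d : ℕ}
    (hsupp : topologicalKrullDim (CohB1.support F) = (d : WithBot ℕ∞)) {P : ℚ[X]}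
    (hP : ShStab.IsHilbPoly k X L F P) : 0 < StabCat.alpha d P := by
  rw [alpha_eq k hL.1 hF hsupp.le hP]
  exact_mod_cast hcoef_pos k L hL d F hF hsupp

theorem alpha_nonneg (hL : CohB1.IsAmple L) {F : X.Modules} (hF : Coh.IsCoh F) {d : ℕ}
    (hsupp : topologicalKrullDim (CohB1.support F) ≤ (d : WithBot ℕ∞)) {P : ℚ[X]}
    (hP : ShStab.IsHilbPoly k X L F P) : 0 ≤ StabCat.alpha d P := by
  rw [alpha_eq k hL.1 hF hsupp hP]
  exact_mod_cast hcoef_nonneg k L hL d F hF hsupp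

theorem alpha_eq_zero (hL : PicF.IsInvertible L) {F : X.Modules} (hF : Coh.IsCoh F) {d : ℕ}
    (hsupp : topologicalKrullDim (CohB1.support F) < (d : WithBot ℕ∞)) {P : ℚ[X]}
    (hP : ShStab.IsHilbPoly k X L F P) : StabCat.alpha d P = 0 := by
  haveI : IsNoetherian X := isNoetherian_of_proper k
  rw [alpha_eq k hL hF hsupp.le hP]
  have hmem : cls F ∈ Hlt X d := by
    unfold Hlt
    exact AddSubgroup.subset_closure ⟨F, hF, hsupp, rfl⟩
  rw [hcoef_eq_zero k L hL d _ hmem]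
  simp

theorem euler_twist_eq (hL : PicF.IsInvertible L) (F : X.Modules) (hF : Coh.IsCoh F) (m : ℕ) :
    Curv2.euler k X (ShStab.twist X L F m) = eulerHom k X ((Top L ^ m) (cls F)) :=
  (eulerHom_Top_pow_cls k L hL F hF m).symm

theorem isHilbPoly_iff (hL : PicF.IsInvertible L) (F : X.Modules) (hF : Coh.IsCoh F) (P : ℚ[X]) :
    ShStab.IsHilbPoly k X L F P ↔ ∀ m : ℕ, ((eulerHom k X ((Top L ^ m) (cls F)) : ℤ) : ℚ) = P.eval (m : ℚ) := by
  unfold ShStab.IsHilbPoly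
  simp only [euler_twist_eq k hL F hF]

/-- additivity of Hilbert polynomials -/
theorem isHilbPoly_add (hL : PicF.IsInvertible L) (S : ShortComplex X.Modules) (hS : S.ShortExact)
    (h₁ : Coh.IsCoh S.X₁) (h₂ : Coh.IsCoh S.X₂) (h₃ : Coh.IsCoh S.X₃) {P₁ P₃ : ℚ[X]}
    (hP₁ : ShStab.IsHilbPoly k X L S.X₁ P₁) (hP₃ : ShStab.IsHilbPoly k X L S.X₃ P₃) :
    ShStab.IsHilbPoly k X L S.X₂ (P₁ + P₃) := by
  rw [isHilbPoly_iff k hL _ h₂]
  rw [isHilbPoly_iff k hL _ h₁] at hP₁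
  rw [isHilbPoly_iff k hL _ h₃] at hP₃
  intro m
  have hcl : cls S.X₂ = cls S.X₁ + cls S.X₃ :=
    Groth.Agent.Lib.Helper16.K0Db.clSub_shortExact _ S hS h₁ h₂ h₃
  rw [hcl, map_add, map_add, eval_add, ← hP₁ m, ← hP₃ m]
  push_cast
  rfl

theorem isHilbPoly_sub_left (hL : PicF.IsInvertible L) (S : ShortComplex X.Modules) (hS : S.ShortExact)
    (h₁ : Coh.IsCoh S.X₁) (h₂ : Coh.IsCoh S.X₂) (h₃ : Coh.IsCoh S.X₃) {P₁ P₂ : ℚ[X]}
    (hP₁ : ShStab.IsHilbPoly k X L S.X₁ P₁) (hP₂ : ShStab.IsHilbPoly k X L S.X₂ P₂) :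
    ShStab.IsHilbPoly k X L S.X₃ (P₂ - P₁) := by
  rw [isHilbPoly_iff k hL _ h₃]
  rw [isHilbPoly_iff k hL _ h₁] at hP₁
  rw [isHilbPoly_iff k hL _ h₂] at hP₂
  intro m
  have h := hP₂ m
  have hcl : cls S.X₂ = cls S.X₁ + cls S.X₃ :=
    Groth.Agent.Lib.Helper16.K0Db.clSub_shortExact _ S hS h₁ h₂ h₃
  rw [hcl, map_add, map_add] at h
  rw [eval_sub, ← hP₁ m, ← h]
  push_cast
  ring

theorem isHilbPoly_sub_right (hL : PicF.IsInvertible L) (S : ShortComplex X.Modules) (hS : S.ShortExact)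
    (h₁ : Coh.IsCoh S.X₁) (h₂ : Coh.IsCoh S.X₂) (h₃ : Coh.IsCoh S.X₃) {P₂ P₃ : ℚ[X]}
    (hP₂ : ShStab.IsHilbPoly k X L S.X₂ P₂) (hP₃ : ShStab.IsHilbPoly k X L S.X₃ P₃) :
    ShStab.IsHilbPoly k X L S.X₁ (P₂ - P₃) := by
  rw [isHilbPoly_iff k hL _ h₁]
  rw [isHilbPoly_iff k hL _ h₃] at hP₃
  rw [isHilbPoly_iff k hL _ h₂] at hP₂
  intro m
  have h := hP₂ m
  have hcl : cls S.X₂ = cls S.X₁ + cls S.X₃ :=
    Groth.Agent.Lib.Helper16.K0Db.clSub_shortExact _ S hS h₁ h₂ h₃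
  rw [hcl, map_add, map_add] at h
  rw [eval_sub, ← hP₃ m, ← h]
  push_cast
  ring

theorem isHilbPoly_of_iso (hL : PicF.IsInvertible L) {F G : X.Modules} (e : F ≅ G) (hF : Coh.IsCoh F)
    {P : ℚ[X]} (hP : ShStab.IsHilbPoly k X L F P) : ShStab.IsHilbPoly k X L G P := by
  have hG := Groth.Agent.Lib.Helper6.DevCore.isCoh_of_iso e hF
  rw [isHilbPoly_iff k hL _ hG]
  rw [isHilbPoly_iff k hL _ hF] at hP
  rw [← cls_iso e hF]
  exact hP

/-- Hilbert polynomials are eventually nonnegative -/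
theorem polyLE_zero (hL : CohB1.IsAmple L) {F : X.Modules} (hF : Coh.IsCoh F) {P : ℚ[X]}
    (hP : ShStab.IsHilbPoly k X L F P) : StabCat.PolyLE 0 P := by
  obtain ⟨n₀, hn₀⟩ := exists_euler_nonneg k L hL F hF
  refine ⟨n₀, fun m hm => ?_⟩
  rw [eval_zero, ← hP m]
  exact_mod_cast hn₀ m hm

/-- Hilbert polynomials of nonzero modules are eventually positive -/
theorem polyLT_zero (hL : CohB1.IsAmple L) {F : X.Modules} (hF : Coh.IsCoh F) (h0 : ¬ IsZero F) {P : ℚ[X]}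
    (hP : ShStab.IsHilbPoly k X L F P) : StabCat.PolyLT 0 P := by
  obtain ⟨n₀, hn₀⟩ := exists_euler_pos k L hL F hF h0
  refine ⟨n₀, fun m hm => ?_⟩
  rw [eval_zero, ← hP m]
  exact_mod_cast hn₀ m hm

end geom

end Groth.Agent.Lib.Helper4.HilbPoly
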