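import Mathlib

set_option autoImplicit false
open Polynomial Filter

namespace Groth.Agent.Lib.Helper4.PolyAsymp

/-- a rational polynomial of degree `≤ n` with positive `n`-th coefficient is eventually positive on `ℕ` -/
theorem eventually_pos_of_coeff_pos {P : ℚ[X]} {n : ℕ} (hn : P.natDegree ≤ n) (hc : 0 < P.coeff n) :
    ∃ N : ℕ, ∀ m : ℕ, N ≤ m → 0 < P.eval (m : ℚ) := by
  have hdeg : P.natDegree = n := by
    apply le_antisymm hn
    exact Polynomial.le_natDegree_of_ne_zero hc.ne'
  have hlc : P.leadingCoeff = P.coeff n := by rw [leadingCoeff, hdeg]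
  rcases Nat.eq_zero_or_pos n with h0 | hpos
  · subst h0
    have hP : P = C (P.coeff 0) := Polynomial.eq_C_of_natDegree_eq_zero hdeg
    refine ⟨0, fun m _ => ?_⟩
    rw [hP, eval_C]
    exact hc
  · have hd : 0 < P.degree := by
      rw [← natDegree_pos_iff_degree_pos, hdeg]
      exact hpos
    have ht := Polynomial.tendsto_atTop_of_leadingCoeff_nonneg P hd (by rw [hlc]; exact hc.le)
    have ht' : Tendsto (fun m : ℕ => P.eval (m : ℚ)) atTop atTop :=
      ht.comp tendsto_natCast_atTop_atTop
    have := ht'.eventually_gt_atTop 0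
    rw [Filter.eventually_atTop] at this
    exact this

/-- a rational polynomial of degree `≤ n` which is eventually nonnegative on `ℕ` has nonnegative `n`-th
coefficient -/
theorem coeff_nonneg_of_eventually_nonneg {P : ℚ[X]} {n : ℕ} (hn : P.natDegree ≤ n)
    (h : ∃ N : ℕ, ∀ m : ℕ, N ≤ m → 0 ≤ P.eval (m : ℚ)) : 0 ≤ P.coeff n := by
  by_contra hc
  rw [not_le] at hc
  have h1 : (-P).natDegree ≤ n := by rw [natDegree_neg]; exact hn
  have h2 : 0 < (-P).coeff n := by rw [coeff_neg]; linarith
  obtain ⟨N1, hN1⟩ := eventually_pos_of_coeff_pos h1 h2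
  obtain ⟨N2, hN2⟩ := h
  have a := hN1 (max N1 N2) (le_max_left _ _)
  have b := hN2 (max N1 N2) (le_max_right _ _)
  rw [eval_neg] at a
  linarith

end Groth.Agent.Lib.Helper4.PolyAsymp
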