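import Groth.Agent.Lib.Helper4.HilbPoly4
import Groth.Agent.Lib.Helper4.PolyAsymp
set_option backward.isDefEq.respectTransparency.types false
set_option autoImplicit false
set_option linter.style.haveILetI false

universe u
open CategoryTheory CategoryTheory.Limits AlgebraicGeometry Opposite TopologicalSpace Polynomial

namespace Groth.Agent.Lib.Helper4.HilbPoly
open Groth.Agent.Lib.Helper4.Snapper Groth.Agent.Lib.Helper6.K0Len Groth.Agent.Lib.Helper6.K0Op
  Groth.Agent.Lib.Helper4.PolyAsymp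

theorem coeff_topPart (ℓ d : ℕ) (P : ℚ[X]) (j : ℕ) :
    (StabCat.topPart ℓ d P).coeff j = if d - ℓ ≤ j ∧ j ≤ d then P.coeff j else 0 := by
  unfold StabCat.topPart
  rw [Polynomial.finsetSum_coeff]
  simp only [coeff_monomial]
  split_ifs with h
  · rw [Finset.sum_eq_single j]
    · simp
    · intro i _ hij
      simp [hij]
    · intro hj
      exfalso
      apply hj
      rw [Finset.mem_Icc]
      exact h
  · apply Finset.sum_eq_zero
    intro i hi
    rw [Finset.mem_Icc] at hi
    have : i ≠ j := by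
      rintro rfl
      exact h hi
    simp [this]

theorem alpha_topPart (ℓ d : ℕ) (P : ℚ[X]) : StabCat.alpha d (StabCat.topPart ℓ d P) = StabCat.alpha d P := by
  unfold StabCat.alpha
  rw [coeff_topPart, if_pos ⟨Nat.sub_le d ℓ, le_rfl⟩]

theorem topPart_sub (ℓ d : ℕ) (P Q : ℚ[X]) :
    StabCat.topPart ℓ d (P - Q) = StabCat.topPart ℓ d P - StabCat.topPart ℓ d Q := by
  ext j
  rw [coeff_sub, coeff_topPart, coeff_topPart, coeff_topPart, coeff_sub]
  split_ifs <;> simp

theorem topPart_smul (ℓ d : ℕ) (c : ℚ) (P : ℚ[X]) :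
    StabCat.topPart ℓ d (c • P) = c • StabCat.topPart ℓ d P := by
  ext j
  rw [coeff_smul, coeff_topPart, coeff_topPart, coeff_smul]
  split_ifs <;> simp

/-- truncation preserves eventual nonnegativity -/
theorem topPart_eventually_nonneg (ℓ d : ℕ) {D : ℚ[X]} (hD : D.natDegree ≤ d)
    (h : ∃ N : ℕ, ∀ m : ℕ, N ≤ m → 0 ≤ D.eval (m : ℚ)) :
    ∃ N : ℕ, ∀ m : ℕ, N ≤ m → 0 ≤ (StabCat.topPart ℓ d D).eval (m : ℚ) := by
  by_cases hT : StabCat.topPart ℓ d D = 0
  · rw [hT]
    exact ⟨0, fun m _ => by simp⟩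
  set n := (StabCat.topPart ℓ d D).natDegree with hn
  have hcn : (StabCat.topPart ℓ d D).coeff n ≠ 0 := by
    rw [hn, coeff_natDegree]
    exact leadingCoeff_ne_zero.2 hT
  have hrange : d - ℓ ≤ n ∧ n ≤ d := by
    by_contra hr
    apply hcn
    rw [coeff_topPart, if_neg hr]
  have hcD : D.coeff n = (StabCat.topPart ℓ d D).coeff n := by
    rw [coeff_topPart, if_pos hrange]
  have hDn : D.natDegree ≤ n := by
    rw [Polynomial.natDegree_le_iff_coeff_eq_zero]
    intro j hj
    by_cases hjd : j ≤ d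
    · have h1 : (StabCat.topPart ℓ d D).coeff j = 0 := Polynomial.coeff_eq_zero_of_natDegree_lt hj
      rw [coeff_topPart, if_pos ⟨by omega, hjd⟩] at h1
      exact h1
    · exact Polynomial.coeff_eq_zero_of_natDegree_lt (by omega)
  have h1 := coeff_nonneg_of_eventually_nonneg hDn h
  have h2 : 0 < (StabCat.topPart ℓ d D).coeff n := by
    rw [← hcD]
    exact lt_of_le_of_ne h1 (by rw [hcD]; exact hcn.symm)
  obtain ⟨N, hN⟩ := eventually_pos_of_coeff_pos (le_refl _) h2
  exact ⟨N, fun m hm => (hN m hm).le⟩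

/-- truncation preserves the reduced comparison, for polynomials of degree `≤ d` -/
theorem redLE_topPart (ℓ d : ℕ) {P Q : ℚ[X]} (hP : P.natDegree ≤ d) (hQ : Q.natDegree ≤ d)
    (h : StabCat.RedLE d P Q) : StabCat.RedLE d (StabCat.topPart ℓ d P) (StabCat.topPart ℓ d Q) := by
  rw [redLE_iff] at *
  rw [alpha_topPart, alpha_topPart]
  set D : ℚ[X] := StabCat.alpha d P • Q - StabCat.alpha d Q • P with hDdef
  have hD : D.natDegree ≤ d := by
    refine (natDegree_sub_le _ _).trans (max_le ?_ ?_)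
    · exact (natDegree_smul_le _ _).trans hQ
    · exact (natDegree_smul_le _ _).trans hP
  obtain ⟨N, hN⟩ := h
  have h1 : ∃ N : ℕ, ∀ m : ℕ, N ≤ m → 0 ≤ D.eval (m : ℚ) := by
    refine ⟨N, fun m hm => ?_⟩
    simp only [hDdef, eval_sub, eval_smul, smul_eq_mul]
    linarith [hN m hm]
  obtain ⟨N', hN'⟩ := topPart_eventually_nonneg ℓ d hD h1
  refine ⟨N', fun m hm => ?_⟩
  have := hN' m hm
  rw [hDdef, topPart_sub, topPart_smul, topPart_smul] at this
  simp only [eval_sub, eval_smul, smul_eq_mul] at this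
  linarith

variable (k : Type u) [Field k] {X : Scheme.{u}} [X.Over (Spec (CommRingCat.of k))]
    [IsProper (X ↘ (Spec (CommRingCat.of k)))] {L : X.Modules}

/-- S15222 -/
theorem isEllSemistable_of_isSemistable (hL : CohB1.IsAmple L) (d ℓ : ℕ) (E : X.Modules)
    (hE : ShStab.IsSemistable k X L E d) : ShStab.IsEllSemistable k X L E d ℓ := by
  obtain ⟨hE, hE0, hEp, hss⟩ := hE
  refine ⟨hE, hE0, hEp, fun F ι hι hF pF pE hpF hpE h1 h2 => ?_⟩
  haveI := hι
  obtain ⟨hnF, hnE, -, -, -, -, -⟩ := sub_facts k hL hE hF hEp hE0 ι hpF hpE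
  apply redLE_topPart ℓ d hnF hnE
  refine hss F ι hι hF ?_ ?_ pF pE hpF hpE
  · intro hz
    have := isHilbPoly_unique k hpF (isHilbPoly_zero k hL.1 hz)
    rw [this] at h1
    unfold StabCat.alpha at h1
    simp at h1
  · intro hiso
    have := isHilbPoly_unique k (isHilbPoly_of_iso k hL.1 (asIso ι) hF hpF) hpE
    rw [this] at h2
    exact lt_irrefl _ h2

end Groth.Agent.Lib.Helper4.HilbPoly
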