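import Mathlib.Tactic
import Mathlib.Algebra.MvPolynomial.CommRing

namespace Groth.Agent.Lib.Helper4.HodgeGF

open Finset

variable {A : Type*} [CommRing A]

/-- diagonal lemma -/
theorem diag_sum (N s : ℕ) (hs : s < N) (F : ℕ → ℕ → A) :
    ∑ i ∈ range N, ∑ j ∈ range N, (if i + j = s then F i j else 0) =
      ∑ i ∈ range (s + 1), F i (s - i) := by
  have h1 : ∀ i ∈ range N, ∑ j ∈ range N, (if i + j = s then F i j else 0) =
      if i ≤ s then F i (s - i) else 0 := by
    intro i _
    split_ifs with his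
    · rw [Finset.sum_eq_single (s - i)]
      · rw [if_pos (by omega)]
      · intro j _ hj
        rw [if_neg (by omega)]
      · intro h
        exact absurd (mem_range.2 (by omega)) h
    · exact Finset.sum_eq_zero fun j _ => if_neg (by omega)
  rw [sum_congr rfl h1, ← sum_filter]
  congr 1
  ext i
  simp only [mem_filter, mem_range]
  omega

/-- generic identity 1 -/
theorem gen1 (y z : A) (c : ℕ → A) (N n : ℕ) (hn : n ≤ N) :
    ∑ m ∈ range (n + 1), c m * (y ^ m - z ^ m) =
      (y - z) * ∑ i ∈ range N, ∑ j ∈ range N,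
        (if i + j + 1 ≤ n then c (i + j + 1) * y ^ i * z ^ j else 0) := by
  induction n with
  | zero => simp
  | succ n ih =>
    rw [sum_range_succ, ih (by omega)]
    have hsplit : ∀ i j : ℕ, (if i + j + 1 ≤ n + 1 then c (i + j + 1) * y ^ i * z ^ j else 0) =
        (if i + j + 1 ≤ n then c (i + j + 1) * y ^ i * z ^ j else 0) +
        (if i + j = n then c (n + 1) * y ^ i * z ^ j else 0) := by
      intro i j
      by_cases h1 : i + j + 1 ≤ n
      · rw [if_pos (by omega), if_pos h1, if_neg (by omega), add_zero]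
      · by_cases h2 : i + j = n
        · rw [if_pos (by omega), if_neg h1, if_pos h2, zero_add, h2]
        · rw [if_neg (by omega), if_neg h1, if_neg h2, add_zero]
    simp only [hsplit, sum_add_distrib]
    rw [mul_add, diag_sum N n (by omega)]
    congr 1
    rw [← geom_sum₂_mul y z (n + 1), mul_comm (y - z), ← mul_assoc, mul_sum]
    congr 1
    refine sum_congr rfl fun i hi => ?_
    have : n + 1 - 1 - i = n - i := by omega
    rw [this]
    ring

/-- generic identity 2 -/
theorem gen2 (y z : A) (c : ℕ → A) (N n : ℕ) (hn : n < N) :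
    ∑ m ∈ range (n + 1), c m * (y ^ m * z - z ^ m * y) =
      (y - z) * (-(c 0) + ∑ i ∈ range N, ∑ j ∈ range N,
        (if 1 ≤ i ∧ 1 ≤ j ∧ i + j ≤ n then c (i + j) * y ^ i * z ^ j else 0)) := by
  induction n with
  | zero =>
    have : ∀ i j : ℕ, ¬ (1 ≤ i ∧ 1 ≤ j ∧ i + j ≤ 0) := by intro i j; omega
    simp only [this, if_false, sum_const_zero, add_zero, zero_add, sum_range_one, pow_zero, one_mul]
    ring
  | succ n ih =>
    rw [sum_range_succ, ih (by omega)]
    have hsplit : ∀ i j : ℕ,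
        (if 1 ≤ i ∧ 1 ≤ j ∧ i + j ≤ n + 1 then c (i + j) * y ^ i * z ^ j else 0) =
        (if 1 ≤ i ∧ 1 ≤ j ∧ i + j ≤ n then c (i + j) * y ^ i * z ^ j else 0) +
        (if i + j = n + 1 then (if 1 ≤ i ∧ 1 ≤ j then c (n + 1) * y ^ i * z ^ j else 0) else 0) := by
      intro i j
      by_cases h1 : 1 ≤ i ∧ 1 ≤ j ∧ i + j ≤ n
      · rw [if_pos ⟨h1.1, h1.2.1, by omega⟩, if_pos h1, if_neg (by omega), add_zero]
      · by_cases h2 : i + j = n + 1
        · by_cases h3 : 1 ≤ i ∧ 1 ≤ j
          · rw [if_pos ⟨h3.1, h3.2, by omega⟩, if_neg h1, if_pos h2, if_pos h3, zero_add, h2]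
          · rw [if_neg (by tauto), if_neg h1, if_pos h2, if_neg h3, add_zero]
        · rw [if_neg (by omega), if_neg h1, if_neg h2, add_zero]
    simp only [hsplit, sum_add_distrib]
    rw [diag_sum N (n + 1) (by omega)]
    have hdiag : ∑ i ∈ range (n + 1 + 1), (if 1 ≤ i ∧ 1 ≤ n + 1 - i then
        c (n + 1) * y ^ i * z ^ (n + 1 - i) else 0) =
        c (n + 1) * (y * z) * ∑ i ∈ range n, y ^ i * z ^ (n - 1 - i) := by
      rw [sum_range_succ', sum_range_succ]
      have e0 : (if 1 ≤ 0 ∧ 1 ≤ n + 1 - 0 then c (n + 1) * y ^ 0 * z ^ (n + 1 - 0) else 0) = (0 : A) :=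
        if_neg (by omega)
      have e1 : (if 1 ≤ n + 1 ∧ 1 ≤ n + 1 - (n + 1) then
          c (n + 1) * y ^ (n + 1) * z ^ (n + 1 - (n + 1)) else 0) = (0 : A) := if_neg (by omega)
      rw [e0, e1, add_zero, add_zero]
      have e2 : ∀ i ∈ range n, (if 1 ≤ i + 1 ∧ 1 ≤ n + 1 - (i + 1) then
          c (n + 1) * y ^ (i + 1) * z ^ (n + 1 - (i + 1)) else 0) =
          c (n + 1) * (y * z) * (y ^ i * z ^ (n - 1 - i)) := by
        intro i hi
        have hi' := mem_range.1 hi
        rw [if_pos (by omega)]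
        have : n + 1 - (i + 1) = (n - 1 - i) + 1 := by omega
        rw [this]
        ring
      rw [sum_congr rfl e2, ← mul_sum]
    rw [hdiag]
    have := geom_sum₂_mul y z n
    linear_combination (-(c (n + 1) * (y * z))) * this

theorem main (a : ℕ) (ha : 1 ≤ a) :
    let y : MvPolynomial (Fin 2) ℤ := MvPolynomial.X 0
    let z : MvPolynomial (Fin 2) ℤ := MvPolynomial.X 1
    ((1 + y) ^ (a - 1) - (1 + z) ^ (a - 1) =
      (y - z) * ∑ i ∈ Finset.range a, ∑ j ∈ Finset.range a,
        if i + j + 1 ≤ a - 1 then ((a - 1).choose (i + j + 1) : MvPolynomial (Fin 2) ℤ) * y ^ i * z ^ j else 0) ∧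
    ((1 + y) ^ a * z - (1 + z) ^ a * y =
      (y - z) * (-1 + ∑ i ∈ Finset.range (a + 1), ∑ j ∈ Finset.range (a + 1),
        if 1 ≤ i ∧ 1 ≤ j ∧ i + j ≤ a then (a.choose (i + j) : MvPolynomial (Fin 2) ℤ) * y ^ i * z ^ j else 0)) := by
  intro y z
  constructor
  · rw [← gen1 y z (fun m => ((a - 1).choose m : MvPolynomial (Fin 2) ℤ)) a (a - 1) (by omega)]
    have h1 : ∀ w : MvPolynomial (Fin 2) ℤ, (1 + w) ^ (a - 1) =
        ∑ m ∈ range (a - 1 + 1), ((a - 1).choose m : MvPolynomial (Fin 2) ℤ) * w ^ m := by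
      intro w
      rw [add_comm, add_pow]
      refine sum_congr rfl fun m _ => ?_
      rw [one_pow, mul_one, mul_comm]
    rw [h1 y, h1 z, ← sum_sub_distrib]
    exact sum_congr rfl fun m _ => by ring
  · have := gen2 y z (fun m => (a.choose m : MvPolynomial (Fin 2) ℤ)) (a + 1) a (by omega)
    simp only [Nat.choose_zero_right, Nat.cast_one] at this
    rw [← this]
    have h1 : ∀ w : MvPolynomial (Fin 2) ℤ, (1 + w) ^ a =
        ∑ m ∈ range (a + 1), (a.choose m : MvPolynomial (Fin 2) ℤ) * w ^ m := by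
      intro w
      rw [add_comm, add_pow]
      refine sum_congr rfl fun m _ => ?_
      rw [one_pow, mul_one, mul_comm]
    rw [h1 y, h1 z, sum_mul, sum_mul, ← sum_sub_distrib]
    exact sum_congr rfl fun m _ => by ring

end Groth.Agent.Lib.Helper4.HodgeGF
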