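import Mathlib
import Groth.Prelude.Def_AnHol
import Groth.Agent.Lib.Helper4.AnAff

namespace Groth.Agent.Lib.Helper4.HolAff
open AlgebraicGeometry CategoryTheory TopologicalSpace Opposite An Topology Filter
open Groth.Agent.Lib.Helper4.AnEv Groth.Agent.Lib.Helper4.AnGen Groth.Agent.Lib.Helper4.AnAff

/-- Local rational form of a section on an affine scheme. -/
theorem exists_local_frac {X : Scheme.{0}} [X.Over SC] [IsAffine X] (x : Pts X) (U : X.Opens)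
    (h : x.pt ∈ U) (a : Γ(X, U)) :
    ∃ (g c : Γ(X, ⊤)) (m : ℕ), x.evTop g ≠ 0 ∧ ∀ y : Pts X, y.evTop g ≠ 0 →
      ∃ hyU : y.pt ∈ U, y.ev U hyU a = y.evTop c / (y.evTop g) ^ m := by
  have hU₁ : IsAffineOpen (⊤ : X.Opens) := isAffineOpen_top X
  obtain ⟨g, hgU, hxg⟩ := hU₁.exists_basicOpen_le ⟨x.pt, h⟩ (Opens.mem_top _)
  have hloc := hU₁.isLocalization_basicOpen g
  obtain ⟨⟨c, ⟨_, m, rfl⟩⟩, hc⟩ := IsLocalization.surj (Submonoid.powers g)
    (X.presheaf.map (homOfLE hgU).op a)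
  simp only [RingHom.algebraMap_toAlgebra] at hc
  refine ⟨g, c, m, (mem_basicOpen_iff x ⊤ (Opens.mem_top _) g).1 hxg, fun y hyg => ?_⟩
  have hyD : y.pt ∈ X.basicOpen g := (mem_basicOpen_iff y ⊤ (Opens.mem_top _) g).2 hyg
  refine ⟨hgU hyD, ?_⟩
  have := congrArg (y.ev (X.basicOpen g) hyD) hc
  rw [AnEv.ev_mul, AnEv.ev_res, AnEv.ev_res, AnEv.ev_res, AnEv.ev_pow] at this
  rw [eq_div_iff (pow_ne_zero _ hyg)]
  exact this

variable (n : ℕ)

/-- The coordinate map. -/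
noncomputable def Φ (x : Pts (𝔸(Fin n; SC))) : Fin n → ℂ :=
  fun i => x.evTop (AffineSpace.coord SC i)

lemma isHomeomorph_Φ : IsHomeomorph (Φ n) := main4183 n

lemma evTop_eq_eval (r : Γ(𝔸(Fin n; SC), ⊤)) :
    ∃ P : MvPolynomial (Fin n) ℂ, ∀ y : Pts (𝔸(Fin n; SC)), y.evTop r = MvPolynomial.eval (Φ n y) P := by
  obtain ⟨P, rfl⟩ := (bijective_eval₂Hom_coord (Fin n)).2 r
  exact ⟨P, fun y => evTop_eval₂ y _ P⟩

/-- A section is, near a point, a differentiable function of the coordinates. -/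
theorem exists_diff_of_section (x₀ : Pts (𝔸(Fin n; SC))) (W : (𝔸(Fin n; SC)).Opens)
    (h : x₀.pt ∈ W) (a : Γ(𝔸(Fin n; SC), W)) :
    ∃ F : (Fin n → ℂ) → ℂ, DifferentiableAt ℂ F (Φ n x₀) ∧
      ∀ᶠ y in 𝓝 x₀, ∀ hy : y.pt ∈ W, y.ev W hy a = F (Φ n y) := by
  obtain ⟨g, c, m, hg0, hfrac⟩ := exists_local_frac x₀ W h a
  obtain ⟨Pg, hPg⟩ := evTop_eq_eval n g
  obtain ⟨Pc, hPc⟩ := evTop_eq_eval n c
  refine ⟨fun z => MvPolynomial.eval z Pc / (MvPolynomial.eval z Pg) ^ m, ?_, ?_⟩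
  · have h1 : DifferentiableAt ℂ (fun z : Fin n → ℂ => MvPolynomial.eval z Pc) (Φ n x₀) :=
      (AnalyticOnNhd.eval_mvPolynomial Pc _ (Set.mem_univ _)).differentiableAt
    have h2 : DifferentiableAt ℂ (fun z : Fin n → ℂ => MvPolynomial.eval z Pg) (Φ n x₀) :=
      (AnalyticOnNhd.eval_mvPolynomial Pg _ (Set.mem_univ _)).differentiableAt
    have h3 : (MvPolynomial.eval (Φ n x₀) Pg) ^ m ≠ 0 := by
      refine pow_ne_zero _ ?_
      rw [← hPg]; exact hg0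
    have h4 : DifferentiableAt ℂ (fun z : Fin n → ℂ => (MvPolynomial.eval z Pg) ^ m) (Φ n x₀) :=
      h2.fun_pow m
    have h5 : DifferentiableAt ℂ (fun z : Fin n → ℂ => ((MvPolynomial.eval z Pg) ^ m)⁻¹) (Φ n x₀) :=
      h4.inv h3
    have h6 := h1.mul h5
    simp only [div_eq_mul_inv]
    exact h6
  · have hopen : IsOpen {y : Pts (𝔸(Fin n; SC)) | y.evTop g ≠ 0} :=
      isOpen_ne_fun (continuous_evTop g) continuous_const
    filter_upwards [hopen.mem_nhds hg0] with y hy hyW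
    obtain ⟨hyU, e⟩ := hfrac y hy
    rw [e, hPc, hPg]


/-- Local differentiability in the coordinates. -/
def Q (V : Opens (Pts (𝔸(Fin n; SC)))) (f : V → ℂ) : Prop :=
  ∀ x : V, ∃ F : (Fin n → ℂ) → ℂ, DifferentiableAt ℂ F (Φ n x.1) ∧
    ∀ᶠ y in 𝓝 x.1, ∀ hy : y ∈ V, f ⟨y, hy⟩ = F (Φ n y)

lemma Q_of_isChartFun (V : Opens (top (𝔸(Fin n; SC)))) (f : V → ℂ) (hf : IsChartFun V f) :
    Q n V f := by
  obtain ⟨W, hW, m, s, V₀, G₀, hV₀, hG₀, hval⟩ := hf
  intro x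
  choose F hF1 hF2 using fun i => exists_diff_of_section n x.1 W (hW x) (s i)
  refine ⟨fun z => G₀ (fun i => F i z), ?_, ?_⟩
  · have h1 : DifferentiableAt ℂ (fun z : Fin n → ℂ => (fun i => F i z)) (Φ n x.1) :=
      differentiableAt_pi.2 hF1
    have hpt : (fun i => F i (Φ n x.1)) ∈ V₀ := by
      have h2 : ∀ i, Pts.ev x.1 W (hW x) (s i) = F i (Φ n x.1) := fun i =>
        (hF2 i).self_of_nhds (hW x)
      have := (hval x).1
      simpa only [h2] using this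
    have h3 : DifferentiableAt ℂ G₀ (fun i => F i (Φ n x.1)) :=
      (hG₀ _ hpt).differentiableAt (hV₀.mem_nhds hpt)
    exact h3.comp (Φ n x.1) h1
  · have hall : ∀ᶠ y in 𝓝 x.1, ∀ i, ∀ hy : y.pt ∈ W, y.ev W hy (s i) = F i (Φ n y) :=
      eventually_all.2 hF2
    filter_upwards [hall] with y hy hyV
    refine ((hval ⟨y, hyV⟩).2).trans ?_
    congr 1
    funext i
    exact hy i (hW ⟨y, hyV⟩)

lemma Q_of_mem_chartAlg (V : Opens (top (𝔸(Fin n; SC)))) (f : V → ℂ) (hf : f ∈ chartAlg V) :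
    Q n V f := by
  unfold chartAlg at hf
  induction hf using Algebra.adjoin_induction with
  | mem f hf => exact Q_of_isChartFun n V f hf
  | algebraMap c =>
    intro x
    exact ⟨fun _ => c, differentiableAt_const _, Eventually.of_forall fun y hy => rfl⟩
  | add f g _ _ hf hg =>
    intro x
    obtain ⟨F, hF1, hF2⟩ := hf x
    obtain ⟨G, hG1, hG2⟩ := hg x
    refine ⟨fun z => F z + G z, hF1.add hG1, ?_⟩
    filter_upwards [hF2, hG2] with y h1 h2 hy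
    exact congrArg₂ (· + ·) (h1 hy) (h2 hy)
  | mul f g _ _ hf hg =>
    intro x
    obtain ⟨F, hF1, hF2⟩ := hf x
    obtain ⟨G, hG1, hG2⟩ := hg x
    refine ⟨fun z => F z * G z, hF1.mul hG1, ?_⟩
    filter_upwards [hF2, hG2] with y h1 h2 hy
    exact congrArg₂ (· * ·) (h1 hy) (h2 hy)

lemma Q_of_holPred (U : Opens (top (𝔸(Fin n; SC)))) (g : U → ℂ)
    (hg : (holPred (𝔸(Fin n; SC))).pred g) : Q n U g := by
  intro x
  obtain ⟨V, hxV, i, hV⟩ := hg x
  obtain ⟨F, hF1, hF2⟩ := Q_of_mem_chartAlg n V _ hV ⟨x.1, hxV⟩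
  refine ⟨F, hF1, ?_⟩
  filter_upwards [hF2, V.2.mem_nhds hxV] with y h1 hyV hyU
  exact h1 hyV

theorem main4307 (U : TopologicalSpace.Opens (An.Pts (𝔸(Fin n; An.SC))))
    (g : U → ℂ) :
    (An.holPred (𝔸(Fin n; An.SC))).pred g ↔
      ∃ G : (Fin n → ℂ) → ℂ,
        DifferentiableOn ℂ G ((fun (x : An.Pts (𝔸(Fin n; An.SC))) (i : Fin n) =>
          x.evTop (AffineSpace.coord An.SC i)) '' (U : Set (An.Pts (𝔸(Fin n; An.SC))))) ∧
        ∀ x : U, g x = G (fun i => (x : An.Pts (𝔸(Fin n; An.SC))).evTop (AffineSpace.coord An.SC i)) := by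
  classical
  have hΦ := isHomeomorph_Φ n
  set e : Pts (𝔸(Fin n; SC)) ≃ₜ (Fin n → ℂ) := hΦ.homeomorph with he
  have heΦ : ∀ y, e y = Φ n y := fun y => rfl
  constructor
  · intro hg
    have hQ := Q_of_holPred n U g hg
    let g' : Pts (𝔸(Fin n; SC)) → ℂ := fun y => if hy : y ∈ U then g ⟨y, hy⟩ else 0
    refine ⟨fun z => g' (e.symm z), ?_, fun x => ?_⟩
    · rintro _ ⟨x, hx, rfl⟩
      obtain ⟨F, hF1, hF2⟩ := hQ ⟨x, hx⟩
      refine DifferentiableAt.differentiableWithinAt ?_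
      refine hF1.congr_of_eventuallyEq ?_
      have h1 : ∀ᶠ y in 𝓝 x, g' y = F (Φ n y) := by
        filter_upwards [hF2, U.2.mem_nhds hx] with y hy hyU
        show (if hy : y ∈ U then g ⟨y, hy⟩ else 0) = F (Φ n y)
        have hyU' : y ∈ U := hyU
        rw [dif_pos hyU']
        exact hy hyU'
      have h2 : Tendsto e.symm (𝓝 (Φ n x)) (𝓝 x) := by
        have := e.symm.continuous.tendsto (Φ n x)
        rwa [← heΦ, e.symm_apply_apply] at this
      filter_upwards [h2.eventually h1] with z hz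
      show g' (e.symm z) = F z
      rw [hz, ← heΦ, e.apply_symm_apply]
    · show g x = g' (e.symm (Φ n x.1))
      rw [← heΦ, e.symm_apply_apply]
      show g x = (if hy : x.1 ∈ U then g ⟨x.1, hy⟩ else 0)
      rw [dif_pos x.2]
  · rintro ⟨G, hG, hgG⟩
    apply holPred_of_chartAlg
    apply Algebra.subset_adjoin
    refine ⟨⊤, fun _ => Opens.mem_top _, n, fun i => AffineSpace.coord SC i,
      Φ n '' (U : Set (Pts (𝔸(Fin n; SC)))), G, hΦ.isOpenMap _ U.2, hG, fun x => ⟨?_, hgG x⟩⟩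
    exact ⟨x.1, x.2, rfl⟩

end Groth.Agent.Lib.Helper4.HolAff
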