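import Mathlib.Tactic
import Groth.Prelude.Def_ChGrp

set_option autoImplicit false
universe u
open CategoryTheory AlgebraicGeometry Limits MonoidalCategory CartesianMonoidalCategory MonObj

namespace Groth.Agent.Lib.Helper4.HomogLocal

/-- if `π` admits a section over `g` and the self-pullback of `π` has a projection with `P`,
then the base change of `π` along `g` has `P`. -/
theorem snd_of_section {C : Type*} [Category C] (P : MorphismProperty C) [P.IsStableUnderBaseChange]
    {G Q E U : C} (π : G ⟶ Q) (m p : E ⟶ G) (hpb : IsPullback m p π π) (hp : P p)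
    (g : U ⟶ Q) (s : U ⟶ G) (hs : s ≫ π = g) [HasPullback π g] : P (pullback.snd π g) := by
  have hcond : pullback.fst π g ≫ π = (pullback.snd π g ≫ s) ≫ π := by
    rw [Category.assoc, hs, pullback.condition]
  have hbig : IsPullback (hpb.lift _ _ hcond ≫ m) (pullback.snd π g) π (s ≫ π) := by
    rw [hpb.lift_fst, hs]
    exact IsPullback.of_hasPullback _ _
  have hleft := IsPullback.of_right hbig (hpb.lift_snd _ _ hcond) hpb
  exact P.of_isPullback hleft hp

theorem main19965 (S : Scheme.{u})
    (G H : Over S) [GrpObj G] [GrpObj H] (i : H ⟶ G)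
    (Q : Over S) (aQ : AlgGrp.Action G Q) (q₀ : 𝟙_ (Over S) ⟶ Q)
    (hQ : ChGrp.IsHomog Scheme.fppfPrecoverage i aQ q₀)
    (P : MorphismProperty Scheme.{u}) [P.IsStableUnderBaseChange]
    [P.IsLocalAtTarget Scheme.fppfPrecoverage]
    (hP : P H.hom) : P (aQ.orbitMap q₀).left := by
  obtain ⟨-, hpb, R, hR, hsec⟩ := hQ
  have hpb' := (hpb.map (Over.forget S)).flip
  simp only [Over.forget_obj, Over.forget_map] at hpb'
  have hfst : P (fst G H).left := by
    rw [Over.fst_left]
    exact P.pullback_fst _ _ hP
  refine MorphismProperty.IsLocalAtTarget.of_forall_pullbackSnd (K := Scheme.fppfPrecoverage) hR ?_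
  intro U g _ hg
  obtain ⟨s, hs⟩ := hsec g hg
  exact snd_of_section P _ _ _ hpb' hfst g s hs

end Groth.Agent.Lib.Helper4.HomogLocal
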