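import Mathlib.RingTheory.Bialgebra.Hom
import Mathlib.RingTheory.HopfAlgebra.Basic
import Mathlib.RingTheory.Flat.Basic
import Mathlib.RingTheory.FiniteType
import Mathlib.Tactic

namespace Groth.Agent.Lib.Helper4.HopfFactor

open Coalgebra Bialgebra

universe u v w

theorem main (k : Type u) [Field k]
    (A : Type v) [CommRing A] [HopfAlgebra k A] {ι : Type v} (Aι : ι → Type v)
    [∀ i, CommRing (Aι i)] [∀ i, HopfAlgebra k (Aι i)] (emb : ∀ i, Aι i →ₐc[k] A)
    (hinj : ∀ i, Function.Injective (emb i))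
    (hdir : ∀ i j, ∃ l, Set.range (emb i) ⊆ Set.range (emb l) ∧ Set.range (emb j) ⊆ Set.range (emb l))
    (hcov : ∀ a : A, ∃ i, a ∈ Set.range (emb i))
    (B : Type w) [CommRing B] [HopfAlgebra k B] [Algebra.FiniteType k B] (f : B →ₐc[k] A) :
    ∃ (i : ι) (g : B →ₐc[k] Aι i), (emb i).comp g = f := by
  classical
  -- Step 1: a common index
  have hfin : ∀ s : Finset B, ∃ l, ∀ b ∈ s, f b ∈ Set.range (emb l) := by
    intro s
    induction s using Finset.induction_on with
    | empty =>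
      obtain ⟨i, _⟩ := hcov 0
      exact ⟨i, by simp⟩
    | insert b s _ ih =>
      obtain ⟨l, hl⟩ := ih
      obtain ⟨i, hi⟩ := hcov (f b)
      obtain ⟨l', h1, h2⟩ := hdir i l
      refine ⟨l', ?_⟩
      intro c hc
      rcases Finset.mem_insert.1 hc with rfl | hc
      · exact h1 hi
      · exact h2 (hl c hc)
  obtain ⟨s, hs⟩ := (inferInstance : Algebra.FiniteType k B).out
  obtain ⟨l, hl⟩ := hfin s
  have hall : ∀ b : B, (f : B →ₐ[k] A) b ∈ ((emb l : Aι l →ₐ[k] A)).range := by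
    intro b
    have hb : b ∈ Algebra.adjoin k (s : Set B) := by rw [hs]; trivial
    have hle : Algebra.adjoin k (s : Set B) ≤
        ((emb l : Aι l →ₐ[k] A)).range.comap (f : B →ₐ[k] A) := by
      apply Algebra.adjoin_le
      intro c hc
      obtain ⟨y, hy⟩ := hl c hc
      exact ⟨y, hy⟩
    exact hle hb
  -- Step 2: the algebra map
  let e := AlgEquiv.ofInjective (emb l : Aι l →ₐ[k] A) (hinj l)
  let g₀ : B →ₐ[k] Aι l := (e.symm : _ →ₐ[k] Aι l).comp ((f : B →ₐ[k] A).codRestrict _ hall)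
  have hg₀ : ∀ b, emb l (g₀ b) = f b := by
    intro b
    have h1 : e (g₀ b) = (f : B →ₐ[k] A).codRestrict _ hall b := e.apply_symm_apply _
    have h2 := congrArg Subtype.val h1
    exact h2
  have hinj2 : Function.Injective
      (Algebra.TensorProduct.map (emb l : Aι l →ₐ[k] A) (emb l : Aι l →ₐ[k] A)) := by
    exact TensorProduct.map_injective_of_flat_flat (emb l : Aι l →ₐ[k] A).toLinearMap
      (emb l : Aι l →ₐ[k] A).toLinearMap (hinj l) (hinj l)
  refine ⟨l, BialgHom.ofAlgHom g₀ ?_ ?_, ?_⟩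
  · -- counit
    ext b
    have h1 := DFunLike.congr_fun (BialgHom.counitAlgHom_comp (emb l)) (g₀ b)
    have h2 := DFunLike.congr_fun (BialgHom.counitAlgHom_comp f) b
    simp only [AlgHom.comp_apply] at h1 h2 ⊢
    rw [← h1, ← h2]
    exact congrArg _ (hg₀ b)
  · -- comul
    ext b
    apply hinj2
    have h1 := DFunLike.congr_fun (BialgHom.map_comp_comulAlgHom (emb l)) (g₀ b)
    have h2 := DFunLike.congr_fun (BialgHom.map_comp_comulAlgHom f) b
    simp only [AlgHom.comp_apply] at h1 h2 ⊢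
    rw [h1]
    have h3 : ((emb l : Aι l →ₐ[k] A)) (g₀ b) = (f : B →ₐ[k] A) b := hg₀ b
    rw [h3, ← h2, ← AlgHom.comp_apply, ← Algebra.TensorProduct.map_comp]
    congr 2 <;> exact AlgHom.ext hg₀
  · ext b
    exact hg₀ b

end Groth.Agent.Lib.Helper4.HopfFactor
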