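import Mathlib.RingTheory.HopfAlgebra.Convolution
import Mathlib.RingTheory.HopfAlgebra.Basic
import Mathlib.RingTheory.Kaehler.Basic
import Mathlib.RingTheory.TensorProduct.Free
import Mathlib.LinearAlgebra.FreeModule.Basic
import Mathlib.Tactic

open TensorProduct Coalgebra HopfAlgebra

namespace Groth.Agent.Lib.Helper4.HopfOmega

variable (K : Type*) [Field K] (B : Type*) [CommRing B] [HopfAlgebra K B]

/-- `a ⊗ x ↦ S(a) x` -/
noncomputable def mS : B ⊗[K] B →ₗ[K] B := LinearMap.mul' K B ∘ₗ (antipode K).rTensor B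
/-- `a ⊗ x ↦ a S(x)` -/
noncomputable def mS' : B ⊗[K] B →ₗ[K] B := LinearMap.mul' K B ∘ₗ (antipode K).lTensor B

@[simp] lemma mS_tmul (a x : B) : mS K B (a ⊗ₜ x) = antipode K a * x := by simp [mS]
@[simp] lemma mS'_tmul (a x : B) : mS' K B (a ⊗ₜ x) = a * antipode K x := by simp [mS']

lemma mS_comul (x : B) : mS K B (comul x) = algebraMap K B (counit x) :=
  mul_antipode_rTensor_comul_apply x
lemma mS'_comul (x : B) : mS' K B (comul x) = algebraMap K B (counit x) :=
  mul_antipode_lTensor_comul_apply x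

variable {N : Type*} [AddCommGroup N] [Module K N]

lemma L1 (g : B →ₗ[K] N) (x : B) :
    (TensorProduct.map (mS K B) g) ((TensorProduct.assoc K B B B).symm
      ((comul (R := K)).lTensor B (comul x))) = 1 ⊗ₜ g x := by
  rw [coassoc_symm_apply]
  have key : ∀ t : B ⊗[K] B, (TensorProduct.map (mS K B) g) ((comul (R := K)).rTensor B t)
      = (TensorProduct.map (Algebra.linearMap K B) g) ((counit (R := K)).rTensor B t) := by
    intro t
    induction t with
    | zero => simp
    | tmul a b => simp [mS_comul]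
    | add u v hu hv => simp only [map_add, hu, hv]
  rw [key, rTensor_counit_comul]
  simp

lemma L2 (g : B →ₗ[K] N) (x : B) :
    (TensorProduct.map (mS' K B) g) ((TensorProduct.assoc K B B B).symm
      ((comul (R := K)).lTensor B (comul x))) = 1 ⊗ₜ g x := by
  rw [coassoc_symm_apply]
  have key : ∀ t : B ⊗[K] B, (TensorProduct.map (mS' K B) g) ((comul (R := K)).rTensor B t)
      = (TensorProduct.map (Algebra.linearMap K B) g) ((counit (R := K)).rTensor B t) := by
    intro t
    induction t with
    | zero => simp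
    | tmul a b => simp [mS'_comul]
    | add u v hu hv => simp only [map_add, hu, hv]
  rw [key, rTensor_counit_comul]
  simp


/-- augmentation ideal -/
noncomputable def augI : Ideal B := RingHom.ker (Bialgebra.counitAlgHom K B)

lemma mem_augI {x : B} : x ∈ augI K B ↔ counit (R := K) x = 0 := by
  simp [augI, RingHom.mem_ker]

lemma sub_counit_mem (x : B) : x - algebraMap K B (counit x) ∈ augI K B := by
  rw [mem_augI, map_sub]
  have : counit (R := K) (algebraMap K B (counit x)) = counit x := by
    simp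
  rw [this, sub_self]

/-- `W = K·1 + I²` as a `K`-submodule -/
noncomputable def W : Submodule K B :=
  Submodule.span K {1} ⊔ ((augI K B) * (augI K B)).restrictScalars K

/-- `Q = B / (K + I²) ≅ I/I²` -/
abbrev Q := B ⧸ W K B

noncomputable def π : B →ₗ[K] Q K B := (W K B).mkQ

lemma π_surj : Function.Surjective (π K B) := Submodule.mkQ_surjective _

lemma π_eq_zero {x : B} (hx : x ∈ W K B) : π K B x = 0 := by
  simpa [π] using hx

lemma π_mul (x y : B) : π K B (x * y) = (counit (R := K) x) • π K B y + (counit (R := K) y) • π K B x := by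
  rw [← sub_eq_zero, ← map_smul, ← map_smul, ← map_add, ← map_sub]
  apply π_eq_zero
  have h1 : (x - algebraMap K B (counit x)) * (y - algebraMap K B (counit y)) ∈
      ((augI K B) * (augI K B)).restrictScalars K :=
    Ideal.mul_mem_mul (sub_counit_mem K B x) (sub_counit_mem K B y)
  have h2 : (counit (R := K) x * counit (R := K) y) • (1 : B) ∈ Submodule.span K {(1 : B)} :=
    Submodule.smul_mem _ _ (Submodule.subset_span rfl)
  have : x * y - (counit (R := K) x • y + counit (R := K) y • x) =
      (x - algebraMap K B (counit x)) * (y - algebraMap K B (counit y))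
        - (counit (R := K) x * counit (R := K) y) • (1 : B) := by
    simp only [Algebra.smul_def, map_mul]
    ring
  rw [this]
  exact (W K B).sub_mem (Submodule.mem_sup_right h1) (Submodule.mem_sup_left h2)

/-- `a ⊗ x ↦ ε(x) a` -/
noncomputable def Gε : B ⊗[K] B →ₗ[K] B := (TensorProduct.rid K B).toLinearMap ∘ₗ (counit (R := K)).lTensor B

@[simp] lemma Gε_tmul (a x : B) : Gε K B (a ⊗ₜ x) = counit (R := K) x • a := by simp [Gε]

lemma Gε_comul (x : B) : Gε K B (comul x) = x := by
  simp [Gε]

lemma lTensor_π_mul (u v : B ⊗[K] B) :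
    (π K B).lTensor B (u * v) = Gε K B u • (π K B).lTensor B v + Gε K B v • (π K B).lTensor B u := by
  induction u with
  | zero => simp
  | add u₁ u₂ h₁ h₂ => simp only [add_mul, map_add, h₁, h₂, add_smul, smul_add]; abel
  | tmul a x =>
    induction v with
    | zero => simp
    | add v₁ v₂ h₁ h₂ => simp only [mul_add, map_add, h₁, h₂, add_smul, smul_add]; abel
    | tmul b y =>
      simp only [Algebra.TensorProduct.tmul_mul_tmul, LinearMap.lTensor_tmul, π_mul, Gε_tmul,
        TensorProduct.smul_tmul', tmul_add, TensorProduct.tmul_smul, smul_eq_mul]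
      simp only [Algebra.smul_def, mul_comm, mul_left_comm, mul_assoc]

/-- The derivation `b ↦ Σ b₁ ⊗ π(b₂)` -/
noncomputable def Dd : Derivation K B (B ⊗[K] Q K B) :=
  Derivation.mk' ((π K B).lTensor B ∘ₗ comul) (by
    intro a b
    simp only [LinearMap.comp_apply, Bialgebra.comul_mul, lTensor_π_mul, Gε_comul])


open KaehlerDifferential

/-- `a ⊗ x ↦ S(a) • d x` -/
noncomputable def H' : B ⊗[K] B →ₗ[K] Ω[B⁄K] :=
  TensorProduct.lift (((Algebra.lsmul K K (Ω[B⁄K])).toLinearMap ∘ₗ (antipode K)).compl₂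
    ((D K B).toLinearMap))

@[simp] lemma H'_tmul (a x : B) : H' K B (a ⊗ₜ x) = antipode K a • D K B x := by
  simp [H']

lemma H'_mul (u v : B ⊗[K] B) :
    H' K B (u * v) = mS K B u • H' K B v + mS K B v • H' K B u := by
  induction u with
  | zero => simp
  | add u₁ u₂ h₁ h₂ => simp only [add_mul, map_add, h₁, h₂, add_smul, smul_add]; abel
  | tmul a x =>
    induction v with
    | zero => simp
    | add v₁ v₂ h₁ h₂ => simp only [mul_add, map_add, h₁, h₂, add_smul, smul_add]; abel
    | tmul b y =>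
      simp only [Algebra.TensorProduct.tmul_mul_tmul, H'_tmul, mS_tmul, antipode_mul_distrib,
        Derivation.leibniz, smul_add, smul_smul]
      congr 1 <;> congr 1 <;> ring

/-- `θ(x) = Σ S(x₁) d(x₂)` -/
noncomputable def θ : B →ₗ[K] Ω[B⁄K] := H' K B ∘ₗ comul

lemma θ_mul (x y : B) : θ K B (x * y) = counit (R := K) x • θ K B y + counit (R := K) y • θ K B x := by
  simp only [θ, LinearMap.comp_apply, Bialgebra.comul_mul, H'_mul, mS_comul, algebraMap_smul]

lemma θ_one : θ K B 1 = 0 := by
  simp [θ, Bialgebra.comul_one, Algebra.TensorProduct.one_def]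

lemma θ_W : W K B ≤ LinearMap.ker (θ K B) := by
  apply sup_le
  · rw [Submodule.span_le]
    rintro _ rfl
    exact θ_one K B
  · intro x hx
    change x ∈ (augI K B) * (augI K B) at hx
    rw [LinearMap.mem_ker]
    refine Submodule.mul_induction_on hx ?_ ?_
    · intro a ha b hb
      rw [mem_augI] at ha hb
      rw [θ_mul, ha, hb, zero_smul, zero_smul, add_zero]
    · intro a b ha hb
      rw [map_add, ha, hb, add_zero]

noncomputable def θbar : Q K B →ₗ[K] Ω[B⁄K] := (W K B).liftQ (θ K B) (θ_W K B)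

@[simp] lemma θbar_π (x : B) : θbar K B (π K B x) = θ K B x := by
  simp [θbar, π]

noncomputable def Φ : Ω[B⁄K] →ₗ[B] B ⊗[K] Q K B := (Dd K B).liftKaehlerDifferential

noncomputable def Ψ : B ⊗[K] Q K B →ₗ[B] Ω[B⁄K] := (θbar K B).liftBaseChange B

@[simp] lemma Φ_D (x : B) : Φ K B (D K B x) = (π K B).lTensor B (comul x) := by
  simp [Φ, Dd]

@[simp] lemma Ψ_tmul (a : B) (q : Q K B) : Ψ K B (a ⊗ₜ q) = a • θbar K B q := by
  simp [Ψ]


/-- `a ⊗ w ↦ a • w` -/
noncomputable def act : B ⊗[K] Ω[B⁄K] →ₗ[K] Ω[B⁄K] :=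
  TensorProduct.lift (Algebra.lsmul K K (Ω[B⁄K])).toLinearMap

@[simp] lemma act_tmul (a : B) (w : Ω[B⁄K]) : act K B (a ⊗ₜ w) = a • w := by simp [act]

lemma Ψ_lTensor_π (t : B ⊗[K] B) : Ψ K B ((π K B).lTensor B t) = act K B ((θ K B).lTensor B t) := by
  induction t with
  | zero => simp
  | add u v hu hv => simp only [map_add, hu, hv]
  | tmul a x => simp

lemma act_lTensor_H' (t : B ⊗[K] (B ⊗[K] B)) :
    act K B ((H' K B).lTensor B t) =
      act K B ((TensorProduct.map (mS' K B) (D K B).toLinearMap)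
        ((TensorProduct.assoc K B B B).symm t)) := by
  induction t with
  | zero => simp
  | add u v hu hv => simp only [map_add, hu, hv]
  | tmul a u =>
    induction u with
    | zero => simp
    | add u v hu hv => simp only [tmul_add, map_add, hu, hv]
    | tmul x y => simp [smul_smul]

lemma Ψ_Φ_D (x : B) : Ψ K B (Φ K B (D K B x)) = D K B x := by
  rw [Φ_D, Ψ_lTensor_π]
  have : (θ K B).lTensor B (comul x) = (H' K B).lTensor B ((comul (R := K)).lTensor B (comul x)) := by
    rw [θ, LinearMap.lTensor_comp]; rfl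
  rw [this, act_lTensor_H', L2]
  simp

lemma Ψ_comp_Φ : Ψ K B ∘ₗ Φ K B = LinearMap.id := by
  apply Derivation.liftKaehlerDifferential_unique
  ext x
  simpa using Ψ_Φ_D K B x

lemma aux1 (a : B) (u : B ⊗[K] B) :
    (TensorProduct.map (mS K B) (π K B)) ((TensorProduct.assoc K B B B).symm (a ⊗ₜ u)) =
      antipode K a • (π K B).lTensor B u := by
  induction u with
  | zero => simp
  | add u v hu hv => simp only [tmul_add, map_add, hu, hv, smul_add]
  | tmul x y => simp [TensorProduct.smul_tmul']

lemma Φ_H' (t : B ⊗[K] B) :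
    Φ K B (H' K B t) = (TensorProduct.map (mS K B) (π K B))
      ((TensorProduct.assoc K B B B).symm ((comul (R := K)).lTensor B t)) := by
  induction t with
  | zero => simp
  | add u v hu hv => simp only [map_add, hu, hv]
  | tmul a y => simp [aux1]

lemma Φ_θ (x : B) : Φ K B (θ K B x) = 1 ⊗ₜ π K B x := by
  rw [θ, LinearMap.comp_apply, Φ_H', L1]

lemma Φ_comp_Ψ : Φ K B ∘ₗ Ψ K B = LinearMap.id := by
  apply TensorProduct.AlgebraTensorModule.ext
  intro a q
  obtain ⟨x, rfl⟩ := π_surj K B q
  simp [Φ_θ, TensorProduct.smul_tmul']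

noncomputable def equiv : Ω[B⁄K] ≃ₗ[B] B ⊗[K] Q K B :=
  LinearEquiv.ofLinearMap (Φ K B) (Ψ K B) (Φ_comp_Ψ K B) (Ψ_comp_Φ K B)

theorem main : Module.Free B (Ω[B⁄K]) :=
  Module.Free.of_equiv (equiv K B).symm

end Groth.Agent.Lib.Helper4.HopfOmega
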