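import Mathlib.RingTheory.MvPolynomial.Basic
import Mathlib.RingTheory.Ideal.Quotient.Operations
import Mathlib.Algebra.Polynomial.AlgebraMap
import Mathlib.Tactic

namespace Groth.Agent.Lib.Helper4.HypSpan

open Polynomial

universe u v

variable {R : Type u} [CommRing R] {Q : Type v} [CommRing Q] [Algebra R Q]

/-- the spanning set -/
def gens (x y z : Q) (g : ℕ) : Set Q :=
  {a | ∃ i n : ℕ, i ≤ 2 * g ∧ (a = x ^ i * y ^ n ∨ a = x ^ i * z ^ n)}

theorem stable_of_gens (x y z : Q) (g : ℕ) (t : Q)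
    (h : ∀ a ∈ gens x y z g, t * a ∈ Submodule.span R (gens x y z g)) :
    ∀ w ∈ Submodule.span R (gens x y z g), t * w ∈ Submodule.span R (gens x y z g) := by
  intro w hw
  have hle : Submodule.span R (gens x y z g) ≤
      (Submodule.span R (gens x y z g)).comap (LinearMap.mulLeft R t) := by
    rw [Submodule.span_le]
    intro a ha
    exact h a ha
  exact hle hw

theorem pow_y_mem (x y z : Q) (g n : ℕ) (i : ℕ) (hi : i ≤ 2 * g) :
    x ^ i * y ^ n ∈ Submodule.span R (gens x y z g) :=
  Submodule.subset_span ⟨i, n, hi, Or.inl rfl⟩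

theorem pow_z_mem (x y z : Q) (g n : ℕ) (i : ℕ) (hi : i ≤ 2 * g) :
    x ^ i * z ^ n ∈ Submodule.span R (gens x y z g) :=
  Submodule.subset_span ⟨i, n, hi, Or.inr rfl⟩

theorem stable_y (x y z : Q) (g : ℕ) (hyz : y * z = 1) :
    ∀ w ∈ Submodule.span R (gens x y z g), y * w ∈ Submodule.span R (gens x y z g) := by
  apply stable_of_gens
  rintro a ⟨i, n, hi, rfl | rfl⟩
  · have : y * (x ^ i * y ^ n) = x ^ i * y ^ (n + 1) := by ring
    rw [this]
    exact pow_y_mem x y z g _ i hi
  · cases n with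
    | zero =>
      have : y * (x ^ i * z ^ 0) = x ^ i * y ^ 1 := by ring
      rw [this]
      exact pow_y_mem x y z g _ i hi
    | succ m =>
      have : y * (x ^ i * z ^ (m + 1)) = x ^ i * z ^ m := by
        calc y * (x ^ i * z ^ (m + 1)) = (y * z) * (x ^ i * z ^ m) := by ring
          _ = x ^ i * z ^ m := by rw [hyz, one_mul]
      rw [this]
      exact pow_z_mem x y z g _ i hi

theorem stable_z (x y z : Q) (g : ℕ) (hyz : y * z = 1) :
    ∀ w ∈ Submodule.span R (gens x y z g), z * w ∈ Submodule.span R (gens x y z g) := by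
  apply stable_of_gens
  rintro a ⟨i, n, hi, rfl | rfl⟩
  · cases n with
    | zero =>
      have : z * (x ^ i * y ^ 0) = x ^ i * z ^ 1 := by ring
      rw [this]
      exact pow_z_mem x y z g _ i hi
    | succ m =>
      have : z * (x ^ i * y ^ (m + 1)) = x ^ i * y ^ m := by
        calc z * (x ^ i * y ^ (m + 1)) = (y * z) * (x ^ i * y ^ m) := by ring
          _ = x ^ i * y ^ m := by rw [hyz, one_mul]
      rw [this]
      exact pow_y_mem x y z g _ i hi
  · have : z * (x ^ i * z ^ n) = x ^ i * z ^ (n + 1) := by ring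
    rw [this]
    exact pow_z_mem x y z g _ i hi

theorem stable_x (x y z : Q) (g : ℕ) (hyz : y * z = 1)
    (P : Polynomial R) (hP : P.Monic) (hdeg : P.natDegree = 2 * g + 1)
    (hy2 : y ^ 2 = Polynomial.aeval x P) :
    ∀ w ∈ Submodule.span R (gens x y z g), x * w ∈ Submodule.span R (gens x y z g) := by
  -- x^(2g+1) = y^2 - lower
  have hx : x ^ (2 * g + 1) = y ^ 2 - ∑ j ∈ Finset.range (2 * g + 1), P.coeff j • x ^ j := by
    have hPx : Polynomial.aeval x P =
        x ^ (2 * g + 1) + ∑ j ∈ Finset.range (2 * g + 1), P.coeff j • x ^ j := by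
      conv_lhs => rw [hP.as_sum, hdeg]
      simp only [map_add, map_pow, aeval_X, map_sum, map_mul, aeval_C, Algebra.smul_def]
    rw [hy2, hPx, add_sub_cancel_right]
  -- general: x^(2g+1) * u ∈ W for u with u, y*u, y*(y*u) ∈ W, x^j u ∈ W
  have key : ∀ u : Q, y * (y * u) ∈ Submodule.span R (gens x y z g) →
      (∀ j ≤ 2 * g, x ^ j * u ∈ Submodule.span R (gens x y z g)) →
      x ^ (2 * g + 1) * u ∈ Submodule.span R (gens x y z g) := by
    intro u h1 h2
    rw [hx, sub_mul, Finset.sum_mul]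
    refine Submodule.sub_mem _ ?_ ?_
    · have : y ^ 2 * u = y * (y * u) := by ring
      rw [this]
      exact h1
    · refine Submodule.sum_mem _ fun j hj => ?_
      rw [smul_mul_assoc]
      exact Submodule.smul_mem _ _ (h2 j (by have := Finset.mem_range.1 hj; omega))
  apply stable_of_gens
  rintro a ⟨i, n, hi, rfl | rfl⟩
  · by_cases hi' : i + 1 ≤ 2 * g
    · have : x * (x ^ i * y ^ n) = x ^ (i + 1) * y ^ n := by ring
      rw [this]
      exact pow_y_mem x y z g _ _ hi'
    · have hi2 : i = 2 * g := by omega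
      have : x * (x ^ i * y ^ n) = x ^ (2 * g + 1) * y ^ n := by rw [hi2]; ring
      rw [this]
      apply key
      · have : y * (y * y ^ n) = x ^ 0 * y ^ (n + 2) := by ring
        rw [this]
        exact pow_y_mem x y z g _ 0 (by omega)
      · intro j hj
        exact pow_y_mem x y z g _ j hj
  · by_cases hi' : i + 1 ≤ 2 * g
    · have : x * (x ^ i * z ^ n) = x ^ (i + 1) * z ^ n := by ring
      rw [this]
      exact pow_z_mem x y z g _ _ hi'
    · have hi2 : i = 2 * g := by omega
      have : x * (x ^ i * z ^ n) = x ^ (2 * g + 1) * z ^ n := by rw [hi2]; ring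
      rw [this]
      apply key
      · apply stable_y x y z g hyz
        apply stable_y x y z g hyz
        have : z ^ n = x ^ 0 * z ^ n := by ring
        rw [this]
        exact pow_z_mem x y z g _ 0 (by omega)
      · intro j hj
        exact pow_z_mem x y z g _ j hj

theorem main (R : Type u) [CommRing R] (g : ℕ)
    (P : Polynomial R) (hP : P.Monic) (hdeg : P.natDegree = 2 * g + 1) :
    Submodule.span R {a : MvPolynomial (Fin 3) R ⧸
        Ideal.span ({MvPolynomial.X 1 ^ 2 - Polynomial.aeval (MvPolynomial.X 0 : MvPolynomial (Fin 3) R) P, MvPolynomial.X 1 * MvPolynomial.X 2 - 1} :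
          Set (MvPolynomial (Fin 3) R)) |
        ∃ i n : ℕ, i ≤ 2 * g ∧
          (a = Ideal.Quotient.mk _ (MvPolynomial.X 0 ^ i * MvPolynomial.X 1 ^ n) ∨ a = Ideal.Quotient.mk _ (MvPolynomial.X 0 ^ i * MvPolynomial.X 2 ^ n))} =
      ⊤ := by
  obtain ⟨I, hI⟩ : ∃ I : Ideal (MvPolynomial (Fin 3) R), I = Ideal.span
      ({MvPolynomial.X 1 ^ 2 - Polynomial.aeval (MvPolynomial.X 0 : MvPolynomial (Fin 3) R) P,
        MvPolynomial.X 1 * MvPolynomial.X 2 - 1} : Set (MvPolynomial (Fin 3) R)) := ⟨_, rfl⟩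
  rw [← hI]
  obtain ⟨x, hx⟩ : ∃ x : MvPolynomial (Fin 3) R ⧸ I, x = Ideal.Quotient.mk I (MvPolynomial.X 0) :=
    ⟨_, rfl⟩
  obtain ⟨y, hy⟩ : ∃ y : MvPolynomial (Fin 3) R ⧸ I, y = Ideal.Quotient.mk I (MvPolynomial.X 1) :=
    ⟨_, rfl⟩
  obtain ⟨z, hz⟩ : ∃ z : MvPolynomial (Fin 3) R ⧸ I, z = Ideal.Quotient.mk I (MvPolynomial.X 2) :=
    ⟨_, rfl⟩
  have hset : {a : MvPolynomial (Fin 3) R ⧸ I | ∃ i n : ℕ, i ≤ 2 * g ∧
      (a = Ideal.Quotient.mk _ (MvPolynomial.X 0 ^ i * MvPolynomial.X 1 ^ n) ∨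
        a = Ideal.Quotient.mk _ (MvPolynomial.X 0 ^ i * MvPolynomial.X 2 ^ n))} = gens x y z g := by
    ext a
    simp only [gens, Set.mem_ofPred_eq, map_mul, map_pow, hx, hy, hz]
  rw [hset]
  have hyz : y * z = 1 := by
    rw [hy, hz, ← map_mul, ← sub_eq_zero, ← map_one (Ideal.Quotient.mk I), ← map_sub,
      Ideal.Quotient.eq_zero_iff_mem, hI]
    exact Ideal.subset_span (by simp)
  have hy2 : y ^ 2 = Polynomial.aeval x P := by
    have h1 : Polynomial.aeval x P = Ideal.Quotient.mk I
        (Polynomial.aeval (MvPolynomial.X 0 : MvPolynomial (Fin 3) R) P) := by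
      rw [hx]
      have := Polynomial.aeval_algHom_apply (Ideal.Quotient.mkₐ R I)
        (MvPolynomial.X 0 : MvPolynomial (Fin 3) R) P
      exact this
    rw [h1, hy, ← map_pow, ← sub_eq_zero, ← map_sub, Ideal.Quotient.eq_zero_iff_mem, hI]
    exact Ideal.subset_span (by simp)
  have hsx := stable_x (R := R) x y z g hyz P hP hdeg hy2
  have hsy := stable_y (R := R) x y z g hyz
  have hsz := stable_z (R := R) x y z g hyz
  have hall : ∀ f : MvPolynomial (Fin 3) R, ∀ w ∈ Submodule.span R (gens x y z g),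
      Ideal.Quotient.mk I f * w ∈ Submodule.span R (gens x y z g) := by
    intro f
    induction f using MvPolynomial.induction_on with
    | C a =>
      intro w hw
      have : Ideal.Quotient.mk I (MvPolynomial.C a) * w = a • w := by
        rw [Algebra.smul_def a w]
        rfl
      rw [this]
      exact Submodule.smul_mem _ _ hw
    | add p q hp hq =>
      intro w hw
      rw [map_add, add_mul]
      exact Submodule.add_mem _ (hp w hw) (hq w hw)
    | mul_X p n hp =>
      intro w hw
      rw [map_mul, mul_assoc]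
      apply hp
      fin_cases n
      · change Ideal.Quotient.mk I (MvPolynomial.X 0) * w ∈ _
        rw [← hx]
        exact hsx w hw
      · change Ideal.Quotient.mk I (MvPolynomial.X 1) * w ∈ _
        rw [← hy]
        exact hsy w hw
      · change Ideal.Quotient.mk I (MvPolynomial.X 2) * w ∈ _
        rw [← hz]
        exact hsz w hw
  rw [eq_top_iff]
  intro a _
  obtain ⟨f, rfl⟩ := Ideal.Quotient.mk_surjective a
  have h1 : (1 : MvPolynomial (Fin 3) R ⧸ I) ∈ Submodule.span R (gens x y z g) := by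
    have : (1 : MvPolynomial (Fin 3) R ⧸ I) = x ^ 0 * y ^ 0 := by ring
    rw [this]
    exact pow_y_mem x y z g 0 0 (by omega)
  have := hall f 1 h1
  rwa [mul_one] at this

end Groth.Agent.Lib.Helper4.HypSpan

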