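import Mathlib.Tactic
import Groth.Agent.Lib.Helper4.HyperExApp
import Groth.Agent.Lib.Helper4.PairLift
import Groth.Agent.Lib.Helper4.PairSite
import Groth.Agent.Lib.Helper4.SiteAcyc
import Groth.Agent.Lib.Helper4.HyperSite
import Groth.Prelude.Def_Hyper

namespace Groth.Agent.Lib.Helper4.HyperExSite

open CategoryTheory CategoryTheory.Limits Opposite Simplicial
open Groth.Agent.Lib.Helper4.HyperBasis (Face)
open Groth.Agent.Lib.Helper4.HyperEx Groth.Agent.Lib.Helper4.SRCov
open Groth.Agent.Lib.Helper4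

universe u

/-! ### pair lifting with pointwise Kan extensions -/

section Pair

variable {D : Type u} [SmallCategory D]
  [∀ (F : (SimplexCategory.Truncated 0)ᵒᵖ ⥤ FormalCoproduct.{u} D),
    (SimplexCategory.Truncated.inclusion 0).op.HasPointwiseRightKanExtension F]
  (K : SimplicialObject (FormalCoproduct.{u} D)) {T : FormalCoproduct.{u} D}
  (s t : T ⟶ K.obj (op ⦋0⦌))

/-- the pair map -/
noncomputable def pairMap : T ⟶ ((SimplicialObject.cosk 0).obj K).obj (op ⦋1⦌) :=
  CoskPw.lift 0 K (PairLift.pairCone K s t)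

lemma pairMap_faceπ (i : Fin 2) :
    pairMap K s t ≫ PairSite.faceπ K i = PairLift.pick K s t ((SimplexCategory.δ i).toOrderHom 0) := by
  have h := CoskPw.lift_π 0 K (PairLift.pairCone K s t) (PairLift.faceIdx i)
  have h2 : (PairLift.pairCone K s t).π.app (PairLift.faceIdx i) =
      PairLift.pick K s t ((SimplexCategory.δ i).toOrderHom 0) ≫
        K.map (SimplexCategory.const ⦋0⦌ ⦋0⦌ 0).op := rfl
  have h3 : SimplexCategory.const ⦋0⦌ ⦋0⦌ 0 = 𝟙 _ := PairLift.const_unique _ _
  rw [h3, op_id, K.map_id, Category.comp_id] at h2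
  exact h.trans h2

lemma pairMap_faceπ_one : pairMap K s t ≫ PairSite.faceπ K 1 = s := by
  rw [pairMap_faceπ]
  rfl

lemma pairMap_faceπ_zero : pairMap K s t ≫ PairSite.faceπ K 0 = t := by
  rw [pairMap_faceπ]
  rfl

theorem pair_lift (JD : GrothendieckTopology D)
    (hK : Hyper.IsSRCovering JD ((CoskPw.η 0 K).app (op ⦋1⦌)))
    {U : D} (s t : (FormalCoproduct.incl D).obj U ⟶ K.obj (op ⦋0⦌)) :
    PairLift.liftSieve K s t ∈ JD U := by
  let a := pairMap K s t
  have hR := hK (a.f PUnit.unit)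
  refine JD.superset_covering ?_ (JD.pullback_stable (a.φ PUnit.unit) hR)
  intro V g hg
  obtain ⟨k, hk, c, hc⟩ := srSieve_exists _ _ _ hg
  let b : (FormalCoproduct.incl D).obj V ⟶ K.obj (op ⦋1⦌) := FormalCoproduct.Hom.fromIncl k c
  have hb : b ≫ (CoskPw.η 0 K).app (op ⦋1⦌) = (FormalCoproduct.incl D).map g ≫ a := by
    refine FormalCoproduct.hom_ext ?_ ?_
    · funext x
      exact hk
    · intro x
      cases x
      exact (Category.assoc _ _ _).trans hc.symm
  refine ⟨b, ?_, ?_⟩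
  · rw [← PairSite.η_faceπ, ← Category.assoc, hb, Category.assoc, pairMap_faceπ_one]
  · rw [← PairSite.η_faceπ, ← Category.assoc, hb, Category.assoc, pairMap_faceπ_zero]

end Pair

/-! ### hypercoverings of the final object -/

section Site

variable {C : Type u} [SmallCategory C] [HasPullbacks C] [HasBinaryProducts C]
  (J : GrothendieckTopology C) (B : Set C)
  [∀ (n : ℕ) (F : (SimplexCategory.Truncated n)ᵒᵖ ⥤ Limits.FormalCoproduct.{u} C),
      (SimplexCategory.Truncated.inclusion n).op.HasRightKanExtension F]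

theorem main0939
    (hB : ∀ U : C, ∃ (ι : Type u) (Y : ι → C) (f : ∀ i, Y i ⟶ U), Sieve.ofArrows Y f ∈ J U ∧ ∀ i, Y i ∈ B) :
    ∃ K : SimplicialObject (FormalCoproduct.{u} C), Hyper.IsHypercoveringSite J K ∧
      ∀ (n : ℕ) (i : (K.obj (op (SimplexCategory.mk n))).I), (K.obj (op (SimplexCategory.mk n))).obj i ∈ B := by
  haveI : ∀ (n : ℕ) (F : (SimplexCategory.Truncated n)ᵒᵖ ⥤ FormalCoproduct.{u} C),
      (SimplexCategory.Truncated.inclusion n).op.HasPointwiseRightKanExtension F :=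
    fun n F => SiteAcyc.hasPointwiseRKE n F
  have hcov : ∀ O : C, covSieve (fun Y => Y ∈ B) O ∈ J O := by
    intro O
    obtain ⟨ι, V, f, hc, hV⟩ := hB O
    refine J.superset_covering ?_ hc
    rw [Sieve.ofArrows, Sieve.generate_le_iff]
    rintro _ _ ⟨i⟩
    exact ⟨V i, 𝟙 _, f i, hV i, Category.id_comp _⟩
  refine ⟨K (fun Y => Y ∈ B), ⟨?_, ?_, ?_⟩, fun n i => i.mem _⟩
  · constructor
    intro U x
    obtain ⟨ι, V, f, hc, hV⟩ := hB U
    refine J.superset_covering ?_ hc
    rw [Sieve.ofArrows, Sieve.generate_le_iff]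
    rintro _ _ ⟨i⟩
    exact ⟨YonElt.mk (FormalCoproduct.Hom.fromIncl
      (Y := (K (fun Y => Y ∈ B)).obj (op ⦋0⦌))
      (HyperExApp.constSimp (fun Y => Y ∈ B) 0 (V i) (hV i)) (𝟙 _)), HyperSite.terminal_elt_eq _ _⟩
  · apply HyperSite.locallySurjective_prodLift
    intro U s t
    exact pair_lift _ J (isSRCovering_unit _ J 0 hcov) s t
  · intro n _
    exact HyperSite.locallySurjective_of_srCovering J _ (isSRCovering_unit _ J n hcov)

end Site

end Groth.Agent.Lib.Helper4.HyperExSite
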