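import Mathlib.Tactic
import Groth.Agent.Lib.Helper4.CechInj
import Groth.Agent.Lib.Helper4.SiteAcyc
import Groth.Agent.Lib.Helper4.CosimpLim

namespace Groth.Agent.Lib.Helper4.HyperH0Nat

open CategoryTheory CategoryTheory.Limits Opposite Simplicial
open Groth.Agent.Lib.Helper4.FreeLocBij Groth.Agent.Lib.Helper4.HyperAcyc
open Groth.Agent.Lib.Helper4.CechDict Groth.Agent.Lib.Helper4.CechInj
open Groth.Agent.Lib.Helper4.CosimpDelta2 Groth.Agent.Lib.Helper4.CosimpLim

universe v' u' u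

section Aug

variable {𝒜 : Type u'} [Category.{v'} 𝒜] [Abelian 𝒜] (Z : ChainComplex 𝒜 ℕ) {W : 𝒜}
  (e : Z.homology 0 ≅ W)

lemma isIso_homologyι0 : IsIso (Z.homologyι 0) :=
  HomologicalComplex.isIso_homologyι _ 0 0 (by simp) (by simp)

/-- the augmentation -/
noncomputable def aug : Z.X 0 ⟶ W :=
  haveI := isIso_homologyι0 Z
  Z.pOpcycles 0 ≫ inv (Z.homologyι 0) ≫ e.hom

lemma d_aug : Z.d 1 0 ≫ aug Z e = 0 := by
  unfold aug
  rw [HomologicalComplex.d_pOpcycles_assoc, zero_comp]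

instance : Epi (aug Z e) := by
  haveI := isIso_homologyι0 Z
  unfold aug
  infer_instance

lemma exists_desc {F : 𝒜} (b : Z.X 0 ⟶ F) (h : Z.d 1 0 ≫ b = 0) : ∃ a : W ⟶ F, aug Z e ≫ a = b := by
  haveI := isIso_homologyι0 Z
  refine ⟨e.inv ≫ Z.homologyι 0 ≫ Z.descOpcycles b 1 (by simp) h, ?_⟩
  unfold aug
  simp

end Aug

section Main

variable {D : Type u} [SmallCategory D] (JD : GrothendieckTopology D)
  (K : SimplicialObject (FormalCoproduct.{u} D))

/-- the constant sheaf `ℤ` -/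
noncomputable abbrev Zconst : Sheaf JD AddCommGrpCat.{u} :=
  (constantSheaf JD AddCommGrpCat.{u}).obj (AddCommGrpCat.of (ULift.{u} ℤ))

variable (e : (Z JD K).homology 0 ≅ Zconst JD)

/-- the augmentation `ℤ[K_0] ⟶ ℤ` -/
noncomputable def ε : S JD (K.obj (op ⦋0⦌)) ⟶ Zconst JD := aug (Z JD K) e

instance : Epi (ε JD K e) := by
  unfold ε
  infer_instance

lemma ZD_ε : ZD JD K 0 ≫ ε JD K e = 0 := by
  have h := d_aug (Z JD K) e
  rw [Z_d'] at h
  exact h

lemma exists_desc_ε {F : Sheaf JD AddCommGrpCat.{u}} (b : S JD (K.obj (op ⦋0⦌)) ⟶ F)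
    (h : ZD JD K 0 ≫ b = 0) : ∃ a : Zconst JD ⟶ F, ε JD K e ≫ a = b :=
  exists_desc (Z JD K) e b (by rw [Z_d']; exact h)

variable (F : Sheaf JD AddCommGrpCat.{u})

variable {JD} in
/-- the cosimplicial abelian group of sections over `K` -/
noncomputable abbrev X : SimplexCategory ⥤ AddCommGrpCat.{u} :=
  (FormalCoproduct.cosimplicialObjectFunctor K).obj F.obj

lemma d01_X : d01 (X K F) = dC JD F K 0 :=
  (alt_d01 (X K F)).symm.trans (Kc_d JD F K 0)

lemma toC_add (m : ℕ) (v w : Fam JD F K m) :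
    toC JD F K m (v + w) = toC JD F K m v + toC JD F K m w := by
  apply Groth.Agent.Lib.Helper4.CechH0.elt_ext
  intro i
  refine (π_toC JD F K m (v + w) i).trans ?_
  refine Eq.trans ?_ (map_add (ConcreteCategory.hom
    (Pi.π (fun i => F.obj.obj (op ((K.obj (op ⦋m⦌)).obj i))) i)) _ _).symm
  rw [π_toC, π_toC]
  rfl

lemma toC_zero (m : ℕ) : toC JD F K m 0 = 0 := by
  apply Groth.Agent.Lib.Helper4.CechH0.elt_ext
  intro i
  refine (π_toC JD F K m 0 i).trans ?_
  refine Eq.trans ?_ (map_zero (ConcreteCategory.hom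
    (Pi.π (fun i => F.obj.obj (op ((K.obj (op ⦋m⦌)).obj i))) i))).symm
  rfl

/-- the comparison map on `Hom(ℤ, F)` -/
noncomputable def kHom : (Zconst JD ⟶ F) →+ (CX JD F K 0 : AddCommGrpCat.{u}) where
  toFun a := toC JD F K 0 (ev (ε JD K e ≫ a))
  map_zero' := by
    rw [comp_zero]
    exact toC_zero JD K F 0
  map_add' a a' := by
    rw [Preadditive.comp_add]
    exact toC_add JD K F 0 _ _

lemma kHom_apply (a : Zconst JD ⟶ F) :
    kHom JD K e F a = toC JD F K 0 (ev (ε JD K e ≫ a)) := rfl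

/-- the comparison morphism -/
noncomputable def kMor : (preadditiveCoyoneda.obj (op (Zconst JD))).obj F ⟶ (X K F).obj ⦋0⦌ :=
  AddCommGrpCat.ofHom (kHom JD K e F)

lemma kMor_apply (a : Zconst JD ⟶ F) :
    (kMor JD K e F) a = toC JD F K 0 (ev (ε JD K e ≫ a)) := rfl

lemma kHom_dC (a : Zconst JD ⟶ F) : dC JD F K 0 (kHom JD K e F a) = 0 := by
  change dC JD F K 0 (toC JD F K 0 (ev (ε JD K e ≫ a))) = 0
  rw [dC_toC_ev, ← Category.assoc, ZD_ε, zero_comp]
  exact toC_zero JD K F 1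

lemma kMor_d01 : kMor JD K e F ≫ d01 (X K F) = 0 := by
  rw [d01_X]
  ext a
  exact kHom_dC JD K e F a

/-- the comparison morphism to `H^0` -/
noncomputable def θinv : (preadditiveCoyoneda.obj (op (Zconst JD))).obj F ⟶
    ((altF (A := AddCommGrpCat.{u})).obj (X K F)).homology 0 :=
  lift0 (X K F) (kMor JD K e F) (kMor_d01 JD K e F) ≫
    ((altF (A := AddCommGrpCat.{u})).obj (X K F)).homologyπ 0

lemma ι0_lift0_apply (a : Zconst JD ⟶ F) :
    ι0 (X K F) (lift0 (X K F) (kMor JD K e F) (kMor_d01 JD K e F) a) =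
      toC JD F K 0 (ev (ε JD K e ≫ a)) :=
  ConcreteCategory.congr_hom (lift0_ι0 (X K F) (kMor JD K e F) (kMor_d01 JD K e F)) a

lemma ι0_injective : Function.Injective (ι0 (X K F)) :=
  (AddCommGrpCat.mono_iff_injective _).1 inferInstance

lemma lift0_injective :
    Function.Injective (lift0 (X K F) (kMor JD K e F) (kMor_d01 JD K e F)) := by
  intro a a' h
  have h1 := congrArg (ι0 (X K F)) h
  have h1' : toC JD F K 0 (ev (ε JD K e ≫ a)) = toC JD F K 0 (ev (ε JD K e ≫ a')) :=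
    (ι0_lift0_apply JD K e F a).symm.trans (h1.trans (ι0_lift0_apply JD K e F a'))
  have h2 := (toC JD F K 0).injective h1'
  have h3 : ε JD K e ≫ a = ε JD K e ≫ a' := hom_ext_of_ev _ _ (fun i => congrFun h2 i)
  exact (cancel_epi _).1 h3

lemma exists_of_dC_zero (c : (CX JD F K 0 : AddCommGrpCat.{u})) (hc : dC JD F K 0 c = 0) :
    ∃ a : Zconst JD ⟶ F, toC JD F K 0 (ev (ε JD K e ≫ a)) = c := by
  obtain ⟨v, rfl⟩ := (toC JD F K 0).surjective c
  let b : S JD (K.obj (op ⦋0⦌)) ⟶ F := mkHom v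
  have hb : ev b = v := funext (ev_mkHom v)
  have hzero : ZD JD K 0 ≫ b = 0 := by
    apply hom_ext_of_ev
    intro i
    have h1 := dC_toC_ev JD F K 0 b
    rw [hb, hc] at h1
    have h2 := congrArg (Pi.π (fun i : (K.obj (op ⦋1⦌)).I =>
      F.obj.obj (op ((K.obj (op ⦋1⦌)).obj i))) i) h1
    rw [π_toC, map_zero] at h2
    exact h2.symm
  obtain ⟨a, ha⟩ := exists_desc_ε JD K e b hzero
  exact ⟨a, by rw [ha, hb]⟩

lemma lift0_surjective :
    Function.Surjective (lift0 (X K F) (kMor JD K e F) (kMor_d01 JD K e F)) := by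
  intro z
  have hz : d01 (X K F) (ι0 (X K F) z) = 0 :=
    ConcreteCategory.congr_hom (ι0_d01 (X K F)) z
  rw [d01_X JD K F] at hz
  obtain ⟨a, ha⟩ := exists_of_dC_zero JD K e F _ hz
  refine ⟨a, ?_⟩
  apply ι0_injective JD K F
  rw [ι0_lift0_apply]
  exact ha

lemma isIso_θinv : IsIso (θinv JD K e F) := by
  haveI := isIso_homologyπ0 (X K F)
  haveI : IsIso (lift0 (X K F) (kMor JD K e F) (kMor_d01 JD K e F)) :=
    (ConcreteCategory.isIso_iff_bijective _).2
      ⟨lift0_injective JD K e F, lift0_surjective JD K e F⟩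
  unfold θinv
  infer_instance

variable {F} in
lemma ev_comp {T : FormalCoproduct.{u} D} {F' : Sheaf JD AddCommGrpCat.{u}} (φ : S JD T ⟶ F)
    (f : F ⟶ F') (i : T.I) : ev (φ ≫ f) i = f.hom.app (op (T.obj i)) (ev φ i) := rfl

variable {F} in
lemma kMor_naturality {F' : Sheaf JD AddCommGrpCat.{u}} (f : F ⟶ F') :
    (preadditiveCoyoneda.obj (op (Zconst JD))).map f ≫ kMor JD K e F' =
      kMor JD K e F ≫ ((FormalCoproduct.cosimplicialObjectFunctor K).map f.hom).app ⦋0⦌ := by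
  ext a
  change toC JD F' K 0 (ev (ε JD K e ≫ a ≫ f)) =
    (Limits.Pi.map fun i : (K.obj (op ⦋0⦌)).I => f.hom.app (op ((K.obj (op ⦋0⦌)).obj i)))
      (toC JD F K 0 (ev (ε JD K e ≫ a)))
  apply Groth.Agent.Lib.Helper4.CechH0.elt_ext
  intro i
  rw [π_toC]
  have h := ConcreteCategory.congr_hom (Limits.Pi.map_π
    (fun i : (K.obj (op ⦋0⦌)).I => f.hom.app (op ((K.obj (op ⦋0⦌)).obj i))) i)
    (toC JD F K 0 (ev (ε JD K e ≫ a)))
  refine Eq.trans ?_ h.symm
  change _ = f.hom.app _ (Pi.π (fun i : (K.obj (op ⦋0⦌)).I =>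
    F.obj.obj (op ((K.obj (op ⦋0⦌)).obj i))) i (toC JD F K 0 (ev (ε JD K e ≫ a))))
  rw [π_toC]
  rfl

variable {F} in
/-- the induced map of cosimplicial groups -/
noncomputable abbrev Xmap {F' : Sheaf JD AddCommGrpCat.{u}} (f : F ⟶ F') : X K F ⟶ X K F' :=
  (FormalCoproduct.cosimplicialObjectFunctor K).map f.hom

variable {F} in
lemma lift0_naturality {F' : Sheaf JD AddCommGrpCat.{u}} (f : F ⟶ F') :
    lift0 (X K F) (kMor JD K e F) (kMor_d01 JD K e F) ≫
        HomologicalComplex.cyclesMap ((altF (A := AddCommGrpCat.{u})).map (Xmap JD K f)) 0 =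
      (preadditiveCoyoneda.obj (op (Zconst JD))).map f ≫
        lift0 (X K F') (kMor JD K e F') (kMor_d01 JD K e F') := by
  refine (cancel_mono (ι0 (X K F'))).1 ?_
  rw [Category.assoc, Category.assoc, lift0_ι0]
  have h2 := cyclesMap_ι0 (F := X K F) (G := X K F') (Xmap JD K f)
  rw [h2, ← Category.assoc, lift0_ι0]
  exact (kMor_naturality JD K e f).symm

variable {F} in
lemma θinv_naturality {F' : Sheaf JD AddCommGrpCat.{u}} (f : F ⟶ F') :
    (preadditiveCoyoneda.obj (op (Zconst JD))).map f ≫ θinv JD K e F' =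
      θinv JD K e F ≫ HomologicalComplex.homologyMap
        ((altF (A := AddCommGrpCat.{u})).map (Xmap JD K f)) 0 := by
  unfold θinv
  rw [Category.assoc, HomologicalComplex.homologyπ_naturality, ← Category.assoc, ← Category.assoc,
    lift0_naturality]

/-- the sections functor on sheaves -/
noncomputable abbrev Tsh : Sheaf JD AddCommGrpCat.{u} ⥤ (SimplexCategory ⥤ AddCommGrpCat.{u}) :=
  sheafToPresheaf JD AddCommGrpCat.{u} ⋙ FormalCoproduct.cosimplicialObjectFunctor K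

/-- `H^0` of the alternating coface complex -/
noncomputable abbrev S0 : (SimplexCategory ⥤ AddCommGrpCat.{u}) ⥤ AddCommGrpCat.{u} :=
  altF (A := AddCommGrpCat.{u}) ⋙
    HomologicalComplex.homologyFunctor AddCommGrpCat.{u} (ComplexShape.up ℕ) 0

/-- the componentwise isomorphism -/
noncomputable def θiso : (preadditiveCoyoneda.obj (op (Zconst JD))).obj F ≅
    ((altF (A := AddCommGrpCat.{u})).obj (X K F)).homology 0 :=
  haveI := isIso_θinv JD K e F
  asIso (θinv JD K e F)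

/-- `Hom(ℤ, -) ≅ H^0(K, -)` naturally -/
noncomputable def θ : preadditiveCoyoneda.obj (op (Zconst JD)) ≅ Tsh JD K ⋙ S0 :=
  NatIso.ofComponents (fun F => θiso JD K e F) (fun f => θinv_naturality JD K e f)

end Main

end Groth.Agent.Lib.Helper4.HyperH0Nat
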