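import Mathlib.Tactic
import Mathlib.CategoryTheory.Sites.Adjunction
import Mathlib.CategoryTheory.Sites.PreservesSheafification
import Groth.Agent.Lib.Helper4.HyperQI

namespace Groth.Agent.Lib.Helper4.HyperQI2

open CategoryTheory CategoryTheory.Limits Opposite Simplicial
open Groth.Agent.Lib.Helper4.SPshImage Groth.Agent.Lib.Helper4.FreeLocBij

universe u

theorem main3092 {C : Type u} [SmallCategory C] (J : GrothendieckTopology C)
    [∀ (n : ℕ) (F : (SimplexCategory.Truncated n)ᵒᵖ ⥤ Sheaf J (Type u)),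
      (SimplexCategory.Truncated.inclusion n).op.HasRightKanExtension F]
    {K L : SimplicialObject (Sheaf J (Type u))} (v : K ⟶ L) (n : ℕ)
    (h1 : ∀ p : ℕ, p < n → IsIso (v.app (op (SimplexCategory.mk p))))
    (h2 : Epi (v.app (op (SimplexCategory.mk n))))
    (h3 : IsIso ((SimplicialObject.coskAdj n).unit.app K) ∧
      IsIso ((SimplicialObject.coskAdj n).unit.app L)) :
    (∀ p : ℕ, Epi (v.app (op (SimplexCategory.mk p)))) ∧
    QuasiIso ((AlgebraicTopology.alternatingFaceMapComplex _).map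
      (Functor.whiskerRight v (Sheaf.composeAndSheafify J AddCommGrpCat.free.{u}))) := by
  let S := sheafToPresheaf J (Type u)
  let f : K ⋙ S ⟶ L ⋙ S := Functor.whiskerRight v S
  haveI : ∀ (F : (SimplexCategory.Truncated n)ᵒᵖ ⥤ (Cᵒᵖ ⥤ Type u)),
      (SimplexCategory.Truncated.inclusion n).op.HasRightKanExtension F := fun F => by
    have := Groth.Agent.S6800.result n F
    infer_instance
  have hK : SimplicialObject.IsCoskeletal (K ⋙ S) n :=
    Groth.Agent.Lib.Helper4.CoskComp.isIso_unit_comp S n K h3.1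
  have hL : SimplicialObject.IsCoskeletal (L ⋙ S) n :=
    Groth.Agent.Lib.Helper4.CoskComp.isIso_unit_comp S n L h3.2
  have h3' : IsIso ((SimplicialObject.coskAdj n).unit.app (K ⋙ S)) :=
    (SimplicialObject.isCoskeletal_iff_isIso _ n).1 hK
  have h4' : IsIso ((SimplicialObject.coskAdj n).unit.app (L ⋙ S)) :=
    (SimplicialObject.isCoskeletal_iff_isIso _ n).1 hL
  have h1' : ∀ i : ℕ, i < n → IsIso (f.app (op (SimplexCategory.mk i))) := fun i hi => by
    haveI := h1 i hi
    show IsIso (S.map (v.app _))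
    infer_instance
  have h2' : Presheaf.IsLocallySurjective J (f.app (op (SimplexCategory.mk n))) :=
    (Sheaf.isLocallySurjective_iff_epi (v.app _)).2 h2
  constructor
  · intro p
    rw [← Sheaf.isLocallySurjective_iff_epi]
    show Presheaf.IsLocallySurjective J (f.app (op ⦋p⦌))
    have hι := ι_locallySurjective f n J h2' (op ⦋p⦌)
    constructor
    intro U x
    refine J.superset_covering ?_ (hι.imageSieve_mem x)
    rintro V g ⟨t, ht⟩
    obtain ⟨s, hs, _⟩ := Groth.Agent.Lib.Helper4.HyperQI.sect f n h1' h3' h4' (op V)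
    refine ⟨(s.app (op ⦋p⦌)) t, ?_⟩
    have h5 : ((q f n).app (op ⦋p⦌)).app (op V) ((s.app (op ⦋p⦌)) t) = t :=
      ConcreteCategory.congr_hom (NatTrans.congr_app hs (op ⦋p⦌)) t
    refine Eq.trans ?_ ht
    exact congrArg (((ι f n).app (op ⦋p⦌)).app (op V)) h5
  · rw [quasiIso_iff]
    intro i
    rw [quasiIsoAt_iff_isIso_homologyMap]
    exact Groth.Agent.Lib.Helper4.HyperQI.main6529 f n h1' h3' h4' J h2' i

end Groth.Agent.Lib.Helper4.HyperQI2
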