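import Mathlib.Tactic
import Groth.Agent.Lib.Helper4.PairSite
import Groth.Agent.Lib.Helper4.HyperH0
import Groth.Agent.Lib.Helper4.CechH0
import Groth.Prelude.Def_Hyper

namespace Groth.Agent.Lib.Helper4.SiteH0

open CategoryTheory CategoryTheory.Limits Opposite Simplicial Groth.Agent.Lib.Helper4

universe u

variable {C : Type u} [SmallCategory C] {J : GrothendieckTopology C}
  (K : SimplicialObject (FormalCoproduct.{u} C)) (F : Sheaf J AddCommGrpCat.{u})

/-- families on `K_0` -/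
abbrev Fam0 : Type u := ∀ i : (K.obj (op ⦋0⦌)).I, F.obj.obj (op ((K.obj (op ⦋0⦌)).obj i))

variable {K F}

/-- value of a family at a map to `K_0` -/
def val (y : Fam0 K F) {W : C} (s : (FormalCoproduct.incl C).obj W ⟶ K.obj (op ⦋0⦌)) :
    F.obj.obj (op W) :=
  F.obj.map (s.φ PUnit.unit).op (y (s.f PUnit.unit))

lemma val_comp (y : Fam0 K F) {W W' : C} (h : W' ⟶ W)
    (s : (FormalCoproduct.incl C).obj W ⟶ K.obj (op ⦋0⦌)) :
    val y ((FormalCoproduct.incl C).map h ≫ s) = F.obj.map h.op (val y s) := by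
  unfold val
  exact (HyperH0.map_map_apply J F h (s.φ PUnit.unit) (y (s.f PUnit.unit))).symm

/-- the cocycle condition -/
def IsCocycle (y : Fam0 K F) : Prop :=
  ∀ k : (K.obj (op ⦋1⦌)).I,
    F.obj.map ((K.δ 0).φ k).op (y ((K.δ 0).f k)) = F.obj.map ((K.δ 1).φ k).op (y ((K.δ 1).f k))

lemma val_face (y : Fam0 K F) (hy : IsCocycle y) {W : C}
    (b : (FormalCoproduct.incl C).obj W ⟶ K.obj (op ⦋1⦌)) :
    val y (b ≫ K.δ 0) = val y (b ≫ K.δ 1) := by
  unfold val
  change F.obj.map (b.φ PUnit.unit ≫ (K.δ 0).φ (b.f PUnit.unit)).op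
      (y ((K.δ 0).f (b.f PUnit.unit))) =
    F.obj.map (b.φ PUnit.unit ≫ (K.δ 1).φ (b.f PUnit.unit)).op
      (y ((K.δ 1).f (b.f PUnit.unit)))
  refine (HyperH0.map_map_apply J F (b.φ PUnit.unit) ((K.δ 0).φ (b.f PUnit.unit)) _).symm.trans ?_
  refine Eq.trans ?_ (HyperH0.map_map_apply J F (b.φ PUnit.unit) ((K.δ 1).φ (b.f PUnit.unit)) _)
  exact congrArg (F.obj.map (b.φ PUnit.unit).op) (hy (b.f PUnit.unit))

lemma val_wd
    (h1 : Presheaf.IsLocallySurjective J
      (prod.lift (FormalCoproduct.yoneda.map (K.δ (1 : Fin 2)))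
        (FormalCoproduct.yoneda.map (K.δ (0 : Fin 2)))))
    (y : Fam0 K F) (hy : IsCocycle y) {W : C}
    (s t : (FormalCoproduct.incl C).obj W ⟶ K.obj (op ⦋0⦌)) : val y s = val y t := by
  have hcov := PairSite.liftSieve_mem J K h1 s t
  refine (HyperH0.isSheaf_forget J F _ hcov).isSeparatedFor.ext ?_
  rintro V g ⟨b, e1, e0⟩
  change F.obj.map g.op (val y s) = F.obj.map g.op (val y t)
  rw [← val_comp, ← val_comp, ← e1, ← e0, val_face y hy]

variable (K)

/-- the sieve of arrows whose source maps to `K_0` -/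
def S0 (U : C) : Sieve U where
  arrows V _ := Nonempty ((FormalCoproduct.incl C).obj V ⟶ K.obj (op ⦋0⦌))
  downward_closed := by
    rintro V W g ⟨b⟩ f
    exact ⟨(FormalCoproduct.incl C).map f ≫ b⟩

lemma S0_mem
    (h0 : Presheaf.IsLocallySurjective J
      (terminal.from (FormalCoproduct.yoneda.obj (K.obj (op ⦋0⦌))))) (U : C) : S0 K U ∈ J U := by
  let z : (⊤_ (Cᵒᵖ ⥤ Type u)).obj (op U) := yonedaEquiv (terminal.from (yoneda.obj U))
  refine J.superset_covering ?_ (h0.imageSieve_mem z)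
  rintro V g ⟨t, _⟩
  obtain ⟨b, _⟩ := YonElt.exists_mk t
  exact ⟨b⟩

variable {K}

/-- the local family -/
noncomputable def fam (y : Fam0 K F) (U : C) :
    Presieve.FamilyOfElements (F.obj ⋙ forget AddCommGrpCat.{u}) (S0 K U).arrows :=
  fun _ _ hg => val y hg.some

lemma fam_compatible
    (h1 : Presheaf.IsLocallySurjective J
      (prod.lift (FormalCoproduct.yoneda.map (K.δ (1 : Fin 2)))
        (FormalCoproduct.yoneda.map (K.δ (0 : Fin 2)))))
    (y : Fam0 K F) (hy : IsCocycle y) (U : C) : (fam y U).Compatible := by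
  rw [Presieve.compatible_iff_sieveCompatible]
  intro V W g h hg
  change val y _ = F.obj.map h.op (val y _)
  rw [← val_comp]
  exact val_wd h1 y hy _ _

section Glue

variable
    (h0 : Presheaf.IsLocallySurjective J
      (terminal.from (FormalCoproduct.yoneda.obj (K.obj (op ⦋0⦌)))))
    (h1 : Presheaf.IsLocallySurjective J
      (prod.lift (FormalCoproduct.yoneda.map (K.δ (1 : Fin 2)))
        (FormalCoproduct.yoneda.map (K.δ (0 : Fin 2)))))
    (y : Fam0 K F) (hy : IsCocycle y)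

/-- the glued section -/
noncomputable def glue (U : C) : F.obj.obj (op U) :=
  (HyperH0.isSheaf_forget J F _ (S0_mem K h0 U)).amalgamate (fam y U) (fam_compatible h1 y hy U)

lemma glue_spec {U V : C} (g : V ⟶ U) (b : (FormalCoproduct.incl C).obj V ⟶ K.obj (op ⦋0⦌)) :
    F.obj.map g.op (glue h0 h1 y hy U) = val y b := by
  have h := (HyperH0.isSheaf_forget J F _ (S0_mem K h0 U)).valid_glue
    (fam_compatible h1 y hy U) g ⟨b⟩
  exact h.trans (val_wd h1 y hy _ _)

lemma glue_map {U U' : C} (f : U' ⟶ U) :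
    F.obj.map f.op (glue h0 h1 y hy U) = glue h0 h1 y hy U' := by
  refine (HyperH0.isSheaf_forget J F _ (S0_mem K h0 U')).isSeparatedFor.ext ?_
  rintro V g ⟨b⟩
  change F.obj.map g.op (F.obj.map f.op (glue h0 h1 y hy U)) = F.obj.map g.op (glue h0 h1 y hy U')
  rw [glue_spec h0 h1 y hy g b, HyperH0.map_map_apply, glue_spec h0 h1 y hy (g ≫ f) b]

lemma glue_K0 (i : (K.obj (op ⦋0⦌)).I) :
    glue h0 h1 y hy ((K.obj (op ⦋0⦌)).obj i) = y i := by
  have h := glue_spec h0 h1 y hy (𝟙 ((K.obj (op ⦋0⦌)).obj i))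
    (FormalCoproduct.Hom.fromIncl i (𝟙 _))
  rw [op_id, F.obj.map_id] at h
  refine h.trans ?_
  unfold val
  change F.obj.map (𝟙 _).op (y i) = y i
  rw [op_id, F.obj.map_id]
  rfl

end Glue

section Main

variable (K F)

/-- degree 0 term -/
noncomputable abbrev X0 : AddCommGrpCat.{u} :=
  ∏ᶜ fun i : (K.obj (op ⦋0⦌)).I => F.obj.obj (op ((K.obj (op ⦋0⦌)).obj i))

/-- degree 1 term -/
noncomputable abbrev X1 : AddCommGrpCat.{u} :=
  ∏ᶜ fun k : (K.obj (op ⦋1⦌)).I => F.obj.obj (op ((K.obj (op ⦋1⦌)).obj k))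

/-- cofaces -/
noncomputable def cof' (i : Fin 2) : X0 K F ⟶ X1 K F :=
  Pi.lift fun k : (K.obj (op ⦋1⦌)).I => Pi.π _ ((K.δ i).f k) ≫ F.obj.map ((K.δ i).φ k).op

lemma d01' : (CechH0.Kc K F.obj).d 0 1 = cof' K F 0 - cof' K F 1 :=
  CechH0.d01 K F.obj

/-- comparison map -/
noncomputable def φ : limit F.obj ⟶ X0 K F :=
  Pi.lift (fun i : (K.obj (op ⦋0⦌)).I => limit.π F.obj (op ((K.obj (op ⦋0⦌)).obj i)))

lemma π_φ (i : (K.obj (op ⦋0⦌)).I) (s : (limit F.obj : AddCommGrpCat.{u})) :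
    Pi.π (fun j : (K.obj (op ⦋0⦌)).I => F.obj.obj (op ((K.obj (op ⦋0⦌)).obj j))) i (φ K F s) =
      limit.π F.obj (op ((K.obj (op ⦋0⦌)).obj i)) s :=
  ConcreteCategory.congr_hom (Pi.lift_π _ i) s

lemma φ_cof (i : Fin 2) :
    φ K F ≫ cof' K F i =
      Pi.lift (fun k : (K.obj (op ⦋1⦌)).I => limit.π F.obj (op ((K.obj (op ⦋1⦌)).obj k))) := by
  apply Pi.hom_ext
  intro k
  rw [Category.assoc, Pi.lift_π, cof', Pi.lift_π, φ, Pi.lift_π_assoc]
  exact limit.w F.obj ((K.δ i).φ k).op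

lemma φ_d : φ K F ≫ (cof' K F 0 - cof' K F 1) = 0 := by
  rw [Preadditive.comp_sub, φ_cof, φ_cof, sub_self]

lemma limit_π_map {U V : C} (g : V ⟶ U) (s : (limit F.obj : AddCommGrpCat.{u})) :
    F.obj.map g.op (limit.π F.obj (op U) s) = limit.π F.obj (op V) s :=
  ConcreteCategory.congr_hom (limit.w F.obj g.op) s

variable {K F}

lemma φ_injective
    (h0 : Presheaf.IsLocallySurjective J
      (terminal.from (FormalCoproduct.yoneda.obj (K.obj (op ⦋0⦌))))) :
    Function.Injective (φ K F) := by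
  intro s s' h
  apply Concrete.limit_ext
  rintro ⟨U⟩
  refine (HyperH0.isSheaf_forget J F _ (S0_mem K h0 U)).isSeparatedFor.ext ?_
  rintro V g ⟨b⟩
  change F.obj.map g.op (limit.π F.obj (op U) s) = F.obj.map g.op (limit.π F.obj (op U) s')
  have e1 : F.obj.map (b.φ PUnit.unit).op
      (limit.π F.obj (op ((K.obj (op ⦋0⦌)).obj (b.f PUnit.unit))) s) = limit.π F.obj (op V) s :=
    limit_π_map F (b.φ PUnit.unit) s
  have e1' : F.obj.map (b.φ PUnit.unit).op
      (limit.π F.obj (op ((K.obj (op ⦋0⦌)).obj (b.f PUnit.unit))) s') = limit.π F.obj (op V) s' :=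
    limit_π_map F (b.φ PUnit.unit) s'
  have e2 : limit.π F.obj (op ((K.obj (op ⦋0⦌)).obj (b.f PUnit.unit))) s =
      limit.π F.obj (op ((K.obj (op ⦋0⦌)).obj (b.f PUnit.unit))) s' := by
    rw [← π_φ, ← π_φ, h]
  refine (limit_π_map F g s).trans (e1.symm.trans ?_)
  refine Eq.trans ?_ (e1'.trans (limit_π_map F g s').symm)
  exact congrArg _ e2

lemma φ_surjective
    (h0 : Presheaf.IsLocallySurjective J
      (terminal.from (FormalCoproduct.yoneda.obj (K.obj (op ⦋0⦌)))))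
    (h1 : Presheaf.IsLocallySurjective J
      (prod.lift (FormalCoproduct.yoneda.map (K.δ (1 : Fin 2)))
        (FormalCoproduct.yoneda.map (K.δ (0 : Fin 2)))))
    (x : X0 K F) (hx : (cof' K F 0 - cof' K F 1) x = 0) :
    ∃ s, φ K F s = x := by
  let y : Fam0 K F := fun i =>
    Pi.π (fun j : (K.obj (op ⦋0⦌)).I => F.obj.obj (op ((K.obj (op ⦋0⦌)).obj j))) i x
  have hy : IsCocycle y := fun k =>
    CechH0.kernel_cond K F.obj x (by rw [CechH0.d01]; exact hx) k
  let sec : (F.obj ⋙ forget AddCommGrpCat.{u}).sections :=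
    ⟨fun U => glue h0 h1 y hy U.unop, fun f => glue_map h0 h1 y hy f.unop⟩
  let hl := isLimitOfPreserves (forget AddCommGrpCat.{u}) (limit.isLimit F.obj)
  let s := (Types.isLimitEquivSections hl).symm sec
  refine ⟨s, ?_⟩
  apply CechH0.elt_ext (fun j : (K.obj (op ⦋0⦌)).I => F.obj.obj (op ((K.obj (op ⦋0⦌)).obj j)))
  intro i
  rw [π_φ]
  have h2 := Types.isLimitEquivSections_symm_apply hl sec (op ((K.obj (op ⦋0⦌)).obj i))
  exact h2.trans (glue_K0 h0 h1 y hy i)

theorem main6525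
    [∀ (n : ℕ) (F : (SimplexCategory.Truncated n)ᵒᵖ ⥤ Limits.FormalCoproduct.{u} C),
      (SimplexCategory.Truncated.inclusion n).op.HasRightKanExtension F]
    (hK : Hyper.IsHypercoveringSite J K) (F : Sheaf J AddCommGrpCat.{u}) :
    Nonempty ((Hyper.cechCxSite K F.obj).homology 0 ≅ limit F.obj) := by
  refine CechH0.nonempty_homology_zero_iso (CechH0.Kc K F.obj) (limit F.obj) (φ K F) ?_
    (φ_injective hK.1) ?_
  · rw [d01']
    exact φ_d K F
  · intro x hx
    rw [d01'] at hx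
    exact φ_surjective hK.1 hK.2.1 x hx

end Main

end Groth.Agent.Lib.Helper4.SiteH0
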