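import Mathlib.Tactic
import Groth.Agent.Lib.Helper4.SiteAcyc
import Groth.Agent.Lib.Helper4.SiteH0
import Groth.Agent.Lib.Helper4.CechInj

namespace Groth.Agent.Lib.Helper4.SiteInj

open CategoryTheory CategoryTheory.Limits Opposite Simplicial Groth.Agent.Lib.Helper4

universe u

theorem main0940 {C : Type u} [SmallCategory C] [HasPullbacks C] [HasBinaryProducts C]
    (J : GrothendieckTopology C) (K : SimplicialObject (FormalCoproduct.{u} C))
    [∀ (n : ℕ) (F : (SimplexCategory.Truncated n)ᵒᵖ ⥤ Limits.FormalCoproduct.{u} C),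
      (SimplexCategory.Truncated.inclusion n).op.HasRightKanExtension F]
    (hK : Hyper.IsHypercoveringSite J K) (I : Sheaf J AddCommGrpCat.{u}) [Injective I] :
    (∀ p : ℕ, IsZero ((Hyper.cechCxSite K I.obj).homology (p + 1))) ∧
    Nonempty ((Hyper.cechCxSite K I.obj).homology 0 ≅ limit I.obj) := by
  refine ⟨fun p => ?_, SiteH0.main6525 hK I⟩
  exact CechInj.isZero_homology_succ J I K (SiteAcyc.main3091 J K hK).1 p

end Groth.Agent.Lib.Helper4.SiteInj
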