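import Mathlib.Tactic
import Groth.Agent.Lib.Helper4.HyperH0Nat
import Groth.Agent.Lib.Helper4.CosimpInj
import Groth.Agent.Lib.Helper4.RDPostExact
import Groth.Agent.Lib.Helper4.CosimpExact
import Groth.Agent.Lib.Helper4.SiteInj
import Groth.Agent.Lib.Helper6.CartanLeraySS
import Groth.Agent.Lib.Helper6.ExtRDNat

namespace Groth.Agent.Lib.Helper4.HyperSS

open CategoryTheory CategoryTheory.Limits Opposite Simplicial Abelian
open Groth.Agent.Lib.Helper4 Groth.Agent.Lib.Helper4.CosimpDelta2 Groth.Agent.Lib.Helper4.CosimpExact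
open Groth.Agent.Lib.Helper4.HyperH0Nat Groth.Agent.Lib.Helper6

universe u

variable {C : Type u} [SmallCategory C] (J : GrothendieckTopology C)
  (K : SimplicialObject (FormalCoproduct.{u} C))

/-- the exact part of the sections functor -/
noncomputable abbrev G : Sheaf (⊥ : GrothendieckTopology C) AddCommGrpCat.{u} ⥤
    (SimplexCategory ⥤ AddCommGrpCat.{u}) :=
  sheafToPresheaf (⊥ : GrothendieckTopology C) AddCommGrpCat.{u} ⋙ Tp K

instance : (G K).PreservesHomology := by
  haveI : PreservesFiniteColimits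
      (sheafToPresheaf (⊥ : GrothendieckTopology C) AddCommGrpCat.{u}) :=
    inferInstanceAs (PreservesFiniteColimits (sheafBotEquivalence AddCommGrpCat.{u}).functor)
  haveI : PreservesFiniteLimits (Tp K) := Functor.preservesFiniteLimits_of_preservesHomology _
  haveI : PreservesFiniteColimits (Tp K) := Functor.preservesFiniteColimits_of_preservesHomology _
  infer_instance

/-- the sections functor, factored through presheaves -/
noncomputable abbrev T : Sheaf J AddCommGrpCat.{u} ⥤ (SimplexCategory ⥤ AddCommGrpCat.{u}) :=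
  SieveExt.ι J ⋙ G K

theorem main6526 [HasPullbacks C] [HasBinaryProducts C]
    [∀ (n : ℕ) (F : (SimplexCategory.Truncated n)ᵒᵖ ⥤ Limits.FormalCoproduct.{u} C),
      (SimplexCategory.Truncated.inclusion n).op.HasRightKanExtension F]
    (hK : Hyper.IsHypercoveringSite J K) (F : Sheaf J AddCommGrpCat.{u}) :
    ∃ (E : E₂CohomologicalSpectralSequence AddCommGrpCat.{u})
      (a : SpSeq.Abutment E (fun n : ℤ => if 0 ≤ n then AddCommGrpCat.of (Sheaf.H F n.toNat)
        else AddCommGrpCat.of PUnit.{u + 1})),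
      (∀ n, a.IsFinite n) ∧ SpSeq.IsBounded E ∧
      ∀ p q : ℤ, Nonempty ((E.page 2 le_rfl).X (p, q) ≅
        (if 0 ≤ p ∧ 0 ≤ q then
          (Hyper.cechCxSite K (Sheaf.cohomologyPresheaf F q.toNat)).homology p.toNat
         else AddCommGrpCat.of PUnit.{u + 1})) := by
  obtain ⟨hZ, ⟨e⟩⟩ := SiteAcyc.main3091 J K hK
  haveI : PreservesFiniteLimits (S0.{u}) :=
    CosimpDelta.preservesFiniteLimits_H0 (altF (A := AddCommGrpCat.{u})) shortExact_altF
  refine GrothSS.exists_spectralSequence' (T J K) S0.{u} ?hT F _ ?hH ?hHz _ ?hE2 ?hE2z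
  case hT =>
    intro Q hQ q hq
    obtain ⟨q', rfl⟩ : ∃ q', q = q' + 1 := ⟨q - 1, by lia⟩
    obtain ⟨e1⟩ := CosimpLim.nonempty_rightDerived_iso (A := AddCommGrpCat.{u}) (q' + 1)
    refine IsZero.of_iso ?_ (e1.app ((T J K).obj Q))
    exact (SiteInj.main0940 J K hK Q).1 q'
  case hH =>
    intro n
    let θ := HyperH0Nat.θ J K e
    let e0 : T J K ⋙ S0.{u} ≅ preadditiveCoyoneda.obj (op (Zconst J)) :=
      (show T J K ⋙ S0.{u} ≅ Tsh J K ⋙ S0.{u} from Iso.refl _) ≪≫ θ.symm
    obtain ⟨e'⟩ := ExtRDNat.nonempty_rightDerived_coyoneda_iso (Zconst J) n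
    refine ⟨(GrothSS.rightDerivedIsoOfIso e0 n).app F ≪≫ e'.app F ≪≫ eqToIso ?_⟩
    simp
    rfl
  case hHz =>
    intro n hn
    rw [if_neg (by lia)]
    exact AddCommGrpCat.isZero_of_subsingleton _
  case hE2 =>
    intro p q
    obtain ⟨e1⟩ := PresheafSS.nonempty_rightDerived_ι_iso J F q
    obtain ⟨e2⟩ := RDPostExact.nonempty_rightDerived_comp_exact (SieveExt.ι J) (G K) F q
    obtain ⟨e3⟩ := CosimpLim.nonempty_rightDerived_iso (A := AddCommGrpCat.{u}) p
    refine ⟨(S0.{u}.rightDerived p).mapIso (e2 ≪≫ (G K).mapIso e1) ≪≫ e3.app _ ≪≫ eqToIso ?_⟩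
    simp
    rfl
  case hE2z =>
    intro p q h
    rw [if_neg h]
    exact AddCommGrpCat.isZero_of_subsingleton _

end Groth.Agent.Lib.Helper4.HyperSS
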