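import Mathlib.Tactic
import Mathlib.AlgebraicGeometry.Morphisms.SchemeTheoreticallyDominant
import Mathlib.AlgebraicGeometry.Morphisms.Immersion
import Groth.Agent.Lib.Helper4.FirstOrderNbhd

set_option autoImplicit false
universe u
open CategoryTheory AlgebraicGeometry Limits TopologicalSpace

namespace Groth.Agent.Lib.Helper4.SchDenseRed

theorem nilradical_le_ker {X : Scheme.{u}} (U : X.Opens) [IsReduced (↑U : Scheme.{u})] :
    X.nilradical ≤ U.ι.ker := by
  unfold Scheme.Hom.ker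
  rw [Scheme.IdealSheafData.le_ofIdeals_iff]
  intro W s hs
  rw [RingHom.mem_ker]
  have hs' : IsNilpotent s := by
    have : s ∈ ((⊥ : X.IdealSheafData).ideal W).radical := hs
    rw [Scheme.IdealSheafData.ideal_bot] at this
    exact this
  exact (hs'.map (U.ι.app W.1).hom).eq_zero

theorem isReduced_of_ker {X : Scheme.{u}} (U : X.Opens) [IsReduced (↑U : Scheme.{u})]
    (h : U.ι.ker = ⊥) : IsReduced X := by
  have hnil : X.nilradical = ⊥ := le_bot_iff.mp (h ▸ nilradical_le_ker U)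
  have haff : ∀ (W : X.affineOpens) (s : Γ(X, W.1)), IsNilpotent s → s = 0 := by
    intro W s hs
    have : s ∈ X.nilradical.ideal W := by
      change s ∈ ((⊥ : X.IdealSheafData).ideal W).radical
      rw [Scheme.IdealSheafData.ideal_bot]
      exact hs
    rw [hnil, Scheme.IdealSheafData.ideal_bot] at this
    exact this
  refine ⟨fun V => ⟨fun s hs => ?_⟩⟩
  apply FirstOrderNbhd.eq_zero_of_affine
  intro W hW
  exact haff W _ (hs.map (X.presheaf.map (homOfLE hW).op).hom)

theorem vanishingIdeal_closure_le_ker {X : Scheme.{u}} (U : X.Opens) [IsReduced (↑U : Scheme.{u})] :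
    Scheme.IdealSheafData.vanishingIdeal ⟨closure (U : Set X), isClosed_closure⟩ ≤ U.ι.ker := by
  set Z : Closeds X := ⟨closure (U : Set X), isClosed_closure⟩ with hZ
  unfold Scheme.Hom.ker
  rw [Scheme.IdealSheafData.le_ofIdeals_iff]
  intro W s hs
  rw [RingHom.mem_ker, ← AlgebraicGeometry.basicOpen_eq_bot_iff, ← Scheme.preimage_basicOpen]
  ext x
  simp only [Opens.coe_bot, Set.mem_empty_iff_false, iff_false]
  intro hx
  have hx1 : (U.ι x) ∈ X.basicOpen s := hx
  have hxW : U.ι x ∈ W.1 := X.basicOpen_le s hx1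
  have hxZ : U.ι x ∈ (Z : Set X) := subset_closure (show U.ι x ∈ (U : Set X) from x.2)
  have hsup : U.ι x ∈ ((Scheme.IdealSheafData.vanishingIdeal Z).support : Set X) := by
    rw [Scheme.IdealSheafData.coe_support_vanishingIdeal]
    exact hxZ
  have := ((Scheme.IdealSheafData.coe_support_inter _ W).le ⟨hsup, hxW⟩).1
  rw [Scheme.mem_zeroLocus_iff] at this
  exact this s hs hx1

theorem dense_of_ker {X : Scheme.{u}} (U : X.Opens) [IsReduced (↑U : Scheme.{u})]
    (h : U.ι.ker = ⊥) : Dense (U : Set X) := by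
  set Z : Closeds X := ⟨closure (U : Set X), isClosed_closure⟩ with hZ
  have h1 : Scheme.IdealSheafData.vanishingIdeal Z = ⊥ :=
    le_bot_iff.mp (h ▸ vanishingIdeal_closure_le_ker U)
  have h2 : ((Scheme.IdealSheafData.vanishingIdeal Z).support : Set X) = Z :=
    Scheme.IdealSheafData.coe_support_vanishingIdeal Z
  rw [h1, Scheme.IdealSheafData.support_bot] at h2
  rw [dense_iff_closure_eq]
  exact h2.symm


theorem isDominant_homOfLE_inf {X : Scheme.{u}} (U W : X.Opens) (hU : Dense (U : Set X)) :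
    IsDominant (X.homOfLE (inf_le_right : U ⊓ W ≤ W)) := by
  rw [isDominant_iff]
  intro w
  rw [mem_closure_iff]
  intro o ho hwo
  have hop : IsOpen (W.ι '' o) := W.ι.isOpenEmbedding.isOpenMap o ho
  obtain ⟨y, ⟨w', hw'o, rfl⟩, hyU⟩ := hU.inter_open_nonempty _ hop ⟨_, ⟨w, hwo, rfl⟩⟩
  have hmem : W.ι w' ∈ U ⊓ W := ⟨hyU, w'.2⟩
  refine ⟨w', hw'o, ⟨⟨W.ι w', hmem⟩, ?_⟩⟩
  apply Subtype.ext
  rw [Scheme.homOfLE_apply]
  rfl

theorem main9360 (X : Scheme.{u}) (U : X.Opens) [IsReduced (↑U : Scheme.{u})] :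
    (IsSchemeTheoreticallyDominant U.ι ↔
        ∀ W : X.Opens, IsSchemeTheoreticallyDominant (X.homOfLE (inf_le_right : U ⊓ W ≤ W))) ∧
      (IsSchemeTheoreticallyDominant U.ι → IsReduced X) := by
  refine ⟨⟨fun h W => ?_, fun h => ?_⟩, fun h => isReduced_of_ker U h.ker_eq_bot⟩
  · have hred : IsReduced X := isReduced_of_ker U h.ker_eq_bot
    have := isDominant_homOfLE_inf U W (dense_of_ker U h.ker_eq_bot)
    exact IsSchemeTheoreticallyDominant.of_isDominant _
  · have h1 := h ⊤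
    have e : U ≤ U ⊓ ⊤ := le_inf le_rfl le_top
    have hiso : IsIso (X.homOfLE e) := by
      refine ⟨X.homOfLE inf_le_left, ?_, ?_⟩ <;>
      rw [Scheme.homOfLE_homOfLE, Scheme.homOfLE_rfl]
    have hfac : U.ι = X.homOfLE e ≫ X.homOfLE (inf_le_right : U ⊓ ⊤ ≤ ⊤) ≫ (⊤ : X.Opens).ι := by
      rw [Scheme.homOfLE_ι, Scheme.homOfLE_ι]
    rw [hfac]
    have h2i : IsIso (⊤ : X.Opens).ι := X.topIso.isIso_hom
    have h2 : IsSchemeTheoreticallyDominant (⊤ : X.Opens).ι := inferInstance
    have h3 : IsSchemeTheoreticallyDominant (X.homOfLE e) := inferInstance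
    infer_instance

end Groth.Agent.Lib.Helper4.SchDenseRed
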