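import Mathlib.Tactic
import Mathlib.AlgebraicGeometry.Morphisms.SchemeTheoreticallyDominant
import Mathlib.AlgebraicGeometry.Morphisms.Immersion
import Groth.Agent.Lib.Helper4.SchDenseRed

set_option autoImplicit false
universe u
open CategoryTheory AlgebraicGeometry Limits TopologicalSpace

namespace Groth.Agent.Lib.Helper4.ImmImage

/-- the scheme-theoretic image factorisation of a quasi-compact morphism is scheme-theoretically
dominant -/
theorem schDominant_toImage_of_qc {X Y : Scheme.{u}} (f : X ⟶ Y) [QuasiCompact f] :
    IsSchemeTheoreticallyDominant f.toImage := by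
  rw [isSchemeTheoreticallyDominant_iff]
  refine Scheme.IdealSheafData.ext_of_iSup_eq_top
    (fun U : Y.affineOpens => ⟨f.imageι ⁻¹ᵁ U.1, U.2.preimage f.imageι⟩) ?_ ?_
  · have := iSup_affineOpens_eq_top Y
    have h2 := congrArg (fun V => f.imageι ⁻¹ᵁ V) this
    simp only [Scheme.Hom.preimage_iSup, Scheme.Hom.preimage_top] at h2
    exact h2
  · intro U
    rw [Scheme.Hom.ker_apply, Scheme.IdealSheafData.ideal_bot]
    exact (RingHom.injective_iff_ker_eq_bot _).mp (f.toImage_app_injective U)

theorem schDominant_of_comp {X Y Z : Scheme.{u}} (f : X ⟶ Y) (g : Y ⟶ Z)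
    [h : IsSchemeTheoreticallyDominant (f ≫ g)] : IsSchemeTheoreticallyDominant g := by
  rw [isSchemeTheoreticallyDominant_iff]
  exact le_bot_iff.mp (h.ker_eq_bot ▸ f.le_ker_comp g)




theorem opensRange_ι_schDominant {X Y : Scheme.{u}} (f : X ⟶ Y) [IsOpenImmersion f]
    [IsSchemeTheoreticallyDominant f] : IsSchemeTheoreticallyDominant f.opensRange.ι := by
  have : IsSchemeTheoreticallyDominant (f.isoOpensRange.hom ≫ f.opensRange.ι) := by
    rw [Scheme.Hom.isoOpensRange_hom_ι]; infer_instance
  exact schDominant_of_comp f.isoOpensRange.hom _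

theorem main_qc {Z X : Scheme.{u}} (h : Z ⟶ X) [IsImmersion h] [QuasiCompact h] :
    ∃ hI : IsOpenImmersion h.toImage,
      (∀ W : h.image.Opens, IsSchemeTheoreticallyDominant
          (h.image.homOfLE (inf_le_right : @Scheme.Hom.opensRange _ _ h.toImage hI ⊓ W ≤ W))) ∧
        DenseRange h.toImage.base := by
  refine ⟨inferInstance, fun W => ?_, h.toImage.denseRange⟩
  have h1 : IsSchemeTheoreticallyDominant h.toImage := schDominant_toImage_of_qc h
  have h2 : IsSchemeTheoreticallyDominant h.toImage.opensRange.ι := opensRange_ι_schDominant _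
  have h3 : QuasiCompact h.toImage.opensRange.ι := by
    have : h.toImage.opensRange.ι = h.toImage.isoOpensRange.inv ≫ h.toImage := by
      rw [Iso.eq_inv_comp, Scheme.Hom.isoOpensRange_hom_ι]
    rw [this]; infer_instance
  exact IsSchemeTheoreticallyDominant.of_isPullback (isPullback_opens_inf h.toImage.opensRange W)


theorem ker_eq_vanishingIdeal {Z X : Scheme.{u}} (f : Z ⟶ X) [IsReduced Z] :
    f.ker = Scheme.IdealSheafData.vanishingIdeal (.closure (Set.range f)) := by
  rw [← Scheme.IdealSheafData.map_bot, ← Scheme.nilradical_eq_bot,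
    ← Scheme.IdealSheafData.vanishingIdeal_top, Scheme.IdealSheafData.map_vanishingIdeal]
  simp

theorem radical_vanishingIdeal {X : Scheme.{u}} (T : Closeds X) :
    (Scheme.IdealSheafData.vanishingIdeal T).radical = Scheme.IdealSheafData.vanishingIdeal T := by
  rw [← Scheme.IdealSheafData.vanishingIdeal_support]
  congr 1

theorem isRadical_ideal_vanishingIdeal {X : Scheme.{u}} (T : Closeds X) (U : X.affineOpens) :
    ((Scheme.IdealSheafData.vanishingIdeal T).ideal U).IsRadical := by
  have := congrArg (fun I => I.ideal U) (radical_vanishingIdeal T)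
  simp only [Scheme.IdealSheafData.radical_ideal] at this
  exact Ideal.radical_eq_iff.mp this

/-- closed subscheme of a radical ideal sheaf is reduced -/
theorem isReduced_subscheme {X : Scheme.{u}} (I : X.IdealSheafData)
    (hI : ∀ U : X.affineOpens, (I.ideal U).IsRadical) : IsReduced I.subscheme := by
  have : ∀ i, IsReduced (I.subschemeCover.openCover.X i) := by
    intro i
    have : _root_.IsReduced (Γ(X, i.1) ⧸ I.ideal i) :=
      (Ideal.isRadical_iff_quotient_reduced _).mp (hI i)
    change IsReduced (Spec (CommRingCat.of (Γ(X, i.1) ⧸ I.ideal i)))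
    infer_instance
  exact IsReduced.of_openCover _ I.subschemeCover.openCover


theorem radical_comap_vanishingIdeal {U X : Scheme.{u}} (j : U ⟶ X) [IsOpenImmersion j]
    (T : Closeds X) :
    ((Scheme.IdealSheafData.vanishingIdeal T).comap j).radical =
      (Scheme.IdealSheafData.vanishingIdeal T).comap j := by
  ext V : 2
  rw [Scheme.IdealSheafData.radical_ideal, Scheme.IdealSheafData.ideal_comap_of_isOpenImmersion,
    ← Ideal.comap_radical, (isRadical_ideal_vanishingIdeal T _).radical]

theorem comap_ker_comp_of_isReduced {Z U X : Scheme.{u}} (g : Z ⟶ U) (j : U ⟶ X)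
    [IsOpenImmersion j] [IsReduced Z] : (g ≫ j).ker.comap j = g.ker := by
  apply le_antisymm
  · rw [Scheme.Hom.ker_comp]
    exact Scheme.IdealSheafData.comap_map_le _ _
  · rw [ker_eq_vanishingIdeal (g ≫ j), ker_eq_vanishingIdeal g,
      ← radical_comap_vanishingIdeal, ← Scheme.IdealSheafData.vanishingIdeal_support]
    apply Scheme.IdealSheafData.vanishingIdeal_antimono
    rw [Scheme.IdealSheafData.support_comap]
    intro x hx
    have hx' : j x ∈ closure (Set.range (g ≫ j)) := by
      have h0 : j x ∈ ((Scheme.IdealSheafData.vanishingIdeal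
          (Closeds.closure (Set.range (g ≫ j)))).support : Set X) := hx
      rw [Scheme.IdealSheafData.coe_support_vanishingIdeal] at h0
      exact h0
    change x ∈ closure (Set.range g)
    rw [Scheme.Hom.comp_base, TopCat.coe_comp, Set.range_comp] at hx'
    have h1 := j.isOpenEmbedding.isOpenMap.preimage_closure_eq_closure_preimage j.continuous
      (j '' Set.range g)
    rw [Set.preimage_image_eq _ j.isOpenEmbedding.injective] at h1
    rw [← h1]
    exact hx'


theorem isOpenImmersion_toImage_of_isReduced {Z X : Scheme.{u}} (f : Z ⟶ X) [IsImmersion f]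
    [IsReduced Z] : IsOpenImmersion f.toImage := by
  have hpb : IsPullback f.liftCoborder f.toImage f.coborderRange.ι f.imageι := by
    refine isPullback_of_isClosedImmersion _ _ _ _ (by simp) ?_
    rw [Scheme.Hom.imageι, Scheme.IdealSheafData.ker_subschemeι]
    have := comap_ker_comp_of_isReduced f.liftCoborder f.coborderRange.ι
    rwa [Scheme.Hom.liftCoborder_ι] at this
  exact MorphismProperty.of_isPullback hpb inferInstance

theorem support_ker_of_isReduced {Z X : Scheme.{u}} (f : Z ⟶ X) [IsReduced Z] :
    (f.ker.support : Set X) = closure (Set.range f) := by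
  rw [ker_eq_vanishingIdeal, Scheme.IdealSheafData.coe_support_vanishingIdeal]
  rfl

theorem denseRange_toImage_of_isReduced {Z X : Scheme.{u}} (f : Z ⟶ X) [IsReduced Z] :
    DenseRange f.toImage := by
  rw [denseRange_iff_closure_range, f.imageι.isEmbedding.closure_eq_preimage_closure_image,
      ← Set.univ_subset_iff, ← Set.image_subset_iff, Set.image_univ,
      Scheme.IdealSheafData.range_subschemeι, support_ker_of_isReduced, ← Set.range_comp,
      ← TopCat.coe_comp, ← Scheme.Hom.comp_base, f.toImage_imageι]

theorem isReduced_image {Z X : Scheme.{u}} (f : Z ⟶ X) [IsReduced Z] : IsReduced f.image := by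
  apply isReduced_subscheme
  intro U
  rw [ker_eq_vanishingIdeal]
  exact isRadical_ideal_vanishingIdeal _ _

theorem schDominant_toImage_of_isReduced {Z X : Scheme.{u}} (f : Z ⟶ X) [IsReduced Z] :
    IsSchemeTheoreticallyDominant f.toImage := by
  have := isReduced_image f
  have : IsDominant f.toImage := ⟨denseRange_toImage_of_isReduced f⟩
  exact IsSchemeTheoreticallyDominant.of_isDominant _


theorem main_red {Z X : Scheme.{u}} (h : Z ⟶ X) [IsImmersion h] [IsReduced Z] :
    ∃ hI : IsOpenImmersion h.toImage,
      (∀ W : h.image.Opens, IsSchemeTheoreticallyDominant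
          (h.image.homOfLE (inf_le_right : @Scheme.Hom.opensRange _ _ h.toImage hI ⊓ W ≤ W))) ∧
        DenseRange h.toImage.base := by
  have hI : IsOpenImmersion h.toImage := isOpenImmersion_toImage_of_isReduced h
  refine ⟨hI, ?_, denseRange_toImage_of_isReduced h⟩
  have h1 : IsSchemeTheoreticallyDominant h.toImage := schDominant_toImage_of_isReduced h
  have h2 : IsSchemeTheoreticallyDominant h.toImage.opensRange.ι := opensRange_ι_schDominant _
  have h3 : IsReduced (h.toImage.opensRange : Scheme.{u}) :=
    isReduced_of_isOpenImmersion h.toImage.isoOpensRange.inv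
  exact (SchDenseRed.main9360 h.image h.toImage.opensRange).1.mp h2

theorem main9385 {Z X : Scheme.{u}} (h : Z ⟶ X) [IsImmersion h]
    (hyp : QuasiCompact h ∨ IsReduced Z) :
    ∃ hI : IsOpenImmersion h.toImage,
      (∀ W : h.image.Opens, IsSchemeTheoreticallyDominant
          (h.image.homOfLE (inf_le_right : @Scheme.Hom.opensRange _ _ h.toImage hI ⊓ W ≤ W))) ∧
        DenseRange h.toImage.base := by
  rcases hyp with hq | hr
  · exact main_qc h
  · exact main_red h

end Groth.Agent.Lib.Helper4.ImmImage
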