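import Mathlib.Tactic
import Mathlib.AlgebraicGeometry.AlgClosed.Basic
import Mathlib.CategoryTheory.Monoidal.Cartesian.Over
import Mathlib.CategoryTheory.Monoidal.Cartesian.Grp
import Groth.Prelude.Def_ProCons
import Groth.Agent.Lib.Helper4.AnSurj

open CategoryTheory MonoidalCategory CartesianMonoidalCategory MonObj GrpObj AlgebraicGeometry Limits Topology

universe u

namespace Groth.Agent.Lib.Helper4.IndCons

open Groth.Agent.Lib.Helper4.AnSurj

section topology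

variable {X Y : Type*} [TopologicalSpace X] [TopologicalSpace Y]

lemma FinLC.preimage {S : Set Y} (hS : FinLC S) {f : X → Y} (hf : Continuous f) :
    FinLC (f ⁻¹' S) := by
  classical
  obtain ⟨F, hF, rfl⟩ := hS
  refine ⟨F.image (fun a => f ⁻¹' a), ?_, ?_⟩
  · intro A hA
    obtain ⟨a, ha, rfl⟩ := Finset.mem_image.mp hA
    exact (hF a ha).preimage hf
  · ext x
    simp

lemma FinLC.image {S : Set X} (hS : FinLC S) {f : X → Y} (hf : IsInducing f)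
    (hf' : IsLocallyClosed (Set.range f)) : FinLC (f '' S) := by
  classical
  obtain ⟨F, hF, rfl⟩ := hS
  refine ⟨F.image (fun a => f '' a), ?_, ?_⟩
  · intro A hA
    obtain ⟨a, ha, rfl⟩ := Finset.mem_image.mp hA
    exact (hF a ha).image hf hf'
  · ext y
    simp only [Set.mem_image, Set.mem_sUnion, Finset.mem_coe, Finset.coe_image]
    constructor
    · rintro ⟨x, ⟨a, ha, hxa⟩, rfl⟩
      exact ⟨f '' a, ⟨a, ha, rfl⟩, x, hxa, rfl⟩
    · rintro ⟨_, ⟨a, ha, rfl⟩, x, hxa, rfl⟩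
      exact ⟨x, ⟨a, ha, hxa⟩, rfl⟩

lemma exists_closedPoint_of_finLC [JacobsonSpace X] {S : Set X} (hS : FinLC S)
    (hne : S.Nonempty) : (S ∩ closedPoints X).Nonempty := by
  obtain ⟨F, hF, rfl⟩ := hS
  obtain ⟨x, A, hA, hxA⟩ := hne
  obtain ⟨y, hyA, hyc⟩ := nonempty_inter_closedPoints ⟨x, hxA⟩ (hF A hA)
  exact ⟨y, ⟨A, hA, hyA⟩, hyc⟩

/-- a point of an ind-constructible set lies in a FinLC piece of it -/
lemma exists_finLC_of_isIndConstructible {E : Set X} (hE : ProCons.IsIndConstructible E)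
    (x : X) (hx : x ∈ E) : ∃ C : Set X, x ∈ C ∧ C ⊆ E ∧ FinLC C := by
  obtain ⟨U, hUo, hxU, S, hS, hES⟩ := hE x
  have hmem : (⟨x, hxU⟩ : ↥U) ∈ (Subtype.val ⁻¹' E : Set ↥U) := hx
  rw [hES] at hmem
  obtain ⟨T, hTS, hxT⟩ := hmem
  obtain ⟨N, hN, hNo, hNc⟩ := hS T hTS ⟨x, hxU⟩
  have hxN : (⟨x, hxU⟩ : ↥U) ∈ N := mem_of_mem_nhds hN
  have h1 : FinLC (Subtype.val ⁻¹' T : Set ↥N) := (IsConstructible.finLC hNc).1
  let j : ↥N → X := fun n => ((n : ↥U) : X)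
  have hj : IsOpenEmbedding j :=
    hUo.isOpenEmbedding_subtypeVal.comp hNo.isOpenEmbedding_subtypeVal
  have h2 : FinLC (j '' (Subtype.val ⁻¹' T : Set ↥N)) :=
    FinLC.image h1 hj.isInducing hj.isOpen_range.isLocallyClosed
  refine ⟨j '' (Subtype.val ⁻¹' T : Set ↥N), ⟨⟨⟨x, hxU⟩, hxN⟩, hxT, rfl⟩, ?_, h2⟩
  rintro _ ⟨n, hn, rfl⟩
  have : (n : ↥U) ∈ (Subtype.val ⁻¹' E : Set ↥U) := by
    rw [hES]; exact ⟨T, hTS, hn⟩
  exact this

end topology

theorem main5395 (k : Type u) [Field k] [IsAlgClosed k] (G : Over (Spec (CommRingCat.of k))) [GrpObj G]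
    [LocallyOfFiniteType G.hom] (A B : Set G.left) (hA : ProCons.IsIndConstructible A) (hB : ProCons.IsIndConstructible B)
    (z : G.left) (hz : IsClosed ({z} : Set G.left))
    (hzAB : z ∈ μ[G].left.base '' {w : ↥(G ⊗ G).left | (fst G G).left.base w ∈ A ∧ (snd G G).left.base w ∈ B}) :
    ∃ w : ↥(G ⊗ G).left, IsClosed ({w} : Set ↥(G ⊗ G).left) ∧ (fst G G).left.base w ∈ A ∧ (snd G G).left.base w ∈ B ∧
      μ[G].left.base w = z := by
  obtain ⟨w₀, ⟨hw₀A, hw₀B⟩, hw₀z⟩ := hzAB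
  obtain ⟨CA, haCA, hCAA, hCA⟩ := exists_finLC_of_isIndConstructible hA _ hw₀A
  obtain ⟨CB, hbCB, hCBB, hCB⟩ := exists_finLC_of_isIndConstructible hB _ hw₀B
  have hlft : LocallyOfFiniteType (G ⊗ G).hom := by
    dsimp
    infer_instance
  have hJ : JacobsonSpace ↥(G ⊗ G).left := LocallyOfFiniteType.jacobsonSpace (G ⊗ G).hom
  have h1 : FinLC ((fst G G).left.base ⁻¹' CA) := FinLC.preimage hCA (fst G G).left.continuous
  have h2 : FinLC ((snd G G).left.base ⁻¹' CB) := FinLC.preimage hCB (snd G G).left.continuous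
  have h3 : FinLC (μ[G].left.base ⁻¹' {z}) :=
    FinLC.of_isLocallyClosed (hz.preimage μ[G].left.continuous).isLocallyClosed
  have h4 := (h1.inter h2).inter h3
  obtain ⟨w, ⟨⟨hwA, hwB⟩, hwz⟩, hwc⟩ := exists_closedPoint_of_finLC h4 ⟨w₀, ⟨haCA, hbCB⟩, hw₀z⟩
  exact ⟨w, hwc, hCAA hwA, hCBB hwB, hwz⟩

end Groth.Agent.Lib.Helper4.IndCons
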