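import Groth.Agent.Lib.Helper4.MaxSub
import Groth.Agent.Lib.Helper8.AffPush
import Groth.Agent.Lib.Helper16.LocFree5
set_option backward.isDefEq.respectTransparency.types false
set_option autoImplicit false
set_option linter.style.haveILetI false
set_option linter.unusedSectionVars false

universe u
open CategoryTheory CategoryTheory.Limits AlgebraicGeometry Opposite TopologicalSpace

namespace Groth.Agent.Lib.Helper4.InvSS

open Groth.Agent.Lib.Helper8.CurveTensor Groth.Agent.Lib.Helper4.GPRank Groth.Agent.Lib.Helper8.EulerK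
open Groth.Agent.Lib.Helper4.HilbPoly Groth.Agent.Lib.Helper4.CurveVB Groth.Agent.Lib.Helper4.TFCurve
open Groth.Agent.Lib.Helper4.MaxSub

section general
variable {X : Scheme.{u}} (σ : X ⟶ X) (hσ : σ ≫ σ = 𝟙 X)

/-- pulling back twice along an involution is the identity -/
noncomputable def sqIso : Scheme.Modules.pullback σ ⋙ Scheme.Modules.pullback σ ≅ 𝟭 X.Modules :=
  Scheme.Modules.pullbackComp σ σ ≪≫ Scheme.Modules.pullbackCongr hσ ≪≫ Scheme.Modules.pullbackId X

/-- pullback along an involution, as an equivalence -/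
noncomputable def pbEquiv : X.Modules ≌ X.Modules :=
  CategoryTheory.Equivalence.mk (Scheme.Modules.pullback σ) (Scheme.Modules.pullback σ) (sqIso σ hσ).symm (sqIso σ hσ)

include hσ in
theorem isEquivalence_pullback : (Scheme.Modules.pullback σ).IsEquivalence :=
  (pbEquiv σ hσ).isEquivalence_functor

end general

section curve

variable (k : Type u) [Field k] (X : Scheme.{u}) [X.Over (Spec (CommRingCat.of k))] [IsIntegral X]
  [IsProper (X ↘ Spec (CommRingCat.of k))] [Smooth (X ↘ Spec (CommRingCat.of k))]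
  (σ : X ⟶ X) (hσS : σ ≫ (X ↘ Spec (CommRingCat.of k)) = X ↘ Spec (CommRingCat.of k)) (hσ : σ ≫ σ = 𝟙 X)

include hσS hσ in
/-- the Euler characteristic is invariant under pullback along an involution over `k` -/
theorem euler_pullback (F : X.Modules) (hF : ((Scheme.Modules.pullback σ).obj F).IsQuasicoherent) :
    Curv2.euler k X ((Scheme.Modules.pullback σ).obj F) = Curv2.euler k X F := by
  haveI : IsIso σ := ⟨σ, hσ, hσ⟩
  haveI := isEquivalence_pullback σ hσ
  haveI : IsIso ((Scheme.Modules.pullbackPushforwardAdjunction σ).unit.app F) := inferInstance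
  rw [← Groth.Agent.Lib.Helper8.AffPush.euler_push k σ hσS ((Scheme.Modules.pullback σ).obj F) hF]
  exact euler_congr k (asIso ((Scheme.Modules.pullbackPushforwardAdjunction σ).unit.app F)).symm

include hσS hσ in
/-- rank and degree are invariant under pullback along an involution over `k` -/
theorem deg_pullback (F : X.Modules) (n : ℕ) (hF : FlatMod.IsFinLocFreeOfRank n F) :
    FlatMod.IsFinLocFreeOfRank n ((Scheme.Modules.pullback σ).obj F) ∧
      Curv2.deg k X ((Scheme.Modules.pullback σ).obj F) n = Curv2.deg k X F n := by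
  haveI : IsLocallyNoetherian X := isLocallyNoetherian k X
  have h1 := Groth.Agent.Lib.Helper16.LocFree.isFinLocFreeOfRank_pullback σ F hF
  refine ⟨h1, ?_⟩
  unfold Curv2.deg
  rw [euler_pullback k X σ hσS hσ F (isCoh_of_isFinLocFreeOfRank _ h1).1]

include hσS hσ in
/-- **S15156** (the nontrivial direction) -/
theorem semistable_of_invariant (hdim : topologicalKrullDim X = 1)
    (r : ℕ) (hr : 0 < r) (E : X.Modules) (hE : FlatMod.IsFinLocFreeOfRank r E)
    (φ : (Scheme.Modules.pullback σ).obj E ≅ E)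
    (h : ∀ (F : X.Modules) (r' : ℕ) (i : F ⟶ E), Mono i → 0 < r' → FlatMod.IsFinLocFreeOfRank r' F →
      (∃ j : (Scheme.Modules.pullback σ).obj F ⟶ F, j ≫ i = (Scheme.Modules.pullback σ).map i ≫ φ.hom) →
      Curv2.deg k X F r' * (r : ℤ) ≤ Curv2.deg k X E r * (r' : ℤ)) :
    ∀ (F : X.Modules) (r' : ℕ) (i : F ⟶ E), Mono i → 0 < r' → FlatMod.IsFinLocFreeOfRank r' F →
      Curv2.deg k X F r' * (r : ℤ) ≤ Curv2.deg k X E r * (r' : ℤ) := by
  haveI := isEquivalence_pullback σ hσ
  obtain ⟨E₁, r₁, i₁, hi₁, hr₁, hE₁, hmax, hquot⟩ := exists_maxDestab k X hdim r hr E hE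
  haveI := hi₁
  obtain ⟨hE₁', hdeg'⟩ := deg_pullback k X σ hσS hσ E₁ r₁ hE₁
  haveI : Mono ((Scheme.Modules.pullback σ).map i₁) := inferInstance
  have hz := comp_cokernel_eq_zero k X hdim r E hE E₁ ((Scheme.Modules.pullback σ).obj E₁) r₁ r₁ i₁
    ((Scheme.Modules.pullback σ).map i₁ ≫ φ.hom) hi₁ hr₁ hE₁ hmax hquot inferInstance hr₁ hE₁'
    (by rw [hdeg']; exact hmax)
  have h1 := h E₁ r₁ i₁ hi₁ hr₁ hE₁ ⟨Abelian.monoLift i₁ _ hz, Abelian.monoLift_comp i₁ _ hz⟩
  intro G n j hj hn hG
  have h2 := hmax G n j hj hn hG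
  have hr₁Z : (0 : ℤ) < r₁ := by exact_mod_cast hr₁
  have key : (Curv2.deg k X G n * (r : ℤ)) * r₁ ≤ (Curv2.deg k X E r * (n : ℤ)) * r₁ := by
    have a1 : Curv2.deg k X G n * (r₁ : ℤ) * r ≤ Curv2.deg k X E₁ r₁ * (n : ℤ) * r :=
      mul_le_mul_of_nonneg_right h2 (by positivity)
    have a2 : Curv2.deg k X E₁ r₁ * (r : ℤ) * n ≤ Curv2.deg k X E r * (r₁ : ℤ) * n :=
      mul_le_mul_of_nonneg_right h1 (by positivity)
    linarith
  exact le_of_mul_le_mul_right key hr₁Z

end curve

end Groth.Agent.Lib.Helper4.InvSS
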