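import Mathlib.LinearAlgebra.BilinearForm.Orthogonal
import Mathlib.LinearAlgebra.BilinearForm.Properties
import Mathlib.LinearAlgebra.FiniteDimensional.Lemmas
import Mathlib.LinearAlgebra.FiniteDimensional.Basic
import Mathlib.LinearAlgebra.Dimension.Constructions
import Mathlib.Algebra.Algebra.Pi
import Mathlib.Algebra.Algebra.Subalgebra.Basic
import Mathlib.Tactic

open Module

namespace Groth.Agent.Lib.Helper4.IsoLag

variable {K : Type*} [Field K] {V : Type*} [AddCommGroup V] [Module K V] [FiniteDimensional K V]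
  (e : LinearMap.BilinForm K V) (F : Subalgebra K (Module.End K V))

def Stable (W : Submodule K V) : Prop := ∀ f ∈ F, ∀ w ∈ W, f w ∈ W
def Iso (W : Submodule K V) : Prop := ∀ x ∈ W, ∀ y ∈ W, e x y = 0

variable {e F}

section orth
variable (hnd : e.Nondegenerate) (S : Set (Module.End K V))
  (hS : Submodule.span K S = Subalgebra.toSubmodule F)
  (hsim : ∀ s ∈ S, ∃ c : K, c ≠ 0 ∧ ∀ x y : V, e (s x) (s y) = c * e x y)
include hnd hS hsim

lemma orth_stable {W : Submodule K V} (hW : Stable F W) : Stable F (e.orthogonal W) := by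
  intro f hf y hy
  suffices h : ∀ f ∈ Submodule.span K S, f y ∈ e.orthogonal W from h f (by rw [hS]; exact hf)
  clear hf f
  intro f hf'
  induction hf' using Submodule.span_induction with
  | zero => simp
  | add f₁ f₂ _ _ h₁ h₂ =>
    rw [LinearMap.add_apply]; exact Submodule.add_mem _ h₁ h₂
  | smul a f₁ _ h₁ =>
    rw [LinearMap.smul_apply]; exact Submodule.smul_mem _ _ h₁
  | mem s hs =>
    obtain ⟨c, hc0, hc⟩ := hsim s hs
    have hsF : s ∈ F := by
      have : s ∈ Subalgebra.toSubmodule F := hS ▸ Submodule.subset_span hs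
      exact this
    -- s restricted to W is injective hence surjective
    have hmaps : ∀ w ∈ W, s w ∈ W := hW s hsF
    have hinj : Function.Injective s := by
      rw [← LinearMap.ker_eq_bot, LinearMap.ker_eq_bot']
      intro x hx
      apply hnd.1 x
      intro z
      have := hc x z
      rw [hx, map_zero, LinearMap.zero_apply] at this
      exact (mul_eq_zero.mp this.symm).resolve_left hc0
    let sW : W →ₗ[K] W := s.restrict hmaps
    have hsWinj : Function.Injective sW := by
      intro a b hab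
      apply Subtype.ext
      apply hinj
      exact congrArg Subtype.val hab
    have hsWsurj : Function.Surjective sW := LinearMap.surjective_of_injective hsWinj
    rw [LinearMap.BilinForm.mem_orthogonal_iff]
    intro w hw
    obtain ⟨w', hw'⟩ := hsWsurj ⟨w, hw⟩
    have hw'' : s w' = w := congrArg Subtype.val hw'
    rw [← hw'', hc]
    rw [LinearMap.BilinForm.mem_orthogonal_iff] at hy
    rw [hy w' w'.2, mul_zero]

end orth

section idem
variable {r : ℕ} (φ : F ≃ₐ[K] (Fin r → K))

/-- the idempotents -/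
noncomputable def E (i : Fin r) : F := φ.symm (Pi.single i 1)

lemma mul_E (f : F) (i : Fin r) : f * E φ i = (φ f i) • E φ i := by
  apply φ.injective
  rw [map_mul, map_smul, E, AlgEquiv.apply_symm_apply]
  ext j
  by_cases h : j = i
  · subst h; simp
  · simp [Pi.single_eq_of_ne h]

lemma apply_E (f : F) (i : Fin r) (y : V) :
    (f : Module.End K V) ((E φ i : Module.End K V) y) = (φ f i) • ((E φ i : Module.End K V) y) := by
  have := congrArg (fun g : F => (g : Module.End K V) y) (mul_E φ f i)
  simpa using this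

lemma sum_E : ∑ i, E φ i = 1 := by
  apply φ.injective
  rw [map_sum, map_one]
  simp only [E, AlgEquiv.apply_symm_apply]
  exact Finset.univ_sum_single (1 : Fin r → K)

lemma sum_E_apply (y : V) : ∑ i, (E φ i : Module.End K V) y = y := by
  have := congrArg (fun g : F => (g : Module.End K V) y) (sum_E φ)
  simpa using this

end idem


section main
variable (he : e.IsAlt) (hnd : e.Nondegenerate) (S : Set (Module.End K V))
  (hS : Submodule.span K S = Subalgebra.toSubmodule F)
  (hsim : ∀ s ∈ S, ∃ c : K, c ≠ 0 ∧ ∀ x y : V, e (s x) (s y) = c * e x y)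
  {r : ℕ} (φ : F ≃ₐ[K] (Fin r → K)) {g : ℕ} (hV : Module.finrank K V = 2 * g)

include hnd hV in
lemma iso_finrank_le {W : Submodule K V} (hWi : Iso e W) : finrank K W ≤ g := by
  have hle : W ≤ e.orthogonal W := fun x hx => by
    rw [LinearMap.BilinForm.mem_orthogonal_iff]
    intro n hn; exact hWi n hn x hx
  have h1 := Submodule.finrank_mono hle
  have h2 := LinearMap.BilinForm.finrank_orthogonal hnd W
  have h3 : finrank K W ≤ finrank K V := Submodule.finrank_le W
  omega

include he hnd hS hsim hV φ in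
lemma extend {W : Submodule K V} (hWs : Stable F W) (hWi : Iso e W) (hlt : finrank K W < g)
    {v : V} (hv : v ∉ W) :
    ∃ W₁ : Submodule K V, W < W₁ ∧ Stable F W₁ ∧ Iso e W₁ ∧ v ∉ W₁ := by
  have horth := orth_stable hnd S hS hsim hWs
  -- find an eigenvector in W^⊥ outside W ⊔ span{v}
  have hex : ∃ y ∈ e.orthogonal W, ∃ i : Fin r, (E φ i : Module.End K V) y ∉ W ⊔ K ∙ v := by
    by_contra hcon
    push Not at hcon
    have hle : e.orthogonal W ≤ W ⊔ K ∙ v := by
      intro y hy
      rw [← sum_E_apply φ y]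
      exact Submodule.sum_mem _ (fun i _ => hcon y hy i)
    have h1 := Submodule.finrank_mono hle
    have h2 := LinearMap.BilinForm.finrank_orthogonal hnd W
    have h3 : finrank K ↥(W ⊔ K ∙ v) ≤ finrank K W + 1 := by
      have := Submodule.finrank_add_le_finrank_add_finrank W (K ∙ v)
      have h4 : finrank K ↥(K ∙ v) ≤ 1 := by
        have := finrank_span_le_card (R := K) ({v} : Set V)
        simpa using this
      omega
    omega
  obtain ⟨y, hy, i, hx⟩ := hex
  set x : V := (E φ i : Module.End K V) y with hx_def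
  have hxorth : x ∈ e.orthogonal W := horth _ (E φ i).2 y hy
  have hxW : x ∉ W := fun h => hx (Submodule.mem_sup_left h)
  have hWx : ∀ w ∈ W, e w x = 0 := fun w hw => (LinearMap.BilinForm.mem_orthogonal_iff.mp hxorth) w hw
  have hxW' : ∀ w ∈ W, e x w = 0 := fun w hw => he.isRefl.eq_zero (hWx w hw)
  refine ⟨W ⊔ K ∙ x, ?_, ?_, ?_, ?_⟩
  · refine lt_of_le_of_ne le_sup_left ?_
    intro h
    apply hxW
    rw [h]
    exact Submodule.mem_sup_right (Submodule.mem_span_singleton_self x)
  · intro f hf w₁ hw₁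
    obtain ⟨w, hw, z, hz, rfl⟩ := Submodule.mem_sup.mp hw₁
    obtain ⟨a, rfl⟩ := Submodule.mem_span_singleton.mp hz
    rw [map_add, map_smul]
    refine Submodule.add_mem _ (Submodule.mem_sup_left (hWs f hf w hw)) (Submodule.mem_sup_right ?_)
    have := apply_E φ ⟨f, hf⟩ i y
    simp only at this
    rw [hx_def, this]
    exact Submodule.smul_mem _ _ (Submodule.smul_mem _ _ (Submodule.mem_span_singleton_self _))
  · intro p hp q hq
    obtain ⟨w, hw, z, hz, rfl⟩ := Submodule.mem_sup.mp hp
    obtain ⟨a, rfl⟩ := Submodule.mem_span_singleton.mp hz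
    obtain ⟨w', hw', z', hz', rfl⟩ := Submodule.mem_sup.mp hq
    obtain ⟨a', rfl⟩ := Submodule.mem_span_singleton.mp hz'
    simp only [map_add, map_smul, LinearMap.add_apply, LinearMap.smul_apply, hWi w hw w' hw',
      hWx w hw, hxW' w' hw', he x, smul_zero, add_zero]
  · intro hvm
    obtain ⟨w, hw, z, hz, hsum⟩ := Submodule.mem_sup.mp hvm
    obtain ⟨a, rfl⟩ := Submodule.mem_span_singleton.mp hz
    by_cases ha : a = 0
    · rw [ha, zero_smul, add_zero] at hsum
      exact hv (hsum ▸ hw)
    · apply hx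
      have : x = a⁻¹ • v - a⁻¹ • w := by
        rw [← hsum, smul_add, smul_smul, inv_mul_cancel₀ ha, one_smul]; abel
      rw [this]
      exact Submodule.sub_mem _ (Submodule.mem_sup_right (Submodule.smul_mem _ _
        (Submodule.mem_span_singleton_self v))) (Submodule.mem_sup_left (Submodule.smul_mem _ _ hw))

include he hnd hS hsim hV φ in
lemma exists_lagrangian : ∀ (k : ℕ) (W : Submodule K V), Stable F W → Iso e W → g - finrank K W ≤ k →
    ∀ v : V, v ∉ W → ∃ L : Submodule K V, W ≤ L ∧ Stable F L ∧ Iso e L ∧ finrank K L = g ∧ v ∉ L := by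
  intro k
  induction k with
  | zero =>
    intro W hWs hWi hk v hv
    have := iso_finrank_le hnd hV hWi
    exact ⟨W, le_rfl, hWs, hWi, by omega, hv⟩
  | succ k ih =>
    intro W hWs hWi hk v hv
    have hle := iso_finrank_le hnd hV hWi
    rcases Nat.lt_or_ge (finrank K W) g with hlt | hge
    · obtain ⟨W₁, hlt₁, hs₁, hi₁, hv₁⟩ := extend he hnd S hS hsim φ hV hWs hWi hlt hv
      have hfr := Submodule.finrank_lt_finrank_of_lt hlt₁
      obtain ⟨L, hL1, hL2, hL3, hL4, hL5⟩ := ih W₁ hs₁ hi₁ (by omega) v hv₁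
      exact ⟨L, hlt₁.le.trans hL1, hL2, hL3, hL4, hL5⟩
    · exact ⟨W, le_rfl, hWs, hWi, by omega, hv⟩

end main

universe u

theorem main (K : Type u) [Field K]
    (V : Type u) [AddCommGroup V] [Module K V] [FiniteDimensional K V] (g : ℕ) (hV : Module.finrank K V = 2 * g)
    (e : LinearMap.BilinForm K V) (he : e.IsAlt) (hnd : e.Nondegenerate)
    (F : Subalgebra K (Module.End K V)) (r : ℕ) (hF : Nonempty (F ≃ₐ[K] (Fin r → K)))
    (S : Set (Module.End K V)) (hS : Submodule.span K S = Subalgebra.toSubmodule F)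
    (hsim : ∀ s ∈ S, ∃ c : K, c ≠ 0 ∧ ∀ x y : V, e (s x) (s y) = c * e x y)
    (D : Set (Module.End K V))
    (hmax : ∀ W : Submodule K V, (∀ f ∈ F, ∀ w ∈ W, f w ∈ W) → (∀ x ∈ W, ∀ y ∈ W, e x y = 0) →
      Module.finrank K W = g → ∀ d ∈ D, ∀ w ∈ W, d w ∈ W)
    (W : Submodule K V) (hWF : ∀ f ∈ F, ∀ w ∈ W, f w ∈ W) (hWiso : ∀ x ∈ W, ∀ y ∈ W, e x y = 0) :
    ∀ d ∈ D, ∀ w ∈ W, d w ∈ W := by
  obtain ⟨φ⟩ := hF
  intro d hd w hw
  by_contra hv
  obtain ⟨L, hL1, hL2, hL3, hL4, hL5⟩ :=
    exists_lagrangian he hnd S hS hsim φ hV (g - finrank K W) W hWF hWiso le_rfl (d w) hv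
  exact hL5 (hmax L hL2 hL3 hL4 d hd w (hL1 hw))

end Groth.Agent.Lib.Helper4.IsoLag
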