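import Groth.Agent.Lib.Helper4.NM6
set_option backward.isDefEq.respectTransparency.types false
set_option autoImplicit false
set_option linter.style.haveILetI false
set_option linter.unusedSectionVars false

universe u
open CategoryTheory CategoryTheory.Limits AlgebraicGeometry Opposite TopologicalSpace

namespace Groth.Agent.Lib.Helper4.KLM1
open Groth.Agent.Lib.Helper6.K0Filt Groth.Agent.Lib.Helper6.K0Len Groth.Agent.Lib.Helper6.K0Op
  Groth.Agent.Lib.Helper6.K0Tensor Groth.Agent.Lib.Helper4.Snapper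

variable {X : Scheme.{u}}

/-- operators on `K'_0(X)` commuting with all twists and lowering the filtration by dimension of support by `r` -/
structure Low (r : ℕ) (φ : AddMonoid.End (K0 X)) : Prop where
  comm : ∀ N : X.Modules, PicF.IsInvertible N → Commute (Top N) φ
  map : ∀ (j : ℕ) (c : K0 X), c ∈ Hlt X (j + r) → φ c ∈ Hlt X j

namespace Low

theorem one : Low 0 (1 : AddMonoid.End (K0 X)) :=
  ⟨fun _ _ => Commute.one_right _, fun _ _ hc => hc⟩

theorem zero (r : ℕ) : Low r (0 : AddMonoid.End (K0 X)) :=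
  ⟨fun _ _ => Commute.zero_right _, fun j _ _ => AddSubgroup.zero_mem _⟩

theorem add {r : ℕ} {φ ψ : AddMonoid.End (K0 X)} (hφ : Low r φ) (hψ : Low r ψ) : Low r (φ + ψ) :=
  ⟨fun N hN => (hφ.comm N hN).add_right (hψ.comm N hN),
    fun j c hc => AddSubgroup.add_mem _ (hφ.map j c hc) (hψ.map j c hc)⟩

theorem neg {r : ℕ} {φ : AddMonoid.End (K0 X)} (hφ : Low r φ) : Low r (-φ) :=
  ⟨fun N hN => (hφ.comm N hN).neg_right, fun j c hc => AddSubgroup.neg_mem _ (hφ.map j c hc)⟩

theorem sub {r : ℕ} {φ ψ : AddMonoid.End (K0 X)} (hφ : Low r φ) (hψ : Low r ψ) : Low r (φ - ψ) := by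
  rw [sub_eq_add_neg]
  exact hφ.add hψ.neg

theorem mul {r s : ℕ} {φ ψ : AddMonoid.End (K0 X)} (hφ : Low r φ) (hψ : Low s ψ) : Low (r + s) (φ * ψ) :=
  ⟨fun N hN => (hφ.comm N hN).mul_right (hψ.comm N hN), fun j c hc => by
    show φ (ψ c) ∈ Hlt X j
    apply hφ.map j
    apply hψ.map (j + r)
    rw [add_assoc]
    exact hc⟩

theorem nsmul {r : ℕ} {φ : AddMonoid.End (K0 X)} (hφ : Low r φ) (n : ℕ) : Low r (n • φ) := by
  induction n with
  | zero => rw [zero_nsmul]; exact zero r
  | succ n ih => rw [succ_nsmul]; exact ih.add hφ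

theorem mono {r : ℕ} {φ : AddMonoid.End (K0 X)} (hφ : Low (r + 1) φ) : Low r φ :=
  ⟨hφ.comm, fun j c hc => hφ.map j c (by rw [← add_assoc]; exact Hlt_mono _ hc)⟩

theorem mono_le {r s : ℕ} {φ : AddMonoid.End (K0 X)} (hφ : Low s φ) (h : r ≤ s) : Low r φ := by
  induction s with
  | zero =>
    obtain rfl : r = 0 := by omega
    exact hφ
  | succ s ih =>
    rcases Nat.lt_or_ge r (s + 1) with h1 | h1
    · exact ih hφ.mono (by omega)
    · obtain rfl : r = s + 1 := by omega
      exact hφ

theorem pow_zero' {φ : AddMonoid.End (K0 X)} (hφ : Low 0 φ) (m : ℕ) : Low 0 (φ ^ m) := by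
  induction m with
  | zero => rw [pow_zero]; exact one
  | succ m ih => rw [pow_succ]; exact ih.mul hφ

theorem pow {φ : AddMonoid.End (K0 X)} (hφ : Low 1 φ) (m : ℕ) : Low m (φ ^ m) := by
  induction m with
  | zero => rw [pow_zero]; exact one
  | succ m ih => rw [pow_succ]; exact ih.mul hφ

theorem sum {ι : Type*} {r : ℕ} (s : Finset ι) (f : ι → AddMonoid.End (K0 X)) (hf : ∀ i ∈ s, Low r (f i)) :
    Low r (∑ i ∈ s, f i) := by
  classical
  induction s using Finset.induction_on with
  | empty => rw [Finset.sum_empty]; exact zero r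
  | insert a s ha ih =>
    rw [Finset.sum_insert ha]
    exact (hf a (Finset.mem_insert_self a s)).add (ih fun i hi => hf i (Finset.mem_insert_of_mem hi))

/-- an operator lowering by more than the dimension kills the class -/
theorem apply_eq_zero {d : ℕ} {φ : AddMonoid.End (K0 X)} (hφ : Low d φ) (c : K0 X) (hc : c ∈ Hlt X d) :
    φ c = 0 := by
  have h := hφ.map 0 c (by rw [zero_add]; exact hc)
  rwa [Hlt_zero, AddSubgroup.mem_bot] at h

theorem comm' {r s : ℕ} {φ ψ : AddMonoid.End (K0 X)} (_ : Low r φ) (_ : Low s ψ) : True := trivial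

variable [IsNoetherian X]

theorem top {N : X.Modules} (hN : PicF.IsInvertible N) : Low 0 (Top N) :=
  ⟨fun N' hN' => Top_comm N' N hN' hN, fun j c hc => Top_map_Hlt N hN j c hc⟩

theorem top_sub_one {N : X.Modules} (hN : PicF.IsInvertible N) : Low 1 (Top N - 1) :=
  ⟨fun N' hN' => (Commute.sub_right (Top_comm N' N hN' hN) (Commute.one_right _)),
    fun j c hc => Top_sub_one_mem_Hlt N hN j c hc⟩

end Low

variable [IsNoetherian X]

/-- the twist operator acts trivially on classes of dimension `≤ 0` -/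
theorem top_apply {N : X.Modules} (hN : PicF.IsInvertible N) (c : K0 X) (hc : c ∈ Hlt X 1) : Top N c = c := by
  have h := (Low.top_sub_one hN).apply_eq_zero c hc
  have : (Top N - 1) c = Top N c - c := rfl
  rw [this, sub_eq_zero] at h
  exact h

theorem top_pow_apply {N : X.Modules} (hN : PicF.IsInvertible N) (m : ℕ) (c : K0 X) (hc : c ∈ Hlt X 1) :
    (Top N ^ m) c = c := by
  induction m with
  | zero => simp
  | succ m ih =>
    rw [pow_succ]
    show (Top N ^ m) (Top N c) = c
    rw [top_apply hN c hc, ih]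

/-- `φ (([N]^m - 1) c) = m · φ (([N] - 1) c)` for `φ` lowering by `r` and `c` of dimension `≤ r + 1` -/
theorem apply_top_pow_sub_one {r : ℕ} {φ : AddMonoid.End (K0 X)} (hφ : Low r φ) {N : X.Modules}
    (hN : PicF.IsInvertible N) (m : ℕ) (c : K0 X) (hc : c ∈ Hlt X (r + 2)) :
    φ ((Top N ^ m - 1) c) = m • φ ((Top N - 1) c) := by
  have hmem : φ ((Top N - 1) c) ∈ Hlt X 1 := by
    apply hφ.map 1
    apply (Low.top_sub_one hN).map (1 + r)
    rw [show 1 + r + 1 = r + 2 by omega]
    exact hc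
  induction m with
  | zero => simp
  | succ m ih =>
    have e1 : (Top N ^ (m + 1) - 1 : AddMonoid.End (K0 X)) = (Top N ^ m - 1) + Top N ^ m * (Top N - 1) := by
      rw [pow_succ, mul_sub, mul_one]
      abel
    rw [e1]
    show φ ((Top N ^ m - 1) c + (Top N ^ m) ((Top N - 1) c)) = _
    rw [map_add, ih, succ_nsmul]
    congr 1
    have hcomm : Commute (Top N ^ m) φ := (hφ.comm N hN).pow_left m
    have e2 : φ ((Top N ^ m) ((Top N - 1) c)) = (Top N ^ m) (φ ((Top N - 1) c)) := by
      show (φ * Top N ^ m) ((Top N - 1) c) = (Top N ^ m * φ) ((Top N - 1) c)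
      rw [hcomm.eq]
    rw [e2, top_pow_apply hN m _ hmem]

/-- `[N]^p - 1 ≡ p ([N] - 1)` modulo operators lowering by two -/
theorem low_pow_sub {N : X.Modules} (hN : PicF.IsInvertible N) (p : ℕ) :
    Low 2 (Top N ^ p - 1 - p • (Top N - 1)) ∧ Low 1 (Top N ^ p - 1) := by
  induction p with
  | zero =>
    simp only [pow_zero, sub_self, zero_nsmul]
    exact ⟨Low.zero 2, Low.zero 1⟩
  | succ p ih =>
    have e1 : (Top N ^ (p + 1) - 1 : AddMonoid.End (K0 X)) = (Top N ^ p - 1) + Top N ^ p * (Top N - 1) := by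
      rw [pow_succ, mul_sub, mul_one]
      abel
    have h1 : Low 1 (Top N ^ (p + 1) - 1) := by
      rw [e1]
      exact ih.2.add ((Low.top hN).pow_zero' p |>.mul (Low.top_sub_one hN) |> fun h => by simpa using h)
    refine ⟨?_, h1⟩
    have e2 : (Top N ^ (p + 1) - 1 - (p + 1) • (Top N - 1) : AddMonoid.End (K0 X)) =
        (Top N ^ p - 1 - p • (Top N - 1)) + (Top N ^ p - 1) * (Top N - 1) := by
      rw [e1, succ_nsmul, sub_mul, one_mul]
      abel
    rw [e2]
    exact ih.1.add (ih.2.mul (Low.top_sub_one hN))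

/-- `[A ⊗ B] - 1 = ([A] - 1) + ([B] - 1) + ([A] - 1)([B] - 1)` -/
theorem top_tensorMod_sub_one {A B : X.Modules} (hA : PicF.IsInvertible A) (hB : PicF.IsInvertible B) :
    (Top (CohB1.tensorMod A B) - 1 : AddMonoid.End (K0 X)) =
      (Top A - 1) + (Top B - 1) + (Top A - 1) * (Top B - 1) := by
  rw [Top_tensorMod A B hA hB, sub_mul, mul_sub, mul_sub, one_mul, mul_one, mul_one]
  abel

/-- the polarisation congruence: `[L^p ⊗ H^q] - 1 ≡ p([L] - 1) + q([H] - 1)` modulo operators lowering by two -/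
theorem low_polar {L H : X.Modules} (hL : PicF.IsInvertible L) (hH : PicF.IsInvertible H) (p q : ℕ) :
    Low 2 (Top (CohB1.tensorMod (CohB1.tensorPow L p) (CohB1.tensorPow H q)) - 1 -
      (p • (Top L - 1) + q • (Top H - 1))) := by
  have hLp := Groth.Agent.Lib.Helper28.GenLocus.isInvertible_tensorPow hL p
  have hHq := Groth.Agent.Lib.Helper28.GenLocus.isInvertible_tensorPow hH q
  rw [top_tensorMod_sub_one hLp hHq, Top_tensorPow L hL p, Top_tensorPow H hH q]
  have e : ((Top L ^ p - 1) + (Top H ^ q - 1) + (Top L ^ p - 1) * (Top H ^ q - 1) -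
      (p • (Top L - 1) + q • (Top H - 1)) : AddMonoid.End (K0 X)) =
      (Top L ^ p - 1 - p • (Top L - 1)) + (Top H ^ q - 1 - q • (Top H - 1)) +
        (Top L ^ p - 1) * (Top H ^ q - 1) := by abel
  rw [e]
  exact ((low_pow_sub hL p).1.add (low_pow_sub hH q).1).add ((low_pow_sub hL p).2.mul (low_pow_sub hH q).2)

/-- if `z ≡ w` modulo operators lowering by two (both lowering by one, commuting), then `z^d ≡ w^d` modulo
operators lowering by `d + 1` -/
theorem low_pow_sub_pow {z w : AddMonoid.End (K0 X)} (hz : Low 1 z) (hw : Low 1 w) (hzw : Low 2 (z - w))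
    (d : ℕ) : Low (d + 1) (z ^ d - w ^ d) := by
  induction d with
  | zero =>
    simp only [pow_zero, sub_self]
    exact Low.zero _
  | succ d ih =>
    have e : z ^ (d + 1) - w ^ (d + 1) = z * (z ^ d - w ^ d) + (z - w) * w ^ d := by
      rw [pow_succ', pow_succ', mul_sub, sub_mul]
      abel
    rw [e]
    have h1 : Low (d + 1 + 1) (z * (z ^ d - w ^ d)) := by
      have := hz.mul ih
      rwa [show 1 + (d + 1) = d + 1 + 1 by omega] at this
    have h2 : Low (d + 1 + 1) ((z - w) * w ^ d) := by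
      have := hzw.mul (hw.pow d)
      rwa [show 2 + d = d + 1 + 1 by omega] at this
    exact h1.add h2

section chi
variable (k : Type u) [Field k] [X.Over (Spec (CommRingCat.of k))]
    [IsProper (X ↘ (Spec (CommRingCat.of k)))]

/-- the functional `φ ↦ χ(φ c)` on operators -/
noncomputable def ev (c : K0 X) : AddMonoid.End (K0 X) →+ ℤ where
  toFun φ := eulerHom k X (φ c)
  map_zero' := by simp
  map_add' φ ψ := by
    show eulerHom k X (φ c + ψ c) = _
    rw [map_add]

theorem ev_apply (c : K0 X) (φ : AddMonoid.End (K0 X)) : ev k c φ = eulerHom k X (φ c) := rfl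

/-- the polarisation identity, with an extra factor `ψ` -/
theorem ev_mul_pow_polar {L H : X.Modules} (hL : PicF.IsInvertible L) (hH : PicF.IsInvertible H) (p q : ℕ)
    {s : ℕ} {ψ : AddMonoid.End (K0 X)} (hψ : Low s ψ) (d : ℕ) (c : K0 X) (hc : c ∈ Hlt X (s + (d + 1))) :
    ev k c (ψ * (Top (CohB1.tensorMod (CohB1.tensorPow L p) (CohB1.tensorPow H q)) - 1) ^ d) =
      ∑ m ∈ Finset.range (d + 1), ((d.choose m : ℤ) * (p : ℤ) ^ m * (q : ℤ) ^ (d - m)) *
        ev k c (ψ * ((Top L - 1) ^ m * (Top H - 1) ^ (d - m))) := by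
  set x : AddMonoid.End (K0 X) := Top L - 1 with hx
  set y : AddMonoid.End (K0 X) := Top H - 1 with hy
  set z : AddMonoid.End (K0 X) := Top (CohB1.tensorMod (CohB1.tensorPow L p) (CohB1.tensorPow H q)) - 1 with hz
  set w : AddMonoid.End (K0 X) := p • x + q • y with hw
  have hLx : Low 1 x := Low.top_sub_one hL
  have hLy : Low 1 y := Low.top_sub_one hH
  have hLz : Low 1 z := Low.top_sub_one (Groth.Agent.Lib.Helper28.GenLocus.isInvertible_tensorMod
    (Groth.Agent.Lib.Helper28.GenLocus.isInvertible_tensorPow hL p)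
    (Groth.Agent.Lib.Helper28.GenLocus.isInvertible_tensorPow hH q))
  have hLw : Low 1 w := (hLx.nsmul p).add (hLy.nsmul q)
  have hzw : Low 2 (z - w) := low_polar hL hH p q
  have h1 : (ψ * (z ^ d - w ^ d)) c = 0 := (hψ.mul (low_pow_sub_pow hLz hLw hzw d)).apply_eq_zero c hc
  have h2 : ev k c (ψ * z ^ d) = ev k c (ψ * w ^ d) := by
    have e : ψ * z ^ d = ψ * w ^ d + ψ * (z ^ d - w ^ d) := by rw [mul_sub]; abel
    rw [e, map_add, ev_apply k c (ψ * (z ^ d - w ^ d)), h1, map_zero, add_zero]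
  rw [h2]
  have hcomm : Commute (p • x) (q • y) := by
    have hxy : Commute x y := by
      have := Top_comm L H hL hH
      exact ((Commute.sub_left (show Commute (Top L) (Top H) from this) (Commute.one_left _))).sub_right
        (Commute.one_right _)
    exact (hxy.smul_left p).smul_right q
  rw [hw, hcomm.add_pow, Finset.mul_sum, map_sum]
  apply Finset.sum_congr rfl
  intro m _
  have e : ψ * ((p • x) ^ m * (q • y) ^ (d - m) * (d.choose m : AddMonoid.End (K0 X))) =
      (d.choose m * p ^ m * q ^ (d - m)) • (ψ * (x ^ m * y ^ (d - m))) := by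
    rw [smul_pow, smul_pow, smul_mul_assoc, mul_smul_comm, ← nsmul_eq_mul', mul_smul_comm, mul_smul_comm,
      mul_smul_comm, smul_smul, smul_smul]
  rw [e, map_nsmul, nsmul_eq_mul]
  push_cast
  rfl

end chi

end Groth.Agent.Lib.Helper4.KLM1
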