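import Groth.Agent.Lib.Helper4.KLM1
import Groth.Agent.Lib.Helper2.IntNum8
set_option backward.isDefEq.respectTransparency.types false
set_option autoImplicit false
set_option linter.style.haveILetI false
set_option linter.unusedSectionVars false

universe u
open CategoryTheory CategoryTheory.Limits AlgebraicGeometry Opposite TopologicalSpace

namespace Groth.Agent.Lib.Helper4.KLM2
open Groth.Agent.Lib.Helper6.K0Filt Groth.Agent.Lib.Helper6.K0Len Groth.Agent.Lib.Helper6.K0Op
  Groth.Agent.Lib.Helper6.K0Tensor Groth.Agent.Lib.Helper4.Snapper Groth.Agent.Lib.Helper4.KLM1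

variable (k : Type u) [Field k] {X : Scheme.{u}} [X.Over (Spec (CommRingCat.of k))]
    [IsProper (X ↘ (Spec (CommRingCat.of k)))]

open Classical in
/-- **the cycle formula for an operator lowering the filtration by `r`** -/
theorem ev_eq_cycle_sum {r : ℕ} {φ : AddMonoid.End (K0 X)} (hφ : Low r φ) (F : X.Modules) (hF : Coh.IsCoh F)
    (hsupp : topologicalKrullDim (CohB1.support F) ≤ (r : WithBot ℕ∞)) :
    Fin (Dn r) F ∧ ev k (cls F) φ =
      ∑ᶠ ξ : X, if Dn r ξ then ((len F ξ).toNat : ℤ) * ev k (cls (OZ ξ)) φ else 0 := by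
  haveI : IsNoetherian X := isNoetherian_of_proper k
  obtain ⟨hfin, hmem⟩ := cycle_formula_dim r (CohB1.support F)
    (Groth.Agent.Lib.Helper6.DevCore.isClosed_support F hF) hsupp F hF le_rfl
  refine ⟨hfin, ?_⟩
  have h0 := hφ.apply_eq_zero _ hmem
  rw [map_sub, sub_eq_zero] at h0
  rw [ev_apply, h0]
  change ((eulerHom k X).comp (φ : K0 X →+ K0 X)) (finsum (term (Dn r) F)) = _
  rw [AddMonoidHom.map_finsum _ (hfin.1.subset (support_term_subset (Dn r) F))]
  apply finsum_congr
  intro ξ
  unfold term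
  split_ifs with h
  · rw [map_nsmul, nsmul_eq_mul]
    rfl
  · rw [map_zero]

/-- nonnegativity on points implies nonnegativity on coherent modules -/
theorem ev_nonneg_of_points {r : ℕ} {φ : AddMonoid.End (K0 X)} (hφ : Low r φ)
    (h : ∀ ξ : X, Dn r ξ → 0 ≤ ev k (cls (OZ ξ)) φ) (F : X.Modules) (hF : Coh.IsCoh F)
    (hsupp : topologicalKrullDim (CohB1.support F) ≤ (r : WithBot ℕ∞)) : 0 ≤ ev k (cls F) φ := by
  classical
  rw [(ev_eq_cycle_sum k hφ F hF hsupp).2]
  apply finsum_nonneg
  intro ξ
  split_ifs with hξ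
  · exact mul_nonneg (Int.natCast_nonneg _) (h ξ hξ)
  · exact le_rfl

/-- positivity on points implies positivity on coherent modules with support of dimension exactly `r` -/
theorem ev_pos_of_points {r : ℕ} {φ : AddMonoid.End (K0 X)} (hφ : Low r φ)
    (h : ∀ ξ : X, Dn r ξ → 0 < ev k (cls (OZ ξ)) φ) (F : X.Modules) (hF : Coh.IsCoh F)
    (hsupp : topologicalKrullDim (CohB1.support F) = (r : WithBot ℕ∞)) : 0 < ev k (cls F) φ := by
  classical
  haveI : IsNoetherian X := isNoetherian_of_proper k
  have hcl := Groth.Agent.Lib.Helper6.DevCore.isClosed_support F hF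
  obtain ⟨η, hηF, hη⟩ := Groth.Agent.Lib.Helper4.DimChain.exists_mem_dim_closure_eq _ hcl r hsupp
  obtain ⟨hfin, hsum⟩ := ev_eq_cycle_sum k hφ F hF hsupp.le
  rw [hsum]
  set f : X → ℤ := fun ξ => if Dn r ξ then ((len F ξ).toNat : ℤ) * ev k (cls (OZ ξ)) φ else 0 with hf
  have hnn : ∀ ξ, 0 ≤ f ξ := by
    intro ξ
    simp only [hf]
    split_ifs with hξ
    · exact mul_nonneg (Int.natCast_nonneg _) (h ξ hξ).le
    · exact le_rfl
  have hsub : Function.support f ⊆ {x : X | Dn r x ∧ x ∈ CohB1.support F} := by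
    intro ξ hξ
    rw [Function.mem_support] at hξ
    simp only [hf] at hξ
    by_cases hDn : Dn r ξ
    · refine ⟨hDn, ?_⟩
      by_contra hxs
      apply hξ
      rw [if_pos hDn, len_eq_zero_of_notMem_support _ ξ hxs]
      simp
    · exfalso
      apply hξ
      rw [if_neg hDn]
  have hfs : Function.HasFiniteSupport f := hfin.1.subset hsub
  refine lt_of_lt_of_le ?_ (single_le_finsum η hfs hnn)
  have hDη : Dn r η := hη
  show 0 < (if Dn r η then ((len F η).toNat : ℤ) * ev k (cls (OZ η)) φ else 0)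
  rw [if_pos hDη]
  apply mul_pos _ (h η hDη)
  have h1 : len F η ≠ 0 := by
    unfold len
    rw [Ne, Module.length_eq_zero_iff]
    exact hηF
  have h2 : len F η ≠ ⊤ := hfin.2 η hDη
  have : 0 < (len F η).toNat := by
    rw [Nat.pos_iff_ne_zero, Ne, ENat.toNat_eq_zero]
    tauto
  exact_mod_cast this

section restr
open Groth.Agent.Lib.Helper2.IntNum1 Groth.Agent.Lib.Helper2.IntNum4

/-- Euler characteristics of monomials in two twist operators, on `X` and on a closed subscheme -/
theorem ev_monomial_quotMod_eq (I : X.IdealSheafData) {A B : X.Modules} (hA : PicF.IsInvertible A)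
    (hB : PicF.IsInvertible B) (s t : ℕ) :
    letI : I.subscheme.Over (Spec (CommRingCat.of k)) := ⟨I.subschemeι ≫ (X ↘ (Spec (CommRingCat.of k)))⟩
    haveI : IsProper (I.subscheme ↘ (Spec (CommRingCat.of k))) :=
      inferInstanceAs (IsProper (I.subschemeι ≫ (X ↘ (Spec (CommRingCat.of k)))))
    ev k (cls (ClSub.quotMod I)) (Top A ^ s * Top B ^ t) =
      ev k (cls (Coh.structureModule I.subscheme))
        (Top ((Scheme.Modules.pullback I.subschemeι).obj A) ^ s *
          Top ((Scheme.Modules.pullback I.subschemeι).obj B) ^ t) := by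
  letI : I.subscheme.Over (Spec (CommRingCat.of k)) := ⟨I.subschemeι ≫ (X ↘ (Spec (CommRingCat.of k)))⟩
  haveI : IsProper (I.subscheme ↘ (Spec (CommRingCat.of k))) :=
    inferInstanceAs (IsProper (I.subschemeι ≫ (X ↘ (Spec (CommRingCat.of k)))))
  have hM : ∀ i, PicF.IsInvertible ((![A, B] : _root_.Fin 2 → X.Modules) i) := by
    intro i; fin_cases i
    · exact hA
    · exact hB
  have h := chi_list_quotMod_eq k I (![A, B] : _root_.Fin 2 → X.Modules) hM
    (List.replicate s 0 ++ List.replicate t 1)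
  simp only [List.map_append, List.map_replicate, List.prod_append, List.prod_replicate,
    Matrix.cons_val_zero, Matrix.cons_val_one] at h
  exact h

/-- the relation "same Euler characteristics against all twists" between operators on `X` and on the
closed subscheme -/
theorem ev_pow_mul_pow_quotMod_eq (I : X.IdealSheafData) {A B : X.Modules} (hA : PicF.IsInvertible A)
    (hB : PicF.IsInvertible B) (a b : ℕ) :
    letI : I.subscheme.Over (Spec (CommRingCat.of k)) := ⟨I.subschemeι ≫ (X ↘ (Spec (CommRingCat.of k)))⟩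
    haveI : IsProper (I.subscheme ↘ (Spec (CommRingCat.of k))) :=
      inferInstanceAs (IsProper (I.subschemeι ≫ (X ↘ (Spec (CommRingCat.of k)))))
    ev k (cls (ClSub.quotMod I)) ((Top A - 1) ^ a * (Top B - 1) ^ b) =
      ev k (cls (Coh.structureModule I.subscheme))
        ((Top ((Scheme.Modules.pullback I.subschemeι).obj A) - 1) ^ a *
          (Top ((Scheme.Modules.pullback I.subschemeι).obj B) - 1) ^ b) := by
  letI : I.subscheme.Over (Spec (CommRingCat.of k)) := ⟨I.subschemeι ≫ (X ↘ (Spec (CommRingCat.of k)))⟩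
  haveI : IsProper (I.subscheme ↘ (Spec (CommRingCat.of k))) :=
    inferInstanceAs (IsProper (I.subschemeι ≫ (X ↘ (Spec (CommRingCat.of k)))))
  set A' := (Scheme.Modules.pullback I.subschemeι).obj A with hA'
  set B' := (Scheme.Modules.pullback I.subschemeι).obj B with hB'
  have hA'i : PicF.IsInvertible A' := Groth.Agent.Lib.Helper28.PullbackInv.isInvertible_pullback I.subschemeι hA
  have hB'i : PicF.IsInvertible B' := Groth.Agent.Lib.Helper28.PullbackInv.isInvertible_pullback I.subschemeι hB
  -- the relation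
  let R : AddMonoid.End (K0 X) → AddMonoid.End (K0 I.subscheme) → Prop := fun φ φ' =>
    ∀ s t : ℕ, ev k (cls (ClSub.quotMod I)) (φ * (Top A ^ s * Top B ^ t)) =
      ev k (cls (Coh.structureModule I.subscheme)) (φ' * (Top A' ^ s * Top B' ^ t))
  have hcAB : Commute (Top A) (Top B) := Top_comm A B hA hB
  have hcAB' : Commute (Top A') (Top B') := Top_comm A' B' hA'i hB'i
  have R1 : R 1 1 := by
    intro s t
    rw [one_mul, one_mul]
    exact ev_monomial_quotMod_eq k I hA hB s t
  have Rsub : ∀ φ φ' ψ ψ', R φ φ' → R ψ ψ' → R (φ - ψ) (φ' - ψ') := by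
    intro φ φ' ψ ψ' h1 h2 s t
    rw [sub_mul, sub_mul, map_sub, map_sub, h1 s t, h2 s t]
  have RA : ∀ φ φ', R φ φ' → R (φ * Top A) (φ' * Top A') := by
    intro φ φ' h s t
    have e1 : φ * Top A * (Top A ^ s * Top B ^ t) = φ * (Top A ^ (s + 1) * Top B ^ t) := by
      rw [mul_assoc, ← mul_assoc (Top A), ← pow_succ']
    have e2 : φ' * Top A' * (Top A' ^ s * Top B' ^ t) = φ' * (Top A' ^ (s + 1) * Top B' ^ t) := by
      rw [mul_assoc, ← mul_assoc (Top A'), ← pow_succ']
    rw [e1, e2]
    exact h (s + 1) t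
  have RB : ∀ φ φ', R φ φ' → R (φ * Top B) (φ' * Top B') := by
    intro φ φ' h s t
    have e1 : φ * Top B * (Top A ^ s * Top B ^ t) = φ * (Top A ^ s * Top B ^ (t + 1)) := by
      rw [mul_assoc, ← mul_assoc (Top B), ((hcAB.pow_left s).symm).eq, mul_assoc, ← pow_succ']
    have e2 : φ' * Top B' * (Top A' ^ s * Top B' ^ t) = φ' * (Top A' ^ s * Top B' ^ (t + 1)) := by
      rw [mul_assoc, ← mul_assoc (Top B'), ((hcAB'.pow_left s).symm).eq, mul_assoc, ← pow_succ']
    rw [e1, e2]
    exact h s (t + 1)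
  have RA1 : ∀ φ φ', R φ φ' → R (φ * (Top A - 1)) (φ' * (Top A' - 1)) := by
    intro φ φ' h
    rw [mul_sub, mul_sub, mul_one, mul_one]
    exact Rsub _ _ _ _ (RA φ φ' h) h
  have RB1 : ∀ φ φ', R φ φ' → R (φ * (Top B - 1)) (φ' * (Top B' - 1)) := by
    intro φ φ' h
    rw [mul_sub, mul_sub, mul_one, mul_one]
    exact Rsub _ _ _ _ (RB φ φ' h) h
  have RAa : ∀ a : ℕ, R ((Top A - 1) ^ a) ((Top A' - 1) ^ a) := by
    intro a
    induction a with
    | zero => simpa using R1
    | succ a ih => rw [pow_succ, pow_succ]; exact RA1 _ _ ih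
  have RAB : ∀ b : ℕ, R ((Top A - 1) ^ a * (Top B - 1) ^ b) ((Top A' - 1) ^ a * (Top B' - 1) ^ b) := by
    intro b
    induction b with
    | zero => simpa using RAa a
    | succ b ih => rw [pow_succ, pow_succ, ← mul_assoc, ← mul_assoc]; exact RB1 _ _ ih
  have := RAB b 0 0
  simpa using this

end restr

section integral

/-- on an integral scheme of dimension `n`, the only point with closure of dimension `n` is the generic point -/
theorem eq_genericPoint_of_Dn [IsIntegral X] (n : ℕ) (hdim : topologicalKrullDim X = (n : WithBot ℕ∞))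
    (ξ : X) (hξ : Dn n ξ) : ξ = genericPoint X := by
  have hcl : closure ({ξ} : Set X) = Set.univ := by
    by_contra hne
    have h1 := Groth.Agent.Lib.Helper24.ConnDimSub.dim_add_one_le
      (IrreducibleSpace.isIrreducible_univ X) (isClosed_closure (s := ({ξ} : Set X))) (Set.subset_univ _) hne
    rw [(Homeomorph.Set.univ X).isHomeomorph.topologicalKrullDim_eq, hdim] at h1
    have h2 : topologicalKrullDim ↥(closure ({ξ} : Set X)) = (n : WithBot ℕ∞) := hξ
    rw [h2] at h1
    have : ((n + 1 : ℕ) : WithBot ℕ∞) ≤ (n : WithBot ℕ∞) := by exact_mod_cast h1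
    have : n + 1 ≤ n := by exact_mod_cast this
    omega
  have h1 : IsGenericPoint ξ (Set.univ : Set X) := hcl
  exact h1.eq (genericPoint_spec X)

theorem dn_genericPoint [IsIntegral X] (n : ℕ) (hdim : topologicalKrullDim X = (n : WithBot ℕ∞)) :
    Dn n (genericPoint X) := by
  show topologicalKrullDim ↥(closure ({genericPoint X} : Set X)) = (n : WithBot ℕ∞)
  rw [(genericPoint_spec X).def, (Homeomorph.Set.univ X).isHomeomorph.topologicalKrullDim_eq, hdim]

/-- **on an integral scheme of dimension `n`, top-degree numbers of `O_X` and of `O_{Z(ξ)}` (`ξ` generic) agree** -/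
theorem ev_structureModule_eq [IsIntegral X] (n : ℕ) (hdim : topologicalKrullDim X = (n : WithBot ℕ∞))
    {φ : AddMonoid.End (K0 X)} (hφ : Low n φ) :
    ev k (cls (Coh.structureModule X)) φ = ev k (cls (OZ (genericPoint X))) φ := by
  classical
  have hO : Coh.IsCoh (Coh.structureModule X) := Groth.Agent.Lib.Helper6.DevRed.isCoh_structureModule
  have hsupp : topologicalKrullDim (CohB1.support (Coh.structureModule X)) ≤ (n : WithBot ℕ∞) := by
    rw [← hdim]
    exact topologicalKrullDim_subspace_le X _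
  rw [(ev_eq_cycle_sum k hφ _ hO hsupp).2, finsum_eq_single _ (genericPoint X)]
  · rw [if_pos (dn_genericPoint n hdim), len_genericPoint_of_isInvertible _
      (Groth.Agent.Lib.Helper28.AmpleUnit.isInvertible_structureModule X)]
    simp
  · intro ξ hξ
    rw [if_neg]
    intro h
    exact hξ (eq_genericPoint_of_Dn n hdim ξ h)

include k in
/-- an ample module on a nonempty scheme has a nonzero section of a positive power -/
theorem exists_section_of_isAmple [Nonempty X] {N : X.Modules} (hN : CohB1.IsAmple N) :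
    ∃ (m : ℕ) (s : Coh.structureModule X ⟶ CohB1.tensorPow N (m + 1)), s ≠ 0 := by
  obtain ⟨x⟩ := (inferInstance : Nonempty X)
  obtain ⟨m, s, hx, -⟩ := hN.2.2 x
  refine ⟨m, s, ?_⟩
  rintro rfl
  rw [Groth.Agent.Lib.Helper28.GenLocus.genLocus_zero
    (Groth.Agent.Lib.Helper28.GenLocus.isInvertible_tensorPow hN.1 (m + 1))] at hx
  exact hx

/-- **the cut lemma**: on an integral scheme of dimension `d + 1` with an ample `N`, if `φ` (lowering by `d`) is
nonnegative on the integral closed subschemes of dimension `d`, then `φ ([N] - 1)` is nonnegative on `O_X` -/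
theorem ev_mul_top_sub_one_nonneg [IsIntegral X] (d : ℕ)
    (hdim : topologicalKrullDim X = ((d + 1 : ℕ) : WithBot ℕ∞)) {N : X.Modules} (hN : CohB1.IsAmple N)
    {φ : AddMonoid.End (K0 X)} (hφ : Low d φ) (h : ∀ η : X, Dn d η → 0 ≤ ev k (cls (OZ η)) φ) :
    0 ≤ ev k (cls (Coh.structureModule X)) (φ * (Top N - 1)) := by
  haveI : IsNoetherian X := isNoetherian_of_proper k
  have hO : Coh.IsCoh (Coh.structureModule X) := Groth.Agent.Lib.Helper6.DevRed.isCoh_structureModule
  obtain ⟨m, s, hs⟩ := exists_section_of_isAmple k hN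
  obtain ⟨Q, hQ, hQd, hrel⟩ := Groth.Agent.Lib.Helper2.IntNum7.exists_coker_relation k N hN.1 (m + 1) s hs d hdim
  have hOmem : cls (Coh.structureModule X) ∈ Hlt X (d + 2) := by
    apply cls_mem_Hlt _ hO (d + 1)
    rw [← hdim]
    exact topologicalKrullDim_subspace_le X _
  have h1 := apply_top_pow_sub_one hφ hN.1 (m + 1) _ hOmem
  rw [hrel] at h1
  have h2 : 0 ≤ ev k (cls Q) φ := ev_nonneg_of_points k hφ h Q hQ hQd
  rw [ev_apply, h1, map_nsmul, nsmul_eq_mul] at h2
  have h3 : ev k (cls (Coh.structureModule X)) (φ * (Top N - 1)) =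
      eulerHom k X (φ ((Top N - 1) (cls (Coh.structureModule X)))) := rfl
  rw [h3]
  have hm : (0 : ℤ) < ((m + 1 : ℕ) : ℤ) := by exact_mod_cast Nat.succ_pos m
  exact nonneg_of_mul_nonneg_right h2 hm

end integral

end Groth.Agent.Lib.Helper4.KLM2
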