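import Groth.Agent.Lib.Helper4.KLM4
set_option backward.isDefEq.respectTransparency.types false
set_option autoImplicit false
set_option linter.style.haveILetI false
set_option linter.unusedSectionVars false

universe u
open CategoryTheory CategoryTheory.Limits AlgebraicGeometry Opposite TopologicalSpace

namespace Groth.Agent.Lib.Helper4.KLM5
open Groth.Agent.Lib.Helper6.K0Filt Groth.Agent.Lib.Helper6.K0Len Groth.Agent.Lib.Helper6.K0Op
  Groth.Agent.Lib.Helper6.K0Tensor Groth.Agent.Lib.Helper4.Snapper Groth.Agent.Lib.Helper4.KLM1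
  Groth.Agent.Lib.Helper4.KLM2 Groth.Agent.Lib.Helper4.KLM4 Groth.Agent.Lib.Helper28

variable (k : Type u) [Field k] {X : Scheme.{u}} [X.Over (Spec (CommRingCat.of k))]
    [IsProper (X ↘ (Spec (CommRingCat.of k)))]

/-- Kleiman's theorem at the points of an arbitrary proper scheme -/
theorem kleiman_point {L H : X.Modules} (hL : PicF.IsInvertible L) (hnef : Nef k X L) (hH : CohB1.IsAmple H)
    (e : ℕ) (ξ : X) (hξ : Dn e ξ) (m : ℕ) (hm : m ≤ e) :
    0 ≤ ev k (cls (OZ ξ)) ((Top L - 1) ^ m * (Top H - 1) ^ (e - m)) :=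
  ev_point_nonneg_of_integral k e m (e - m)
    (fun Z _ _ _ A B hA hAn hB hZ => kleiman k e Z A B hA hAn hB hZ m hm) hL hnef hH ξ hξ

/-- **nef plus ample is ample**: for `L` nef and `H` ample, `L^p ⊗ H^q` is ample for `q > 0` -/
theorem isAmple_nef_tensor_ample {L H : X.Modules} (hL : PicF.IsInvertible L) (hnef : Nef k X L)
    (hH : CohB1.IsAmple H) (p q : ℕ) (hq : 0 < q) :
    CohB1.IsAmple (CohB1.tensorMod (CohB1.tensorPow L p) (CohB1.tensorPow H q)) := by
  have hMi : PicF.IsInvertible (CohB1.tensorMod (CohB1.tensorPow L p) (CohB1.tensorPow H q)) :=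
    GenLocus.isInvertible_tensorMod (GenLocus.isInvertible_tensorPow hL p) (GenLocus.isInvertible_tensorPow hH.1 q)
  apply Groth.Agent.Lib.Helper4.NM6.isAmple_of_pos k hMi
  apply pos_of_points k hMi
  intro e _ ξ hξ
  exact ev_polar_pos k hL hH p q hq e ξ hξ (fun m hm => kleiman_point k hL hnef hH e ξ hξ m hm)

/-- `L^p ⊗ H` is ample for `L` nef and `H` ample -/
theorem isAmple_nef_pow_tensor_ample {L H : X.Modules} (hL : PicF.IsInvertible L) (hnef : Nef k X L)
    (hH : CohB1.IsAmple H) (p : ℕ) : CohB1.IsAmple (CohB1.tensorMod (CohB1.tensorPow L p) H) := by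
  have h := isAmple_nef_tensor_ample k hL hnef hH p 1 one_pos
  obtain ⟨ν⟩ := InvQC.nonempty_unit_tensor_iso H
  have ν' : CohB1.tensorPow H 1 ≅ H := ν
  exact AmpleIso.isAmple_of_iso (PicGrp.tensorModIso (Iso.refl _) ν') h

/-- the degree on an integral curve, as a value of `ev` -/
theorem curveDeg_eq_ev [IsIntegral X] (hdim : topologicalKrullDim X = 1) {L : X.Modules} (hL : PicF.IsInvertible L) :
    Pic13.curveDeg k (X ↘ Spec (CommRingCat.of k)) L = ev k (cls (Coh.structureModule X)) (Top L - 1) := by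
  have hO : Coh.IsCoh (Coh.structureModule X) := Groth.Agent.Lib.Helper6.DevRed.isCoh_structureModule
  have h2 : ev k (cls (Coh.structureModule X)) (Top L - 1) = hcoef k X L 1 (cls (Coh.structureModule X)) := by
    show _ = eulerHom k X (((Top L - 1) ^ 1 : AddMonoid.End (K0 X)) (cls (Coh.structureModule X)))
    rw [pow_one]
    rfl
  rw [h2, Groth.Agent.Lib.Helper4.SN1.hcoef_one k L hL _ hO,
    Groth.Agent.Lib.Helper2.NumPull.curveDeg_eq k (X ↘ Spec (CommRingCat.of k)) hdim.le L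
      (isCoh_of_isInvertible L hL).1]
  obtain ⟨ν⟩ := InvQC.nonempty_unit_tensor_iso L
  rw [Groth.Agent.Lib.Helper8.EulerK.euler_congr k ν]
  show Curv2.euler k X L - ((1 : ℕ) : ℤ) * Curv2.euler k X (Coh.structureModule X) = _
  simp

/-- **a module all of whose twists `L^ν ⊗ A` (`ν > 0`) are ample is nef** -/
theorem nef_of_forall_isAmple {L A : X.Modules} (hL : PicF.IsInvertible L) (hA : CohB1.IsAmple A)
    (h : ∀ ν : ℕ, 0 < ν → CohB1.IsAmple (CohB1.tensorMod (CohB1.tensorPow L ν) A)) : Nef k X L := by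
  intro Y i _ hY hdim
  haveI := hY
  letI : Y.Over (Spec (CommRingCat.of k)) := ⟨i ≫ (X ↘ (Spec (CommRingCat.of k)))⟩
  haveI : IsProper (Y ↘ (Spec (CommRingCat.of k))) :=
    inferInstanceAs (IsProper (i ≫ (X ↘ (Spec (CommRingCat.of k)))))
  haveI : IsNoetherian Y := isNoetherian_of_proper k
  set L' := (Scheme.Modules.pullback i).obj L with hL'
  set A' := (Scheme.Modules.pullback i).obj A with hA'
  have hL'i : PicF.IsInvertible L' := PullbackInv.isInvertible_pullback i hL
  have hA'i : PicF.IsInvertible A' := PullbackInv.isInvertible_pullback i hA.1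
  have hO : Coh.IsCoh (Coh.structureModule Y) := Groth.Agent.Lib.Helper6.DevRed.isCoh_structureModule
  show 0 ≤ Pic13.curveDeg k (Y ↘ Spec (CommRingCat.of k)) L'
  rw [curveDeg_eq_ev k hdim hL'i]
  set c := cls (Coh.structureModule Y) with hc
  set δ := ev k c (Top L' - 1) with hδ
  set α := ev k c (Top A' - 1) with hα
  have hcmem : c ∈ Hlt Y (0 + (1 + 1)) := by
    rw [zero_add]
    apply cls_mem_Hlt _ hO 1
    have h1 : topologicalKrullDim ↥Y = ((1 : ℕ) : WithBot ℕ∞) := by rw [hdim]; rfl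
    rw [← h1]
    exact topologicalKrullDim_subspace_le Y _
  have hsupp : topologicalKrullDim (CohB1.support (Coh.structureModule Y)) = ((1 : ℕ) : WithBot ℕ∞) := by
    rw [support_of_isInvertible _ (AmpleUnit.isInvertible_structureModule Y),
      (Homeomorph.Set.univ Y).isHomeomorph.topologicalKrullDim_eq, hdim]
    rfl
  -- the degrees of the twists are positive
  have key : ∀ ν : ℕ, 0 < ν → 0 < α + (ν : ℤ) * δ := by
    intro ν hν
    have h1 := Groth.Agent.Lib.Helper4.AmpleComp.isAmple_pullback_of_isClosedImmersion i (h ν hν)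
    obtain ⟨ψ₁, -⟩ := PullbackInv.exists_pullback_tensorMod_iso i (GenLocus.isInvertible_tensorPow hL ν) hA.1
    obtain ⟨ψ₂, -⟩ := PullbackInv.exists_pullback_tensorPow_iso i hL ν
    obtain ⟨ν₀⟩ := InvQC.nonempty_unit_tensor_iso A'
    have ν' : CohB1.tensorPow A' 1 ≅ A' := ν₀
    have h2 : CohB1.IsAmple (CohB1.tensorMod (CohB1.tensorPow L' ν) (CohB1.tensorPow A' 1)) :=
      AmpleIso.isAmple_of_iso (ψ₁ ≪≫ PicGrp.tensorModIso ψ₂ ν'.symm) h1
    have h3 := hcoef_pos k _ h2 1 _ hO hsupp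
    have h4 := ev_mul_pow_polar k hL'i hA'i ν 1 Low.one 1 c hcmem
    simp only [one_mul] at h4
    have h5 : hcoef k Y (CohB1.tensorMod (CohB1.tensorPow L' ν) (CohB1.tensorPow A' 1)) 1 c =
        ev k c ((Top (CohB1.tensorMod (CohB1.tensorPow L' ν) (CohB1.tensorPow A' 1)) - 1) ^ 1) := rfl
    rw [h5, h4, Finset.sum_range_succ, Finset.sum_range_one] at h3
    simp only [Nat.choose_zero_right, Nat.cast_one, pow_zero, one_mul, Nat.sub_zero, pow_one, Nat.choose_self,
      Nat.sub_self, mul_one] at h3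
    exact h3
  by_contra hneg
  push Not at hneg
  have h1 := key (α.toNat + 1) (Nat.succ_pos _)
  have h2 : α ≤ (α.toNat : ℤ) := Int.self_le_toNat α
  have h3 : ((α.toNat + 1 : ℕ) : ℤ) * δ ≤ -((α.toNat + 1 : ℕ) : ℤ) := by
    have : δ ≤ -1 := by omega
    have hpos : (0 : ℤ) ≤ ((α.toNat + 1 : ℕ) : ℤ) := Int.natCast_nonneg _
    nlinarith
  push_cast at h1 h3
  omega

/-- **nef ⇔ all twists `L^ν ⊗ A` ample** (the statement of S16894) -/
theorem main (k : Type u) [Field k] [IsAlgClosed k]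
    (X : Scheme.{u}) [X.Over (Spec (CommRingCat.of k))] [IsProper (X ↘ Spec (CommRingCat.of k))]
    [Smooth (X ↘ Spec (CommRingCat.of k))] [IrreducibleSpace X] (n : ℕ) (hn : topologicalKrullDim X = n)
    (A : X.Modules) (hA : CohB1.IsAmple A) (L : X.Modules) (hL : PicF.IsInvertible L) :
    (∀ (Y : Scheme.{u}) (i : Y ⟶ X) [IsClosedImmersion i], IsIntegral Y → topologicalKrullDim Y = 1 →
      0 ≤ Pic13.curveDeg k (i ≫ (X ↘ Spec (CommRingCat.of k))) ((Scheme.Modules.pullback i).obj L)) ↔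
      ∀ ν : ℕ, 0 < ν → CohB1.IsAmple (CohB1.tensorMod (CohB1.tensorPow L ν) A) := by
  constructor
  · intro hnef ν _
    exact isAmple_nef_pow_tensor_ample k hL hnef hA ν
  · intro h
    exact nef_of_forall_isAmple k hL hA h

end Groth.Agent.Lib.Helper4.KLM5
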