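import Mathlib.Tactic
import Mathlib.AlgebraicGeometry.Sites.Fpqc
import Groth.Prelude.Def_ChGrp
import Groth.Agent.Lib.Helper4.QuotTower
import Groth.Agent.Lib.Helper4.CovSieve

set_option autoImplicit false
universe u
open CategoryTheory MonoidalCategory CartesianMonoidalCategory MonObj AlgebraicGeometry Limits

namespace Groth.Agent.Lib.Helper4.KerAction

open CovSieve QuotTower

variable {S : Scheme.{u}}

/-- local lifting along a covering morphism, as an epi `T'' ⟶ T'` with a lift -/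
theorem exists_local_lift {X Y : Over S} (p : X ⟶ Y) (hp : CovMor p.left) {T' : Over S} (q : T' ⟶ Y) :
    ∃ (T'' : Over S) (p' : T'' ⟶ T') (gam : T'' ⟶ X), Epi p' ∧ gam ≫ p = p' ≫ q := by
  let T'' : Over S := Over.mk (pullback.snd p.left q.left ≫ T'.hom)
  let p' : T'' ⟶ T' := Over.homMk (pullback.snd p.left q.left) rfl
  let gam : T'' ⟶ X := Over.homMk (pullback.fst p.left q.left) (by
    show pullback.fst p.left q.left ≫ X.hom = pullback.snd p.left q.left ≫ T'.hom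
    rw [← Over.w p, ← Over.w q, pullback.condition_assoc])
  have hcov : CovMor p'.left := CovMor.of_isPullback hp (IsPullback.of_hasPullback p.left q.left)
  have hee : EffectiveEpi p'.left := hcov.effectiveEpi
  refine ⟨T'', p', gam, Over.epi_of_epi_left _, ?_⟩
  ext
  exact pullback.condition

section main
variable {G H Q N : Over S} [GrpObj G] [GrpObj H] [GrpObj N] (i : H ⟶ G) [IsMonHom i]
  (aQ : AlgGrp.Action G Q) (q₀ : 𝟙_ (Over S) ⟶ Q)
  (hsq : IsPullback ((G ◁ i) ≫ μ[G]) (fst G H) (aQ.orbitMap q₀) (aQ.orbitMap q₀))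
  (hcov : CovMor (aQ.orbitMap q₀).left)
  (n : N ⟶ G) [IsMonHom n]
  (hN : ∀ (T : Over S) (g : T ⟶ G),
      (∃ g' : T ⟶ N, g' ≫ n = g) ↔
        ∀ (T' : Over S) (v : T' ⟶ T) (q : T' ⟶ Q), lift (v ≫ g) q ≫ aQ.act = q)

include hN in
theorem triv_act {T : Over S} (x : T ⟶ N) (q : T ⟶ Q) : smul aQ (x ≫ n) q = q := by
  have := (hN T (x ≫ n)).mp ⟨x, rfl⟩ T (𝟙 T) q
  rw [Category.id_comp] at this
  exact this

include hN in
theorem normal : AlgGrp.IsNormalHom n := by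
  intro T g x
  have key : ∃ g' : T ⟶ N, g' ≫ n = g * (x ≫ n) * g⁻¹ := by
    rw [hN]
    intro T' v q
    show smul aQ (v ≫ (g * (x ≫ n) * g⁻¹)) q = q
    rw [MonObj.comp_mul, MonObj.comp_mul, GrpObj.comp_inv, ← QuotTower.smul_smul, ← QuotTower.smul_smul,
      ← Category.assoc, triv_act aQ n hN, QuotTower.smul_inv_smul]
  obtain ⟨g', hg'⟩ := key
  exact ⟨g', hg'.symm⟩

include hsq hN in
theorem le_stab : ∃ m : N ⟶ H, m ≫ i = n := by
  have h1 : n ≫ aQ.orbitMap q₀ = (1 : N ⟶ G) ≫ aQ.orbitMap q₀ := by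
    rw [one_comp_orbit, orbit]
    have := triv_act aQ n hN (𝟙 N) (toUnit N ≫ q₀)
    rwa [Category.id_comp] at this
  obtain ⟨m, hm⟩ := (QuotGrp.coeq_iff i (aQ.orbitMap q₀) hsq _ _).mp h1
  rw [_root_.one_mul] at hm
  exact ⟨m, hm.symm⟩

include hsq hcov hN in
theorem largest {N' : Over S} [GrpObj N'] (n' : N' ⟶ G) [IsMonHom n']
    (hnorm : AlgGrp.IsNormalHom n') (m' : N' ⟶ H) (hm' : m' ≫ i = n') : ∃ r : N' ⟶ N, r ≫ n = n' := by
  rw [hN]
  intro T' v q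
  show smul aQ (v ≫ n') q = q
  obtain ⟨T'', p', gam, hepi, hgam⟩ := exists_local_lift (aQ.orbitMap q₀) hcov q
  rw [← cancel_epi p', comp_smul, ← hgam, orbit, QuotTower.smul_smul]
  obtain ⟨ν', hν'⟩ := hnorm T'' gam⁻¹ (p' ≫ v)
  rw [inv_inv] at hν'
  have h2 : (p' ≫ v ≫ n') * gam = gam * (ν' ≫ n') := by
    rw [← hν', ← Category.assoc]; group
  rw [h2, ← QuotTower.smul_smul, ← orbit, ← hm', ← Category.assoc, stab_comp_orbit aQ q₀ i hsq]

end main

theorem main18763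
    (k : Type u) [Field k]
    (G : Over (Spec (CommRingCat.of k))) [GrpObj G]
    (H : Over (Spec (CommRingCat.of k))) [GrpObj H] (i : H ⟶ G) [IsMonHom i]
    (Q : Over (Spec (CommRingCat.of k))) (aQ : AlgGrp.Action G Q) (q₀ : 𝟙_ (Over (Spec (CommRingCat.of k))) ⟶ Q)
    (hQ : ChGrp.IsHomog Scheme.fppfPrecoverage i aQ q₀)
    (N : Over (Spec (CommRingCat.of k))) [GrpObj N] (n : N ⟶ G) [IsMonHom n]
    (hN : ∀ (T : Over (Spec (CommRingCat.of k))) (g : T ⟶ G),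
      (∃ g' : T ⟶ N, g' ≫ n = g) ↔
        ∀ (T' : Over (Spec (CommRingCat.of k))) (v : T' ⟶ T) (q : T' ⟶ Q), lift (v ≫ g) q ≫ aQ.act = q) :
    AlgGrp.IsNormalHom n ∧ (∃ m : N ⟶ H, m ≫ i = n) ∧
      ∀ (N' : Over (Spec (CommRingCat.of k))) [GrpObj N'] (n' : N' ⟶ G) [IsMonHom n'] [IsClosedImmersion n'.left],
        AlgGrp.IsNormalHom n' → (∃ m' : N' ⟶ H, m' ≫ i = n') → ∃ r : N' ⟶ N, r ≫ n = n' := by
  obtain ⟨-, hsq, hloc⟩ := hQ
  have hcov : CovMor (aQ.orbitMap q₀).left := covMor_of_isLocallyTrivialFor_fppf _ hloc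
  refine ⟨normal aQ n hN, le_stab i aQ q₀ hsq.flip n hN, ?_⟩
  intro N' _ n' _ _ hnorm ⟨m', hm'⟩
  exact largest i aQ q₀ hsq.flip hcov n hN n' hnorm m' hm'

end Groth.Agent.Lib.Helper4.KerAction
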