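import Mathlib.Tactic
import Groth.Agent.Lib.Helper4.KerPts

set_option autoImplicit false
universe u
open CategoryTheory MonoidalCategory CartesianMonoidalCategory MonObj GrpObj AlgebraicGeometry Limits

namespace Groth.Agent.Lib.Helper4.KerProd

open KerPts

variable {S : Scheme.{u}}

theorem main (G Ga Gb : Over S)
    [GrpObj G] [IsCommMonObj G] (n a b : ℕ) (hn : n = a * b) (hab : Nat.Coprime a b)
    (hG : (𝟙 G) ^ n = 1)
    (ia : Ga ⟶ G) (hia : AlgGrp.IsKernel ia ((𝟙 G) ^ a))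
    (ib : Gb ⟶ G) (hib : AlgGrp.IsKernel ib ((𝟙 G) ^ b)) :
    IsIso ((fst Ga Gb ≫ ia) * (snd Ga Gb ≫ ib)) := by
  obtain ⟨ka1, ka2⟩ := (isKernel_iff _ _).1 hia
  obtain ⟨kb1, kb2⟩ := (isKernel_iff _ _).1 hib
  have hp : ∀ (m : ℕ) (T : Over S) (x : T ⟶ G), x ≫ (𝟙 G) ^ m = x ^ m := by
    intro m T x
    rw [MonObj.comp_pow, Category.comp_id]
  simp only [hp] at ka1 ka2 kb1 kb2
  -- everything is killed by n
  have hn' : ∀ (T : Over S) (x : T ⟶ G), x ^ n = 1 := by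
    intro T x
    rw [← hp, hG, MonObj.comp_one]
  -- Bezout
  obtain ⟨u, v, huv⟩ : ∃ u v : ℤ, u * a + v * b = 1 := by
    have := Int.gcd_eq_gcd_ab a b
    rw [Int.gcd_natCast_natCast, hab, Nat.cast_one] at this
    exact ⟨Int.gcdA a b, Int.gcdB a b, by rw [this]; ring⟩
  have hva : ∀ (T : Over S) (x : T ⟶ G), (x ^ (v * b)) ^ a = 1 := by
    intro T x
    rw [← zpow_natCast, ← zpow_mul]
    have : v * (b : ℤ) * (a : ℤ) = (n : ℤ) * v := by rw [hn]; push_cast; ring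
    rw [this, zpow_mul, zpow_natCast, hn', one_zpow]
  have hub : ∀ (T : Over S) (x : T ⟶ G), (x ^ (u * a)) ^ b = 1 := by
    intro T x
    rw [← zpow_natCast, ← zpow_mul]
    have : u * (a : ℤ) * (b : ℤ) = (n : ℤ) * u := by rw [hn]; push_cast; ring
    rw [this, zpow_mul, zpow_natCast, hn', one_zpow]
  obtain ⟨ψa, hψa, -⟩ := ka2 G ((𝟙 G) ^ (v * b)) (hva G _)
  obtain ⟨ψb, hψb, -⟩ := kb2 G ((𝟙 G) ^ (u * a)) (hub G _)
  have hmonoa : ∀ (T : Over S) (y y' : T ⟶ Ga), y ≫ ia = y' ≫ ia → y = y' := by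
    intro T y y' hyy
    have hx : (y ≫ ia) ^ a = 1 := by
      rw [← MonObj.comp_pow, ka1, MonObj.comp_one]
    obtain ⟨z, hz1, hz2⟩ := ka2 T _ hx
    rw [hz2 y rfl, hz2 y' hyy.symm]
  have hmonob : ∀ (T : Over S) (y y' : T ⟶ Gb), y ≫ ib = y' ≫ ib → y = y' := by
    intro T y y' hyy
    have hx : (y ≫ ib) ^ b = 1 := by
      rw [← MonObj.comp_pow, kb1, MonObj.comp_one]
    obtain ⟨z, hz1, hz2⟩ := kb2 T _ hx
    rw [hz2 y rfl, hz2 y' hyy.symm]
  obtain ⟨f, hf⟩ : ∃ f, f = (fst Ga Gb ≫ ia) * (snd Ga Gb ≫ ib) := ⟨_, rfl⟩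
  rw [← hf]
  have hxa : (fst Ga Gb ≫ ia) ^ a = 1 := by
    rw [← MonObj.comp_pow, ka1, MonObj.comp_one]
  have hyb : (snd Ga Gb ≫ ib) ^ b = 1 := by
    rw [← MonObj.comp_pow, kb1, MonObj.comp_one]
  have hxa' : (fst Ga Gb ≫ ia) ^ (a : ℤ) = 1 := by rw [zpow_natCast]; exact hxa
  have hyb' : (snd Ga Gb ≫ ib) ^ (b : ℤ) = 1 := by rw [zpow_natCast]; exact hyb
  have e1 : f ^ (v * b) = fst Ga Gb ≫ ia := by
    rw [hf, mul_zpow]
    have h1 : (snd Ga Gb ≫ ib) ^ (v * (b : ℤ)) = 1 := by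
      rw [mul_comm, zpow_mul, hyb', one_zpow]
    have h2 : (fst Ga Gb ≫ ia) ^ (v * (b : ℤ)) = fst Ga Gb ≫ ia := by
      have : v * (b : ℤ) = 1 - (a : ℤ) * u := by rw [← huv]; ring
      rw [this, zpow_sub, zpow_one, zpow_mul, hxa', one_zpow, inv_one, _root_.mul_one]
    rw [h1, h2, _root_.mul_one]
  have e2 : f ^ (u * a) = snd Ga Gb ≫ ib := by
    rw [hf, mul_zpow]
    have h1 : (fst Ga Gb ≫ ia) ^ (u * (a : ℤ)) = 1 := by
      rw [mul_comm, zpow_mul, hxa', one_zpow]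
    have h2 : (snd Ga Gb ≫ ib) ^ (u * (a : ℤ)) = snd Ga Gb ≫ ib := by
      have : u * (a : ℤ) = 1 - (b : ℤ) * v := by rw [← huv]; ring
      rw [this, zpow_sub, zpow_one, zpow_mul, hyb', one_zpow, inv_one, _root_.mul_one]
    rw [h1, h2, _root_.one_mul]
  refine ⟨lift ψa ψb, ?_, ?_⟩
  · apply CartesianMonoidalCategory.hom_ext
    · rw [Category.assoc, lift_fst, Category.id_comp]
      apply hmonoa
      rw [Category.assoc, hψa, GrpObj.comp_zpow, Category.comp_id, e1]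
    · rw [Category.assoc, lift_snd, Category.id_comp]
      apply hmonob
      rw [Category.assoc, hψb, GrpObj.comp_zpow, Category.comp_id, e2]
  · rw [hf, MonObj.comp_mul, ← Category.assoc, lift_fst, ← Category.assoc, lift_snd, hψa, hψb,
      ← zpow_add, add_comm, huv, zpow_one]

end Groth.Agent.Lib.Helper4.KerProd
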