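import Mathlib.Tactic
import Mathlib.AlgebraicGeometry.Morphisms.QuasiCompact
import Mathlib.AlgebraicGeometry.Morphisms.ClosedImmersion
import Groth.Prelude.Def_W4stkremschemesLRS

set_option autoImplicit false
universe u
open CategoryTheory AlgebraicGeometry TopologicalSpace Opposite

namespace Groth.Agent.Lib.Helper4.KerQCoh

variable {X Y : Scheme.{u}}

/-- the stalk map of `f.c` as a ring hom with convenient types -/
noncomputable def stalkC (f : X ⟶ Y) (x' : Y) :
    Y.presheaf.stalk x' →+* (f.base _* X.presheaf).stalk x' :=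
  ((TopCat.Presheaf.stalkFunctor CommRingCat x').map f.c).hom

theorem stalkC_germ (f : X ⟶ Y) (U : Y.Opens) (x' : Y) (hx' : x' ∈ U) (a : Γ(Y, U)) :
    stalkC f x' ((Y.presheaf.germ U x' hx').hom a) =
      ((f.base _* X.presheaf).germ U x' hx').hom ((f.c.app (op U)).hom a) :=
  TopCat.Presheaf.stalkFunctor_map_germ_apply U x' hx' f.c a

theorem ker_stalk_le_span (f : X ⟶ Y) (U : Y.Opens) (hU : IsAffineOpen U)
    (hc : IsCompact (f ⁻¹ᵁ U).1) (x' : Y) (hx' : x' ∈ U) (t : Y.presheaf.stalk x')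
    (ht : stalkC f x' t = 0) :
    t ∈ Ideal.span (Set.range fun j : {a : Γ(Y, U) // (f.app U).hom a = 0} =>
      (Y.presheaf.germ U x' hx').hom j.1) := by
  let _ := Y.presheaf.algebra_section_stalk ⟨x', hx'⟩
  have hloc := hU.isLocalization_stalk ⟨x', hx'⟩
  obtain ⟨⟨a, b⟩, hab⟩ := IsLocalization.surj (hU.primeIdealOf ⟨x',hx'⟩).asIdeal.primeCompl t
  have hbu : IsUnit ((Y.presheaf.germ U x' hx').hom b.1) :=
    IsLocalization.map_units (M := (hU.primeIdealOf ⟨x',hx'⟩).asIdeal.primeCompl) _ b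
  have hab' : t * (Y.presheaf.germ U x' hx').hom b.1 = (Y.presheaf.germ U x' hx').hom a := hab
  -- germ of image of a vanishes
  have h0 : stalkC f x' ((Y.presheaf.germ U x' hx').hom a) = 0 := by
    rw [← hab', map_mul, ht, zero_mul]
  rw [stalkC_germ] at h0
  have h0' : ((f.base _* X.presheaf).germ U x' hx').hom ((f.c.app (op U)).hom a) =
      ((f.base _* X.presheaf).germ U x' hx').hom 0 := by rw [h0, map_zero]
  obtain ⟨W, hxW, iU, iV, hW⟩ := TopCat.Presheaf.germ_eq (f.base _* X.presheaf) x' hx' hx' _ _ h0'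
  obtain ⟨c, hcW, hxc⟩ := hU.exists_basicOpen_le ⟨x', hxW⟩ hx'
  -- restriction of f.app U a to the basic open of f.app U c vanishes
  have hle : X.basicOpen ((f.app U).hom c) ≤ f ⁻¹ᵁ W := by
    rw [← Scheme.preimage_basicOpen]
    exact f.preimage_mono hcW
  have hWU : f ⁻¹ᵁ W ≤ f ⁻¹ᵁ U := f.preimage_mono iU.le
  have hres : X.presheaf.map (homOfLE hWU).op ((f.app U).hom a) = 0 := by
    have := hW
    rw [map_zero] at this
    exact this
  have hres2 : X.presheaf.map (homOfLE (hle.trans hWU)).op ((f.app U).hom a) = 0 := by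
    have : (homOfLE (hle.trans hWU)).op = (homOfLE hWU).op ≫ (homOfLE hle).op := rfl
    rw [this, Functor.map_comp, CommRingCat.comp_apply, hres, map_zero]
  obtain ⟨n, hn⟩ := exists_pow_mul_eq_zero_of_res_basicOpen_eq_zero_of_isCompact X hc
    ((f.app U).hom a) ((f.app U).hom c) hres2
  have hker : (f.app U).hom (c ^ n * a) = 0 := by
    rw [map_mul, map_pow]; exact hn
  have hcu : IsUnit ((Y.presheaf.germ U x' hx').hom c) :=
    (Y.mem_basicOpen c x' hx').mp hxc
  have hmem : (Y.presheaf.germ U x' hx').hom (c ^ n * a) ∈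
      Ideal.span (Set.range fun j : {a : Γ(Y, U) // (f.app U).hom a = 0} =>
        (Y.presheaf.germ U x' hx').hom j.1) :=
    Ideal.subset_span ⟨⟨c ^ n * a, hker⟩, rfl⟩
  rw [map_mul, map_pow, ← hab', mul_comm, mul_assoc] at hmem
  have hu : IsUnit ((Y.presheaf.germ U x' hx').hom b.1 * (Y.presheaf.germ U x' hx').hom c ^ n) :=
    hbu.mul (hcu.pow n)
  exact (Ideal.mul_unit_mem_iff_mem _ hu).mp hmem

theorem kerLocallyGenerated_of_isCompact_preimage (f : X ⟶ Y)
    (hqc : ∀ U : Y.Opens, IsAffineOpen U → IsCompact (f ⁻¹ᵁ U).1) :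
    LRSImm.KerLocallyGenerated f.toLRSHom := by
  intro x
  obtain ⟨_, ⟨U, hU : IsAffineOpen U, rfl⟩, hxU, -⟩ :=
    (Y.isBasis_affineOpens).exists_subset_of_mem_open (Set.mem_univ x) isOpen_univ
  refine ⟨U, hxU, {a : Γ(Y,U) // (f.app U).hom a = 0}, fun j => j.1, fun j => j.2, ?_⟩
  intro x' hx'
  show (Ideal.span (Set.range fun j : {a : Γ(Y,U) // (f.app U).hom a = 0} =>
    (Y.presheaf.germ U x' hx').hom j.1) : Ideal (Y.presheaf.stalk x')) = RingHom.ker (stalkC f x')
  apply le_antisymm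
  · rw [Ideal.span_le]
    rintro _ ⟨j, rfl⟩
    show stalkC f x' ((Y.presheaf.germ U x' hx').hom j.1) = 0
    rw [stalkC_germ]
    have : (f.c.app (op U)).hom j.1 = 0 := j.2
    rw [this, map_zero]
  · intro t ht
    exact ker_stalk_le_span f U hU (hqc U hU) x' hx' t ht

theorem main9502 (f : X ⟶ Y) (h1 : Topology.IsClosedEmbedding f)
    (h2 : TopCat.Presheaf.IsLocallySurjective f.c) :
    LRSImm.IsClosedImmersion f.toLRSHom := by
  refine ⟨h1, h2, kerLocallyGenerated_of_isCompact_preimage f ?_⟩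
  intro U hU
  exact h1.isCompact_preimage hU.isCompact

end Groth.Agent.Lib.Helper4.KerQCoh
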