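import Mathlib.Algebra.Algebra.Operations
import Mathlib.Algebra.Group.Subgroup.Pointwise
import Mathlib.Algebra.Module.Equiv.Basic
import Mathlib.Algebra.Group.Pointwise.Set.ListOfFn
import Mathlib.Tactic

set_option autoImplicit false

namespace Groth.Agent.Lib.Helper4.KolchinSup

open Submodule

section Abstract

variable {K E : Type*} [CommSemiring K] [Semiring E] [Algebra K E]

theorem comm_pow (A T : Submodule K E) (hAT : A * T ≤ T * A) : ∀ n : ℕ, A ^ n * T ≤ T * A ^ n := by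
  intro n
  induction n with
  | zero => simp
  | succ n ih =>
    calc A ^ (n + 1) * T = A ^ n * (A * T) := by rw [pow_succ, mul_assoc]
      _ ≤ A ^ n * (T * A) := mul_le_mul' le_rfl hAT
      _ = (A ^ n * T) * A := by rw [mul_assoc]
      _ ≤ (T * A ^ n) * A := mul_le_mul' ih le_rfl
      _ = T * A ^ (n + 1) := by rw [mul_assoc, ← pow_succ]

theorem pow_mul_le (A T : Submodule K E) (h1 : 1 ≤ T) (hTT : T * T ≤ T) (hAT : A * T ≤ T * A) :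
    ∀ n : ℕ, (T * A) ^ n ≤ T * A ^ n := by
  intro n
  induction n with
  | zero => simpa using h1
  | succ n ih =>
    calc (T * A) ^ (n + 1) = (T * A) ^ n * (T * A) := pow_succ _ _
      _ ≤ (T * A ^ n) * (T * A) := mul_le_mul' ih le_rfl
      _ = T * (A ^ n * T) * A := by simp only [mul_assoc]
      _ ≤ T * (T * A ^ n) * A := mul_le_mul' (mul_le_mul' le_rfl (comm_pow A T hAT n)) le_rfl
      _ = (T * T) * (A ^ n * A) := by simp only [mul_assoc]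
      _ ≤ T * A ^ (n + 1) := by
        rw [← pow_succ]
        exact mul_le_mul' hTT le_rfl

theorem pow_le_of_mul_le (B T : Submodule K E) (h1 : 1 ≤ T) (hTT : T * T ≤ T) (hB : B ≤ T) :
    ∀ n : ℕ, B ^ n ≤ T := by
  intro n
  induction n with
  | zero => simpa using h1
  | succ n ih =>
    rw [pow_succ]
    exact (mul_le_mul' ih hB).trans hTT

theorem add_pow_le (J B T : Submodule K E) (h1 : 1 ≤ T) (hTT : T * T ≤ T) (hJ : J ≤ T) (hB : B ≤ T)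
    (hJT : J * T ≤ J) (hTJ : T * J ≤ J) : ∀ n : ℕ, (J + B) ^ n ≤ J + B ^ n := by
  intro n
  induction n with
  | zero => simp
  | succ n ih =>
    calc (J + B) ^ (n + 1) = (J + B) ^ n * (J + B) := pow_succ _ _
      _ ≤ (J + B ^ n) * (J + B) := mul_le_mul' ih le_rfl
      _ = J * J + J * B + (B ^ n * J + B ^ n * B) := by rw [add_mul, mul_add, mul_add]
      _ ≤ J + B ^ (n + 1) := by
        have e1 : J * J ≤ J := (mul_le_mul' le_rfl hJ).trans hJT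
        have e2 : J * B ≤ J := (mul_le_mul' le_rfl hB).trans hJT
        have e3 : B ^ n * J ≤ J :=
          (mul_le_mul' (pow_le_of_mul_le B T h1 hTT hB n) le_rfl).trans hTJ
        rw [← pow_succ]
        simp only [Submodule.add_eq_sup]
        refine sup_le (sup_le (e1.trans le_sup_left) (e2.trans le_sup_left))
          (sup_le (e3.trans le_sup_left) le_sup_right)

theorem abstract_main (T P₁ P₂ G₂ A : Submodule K E) (n₁ n₂ : ℕ)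
    (h1T : 1 ≤ T) (hTT : T * T ≤ T) (hP₁ : P₁ ≤ T) (hP₂ : P₂ ≤ T) (hG₂ : G₂ ≤ T)
    (hc1 : P₁ * T ≤ T * P₁) (hc2 : P₂ * G₂ ≤ G₂ * P₂) (hGG : G₂ * G₂ ≤ G₂) (h1G : 1 ≤ G₂)
    (hA : A ≤ T * P₁ + G₂ * P₂) (hn₁ : P₁ ^ n₁ = ⊥) (hn₂ : P₂ ^ n₂ = ⊥) :
    A ^ (n₂ * n₁) = ⊥ := by
  have hJ : T * P₁ ≤ T := (mul_le_mul' le_rfl hP₁).trans hTT
  have hB : G₂ * P₂ ≤ T := (mul_le_mul' hG₂ hP₂).trans hTT
  have hJT : (T * P₁) * T ≤ T * P₁ := by
    calc (T * P₁) * T = T * (P₁ * T) := mul_assoc _ _ _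
      _ ≤ T * (T * P₁) := mul_le_mul' le_rfl hc1
      _ = (T * T) * P₁ := (mul_assoc _ _ _).symm
      _ ≤ T * P₁ := mul_le_mul' hTT le_rfl
  have hTJ : T * (T * P₁) ≤ T * P₁ := by
    rw [← mul_assoc]
    exact mul_le_mul' hTT le_rfl
  have s1 : A ^ n₂ ≤ T * P₁ := by
    calc A ^ n₂ ≤ (T * P₁ + G₂ * P₂) ^ n₂ := pow_le_pow_left' hA n₂
      _ ≤ T * P₁ + (G₂ * P₂) ^ n₂ := add_pow_le _ _ T h1T hTT hJ hB hJT hTJ n₂
      _ ≤ T * P₁ + G₂ * P₂ ^ n₂ := by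
        simp only [Submodule.add_eq_sup]
        exact sup_le_sup le_rfl (pow_mul_le P₂ G₂ h1G hGG hc2 n₂)
      _ = T * P₁ := by rw [hn₂]; simp
  rw [pow_mul, eq_bot_iff]
  calc (A ^ n₂) ^ n₁ ≤ (T * P₁) ^ n₁ := pow_le_pow_left' s1 n₁
    _ ≤ T * P₁ ^ n₁ := pow_mul_le P₁ T h1T hTT hc1 n₁
    _ = ⊥ := by rw [hn₁]; simp

end Abstract

section Concrete

variable {K E G : Type*} [CommRing K] [Ring E] [Algebra K E] [Group G] (φ : G →* E)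

/-- span of the image of a subgroup -/
def Sp (H : Subgroup G) : Submodule K E := span K (φ '' (H : Set G))

/-- span of `φ g - 1` for `g` in a subgroup -/
def Au (H : Subgroup G) : Submodule K E := span K ((fun g => φ g - 1) '' (H : Set G))

theorem one_le_Sp (H : Subgroup G) : (1 : Submodule K E) ≤ Sp (K := K) φ H := by
  rw [Submodule.one_le]
  exact subset_span ⟨1, H.one_mem, map_one φ⟩

theorem Sp_mul_Sp (H : Subgroup G) : Sp (K := K) φ H * Sp φ H ≤ Sp φ H := by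
  rw [Sp, span_mul_span, span_le]
  rintro _ ⟨_, ⟨g, hg, rfl⟩, _, ⟨g', hg', rfl⟩, rfl⟩
  exact subset_span ⟨g * g', H.mul_mem hg hg', map_mul φ g g'⟩

theorem Sp_mono {H H' : Subgroup G} (h : H ≤ H') : Sp (K := K) φ H ≤ Sp φ H' :=
  span_mono (Set.image_mono h)

theorem Au_le_Sp (H : Subgroup G) : Au (K := K) φ H ≤ Sp φ H := by
  rw [Au, span_le]
  rintro _ ⟨g, hg, rfl⟩
  exact sub_mem (subset_span ⟨g, hg, rfl⟩) (subset_span ⟨1, H.one_mem, map_one φ⟩)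

theorem Au_mul_Sp_le (N H : Subgroup G) (hnorm : ∀ g ∈ H, ∀ h ∈ N, g⁻¹ * h * g ∈ N) :
    Au (K := K) φ N * Sp φ H ≤ Sp φ H * Au φ N := by
  rw [Au, Sp, span_mul_span, span_le]
  rintro _ ⟨_, ⟨h, hh, rfl⟩, _, ⟨g, hg, rfl⟩, rfl⟩
  have e : (φ h - 1) * φ g = φ g * (φ (g⁻¹ * h * g) - 1) := by
    rw [mul_sub, sub_mul, ← map_mul, ← map_mul, mul_one, one_mul]
    congr 2
    group
  show (φ h - 1) * φ g ∈ span K (φ '' (H : Set G)) * span K ((fun g => φ g - 1) '' (N : Set G))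
  rw [e]
  exact Submodule.mul_mem_mul (subset_span ⟨g, hg, rfl⟩) (subset_span ⟨_, hnorm g hg h hh, rfl⟩)

theorem main (H₁ H₂ : Subgroup G) (hnorm : ∀ g ∈ H₂, ∀ h ∈ H₁, g * h * g⁻¹ ∈ H₁) (n₁ n₂ : ℕ)
    (h₁ : Au (K := K) φ H₁ ^ n₁ = ⊥) (h₂ : Au (K := K) φ H₂ ^ n₂ = ⊥) :
    Au (K := K) φ (H₁ ⊔ H₂) ^ (n₂ * n₁) = ⊥ := by
  have hle : H₂ ≤ Subgroup.normalizer (H₁ : Set G) := Subgroup.le_normalizer_iff.mpr hnorm
  have hsup : H₁ ⊔ H₂ ≤ Subgroup.normalizer (H₁ : Set G) := sup_le Subgroup.le_normalizer hle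
  have hn1 : ∀ g ∈ H₁ ⊔ H₂, ∀ h ∈ H₁, g⁻¹ * h * g ∈ H₁ := by
    intro g hg h hh
    have := Subgroup.le_normalizer_iff.mp hsup g⁻¹ (inv_mem hg) h hh
    simpa using this
  have hn2 : ∀ g ∈ H₂, ∀ h ∈ H₂, g⁻¹ * h * g ∈ H₂ := fun g hg h hh =>
    H₂.mul_mem (H₂.mul_mem (H₂.inv_mem hg) hh) hg
  refine abstract_main (Sp φ (H₁ ⊔ H₂)) (Au φ H₁) (Au φ H₂) (Sp φ H₂) _ n₁ n₂
    (one_le_Sp φ _) (Sp_mul_Sp φ _) ((Au_le_Sp φ H₁).trans (Sp_mono φ le_sup_left))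
    ((Au_le_Sp φ H₂).trans (Sp_mono φ le_sup_right)) (Sp_mono φ le_sup_right)
    (Au_mul_Sp_le φ H₁ _ hn1) (Au_mul_Sp_le φ H₂ H₂ hn2) (Sp_mul_Sp φ _) (one_le_Sp φ _) ?_ h₁ h₂
  rw [Au, span_le]
  rintro _ ⟨g, hg, rfl⟩
  have hg' : g ∈ ((H₁ ⊔ H₂ : Subgroup G) : Set G) := hg
  rw [Subgroup.coe_mul_of_right_le_normalizer_left H₁ H₂ hle] at hg'
  obtain ⟨a, ha, b, hb, rfl⟩ := hg'
  have e : φ (a * b) - 1 = (φ a - 1) * φ b + (φ b - 1) := by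
    rw [map_mul]; noncomm_ring
  show φ (a * b) - 1 ∈ _
  rw [e]
  refine Submodule.add_mem_sup ?_ ?_
  · apply Au_mul_Sp_le φ H₁ _ hn1
    exact Submodule.mul_mem_mul (subset_span ⟨a, ha, rfl⟩)
      (subset_span ⟨b, (le_sup_right : H₂ ≤ H₁ ⊔ H₂) hb, rfl⟩)
  · have : φ b - 1 = 1 * (φ b - 1) := (one_mul _).symm
    rw [this]
    exact Submodule.mul_mem_mul (one_le_Sp (K := K) φ H₂ (Submodule.one_le.mp le_rfl))
      (subset_span ⟨b, hb, rfl⟩)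

theorem Au_pow_eq_bot_of (H : Subgroup G) (n : ℕ)
    (h : ∀ f : Fin n → ↥H, (List.ofFn fun i => φ (f i : G) - 1).prod = 0) :
    Au (K := K) φ H ^ n = ⊥ := by
  rw [Au, span_pow, eq_bot_iff, span_le]
  intro a ha
  obtain ⟨f, rfl⟩ := Set.mem_pow.mp ha
  have hf : ∀ i, ∃ g : ↥H, φ (g : G) - 1 = (f i : E) := by
    intro i
    obtain ⟨g, hg, e⟩ := (f i).2
    exact ⟨⟨g, hg⟩, e⟩
  choose f' hf' using hf
  have := h f'
  simp only [hf'] at this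
  simp [this]

theorem prod_eq_zero_of_Au_pow (H : Subgroup G) (n : ℕ) (h : Au (K := K) φ H ^ n = ⊥)
    (f : Fin n → ↥H) : (List.ofFn fun i => φ (f i : G) - 1).prod = 0 := by
  have : (List.ofFn fun i => φ (f i : G) - 1).prod ∈ Au (K := K) φ H ^ n := by
    rw [Au, span_pow]
    apply subset_span
    rw [Set.mem_pow]
    exact ⟨fun i => ⟨φ (f i : G) - 1, ⟨(f i : G), (f i).2, rfl⟩⟩, rfl⟩
  rw [h] at this
  simpa using this

end Concrete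

theorem final (K : Type*) (V : Type*) [Field K]
    [AddCommGroup V] [Module K V]
    (H₁ H₂ : Subgroup (V ≃ₗ[K] V)) (hnorm : ∀ g ∈ H₂, ∀ h ∈ H₁, g * h * g⁻¹ ∈ H₁)
    (h₁ : ∃ n : ℕ, ∀ f : Fin n → ↥H₁,
      (List.ofFn fun i => (((f i : ↥H₁) : V ≃ₗ[K] V) : Module.End K V) - 1).prod = 0)
    (h₂ : ∃ n : ℕ, ∀ f : Fin n → ↥H₂,
      (List.ofFn fun i => (((f i : ↥H₂) : V ≃ₗ[K] V) : Module.End K V) - 1).prod = 0) :
    ∃ n : ℕ, ∀ f : Fin n → ↥(H₁ ⊔ H₂),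
      (List.ofFn fun i => (((f i : ↥(H₁ ⊔ H₂)) : V ≃ₗ[K] V) : Module.End K V) - 1).prod = 0 := by
  obtain ⟨n₁, h₁⟩ := h₁
  obtain ⟨n₂, h₂⟩ := h₂
  let φ : (V ≃ₗ[K] V) →* Module.End K V := LinearEquiv.automorphismGroup.toLinearMapMonoidHom
  have a₁ := Au_pow_eq_bot_of (K := K) φ H₁ n₁ h₁
  have a₂ := Au_pow_eq_bot_of (K := K) φ H₂ n₂ h₂
  have a := main (K := K) φ H₁ H₂ hnorm n₁ n₂ a₁ a₂
  exact ⟨n₂ * n₁, fun f => prod_eq_zero_of_Au_pow (K := K) φ _ _ a f⟩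

end Groth.Agent.Lib.Helper4.KolchinSup
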