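import Groth.Agent.Lib.Helper4.GZ2
import Groth.Agent.Lib.Helper4.CurveVB1
import Groth.Agent.Lib.Helper8.LowDeg
import Groth.Agent.Lib.Helper8.PencilB
import Groth.Agent.Lib.Helper4.Higgs5
import Groth.Agent.Lib.Helper17.GGStalk2
import Groth.Agent.S3572
import Groth.Prelude.Def_LinSer
import Groth.Prelude.Def_Omega3
set_option autoImplicit false
set_option backward.isDefEq.respectTransparency.types false
set_option linter.unusedSectionVars false
set_option linter.style.haveILetI false

universe u
open CategoryTheory CategoryTheory.Limits AlgebraicGeometry Opposite TopologicalSpace MonoidalCategory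

noncomputable section
namespace Groth.Agent.Lib.Helper4.LS1
open Groth.Agent.Lib.Helper28 Groth.Agent.Lib.Helper28.QCohLoc Groth.Agent.Lib.Helper28.GenLocus
  Groth.Agent.Lib.Helper8.CurveTensor Groth.Agent.Lib.Helper4.GPRank

variable {X : Scheme.{u}} [IsIntegral X]

/-- the local rings of a regular integral scheme of dimension at most one are principal ideal domains -/
theorem isPrincipalIdealRing_stalk_of_regular [IsLocallyNoetherian X] (hdim : topologicalKrullDim X ≤ 1)
    (x : X) (hr : IsRegularLocalRing (X.presheaf.stalk x)) :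
    IsPrincipalIdealRing (X.presheaf.stalk x) := by
  by_cases hx : x = genericPoint X
  · subst hx
    have hf : IsField (X.presheaf.stalk (genericPoint X)) :=
      (inferInstance : Field X.functionField).toIsField
    exact hf.isPrincipalIdealRing
  · obtain ⟨h1, -⟩ := Groth.Agent.Lib.Helper8.LowDeg.maximalIdeal_isPrincipal_of_regular hdim x hx hr
    exact ((tfae_of_isNoetherianRing_of_isLocalRing_of_isDomain (X.presheaf.stalk x)).out 4 0).mp h1

/-- a coherent submodule of a locally free module on a regular integral curve is locally free of its generic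
rank -/
theorem isFinLocFreeOfRank_of_mono [IsLocallyNoetherian X] (hdim : topologicalKrullDim X ≤ 1)
    (hreg : ∀ x : X, IsRegularLocalRing (X.presheaf.stalk x))
    {F E : X.Modules} (i : F ⟶ E) [Mono i] (hF : Coh.IsCoh F) {n : ℕ} (hE : FlatMod.IsFinLocFreeOfRank n E) :
    FlatMod.IsFinLocFreeOfRank (grank X F) F := by
  intro x
  haveI := isPrincipalIdealRing_stalk_of_regular hdim x (hreg x)
  obtain ⟨b⟩ := Groth.Agent.Lib.Helper6.K0Tensor.exists_stalkBasis E hE x
  haveI : Module.Free (X.presheaf.stalk x) (E.presheaf.stalk x) := Module.Free.of_basis b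
  haveI : Module.Finite (X.presheaf.stalk x) (F.presheaf.stalk x) :=
    Groth.Agent.Lib.Helper7.StalkFree.finite_stalk_of_isCoh X F hF x
  have hinj : Function.Injective (Groth.Agent.Lib.Helper17.StalkExact.stalkLinearMap i x) :=
    Groth.Agent.Lib.Helper17.StalkExact.stalkHom_injective_of_mono i x
  haveI : Module.IsTorsionFree (X.presheaf.stalk x) (F.presheaf.stalk x) :=
    Function.Injective.moduleIsTorsionFree _ hinj (fun c m => map_smul _ c m)
  haveI : Module.Free (X.presheaf.stalk x) (F.presheaf.stalk x) := Module.free_of_finite_type_torsion_free'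
  obtain ⟨U, hxU, ⟨e⟩⟩ := Groth.Agent.Lib.Helper7.StalkFree.exists_iso_freeMod_of_free_stalk X F hF x
  refine ⟨U, hxU, ?_⟩
  have hη : genericPoint X ∈ U := ((genericPoint_spec X).mem_open_set_iff U.2).2 ⟨x, trivial, hxU⟩
  obtain ⟨-, -, hrank⟩ := Groth.Agent.Lib.Helper7.StalkFree.free_stalk_of_iso F (genericPoint X) U hη _ e
  unfold grank
  rw [hrank]
  exact ⟨e⟩

section image

variable [IsLocallyNoetherian X] (hdim : topologicalKrullDim X ≤ 1)
  (hreg : ∀ x : X, IsRegularLocalRing (X.presheaf.stalk x))

include hdim hreg in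
/-- **the subsheaf of an invertible module generated by finitely many sections, not all zero, is invertible**
(regular integral curve) -/
theorem isInvertible_image {L : X.Modules} (hL : PicF.IsInvertible L) {n : ℕ}
    (σ : Fin n → (Coh.structureModule X ⟶ L)) (j : Fin n) (hj : σ j ≠ 0) :
    PicF.IsInvertible (Abelian.image (Sigma.desc σ)) := by
  have hO := AmpleUnit.isInvertible_structureModule X
  have hcO := Groth.Agent.Lib.Helper6.K0Op.isCoh_of_isInvertible _ hO
  have hcL := Groth.Agent.Lib.Helper6.K0Op.isCoh_of_isInvertible _ hL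
  have hcS : Coh.IsCoh (∐ fun _ : Fin n => Coh.structureModule X) :=
    Groth.Agent.Lib.Helper6.DevPow.isCoh_sigma_fin n _ (fun _ => hcO)
  have hcI := Groth.Agent.Lib.Helper6.DevCore.isCoh_image (Sigma.desc σ) hcS hcL
  have hL1 := Groth.Agent.Lib.Helper6.K0Op.isFinLocFreeOfRank_one_of_isInvertible _ hL
  have hfree := isFinLocFreeOfRank_of_mono hdim hreg (Abelian.image.ι (Sigma.desc σ)) hcI hL1
  have hle : grank X (Abelian.image (Sigma.desc σ)) ≤ 1 :=
    rank_le_of_mono (Abelian.image.ι (Sigma.desc σ)) hfree hL1
  have hne : grank X (Abelian.image (Sigma.desc σ)) ≠ 0 := by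
    intro h0
    apply hj
    have hsupp := notMem_support_of_grank_eq_zero X _ hcI h0
    -- the section `σ j` factors through the image, whose generic stalk vanishes
    haveI : Mono (σ j) := Groth.Agent.Lib.Helper8.CurveInv.mono_of_ne_zero hO hL (σ j) hj
    have hfac : σ j = (Sigma.ι (fun _ : Fin n => Coh.structureModule X) j ≫
        Abelian.factorThruImage (Sigma.desc σ)) ≫ Abelian.image.ι (Sigma.desc σ) := by
      rw [Category.assoc, Abelian.image.fac, Sigma.ι_desc]
    haveI : Mono (Sigma.ι (fun _ : Fin n => Coh.structureModule X) j ≫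
        Abelian.factorThruImage (Sigma.desc σ)) := by
      have : Mono ((Sigma.ι (fun _ : Fin n => Coh.structureModule X) j ≫
        Abelian.factorThruImage (Sigma.desc σ)) ≫ Abelian.image.ι (Sigma.desc σ)) := hfac ▸ inferInstance
      exact mono_of_mono _ (Abelian.image.ι (Sigma.desc σ))
    exfalso
    have hsub := Groth.Agent.Lib.Helper6.DevCore.support_subset_of_mono
      (Sigma.ι (fun _ : Fin n => Coh.structureModule X) j ≫ Abelian.factorThruImage (Sigma.desc σ))
    apply hsupp
    apply hsub
    intro hss
    have h1 := grank_structureModule X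
    unfold grank at h1
    haveI := hss
    rw [Module.finrank_zero_of_subsingleton] at h1
    exact absurd h1 (by norm_num)
  have h1 : grank X (Abelian.image (Sigma.desc σ)) = 1 := by omega
  rw [h1] at hfree
  exact Groth.Agent.Lib.Helper4.Higgs.isInvertible_of_rank_one hfree

end image

section main

open Groth.Agent.Lib.Helper17.GGStalk

/-- a linearly independent family has a nonzero first member -/
theorem ne_zero_of_linIndep (k : Type u) [Field k] (X : Scheme.{u}) [X.Over (Spec (CommRingCat.of k))]
    (L : X.Modules) {r : ℕ} (s : Fin (r + 1) → LinSer.Sect X L) (h : LinSer.LinIndep k X L s) : s 0 ≠ 0 := by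
  intro h0
  have := h (fun i => if i = 0 then 1 else 0) (by
    apply Finset.sum_eq_zero
    intro i _
    by_cases hi : i = 0
    · subst hi; rw [h0, smul_zero]
    · simp only [hi, if_false, map_zero, zero_smul])
  have h1 := congrFun this 0
  simp at h1

/-- **a linear series on a regular integral proper curve defines a morphism to projective space** -/
theorem exists_morphism (k : Type u) [Field k] (X : Scheme.{u}) [X.Over (Spec (CommRingCat.of k))]
    [IsIntegral X] [IsProper (X ↘ (Spec (CommRingCat.of k)))] (hdim : topologicalKrullDim X = 1)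
    (hreg : ∀ x : X, IsRegularLocalRing (X.presheaf.stalk x))
    (d r : ℕ) (L : X.Modules) (s : Fin (r + 1) → LinSer.Sect X L) (hL : LinSer.IsLinSer k X L d r s) :
    ∃ (φ : X ⟶ CohB1.ProjSpace r k) (α : (Scheme.Modules.pullback φ).obj (Twist.twistProjSpace r k 1) ⟶ L),
      φ ≫ CohB1.ProjSpace.toSpec r k = X ↘ (Spec (CommRingCat.of k)) ∧
        ∀ i : Fin (r + 1), (α.val.app (Opposite.op ⊤)).hom (OmegaSh.pullSect φ (Twist.twistProjSpace r k 1) ⊤
          (Twist.globalOf (CohB1.polyGrading r k)
            (⟨MvPolynomial.X i, MvPolynomial.isHomogeneous_X k i⟩ : (CohB1.polyGrading r k) 1))) = s i := by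
  obtain ⟨hLinv, -, hli⟩ := hL
  haveI : IsLocallyNoetherian X := Groth.Agent.Lib.Helper8.EulerK.isLocallyNoetherian k X
  let σ : Fin (r + 1) → (Coh.structureModule X ⟶ L) := fun i => TwistGen.ofSection L (s i)
  have hσ0 : σ 0 ≠ 0 := by
    intro h0
    apply ne_zero_of_linIndep k X L s hli
    have := congrArg secOf h0
    rw [secOf_ofSection] at this
    exact this
  have hinv := isInvertible_image hdim.le hreg hLinv σ 0 hσ0
  -- the sections of the image
  let c : Cofan (fun _ : Fin (r + 1) => Coh.structureModule X) :=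
    Cofan.mk (∐ fun _ : Fin (r + 1) => Coh.structureModule X) (Sigma.ι _)
  have hc : IsColimit c := coproductIsCoproduct _
  have hgen : ProjUP.GeneratedBy (Abelian.image (Sigma.desc σ))
      (fun i : Fin (r + 1) => (secOf (c.inj i ≫ Abelian.factorThruImage (Sigma.desc σ)) :
        ProjUP.Γm (Abelian.image (Sigma.desc σ)))) := fun x =>
    span_germs_eq_top_of_isColimit c hc (Abelian.factorThruImage (Sigma.desc σ)) inferInstance x
  obtain ⟨φ, hφ, τ, hτ⟩ := Groth.Agent.S3572.result r (X ↘ (Spec (CommRingCat.of k)))
    (Abelian.image (Sigma.desc σ)) hinv _ hgen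
  refine ⟨φ, τ.hom ≫ Abelian.image.ι (Sigma.desc σ), hφ, fun i => ?_⟩
  have h1 := hτ i
  have h2 : (Abelian.image.ι (Sigma.desc σ)).app ⊤
      (secOf (c.inj i ≫ Abelian.factorThruImage (Sigma.desc σ))) = s i := by
    have h3 : (c.inj i ≫ Abelian.factorThruImage (Sigma.desc σ)) ≫ Abelian.image.ι (Sigma.desc σ) = σ i := by
      rw [Category.assoc, Abelian.image.fac]
      exact Sigma.ι_desc σ i
    have h4 := congrArg secOf h3
    rw [secOf_ofSection] at h4
    exact h4
  rw [← h2, ← h1]
  rfl

end main

end Groth.Agent.Lib.Helper4.LS1
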