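import Mathlib.AlgebraicGeometry.Sites.Fpqc
import Mathlib.AlgebraicGeometry.Sites.Etale
import Mathlib.AlgebraicGeometry.Morphisms.UniversallyOpen
import Mathlib.AlgebraicGeometry.Morphisms.Etale
import Mathlib.Tactic

set_option autoImplicit false
universe u
open CategoryTheory AlgebraicGeometry TopologicalSpace Limits MorphismProperty

namespace Groth.Agent.Lib.Helper4.LargestOpen

variable (Q : MorphismProperty Scheme.{u}) [Q.IsMultiplicative] [Q.IsStableUnderBaseChange]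
variable (P : MorphismProperty Scheme.{u}) [P.IsLocalAtSource (Scheme.precoverage Q)]

include Q in
theorem step1 {Z Z' Y : Scheme.{u}} (h : Z ⟶ Y) (u : Z' ⟶ Z) (hu : Q u) (hP : P h) :
    P (u ≫ h) := by
  let obj : Bool → Scheme.{u} := fun b => bif b then Z' else Z
  let map : ∀ b, obj b ⟶ Z := fun b => match b with
    | true => u
    | false => 𝟙 Z
  have hR : Presieve.ofArrows obj map ∈ Scheme.precoverage Q Z := by
    rw [Scheme.ofArrows_mem_precoverage_iff]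
    refine ⟨fun x => ⟨false, x, rfl⟩, fun b => ?_⟩
    cases b
    · exact Q.id_mem Z
    · exact hu
  exact IsLocalAtSource.comp (K := Scheme.precoverage Q) hR u (Presieve.ofArrows.mk true) hP

include Q in
theorem step2 {Z Z' Y : Scheme.{u}} (h : Z ⟶ Y) (u : Z' ⟶ Z) (hu : Q u)
    (hsurj : Function.Surjective u.base) (hP : P (u ≫ h)) : P h := by
  have hR : Presieve.singleton u ∈ Scheme.precoverage Q Z := by
    rw [Scheme.singleton_mem_precoverage_iff]
    exact ⟨hsurj, hu⟩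
  apply IsLocalAtSource.of_forall_comp (K := Scheme.precoverage Q) hR
  intro U g hg
  cases hg
  exact hP

include Q in
theorem step3 (hQimm : ∀ {A B : Scheme.{u}} (j : A ⟶ B) [IsOpenImmersion j], Q j)
    {X Y : Scheme.{u}} (f : X ⟶ Y) {ι : Type*} (W : ι → X.Opens)
    (h : ∀ i, P ((W i).ι ≫ f)) : P ((⨆ i, W i : X.Opens).ι ≫ f) := by
  have hR : Presieve.ofArrows (fun i => ((W i : X.Opens) : Scheme.{u}))
      (fun i => X.homOfLE (le_iSup W i)) ∈ Scheme.precoverage Q (⨆ i, W i : X.Opens) := by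
    rw [Scheme.ofArrows_mem_precoverage_iff]
    refine ⟨fun x => ?_, fun i => hQimm _⟩
    obtain ⟨i, hi⟩ := Opens.mem_iSup.mp x.2
    exact ⟨i, ⟨x.1, hi⟩, X.homOfLE_apply' _ _ _⟩
  apply IsLocalAtSource.of_forall_comp (K := Scheme.precoverage Q) hR
  intro U g hg
  obtain ⟨i⟩ := hg
  rw [Scheme.homOfLE_ι_assoc]
  exact h i

include Q in
theorem main (hQimm : ∀ {A B : Scheme.{u}} (j : A ⟶ B) [IsOpenImmersion j], Q j)
    (hQopen : ∀ {A B : Scheme.{u}} (j : A ⟶ B), Q j → IsOpenMap j)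
    {X Y : Scheme.{u}} (f : X ⟶ Y) :
    ∃ W : X.Opens, (P (W.ι ≫ f) ∧ ∀ W' : X.Opens, P (W'.ι ≫ f) → W' ≤ W) ∧
      ∀ (X' : Scheme.{u}) (g : X' ⟶ X), Q g → ∀ (V : X'.Opens),
        (P (V.ι ≫ g ≫ f) ∧ ∀ V' : X'.Opens, P (V'.ι ≫ g ≫ f) → V' ≤ V) → V = g ⁻¹ᵁ W := by
  let S : Set X.Opens := {W' | P (W'.ι ≫ f)}
  let W : X.Opens := ⨆ W' : S, (W' : X.Opens)
  have hW : P (W.ι ≫ f) := step3 Q P hQimm f (fun W' : S => (W' : X.Opens)) (fun W' => W'.2)
  have hmax : ∀ W' : X.Opens, P (W'.ι ≫ f) → W' ≤ W := fun W' hW' =>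
    le_iSup (fun W' : S => (W' : X.Opens)) ⟨W', hW'⟩
  refine ⟨W, ⟨hW, hmax⟩, ?_⟩
  intro X' g hg V ⟨hV, hVmax⟩
  have hrestr : ∀ O : X.Opens, Q (g ∣_ O) := fun O =>
    Q.of_isPullback (isPullback_morphismRestrict g O).flip hg
  apply le_antisymm
  · -- image of V is open and satisfies P
    let W'' : X.Opens := ⟨g '' V, hQopen g hg _ V.isOpen⟩
    have hle : V ≤ g ⁻¹ᵁ W'' := fun v hv => ⟨v, hv, rfl⟩
    let u : (V : Scheme.{u}) ⟶ (W'' : Scheme.{u}) := X'.homOfLE hle ≫ (g ∣_ W'')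
    have hu : Q u := Q.comp_mem _ _ (hQimm _) (hrestr W'')
    have huι : u ≫ W''.ι = V.ι ≫ g := by
      simp only [u, Category.assoc, morphismRestrict_ι, Scheme.homOfLE_ι_assoc]
    have husurj : Function.Surjective u.base := by
      rintro ⟨w, v, hv, rfl⟩
      obtain ⟨v', rfl⟩ : v ∈ Set.range V.ι := by rw [Scheme.Opens.range_ι]; exact hv
      refine ⟨v', ?_⟩
      apply W''.ι.isOpenEmbedding.injective
      rw [← Scheme.Hom.comp_apply, huι, Scheme.Hom.comp_apply]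
      rfl
    have hP'' : P (W''.ι ≫ f) := by
      apply step2 Q P (W''.ι ≫ f) u hu husurj
      rw [← Category.assoc, huι, Category.assoc]
      exact hV
    intro v hv
    exact hmax W'' hP'' ⟨v, hv, rfl⟩
  · apply hVmax
    have : (g ⁻¹ᵁ W).ι ≫ g ≫ f = (g ∣_ W) ≫ W.ι ≫ f := by
      rw [← Category.assoc, ← morphismRestrict_ι, Category.assoc]
    rw [this]
    exact step1 Q P (W.ι ≫ f) (g ∣_ W) (hrestr W) hW

set_option backward.isDefEq.respectTransparency.types false in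
theorem fppf (P : MorphismProperty Scheme.{u})
    [P.IsLocalAtSource Scheme.fppfPrecoverage] {X Y : Scheme.{u}} (f : X ⟶ Y) :
    ∃ W : X.Opens, (P (W.ι ≫ f) ∧ ∀ W' : X.Opens, P (W'.ι ≫ f) → W' ≤ W) ∧
      ∀ (X' : Scheme.{u}) (g : X' ⟶ X) [Flat g] [LocallyOfFinitePresentation g] (V : X'.Opens),
        (P (V.ι ≫ g ≫ f) ∧ ∀ V' : X'.Opens, P (V'.ι ≫ g ≫ f) → V' ≤ V) → V = g ⁻¹ᵁ W := by
  have hinst : P.IsLocalAtSource (Scheme.precoverage (@Flat ⊓ @LocallyOfFinitePresentation)) :=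
    ‹P.IsLocalAtSource Scheme.fppfPrecoverage›
  have hmul : (@Flat ⊓ @LocallyOfFinitePresentation : MorphismProperty Scheme.{u}).IsMultiplicative :=
    { id_mem := fun X => ⟨inferInstance, inferInstance⟩
      comp_mem := fun f g hf hg => by
        have := hf.1
        have := hf.2
        have := hg.1
        have := hg.2
        exact ⟨inferInstance, inferInstance⟩ }
  obtain ⟨W, hW, h⟩ := main (@Flat ⊓ @LocallyOfFinitePresentation) P
    (fun j _ => ⟨inferInstance, inferInstance⟩)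
    (fun j hj => by
      have := hj.1
      have := hj.2
      exact j.isOpenMap) f
  exact ⟨W, hW, fun X' g _ _ V hV => h X' g ⟨inferInstance, inferInstance⟩ V hV⟩

theorem etale (P : MorphismProperty Scheme.{u})
    [P.IsLocalAtSource Scheme.etalePrecoverage] {X Y : Scheme.{u}} (f : X ⟶ Y) :
    ∃ W : X.Opens, (P (W.ι ≫ f) ∧ ∀ W' : X.Opens, P (W'.ι ≫ f) → W' ≤ W) ∧
      ∀ (X' : Scheme.{u}) (g : X' ⟶ X) [Etale g] (V : X'.Opens),
        (P (V.ι ≫ g ≫ f) ∧ ∀ V' : X'.Opens, P (V'.ι ≫ g ≫ f) → V' ≤ V) → V = g ⁻¹ᵁ W := by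
  have hinst : P.IsLocalAtSource (Scheme.precoverage @Etale) :=
    ‹P.IsLocalAtSource Scheme.etalePrecoverage›
  obtain ⟨W, hW, h⟩ := main @Etale P
    (fun j _ => inferInstance)
    (fun j hj => by
      have : Etale j := hj
      exact j.isOpenMap) f
  exact ⟨W, hW, fun X' g _ V hV => h X' g inferInstance V hV⟩

end Groth.Agent.Lib.Helper4.LargestOpen
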