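import Mathlib.LinearAlgebra.Matrix.Adjugate
import Mathlib.LinearAlgebra.Matrix.ToLinearEquiv
import Mathlib.LinearAlgebra.BilinearForm.Orthogonal
import Mathlib.LinearAlgebra.FreeModule.PID
import Mathlib.LinearAlgebra.Dual.Defs
import Mathlib.Algebra.Module.PID
import Mathlib.Tactic

set_option autoImplicit false

namespace Groth.Agent.Lib.Helper4.LatticeOrth
open LinearMap (BilinForm)

variable {L : Type} [AddCommGroup L] [Module.Finite ℤ L] [Module.Free ℤ L]

omit [Module.Free ℤ L] in
/-- functionals on a saturated submodule extend -/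
theorem exists_extend (N : Submodule ℤ L) (hsat : ∀ (c : ℤ) (x : L), c ≠ 0 → c • x ∈ N → x ∈ N)
    (ψ : Module.Dual ℤ ↥N) : ∃ φ : Module.Dual ℤ L, φ ∘ₗ N.subtype = ψ := by
  have htf : Module.IsTorsionFree ℤ (L ⧸ N) := by
    apply Module.IsTorsionFree.of_smul_eq_zero
    intro c q hq
    by_cases hc : c = 0
    · exact Or.inl hc
    right
    obtain ⟨x, rfl⟩ := N.mkQ_surjective q
    have : c • x ∈ N := by
      rw [← Submodule.Quotient.mk_eq_zero, Submodule.Quotient.mk_smul]; exact hq
    exact (Submodule.Quotient.mk_eq_zero N).mpr (hsat c x hc this)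
  have hfree : Module.Free ℤ (L ⧸ N) := inferInstance
  obtain ⟨s, hs⟩ := Module.projective_lifting_property N.mkQ LinearMap.id N.mkQ_surjective
  have hs' : ∀ q, N.mkQ (s q) = q := fun q => by
    have := congrArg (fun f => f q) hs; simpa using this
  have hmem : ∀ x : L, x - s (N.mkQ x) ∈ N := by
    intro x
    have h0 : N.mkQ (x - s (N.mkQ x)) = 0 := by
      rw [map_sub, hs' (N.mkQ x), sub_self]
    exact (Submodule.Quotient.mk_eq_zero N).mp h0
  let r : L →ₗ[ℤ] N :=
    { toFun := fun x => ⟨x - s (N.mkQ x), hmem x⟩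
      map_add' := fun x y => by
        apply Subtype.ext
        simp only [map_add, Submodule.coe_add]
        abel
      map_smul' := fun c x => by
        apply Subtype.ext
        simp only [map_smul, Submodule.coe_smul, RingHom.id_apply, smul_sub] }
  refine ⟨ψ ∘ₗ r, ?_⟩
  ext x
  simp only [LinearMap.comp_apply, Submodule.subtype_apply]
  congr 1
  apply Subtype.ext
  show (x : L) - s (N.mkQ x) = x
  have : N.mkQ (x : L) = 0 := by simp
  rw [this, map_zero, sub_zero]

variable (B : BilinForm ℤ L)

theorem perp_perp (hsymm : B.IsSymm) (hpos : ∀ x, x ≠ 0 → 0 < B x x)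
    (A : Submodule ℤ L) (htf : ∀ (c : ℤ) (x : L), c ≠ 0 → c • x ∈ A → x ∈ A)
    (y : L) (hy : ∀ b ∈ B.orthogonal A, B y b = 0) : y ∈ A := by
  classical
  let bA := Module.Free.chooseBasis ℤ A
  let a : Module.Free.ChooseBasisIndex ℤ A → L := fun i => (bA i : L)
  have haA : ∀ i, a i ∈ A := fun i => (bA i).2
  let G : Matrix _ _ ℤ := Matrix.of fun i j => B (a i) (a j)
  have hGsymm : G.transpose = G := by
    ext i j
    simp only [Matrix.transpose_apply, G, Matrix.of_apply]
    exact (hsymm.eq (a j) (a i))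
  have hdet : G.det ≠ 0 := by
    intro hdet
    obtain ⟨v, hv0, hv⟩ := Matrix.exists_mulVec_eq_zero_iff.mpr hdet
    apply hv0
    set z : L := ∑ i, v i • a i with hz
    have h1 : B z z = 0 := by
      rw [hz]
      simp only [map_sum, LinearMap.sum_apply, map_smul, LinearMap.smul_apply, smul_eq_mul]
      apply Finset.sum_eq_zero
      intro i _
      have := congrFun hv i
      simp only [Matrix.mulVec, dotProduct, G, Matrix.of_apply, Pi.zero_apply] at this
      have e : ∑ j, v j * B (a j) (a i) = ∑ j, B (a i) (a j) * v j :=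
        Finset.sum_congr rfl fun j _ => by rw [hsymm.eq (a j) (a i)]; exact mul_comm _ _
      rw [e, this, mul_zero]
    have h2 : z = 0 := by
      by_contra hne
      have := hpos z hne
      omega
    have h3 : ∑ i, v i • bA i = 0 := by
      apply Subtype.ext
      simp only [Submodule.coe_sum, Submodule.coe_smul, Submodule.coe_zero]
      exact h2
    have := (Fintype.linearIndependent_iff.mp bA.linearIndependent) v h3
    funext i; exact this i
  -- the adjugate trick
  let v : _ → ℤ := fun i => B y (a i)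
  let w := G.adjugate.mulVec v
  set a0 : L := ∑ i, w i • a i with ha0
  have ha0A : a0 ∈ A := Submodule.sum_mem _ fun i _ => Submodule.smul_mem _ _ (haA i)
  have hpair : ∀ j, B a0 (a j) = G.det * B y (a j) := by
    intro j
    rw [ha0]
    simp only [map_sum, LinearMap.sum_apply, map_smul, LinearMap.smul_apply, smul_eq_mul]
    have h1 : (G.transpose.mulVec w) j = ∑ i, w i * B (a i) (a j) := by
      simp only [Matrix.mulVec, dotProduct, Matrix.transpose_apply, G, Matrix.of_apply]
      exact Finset.sum_congr rfl fun i _ => mul_comm _ _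
    rw [← h1, hGsymm]
    have h2 : G.mulVec w = G.det • v := by
      show G.mulVec (G.adjugate.mulVec v) = _
      rw [Matrix.mulVec_mulVec, Matrix.mul_adjugate, Matrix.smul_mulVec, Matrix.one_mulVec]
    rw [h2]; simp [v]
  obtain ⟨u, hu⟩ : ∃ u : L, u = G.det • y - a0 := ⟨_, rfl⟩
  have huA : ∀ a' ∈ A, B u a' = 0 := by
    intro a' ha'
    have hrep : a' = ∑ i, (bA.repr ⟨a', ha'⟩ i) • a i := by
      have := bA.sum_repr ⟨a', ha'⟩
      have h2 := congrArg (fun z : A => (z : L)) this
      simp only [Submodule.coe_sum, Submodule.coe_smul] at h2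
      exact h2.symm
    rw [hrep]
    simp only [map_sum, map_smul, smul_eq_mul]
    apply Finset.sum_eq_zero
    intro i _
    rw [hu, map_sub, LinearMap.sub_apply, map_smul, LinearMap.smul_apply, smul_eq_mul, hpair i,
      sub_self, mul_zero]
  have huperp : u ∈ B.orthogonal A := by
    rw [LinearMap.BilinForm.mem_orthogonal_iff]
    intro n hn
    show B n u = 0
    rw [hsymm.eq n u]
    exact huA n hn
  have h1 : B y u = 0 := hy u huperp
  have h2 : B a0 u = 0 := by
    rw [hsymm.eq a0 u]; exact huA a0 ha0A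
  have h3 : B u u = 0 := by
    have e : B u u = B (G.det • y - a0) u := by rw [← hu]
    rw [e, map_sub, LinearMap.sub_apply, map_smul, LinearMap.smul_apply, h1, h2]; simp
  have h4 : u = 0 := by
    by_contra hne
    have := hpos u hne
    omega
  have h5 : G.det • y = a0 := by
    rw [hu] at h4; exact sub_eq_zero.mp h4
  exact htf G.det y hdet (h5 ▸ ha0A)

theorem main (hsymm : B.IsSymm) (hpos : ∀ x, x ≠ 0 → 0 < B x x)
    (A : Submodule ℤ L) (htf : ∀ (c : ℤ) (x : L), c ≠ 0 → c • x ∈ A → x ∈ A) :
    (∀ x : L, (∃ b ∈ B.orthogonal A, ∀ b' ∈ B.orthogonal A, B x b' = B b b') → x ∈ A ⊔ B.orthogonal A) ∧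
      (∀ x : L, (∃ a ∈ A, ∀ a' ∈ A, B x a' = B a a') → x ∈ A ⊔ B.orthogonal A) ∧
      (∀ ψ : Module.Dual ℤ ↥(B.orthogonal A), ∃ φ : Module.Dual ℤ L, φ ∘ₗ (B.orthogonal A).subtype = ψ) ∧
      (∀ ψ : Module.Dual ℤ ↥A, ∃ φ : Module.Dual ℤ L, φ ∘ₗ A.subtype = ψ) := by
  refine ⟨?_, ?_, ?_, ?_⟩
  · rintro x ⟨b, hb, hxb⟩
    have : x - b ∈ A := by
      apply perp_perp B hsymm hpos A htf
      intro b' hb'
      rw [map_sub, LinearMap.sub_apply, hxb b' hb', sub_self]
    have e : x = (x - b) + b := by abel
    rw [e]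
    exact Submodule.add_mem_sup this hb
  · rintro x ⟨a, ha, hxa⟩
    have : x - a ∈ B.orthogonal A := by
      rw [LinearMap.BilinForm.mem_orthogonal_iff]
      intro n hn
      show B n (x - a) = 0
      rw [hsymm.eq n (x - a), map_sub, LinearMap.sub_apply, hxa n hn, sub_self]
    have e : x = a + (x - a) := by abel
    rw [e]
    exact Submodule.add_mem_sup ha this
  · apply exists_extend
    intro c x hc hx
    rw [LinearMap.BilinForm.mem_orthogonal_iff] at hx ⊢
    intro n hn
    have := hx n hn
    change B n (c • x) = 0 at this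
    rw [map_smul, smul_eq_mul] at this
    exact (mul_eq_zero.mp this).resolve_left hc
  · exact exists_extend A htf

end Groth.Agent.Lib.Helper4.LatticeOrth
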