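import Groth.Agent.Lib.Helper4.LatticeOrth
import Mathlib.LinearAlgebra.Isomorphisms
import Mathlib.Algebra.Module.Torsion.Basic
import Mathlib.LinearAlgebra.Dual.Lemmas

set_option autoImplicit false

namespace Groth.Agent.Lib.Helper4.LatticeOrth2
open LinearMap (BilinForm)
open Groth.Agent.Lib.Helper4.LatticeOrth

variable {L₀ L₁ : Type} [AddCommGroup L₀] [AddCommGroup L₁]
    [Module.Finite ℤ L₀] [Module.Free ℤ L₀] [Module.Finite ℤ L₁] [Module.Free ℤ L₁]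

omit [Module.Finite ℤ L₁] [Module.Free ℤ L₁] in
theorem main (B₀ : LinearMap.BilinForm ℤ L₀) (B₁ : LinearMap.BilinForm ℤ L₁) (h₀s : B₀.IsSymm) (h₁s : B₁.IsSymm)
    (h₀p : ∀ x, x ≠ 0 → 0 < B₀ x x) (h₁p : ∀ x, x ≠ 0 → 0 < B₁ x x) (huni : Function.Bijective B₀)
    (d : L₀ →ₗ[ℤ] L₁) (ds : L₁ →ₗ[ℤ] L₀) (hadj : ∀ x y, B₁ (d x) y = B₀ x (ds y)) :
    ∃ Φ : ↥(Submodule.torsion ℤ (L₀ ⧸ LinearMap.range (ds ∘ₗ d))) ≃ₗ[ℤ]
        (Module.Dual ℤ ↥(LinearMap.range d) ⧸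
          LinearMap.range ((B₁.compl₂ (LinearMap.range d).subtype) ∘ₗ (LinearMap.range d).subtype)),
      ∀ (x : L₀) (hx : Submodule.Quotient.mk x ∈ Submodule.torsion ℤ (L₀ ⧸ LinearMap.range (ds ∘ₗ d)))
        (ψ : Module.Dual ℤ ↥(LinearMap.range d)),
        (∀ y' : L₀, ψ ⟨d y', LinearMap.mem_range_self d y'⟩ = B₀ x y') →
          Φ ⟨Submodule.Quotient.mk x, hx⟩ = Submodule.Quotient.mk ψ := by
  classical
  set Δ : L₀ →ₗ[ℤ] L₀ := ds ∘ₗ d with hΔ
  set ι : ↥(LinearMap.range d) →ₗ[ℤ] Module.Dual ℤ ↥(LinearMap.range d) :=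
    (B₁.compl₂ (LinearMap.range d).subtype) ∘ₗ (LinearMap.range d).subtype with hι
  let e₀ : L₀ ≃ₗ[ℤ] Module.Dual ℤ L₀ := LinearEquiv.ofBijective B₀ huni
  have he₀ : ∀ x y, e₀ x y = B₀ x y := fun x y => rfl
  let d' : L₀ →ₗ[ℤ] ↥(LinearMap.range d) := d.rangeRestrict
  have hd' : ∀ y, d' y = ⟨d y, LinearMap.mem_range_self d y⟩ := fun y => rfl
  have hd'surj : Function.Surjective d' := d.surjective_rangeRestrict
  -- key identity
  have hkey : ∀ y y', B₁ (d y) (d y') = B₀ (Δ y) y' := by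
    intro y y'
    rw [h₁s.eq (d y) (d y'), hadj, h₀s.eq y' _]; rfl
  have hkerd : ∀ y, Δ y = 0 → d y = 0 := by
    intro y hy
    by_contra hne
    have := h₁p (d y) hne
    rw [hkey, hy] at this
    simp at this
  -- the map F₀
  let F₀ : Module.Dual ℤ ↥(LinearMap.range d) →ₗ[ℤ] L₀ :=
    e₀.symm.toLinearMap ∘ₗ (Module.Dual.transpose (R := ℤ) d')
  have hF₀ : ∀ ψ y', B₀ (F₀ ψ) y' = ψ (d' y') := by
    intro ψ y'
    have : e₀ (F₀ ψ) = ψ ∘ₗ d' := by
      simp [F₀, Module.Dual.transpose]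
      rfl
    rw [← he₀, this]; rfl
  have hF₀uniq : ∀ ψ x, (∀ y', ψ (d' y') = B₀ x y') → F₀ ψ = x := by
    intro ψ x h
    apply huni.1
    ext y'
    rw [hF₀, h]
  let F : Module.Dual ℤ ↥(LinearMap.range d) →ₗ[ℤ] (L₀ ⧸ LinearMap.range Δ) :=
    (LinearMap.range Δ).mkQ ∘ₗ F₀
  have hFι : ∀ y, F₀ (ι (d' y)) = Δ y := by
    intro y
    apply hF₀uniq
    intro y'
    rw [← hkey]; rfl
  have hker : LinearMap.ker F = LinearMap.range ι := by
    ext ψ
    constructor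
    · intro hψ
      rw [LinearMap.mem_ker] at hψ
      have : F₀ ψ ∈ LinearMap.range Δ := (Submodule.Quotient.mk_eq_zero _).mp hψ
      obtain ⟨y, hy⟩ := this
      refine ⟨d' y, ?_⟩
      ext z
      obtain ⟨y', rfl⟩ := hd'surj z
      rw [← hF₀ ψ y', ← hy, ← hkey]; rfl
    · rintro ⟨z, rfl⟩
      obtain ⟨y, rfl⟩ := hd'surj z
      rw [LinearMap.mem_ker]
      show Submodule.Quotient.mk (F₀ (ι (d' y))) = 0
      rw [hFι]
      exact (Submodule.Quotient.mk_eq_zero _).mpr ⟨y, rfl⟩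
  -- saturation
  let A : Submodule ℤ L₀ := (Submodule.torsion ℤ (L₀ ⧸ LinearMap.range Δ)).comap (LinearMap.range Δ).mkQ
  have hAmem : ∀ x, x ∈ A ↔ ∃ a : ℤ, a ≠ 0 ∧ a • x ∈ LinearMap.range Δ := by
    intro x
    show (LinearMap.range Δ).mkQ x ∈ Submodule.torsion ℤ _ ↔ _
    rw [Submodule.mem_torsion_iff]
    constructor
    · rintro ⟨a, ha⟩
      refine ⟨a, nonZeroDivisors.coe_ne_zero a, ?_⟩
      rw [← Submodule.Quotient.mk_eq_zero, Submodule.Quotient.mk_smul]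
      exact ha
    · rintro ⟨a, ha, hax⟩
      refine ⟨⟨a, mem_nonZeroDivisors_of_ne_zero ha⟩, ?_⟩
      show a • (LinearMap.range Δ).mkQ x = 0
      rw [← map_smul]
      exact (Submodule.Quotient.mk_eq_zero _).mpr hax
  have hAsat : ∀ (c : ℤ) (x : L₀), c ≠ 0 → c • x ∈ A → x ∈ A := by
    intro c x hc hx
    rw [hAmem] at hx ⊢
    obtain ⟨a, ha, hax⟩ := hx
    exact ⟨a * c, mul_ne_zero ha hc, by rwa [mul_smul]⟩
  have hrange : ∀ ψ, F ψ ∈ Submodule.torsion ℤ (L₀ ⧸ LinearMap.range Δ) := by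
    intro ψ
    show F₀ ψ ∈ A
    apply perp_perp B₀ h₀s h₀p A hAsat
    intro b hb
    rw [LinearMap.BilinForm.mem_orthogonal_iff] at hb
    have h1 : B₀ (Δ b) b = 0 := by
      apply hb
      rw [hAmem]
      exact ⟨1, one_ne_zero, by rw [one_smul]; exact ⟨b, rfl⟩⟩
    have h2 : d b = 0 := by
      by_contra hne
      have := h₁p (d b) hne
      rw [hkey, h1] at this
      exact lt_irrefl _ this
    rw [hF₀]
    have : d' b = 0 := Subtype.ext h2
    rw [this, map_zero]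
  have hsurj : ∀ q ∈ Submodule.torsion ℤ (L₀ ⧸ LinearMap.range Δ), ∃ ψ, F ψ = q := by
    intro q hq
    obtain ⟨x, rfl⟩ := (LinearMap.range Δ).mkQ_surjective q
    have hxA : x ∈ A := hq
    obtain ⟨a, ha, y, hy⟩ := (hAmem x).mp hxA
    have hvan : LinearMap.ker d ≤ LinearMap.ker (B₀ x) := by
      intro y' hy'
      rw [LinearMap.mem_ker] at hy' ⊢
      have : a * B₀ x y' = 0 := by
        have : B₀ (a • x) y' = 0 := by
          rw [← hy, ← hkey, hy', map_zero]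
        rwa [map_smul, LinearMap.smul_apply, smul_eq_mul] at this
      exact (mul_eq_zero.mp this).resolve_left ha
    let ψ : Module.Dual ℤ ↥(LinearMap.range d) :=
      (LinearMap.ker d).liftQ (B₀ x) hvan ∘ₗ d.quotKerEquivRange.symm.toLinearMap
    refine ⟨ψ, ?_⟩
    show (LinearMap.range Δ).mkQ (F₀ ψ) = _
    congr 1
    apply hF₀uniq
    intro y'
    show (LinearMap.ker d).liftQ (B₀ x) hvan (d.quotKerEquivRange.symm (d' y')) = _
    have : d.quotKerEquivRange.symm (d' y') = Submodule.Quotient.mk y' :=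
      LinearMap.quotKerEquivRange_symm_apply_image d y' _
    rw [this]; rfl
  -- assemble
  let Fbar : (Module.Dual ℤ ↥(LinearMap.range d) ⧸ LinearMap.range ι) →ₗ[ℤ] (L₀ ⧸ LinearMap.range Δ) :=
    (LinearMap.range ι).liftQ F hker.ge
  have hFbar : ∀ ψ, Fbar (Submodule.Quotient.mk ψ) = F ψ := fun ψ => rfl
  have hFbar_inj : Function.Injective Fbar := by
    rw [← LinearMap.ker_eq_bot]
    rw [Submodule.ker_liftQ, hker, Submodule.mkQ_map_self]
  have hFbar_mem : ∀ q, Fbar q ∈ Submodule.torsion ℤ (L₀ ⧸ LinearMap.range Δ) := by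
    intro q
    obtain ⟨ψ, rfl⟩ := (LinearMap.range ι).mkQ_surjective q
    exact hrange ψ
  let G := Fbar.codRestrict (Submodule.torsion ℤ (L₀ ⧸ LinearMap.range Δ)) hFbar_mem
  have hG : Function.Bijective G := by
    constructor
    · intro q q' h
      apply hFbar_inj
      exact congrArg Subtype.val h
    · rintro ⟨q, hq⟩
      obtain ⟨ψ, hψ⟩ := hsurj q hq
      exact ⟨Submodule.Quotient.mk ψ, Subtype.ext hψ⟩
  let E := LinearEquiv.ofBijective G hG
  refine ⟨E.symm, ?_⟩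
  intro x hx ψ hψ
  rw [LinearEquiv.symm_apply_eq]
  apply Subtype.ext
  show _ = F ψ
  show _ = (LinearMap.range Δ).mkQ (F₀ ψ)
  rw [hF₀uniq ψ x hψ]
  rfl

end Groth.Agent.Lib.Helper4.LatticeOrth2
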