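import Mathlib.Algebra.Polynomial.Laurent
import Mathlib.RingTheory.Kaehler.Basic
import Mathlib.Algebra.MonoidAlgebra.Module
import Mathlib.Tactic

namespace Groth.Agent.Lib.Helper4.LaurentKaehler

open LaurentPolynomial

variable (k : Type*) [Field k]

/-- basis `T^n` -/
noncomputable def bas : Module.Basis ℤ k (LaurentPolynomial k) := AddMonoidAlgebra.basis ℤ k

theorem bas_apply (n : ℤ) : bas k n = AddMonoidAlgebra.single n 1 := rfl

theorem bas_mul (n m : ℤ) : bas k n * bas k m = bas k (n + m) := by
  rw [bas_apply, bas_apply, bas_apply, AddMonoidAlgebra.single_mul_single, one_mul]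

/-- Euler operator `T d/dT` as a linear map -/
noncomputable def eulerLin : LaurentPolynomial k →ₗ[k] LaurentPolynomial k :=
  (bas k).constr k (fun n => (n : k) • bas k n)

theorem eulerLin_bas (n : ℤ) : eulerLin k (bas k n) = (n : k) • bas k n := by
  simp [eulerLin]

theorem eulerLin_leibniz (f g : LaurentPolynomial k) :
    eulerLin k (f * g) = f • eulerLin k g + g • eulerLin k f := by
  have h : (LinearMap.mul k (LaurentPolynomial k)).compr₂ (eulerLin k) =
      (LinearMap.mul k (LaurentPolynomial k)).compl₂ (eulerLin k) +
        ((LinearMap.mul k (LaurentPolynomial k)).compl₂ (eulerLin k)).flip := by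
    refine (bas k).ext fun n => (bas k).ext fun m => ?_
    simp only [LinearMap.compr₂_apply, LinearMap.mul_apply', LinearMap.add_apply,
      LinearMap.compl₂_apply, LinearMap.flip_apply, bas_mul, eulerLin_bas, mul_smul_comm,
      add_comm m n]
    rw [← add_smul]
    push_cast
    rw [add_comm]
  have := LinearMap.congr_fun (LinearMap.congr_fun h f) g
  simpa [mul_comm] using this

/-- Euler derivation -/
noncomputable def eulerDer : Derivation k (LaurentPolynomial k) (LaurentPolynomial k) :=
  Derivation.mk' (eulerLin k) (eulerLin_leibniz k)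

theorem coord_eulerLin (n : ℤ) (f : LaurentPolynomial k) :
    (bas k).repr (eulerLin k f) n = (n : k) * (bas k).repr f n := by
  have h : (bas k).coord n ∘ₗ eulerLin k = (n : k) • (bas k).coord n := by
    refine (bas k).ext fun m => ?_
    simp only [LinearMap.comp_apply, eulerLin_bas, map_smul, LinearMap.smul_apply,
      Module.Basis.coord_apply, Module.Basis.repr_self, smul_eq_mul]
    by_cases hmn : m = n
    · subst hmn; simp
    · simp [Finsupp.single_eq_of_ne hmn, Finsupp.single_eq_of_ne (Ne.symm hmn)]
  have := LinearMap.congr_fun h f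
  simpa using this

theorem main [CharZero k] (f : LaurentPolynomial k) :
    KaehlerDifferential.D k (LaurentPolynomial k) f = 0 ↔
      f ∈ Set.range (algebraMap k (LaurentPolynomial k)) := by
  constructor
  · intro hf
    have h1 : eulerDer k f = 0 := by
      have := (eulerDer k).liftKaehlerDifferential_comp_D f
      rw [← this, hf, map_zero]
    have h2 : eulerLin k f = 0 := h1
    have h3 : ∀ n : ℤ, n ≠ 0 → (bas k).repr f n = 0 := by
      intro n hn
      have := coord_eulerLin k n f
      rw [h2, map_zero, Finsupp.zero_apply] at this
      rcases mul_eq_zero.1 this.symm with h | h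
      · exact absurd (by exact_mod_cast h) hn
      · exact h
    refine ⟨(bas k).repr f 0, ?_⟩
    apply (bas k).repr.injective
    ext n
    by_cases hn : n = 0
    · subst hn
      rw [Algebra.algebraMap_eq_smul_one, map_smul]
      have : (1 : LaurentPolynomial k) = bas k 0 := rfl
      rw [this, Module.Basis.repr_self]
      simp
    · rw [h3 n hn, Algebra.algebraMap_eq_smul_one, map_smul]
      have : (1 : LaurentPolynomial k) = bas k 0 := rfl
      rw [this, Module.Basis.repr_self]
      simp only [smul_eq_mul, Finsupp.smul_single, mul_one]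
      rw [Finsupp.single_apply, if_neg (Ne.symm hn)]
  · rintro ⟨c, rfl⟩
    exact (KaehlerDifferential.D k (LaurentPolynomial k)).map_algebraMap c

end Groth.Agent.Lib.Helper4.LaurentKaehler
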