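import Mathlib

set_option autoImplicit false
universe u v

namespace Groth.Agent.Lib.Helper4.LesLength

open Module

section RankNullity

variable {R : Type*} [Ring R] {M N : Type*} [AddCommGroup M] [Module R M] [AddCommGroup N] [Module R N]

/-- rank-nullity for lengths -/
theorem length_eq_ker_add_range (φ : M →ₗ[R] N) :
    Module.length R M = Module.length R (LinearMap.ker φ) + Module.length R (LinearMap.range φ) :=
  Module.length_eq_add_of_exact (LinearMap.ker φ).subtype φ.rangeRestrict
    (Submodule.injective_subtype _) φ.surjective_rangeRestrict (by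
      intro x
      constructor
      · intro hx
        exact ⟨⟨x, by
          rw [LinearMap.mem_ker]
          have := congrArg Subtype.val hx
          simpa using this⟩, rfl⟩
      · rintro ⟨y, rfl⟩
        apply Subtype.ext
        simpa using y.2)

end RankNullity

/-- the integer-valued length -/
noncomputable def len (R : Type*) [Ring R] (M : Type*) [AddCommGroup M] [Module R M] : ℤ :=
  ((Module.length R M).toNat : ℤ)

theorem len_eq_add {R : Type*} [Ring R] {M N : Type*} [AddCommGroup M] [Module R M] [AddCommGroup N] [Module R N]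
    (φ : M →ₗ[R] N) (hM : Module.length R M ≠ ⊤) :
    len R M = len R (LinearMap.ker φ) + len R (LinearMap.range φ) := by
  have h := length_eq_ker_add_range φ
  unfold len
  have h1 : Module.length R (LinearMap.ker φ) ≠ ⊤ := by
    intro h0; rw [h0, top_add] at h; exact hM h
  have h2 : Module.length R (LinearMap.range φ) ≠ ⊤ := by
    intro h0; rw [h0, add_top] at h; exact hM h
  rw [h, ENat.toNat_add h1 h2]
  push_cast
  rfl

theorem len_congr {R : Type*} [Ring R] {M : Type*} [AddCommGroup M] [Module R M] {p q : Submodule R M}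
    (h : p = q) : len R p = len R q := by rw [h]

theorem len_eq_zero {R : Type*} [Ring R] {M : Type*} [AddCommGroup M] [Module R M] [Subsingleton M] :
    len R M = 0 := by
  unfold len
  rw [Module.length_eq_zero]
  rfl

section LES

variable {R : Type u} [Ring R] (H1 H2 H3 : ℕ → Type v)
  [∀ i, AddCommGroup (H1 i)] [∀ i, Module R (H1 i)]
  [∀ i, AddCommGroup (H2 i)] [∀ i, Module R (H2 i)]
  [∀ i, AddCommGroup (H3 i)] [∀ i, Module R (H3 i)]
  (f : ∀ i, H1 i →ₗ[R] H2 i) (g : ∀ i, H2 i →ₗ[R] H3 i) (d : ∀ i, H3 i →ₗ[R] H1 (i + 1))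
  (hf0 : Function.Injective (f 0))
  (e1 : ∀ i, LinearMap.range (d i) = LinearMap.ker (f (i + 1)))
  (e2 : ∀ i, LinearMap.range (f i) = LinearMap.ker (g i))
  (e3 : ∀ i, LinearMap.range (g i) = LinearMap.ker (d i))
  (h1 : ∀ i, Module.length R (H1 i) ≠ ⊤) (h2 : ∀ i, Module.length R (H2 i) ≠ ⊤)
  (h3 : ∀ i, Module.length R (H3 i) ≠ ⊤)

include hf0 e1 e2 e3 h1 h2 h3 in
theorem alt_sum (N : ℕ) :
    ((Finset.range (N + 1)).sum fun i => (-1 : ℤ) ^ i * (len R (H1 i) + len R (H3 i) - len R (H2 i))) =
      (-1 : ℤ) ^ N * len R (LinearMap.range (d N)) := by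
  have hb : ∀ i, len R (H2 i) = len R (LinearMap.range (f i)) + len R (LinearMap.range (g i)) := by
    intro i
    rw [len_eq_add (g i) (h2 i), ← len_congr (e2 i)]
  have hc : ∀ i, len R (H3 i) = len R (LinearMap.range (g i)) + len R (LinearMap.range (d i)) := by
    intro i
    rw [len_eq_add (d i) (h3 i), ← len_congr (e3 i)]
  have ha0 : len R (H1 0) = len R (LinearMap.range (f 0)) := by
    rw [len_eq_add (f 0) (h1 0)]
    have : LinearMap.ker (f 0) = ⊥ := LinearMap.ker_eq_bot.2 hf0
    have h0 : len R (LinearMap.ker (f 0)) = 0 := by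
      rw [len_congr this]
      exact len_eq_zero
    rw [h0, zero_add]
  have ha : ∀ i, len R (H1 (i + 1)) = len R (LinearMap.range (d i)) + len R (LinearMap.range (f (i + 1))) := by
    intro i
    rw [len_eq_add (f (i + 1)) (h1 (i + 1)), ← len_congr (e1 i)]
  induction N with
  | zero =>
    rw [Finset.sum_range_one, ha0, hb 0, hc 0]
    ring
  | succ N ih =>
    rw [Finset.sum_range_succ, ih, ha N, hb (N + 1), hc (N + 1)]
    ring

include hf0 e1 e2 e3 h1 h2 h3 in
/-- additivity of the alternating sum of lengths along a long exact sequence that stops -/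
theorem alt_sum_eq (N : ℕ) (hN : Subsingleton (H1 (N + 1))) :
    ((Finset.range (N + 1)).sum fun i => (-1 : ℤ) ^ i * len R (H2 i)) =
      ((Finset.range (N + 1)).sum fun i => (-1 : ℤ) ^ i * len R (H1 i)) +
      ((Finset.range (N + 1)).sum fun i => (-1 : ℤ) ^ i * len R (H3 i)) := by
  have h := alt_sum H1 H2 H3 f g d hf0 e1 e2 e3 h1 h2 h3 N
  have h0 : len R (LinearMap.range (d N)) = 0 := len_eq_zero
  rw [h0, mul_zero] at h
  have h' : ((Finset.range (N + 1)).sum fun i => (-1 : ℤ) ^ i * (len R (H1 i) + len R (H3 i) - len R (H2 i))) =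
      ((Finset.range (N + 1)).sum fun i => (-1 : ℤ) ^ i * len R (H1 i)) +
      ((Finset.range (N + 1)).sum fun i => (-1 : ℤ) ^ i * len R (H3 i)) -
      ((Finset.range (N + 1)).sum fun i => (-1 : ℤ) ^ i * len R (H2 i)) := by
    rw [← Finset.sum_add_distrib, ← Finset.sum_sub_distrib]
    refine Finset.sum_congr rfl fun i _ => ?_
    ring
  rw [h'] at h
  linarith

end LES

end Groth.Agent.Lib.Helper4.LesLength
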