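import Mathlib.Tactic
import Mathlib.AlgebraicGeometry.Morphisms.Flat
import Mathlib.AlgebraicGeometry.Morphisms.QuasiCompact
import Mathlib.RingTheory.RingHom.EssFiniteType

open AlgebraicGeometry CategoryTheory Limits TopologicalSpace

universe u

namespace Groth.Agent.Lib.Helper4.LocEssFT

variable {X Y : Scheme.{u}} (f : X ⟶ Y)

/-- restriction to a basic open is ess f.t. -/
lemma essFiniteType_map_basicOpen {U : Y.Opens} (hU : IsAffineOpen U) (a : Γ(Y, U))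
    (D : Y.Opens) (hD : D = Y.basicOpen a) (hle : D ≤ U) :
    (Y.presheaf.map (homOfLE hle).op).hom.EssFiniteType := by
  subst hD
  have := hU.isLocalization_basicOpen a
  have h2 : Algebra.EssFiniteType Γ(Y, U) Γ(Y, Y.basicOpen a) :=
    Algebra.EssFiniteType.of_isLocalization _ (Submonoid.powers a)
  exact RingHom.essFiniteType_algebraMap.mpr h2

lemma exists_refine {U Ui : Y.Opens} (hU : IsAffineOpen U) (hUi : IsAffineOpen Ui)
    {V : X.Opens} (hV : IsAffineOpen V) (e : V ≤ f ⁻¹ᵁ Ui)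
    (h : (f.appLE Ui V e).hom.EssFiniteType) (x : X) (hxV : x ∈ V) (hxU : f x ∈ U) :
    ∃ V' : X.Opens, IsAffineOpen V' ∧ x ∈ V' ∧ ∃ e' : V' ≤ f ⁻¹ᵁ U,
      (f.appLE U V' e').hom.EssFiniteType := by
  obtain ⟨a, b, hab, hxa⟩ := exists_basicOpen_le_affine_inter hU hUi (f x) ⟨hxU, e hxV⟩
  set D : Y.Opens := Y.basicOpen a with hD
  have hDU : D ≤ U := Y.basicOpen_le a
  have hDUi : D ≤ Ui := hab ▸ Y.basicOpen_le b
  set V' : X.Opens := X.basicOpen ((f.appLE Ui V e) b) with hV'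
  have hV'eq : V' = V ⊓ f ⁻¹ᵁ D := by
    rw [hV', Scheme.basicOpen_appLE, ← hab]
  have hV'V : V' ≤ V := X.basicOpen_le _
  have hV'D : V' ≤ f ⁻¹ᵁ D := hV'eq ▸ inf_le_right
  have hxV' : x ∈ V' := by
    rw [hV'eq]; exact ⟨hxV, hxa⟩
  refine ⟨V', hV.basicOpen _, hxV', hV'D.trans (f.preimage_mono hDU), ?_⟩
  -- f.appLE Ui V' ess f.t.
  have h1 : (f.appLE Ui V' (hV'V.trans e)).hom.EssFiniteType := by
    rw [← Scheme.Hom.appLE_map f e (homOfLE hV'V).op, CommRingCat.hom_comp]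
    exact h.comp (essFiniteType_map_basicOpen hV _ V' rfl hV'V)
  -- f.appLE D V' ess f.t.
  have h2 : (f.appLE D V' hV'D).hom.EssFiniteType := by
    have := Scheme.Hom.map_appLE f hV'D (homOfLE hDUi).op
    rw [← this, CommRingCat.hom_comp] at h1
    exact RingHom.EssFiniteType.of_comp _ h1
  rw [← Scheme.Hom.map_appLE f hV'D (homOfLE hDU).op, CommRingCat.hom_comp]
  exact (essFiniteType_map_basicOpen hU a D rfl hDU).comp h2

/-- the local-data predicate for one affine open of the target -/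
def Good (U : Y.affineOpens) : Prop :=
  ∃ T : Set X.affineOpens, (⋃ V ∈ T, ((V : X.Opens) : Set ↥X)) = ((f ⁻¹ᵁ (U : Y.Opens)) : Set ↥X) ∧
    ∀ V ∈ T, ∃ e : (V : X.Opens) ≤ f ⁻¹ᵁ (U : Y.Opens),
      (f.appLE (U : Y.Opens) (V : X.Opens) e).hom.EssFiniteType

lemma good_of_cover (S : Set Y.affineOpens)
    (hS : (⋃ U ∈ S, ((U : Y.Opens) : Set ↥Y)) = Set.univ)
    (hT : ∀ U ∈ S, Good f U) (U : Y.affineOpens) : Good f U := by
  refine ⟨{V' : X.affineOpens | ∃ e : (V' : X.Opens) ≤ f ⁻¹ᵁ (U : Y.Opens),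
      (f.appLE (U : Y.Opens) (V' : X.Opens) e).hom.EssFiniteType}, ?_, fun V hV => hV⟩
  apply Set.Subset.antisymm
  · intro x hx
    simp only [Set.mem_iUnion, Set.mem_setOf_eq] at hx
    obtain ⟨V, ⟨e, -⟩, hxV⟩ := hx
    exact e hxV
  · intro x hx
    have hfx : f x ∈ (⋃ U ∈ S, ((U : Y.Opens) : Set ↥Y)) := hS ▸ Set.mem_univ _
    simp only [Set.mem_iUnion] at hfx
    obtain ⟨Ui, hUi, hfxUi⟩ := hfx
    obtain ⟨T, hTcov, hTe⟩ := hT Ui hUi
    have hx' : x ∈ (⋃ V ∈ T, ((V : X.Opens) : Set ↥X)) := by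
      rw [hTcov]; exact hfxUi
    simp only [Set.mem_iUnion] at hx'
    obtain ⟨V, hVT, hxV⟩ := hx'
    obtain ⟨e, he⟩ := hTe V hVT
    obtain ⟨V', hV'aff, hxV', e', he'⟩ := exists_refine f U.2 Ui.2 V.2 e he x hxV hx
    simp only [Set.mem_iUnion, Set.mem_setOf_eq]
    exact ⟨⟨V', hV'aff⟩, ⟨e', he'⟩, hxV'⟩

theorem main15258 :
    (∃ S : Set Y.affineOpens, (⋃ U ∈ S, ((U : Y.Opens) : Set ↥Y)) = Set.univ ∧
      ∀ U ∈ S, ∃ T : Set X.affineOpens, (⋃ V ∈ T, ((V : X.Opens) : Set ↥X)) = ((f ⁻¹ᵁ (U : Y.Opens)) : Set ↥X) ∧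
        ∀ V ∈ T, ∃ e : (V : X.Opens) ≤ f ⁻¹ᵁ (U : Y.Opens), (f.appLE (U : Y.Opens) (V : X.Opens) e).hom.EssFiniteType) ↔
    ∀ U : Y.affineOpens, ∃ T : Set X.affineOpens, (⋃ V ∈ T, ((V : X.Opens) : Set ↥X)) = ((f ⁻¹ᵁ (U : Y.Opens)) : Set ↥X) ∧
        ∀ V ∈ T, ∃ e : (V : X.Opens) ≤ f ⁻¹ᵁ (U : Y.Opens), (f.appLE (U : Y.Opens) (V : X.Opens) e).hom.EssFiniteType := by
  constructor
  · rintro ⟨S, hS, hT⟩ U
    exact good_of_cover f S hS hT U
  · intro h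
    refine ⟨Set.univ, ?_, fun U _ => h U⟩
    apply Set.eq_univ_of_forall
    intro y
    obtain ⟨_, ⟨U, hU, rfl⟩, hyU, -⟩ :=
      Y.isBasis_affineOpens.exists_subset_of_mem_open (Set.mem_univ y) isOpen_univ
    simp only [Set.mem_iUnion]
    exact ⟨⟨U, hU⟩, Set.mem_univ _, hyU⟩

theorem main15259 :
    ((∃ S : Set Y.affineOpens, (⋃ U ∈ S, ((U : Y.Opens) : Set ↥Y)) = Set.univ ∧
      ∀ U ∈ S, ∃ T : Set X.affineOpens, (⋃ V ∈ T, ((V : X.Opens) : Set ↥X)) = ((f ⁻¹ᵁ (U : Y.Opens)) : Set ↥X) ∧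
        ∀ V ∈ T, ∃ e : (V : X.Opens) ≤ f ⁻¹ᵁ (U : Y.Opens), (f.appLE (U : Y.Opens) (V : X.Opens) e).hom.EssFiniteType) ∧ QuasiCompact f) ↔
    ∀ U : Y.affineOpens, ∃ T : Set X.affineOpens, T.Finite ∧ (⋃ V ∈ T, ((V : X.Opens) : Set ↥X)) = ((f ⁻¹ᵁ (U : Y.Opens)) : Set ↥X) ∧
        ∀ V ∈ T, ∃ e : (V : X.Opens) ≤ f ⁻¹ᵁ (U : Y.Opens), (f.appLE (U : Y.Opens) (V : X.Opens) e).hom.EssFiniteType := by
  constructor
  · rintro ⟨⟨S, hS, hT⟩, hqc⟩ U
    obtain ⟨T, hTcov, hTe⟩ := good_of_cover f S hS hT U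
    have hc : IsCompact ((f ⁻¹ᵁ (U : Y.Opens)) : Set ↥X) :=
      quasiCompact_iff_forall_isAffineOpen.mp hqc U.1 U.2
    obtain ⟨T', hT'T, hfin, hsub⟩ := hc.elim_finite_subcover_image (b := T)
      (c := fun V : X.affineOpens => ((V : X.Opens) : Set ↥X)) (fun V _ => V.1.2) hTcov.ge
    refine ⟨T', hfin, Set.Subset.antisymm ?_ hsub, fun V hV => hTe V (hT'T hV)⟩
    intro x hx
    simp only [Set.mem_iUnion] at hx
    obtain ⟨V, hVT', hxV⟩ := hx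
    obtain ⟨e, -⟩ := hTe V (hT'T hVT')
    exact e hxV
  · intro h
    refine ⟨(main15258 f).mpr (fun U => ?_), ?_⟩
    · obtain ⟨T, -, h1, h2⟩ := h U
      exact ⟨T, h1, h2⟩
    · rw [quasiCompact_iff_forall_isAffineOpen]
      intro U hU
      obtain ⟨T, hfin, h1, -⟩ := h ⟨U, hU⟩
      change IsCompact ((f ⁻¹ᵁ U : X.Opens) : Set ↥X)
      have h1' : (⋃ V ∈ T, ((V : X.Opens) : Set ↥X)) = ((f ⁻¹ᵁ U : X.Opens) : Set ↥X) := h1
      rw [← h1']
      exact hfin.isCompact_biUnion (fun V _ => V.2.isCompact)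

lemma essFiniteType_of_isPushout {R S T P : CommRingCat.{u}} {f : R ⟶ S} {g : R ⟶ T}
    {inl : S ⟶ P} {inr : T ⟶ P}
    (h : IsPushout f g inl inr) (hg : g.hom.EssFiniteType) : inl.hom.EssFiniteType := by
  rw [← h.inl_isoPushout_inv, CommRingCat.hom_comp,
    RingHom.EssFiniteType.respectsIso.cancel_right_isIso]
  exact RingHom.EssFiniteType.isStableUnderBaseChange.pushout_inl
    RingHom.EssFiniteType.respectsIso f g hg

lemma isAffineOpen_inf_of_isPullback {X Y S T : Scheme.{u}} {f : T ⟶ S} {g : Y ⟶ X} {iX : X ⟶ S}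
    {iY : Y ⟶ T} (H : IsPullback g iY iX f)
    {US : S.Opens} {UT : T.Opens}
    {UX : X.Opens} (hUST : UT ≤ f ⁻¹ᵁ US) (hUSX : UX ≤ iX ⁻¹ᵁ US)
    {UY : Y.Opens} (hUY : UY = g ⁻¹ᵁ UX ⊓ iY ⁻¹ᵁ UT)
    (hUS : IsAffineOpen US) (hUT : IsAffineOpen UT)
    (hUX : IsAffineOpen UX) : IsAffineOpen UY := by
  have : IsAffine _ := hUS
  have : IsAffine _ := hUT
  have : IsAffine _ := hUX
  exact .of_isIso (Scheme.Hom.isPullback_resLE H hUST hUSX hUY).isoPullback.hom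

theorem main15261 {X Y Y' : Scheme.{u}} (f : X ⟶ Y) (g : Y' ⟶ Y)
    (hf : ∀ U : Y.affineOpens, Good f U) (U : Y'.affineOpens) : Good (pullback.snd f g) U := by
  have H : IsPullback (pullback.fst f g) (pullback.snd f g) f g := IsPullback.of_hasPullback f g
  apply good_of_cover (pullback.snd f g)
    {U' : Y'.affineOpens | ∃ U : Y.affineOpens, (U' : Y'.Opens) ≤ g ⁻¹ᵁ (U : Y.Opens)}
  · apply Set.eq_univ_of_forall
    intro y'
    obtain ⟨_, ⟨U, hU, rfl⟩, hyU, -⟩ :=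
      Y.isBasis_affineOpens.exists_subset_of_mem_open (Set.mem_univ (g y')) isOpen_univ
    obtain ⟨_, ⟨U', hU', rfl⟩, hyU', hU'U⟩ :=
      Y'.isBasis_affineOpens.exists_subset_of_mem_open
        (show y' ∈ ((g ⁻¹ᵁ U : Y'.Opens) : Set Y') from hyU) (g ⁻¹ᵁ U).isOpen
    simp only [Set.mem_iUnion]
    exact ⟨⟨U', hU'⟩, ⟨⟨U, hU⟩, hU'U⟩, hyU'⟩
  · rintro U' ⟨U, hU'U⟩
    obtain ⟨T, hTcov, hTe⟩ := hf U
    refine ⟨{W | ∃ V ∈ T, (W : (pullback f g).Opens) =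
      (pullback.fst f g) ⁻¹ᵁ (V : X.Opens) ⊓ (pullback.snd f g) ⁻¹ᵁ (U' : Y'.Opens)}, ?_, ?_⟩
    · apply Set.Subset.antisymm
      · intro z hz
        simp only [Set.mem_iUnion] at hz
        obtain ⟨W, ⟨V, -, hW⟩, hzW⟩ := hz
        have : z ∈ (W : (pullback f g).Opens) := hzW
        rw [hW] at this
        exact this.2
      · intro z hz
        have hz' : (pullback.snd f g) z ∈ (U' : Y'.Opens) := hz
        have h1 : f ((pullback.fst f g) z) ∈ (U : Y.Opens) := by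
          have : f ((pullback.fst f g) z) = g ((pullback.snd f g) z) := by
            rw [← Scheme.Hom.comp_apply, ← Scheme.Hom.comp_apply, pullback.condition]
          rw [this]
          exact hU'U hz'
        have h2 : (pullback.fst f g) z ∈ (⋃ V ∈ T, ((V : X.Opens) : Set ↥X)) := by
          rw [hTcov]; exact h1
        simp only [Set.mem_iUnion] at h2
        obtain ⟨V, hVT, hzV⟩ := h2
        obtain ⟨e, -⟩ := hTe V hVT
        simp only [Set.mem_iUnion]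
        refine ⟨⟨(pullback.fst f g) ⁻¹ᵁ (V : X.Opens) ⊓ (pullback.snd f g) ⁻¹ᵁ (U' : Y'.Opens),
          isAffineOpen_inf_of_isPullback H hU'U e rfl U.2 U'.2 V.2⟩, ⟨V, hVT, rfl⟩, ⟨hzV, hz'⟩⟩
    · rintro W ⟨V, hVT, hW⟩
      obtain ⟨e, he⟩ := hTe V hVT
      have := isIso_pushoutSection_of_isAffineOpen H hU'U e hW U.2 U'.2 V.2
      have hpo := (isIso_pushoutSection_iff H hU'U e hW).mp this
      exact ⟨_, essFiniteType_of_isPushout hpo.flip he⟩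

end Groth.Agent.Lib.Helper4.LocEssFT
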