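import Groth.Agent.Lib.Helper4.Bridge
import Groth.Agent.Lib.Helper4.ProjVanish

set_option autoImplicit false
universe u
open CategoryTheory CategoryTheory.Limits Opposite TopologicalSpace AlgebraicGeometry

noncomputable section

namespace Groth.Agent.Lib.Helper4.LocalEmb

open Groth.Agent.Lib.Helper28 Groth.Agent.Lib.Helper28.QCohLoc Groth.Agent.Lib.Helper28.GenLocus
  Groth.Agent.Lib.Helper28.PullbackInv Groth.Agent.Lib.Helper4.Bridge

variable {A : Type u} [CommRing A] {X Z' : Scheme.{u}} (fX : X ⟶ Spec (CommRingCat.of A)) (g : Z' ⟶ X)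
  (N : ℕ) (j : Z' ⟶ CohB1.ProjSpaceOver N (Spec (CommRingCat.of A)))
  (hj : j ≫ CohB1.ProjSpaceOver.toBase N _ = g ≫ fX) (U : X.Opens) (hU : IsAffineOpen U)

/-- the structure morphism of `g⁻¹ U` over `Spec Γ(X, U)` -/
def β : ↑(g ⁻¹ᵁ U) ⟶ Spec (CommRingCat.of Γ(X, U)) := (g ∣_ U) ≫ hU.isoSpec.hom

/-- the embedding of `g⁻¹ U` into projective space over `Spec Γ(X, U)` (base change form) -/
def jB : ↑(g ⁻¹ᵁ U) ⟶ CohB1.ProjSpaceOver N (Spec (CommRingCat.of Γ(X, U))) :=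
  pullback.lift ((g ⁻¹ᵁ U).ι ≫ j ≫ pr₁ N (Spec (CommRingCat.of A))) (β g U hU) (specULiftZIsTerminal.hom_ext _ _)

theorem jB_fst : jB g N j U hU ≫ pr₁ N (Spec (CommRingCat.of Γ(X, U))) =
    (g ⁻¹ᵁ U).ι ≫ j ≫ pr₁ N (Spec (CommRingCat.of A)) := pullback.lift_fst _ _ _

theorem jB_snd : jB g N j U hU ≫ CohB1.ProjSpaceOver.toBase N (Spec (CommRingCat.of Γ(X, U))) = β g U hU :=
  pullback.lift_snd _ _ _

include hj in
theorem mono_jB [Mono j] : Mono (jB g N j U hU) := by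
  constructor
  intro T a b hab
  have h1 : a ≫ β g U hU = b ≫ β g U hU := by
    rw [← jB_snd g N j U hU, ← Category.assoc, hab, Category.assoc]
  have h2 : a ≫ (g ∣_ U) = b ≫ (g ∣_ U) := by
    unfold β at h1
    rw [← Category.assoc, ← Category.assoc] at h1
    exact (cancel_mono hU.isoSpec.hom).1 h1
  have h3 : a ≫ (g ⁻¹ᵁ U).ι ≫ g = b ≫ (g ⁻¹ᵁ U).ι ≫ g := by
    rw [← morphismRestrict_ι, ← Category.assoc, h2, Category.assoc]
  have h4 : a ≫ (g ⁻¹ᵁ U).ι ≫ j ≫ pr₁ N (Spec (CommRingCat.of A)) =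
      b ≫ (g ⁻¹ᵁ U).ι ≫ j ≫ pr₁ N (Spec (CommRingCat.of A)) := by
    rw [← jB_fst g N j U hU, ← Category.assoc, hab, Category.assoc]
  have h5 : (a ≫ (g ⁻¹ᵁ U).ι) ≫ j = (b ≫ (g ⁻¹ᵁ U).ι) ≫ j := by
    apply pullback.hom_ext
    · have h4' : ((a ≫ (g ⁻¹ᵁ U).ι) ≫ j) ≫ pr₁ N (Spec (CommRingCat.of A)) =
          ((b ≫ (g ⁻¹ᵁ U).ι) ≫ j) ≫ pr₁ N (Spec (CommRingCat.of A)) := by
        simpa only [Category.assoc] using h4
      exact h4'
    · have : ∀ c : T ⟶ ↑(g ⁻¹ᵁ U), ((c ≫ (g ⁻¹ᵁ U).ι) ≫ j) ≫ CohB1.ProjSpaceOver.toBase N _ =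
          (c ≫ (g ⁻¹ᵁ U).ι ≫ g) ≫ fX := by
        intro c
        simp only [Category.assoc]
        rw [hj]
      exact (this a).trans ((congrArg (· ≫ fX) h3).trans (this b).symm)
  exact (cancel_mono (g ⁻¹ᵁ U).ι).1 ((cancel_mono j).1 h5)

instance isProper_β [IsProper g] : IsProper (β g U hU) := by
  unfold β
  infer_instance

include hj in
theorem isClosedImmersion_jB [Mono j] [IsProper g] : IsClosedImmersion (jB g N j U hU) := by
  have hmono := mono_jB fX g N j hj U hU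
  have hp1 : IsProper (CohB1.ProjSpaceOver.toBase N (Spec (CommRingCat.of Γ(X, U)))) :=
    ProjSpaceBasic.isProper_toBase N _
  have hp2 : IsProper (jB g N j U hU ≫ CohB1.ProjSpaceOver.toBase N (Spec (CommRingCat.of Γ(X, U)))) := by
    rw [jB_snd]; infer_instance
  have hp : IsProper (jB g N j U hU) :=
    IsProper.of_comp (jB g N j U hU) (CohB1.ProjSpaceOver.toBase N (Spec (CommRingCat.of Γ(X, U))))
  exact (IsClosedImmersion.iff_isProper_and_mono _).2 ⟨hp, hmono⟩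

/-- the invertible module `j^* O(1)` -/
abbrev LL : Z'.Modules := (Scheme.Modules.pullback j).obj (Twist.twistOver N (Spec (CommRingCat.of A)) 1)

theorem isInvertible_LL : PicF.IsInvertible (LL N j) :=
  isInvertible_pullback j (isInvertible_twistOver N _)

include hj in
/-- **local projective embedding** over an affine open of the target -/
theorem exists_local_embedding [Mono j] [IsProper g] :
    ∃ (k : ↑(g ⁻¹ᵁ U) ⟶ CohB1.ProjSpace N Γ(X, U)), IsClosedImmersion k ∧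
      k ≫ CohB1.ProjSpace.toSpec N Γ(X, U) = β g U hU ∧
      Nonempty ((Scheme.Modules.pullback k).obj (Twist.twistProjSpace N Γ(X, U) 1) ≅
        (LL N j).restrict (g ⁻¹ᵁ U).ι) := by
  obtain ⟨i₀, hi₀, hi₀', ⟨τ⟩⟩ := exists_bridge N Γ(X, U)
  haveI := isClosedImmersion_jB fX g N j hj U hU
  refine ⟨jB g N j U hU ≫ i₀, inferInstance, ?_, ?_⟩
  · rw [Category.assoc, hi₀', jB_snd]
  · refine ⟨(Scheme.Modules.pullbackComp (jB g N j U hU) i₀).symm.app _ ≪≫
      (Scheme.Modules.pullback (jB g N j U hU)).mapIso τ ≪≫ ?_⟩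
    show (Scheme.Modules.pullback (jB g N j U hU)).obj
      ((Scheme.Modules.pullback (pr₁ N (Spec (CommRingCat.of Γ(X, U))))).obj (OZ N)) ≅ _
    refine (Scheme.Modules.pullbackComp (jB g N j U hU) (pr₁ N _)).app (OZ N) ≪≫
      (Scheme.Modules.pullbackCongr (jB_fst g N j U hU)).app (OZ N) ≪≫
      (Scheme.Modules.pullbackComp (g ⁻¹ᵁ U).ι (j ≫ pr₁ N (Spec (CommRingCat.of A)))).symm.app (OZ N) ≪≫
      (Scheme.Modules.pullback (g ⁻¹ᵁ U).ι).mapIso
        ((Scheme.Modules.pullbackComp j (pr₁ N (Spec (CommRingCat.of A)))).symm.app (OZ N)) ≪≫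
      (Scheme.Modules.restrictFunctorIsoPullback (g ⁻¹ᵁ U).ι).symm.app _

end Groth.Agent.Lib.Helper4.LocalEmb
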