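import Mathlib

namespace Groth.Agent.Lib.Helper4.LogLift
open Topology unitInterval

/-- A nullhomotopic map to `ℂ \ {0}` has a continuous logarithm. -/
theorem exists_log_of_nullhomotopic {T : Type*} [TopologicalSpace T]
    (φ : C(T, {z : ℂ // z ≠ 0})) (z₀ : {z : ℂ // z ≠ 0})
    (h : φ.Homotopic (ContinuousMap.const T z₀)) :
    ∃ ψ : C(T, ℂ), ∀ a, Complex.exp (ψ a) = (φ a).1 := by
  obtain ⟨H⟩ := h.symm
  have cov := Complex.isCoveringMap_exp
  set c : ℂ := Complex.log z₀.1 with hc
  have hcz : Complex.exp c = z₀.1 := Complex.exp_log z₀.2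
  let f : C(T, ℂ) := ContinuousMap.const T c
  have H0 : ∀ a, H.toContinuousMap (0, a) = (⟨Complex.exp (f a), Complex.exp_ne_zero _⟩ : {z : ℂ // z ≠ 0}) := by
    intro a
    apply Subtype.ext
    show (H (0, a)).1 = Complex.exp c
    rw [H.apply_zero, hcz]; rfl
  let L := cov.liftHomotopy H.toContinuousMap f H0
  refine ⟨⟨fun a => L (1, a), L.continuous.comp (Continuous.prodMk_right 1)⟩, fun a => ?_⟩
  have h1 := congrFun (cov.liftHomotopy_lifts H.toContinuousMap f H0) (1, a)
  have h2 : (H.toContinuousMap (1, a)) = φ a := H.apply_one a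
  have h3 := congrArg Subtype.val h1
  simp only [Function.comp_apply] at h3
  rw [h2] at h3
  exact h3

end Groth.Agent.Lib.Helper4.LogLift
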