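import Mathlib
import Groth.Agent.Lib.Helper4.AffCover
import Groth.Agent.Lib.Helper4.DivTrans

namespace Groth.Agent.Lib.Helper4.RootCover
open AlgebraicGeometry CategoryTheory TopologicalSpace Opposite An Topology Polynomial
open Groth.Agent.Lib.Helper4.AnEv Groth.Agent.Lib.Helper4.AnGen
open Groth.Agent.Lib.Helper4.AffCover Groth.Agent.Lib.Helper4.ConnAff
open Groth.Agent.Lib.Helper4.DivTrans

lemma prime_of_irreducible_map {R : Type*} [CommRing R] [IsDomain R] (P : R[X]) (hP : P.Monic)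
    (h : Irreducible (P.map (algebraMap R (FractionRing R)))) : Prime P := by
  have hinj : Function.Injective (algebraMap R (FractionRing R)) := IsFractionRing.injective _ _
  refine ⟨hP.ne_zero, fun hu => h.not_isUnit (hu.map (Polynomial.mapRingHom _)), fun a b hab => ?_⟩
  have h1 : P.map (algebraMap R (FractionRing R)) ∣
      a.map (algebraMap R (FractionRing R)) * b.map (algebraMap R (FractionRing R)) := by
    rw [← Polynomial.map_mul]
    exact (Polynomial.map_dvd_map _ hinj hP).2 hab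
  rcases h.prime.dvd_or_dvd h1 with h2 | h2
  · exact Or.inl ((Polynomial.map_dvd_map _ hinj hP).1 h2)
  · exact Or.inr ((Polynomial.map_dvd_map _ hinj hP).1 h2)

/-- A continuous function with values in the `ℓ`-th roots of unity on a preconnected space is
constant. -/
lemma const_of_pow_eq_one {T : Type*} [TopologicalSpace T] [PreconnectedSpace T] (q : T → ℂ)
    (hq : Continuous q) (ℓ : ℕ) (hℓ : 0 < ℓ) (h : ∀ y, q y ^ ℓ = 1) (y₁ y₂ : T) : q y₁ = q y₂ := by
  have hfin : (Set.range q).Finite := by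
    refine Set.Finite.subset (Polynomial.rootSet_finite (X ^ ℓ - 1 : ℂ[X]) ℂ) ?_
    rintro _ ⟨y, rfl⟩
    rw [Polynomial.mem_rootSet]
    refine ⟨X_pow_sub_C_ne_zero hℓ 1, ?_⟩
    simp [h y]
  have hpre : _root_.IsPreconnected (Set.range q) := isPreconnected_range hq
  have htd : IsTotallyDisconnected (Set.range q) := hfin.countable.isTotallyDisconnected
  exact htd _ subset_rfl hpre ⟨y₁, rfl⟩ ⟨y₂, rfl⟩

variable {W : Scheme.{0}} [W.Over SC] [IsAffine W] [IsIntegral W] [LocallyOfFiniteType (W ↘ SC)]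

/-- If `u` has a continuous logarithm on `X(ℂ)` then `u` is an `ℓ`-th power in the function
field, for every prime `ℓ`. -/
theorem exists_root_of_log (u : Γ(W, ⊤)) (ψ : Pts W → ℂ) (hψ : Continuous ψ)
    (h : ∀ x, Complex.exp (ψ x) = x.evTop u) (ℓ : ℕ) (hℓ : ℓ.Prime) :
    ∃ v : FractionRing Γ(W, ⊤), v ^ ℓ = algebraMap Γ(W, ⊤) (FractionRing Γ(W, ⊤)) u := by
  by_contra hcon
  push Not at hcon
  have hirr : Irreducible (X ^ ℓ - C (algebraMap Γ(W, ⊤) (FractionRing Γ(W, ⊤)) u) : (FractionRing Γ(W, ⊤))[X]) :=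
    (X_pow_sub_C_irreducible_iff_of_prime hℓ).2 hcon
  set P : Γ(W, ⊤)[X] := X ^ ℓ - C u with hP
  have hPmonic : P.Monic := monic_X_pow_sub_C _ hℓ.ne_zero
  have hPmap : P.map (algebraMap Γ(W, ⊤) (FractionRing Γ(W, ⊤))) = X ^ ℓ - C (algebraMap Γ(W, ⊤) (FractionRing Γ(W, ⊤)) u) := by
    simp [hP]
  have hprime : Prime P := prime_of_irreducible_map P hPmonic (hPmap ▸ hirr)
  haveI : IsDomain (AdjoinRoot P) := AdjoinRoot.isDomain_of_prime hprime
  set f : Γ(W, ⊤) →+* AdjoinRoot P := AdjoinRoot.of P with hf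
  letI := overY f
  haveI := proj_isOver f
  haveI : LocallyOfFiniteType (Spec (CommRingCat.of (AdjoinRoot P)) ↘ SC) := by
    refine lft_YY f ?_
    have : Algebra.FiniteType Γ(W, ⊤) (AdjoinRoot P) := inferInstance
    rw [RingHom.FiniteType]
    convert this using 1
    exact Algebra.algebra_ext _ _ fun r => rfl
  haveI : IsIntegral (Spec (CommRingCat.of (AdjoinRoot P))) := inferInstance
  haveI : PreconnectedSpace (Pts (Spec (CommRingCat.of (AdjoinRoot P)))) :=
    preconnectedSpace_of_isIntegral_of_isAffine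
  obtain ⟨x⟩ : Nonempty (Pts W) :=
    (Groth.Agent.Lib.Helper4.AnBasic.main4186 W).1 inferInstance
  -- the continuous root
  set w : Pts (Spec (CommRingCat.of (AdjoinRoot P))) → ℂ := fun y =>
    Complex.exp (ψ (Pts.map (proj f) y) / ℓ) with hw
  have hwc : Continuous w :=
    Complex.continuous_exp.comp ((hψ.comp (Pts.continuous_map _)).div_const _)
  have hℓ0 : (ℓ : ℂ) ≠ 0 := Nat.cast_ne_zero.2 hℓ.ne_zero
  have hwpow : ∀ y, w y ^ ℓ = (Pts.map (proj f) y).evTop u := by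
    intro y
    rw [hw, ← Complex.exp_nat_mul, mul_div_cancel₀ _ hℓ0, h]
  set ρe : Γ(Spec (CommRingCat.of (AdjoinRoot P)), ⊤) := gam (AdjoinRoot.root P) with hρe
  have hroot : ∀ y : Pts (Spec (CommRingCat.of (AdjoinRoot P))),
      y.evTop ρe ^ ℓ = (Pts.map (proj f) y).evTop u := by
    intro y
    rw [evTop_map_proj, ← AnEv.ev_pow, hρe, ← map_pow]
    congr 2
    have h1 : Polynomial.eval₂ (AdjoinRoot.of P) (AdjoinRoot.root P) P = 0 := AdjoinRoot.eval₂_root P
    rw [hP, eval₂_sub, eval₂_pow, eval₂_X, eval₂_C, sub_eq_zero] at h1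
    exact h1
  set q : Pts (Spec (CommRingCat.of (AdjoinRoot P))) → ℂ := fun y => y.evTop ρe / w y with hq
  have hqc : Continuous q :=
    (continuous_evTop ρe).div hwc fun y => Complex.exp_ne_zero _
  have hqpow : ∀ y, q y ^ ℓ = 1 := by
    intro y
    rw [hq, div_pow, hroot, hwpow]
    exact div_self (by rw [← hwpow]; exact pow_ne_zero _ (Complex.exp_ne_zero _))
  -- two points
  set τ₁ : ℂ := Complex.exp (ψ x / ℓ) with hτ₁
  set ζ : ℂ := Complex.exp (2 * Real.pi * Complex.I / ℓ) with hζ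
  have hτ₁pow : τ₁ ^ ℓ = x.evTop u := by
    rw [hτ₁, ← Complex.exp_nat_mul, mul_div_cancel₀ _ hℓ0, h]
  have hζpow : ζ ^ ℓ = 1 := by
    rw [hζ, ← Complex.exp_nat_mul, mul_div_cancel₀ _ hℓ0, Complex.exp_two_pi_mul_I]
  have hζne : ζ ≠ 1 := by
    have := Complex.isPrimitiveRoot_exp ℓ hℓ.ne_zero
    intro h1
    have h2 := this.eq_orderOf
    rw [hζ] at h1
    rw [h1, orderOf_one] at h2
    exact hℓ.ne_one h2
  have hpt : ∀ τ : ℂ, τ ^ ℓ = x.evTop u →
      ∃ y : Pts (Spec (CommRingCat.of (AdjoinRoot P))), Pts.map (proj f) y = x ∧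
        y.evTop ρe = τ := by
    intro τ hτ
    have he : Polynomial.eval₂ (evHom x ⊤ (Opens.mem_top _)) τ P = 0 := by
      rw [hP, eval₂_sub, eval₂_pow, eval₂_X, eval₂_C, hτ]
      exact sub_self _
    obtain ⟨y, hy1, hy2⟩ := exists_pt_over f x (AdjoinRoot.lift (evHom x ⊤ (Opens.mem_top _)) τ he)
      (fun b => by rw [hf, AdjoinRoot.lift_of]; rfl)
    exact ⟨y, hy1, by rw [hρe, hy2, AdjoinRoot.lift_root]⟩
  obtain ⟨y₁, hy₁, hy₁'⟩ := hpt τ₁ hτ₁pow
  obtain ⟨y₂, hy₂, hy₂'⟩ := hpt (τ₁ * ζ) (by rw [mul_pow, hζpow, mul_one, hτ₁pow])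
  have hq1 : q y₁ = 1 := by
    rw [hq]
    show y₁.evTop ρe / w y₁ = 1
    rw [hy₁', hw]
    show τ₁ / Complex.exp (ψ (Pts.map (proj f) y₁) / ℓ) = 1
    rw [hy₁]
    exact div_self (Complex.exp_ne_zero _)
  have hq2 : q y₂ = ζ := by
    rw [hq]
    show y₂.evTop ρe / w y₂ = ζ
    rw [hy₂', hw]
    show τ₁ * ζ / Complex.exp (ψ (Pts.map (proj f) y₂) / ℓ) = ζ
    rw [hy₂, mul_comm, mul_div_assoc]
    rw [show τ₁ / Complex.exp (ψ x / ℓ) = 1 from div_self (Complex.exp_ne_zero _), mul_one]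
  have := const_of_pow_eq_one q hqc ℓ hℓ.pos hqpow y₁ y₂
  rw [hq1, hq2] at this
  exact hζne this.symm

end Groth.Agent.Lib.Helper4.RootCover
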