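import Mathlib
import Groth.Agent.Lib.Helper4.RootCover
import Groth.Agent.Lib.Helper4.ConnGlue
import Groth.Agent.Lib.Helper4.LogLift

namespace Groth.Agent.Lib.Helper4.LogConst
open AlgebraicGeometry CategoryTheory TopologicalSpace Opposite An Topology
open Groth.Agent.Lib.Helper4.AnEv Groth.Agent.Lib.Helper4.AnGen
open Groth.Agent.Lib.Helper4.AnOpen Groth.Agent.Lib.Helper4.AnClosed
open Groth.Agent.Lib.Helper4.DensSch3 Groth.Agent.Lib.Helper4.ConnAff
open Groth.Agent.Lib.Helper4.AnBasic Groth.Agent.Lib.Helper4.AnInj Groth.Agent.Lib.Helper4.AnSurj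
open Groth.Agent.Lib.Helper4.ClopenStable Groth.Agent.Lib.Helper4.ConnGlue
open Groth.Agent.Lib.Helper4.RootCover Groth.Agent.Lib.Helper4.DivTrans

variable {X : Scheme.{0}} [X.Over SC]

/-- integral affine case -/
theorem const_of_log_affine [IsAffine X] [IsIntegral X] [LocallyOfFiniteType (X ↘ SC)]
    (u : Γ(X, ⊤)) (ψ : Pts X → ℂ) (hψ : Continuous ψ)
    (h : ∀ x, Complex.exp (ψ x) = x.evTop u) (x y : Pts X) : x.evTop u = y.evTop u := by
  letI : Algebra ℂ Γ(X, ⊤) := (strHom X).toAlgebra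
  haveI : Algebra.FiniteType ℂ Γ(X, ⊤) := finiteType_top
  by_cases halg : IsAlgebraic ℂ u
  · -- algebraic elements are constants
    have hint : IsIntegral ℂ u := halg.isIntegral
    set S := Algebra.adjoin ℂ ({u} : Set Γ(X, ⊤)) with hS
    haveI : Algebra.IsIntegral ℂ S := by
      rw [hS]
      exact Algebra.IsIntegral.adjoin (by rintro _ rfl; exact hint)
    have hsurj := (IsAlgClosed.algebraMap_bijective_of_isIntegral (k := ℂ) (K := S)).2
    obtain ⟨c, hc⟩ := hsurj ⟨u, Algebra.self_mem_adjoin_singleton ℂ u⟩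
    have hcu : strHom X c = u := congrArg Subtype.val hc
    rw [← hcu, evTop_strHom, evTop_strHom]
  · exfalso
    have htr : Transcendental ℂ u := halg
    have hinj : Function.Injective (algebraMap Γ(X, ⊤) (FractionRing Γ(X, ⊤))) :=
      IsFractionRing.injective _ _
    have htr' : Transcendental ℂ (algebraMap Γ(X, ⊤) (FractionRing Γ(X, ⊤)) u) := by
      rwa [transcendental_algebraMap_iff hinj]
    haveI : Algebra.EssFiniteType Γ(X, ⊤) (FractionRing Γ(X, ⊤)) :=
      Algebra.EssFiniteType.of_isLocalization _ (nonZeroDivisors Γ(X, ⊤))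
    haveI : Algebra.EssFiniteType ℂ (FractionRing Γ(X, ⊤)) :=
      Algebra.EssFiniteType.comp ℂ Γ(X, ⊤) _
    obtain ⟨N, hN⟩ := exists_bound_prime_pow_ne _ htr'
    obtain ⟨ℓ, hℓN, hℓ⟩ := Nat.exists_infinite_primes (N + 1)
    obtain ⟨v, hv⟩ := exists_root_of_log u ψ hψ h ℓ hℓ
    exact hN ℓ hℓ (by omega) v hv

lemma evTop_map_appTop {Y : Scheme.{0}} [Y.Over SC] (g : Y ⟶ X) [g.IsOver SC] (ξ : Pts Y)
    (u : Γ(X, ⊤)) : (Pts.map g ξ).evTop u = ξ.evTop (g.appTop u) :=
  Pts.ev_map g ξ ⊤ (Opens.mem_top _) u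

/-- integral case -/
theorem const_of_log_integral [IsIntegral X] [LocallyOfFiniteType (X ↘ SC)]
    (u : Γ(X, ⊤)) (ψ : Pts X → ℂ) (hψ : Continuous ψ)
    (h : ∀ x, Complex.exp (ψ x) = x.evTop u) (x y : Pts X) : x.evTop u = y.evTop u := by
  haveI := isLocallyNoetherian_of_lft X
  obtain ⟨U, hU, hxU⟩ := Groth.Agent.Lib.Helper4.AnLC.exists_affineOpen_mem X x.pt
  haveI : Nonempty U := ⟨⟨x.pt, hxU⟩⟩
  letI : U.toScheme.Over SC := ⟨U.ι ≫ X ↘ SC⟩
  haveI : U.ι.IsOver SC := ⟨rfl⟩
  haveI : IsAffine U.toScheme := hU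
  haveI : IsIntegral U.toScheme := inferInstance
  haveI : LocallyOfFiniteType (U.toScheme ↘ SC) :=
    inferInstanceAs (LocallyOfFiniteType (U.ι ≫ X ↘ SC))
  have haff := const_of_log_affine (X := U.toScheme) (U.ι.appTop u) (ψ ∘ Pts.map U.ι)
    (hψ.comp (Pts.continuous_map _)) (fun ξ => by
      rw [Function.comp_apply, h, evTop_map_appTop])
  have hdense : Dense (Set.range (Pts.map U.ι)) := by
    rw [range_map_of_isOpenImmersion, Scheme.Opens.range_ι]
    refine (main4190 X (U : Set X) (isLocallyConstructible_of_isOpen X U.2)).1 ?_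
    exact IsOpen.dense U.2 ⟨x.pt, hxU⟩
  have hxr : x ∈ Set.range (Pts.map U.ι) := by
    rw [range_map_of_isOpenImmersion, Scheme.Opens.range_ι]
    exact hxU
  obtain ⟨a, rfl⟩ := hxr
  have hclosed : IsClosed {ξ : Pts X | ξ.evTop u = (Pts.map U.ι a).evTop u} :=
    isClosed_eq (continuous_evTop u) continuous_const
  have hsub : Set.range (Pts.map U.ι) ⊆ {ξ : Pts X | ξ.evTop u = (Pts.map U.ι a).evTop u} := by
    rintro _ ⟨b, rfl⟩
    show (Pts.map U.ι b).evTop u = (Pts.map U.ι a).evTop u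
    rw [evTop_map_appTop, evTop_map_appTop]
    exact haff b a
  have := hdense.closure_eq ▸ hclosed.closure_subset_iff.2 hsub
  exact (this (Set.mem_univ y)).symm

/-- irreducible closed subsets -/
theorem const_of_log_on_irreducible [LocallyOfFiniteType (X ↘ SC)]
    (u : Γ(X, ⊤)) (ψ : Pts X → ℂ) (hψ : Continuous ψ)
    (h : ∀ x, Complex.exp (ψ x) = x.evTop u) {Z : Set X} (hZc : IsClosed Z)
    (hZi : IsIrreducible Z) (x y : Pts X) (hx : x.pt ∈ Z) (hy : y.pt ∈ Z) :
    x.evTop u = y.evTop u := by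
  set I := Scheme.IdealSheafData.vanishingIdeal (⟨Z, hZc⟩ : Closeds X) with hI
  have hsupp : (I.support : Set X) = Z := by
    rw [hI]; exact Scheme.IdealSheafData.coe_support_vanishingIdeal _
  letI : I.subscheme.Over SC := ⟨I.subschemeι ≫ X ↘ SC⟩
  haveI : I.subschemeι.IsOver SC := ⟨rfl⟩
  haveI : IsReduced I.subscheme := isReduced_subscheme_vanishingIdeal _
  haveI : IrreducibleSpace I.subscheme :=
    Subtype.irreducibleSpace (s := (I.support : Set X)) (hsupp ▸ hZi)
  haveI : IsIntegral I.subscheme := isIntegral_of_irreducibleSpace_of_isReduced _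
  haveI : LocallyOfFiniteType (I.subscheme ↘ SC) :=
    inferInstanceAs (LocallyOfFiniteType (I.subschemeι ≫ X ↘ SC))
  have hint := const_of_log_integral (X := I.subscheme) (I.subschemeι.appTop u)
    (ψ ∘ Pts.map I.subschemeι) (hψ.comp (Pts.continuous_map _)) (fun ξ => by
      rw [Function.comp_apply, h, evTop_map_appTop])
  have hrange : Set.range (Pts.map I.subschemeι) = Pts.pt ⁻¹' Z := by
    rw [range_map_of_isClosedImmersion, Scheme.IdealSheafData.range_subschemeι, hsupp]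
  obtain ⟨a, rfl⟩ : x ∈ Set.range (Pts.map I.subschemeι) := by rw [hrange]; exact hx
  obtain ⟨b, rfl⟩ : y ∈ Set.range (Pts.map I.subschemeι) := by rw [hrange]; exact hy
  rw [evTop_map_appTop, evTop_map_appTop]
  exact hint a b

/-- connected case -/
theorem const_of_log [LocallyOfFiniteType (X ↘ SC)] [PreconnectedSpace X]
    (u : Γ(X, ⊤)) (ψ : Pts X → ℂ) (hψ : Continuous ψ)
    (h : ∀ x, Complex.exp (ψ x) = x.evTop u) (x y : Pts X) : x.evTop u = y.evTop u := by
  haveI := isLocallyNoetherian_of_lft X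
  set c := x.evTop u with hc
  set T : Set X := {p | ∀ ξ : Pts X, ξ.pt ∈ closure ({p} : Set X) → ξ.evTop u = c} with hT
  have hstable : ∀ p p' : X, p ⤳ p' → (p ∈ T ↔ p' ∈ T) := by
    intro p p' hpp'
    have hsub : closure ({p'} : Set X) ⊆ closure {p} :=
      (isClosed_closure.closure_subset_iff).2
        (Set.singleton_subset_iff.2 (specializes_iff_mem_closure.1 hpp'))
    constructor
    · intro hp ξ hξ
      exact hp ξ (hsub hξ)
    · intro hp' ξ hξ
      obtain ⟨ζ, hζ⟩ := nonempty_preimage_closure (X := X) p'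
      have h1 : ζ.evTop u = c := hp' ζ hζ
      rw [← h1]
      exact const_of_log_on_irreducible u ψ hψ h isClosed_closure
        isIrreducible_singleton.closure ξ ζ hξ (hsub hζ)
  have hclopen : IsClopen T := isClopen_of_specializes_iff_scheme hstable
  have hxT : x.pt ∈ T := by
    intro ξ hξ
    have hcl : IsClosed ({x.pt} : Set X) := pt_mem_closedPoints X x
    rw [hcl.closure_eq, Set.mem_singleton_iff] at hξ
    rw [pt_injective X hξ]
  have hTuniv : T = Set.univ := by
    rcases isClopen_iff.1 hclopen with h0 | h1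
    · rw [h0] at hxT; exact hxT.elim
    · exact h1
  have hyT : y.pt ∈ T := by rw [hTuniv]; trivial
  exact (hyT y (subset_closure rfl)).symm

theorem main17470 [IsReduced X]
    [LocallyOfFiniteType (X ↘ SC)] [QuasiCompact (X ↘ SC)] [IsSeparated (X ↘ SC)]
    [ConnectedSpace X] (u : Γ(X, ⊤))
    (φ : C(Pts X, {z : ℂ // z ≠ 0})) (hφ : ∀ x : Pts X, (φ x).1 = x.evTop u)
    (z₀ : {z : ℂ // z ≠ 0}) (hnull : φ.Homotopic (ContinuousMap.const (Pts X) z₀)) :
    ∀ x y : Pts X, x.evTop u = y.evTop u := by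
  obtain ⟨ψ, hψ⟩ := Groth.Agent.Lib.Helper4.LogLift.exists_log_of_nullhomotopic φ z₀ hnull
  exact const_of_log u ψ ψ.continuous (fun x => (hψ x).trans (hφ x))

end Groth.Agent.Lib.Helper4.LogConst
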