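import Mathlib.AlgebraicGeometry.Noetherian
import Mathlib.RingTheory.Ideal.KrullsHeightTheorem
import Mathlib.Tactic

set_option autoImplicit false
universe u
open CategoryTheory AlgebraicGeometry TopologicalSpace

namespace Groth.Agent.Lib.Helper4.MaxGenerization

theorem spec_case (A : Type u) [CommRing A] [IsNoetherianRing A] (T' : Set (PrimeSpectrum A))
    (p : PrimeSpectrum A) (hp : p ∈ T') :
    ∃ q ∈ T', q ≤ p ∧ ∀ q' ∈ T', q' ≤ q → q' = q := by
  let W : Set (PrimeSpectrum A) := {q | q ∈ T' ∧ q ≤ p}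
  have hW : W.Nonempty := ⟨p, hp, le_rfl⟩
  have wf : WellFounded (InvImage (· < ·) (fun q : PrimeSpectrum A => q.asIdeal.height)) :=
    InvImage.wf _ wellFounded_lt
  obtain ⟨q, hqW, hmin⟩ := wf.has_min W hW
  refine ⟨q, hqW.1, hqW.2, fun q' hq' hle => ?_⟩
  by_contra hne
  have hlt : q' < q := lt_of_le_of_ne hle hne
  have hlt' : q'.asIdeal < q.asIdeal := hlt
  have := Ideal.height_strict_mono_of_isPrime hlt'
  exact hmin q' ⟨hq', hle.trans hqW.2⟩ this

theorem main (S : Scheme.{u}) [IsNoetherian S]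
    (T : Set S) (t : S) (ht : t ∈ T) :
    ∃ t₀ ∈ T, (∀ t' ∈ T, t' ⤳ t₀ → t' = t₀) ∧ t₀ ⤳ t := by
  obtain ⟨U, hU, htU, -⟩ := exists_isAffineOpen_mem_and_subset (U := ⊤) (x := t) (by simp)
  have : IsNoetherianRing Γ(S, U) := IsLocallyNoetherian.component_noetherian ⟨U, hU⟩
  have hemb : Topology.IsOpenEmbedding hU.fromSpec := hU.fromSpec.isOpenEmbedding
  have hrange : Set.range hU.fromSpec = U := hU.range_fromSpec
  have htr : t ∈ Set.range hU.fromSpec := by rw [hrange]; exact htU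
  obtain ⟨p, rfl⟩ := htr
  obtain ⟨q, hqT, hqp, hmin⟩ := spec_case Γ(S, U) (hU.fromSpec ⁻¹' T) p ht
  refine ⟨hU.fromSpec q, hqT, ?_, ?_⟩
  · intro t' ht' hspec
    have ht'U : t' ∈ Set.range hU.fromSpec :=
      hspec.mem_open hemb.isOpen_range ⟨q, rfl⟩
    obtain ⟨q', rfl⟩ := ht'U
    have h1 : @Specializes (PrimeSpectrum Γ(S, U)) _ q' q := hemb.isInducing.specializes_iff.mp hspec
    have h2 : @LE.le (PrimeSpectrum Γ(S, U)) _ q' q := (PrimeSpectrum.le_iff_specializes _ _).mpr h1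
    rw [hmin q' ht' h2]
  · apply hemb.isInducing.specializes_iff.mpr
    exact (PrimeSpectrum.le_iff_specializes (R := Γ(S, U)) q p).mp hqp

end Groth.Agent.Lib.Helper4.MaxGenerization
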