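import Mathlib.Algebra.Order.Chebyshev
import Mathlib.Tactic

namespace Groth.Agent.Lib.Helper4.MinusTwo

theorem int_mul_pred_nonneg (a : ℤ) : 0 ≤ a * (a - 1) := by
  rcases le_or_gt a 0 with h | h
  · exact mul_nonneg_of_nonpos_of_nonpos h (by omega)
  · exact mul_nonneg (by omega) (by omega)

theorem int_pred_mul_nonneg (a : ℤ) : 0 ≤ (a - 1) * (a - 2) := by
  rcases le_or_gt a 1 with h | h
  · exact mul_nonneg_of_nonpos_of_nonpos (by omega) (by omega)
  · exact mul_nonneg (by omega) (by omega)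

theorem zero_one_case {n : ℕ} (a : Fin n → ℤ) (m : ℕ)
    (hT : ∑ i, a i * (a i - 1) = 0) (hS : ∑ i, a i = m) :
    (∀ i, a i = 0 ∨ a i = 1) ∧ (Finset.univ.filter (fun i => a i = 1)).card = m := by
  have h1 : ∀ i, a i * (a i - 1) = 0 := by
    intro i
    exact (Finset.sum_eq_zero_iff_of_nonneg (fun i _ => int_mul_pred_nonneg (a i))).1 hT i
      (Finset.mem_univ i)
  have h2 : ∀ i, a i = 0 ∨ a i = 1 := by
    intro i
    rcases mul_eq_zero.1 (h1 i) with h | h
    · left; exact h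
    · right; omega
  refine ⟨h2, ?_⟩
  have h3 : ∑ i, a i = ((Finset.univ.filter (fun i => a i = 1)).card : ℤ) := by
    rw [Finset.card_filter]
    push_cast
    refine Finset.sum_congr rfl fun i _ => ?_
    rcases h2 i with h | h <;> simp [h]
  rw [hS] at h3
  exact_mod_cast h3.symm

theorem main (n : ℕ) (hn : n ≤ 8)
    (d : ℤ) (a : Fin n → ℤ) (ha : ∀ i, 0 ≤ a i)
    (hsq : d ^ 2 - ∑ i, (a i) ^ 2 = -2) (hK : 3 * d = ∑ i, a i) :
    (d = 1 ∧ (∀ i, a i = 0 ∨ a i = 1) ∧ (Finset.univ.filter (fun i => a i = 1)).card = 3) ∨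
      (d = 2 ∧ (∀ i, a i = 0 ∨ a i = 1) ∧ (Finset.univ.filter (fun i => a i = 1)).card = 6) ∨
      (d = 3 ∧ n = 8 ∧ ∃ j, a j = 2 ∧ ∀ i, i ≠ j → a i = 1) := by
  have hS2 : ∑ i, (a i) ^ 2 = d ^ 2 + 2 := by linarith
  have hS1 : ∑ i, a i = 3 * d := hK.symm
  have hd0 : 0 ≤ d := by
    have : 0 ≤ ∑ i, a i := Finset.sum_nonneg fun i _ => ha i
    linarith
  have hCS : (∑ i, a i) ^ 2 ≤ (n : ℤ) * ∑ i, (a i) ^ 2 := by
    have := sq_sum_le_card_mul_sum_sq (s := (Finset.univ : Finset (Fin n))) (f := a)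
    simpa using this
  have hn' : (n : ℤ) ≤ 8 := by exact_mod_cast hn
  have hd4 : d ≤ 4 := by
    rw [hS1, hS2] at hCS
    nlinarith
  have hT : ∑ i, a i * (a i - 1) = d ^ 2 + 2 - 3 * d := by
    have : ∑ i, a i * (a i - 1) = ∑ i, (a i) ^ 2 - ∑ i, a i := by
      rw [← Finset.sum_sub_distrib]
      exact Finset.sum_congr rfl fun i _ => by ring
    rw [this, hS2, hS1]
  have hU : ∑ i, (a i - 1) * (a i - 2) = d ^ 2 + 2 - 9 * d + 2 * n := by
    have : ∑ i, (a i - 1) * (a i - 2) = ∑ i, (a i) ^ 2 - 3 * ∑ i, a i + ∑ i : Fin n, (2 : ℤ) := by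
      rw [Finset.mul_sum, ← Finset.sum_sub_distrib, ← Finset.sum_add_distrib]
      exact Finset.sum_congr rfl fun i _ => by ring
    rw [this, hS2, hS1]
    simp
    ring
  have hU0 : 0 ≤ ∑ i, (a i - 1) * (a i - 2) :=
    Finset.sum_nonneg fun i _ => int_pred_mul_nonneg (a i)
  interval_cases d
  · -- d = 0
    exfalso
    have h1 : ∀ i, a i = 0 := by
      intro i
      exact (Finset.sum_eq_zero_iff_of_nonneg (fun i _ => ha i)).1 (by simpa using hS1) i
        (Finset.mem_univ i)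
    have : ∑ i, (a i) ^ 2 = 0 := Finset.sum_eq_zero fun i _ => by rw [h1 i]; ring
    rw [this] at hS2
    norm_num at hS2
  · left
    refine ⟨rfl, ?_⟩
    exact zero_one_case a 3 (by rw [hT]; norm_num) (by rw [hS1]; norm_num)
  · right; left
    refine ⟨rfl, ?_⟩
    exact zero_one_case a 6 (by rw [hT]; norm_num) (by rw [hS1]; norm_num)
  · right; right
    have hn8 : n = 8 := by
      rw [hU] at hU0
      omega
    refine ⟨rfl, hn8, ?_⟩
    have hU00 : ∑ i, (a i - 1) * (a i - 2) = 0 := by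
      rw [hU, hn8]; norm_num
    have h1 : ∀ i, a i = 1 ∨ a i = 2 := by
      intro i
      have := (Finset.sum_eq_zero_iff_of_nonneg
        (fun i _ => int_pred_mul_nonneg (a i))).1 hU00 i (Finset.mem_univ i)
      rcases mul_eq_zero.1 this with h | h
      · left; omega
      · right; omega
    have h2 : ∑ i, (a i - 1) = 1 := by
      rw [Finset.sum_sub_distrib, hS1]
      simp [hn8]
    have h3 : ∀ i, 0 ≤ a i - 1 := fun i => by rcases h1 i with h | h <;> omega
    have hex : ∃ j, a j = 2 := by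
      by_contra hne
      push Not at hne
      have : ∑ i, (a i - 1) = 0 := Finset.sum_eq_zero fun i _ => by
        rcases h1 i with h | h
        · omega
        · exact absurd h (hne i)
      omega
    obtain ⟨j, hj⟩ := hex
    refine ⟨j, hj, fun i hij => ?_⟩
    rcases h1 i with h | h
    · exact h
    · exfalso
      have hsub : ({i, j} : Finset (Fin n)) ⊆ Finset.univ := Finset.subset_univ _
      have := Finset.sum_le_sum_of_subset_of_nonneg hsub (f := fun k => a k - 1)
        (fun k _ _ => h3 k)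
      rw [Finset.sum_pair hij, h2, h, hj] at this
      norm_num at this
  · exfalso
    rw [hU] at hU0
    omega

end Groth.Agent.Lib.Helper4.MinusTwo
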