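import Mathlib.Tactic
import Mathlib.Algebra.Group.Subgroup.Basic

/-!
Moore's theorem (element-level, abstract form): horns in a simplicial group can be filled.
Only three consecutive levels `A ← B ← C` are involved.
-/

namespace Groth.Agent.Lib.Helper4.MooreAbs

variable {A B C : Type*} [Group A] [Group B] [Group C] (n : ℕ)
  (dA : ℕ → B →* A) (dB : ℕ → C →* B) (sA : ℕ → A →* B) (sB : ℕ → B →* C)
  (KB : Subgroup B) (KC : Subgroup C)

theorem exists_filler
    (I1 : ∀ a b, a ≤ b → b ≤ n + 1 → ∀ c, dA a (dB (b + 1) c) = dA b (dB a c))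
    (I2 : ∀ a b, a ≤ b → b ≤ n → ∀ x, dB a (sB (b + 1) x) = sA b (dA a x))
    (I3 : ∀ a, a ≤ n + 1 → ∀ x, dB a (sB a x) = x)
    (I4 : ∀ a, a ≤ n + 1 → ∀ x, dB (a + 1) (sB a x) = x)
    (I5 : ∀ a b, b < a → a ≤ n + 1 → ∀ x, dB (a + 1) (sB b x) = sA b (dA a x))
    (hdK : ∀ a, ∀ c ∈ KC, dB a c ∈ KB) (hsK : ∀ a, ∀ x ∈ KB, sB a x ∈ KC)
    (i : ℕ) (hi : i ≤ n + 2) (x : ℕ → B) (hxK : ∀ j, x j ∈ KB)
    (compat : ∀ j k, j < k → k ≤ n + 2 → j ≠ i → k ≠ i → dA (k - 1) (x j) = dA j (x k)) :
    ∃ y ∈ KC, ∀ j, j ≤ n + 2 → j ≠ i → dB j y = x j := by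
  -- Phase 1
  have P1 : ∀ r, r ≤ i → ∃ y ∈ KC, ∀ j, j < r → dB j y = x j := by
    intro r
    induction r with
    | zero => exact fun _ => ⟨1, KC.one_mem, fun j hj => absurd hj (Nat.not_lt_zero _)⟩
    | succ r ih =>
      intro hr
      obtain ⟨y', hy'K, hy'⟩ := ih (by omega)
      have hrn : r ≤ n + 1 := by omega
      set w : B := (dB r y')⁻¹ * x r with hw
      have hwK : w ∈ KB := KB.mul_mem (KB.inv_mem (hdK _ _ hy'K)) (hxK r)
      refine ⟨y' * sB r w, KC.mul_mem hy'K (hsK _ _ hwK), ?_⟩
      intro j hj
      rcases Nat.lt_succ_iff_lt_or_eq.mp hj with hjr | rfl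
      · -- j < r
        have hr1 : r = (r - 1) + 1 := by omega
        have h1 : dA j w = 1 := by
          rw [hw, map_mul, map_inv]
          have e1 : dA j (dB r y') = dA (r - 1) (dB j y') := by
            conv_lhs => rw [hr1]
            exact I1 j (r - 1) (by omega) (by omega) y'
          rw [e1, hy' j hjr, compat j r hjr (by omega) (by omega) (by omega)]
          exact inv_mul_cancel _
        have h2 : dB j (sB r w) = 1 := by
          conv_lhs => rw [hr1]
          rw [I2 j (r - 1) (by omega) (by omega) w, h1, map_one]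
        rw [map_mul, h2, mul_one, hy' j hjr]
      · rw [map_mul, I3 j hrn, hw]
        group
  -- Phase 2
  have P2 : ∀ t, t ≤ n + 2 - i → ∃ y ∈ KC, (∀ j, j < i → dB j y = x j) ∧
      (∀ j, n + 2 - t < j → j ≤ n + 2 → dB j y = x j) := by
    intro t
    induction t with
    | zero =>
      intro _
      obtain ⟨y, hyK, hy⟩ := P1 i le_rfl
      exact ⟨y, hyK, hy, fun j h1 h2 => by omega⟩
    | succ t ih =>
      intro ht
      obtain ⟨y', hy'K, hy'1, hy'2⟩ := ih (by omega)
      -- r = n + 2 - t > i
      set r := n + 2 - t with hr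
      have hri : i < r := by omega
      have hrn : r ≤ n + 2 := by omega
      set w : B := (dB r y')⁻¹ * x r with hw
      have hwK : w ∈ KB := KB.mul_mem (KB.inv_mem (hdK _ _ hy'K)) (hxK r)
      have hr1 : r = (r - 1) + 1 := by omega
      refine ⟨y' * sB (r - 1) w, KC.mul_mem hy'K (hsK _ _ hwK), ?_, ?_⟩
      · intro j hj
        have hjr : j < r := by omega
        have hr2 : r - 1 = (r - 2) + 1 := by omega
        have h1 : dA j w = 1 := by
          rw [hw, map_mul, map_inv]
          have e1 : dA j (dB r y') = dA (r - 1) (dB j y') := by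
            conv_lhs => rw [hr1]
            exact I1 j (r - 1) (by omega) (by omega) y'
          rw [e1, hy'1 j hj, compat j r hjr (by omega) (by omega) (by omega)]
          exact inv_mul_cancel _
        have h2 : dB j (sB (r - 1) w) = 1 := by
          conv_lhs => rw [hr2]
          rw [I2 j (r - 2) (by omega) (by omega) w, h1, map_one]
        rw [map_mul, h2, mul_one, hy'1 j hj]
      · intro j hj1 hj2
        have hj1' : r - 1 < j := by omega
        rcases Nat.lt_or_ge r j with hrj | hrj
        · -- j > r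
          have hjj : j = (j - 1) + 1 := by omega
          have h1 : dA (j - 1) w = 1 := by
            rw [hw, map_mul, map_inv]
            have e1 : dA (j - 1) (dB r y') = dA r (dB j y') := by
              have := I1 r (j - 1) (by omega) (by omega) y'
              rw [← hjj] at this
              exact this.symm
            rw [e1, hy'2 j (by omega) hj2,
              compat r j hrj hj2 (by omega) (by omega)]
            exact inv_mul_cancel _
          have h2 : dB j (sB (r - 1) w) = 1 := by
            conv_lhs => rw [hjj]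
            rw [I5 (j - 1) (r - 1) (by omega) (by omega) w, h1, map_one]
          rw [map_mul, h2, mul_one, hy'2 j (by omega) hj2]
        · -- j = r
          have hjr : j = r := by omega
          subst hjr
          have h4 : dB r (sB (r - 1) w) = w := by
            have := I4 (r - 1) (by omega) w
            rwa [← hr1] at this
          rw [map_mul, h4, hw]
          group
  obtain ⟨y, hyK, hy1, hy2⟩ := P2 (n + 2 - i) le_rfl
  refine ⟨y, hyK, fun j hj hji => ?_⟩
  rcases Nat.lt_or_gt_of_ne hji with h | h
  · exact hy1 j h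
  · exact hy2 j (by omega) hj

end Groth.Agent.Lib.Helper4.MooreAbs
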