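import Mathlib.Tactic
import Mathlib.Algebra.Group.Subgroup.Basic
import Groth.Agent.Lib.Helper4.MooreAbs

namespace Groth.Agent.Lib.Helper4.MooreFin

open Groth.Agent.Lib.Helper4

variable {A B C : Type*} [Group A] [Group B] [Group C] (n : ℕ)
  (d : Fin (n + 2) → B →* A) (d' : Fin (n + 3) → C →* B)
  (s : Fin (n + 1) → A →* B) (s' : Fin (n + 2) → B →* C)
  (KB : Subgroup B) (KC : Subgroup C)

theorem exists_filler
    (J1 : ∀ (i j : Fin (n + 2)), i ≤ j → ∀ c, d i (d' j.succ c) = d j (d' i.castSucc c))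
    (J2 : ∀ (i : Fin (n + 2)) (j : Fin (n + 1)), i ≤ j.castSucc →
      ∀ x, d' i.castSucc (s' j.succ x) = s j (d i x))
    (J3 : ∀ (j : Fin (n + 2)) x, d' j.castSucc (s' j x) = x)
    (J4 : ∀ (j : Fin (n + 2)) x, d' j.succ (s' j x) = x)
    (J5 : ∀ (i : Fin (n + 2)) (j : Fin (n + 1)), j.castSucc < i →
      ∀ x, d' i.succ (s' j.castSucc x) = s j (d i x))
    (hdK : ∀ a, ∀ c ∈ KC, d' a c ∈ KB) (hsK : ∀ a, ∀ x ∈ KB, s' a x ∈ KC)
    (i : Fin (n + 3)) (x : ∀ j : Fin (n + 3), j ≠ i → B) (hxK : ∀ j hj, x j hj ∈ KB)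
    (compat : ∀ (j k : Fin (n + 3)) (hj : j ≠ i) (hk : k ≠ i) (hjk : j < k),
      d (k.pred (Fin.ne_zero_of_lt hjk)) (x j hj) =
        d (j.castPred (Fin.ne_last_of_lt hjk)) (x k hk)) :
    ∃ y ∈ KC, ∀ j hj, d' j y = x j hj := by
  let dA : ℕ → B →* A := fun a => if h : a < n + 2 then d ⟨a, h⟩ else 1
  let dB : ℕ → C →* B := fun a => if h : a < n + 3 then d' ⟨a, h⟩ else 1
  let sA : ℕ → A →* B := fun a => if h : a < n + 1 then s ⟨a, h⟩ else 1
  let sB : ℕ → B →* C := fun a => if h : a < n + 2 then s' ⟨a, h⟩ else 1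
  let xN : ℕ → B := fun j => if h : j < n + 3 ∧ j ≠ i.val then
    x ⟨j, h.1⟩ (fun e => h.2 (by rw [← e])) else 1
  have hdA : ∀ a (h : a < n + 2), dA a = d ⟨a, h⟩ := fun a h => dif_pos h
  have hdB : ∀ a (h : a < n + 3), dB a = d' ⟨a, h⟩ := fun a h => dif_pos h
  have hsA : ∀ a (h : a < n + 1), sA a = s ⟨a, h⟩ := fun a h => dif_pos h
  have hsB : ∀ a (h : a < n + 2), sB a = s' ⟨a, h⟩ := fun a h => dif_pos h
  have hxN : ∀ j (h : j < n + 3) (h' : j ≠ i.val),
      xN j = x ⟨j, h⟩ (fun e => h' (by rw [← e])) := fun j h h' => dif_pos ⟨h, h'⟩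
  obtain ⟨y, hyK, hy⟩ := MooreAbs.exists_filler n dA dB sA sB KB KC
    (by
      intro a b hab hb c
      rw [hdA a (by omega), hdA b (by omega), hdB (b + 1) (by omega), hdB a (by omega)]
      exact J1 ⟨a, by omega⟩ ⟨b, by omega⟩ (by simpa using hab) c)
    (by
      intro a b hab hb c
      rw [hdA a (by omega), hsA b (by omega), hsB (b + 1) (by omega), hdB a (by omega)]
      exact J2 ⟨a, by omega⟩ ⟨b, by omega⟩ (by simpa using hab) c)
    (by
      intro a ha c
      rw [hsB a (by omega), hdB a (by omega)]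
      exact J3 ⟨a, by omega⟩ c)
    (by
      intro a ha c
      rw [hsB a (by omega), hdB (a + 1) (by omega)]
      exact J4 ⟨a, by omega⟩ c)
    (by
      intro a b hab ha c
      rw [hdA a (by omega), hsA b (by omega), hsB b (by omega), hdB (a + 1) (by omega)]
      exact J5 ⟨a, by omega⟩ ⟨b, by omega⟩ (by simpa using hab) c)
    (by
      intro a c hc
      by_cases h : a < n + 3
      · rw [hdB a h]; exact hdK _ _ hc
      · simp only [dB, dif_neg h]; exact KB.one_mem)
    (by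
      intro a c hc
      by_cases h : a < n + 2
      · rw [hsB a h]; exact hsK _ _ hc
      · simp only [sB, dif_neg h]; exact KC.one_mem)
    i.val (by omega) xN
    (by
      intro j
      by_cases h : j < n + 3 ∧ j ≠ i.val
      · rw [hxN j h.1 h.2]; exact hxK _ _
      · simp only [xN, dif_neg h]; exact KB.one_mem)
    (by
      intro j k hjk hk hji hki
      rw [hxN j (by omega) hji, hxN k (by omega) hki, hdA (k - 1) (by omega), hdA j (by omega)]
      exact compat ⟨j, by omega⟩ ⟨k, by omega⟩ _ _ (by simpa using hjk))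
  refine ⟨y, hyK, fun j hj => ?_⟩
  have hji : j.val ≠ i.val := fun e => hj (Fin.ext e)
  have := hy j.val (by omega) hji
  rw [hdB j.val j.isLt, hxN j.val j.isLt hji] at this
  exact this

end Groth.Agent.Lib.Helper4.MooreFin
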