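import Mathlib.Tactic
import Mathlib.AlgebraicTopology.SimplicialSet.KanComplex
import Mathlib.AlgebraicTopology.SimplicialSet.HornColimits
import Mathlib.Algebra.Category.Grp.Basic
import Groth.Agent.Lib.Helper4.MooreFin

open CategoryTheory Simplicial Opposite

namespace Groth.Agent.Lib.Helper4.MooreGrp

open Groth.Agent.Lib.Helper4

universe u

variable (X : SimplicialObject GrpCat.{u})

theorem exists_filler (n : ℕ) (KB : Subgroup (X _⦋n + 1⦌)) (KC : Subgroup (X _⦋n + 2⦌))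
    (hdK : ∀ a, ∀ c ∈ KC, (X.δ a).hom c ∈ KB) (hsK : ∀ a, ∀ x ∈ KB, (X.σ a).hom x ∈ KC)
    (i : Fin (n + 3)) (x : ∀ j : Fin (n + 3), j ≠ i → X _⦋n + 1⦌) (hxK : ∀ j hj, x j hj ∈ KB)
    (compat : ∀ (j k : Fin (n + 3)) (hj : j ≠ i) (hk : k ≠ i) (hjk : j < k),
      (X.δ (k.pred (Fin.ne_zero_of_lt hjk))).hom (x j hj) =
        (X.δ (j.castPred (Fin.ne_last_of_lt hjk))).hom (x k hk)) :
    ∃ y ∈ KC, ∀ j hj, (X.δ j).hom y = x j hj := by
  refine MooreFin.exists_filler n (fun j => (X.δ j).hom) (fun j => (X.δ j).hom)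
    (fun j => (X.σ j).hom) (fun j => (X.σ j).hom) KB KC ?_ ?_ ?_ ?_ ?_ hdK hsK i x hxK compat
  · intro i j hij c
    have := congrArg (fun f => f.hom c) (X.δ_comp_δ hij)
    simpa using this
  · intro i j hij c
    have := congrArg (fun f => f.hom c) (X.δ_comp_σ_of_le hij)
    simpa using this
  · intro j c
    have := congrArg (fun f => f.hom c) (X.δ_comp_σ_self (i := j))
    simpa using this
  · intro j c
    have := congrArg (fun f => f.hom c) (X.δ_comp_σ_succ (i := j))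
    simpa using this
  · intro i j hij c
    have := congrArg (fun f => f.hom c) (X.δ_comp_σ_of_gt hij)
    simpa using this

end Groth.Agent.Lib.Helper4.MooreGrp

namespace Groth.Agent.Lib.Helper4.MooreGrp

open Groth.Agent.Lib.Helper4 SSet

universe u

lemma δ_comp_yonedaEquiv_symm {Z : SSet.{u}} {n : ℕ} (j : Fin (n + 2)) (z : Z _⦋n + 1⦌) :
    stdSimplex.δ j ≫ SSet.yonedaEquiv.symm z = SSet.yonedaEquiv.symm (Z.δ j z) :=
  yonedaEquiv_symm_naturality_left _ _

lemma yonedaEquiv_δ_comp {Z : SSet.{u}} {n : ℕ} (j : Fin (n + 2)) (g : Δ[n + 1] ⟶ Z) :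
    SSet.yonedaEquiv (stdSimplex.δ j ≫ g) = Z.δ j (SSet.yonedaEquiv g) :=
  (yonedaEquiv_naturality _ _).symm

theorem kanComplex (X : SimplicialObject GrpCat.{u}) :
    SSet.KanComplex (X ⋙ forget GrpCat.{u}) := by
  rw [KanComplex.iff]
  intro n i f hf
  obtain _ | n := n
  · -- n = 0
    obtain ⟨j₀, hj₀⟩ : ∃ j₀ : Fin 2, j₀ ≠ i := by
      fin_cases i
      · exact ⟨1, by decide⟩
      · exact ⟨0, by decide⟩
    let Z : SSet.{u} := X ⋙ forget GrpCat.{u}
    refine ⟨SSet.yonedaEquiv.symm (Z.σ 0 (SSet.yonedaEquiv (f j₀ hj₀))), ?_⟩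
    intro j hj
    have hjj : j = j₀ := by
      fin_cases i <;> fin_cases j <;> fin_cases j₀ <;> simp_all
    subst hjj
    rw [δ_comp_yonedaEquiv_symm]
    apply SSet.yonedaEquiv.injective
    rw [Equiv.apply_symm_apply]
    have h0 : ∀ t : Z _⦋0⦌, Z.δ 0 (Z.σ 0 t) = t := fun t => by
      have := ConcreteCategory.congr_hom (Z.δ_comp_σ_self (i := (0 : Fin 1))) t
      simpa using this
    have h1 : ∀ t : Z _⦋0⦌, Z.δ 1 (Z.σ 0 t) = t := fun t => by
      have := ConcreteCategory.congr_hom (Z.δ_comp_σ_succ (i := (0 : Fin 1))) t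
      simpa using this
    fin_cases j
    · exact h0 _
    · exact h1 _
  · let Z : SSet.{u} := X ⋙ forget GrpCat.{u}
    rw [horn.isCompatible_iff] at hf
    obtain ⟨y, -, hy⟩ := exists_filler X n ⊤ ⊤ (fun _ _ _ => trivial) (fun _ _ _ => trivial) i
      (fun j hj => (SSet.yonedaEquiv (f j hj) : Z _⦋n + 1⦌)) (fun _ _ => trivial) (by
        intro j k hj hk hjk
        have := congrArg SSet.yonedaEquiv (hf j k hj hk hjk)
        rw [yonedaEquiv_δ_comp, yonedaEquiv_δ_comp] at this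
        exact this)
    refine ⟨SSet.yonedaEquiv.symm (y : Z _⦋n + 2⦌), fun j hj => ?_⟩
    rw [δ_comp_yonedaEquiv_symm]
    apply SSet.yonedaEquiv.injective
    rw [Equiv.apply_symm_apply]
    exact hy j hj

end Groth.Agent.Lib.Helper4.MooreGrp
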