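import Mathlib.Tactic
import Mathlib.Algebra.Category.Grp.Basic
import Groth.Agent.Lib.Helper4.MooreGrp

open CategoryTheory Simplicial Opposite

namespace Groth.Agent.Lib.Helper4.MooreAdd

open Groth.Agent.Lib.Helper4

universe u

variable (X : SimplicialObject AddCommGrpCat.{u})

theorem exists_filler (n : ℕ) (KB : AddSubgroup (X _⦋n + 1⦌)) (KC : AddSubgroup (X _⦋n + 2⦌))
    (hdK : ∀ a, ∀ c ∈ KC, (X.δ a).hom c ∈ KB) (hsK : ∀ a, ∀ x ∈ KB, (X.σ a).hom x ∈ KC)
    (i : Fin (n + 3)) (x : ∀ j : Fin (n + 3), j ≠ i → X _⦋n + 1⦌) (hxK : ∀ j hj, x j hj ∈ KB)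
    (compat : ∀ (j k : Fin (n + 3)) (hj : j ≠ i) (hk : k ≠ i) (hjk : j < k),
      (X.δ (k.pred (Fin.ne_zero_of_lt hjk))).hom (x j hj) =
        (X.δ (j.castPred (Fin.ne_last_of_lt hjk))).hom (x k hk)) :
    ∃ y ∈ KC, ∀ j hj, (X.δ j).hom y = x j hj := by
  have J1 : ∀ (i j : Fin (n + 2)), i ≤ j → ∀ c : X _⦋n + 2⦌,
      (X.δ i).hom ((X.δ j.succ).hom c) = (X.δ j).hom ((X.δ i.castSucc).hom c) := by
    intro i j hij c
    have := congrArg (fun f => f.hom c) (X.δ_comp_δ hij)
    simpa using this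
  have J2 : ∀ (i : Fin (n + 2)) (j : Fin (n + 1)), i ≤ j.castSucc → ∀ c : X _⦋n + 1⦌,
      (X.δ i.castSucc).hom ((X.σ j.succ).hom c) = (X.σ j).hom ((X.δ i).hom c) := by
    intro i j hij c
    have := congrArg (fun f => f.hom c) (X.δ_comp_σ_of_le hij)
    simpa using this
  have J3 : ∀ (j : Fin (n + 2)) (c : X _⦋n + 1⦌), (X.δ j.castSucc).hom ((X.σ j).hom c) = c := by
    intro j c
    have := congrArg (fun f => f.hom c) (X.δ_comp_σ_self (i := j))
    simpa using this
  have J4 : ∀ (j : Fin (n + 2)) (c : X _⦋n + 1⦌), (X.δ j.succ).hom ((X.σ j).hom c) = c := by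
    intro j c
    have := congrArg (fun f => f.hom c) (X.δ_comp_σ_succ (i := j))
    simpa using this
  have J5 : ∀ (i : Fin (n + 2)) (j : Fin (n + 1)), j.castSucc < i → ∀ c : X _⦋n + 1⦌,
      (X.δ i.succ).hom ((X.σ j.castSucc).hom c) = (X.σ j).hom ((X.δ i).hom c) := by
    intro i j hij c
    have := congrArg (fun f => f.hom c) (X.δ_comp_σ_of_gt hij)
    simpa using this
  obtain ⟨y, hy, hy'⟩ := MooreFin.exists_filler n
    (A := Multiplicative (X _⦋n⦌)) (B := Multiplicative (X _⦋n + 1⦌))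
    (C := Multiplicative (X _⦋n + 2⦌))
    (fun j => AddMonoidHom.toMultiplicative (X.δ j).hom)
    (fun j => AddMonoidHom.toMultiplicative (X.δ j).hom)
    (fun j => AddMonoidHom.toMultiplicative (X.σ j).hom)
    (fun j => AddMonoidHom.toMultiplicative (X.σ j).hom)
    (AddSubgroup.toSubgroup KB) (AddSubgroup.toSubgroup KC)
    (fun i j hij c => congrArg Multiplicative.ofAdd (J1 i j hij (Multiplicative.toAdd c)))
    (fun i j hij c => congrArg Multiplicative.ofAdd (J2 i j hij (Multiplicative.toAdd c)))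
    (fun j c => congrArg Multiplicative.ofAdd (J3 j (Multiplicative.toAdd c)))
    (fun j c => congrArg Multiplicative.ofAdd (J4 j (Multiplicative.toAdd c)))
    (fun i j hij c => congrArg Multiplicative.ofAdd (J5 i j hij (Multiplicative.toAdd c)))
    (fun a c hc => hdK a _ hc) (fun a c hc => hsK a _ hc) i
    (fun j hj => Multiplicative.ofAdd (x j hj)) (fun j hj => hxK j hj)
    (fun j k hj hk hjk => congrArg Multiplicative.ofAdd (compat j k hj hk hjk))
  exact ⟨Multiplicative.toAdd y, hy, fun j hj => congrArg Multiplicative.toAdd (hy' j hj)⟩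

end Groth.Agent.Lib.Helper4.MooreAdd
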