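import Mathlib.Tactic
import Mathlib.AlgebraicTopology.SimplicialSet.KanComplex
import Mathlib.AlgebraicTopology.SimplicialSet.HornColimits
import Mathlib.Algebra.Category.Grp.Basic
import Groth.Agent.Lib.Helper4.MooreAdd

open CategoryTheory Simplicial Opposite

namespace Groth.Agent.Lib.Helper4.MooreFib

open Groth.Agent.Lib.Helper4 SSet MooreGrp

universe u

variable (X : SimplicialObject AddCommGrpCat.{u})

/-- horn filling with control on membership in a simplicial subgroup -/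
theorem exists_lift_mem (K : ∀ m, AddSubgroup (X _⦋m⦌))
    (hdK : ∀ m (a : Fin (m + 2)) (c : X _⦋m + 1⦌), c ∈ K (m + 1) → (X.δ a).hom c ∈ K m)
    (hsK : ∀ m (a : Fin (m + 1)) (c : X _⦋m⦌), c ∈ K m → (X.σ a).hom c ∈ K (m + 1))
    {n : ℕ} {i : Fin (n + 2)}
    (f : ∀ (j : Fin (n + 2)) (_ : j ≠ i), Δ[n] ⟶ (X ⋙ forget AddCommGrpCat.{u}))
    (hf : horn.IsCompatible f)
    (hK : ∀ j hj, (SSet.yonedaEquiv (f j hj) : X _⦋n⦌) ∈ K n) :
    ∃ φ : Δ[n + 1] ⟶ (X ⋙ forget AddCommGrpCat.{u}),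
      (SSet.yonedaEquiv φ : X _⦋n + 1⦌) ∈ K (n + 1) ∧
        ∀ j hj, stdSimplex.δ j ≫ φ = f j hj := by
  let Z : SSet.{u} := X ⋙ forget AddCommGrpCat.{u}
  obtain _ | n := n
  · obtain ⟨j₀, hj₀⟩ : ∃ j₀ : Fin 2, j₀ ≠ i := by
      fin_cases i
      · exact ⟨1, by decide⟩
      · exact ⟨0, by decide⟩
    refine ⟨SSet.yonedaEquiv.symm (Z.σ 0 (SSet.yonedaEquiv (f j₀ hj₀))), ?_, ?_⟩
    · rw [Equiv.apply_symm_apply]
      exact hsK 0 0 _ (hK j₀ hj₀)
    intro j hj
    have hjj : j = j₀ := by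
      fin_cases i <;> fin_cases j <;> fin_cases j₀ <;> simp_all
    subst hjj
    rw [δ_comp_yonedaEquiv_symm]
    apply SSet.yonedaEquiv.injective
    rw [Equiv.apply_symm_apply]
    have h0 : ∀ t : Z _⦋0⦌, Z.δ 0 (Z.σ 0 t) = t := fun t => by
      have := ConcreteCategory.congr_hom (Z.δ_comp_σ_self (i := (0 : Fin 1))) t
      simpa using this
    have h1 : ∀ t : Z _⦋0⦌, Z.δ 1 (Z.σ 0 t) = t := fun t => by
      have := ConcreteCategory.congr_hom (Z.δ_comp_σ_succ (i := (0 : Fin 1))) t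
      simpa using this
    fin_cases j
    · exact h0 _
    · exact h1 _
  · rw [horn.isCompatible_iff] at hf
    obtain ⟨y, hyK, hy⟩ := MooreAdd.exists_filler X n (K (n + 1)) (K (n + 2))
      (fun a c hc => hdK _ a c hc) (fun a c hc => hsK _ a c hc) i
      (fun j hj => (SSet.yonedaEquiv (f j hj) : Z _⦋n + 1⦌)) hK (by
        intro j k hj hk hjk
        have := congrArg SSet.yonedaEquiv (hf j k hj hk hjk)
        rw [yonedaEquiv_δ_comp, yonedaEquiv_δ_comp] at this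
        exact this)
    refine ⟨SSet.yonedaEquiv.symm (y : Z _⦋n + 2⦌), ?_, fun j hj => ?_⟩
    · rw [Equiv.apply_symm_apply]
      exact hyK
    rw [δ_comp_yonedaEquiv_symm]
    apply SSet.yonedaEquiv.injective
    rw [Equiv.apply_symm_apply]
    exact hy j hj

end Groth.Agent.Lib.Helper4.MooreFib

namespace Groth.Agent.Lib.Helper4.MooreFib

open Groth.Agent.Lib.Helper4 SSet MooreGrp

universe u

theorem hasLiftingProperty_horn {X Y : SimplicialObject AddCommGrpCat.{u}} (f : X ⟶ Y)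
    (hf : ∀ n : SimplexCategoryᵒᵖ, Function.Surjective (f.app n)) (n : ℕ) (i : Fin (n + 2)) :
    HasLiftingProperty (Λ[n + 1, i].ι : (Λ[n + 1, i] : SSet.{u}) ⟶ Δ[n + 1])
      (Functor.whiskerRight f (forget AddCommGrpCat.{u}) :
        (X ⋙ forget AddCommGrpCat.{u}) ⟶ (Y ⋙ forget AddCommGrpCat.{u})) := by
  refine ⟨fun {t b} sq => ?_⟩
  let X' : SSet.{u} := X ⋙ forget AddCommGrpCat.{u}
  let Y' : SSet.{u} := Y ⋙ forget AddCommGrpCat.{u}
  let p : X' ⟶ Y' := Functor.whiskerRight f (forget AddCommGrpCat.{u})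
  -- kernel subgroups
  let K : ∀ m, AddSubgroup (X _⦋m⦌) := fun m => (f.app (op ⦋m⦌)).hom.ker
  have hnatδ : ∀ m (a : Fin (m + 2)) (c : X _⦋m + 1⦌),
      (f.app (op ⦋m⦌)).hom ((X.δ a).hom c) = (Y.δ a).hom ((f.app (op ⦋m + 1⦌)).hom c) := by
    intro m a c
    have := congrArg (fun g => g.hom c) (SimplicialObject.δ_naturality f a)
    exact this
  have hnatσ : ∀ m (a : Fin (m + 1)) (c : X _⦋m⦌),
      (f.app (op ⦋m + 1⦌)).hom ((X.σ a).hom c) = (Y.σ a).hom ((f.app (op ⦋m⦌)).hom c) := by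
    intro m a c
    have := congrArg (fun g => g.hom c) (SimplicialObject.σ_naturality f a)
    exact this
  have hdK : ∀ m (a : Fin (m + 2)) (c : X _⦋m + 1⦌), c ∈ K (m + 1) → (X.δ a).hom c ∈ K m := by
    intro m a c hc
    rw [AddMonoidHom.mem_ker] at hc ⊢
    rw [hnatδ, hc, map_zero]
  have hsK : ∀ m (a : Fin (m + 1)) (c : X _⦋m⦌), c ∈ K m → (X.σ a).hom c ∈ K (m + 1) := by
    intro m a c hc
    rw [AddMonoidHom.mem_ker] at hc ⊢
    rw [hnatσ, hc, map_zero]
  -- choose a preimage of the bottom simplex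
  obtain ⟨y₀, hy₀⟩ := hf (op ⦋n + 1⦌) (SSet.yonedaEquiv b : Y _⦋n + 1⦌)
  -- the faces
  let xf : ∀ (j : Fin (n + 2)) (_ : j ≠ i), X _⦋n⦌ := fun j hj =>
    (SSet.yonedaEquiv (horn.ι i j hj ≫ t) : X' _⦋n⦌)
  have hxf : ∀ j hj, (f.app (op ⦋n⦌)).hom (xf j hj) =
      (Y.δ j).hom (SSet.yonedaEquiv b : Y _⦋n + 1⦌) := by
    intro j hj
    have h1 : (horn.ι i j hj ≫ t) ≫ p = stdSimplex.δ j ≫ b := by
      rw [Category.assoc, sq.w, ← Category.assoc, horn.ι_ι]
    have h2 := congrArg SSet.yonedaEquiv h1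
    rw [yonedaEquiv_δ_comp, SSet.yonedaEquiv_comp] at h2
    exact h2
  let g : ∀ (j : Fin (n + 2)) (_ : j ≠ i), Δ[n] ⟶ X' := fun j hj =>
    SSet.yonedaEquiv.symm ((xf j hj - (X.δ j).hom y₀ : X _⦋n⦌) : X' _⦋n⦌)
  have hgK : ∀ j hj, (SSet.yonedaEquiv (g j hj) : X _⦋n⦌) ∈ K n := by
    intro j hj
    simp only [g, Equiv.apply_symm_apply]
    rw [AddMonoidHom.mem_ker]
    have e0 : (f.app (op ⦋n + 1⦌)).hom y₀ = (SSet.yonedaEquiv b : Y _⦋n + 1⦌) := hy₀
    have e1 := (f.app (op ⦋n⦌)).hom.map_sub (xf j hj) ((X.δ j).hom y₀)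
    rw [hxf, hnatδ, e0, sub_self] at e1
    exact e1
  have hg : horn.IsCompatible g := by
    obtain _ | n := n
    · simp
    · rw [horn.isCompatible_iff]
      intro j k hj hk hjk
      have hcomp := (horn.isCompatible_iff _).mp (horn.IsCompatible.of_hom t) j k hj hk hjk
      simp only [g]
      rw [δ_comp_yonedaEquiv_symm, δ_comp_yonedaEquiv_symm]
      congr 1
      have e1 : (X.δ (k.pred (Fin.ne_zero_of_lt hjk))).hom (xf j hj) =
          (X.δ (j.castPred (Fin.ne_last_of_lt hjk))).hom (xf k hk) := by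
        have := congrArg SSet.yonedaEquiv hcomp
        rw [yonedaEquiv_δ_comp, yonedaEquiv_δ_comp] at this
        exact this
      have e2 : (X.δ (k.pred (Fin.ne_zero_of_lt hjk))).hom ((X.δ j).hom y₀) =
          (X.δ (j.castPred (Fin.ne_last_of_lt hjk))).hom ((X.δ k).hom y₀) := by
        have hle : j.castPred (Fin.ne_last_of_lt hjk) ≤ k.pred (Fin.ne_zero_of_lt hjk) := by
          rw [Fin.le_def]
          simp only [Fin.coe_castPred, Fin.val_pred]
          have := Fin.lt_def.mp hjk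
          omega
        have := congrArg (fun q => q.hom y₀) (X.δ_comp_δ hle)
        simp only [Fin.succ_pred, Fin.castSucc_castPred] at this
        simpa using this.symm
      change (X.δ (k.pred (Fin.ne_zero_of_lt hjk))).hom (xf j hj - (X.δ j).hom y₀) =
        (X.δ (j.castPred (Fin.ne_last_of_lt hjk))).hom (xf k hk - (X.δ k).hom y₀)
      rw [map_sub, map_sub, e1, e2]
  obtain ⟨φ, hφK, hφ⟩ := exists_lift_mem X K hdK hsK g hg hgK
  -- the lift
  let z : X _⦋n + 1⦌ := SSet.yonedaEquiv φ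
  let yz : X _⦋n + 1⦌ := y₀ + z
  let l : Δ[n + 1] ⟶ X' := SSet.yonedaEquiv.symm (yz : X' _⦋n + 1⦌)
  refine ⟨⟨{ l := l, fac_left := ?_, fac_right := ?_ }⟩⟩
  · apply horn.hom_ext'
    intro j hj
    rw [← Category.assoc, horn.ι_ι]
    simp only [l]
    rw [δ_comp_yonedaEquiv_symm]
    apply SSet.yonedaEquiv.injective
    rw [Equiv.apply_symm_apply]
    change (X.δ j).hom (y₀ + z) = xf j hj
    have h3 : (X.δ j).hom z = xf j hj - (X.δ j).hom y₀ := by
      have := congrArg SSet.yonedaEquiv (hφ j hj)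
      rw [yonedaEquiv_δ_comp] at this
      simp only [g, Equiv.apply_symm_apply] at this
      exact this
    rw [map_add, h3]
    abel
  · simp only [l]
    rw [SSet.yonedaEquiv_symm_comp]
    apply SSet.yonedaEquiv.injective
    rw [Equiv.apply_symm_apply]
    change (f.app (op ⦋n + 1⦌)).hom (y₀ + z) = _
    have hz : (f.app (op ⦋n + 1⦌)).hom z = 0 := AddMonoidHom.mem_ker.mp hφK
    rw [map_add, hz, add_zero]
    exact hy₀

theorem rlp_J {X Y : SimplicialObject AddCommGrpCat.{u}} (f : X ⟶ Y)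
    (hf : ∀ n : SimplexCategoryᵒᵖ, Function.Surjective (f.app n)) :
    SSet.modelCategoryQuillen.J.rlp (X := X ⋙ forget AddCommGrpCat.{u})
      (Y := Y ⋙ forget AddCommGrpCat.{u}) (Functor.whiskerRight f (forget AddCommGrpCat.{u})) := by
  intro _ _ _ hi
  simp only [SSet.modelCategoryQuillen.J, MorphismProperty.iSup_iff] at hi
  obtain ⟨n, ⟨i⟩⟩ := hi
  exact hasLiftingProperty_horn f hf n i

end Groth.Agent.Lib.Helper4.MooreFib
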