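import Groth.Agent.Lib.Helper4.JHUniq1
set_option backward.isDefEq.respectTransparency.types false
set_option autoImplicit false
set_option linter.style.haveILetI false

universe u
open CategoryTheory CategoryTheory.Limits AlgebraicGeometry Opposite TopologicalSpace Polynomial

namespace Groth.Agent.Lib.Helper4.MuHN
open Groth.Agent.Lib.Helper4.HilbPoly Groth.Agent.Lib.Helper4.PolyAsymp Groth.Agent.Lib.Helper4.HNFilt
  Groth.Agent.Lib.Helper4.MaxDestab Groth.Agent.Lib.Helper4.SubPre Groth.Agent.Lib.Helper4.HNExist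
  Groth.Agent.Lib.Helper4.JHExist

variable {X : Scheme.{u}}

/-- a pure module has no coherent submodule of dimension exactly `d - 1` -/
theorem torsion_cond_of_isPure {E : X.Modules} {d : ℕ} (hEp : ShStab.IsPure X E d)
    (F : X.Modules) (ι : F ⟶ E) (hι : Mono ι) (hF : Coh.IsCoh F) :
    topologicalKrullDim (CohB1.support F) + 1 ≠ (d : WithBot ℕ∞) := by
  by_cases hz : IsZero F
  · rw [Groth.Agent.Lib.Helper16.K0Supp.support_of_isZero hz, dim_empty]
    simp
  · rw [hEp F ι hι hF hz]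
    intro h
    have h3 : ((d + 1 : ℕ) : WithBot ℕ∞) = (d : WithBot ℕ∞) := by
      rw [← h]; push_cast; rfl
    have := WithBot.coe_injective h3
    have := ENat.natCast_inj.1 this
    omega

/-- the next coefficient comparison -/
theorem alpha_pred_le_of_polyLE {d : ℕ} {P Q : ℚ[X]} (hP : P.natDegree ≤ d) (hQ : Q.natDegree ≤ d)
    (hα : StabCat.alpha d Q = StabCat.alpha d P) (h : StabCat.PolyLE P Q) (hd : 1 ≤ d) :
    StabCat.alpha (d - 1) P ≤ StabCat.alpha (d - 1) Q := by
  set D : ℚ[X] := Q - P with hDdef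
  have hD : D.natDegree ≤ d := (natDegree_sub_le _ _).trans (max_le hQ hP)
  have hf : (0 : ℚ) < (d.factorial : ℚ) := by exact_mod_cast Nat.factorial_pos _
  have hDd : D.coeff d = 0 := by
    simp only [hDdef, coeff_sub]
    unfold StabCat.alpha at hα
    have := mul_left_cancel₀ hf.ne' hα
    linarith
  have hD1 : D.natDegree ≤ d - 1 := by
    rw [Polynomial.natDegree_le_iff_coeff_eq_zero]
    intro j hj
    by_cases hjd : j = d
    · rw [hjd]; exact hDd
    · exact Polynomial.coeff_eq_zero_of_natDegree_lt (by omega)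
  obtain ⟨N, hN⟩ := h
  have h1 : ∃ N : ℕ, ∀ m : ℕ, N ≤ m → 0 ≤ D.eval (m : ℚ) := by
    refine ⟨N, fun m hm => ?_⟩
    simp only [hDdef, eval_sub]
    linarith [hN m hm]
  have h2 := coeff_nonneg_of_eventually_nonneg hD1 h1
  simp only [hDdef, coeff_sub] at h2
  have hf' : (0 : ℚ) < ((d - 1).factorial : ℚ) := by exact_mod_cast Nat.factorial_pos _
  unfold StabCat.alpha
  nlinarith [mul_nonneg hf'.le h2]

variable (k : Type u) [Field k] [X.Over (Spec (CommRingCat.of k))]
    [IsProper (X ↘ (Spec (CommRingCat.of k)))] {L : X.Modules}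

theorem isMuSemistable_of_iso (hL : CohB1.IsAmple L) {d : ℕ} {A B : X.Modules} (e : A ≅ B)
    (hA : ShStab.IsMuSemistable k X L A d) : ShStab.IsMuSemistable k X L B d := by
  obtain ⟨hc, h0, hd, ht, hss⟩ := hA
  have hBc := Groth.Agent.Lib.Helper6.DevCore.isCoh_of_iso e hc
  have hsupp : CohB1.support B = CohB1.support A :=
    Set.Subset.antisymm (Groth.Agent.Lib.Helper6.DevCore.support_subset_of_mono e.inv)
      (Groth.Agent.Lib.Helper6.DevCore.support_subset_of_mono e.hom)
  refine ⟨hBc, fun hz => h0 (hz.of_iso e), by rw [hsupp]; exact hd, fun F ι hι hF => ?_,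
    fun F ι hι hF pF pB hpF hpB h1 h2 => ?_⟩
  · haveI := hι
    exact ht F (ι ≫ e.inv) inferInstance hF
  · haveI := hι
    exact hss F (ι ≫ e.inv) inferInstance hF pF pB hpF (isHilbPoly_of_iso k hL.1 e.symm hBc hpB) h1 h2

/-- the maximal slope-destabilising subobject: saturated, of maximal `hatSlope`, and of maximal multiplicity among
those -/
theorem exists_muMaxDestab (hL : CohB1.IsAmple L) {d : ℕ} (hd : 1 ≤ d) {E : X.Modules}
    (hE : Coh.IsCoh E) (h0 : ¬ IsZero E) (hp : ShStab.IsPure X E d) :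
    ∃ S : Subobject E, Good S ∧ ShStab.IsPure X (cokernel S.arrow) d ∧
      ∀ G : Subobject E, Good G →
        StabCat.hatSlope d (Pp k L d G) ≤ StabCat.hatSlope d (Pp k L d S) ∧
        (StabCat.hatSlope d (Pp k L d G) = StabCat.hatSlope d (Pp k L d S) →
          StabCat.alpha d (Pp k L d G) ≤ StabCat.alpha d (Pp k L d S)) := by
  classical
  have hdE := dim_support_of_isPure hE h0 hp
  have hpE := isHilbPoly_hilb k hL.1 _ hE d hdE.le
  have gf := fun (S : Subobject E) (hS : Good S) => good_facts k hL hE h0 hp S hS.1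
  have pos : ∀ S : Subobject E, Good S → 0 < StabCat.alpha d (Pp k L d S) := fun S hS => (gf S hS).2.1 hS.2
  have deg : ∀ S : Subobject E, Good S → (Pp k L d S).natDegree ≤ d := fun S hS =>
    (sub_facts k hL hE hS.1 hp h0 S.arrow (gf S hS).1 hpE).1
  -- the Gieseker maximal destabilising subobject bounds the slopes
  obtain ⟨M, ιM, hιM, hMc, hM0, hmax⟩ := exists_isMaxDestab k hL d E hE h0 hp
  haveI := hιM
  have eM : (Subobject.mk ιM : X.Modules) ≅ M := Subobject.underlyingIso ιM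
  have hMgood : Good (Subobject.mk ιM) :=
    ⟨Groth.Agent.Lib.Helper6.DevCore.isCoh_of_iso eM.symm hMc, fun hz => hM0 (hz.of_iso eM.symm)⟩
  have hpM : ShStab.IsHilbPoly k X L M (Pp k L d (Subobject.mk ιM)) :=
    isHilbPoly_of_iso k hL.1 eM hMgood.1 (gf _ hMgood).1
  set μmax := StabCat.hatSlope d (Pp k L d (Subobject.mk ιM)) with hμmax
  have bound : ∀ G : Subobject E, Good G → StabCat.hatSlope d (Pp k L d G) ≤ μmax := by
    intro G hG
    have h1 := (hmax (G : X.Modules) G.arrow inferInstance hG.1 hG.2 _ _ hpM (gf G hG).1).1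
    exact hatSlope_le_of_redLE hd (deg G hG) (deg _ hMgood) (pos G hG) (pos _ hMgood) h1
  -- multiplicities as natural numbers
  let μ : Subobject E → ℕ := fun S => (Groth.Agent.Lib.Helper4.Snapper.hcoef k X L d
      (Groth.Agent.Lib.Helper6.K0Len.cls (S : X.Modules))).toNat
  have hμ : ∀ S : Subobject E, Good S → StabCat.alpha d (Pp k L d S) = (μ S : ℚ) := by
    intro S hS
    have h1 := pos S hS
    rw [alpha_pp_eq] at h1 ⊢
    have h2 : (0 : ℤ) ≤ Groth.Agent.Lib.Helper4.Snapper.hcoef k X L d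
        (Groth.Agent.Lib.Helper6.K0Len.cls (S : X.Modules)) := by
      have : (0 : ℤ) < Groth.Agent.Lib.Helper4.Snapper.hcoef k X L d
        (Groth.Agent.Lib.Helper6.K0Len.cls (S : X.Modules)) := by exact_mod_cast h1
      exact this.le
    show _ = (((Groth.Agent.Lib.Helper4.Snapper.hcoef k X L d
      (Groth.Agent.Lib.Helper6.K0Len.cls (S : X.Modules))).toNat : ℕ) : ℚ)
    have h3 := Int.toNat_of_nonneg h2
    exact_mod_cast h3.symm
  obtain ⟨N, hN⟩ := exists_nat_ge (StabCat.alpha d (hilb k L E d))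
  have hμN : ∀ S : Subobject E, Good S → μ S ≤ N := by
    intro S hS
    have h1 := (sub_facts k hL hE hS.1 hp h0 S.arrow (gf S hS).1 hpE).2.2.2.1
    rw [hμ S hS] at h1
    have : (μ S : ℚ) ≤ (N : ℚ) := h1.trans hN
    exact_mod_cast this
  let 𝒮 : Set (Subobject E) := {S | Good S ∧ StabCat.hatSlope d (Pp k L d S) = μmax}
  have h𝒮 : 𝒮.Nonempty := ⟨Subobject.mk ιM, hMgood, rfl⟩
  obtain ⟨S₀, ⟨hS₀, hS₀μ⟩, hS₀min⟩ := (measure (fun S : Subobject E => N - μ S)).wf.has_min 𝒮 h𝒮
  have hS₀max : ∀ S : Subobject E, Good S → StabCat.hatSlope d (Pp k L d S) = μmax →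
      StabCat.alpha d (Pp k L d S) ≤ StabCat.alpha d (Pp k L d S₀) := by
    intro S hS hSμ
    have h1 : ¬ (N - μ S < N - μ S₀) := hS₀min S ⟨hS, hSμ⟩
    have h2 := hμN S hS
    have h3 := hμN S₀ hS₀
    rw [hμ S hS, hμ S₀ hS₀]
    have : μ S ≤ μ S₀ := by omega
    exact_mod_cast this
  -- saturate
  obtain ⟨F', ι', f, pF', hι', hfι, hF', hCp, hpF', hα, hle⟩ :=
    exists_saturation k hL hE h0 hp S₀.arrow hS₀.1 (gf S₀ hS₀).1 hpE
  haveI := hι'
  have eF : (Subobject.mk ι' : X.Modules) ≅ F' := Subobject.underlyingIso ι'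
  have hScoh : Coh.IsCoh (Subobject.mk ι' : X.Modules) := Groth.Agent.Lib.Helper6.DevCore.isCoh_of_iso eF.symm hF'
  have hPS : pF' = Pp k L d (Subobject.mk ι') :=
    pp_eq k hL hE h0 hp _ hScoh (isHilbPoly_of_iso k hL.1 eF.symm hF' hpF')
  have hS0 : ¬ IsZero (Subobject.mk ι' : X.Modules) := by
    intro hz
    have h1 := isHilbPoly_unique k (isHilbPoly_of_iso k hL.1 eF.symm hF' hpF') (isHilbPoly_zero k hL.1 hz)
    have h2 := pos S₀ hS₀
    rw [← hα, h1] at h2
    simp [StabCat.alpha] at h2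
  have hSgood : Good (Subobject.mk ι') := ⟨hScoh, hS0⟩
  have hαS : StabCat.alpha d (Pp k L d (Subobject.mk ι')) = StabCat.alpha d (Pp k L d S₀) := by
    rw [← hPS]; exact hα
  have hSμ : StabCat.hatSlope d (Pp k L d (Subobject.mk ι')) = μmax := by
    apply le_antisymm (bound _ hSgood)
    rw [← hS₀μ]
    have h1 := alpha_pred_le_of_polyLE (deg S₀ hS₀) (deg _ hSgood) hαS (hPS ▸ hle) hd
    unfold StabCat.hatSlope
    rw [hαS]
    exact div_le_div_of_nonneg_right h1 (pos S₀ hS₀).le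
  have eC : cokernel (Subobject.mk ι').arrow ≅ cokernel ι' :=
    cokernelIsoOfEq (Subobject.underlyingIso_hom_comp_eq_mk ι').symm ≪≫
      cokernelEpiComp (Subobject.underlyingIso ι').hom ι'
  refine ⟨Subobject.mk ι', hSgood, isPure_of_iso eC.symm hCp, fun G hG => ⟨?_, fun heq => ?_⟩⟩
  · rw [hSμ]; exact bound G hG
  · rw [hαS]
    exact hS₀max G hG (heq.trans hSμ)

/-- the maximal slope-destabilising subobject is slope-semistable -/
theorem isMuSemistable_of_muMax (hL : CohB1.IsAmple L) {d : ℕ} {E : X.Modules}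
    (hE : Coh.IsCoh E) (h0 : ¬ IsZero E) (hp : ShStab.IsPure X E d) (S : Subobject E) (hS : Good S)
    (hmax : ∀ G : Subobject E, Good G →
        StabCat.hatSlope d (Pp k L d G) ≤ StabCat.hatSlope d (Pp k L d S)) :
    ShStab.IsMuSemistable k X L (S : X.Modules) d := by
  have hSp : ShStab.IsPure X (S : X.Modules) d := isPure_of_mono hp S.arrow
  refine ⟨hS.1, hS.2, dim_support_of_isPure hS.1 hS.2 hSp, torsion_cond_of_isPure hSp,
    fun G j hj hG pG pS hpG hpS h1 _ => ?_⟩
  haveI := hj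
  have eG : (Subobject.mk (j ≫ S.arrow) : X.Modules) ≅ G := Subobject.underlyingIso _
  have hG0 : ¬ IsZero G := by
    intro hz
    have := isHilbPoly_unique k hpG (isHilbPoly_zero k hL.1 hz)
    rw [this] at h1
    simp [StabCat.alpha] at h1
  have hGood : Good (Subobject.mk (j ≫ S.arrow)) :=
    ⟨Groth.Agent.Lib.Helper6.DevCore.isCoh_of_iso eG.symm hG, fun hz => hG0 (hz.of_iso eG.symm)⟩
  have e1 : pG = Pp k L d (Subobject.mk (j ≫ S.arrow)) :=
    pp_eq k hL hE h0 hp _ hGood.1 (isHilbPoly_of_iso k hL.1 eG.symm hG hpG)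
  have e2 : pS = Pp k L d S := pp_eq k hL hE h0 hp _ hS.1 hpS
  rw [e1, e2]
  exact hmax _ hGood

end Groth.Agent.Lib.Helper4.MuHN
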