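import Groth.Agent.Lib.Helper4.MuHN1
set_option backward.isDefEq.respectTransparency.types false
set_option autoImplicit false
set_option linter.style.haveILetI false

universe u
open CategoryTheory CategoryTheory.Limits AlgebraicGeometry Opposite TopologicalSpace Polynomial

namespace Groth.Agent.Lib.Helper4.MuHN
open Groth.Agent.Lib.Helper4.HilbPoly Groth.Agent.Lib.Helper4.PolyAsymp Groth.Agent.Lib.Helper4.HNFilt
  Groth.Agent.Lib.Helper4.MaxDestab Groth.Agent.Lib.Helper4.SubPre Groth.Agent.Lib.Helper4.HNExist
  Groth.Agent.Lib.Helper4.JHExist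

variable {X : Scheme.{u}}

/-- see-saw for `hatSlope` -/
theorem hatSlope_lt_of_add {d : ℕ} {pD q : ℚ[X]} (hD : 0 < StabCat.alpha d pD) (hq : 0 < StabCat.alpha d q)
    (h : StabCat.hatSlope d (pD + q) < StabCat.hatSlope d pD) :
    StabCat.hatSlope d q < StabCat.hatSlope d pD := by
  unfold StabCat.hatSlope at *
  rw [alpha_add, alpha_add] at h
  have hs : 0 < StabCat.alpha d pD + StabCat.alpha d q := by linarith
  rw [div_lt_div_iff₀ hs hD] at h
  rw [div_lt_div_iff₀ hq hD]
  nlinarith

variable (k : Type u) [Field k] [X.Over (Spec (CommRingCat.of k))]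
    [IsProper (X ↘ (Spec (CommRingCat.of k)))]

/-- slope Harder-Narasimhan filtrations -/
def IsMuHN (L : X.Modules) (d : ℕ) {F : X.Modules} (s : LTSeries (Subobject F)) : Prop :=
  s.head = ⊥ ∧ s.last = ⊤ ∧
    (∀ i : Fin s.length, ShStab.IsPure X (StabCat.factor s i) d ∧
      ShStab.IsMuSemistable k X L (StabCat.factor s i) d) ∧
    ∀ (i j : Fin s.length), i.val + 1 = j.val → ∀ (p q : ℚ[X]),
      ShStab.IsHilbPoly k X L (StabCat.factor s i) p →
      ShStab.IsHilbPoly k X L (StabCat.factor s j) q → StabCat.hatSlope d q < StabCat.hatSlope d p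

variable {L : X.Modules}

theorem exists_isMuHN_aux (hL : CohB1.IsAmple L) (d : ℕ) (hd : 1 ≤ d) : ∀ n : ℕ, ∀ E : X.Modules, Coh.IsCoh E →
    ¬ IsZero E → ShStab.IsPure X E d → StabCat.alpha d (hilb k L E d) ≤ n →
    ∃ s : LTSeries (Subobject E), IsMuHN k L d s := by
  intro n
  induction n with
  | zero =>
    intro E hE h0 hp hα
    exfalso
    have hdE := dim_support_of_isPure hE h0 hp
    have := alpha_ge_one k hL hE hdE
    have h2 : StabCat.alpha d (hilb k L E d) ≤ 0 := by exact_mod_cast hα
    linarith
  | succ n ih =>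
    intro E hE h0 hp hα
    have hdE := dim_support_of_isPure hE h0 hp
    have hpE := isHilbPoly_hilb k hL.1 _ hE d hdE.le
    obtain ⟨S, hS, hQp, hmax⟩ := exists_muMaxDestab k hL hd hE h0 hp
    have hSss := isMuSemistable_of_muMax k hL hE h0 hp S hS (fun G hG => (hmax G hG).1)
    have hSp : ShStab.IsPure X (S : X.Modules) d := isPure_of_mono hp S.arrow
    obtain ⟨hDc, hD0⟩ := hS
    have hS : Good S := ⟨hDc, hD0⟩
    have hdD : topologicalKrullDim (CohB1.support (S : X.Modules)) = (d : WithBot ℕ∞) :=
      hp _ S.arrow inferInstance hDc hD0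
    have hpD := (good_facts k hL hE h0 hp S hDc).1
    have hαD := (good_facts k hL hE h0 hp S hDc).2.1 hD0
    by_cases hiso : IsIso S.arrow
    · refine ⟨botTopSeries (bot_lt_top_of_not_isZero h0), rfl, rfl, fun i => ?_, fun i j hij => ?_⟩
      · exact ⟨isPure_of_iso (botTopSeriesFactor _ i).symm hp,
          isMuSemistable_of_iso k hL (asIso S.arrow ≪≫ (botTopSeriesFactor _ i).symm) hSss⟩
      · exfalso
        have h1 : i.val = 0 := by have := i.2; simp only [botTopSeries] at this; omega
        have h2 : j.val = 0 := by have := j.2; simp only [botTopSeries] at this; omega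
        omega
    · obtain ⟨hQ0, -⟩ := cokernel_facts S.arrow hD0 hiso
      have hQ : Coh.IsCoh (cokernel S.arrow) := Groth.Agent.Lib.Helper6.DevCore.isCoh_cokernel _ hDc hE
      obtain ⟨hpQ, -⟩ := polyLE_of_mono k hL hDc hE S.arrow hpD hpE
      have hdQ := dim_support_of_isPure hQ hQ0 hQp
      have hαQ : StabCat.alpha d (hilb k L (cokernel S.arrow) d) ≤ n := by
        rw [← eq_hilb k hL.1 hQ hdQ.le hpQ, alpha_sub]
        have := alpha_ge_one k hL hDc hdD
        push_cast at hα
        have h3 : StabCat.alpha d (Pp k L d S) = StabCat.alpha d (hilb k L (S : X.Modules) d) := rfl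
        linarith
      obtain ⟨t, ht⟩ := ih (cokernel S.arrow) hQ hQ0 hQp hαQ
      set π := cokernel.π S.arrow with hπ
      have ht0 : t 0 = ⊥ := ht.1
      have eD : (pre π (t 0) : X.Modules) ≅ (S : X.Modules) :=
        eqToIso (by rw [ht0]) ≪≫ preBotIso π ≪≫ kernelCokernelIso S.arrow
      have hne : ⊥ < pre π (t 0) := by
        refine lt_of_le_of_ne bot_le ?_
        intro heq
        have hz : IsZero ((⊥ : Subobject E) : X.Modules) := isZero_bot_coe E
        rw [heq] at hz
        exact hD0 (hz.of_iso eD.symm)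
      refine ⟨liftSeries π t hne, rfl, ?_, fun i => ?_, fun i j hij p q hp' hq => ?_⟩
      · show pre π t.last = ⊤
        rw [ht.2.1, pre_top]
      · refine Fin.cases ?_ (fun j => ?_) i
        · exact ⟨isPure_of_iso (liftSeriesFactorZero π t hne ≪≫ eD).symm hSp,
            isMuSemistable_of_iso k hL (liftSeriesFactorZero π t hne ≪≫ eD).symm hSss⟩
        · exact ⟨isPure_of_iso (liftSeriesFactorSucc π t hne j).symm (ht.2.2.1 j).1,
            isMuSemistable_of_iso k hL (liftSeriesFactorSucc π t hne j).symm (ht.2.2.1 j).2⟩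
      · have hcohF : ∀ i' : Fin t.length, Coh.IsCoh (StabCat.factor t i') := fun i' => (ht.2.2.1 i').2.1
        suffices H : ∀ (i j : Fin (t.length + 1)), i.val + 1 = j.val → ∀ p q : ℚ[X],
            ShStab.IsHilbPoly k X L (StabCat.factor (liftSeries π t hne) i) p →
            ShStab.IsHilbPoly k X L (StabCat.factor (liftSeries π t hne) j) q →
            StabCat.hatSlope d q < StabCat.hatSlope d p from
          H i j hij p q hp' hq
        clear hij hp' hq i j p q
        intro i j hij p q hp' hq
        obtain ⟨j', rfl⟩ : ∃ j', Fin.succ j' = j := Fin.exists_succ_eq.2 (by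
          intro h; rw [h] at hij; simp at hij)
        have hq' : ShStab.IsHilbPoly k X L (StabCat.factor t j') q :=
          isHilbPoly_of_iso k hL.1 (liftSeriesFactorSucc π t hne j')
            (Groth.Agent.Lib.Helper6.DevCore.isCoh_of_iso (liftSeriesFactorSucc π t hne j').symm (hcohF j')) hq
        revert hp' hij
        refine Fin.cases ?_ (fun i' => ?_) i
        · intro hp' hij
          have hj'0 : j'.val = 0 := by
            have : (0 : Fin (t.length + 1)).val + 1 = j'.val + 1 := hij
            simpa using this.symm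
          have e0 := liftSeriesFactorZero π t hne ≪≫ eD
          have hp'' : ShStab.IsHilbPoly k X L (S : X.Modules) p :=
            isHilbPoly_of_iso k hL.1 e0 (Groth.Agent.Lib.Helper6.DevCore.isCoh_of_iso e0.symm hDc) hp'
          have hpeq : p = Pp k L d S := isHilbPoly_unique k hp'' hpD
          have hcs : t j'.castSucc = ⊥ := by
            rw [← ht0]
            congr 1
            exact Fin.ext hj'0
          have e1 : StabCat.factor t j' ≅ (t j'.succ : X.Modules) :=
            cokerOfLEIsoOfEq hcs rfl (le_of_lt (t.step j')) bot_le ≪≫ cokerBotIso (t j'.succ)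
          have hT₁ : Coh.IsCoh (t j'.succ : X.Modules) :=
            Groth.Agent.Lib.Helper6.DevCore.isCoh_of_iso e1 (hcohF j')
          have hqT : ShStab.IsHilbPoly k X L (t j'.succ : X.Modules) q :=
            isHilbPoly_of_iso k hL.1 e1 (hcohF j') hq'
          have hαq : 0 < StabCat.alpha d q :=
            alpha_pos k hL (hcohF j') (ht.2.2.1 j').2.2.2.1 hq'
          obtain ⟨hS₁, hpS₁⟩ := isHilbPoly_preObj k hL π hE hQ (t j'.succ) hT₁ hpE hpQ hqT
          have hring : hilb k L E d - (hilb k L E d - Pp k L d S - q) = Pp k L d S + q := by ring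
          rw [hring] at hpS₁
          have eG := preIso π (t j'.succ)
          have hGc : Coh.IsCoh (pre π (t j'.succ) : X.Modules) :=
            Groth.Agent.Lib.Helper6.DevCore.isCoh_of_iso eG.symm hS₁
          have hpG : ShStab.IsHilbPoly k X L (pre π (t j'.succ) : X.Modules) (Pp k L d S + q) :=
            isHilbPoly_of_iso k hL.1 eG.symm hS₁ hpS₁
          have hG0 : ¬ IsZero (pre π (t j'.succ) : X.Modules) := by
            intro hz
            have h1 := isHilbPoly_unique k hpG (isHilbPoly_zero k hL.1 hz)
            have h2 : StabCat.alpha d (Pp k L d S + q) = 0 := by rw [h1]; simp [StabCat.alpha]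
            rw [alpha_add] at h2
            linarith
          have hPG : Pp k L d S + q = Pp k L d (pre π (t j'.succ)) := pp_eq k hL hE h0 hp _ hGc hpG
          obtain ⟨m1, m2⟩ := hmax _ ⟨hGc, hG0⟩
          rw [← hPG] at m1 m2
          have hlt : StabCat.hatSlope d (Pp k L d S + q) < StabCat.hatSlope d (Pp k L d S) := by
            refine lt_of_le_of_ne m1 (fun heq => ?_)
            have := m2 heq
            rw [alpha_add] at this
            linarith
          rw [hpeq]
          exact hatSlope_lt_of_add hαD hαq hlt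
        · intro hp' hij
          have hp'' : ShStab.IsHilbPoly k X L (StabCat.factor t i') p :=
            isHilbPoly_of_iso k hL.1 (liftSeriesFactorSucc π t hne i')
              (Groth.Agent.Lib.Helper6.DevCore.isCoh_of_iso (liftSeriesFactorSucc π t hne i').symm (hcohF i')) hp'
          refine ht.2.2.2 i' j' ?_ p q hp'' hq'
          have : i'.succ.val + 1 = j'.succ.val := hij
          simp only [Fin.val_succ] at this
          omega

theorem exists_isMuHN (hL : CohB1.IsAmple L) (d : ℕ) (hd : 1 ≤ d) (E : X.Modules) (hE : Coh.IsCoh E)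
    (h0 : ¬ IsZero E) (hp : ShStab.IsPure X E d) :
    ∃ s : LTSeries (Subobject E), IsMuHN k L d s := by
  obtain ⟨n, hn⟩ := exists_nat_ge (StabCat.alpha d (hilb k L E d))
  exact exists_isMuHN_aux k hL d hd n E hE h0 hp hn

end Groth.Agent.Lib.Helper4.MuHN
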