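import Groth.Agent.Lib.Helper4.MuHN2
set_option backward.isDefEq.respectTransparency.types false
set_option autoImplicit false
set_option linter.style.haveILetI false

universe u
open CategoryTheory CategoryTheory.Limits AlgebraicGeometry Opposite TopologicalSpace Polynomial

namespace Groth.Agent.Lib.Helper4.MuHN
open Groth.Agent.Lib.Helper4.HilbPoly Groth.Agent.Lib.Helper4.PolyAsymp Groth.Agent.Lib.Helper4.HNFilt
  Groth.Agent.Lib.Helper4.MaxDestab Groth.Agent.Lib.Helper4.SubPre Groth.Agent.Lib.Helper4.HNExist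
  Groth.Agent.Lib.Helper4.JHExist

variable (k : Type u) [Field k] {X : Scheme.{u}} [X.Over (Spec (CommRingCat.of k))]
    [IsProper (X ↘ (Spec (CommRingCat.of k)))] {L : X.Modules}

theorem muhn_facts (hL : CohB1.IsAmple L) {d : ℕ} {E : X.Modules} (s : LTSeries (Subobject E))
    (hs : IsMuHN k L d s) (i : Fin s.length) :
    ShStab.IsPure X (StabCat.factor s i) d ∧ ShStab.IsMuSemistable k X L (StabCat.factor s i) d ∧
      ShStab.IsHilbPoly k X L (StabCat.factor s i) (hilb k L (StabCat.factor s i) d) ∧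
      0 < StabCat.alpha d (hilb k L (StabCat.factor s i) d) := by
  obtain ⟨hp, hss⟩ := hs.2.2.1 i
  have hP := isHilbPoly_hilb k hL.1 _ hss.1 d hss.2.2.1.le
  exact ⟨hp, hss, hP, alpha_pos k hL hss.1 hss.2.2.1 hP⟩

theorem muhn_le (hL : CohB1.IsAmple L) {d : ℕ} {E : X.Modules} (s : LTSeries (Subobject E))
    (hs : IsMuHN k L d s) (n : ℕ) :
    ∀ (i j : Fin s.length), j.val = i.val + n →
      StabCat.hatSlope d (hilb k L (StabCat.factor s j) d) ≤ StabCat.hatSlope d (hilb k L (StabCat.factor s i) d) := by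
  induction n with
  | zero =>
    intro i j hij
    have : j = i := Fin.ext (by omega)
    rw [this]
  | succ n ih =>
    intro i j hij
    have hj' : i.val + n < s.length := by have := j.2; omega
    have h1 := ih i ⟨i.val + n, hj'⟩ rfl
    obtain ⟨-, -, hPj', -⟩ := muhn_facts k hL s hs ⟨i.val + n, hj'⟩
    obtain ⟨-, -, hPj, -⟩ := muhn_facts k hL s hs j
    have h2 := hs.2.2.2 ⟨i.val + n, hj'⟩ j (by simp only []; omega) _ _ hPj' hPj
    exact h2.le.trans h1

theorem muhn_lt (hL : CohB1.IsAmple L) {d : ℕ} {E : X.Modules} (s : LTSeries (Subobject E))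
    (hs : IsMuHN k L d s) (i j : Fin s.length) (hij : i.val < j.val) :
    StabCat.hatSlope d (hilb k L (StabCat.factor s j) d) < StabCat.hatSlope d (hilb k L (StabCat.factor s i) d) := by
  have hi1 : i.val + 1 < s.length := by have := j.2; omega
  obtain ⟨-, -, hPi, -⟩ := muhn_facts k hL s hs i
  obtain ⟨-, -, hPi1, -⟩ := muhn_facts k hL s hs ⟨i.val + 1, hi1⟩
  have h1 := hs.2.2.2 i ⟨i.val + 1, hi1⟩ rfl _ _ hPi hPi1
  have h2 := muhn_le k hL s hs (j.val - (i.val + 1)) ⟨i.val + 1, hi1⟩ j (by simp only []; omega)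
  exact lt_of_le_of_lt h2 h1

/-- the key lemma for uniqueness -/
theorem muhn_key (hL : CohB1.IsAmple L) {d : ℕ} {E : X.Modules} (s : LTSeries (Subobject E))
    (hs : IsMuHN k L d s) (i : Fin s.length) (A B' : Subobject E)
    (hA : s i.castSucc = A) (hAB : A < B')
    (hpure : ShStab.IsPure X (cokernel (Subobject.ofLE A B' hAB.le)) d)
    (hss : ShStab.IsMuSemistable k X L (cokernel (Subobject.ofLE A B' hAB.le)) d) :
    StabCat.hatSlope d (hilb k L (cokernel (Subobject.ofLE A B' hAB.le)) d) ≤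
        StabCat.hatSlope d (hilb k L (StabCat.factor s i) d) ∧
      (StabCat.hatSlope d (hilb k L (StabCat.factor s i) d) ≤
          StabCat.hatSlope d (hilb k L (cokernel (Subobject.ofLE A B' hAB.le)) d) →
        B' ≤ s i.succ) := by
  classical
  subst hA
  let p : ℕ → Prop := fun n => ∃ h : n < s.length + 1, B' ≤ s ⟨n, h⟩
  have hp : ∃ n, p n := by
    refine ⟨s.length, Nat.lt_succ_self _, ?_⟩
    have : s ⟨s.length, Nat.lt_succ_self _⟩ = ⊤ := hs.2.1
    rw [this]
    exact le_top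
  obtain ⟨hn, hle⟩ := Nat.find_spec hp
  have hmin := fun m (hm : m < Nat.find hp) => Nat.find_min hp hm
  set n := Nat.find hp with hndef
  have hni : i.val < n := by
    by_contra hc
    rw [not_lt] at hc
    have h1 : s ⟨n, hn⟩ ≤ s i.castSucc := s.monotone (by
      rw [Fin.le_def]
      exact hc)
    exact absurd (hle.trans h1) (not_le_of_gt hAB)
  obtain ⟨j, hj⟩ : ∃ j, n = j + 1 := ⟨n - 1, by omega⟩
  have hj' : j < s.length := by omega
  have hij : i.val ≤ j := by omega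
  have hprev : ¬ B' ≤ s ⟨j, by omega⟩ := fun hc => hmin j (by omega) ⟨by omega, hc⟩
  set jF : Fin s.length := ⟨j, hj'⟩ with hjF
  have hsucc : s jF.succ = s ⟨n, hn⟩ := by
    congr 1
    exact Fin.ext hj.symm
  have hle' : B' ≤ s jF.succ := by rw [hsucc]; exact hle
  have hprev' : ¬ B' ≤ s jF.castSucc := hprev
  have hAj : s i.castSucc ≤ s jF.castSucc := s.monotone (by rw [Fin.le_def]; exact hij)
  set c := cokernel.π (Subobject.ofLE (s jF.castSucc) (s jF.succ) (le_of_lt (s.step jF))) with hc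
  set m : (B' : X.Modules) ⟶ cokernel (Subobject.ofLE (s jF.castSucc) (s jF.succ) (le_of_lt (s.step jF))) :=
    Subobject.ofLE B' (s jF.succ) hle' ≫ c with hm
  have hm0 : m ≠ 0 := by
    intro h
    apply hprev'
    let l := Abelian.monoLift (Subobject.ofLE (s jF.castSucc) (s jF.succ) (le_of_lt (s.step jF)))
      (Subobject.ofLE B' (s jF.succ) hle') h
    have hl : l ≫ Subobject.ofLE (s jF.castSucc) (s jF.succ) (le_of_lt (s.step jF)) =
        Subobject.ofLE B' (s jF.succ) hle' := Abelian.monoLift_comp _ _ _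
    refine Subobject.le_of_comm l ?_
    rw [← Subobject.ofLE_arrow (le_of_lt (s.step jF)), ← Category.assoc, hl, Subobject.ofLE_arrow]
  have hcond : Subobject.ofLE (s jF.castSucc) (s jF.succ) (le_of_lt (s.step jF)) ≫ c = 0 :=
    cokernel.condition _
  have hkill : Subobject.ofLE (s i.castSucc) B' hAB.le ≫ m = 0 := by
    rw [hm, ← Category.assoc, Subobject.ofLE_comp_ofLE,
      ← Subobject.ofLE_comp_ofLE (s i.castSucc) (s jF.castSucc) (s jF.succ) hAj (le_of_lt (s.step jF)),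
      Category.assoc, hcond, Limits.comp_zero]
  set mbar := cokernel.desc _ m hkill with hmbar
  have hmbar0 : mbar ≠ 0 := by
    intro h
    apply hm0
    rw [← cokernel.π_desc _ m hkill, ← hmbar, h, Limits.comp_zero]
  obtain ⟨hpj, hssj, hPj, hαj⟩ := muhn_facts k hL s hs jF
  have hPC := isHilbPoly_hilb k hL.1 _ hss.1 d hss.2.2.1.le
  have h1 : StabCat.hatSlope d (hilb k L (cokernel (Subobject.ofLE (s i.castSucc) B' hAB.le)) d) ≤
      StabCat.hatSlope d (hilb k L (StabCat.factor s jF) d) := by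
    by_contra hcon
    rw [not_le] at hcon
    exact hmbar0 (hom_eq_zero_of_isMuSemistable k hL hpure hpj hss hssj hPC hPj hcon mbar)
  have h2 : StabCat.hatSlope d (hilb k L (StabCat.factor s jF) d) ≤
      StabCat.hatSlope d (hilb k L (StabCat.factor s i) d) :=
    muhn_le k hL s hs (j - i.val) i jF (by simp only [hjF]; omega)
  refine ⟨h1.trans h2, fun h3 => ?_⟩
  by_cases hji : i.val < j
  · exfalso
    have h4 := muhn_lt k hL s hs i jF hji
    have h5 := lt_of_le_of_lt h1 h4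
    exact absurd h3 (not_le_of_gt h5)
  · have : jF = i := Fin.ext (by simp only [hjF]; omega)
    rw [← this]
    exact hle'

theorem muhn_agree (hL : CohB1.IsAmple L) {d : ℕ} {E : X.Modules} (s s' : LTSeries (Subobject E))
    (hs : IsMuHN k L d s) (hs' : IsMuHN k L d s') :
    ∀ n : ℕ, ∀ (h : n < s.length + 1) (h' : n < s'.length + 1), s ⟨n, h⟩ = s' ⟨n, h'⟩ := by
  intro n
  induction n with
  | zero =>
    intro h h'
    have h1 : s ⟨0, h⟩ = ⊥ := hs.1
    have h2 : s' ⟨0, h'⟩ = ⊥ := hs'.1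
    rw [h1, h2]
  | succ n ih =>
    intro h h'
    have hn : n < s.length := by omega
    have hn' : n < s'.length := by omega
    have hA : s (Fin.castSucc ⟨n, hn⟩) = s' (Fin.castSucc ⟨n, hn'⟩) := ih (by omega) (by omega)
    have hlt : s (Fin.castSucc ⟨n, hn⟩) < s (Fin.succ ⟨n, hn⟩) := s.step ⟨n, hn⟩
    have hlt' : s' (Fin.castSucc ⟨n, hn'⟩) < s' (Fin.succ ⟨n, hn'⟩) := s'.step ⟨n, hn'⟩
    obtain ⟨a1, a2⟩ := muhn_key k hL s hs ⟨n, hn⟩ (s' (Fin.castSucc ⟨n, hn'⟩)) (s' (Fin.succ ⟨n, hn'⟩)) hA hlt'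
      (hs'.2.2.1 ⟨n, hn'⟩).1 (hs'.2.2.1 ⟨n, hn'⟩).2
    obtain ⟨b1, b2⟩ := muhn_key k hL s' hs' ⟨n, hn'⟩ (s (Fin.castSucc ⟨n, hn⟩)) (s (Fin.succ ⟨n, hn⟩)) hA.symm hlt
      (hs.2.2.1 ⟨n, hn⟩).1 (hs.2.2.1 ⟨n, hn⟩).2
    have c1 : s' (Fin.succ ⟨n, hn'⟩) ≤ s (Fin.succ ⟨n, hn⟩) := a2 b1
    have c2 : s (Fin.succ ⟨n, hn⟩) ≤ s' (Fin.succ ⟨n, hn'⟩) := b2 a1
    exact le_antisymm c2 c1

theorem muhn_length_le (hL : CohB1.IsAmple L) {d : ℕ} {E : X.Modules} (s s' : LTSeries (Subobject E))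
    (hs : IsMuHN k L d s) (hs' : IsMuHN k L d s') :
    s'.length ≤ s.length := by
  by_contra hc
  rw [not_le] at hc
  have h1 := muhn_agree k hL s s' hs hs' s.length (Nat.lt_succ_self _) (by omega)
  have h2 : s ⟨s.length, Nat.lt_succ_self _⟩ = ⊤ := hs.2.1
  have h3 : s' ⟨s'.length, Nat.lt_succ_self _⟩ = ⊤ := hs'.2.1
  have h4 : s' ⟨s.length, by omega⟩ < s' ⟨s'.length, Nat.lt_succ_self _⟩ := s'.strictMono (by
    rw [Fin.lt_def]; exact hc)
  rw [← h1, h2, h3] at h4
  exact lt_irrefl _ h4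

theorem muhn_unique (hL : CohB1.IsAmple L) {d : ℕ} {E : X.Modules} (s s' : LTSeries (Subobject E))
    (hs : IsMuHN k L d s) (hs' : IsMuHN k L d s') : s = s' := by
  have hlen : s.length = s'.length :=
    le_antisymm (muhn_length_le k hL s' s hs' hs) (muhn_length_le k hL s s' hs hs')
  refine RelSeries.ext hlen ?_
  funext i
  exact muhn_agree k hL s s' hs hs' i.val i.2 (by have := i.2; omega)

/-- S18833 -/
theorem existsUnique_isMuHN (hL : CohB1.IsAmple L) (d : ℕ) (hd : 1 ≤ d) (E : X.Modules)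
    (hE : Coh.IsCoh E) (h0 : ¬ IsZero E) (hp : ShStab.IsPure X E d) :
    ∃! s : LTSeries (Subobject E), IsMuHN k L d s := by
  obtain ⟨s, hs⟩ := exists_isMuHN k hL d hd E hE h0 hp
  exact ⟨s, hs, fun s' hs' => muhn_unique k hL s' s hs' hs⟩

end Groth.Agent.Lib.Helper4.MuHN
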