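import Mathlib.Tactic
import Mathlib.Data.ZMod.QuotientRing
import Mathlib.RingTheory.SimpleModule.Basic
import Mathlib.RingTheory.PrincipalIdealDomain
import Groth.Prelude.Def_Red2
import Groth.Agent.Lib.Helper4.KummerSeq

set_option autoImplicit false
universe u
open CategoryTheory MonoidalCategory CartesianMonoidalCategory MonObj AlgebraicGeometry Limits

namespace Groth.Agent.Lib.Helper4.MuPrime

theorem exists_surj_zmod (M : Type) [AddCommGroup M] [AddGroup.FG M] [Nontrivial M] :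
    ∃ (r : ℕ) (_ : r.Prime) (φ : M →+ ZMod r), Function.Surjective φ := by
  have hfin : Module.Finite ℤ M := Module.Finite.iff_addGroup_fg.mpr inferInstance
  obtain ⟨N, hN⟩ := (eq_top_or_exists_le_coatom (⊥ : Submodule ℤ M)).resolve_left bot_ne_top
  have hs : IsSimpleModule ℤ (M ⧸ N) := isSimpleModule_iff_isCoatom.mpr hN.1
  obtain ⟨I, hI, ⟨e⟩⟩ := isSimpleModule_iff_quot_maximal.mp hs
  have hIbot : I ≠ ⊥ := Ring.ne_bot_of_isMaximal_of_not_isField hI Int.not_isField
  obtain ⟨a, ha⟩ : ∃ a : ℤ, I = Ideal.span {a} := ⟨_, (Ideal.span_singleton_generator I).symm⟩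
  have ha0 : a ≠ 0 := by
    rintro rfl
    apply hIbot
    rw [ha]; simp
  have hprime : Prime a := by
    rw [← Ideal.span_singleton_prime ha0, ← ha]
    exact hI.isPrime
  refine ⟨a.natAbs, Int.prime_iff_natAbs_prime.mp hprime, ?_, ?_⟩
  · exact ((Int.quotientSpanEquivZMod a).toAddMonoidHom.comp
      ((Ideal.quotEquivOfEq ha).toAddMonoidHom.comp (e.toLinearMap.toAddMonoidHom.comp
        (N.mkQ.toAddMonoidHom))))
  · intro z
    obtain ⟨y, rfl⟩ := (Int.quotientSpanEquivZMod a).surjective z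
    obtain ⟨y', rfl⟩ := (Ideal.quotEquivOfEq ha).surjective y
    obtain ⟨y'', rfl⟩ := e.surjective y'
    obtain ⟨m, rfl⟩ := N.mkQ_surjective y''
    exact ⟨m, rfl⟩

theorem isClosedImmersion_DSmap (S : Scheme.{u}) {M N : Type} [AddCommGroup M] [AddCommGroup N]
    (φ : M →+ N) (hφ : Function.Surjective φ) : IsClosedImmersion (Red.DSmap S φ).left := by
  have sq := KummerSeq.isPullback_pullback_map (Limits.IsTerminal.from specULiftZIsTerminal S)
    (Red.diagMap (ULift.{u} ℤ) φ)
  have hleft : (Red.diagMap (ULift.{u} ℤ) φ).left =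
      Spec.map (CommRingCat.ofHom (MonoidAlgebra.mapDomainAlgHom (ULift.{u} ℤ) (ULift.{u} ℤ)
        (AddMonoidHom.toMultiplicative φ)).toRingHom) := rfl
  have hci : IsClosedImmersion (Red.diagMap (ULift.{u} ℤ) φ).left := by
    rw [hleft]
    apply IsClosedImmersion.spec_of_surjective
    intro x
    obtain ⟨y, hy⟩ := Finsupp.mapDomain_surjective (M := ULift.{u} ℤ)
      (f := (AddMonoidHom.toMultiplicative φ)) hφ (MonoidAlgebra.coeff x)
    refine ⟨MonoidAlgebra.ofCoeff y, ?_⟩
    apply MonoidAlgebra.coeff_injective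
    exact hy
  exact MorphismProperty.of_isPullback sq hci

theorem main (S : Scheme.{u}) (M : Type) [AddCommGroup M] [AddGroup.FG M] [Nontrivial M] :
    ∃ (r : ℕ) (_ : r.Prime) (j : Red.DS S (ZMod r) ⟶ Red.DS S M),
      IsMonHom j ∧ IsClosedImmersion j.left := by
  obtain ⟨r, hr, φ, hφ⟩ := exists_surj_zmod M
  exact ⟨r, hr, Red.DSmap S φ, KummerSeq.isMonHom_DSmap S φ, isClosedImmersion_DSmap S φ hφ⟩

end Groth.Agent.Lib.Helper4.MuPrime
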