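import Mathlib.RingTheory.Nullstellensatz
import Mathlib.Algebra.MvPolynomial.Nilpotent
import Mathlib.Algebra.MvPolynomial.Funext
import Mathlib.RingTheory.Polynomial.UniqueFactorization
import Mathlib.LinearAlgebra.Matrix.MvPolynomial
import Mathlib.LinearAlgebra.Matrix.NonsingularInverse
import Mathlib.FieldTheory.IsAlgClosed.Basic
import Mathlib.Tactic
import Groth.Agent.Lib.Helper4.GenericDet

namespace Groth.Agent.Lib.Helper4.MulNorm
open MvPolynomial

theorem main (F : Type*) [Field F] [IsAlgClosed F] (n : ℕ)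
    (N : MvPolynomial (Fin n × Fin n) F) (hN : N ≠ 0)
    (hmul : ∀ x y : Matrix (Fin n) (Fin n) F,
      MvPolynomial.eval (fun ij : Fin n × Fin n => (x * y) ij.1 ij.2) N =
        MvPolynomial.eval (fun ij : Fin n × Fin n => x ij.1 ij.2) N *
        MvPolynomial.eval (fun ij : Fin n × Fin n => y ij.1 ij.2) N) :
    ∃ m : ℕ, ∀ x : Matrix (Fin n) (Fin n) F,
      MvPolynomial.eval (fun ij : Fin n × Fin n => x ij.1 ij.2) N = x.det ^ m := by
  classical
  haveI : Infinite F := IsAlgClosed.instInfinite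
  have hpt : ∀ a : Fin n × Fin n → F, ∃ x : Matrix (Fin n) (Fin n) F,
      (fun ij : Fin n × Fin n => x ij.1 ij.2) = a :=
    fun a => ⟨Matrix.of fun i j => a (i, j), by funext ij; rfl⟩
  -- Step 1
  have h1 : MvPolynomial.eval (fun ij : Fin n × Fin n => (1 : Matrix (Fin n) (Fin n) F) ij.1 ij.2) N = 1 := by
    have h := hmul 1 1
    rw [one_mul] at h
    by_contra hne
    have h0 : MvPolynomial.eval (fun ij : Fin n × Fin n => (1 : Matrix (Fin n) (Fin n) F) ij.1 ij.2) N = 0 := by
      by_contra h0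
      exact hne (mul_left_cancel₀ h0 (by rw [← h, mul_one]))
    apply hN
    apply MvPolynomial.funext
    intro a
    obtain ⟨x, rfl⟩ := hpt a
    have := hmul x 1
    rw [mul_one, h0, mul_zero] at this
    rw [this, map_zero]
  rcases Nat.eq_zero_or_pos n with rfl | hn
  · refine ⟨0, fun x => ?_⟩
    rw [pow_zero, Subsingleton.elim x 1, h1]
  -- Step 2
  have h2 : ∀ x : Matrix (Fin n) (Fin n) F, x.det ≠ 0 →
      MvPolynomial.eval (fun ij : Fin n × Fin n => x ij.1 ij.2) N ≠ 0 := by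
    intro x hx h0
    have := hmul x x⁻¹
    rw [Matrix.mul_nonsing_inv x (isUnit_iff_ne_zero.mpr hx), h1, h0, zero_mul] at this
    exact one_ne_zero this
  set Δ := (Matrix.mvPolynomialX (Fin n) (Fin n) F).det with hΔ
  have hΔev : ∀ x : Matrix (Fin n) (Fin n) F,
      MvPolynomial.eval (fun ij : Fin n × Fin n => x ij.1 ij.2) Δ = x.det := by
    intro x
    rw [hΔ, RingHom.map_det, Matrix.mvPolynomialX_mapMatrix_eval]
  have hirr : Irreducible Δ := Groth.Agent.Lib.Helper4.GenericDet.main F n hn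
  -- Step 3
  have h3 : Δ ∈ (Ideal.span {N}).radical := by
    rw [← MvPolynomial.vanishingIdeal_zeroLocus_eq_radical (K := F), mem_vanishingIdeal_iff]
    intro a ha
    obtain ⟨x, rfl⟩ := hpt a
    have hNa := ha N (Ideal.mem_span_singleton_self N)
    rw [MvPolynomial.aeval_eq_eval] at hNa ⊢
    rw [hΔev]
    by_contra hdet
    exact h2 x hdet hNa
  -- Step 4
  obtain ⟨j, hj⟩ := h3
  have hdvd : N ∣ Δ ^ j := Ideal.mem_span_singleton.mp hj
  have hprime : Prime Δ := hirr.prime
  obtain ⟨m, -, hassoc⟩ := (dvd_prime_pow hprime j).mp hdvd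
  obtain ⟨u, hu⟩ := hassoc
  obtain ⟨c, hc, hcu⟩ := (MvPolynomial.isUnit_iff_eq_C_of_isReduced).mp u.isUnit
  have hc1 : c = 1 := by
    have := congrArg (MvPolynomial.eval (fun ij : Fin n × Fin n => (1 : Matrix (Fin n) (Fin n) F) ij.1 ij.2)) hu
    rw [map_mul, h1, one_mul, hcu, eval_C, map_pow, hΔev, Matrix.det_one, one_pow] at this
    exact this
  refine ⟨m, fun x => ?_⟩
  have := congrArg (MvPolynomial.eval (fun ij : Fin n × Fin n => x ij.1 ij.2)) hu
  rw [map_mul, hcu, eval_C, hc1, mul_one, map_pow, hΔev] at this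
  exact this

end Groth.Agent.Lib.Helper4.MulNorm
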