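import Mathlib.Tactic
import Mathlib.AlgebraicGeometry.Sites.Fpqc
import Groth.Prelude.Def_CGrpSh
import Groth.Prelude.Def_W4c1extbt15Mult
import Groth.Agent.Lib.Helper4.CGrpEpi
import Groth.Agent.Lib.Helper4.KerAction

set_option autoImplicit false
universe u
open CategoryTheory MonoidalCategory CartesianMonoidalCategory MonObj AlgebraicGeometry Limits Opposite

namespace Groth.Agent.Lib.Helper4.MultLift

variable {S : Scheme.{u}}

theorem comp_tuple {M T T' : Over S} (v : T' ⟶ T) : ∀ {n : ℕ} (x : Fin n → (T ⟶ M)),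
    v ≫ MultSch.tuple x = MultSch.tuple (fun l => v ≫ x l)
  | 0, _ => toUnit_unique _ _
  | n + 1, x => by
    show v ≫ lift (x 0) (MultSch.tuple fun i => x i.succ) =
      lift (v ≫ x 0) (MultSch.tuple fun i => v ≫ x i.succ)
    rw [comp_lift, comp_tuple v (fun i => x i.succ)]

variable {M M'' : Over S} [GrpObj M] [IsCommMonObj M] [GrpObj M''] [IsCommMonObj M'']
  (π : M ⟶ M'') [IsMonHom π]

theorem covMor_of_epi (hπ : Epi (CGrpSh.ptsMap Scheme.fppfPrecoverage π)) :
    CovSieve.CovMor π.left :=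
  Scheme.fppfTopology_le_fpqcTopology _
    ((CGrpEpi.epi_ptsMap_iff_generate Scheme.fppfPrecoverage π).mp hπ)

theorem exists_lift_fin (hc : CovSieve.CovMor π.left) {T : Over S} :
    ∀ (r : ℕ) (x : Fin r → (T ⟶ M'')),
      ∃ (T' : Over S) (v : T' ⟶ T) (y : Fin r → (T' ⟶ M)), Epi v ∧ ∀ l, y l ≫ π = v ≫ x l
  | 0, _ => ⟨T, 𝟙 T, Fin.elim0, inferInstance, fun l => l.elim0⟩
  | r + 1, x => by
    obtain ⟨T₁, v₁, y₁, hv₁, hy₁⟩ := exists_lift_fin hc r (fun l => x l.succ)
    obtain ⟨T₂, v₂, g, hv₂, hg⟩ := KerAction.exists_local_lift π hc (v₁ ≫ x 0)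
    refine ⟨T₂, v₂ ≫ v₁, Fin.cons g (fun l => v₂ ≫ y₁ l), epi_comp _ _, ?_⟩
    intro l
    refine Fin.cases ?_ (fun l' => ?_) l
    · rw [Fin.cons_zero, hg, Category.assoc]
    · rw [Fin.cons_succ, Category.assoc, hy₁, Category.assoc]

theorem main13634 {H : Over S} [GrpObj H] [IsCommMonObj H]
    (hπ : Epi (CGrpSh.ptsMap Scheme.fppfPrecoverage π))
    {r : ℕ} (φ : MultSch.pow M'' r ⟶ H)
    (halt : ∀ (T : Over S) (x : Fin r → (T ⟶ M)) (i j : Fin r), i ≠ j → x i = x j →
      MultSch.tuple (fun l => x l ≫ π) ≫ φ = 1) :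
    MultSch.IsAlternating φ := by
  intro T x i j hij hx
  obtain ⟨T', v, y, hv, hy⟩ := exists_lift_fin π (covMor_of_epi π hπ) r x
  have hy' : ∀ l, Function.update y j (y i) l ≫ π = v ≫ x l := by
    intro l
    by_cases hl : l = j
    · subst hl
      rw [Function.update_self, hy, hx]
    · rw [Function.update_of_ne hl, hy]
  have h1 := halt T' (Function.update y j (y i)) i j hij (by
    rw [Function.update_self, Function.update_of_ne hij])
  have h2 : (fun l => Function.update y j (y i) l ≫ π) = fun l => v ≫ x l := funext hy'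
  rw [h2, ← comp_tuple, Category.assoc] at h1
  rw [← cancel_epi v, h1, MonObj.comp_one]

end Groth.Agent.Lib.Helper4.MultLift
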