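import Mathlib.Tactic
import Mathlib.AlgebraicGeometry.Sites.Fpqc
import Groth.Prelude.Def_CGrpSh
import Groth.Prelude.Def_W4c1extbt15Mult
import Groth.Agent.Lib.Helper4.MultLift
import Groth.Agent.Lib.Helper4.ExactLift
import Groth.Agent.Lib.Helper4.FpqcDesc

set_option autoImplicit false
universe w u
open CategoryTheory MonoidalCategory CartesianMonoidalCategory MonObj AlgebraicGeometry Limits Opposite

namespace Groth.Agent.Lib.Helper4.MultPow

section cat
variable {C : Type*} [Category C] [CartesianMonoidalCategory C] [BraidedCategory C]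

/-- the `n`-fold power of a morphism -/
def powMap {M M' : C} (π : M ⟶ M') : (n : ℕ) → (MultSch.pow M n ⟶ MultSch.pow M' n)
  | 0 => 𝟙 _
  | n + 1 => π ⊗ₘ powMap π n

theorem tuple_powMap {M M' T : C} (π : M ⟶ M') : ∀ {n : ℕ} (x : Fin n → (T ⟶ M)),
    MultSch.tuple x ≫ powMap π n = MultSch.tuple (fun l => x l ≫ π)
  | 0, _ => toUnit_unique _ _
  | n + 1, x => by
    show lift (x 0) (MultSch.tuple fun i => x i.succ) ≫ (π ⊗ₘ powMap π n) =
      lift (x 0 ≫ π) (MultSch.tuple fun i => x i.succ ≫ π)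
    rw [lift_map, tuple_powMap π (fun i => x i.succ)]

/-- the projections -/
def proj (M : C) : (n : ℕ) → Fin n → (MultSch.pow M n ⟶ M)
  | 0, i => i.elim0
  | n + 1, i => Fin.cases (fst _ _) (fun i' => snd _ _ ≫ proj M n i') i

theorem tuple_proj {M T : C} : ∀ {n : ℕ} (x : Fin n → (T ⟶ M)) (i : Fin n),
    MultSch.tuple x ≫ proj M n i = x i
  | 0, _, i => i.elim0
  | n + 1, x, i => by
    refine Fin.cases ?_ (fun i' => ?_) i
    · show lift (x 0) _ ≫ fst _ _ = x 0
      rw [lift_fst]
    · show lift (x 0) (MultSch.tuple fun i => x i.succ) ≫ snd _ _ ≫ proj M n i' = x i'.succ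
      rw [lift_snd_assoc, tuple_proj (fun i => x i.succ) i']

theorem eq_tuple {M T : C} : ∀ {n : ℕ} (u : T ⟶ MultSch.pow M n),
    u = MultSch.tuple (fun i => u ≫ proj M n i)
  | 0, u => toUnit_unique _ _
  | n + 1, u => by
    obtain ⟨u', hu'⟩ : ∃ u' : T ⟶ M ⊗ MultSch.pow M n, u' = u := ⟨u, rfl⟩
    have h0 : u ≫ proj M (n + 1) 0 = u' ≫ fst _ _ := by rw [hu']; rfl
    have hs : ∀ i : Fin n, u ≫ proj M (n + 1) i.succ = u' ≫ snd _ _ ≫ proj M n i := by
      intro i; rw [hu']; rfl
    show u = lift (u ≫ proj M (n + 1) 0) (MultSch.tuple fun i : Fin n => u ≫ proj M (n + 1) i.succ)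
    rw [h0]
    simp only [hs]
    have := eq_tuple (u' ≫ snd M (MultSch.pow M n))
    simp only [Category.assoc] at this
    rw [← this, ← hu']
    apply hom_ext <;> simp

theorem tuple_ext {M T : C} {n : ℕ} (x y : Fin n → (T ⟶ M)) (h : MultSch.tuple x = MultSch.tuple y) :
    x = y := by
  funext i
  rw [← tuple_proj x i, h, tuple_proj]


section grp
variable {M N : C} [GrpObj M] [GrpObj N] [IsCommMonObj N] {n : ℕ} (φ : MultSch.pow M n ⟶ N)
  (hm : MultSch.IsMultilinear φ) (ha : MultSch.IsAlternating φ)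

include hm ha in
theorem swap_mul {T : C} (x : Fin n → (T ⟶ M)) (i k : Fin n) (hik : i ≠ k) (a b : T ⟶ M) :
    (MultSch.tuple (Function.update (Function.update x i a) k b) ≫ φ) *
      (MultSch.tuple (Function.update (Function.update x i b) k a) ≫ φ) = 1 := by
  have alt : ∀ c : T ⟶ M, MultSch.tuple (Function.update (Function.update x i c) k c) ≫ φ = 1 := by
    intro c
    refine ha T _ i k hik ?_
    rw [Function.update_self, Function.update_of_ne hik, Function.update_self]
  have h1 := alt (a * b)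
  have h2 := hm T (Function.update x i (a * b)) k a b
  have h3 : ∀ c : T ⟶ M, MultSch.tuple (Function.update (Function.update x i (a * b)) k c) ≫ φ =
      (MultSch.tuple (Function.update (Function.update x i a) k c) ≫ φ) *
        (MultSch.tuple (Function.update (Function.update x i b) k c) ≫ φ) := by
    intro c
    rw [Function.update_comm hik, Function.update_comm hik, Function.update_comm hik]
    exact hm T (Function.update x k c) i a b
  rw [h1, h3, h3, alt a, alt b, _root_.one_mul, _root_.mul_one] at h2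
  rw [_root_.mul_comm]
  exact h2.symm

end grp

end cat


section sch
variable {S : Scheme.{u}} {R : Type w} [CommRing R] {M₁ M₂ M₃ N : Over S}
    [GrpObj M₁] [IsCommMonObj M₁] [GrpObj M₂] [IsCommMonObj M₂] [GrpObj M₃] [IsCommMonObj M₃]
    [GrpObj N] [IsCommMonObj N]
    (j : M₁ ⟶ M₂) (π : M₂ ⟶ M₃) [IsMonHom j] [IsMonHom π]
    (w : j ≫ π = 1) (hex : (CGrpSh.seq Scheme.fppfPrecoverage j π w).Exact)
    {n : ℕ} (hn : 1 ≤ n) (φ : MultSch.pow M₂ n ⟶ N)
    (hmult : MultSch.IsMultilinear φ) (halt : MultSch.IsAlternating φ)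
    (hvan : ∀ (T : Over S) (y : T ⟶ M₁) (x : Fin n → (T ⟶ M₂)), x ⟨0, hn⟩ = y ≫ j →
      MultSch.tuple x ≫ φ = 1)

include hmult halt hvan in
theorem van_any {T : Over S} (y : T ⟶ M₁) (x : Fin n → (T ⟶ M₂)) (i : Fin n) (hi : x i = y ≫ j) :
    MultSch.tuple x ≫ φ = 1 := by
  by_cases h0 : i = ⟨0, hn⟩
  · subst h0
    exact hvan T y x hi
  · have h0' : (⟨0, hn⟩ : Fin n) ≠ i := fun h => h0 h.symm
    have h1 := swap_mul φ hmult halt x ⟨0, hn⟩ i h0' (x ⟨0, hn⟩) (x i)
    rw [Function.update_eq_self, Function.update_eq_self] at h1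
    have h2 : MultSch.tuple (Function.update (Function.update x ⟨0, hn⟩ (x i)) i (x ⟨0, hn⟩)) ≫ φ = 1 := by
      refine hvan T y _ ?_
      rw [Function.update_of_ne h0', Function.update_self, hi]
    rw [h2, _root_.mul_one] at h1
    exact h1

theorem comp_update {T T' : Over S} (v : T' ⟶ T) (x : Fin n → (T ⟶ M₂)) (i : Fin n) (a : T ⟶ M₂) :
    (fun l => v ≫ Function.update x i a l) = Function.update (fun l => v ≫ x l) i (v ≫ a) := by
  funext l
  by_cases hl : l = i
  · subst hl; rw [Function.update_self, Function.update_self]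
  · rw [Function.update_of_ne hl, Function.update_of_ne hl]

include hex hmult halt hvan in
theorem change_one {T : Over S} (x : Fin n → (T ⟶ M₂)) (i : Fin n) (a : T ⟶ M₂)
    (hia : x i ≫ π = a ≫ π) :
    MultSch.tuple x ≫ φ = MultSch.tuple (Function.update x i a) ≫ φ := by
  have hd : (x i * a⁻¹) ≫ π = 1 := by
    rw [MonObj.mul_comp, GrpObj.inv_comp, hia, mul_inv_cancel]
  obtain ⟨Rs, hRs, hl⟩ := ExactLift.exists_sieve_lift Scheme.fppfPrecoverage j π w hex (x i * a⁻¹) hd
  refine ExactLift.ext_of_mem Scheme.fppfPrecoverage Rs hRs _ _ ?_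
  intro T' v hv
  obtain ⟨y', hy'⟩ := hl v hv
  have h1 : v ≫ x i = (y' ≫ j) * (v ≫ a) := by
    rw [hy', MonObj.comp_mul, GrpObj.comp_inv, inv_mul_cancel_right]
  rw [← Category.assoc, ← Category.assoc, MultLift.comp_tuple, MultLift.comp_tuple, comp_update]
  have h2 : (fun l => v ≫ x l) = Function.update (fun l => v ≫ x l) i ((y' ≫ j) * (v ≫ a)) := by
    rw [← h1, Function.update_eq_self]
  rw [h2, hmult, Function.update_idem]
  rw [van_any j hn φ hmult halt hvan y' _ i (Function.update_self ..), _root_.one_mul]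

include hex hmult halt hvan in
theorem change_all {T : Over S} (s : Finset (Fin n)) : ∀ (x y : Fin n → (T ⟶ M₂)),
    (∀ l, l ∉ s → x l = y l) → (∀ l, x l ≫ π = y l ≫ π) →
    MultSch.tuple x ≫ φ = MultSch.tuple y ≫ φ := by
  induction s using Finset.induction_on with
  | empty =>
    intro x y h _
    have : x = y := funext fun l => h l (Finset.notMem_empty l)
    rw [this]
  | insert a s has ih =>
    intro x y h hπ
    rw [change_one j π w hex hn φ hmult halt hvan x a (y a) (hπ a)]
    refine ih _ _ ?_ ?_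
    · intro l hl
      by_cases hla : l = a
      · subst hla; rw [Function.update_self]
      · rw [Function.update_of_ne hla]
        exact h l (by rw [Finset.mem_insert]; tauto)
    · intro l
      by_cases hla : l = a
      · subst hla; rw [Function.update_self]
      · rw [Function.update_of_ne hla]; exact hπ l


theorem covMor_powMap (hc : CovSieve.CovMor π.left) : ∀ n : ℕ, CovSieve.CovMor (powMap π n).left
  | 0 => by
    have : IsIso (powMap π 0).left := by
      show IsIso (𝟙 (MultSch.pow M₂ 0) : _ ⟶ _).left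
      rw [Over.id_left]; infer_instance
    exact CovSieve.covMor_of_isIso _
  | n + 1 => CovSieve.covMor_tensorHom π (powMap π n) hc (covMor_powMap hc n)

theorem update_comp_eq {T T' : Over S} (v : T' ⟶ T) (x : Fin n → (T ⟶ M₃)) (i : Fin n) (a : T ⟶ M₃)
    (x' : Fin n → (T' ⟶ M₂)) (a' : T' ⟶ M₂) (hx : ∀ l, x' l ≫ π = v ≫ x l) (ha : a' ≫ π = v ≫ a) :
    (fun l => Function.update x' i a' l ≫ π) = fun l => v ≫ Function.update x i a l := by
  funext l
  by_cases hl : l = i
  · subst hl; rw [Function.update_self, Function.update_self, ha]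
  · rw [Function.update_of_ne hl, Function.update_of_ne hl, hx]

include hex hmult halt hvan in
theorem main13635
    (ρ₂ : MultSch.RMod R M₂) (ρ₃ : MultSch.RMod R M₃) (ρN : MultSch.RMod R N)
    (hπ : ∀ a : R, π ≫ ρ₃.act a = ρ₂.act a ≫ π)
    (hepi : Epi (CGrpSh.ptsMap Scheme.fppfPrecoverage π))
    (hlin : MultSch.IsRLinear ρ₂ ρN φ) :
    ∃ φ' : MultSch.pow M₃ n ⟶ N,
      (∀ (T : Over S) (x : Fin n → (T ⟶ M₂)), MultSch.tuple x ≫ φ = MultSch.tuple (fun l => x l ≫ π) ≫ φ') ∧
      MultSch.IsMultilinear φ' ∧ MultSch.IsRLinear ρ₃ ρN φ' ∧ MultSch.IsAlternating φ' ∧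
      ∀ φ'' : MultSch.pow M₃ n ⟶ N,
        (∀ (T : Over S) (x : Fin n → (T ⟶ M₂)), MultSch.tuple x ≫ φ = MultSch.tuple (fun l => x l ≫ π) ≫ φ'') →
          φ'' = φ' := by
  have hc := MultLift.covMor_of_epi π hepi
  have hcq : CovSieve.CovMor (powMap π n).left := covMor_powMap π hc n
  have hee : EffectiveEpi (powMap π n).left := hcq.effectiveEpi
  have hepiq : Epi (powMap π n) := Over.epi_of_epi_left _
  obtain ⟨φ', hφ'⟩ := FpqcDesc.exists_desc (powMap π n) φ (by
    intro W u v huv
    rw [eq_tuple u, eq_tuple v]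
    refine change_all j π w hex hn φ hmult halt hvan Finset.univ _ _
      (fun l hl => absurd (Finset.mem_univ l) hl) ?_
    intro l
    have h1 := congrArg (fun t => t ≫ proj M₃ n l) huv
    rw [eq_tuple u, eq_tuple v] at h1
    simp only [Category.assoc] at h1
    rw [← Category.assoc, ← Category.assoc, tuple_powMap, tuple_powMap, tuple_proj, tuple_proj] at h1
    exact h1)
  have key : ∀ {T : Over S} (x : Fin n → (T ⟶ M₂)),
      MultSch.tuple (fun l => x l ≫ π) ≫ φ' = MultSch.tuple x ≫ φ := by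
    intro T x
    rw [← tuple_powMap, Category.assoc, hφ']
  refine ⟨φ', fun T x => (key x).symm, ?_, ?_, ?_, ?_⟩
  · intro T x i y z
    obtain ⟨T₁, v₁, x₁, hv₁, hx₁⟩ := MultLift.exists_lift_fin π hc n x
    obtain ⟨T₂, v₂, y₂, hv₂, hy₂⟩ := KerAction.exists_local_lift π hc (v₁ ≫ y)
    obtain ⟨T₃, v₃, z₃, hv₃, hz₃⟩ := KerAction.exists_local_lift π hc (v₂ ≫ v₁ ≫ z)
    have : Epi (v₃ ≫ v₂ ≫ v₁) := by
      have := epi_comp v₂ v₁
      exact epi_comp _ _
    set v := v₃ ≫ v₂ ≫ v₁ with hv
    let x' : Fin n → (T₃ ⟶ M₂) := fun l => v₃ ≫ v₂ ≫ x₁ l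
    have hx' : ∀ l, x' l ≫ π = v ≫ x l := by
      intro l; simp only [x', Category.assoc, hx₁, hv]
    have hy' : (v₃ ≫ y₂) ≫ π = v ≫ y := by simp only [Category.assoc, hy₂, hv]
    have hz' : z₃ ≫ π = v ≫ z := by simp only [Category.assoc, hz₃, hv]
    have hyz' : ((v₃ ≫ y₂) * z₃) ≫ π = v ≫ (y * z) := by
      rw [MonObj.mul_comp, hy', hz', MonObj.comp_mul]
    rw [← cancel_epi v, MonObj.comp_mul, ← Category.assoc, ← Category.assoc, ← Category.assoc,
      MultLift.comp_tuple, MultLift.comp_tuple, MultLift.comp_tuple,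
      ← update_comp_eq π v x i _ x' _ hx' hyz', ← update_comp_eq π v x i _ x' _ hx' hy',
      ← update_comp_eq π v x i _ x' _ hx' hz', key, key, key]
    exact hmult T₃ x' i _ _
  · intro T x i a
    obtain ⟨T₁, v₁, x₁, hv₁, hx₁⟩ := MultLift.exists_lift_fin π hc n x
    have ha' : (x₁ i ≫ ρ₂.act a) ≫ π = v₁ ≫ (x i ≫ ρ₃.act a) := by
      rw [Category.assoc, ← hπ, ← Category.assoc, hx₁, Category.assoc]
    rw [← cancel_epi v₁, ← Category.assoc, ← Category.assoc, ← Category.assoc,
      MultLift.comp_tuple, MultLift.comp_tuple,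
      ← update_comp_eq π v₁ x i _ x₁ _ hx₁ ha', key]
    have h2 : (fun l => v₁ ≫ x l) = fun l => x₁ l ≫ π := funext fun l => (hx₁ l).symm
    rw [h2, key]
    exact hlin T₁ x₁ i a
  · refine MultLift.main13634 π hepi φ' ?_
    intro T x i k hik hx
    rw [key]
    exact halt T x i k hik hx
  · intro φ'' hφ''
    rw [← cancel_epi (powMap π n), hφ']
    have h1 := hφ'' _ (proj M₂ n)
    have h2 : MultSch.tuple (proj M₂ n) = 𝟙 _ := by
      have := eq_tuple (𝟙 (MultSch.pow M₂ n))
      simp only [Category.id_comp] at this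
      exact this.symm
    rw [h2, Category.id_comp, ← tuple_powMap, h2, Category.id_comp] at h1
    exact h1.symm

end sch

end Groth.Agent.Lib.Helper4.MultPow
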