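import Mathlib.Tactic
import Mathlib.AlgebraicGeometry.Sites.Fpqc
import Groth.Prelude.Def_CGrpSh
import Groth.Prelude.Def_W4c1extbt15Mult
import Groth.Agent.Lib.Helper4.MultLift
import Groth.Agent.Lib.Helper4.ExactLift
import Groth.Agent.Lib.Helper4.FpqcDesc

set_option autoImplicit false
universe w u
open CategoryTheory MonoidalCategory CartesianMonoidalCategory MonObj AlgebraicGeometry Limits Opposite

namespace Groth.Agent.Lib.Helper4.MultQuot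

variable {S : Scheme.{u}} {R : Type w} [CommRing R] {P Q M' M M'' N : Over S}
    [GrpObj M'] [IsCommMonObj M'] [GrpObj M] [IsCommMonObj M] [GrpObj M''] [IsCommMonObj M'']
    [GrpObj N] [IsCommMonObj N]

theorem lift3_comp {T : Over S} (p : T ⟶ P) (q : T ⟶ Q) (y : T ⟶ M) (π : M ⟶ M'') :
    lift p (lift y q) ≫ (P ◁ (π ▷ Q)) = lift p (lift (y ≫ π) q) := by
  rw [lift_whiskerLeft, lift_whiskerRight]

theorem comp_lift3 {T T' : Over S} (v : T' ⟶ T) (p : T ⟶ P) (q : T ⟶ Q) (y : T ⟶ M) :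
    v ≫ lift p (lift y q) = lift (v ≫ p) (lift (v ≫ y) (v ≫ q)) := by
  rw [comp_lift, comp_lift]

theorem eq_lift3 {T : Over S} (u : T ⟶ P ⊗ (M ⊗ Q)) :
    u = lift (u ≫ fst _ _) (lift (u ≫ snd _ _ ≫ fst _ _) (u ≫ snd _ _ ≫ snd _ _)) := by
  apply hom_ext
  · simp
  · apply hom_ext <;> simp

variable (j : M' ⟶ M) (π : M ⟶ M'') [IsMonHom j] [IsMonHom π]
    (w : j ≫ π = 1) (hex : (CGrpSh.seq Scheme.fppfPrecoverage j π w).Exact)
    (ψ : P ⊗ (M ⊗ Q) ⟶ N)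
    (hadd : ∀ (T : Over S) (p : T ⟶ P) (q : T ⟶ Q) (y z : T ⟶ M),
      lift p (lift (y * z) q) ≫ ψ = (lift p (lift y q) ≫ ψ) * (lift p (lift z q) ≫ ψ))
    (hvan : ∀ (T : Over S) (p : T ⟶ P) (q : T ⟶ Q) (y' : T ⟶ M'), lift p (lift (y' ≫ j) q) ≫ ψ = 1)

include hex hadd hvan in
theorem coeq {T : Over S} (p : T ⟶ P) (q : T ⟶ Q) (y z : T ⟶ M) (hyz : y ≫ π = z ≫ π) :
    lift p (lift y q) ≫ ψ = lift p (lift z q) ≫ ψ := by
  have hd : (y * z⁻¹) ≫ π = 1 := by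
    rw [MonObj.mul_comp, GrpObj.inv_comp, hyz, mul_inv_cancel]
  obtain ⟨Rs, hRs, hl⟩ := ExactLift.exists_sieve_lift Scheme.fppfPrecoverage j π w hex (y * z⁻¹) hd
  refine ExactLift.ext_of_mem Scheme.fppfPrecoverage Rs hRs _ _ ?_
  intro T' v hv
  obtain ⟨y', hy'⟩ := hl v hv
  have h1 : v ≫ y = (y' ≫ j) * (v ≫ z) := by
    rw [hy', MonObj.comp_mul, GrpObj.comp_inv, inv_mul_cancel_right]
  rw [← Category.assoc, ← Category.assoc, comp_lift3, comp_lift3, h1, hadd, hvan, _root_.one_mul]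


theorem covMor_q (hc : CovSieve.CovMor π.left) : CovSieve.CovMor (P ◁ (π ▷ Q)).left := by
  rw [← id_tensorHom]
  have : IsIso (𝟙 P : P ⟶ P).left := by rw [Over.id_left]; infer_instance
  exact CovSieve.covMor_tensorHom (𝟙 P) (π ▷ Q) (CovSieve.covMor_of_isIso _)
    (CovSieve.covMor_whiskerRight π Q hc)

include hex hadd hvan in
theorem main13636
    (ρ : MultSch.RMod R M) (ρ'' : MultSch.RMod R M'') (ρN : MultSch.RMod R N)
    (hπ : ∀ a : R, π ≫ ρ''.act a = ρ.act a ≫ π)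
    (hepi : Epi (CGrpSh.ptsMap Scheme.fppfPrecoverage π))
    (hlin : ∀ (T : Over S) (p : T ⟶ P) (q : T ⟶ Q) (y : T ⟶ M) (a : R),
      lift p (lift (y ≫ ρ.act a) q) ≫ ψ = (lift p (lift y q) ≫ ψ) ≫ ρN.act a) :
    ∃ ψ' : P ⊗ (M'' ⊗ Q) ⟶ N,
      (P ◁ (π ▷ Q)) ≫ ψ' = ψ ∧
      (∀ (T : Over S) (p : T ⟶ P) (q : T ⟶ Q) (y z : T ⟶ M''),
        lift p (lift (y * z) q) ≫ ψ' = (lift p (lift y q) ≫ ψ') * (lift p (lift z q) ≫ ψ')) ∧
      (∀ (T : Over S) (p : T ⟶ P) (q : T ⟶ Q) (y : T ⟶ M'') (a : R),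
        lift p (lift (y ≫ ρ''.act a) q) ≫ ψ' = (lift p (lift y q) ≫ ψ') ≫ ρN.act a) ∧
      ∀ ψ'' : P ⊗ (M'' ⊗ Q) ⟶ N, (P ◁ (π ▷ Q)) ≫ ψ'' = ψ → ψ'' = ψ' := by
  have hc := MultLift.covMor_of_epi π hepi
  have hcq : CovSieve.CovMor (P ◁ (π ▷ Q)).left := covMor_q (P := P) (Q := Q) π hc
  have hee : EffectiveEpi (P ◁ (π ▷ Q)).left := hcq.effectiveEpi
  have hepiq : Epi (P ◁ (π ▷ Q)) := Over.epi_of_epi_left _
  obtain ⟨ψ', hψ'⟩ := FpqcDesc.exists_desc (P ◁ (π ▷ Q)) ψ (by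
    intro W u v huv
    rw [eq_lift3 u, eq_lift3 v]
    have h1 := congrArg (fun t => t ≫ fst _ _) huv
    have h2 := congrArg (fun t => t ≫ snd _ _ ≫ fst _ _) huv
    have h3 := congrArg (fun t => t ≫ snd _ _ ≫ snd _ _) huv
    simp only [Category.assoc, whiskerLeft_fst, whiskerLeft_snd_assoc, whiskerRight_fst,
      whiskerRight_snd] at h1 h2 h3
    rw [h1, h3]
    refine coeq j π w hex ψ hadd hvan _ _ _ _ ?_
    simpa only [Category.assoc] using h2)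
  have key : ∀ {T : Over S} (p : T ⟶ P) (q : T ⟶ Q) (y : T ⟶ M),
      lift p (lift (y ≫ π) q) ≫ ψ' = lift p (lift y q) ≫ ψ := by
    intro T p q y
    rw [← lift3_comp, Category.assoc, hψ']
  refine ⟨ψ', hψ', ?_, ?_, ?_⟩
  · intro T p q y z
    obtain ⟨T₁, v₁, y₁, hv₁, hy₁⟩ := KerAction.exists_local_lift π hc y
    obtain ⟨T₂, v₂, z₁, hv₂, hz₁⟩ := KerAction.exists_local_lift π hc (v₁ ≫ z)
    have : Epi (v₂ ≫ v₁) := epi_comp _ _
    rw [← cancel_epi (v₂ ≫ v₁), MonObj.comp_mul, ← Category.assoc, ← Category.assoc,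
      ← Category.assoc, comp_lift3, comp_lift3, comp_lift3, MonObj.comp_mul]
    have e1 : (v₂ ≫ v₁) ≫ y = (v₂ ≫ y₁) ≫ π := by rw [Category.assoc, Category.assoc, hy₁]
    have e2 : (v₂ ≫ v₁) ≫ z = z₁ ≫ π := by rw [Category.assoc, hz₁]
    rw [e1, e2, ← MonObj.mul_comp, key, key, key, hadd]
  · intro T p q y a
    obtain ⟨T₁, v₁, y₁, hv₁, hy₁⟩ := KerAction.exists_local_lift π hc y
    rw [← cancel_epi v₁, ← Category.assoc, ← Category.assoc, ← Category.assoc, comp_lift3,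
      comp_lift3, ← Category.assoc, ← hy₁, Category.assoc, hπ, ← Category.assoc, key, key, hlin]
  · intro ψ'' hψ''
    rw [← cancel_epi (P ◁ (π ▷ Q)), hψ', hψ'']

end Groth.Agent.Lib.Helper4.MultQuot
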