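import Groth.Agent.Lib.Helper4.Snapper14
set_option backward.isDefEq.respectTransparency.types false
set_option autoImplicit false
set_option linter.style.haveILetI false
set_option linter.unusedSectionVars false

universe u
open CategoryTheory CategoryTheory.Limits AlgebraicGeometry Opposite TopologicalSpace

namespace Groth.Agent.Lib.Helper4.NM1
open Groth.Agent.Lib.Helper6.K0Filt Groth.Agent.Lib.Helper6.K0Len Groth.Agent.Lib.Helper6.K0Op
  Groth.Agent.Lib.Helper6.K0Tensor Groth.Agent.Lib.Helper4.NumPoly Groth.Agent.Lib.Helper4.Snapper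

variable (k : Type u) [Field k] (X : Scheme.{u}) [X.Over (Spec (CommRingCat.of k))]
    [IsProper (X ↘ (Spec (CommRingCat.of k)))]

/-- the Nakai–Moishezon positivity condition, in terms of Hilbert coefficients -/
def Pos (L : X.Modules) : Prop :=
  ∀ (Z : X.IdealSheafData) [IsIntegral Z.subscheme] (d : ℕ), 0 < d →
    topologicalKrullDim (Z.support : Set X) = d → 0 < hcoef k X L d (cls (ClSub.quotMod Z))

variable {X}

theorem coeff_eq_hcoef (L : X.Modules) (hL : PicF.IsInvertible L) (Z : X.IdealSheafData) (d : ℕ)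
    (hZ : topologicalKrullDim (Z.support : Set X) = d) (P : MvPolynomial (Fin d) ℚ)
    (hP : ∀ n : Fin d → ℕ, (Curv2.euler k X (Curv2.tensorPows (ClSub.quotMod Z) d (fun _ => L) n) : ℚ) =
      MvPolynomial.eval (fun i => (n i : ℚ)) P) :
    MvPolynomial.coeff (Finsupp.equivFunOnFinite.symm fun _ : Fin d => 1) P =
      ((hcoef k X L d (cls (ClSub.quotMod Z)) : ℤ) : ℚ) := by
  have hsupp : topologicalKrullDim (CohB1.support (ClSub.quotMod Z)) ≤ (d : WithBot ℕ∞) := by
    rw [Groth.Agent.Lib.Helper6.DevRed.support_quotMod]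
    exact hZ.le
  rw [coeff_one_eq_inter k _ (Groth.Agent.Lib.Helper6.DevRed.isCoh_quotMod Z) d hsupp _ (fun _ => hL) P hP,
    inter_const k d L hL]

/-- the statement's condition is the positivity condition -/
theorem pos_iff (L : X.Modules) (hL : PicF.IsInvertible L) :
    (∀ (Z : X.IdealSheafData) [IsIntegral Z.subscheme] (d : ℕ), 0 < d →
        topologicalKrullDim (Z.support : Set X) = d →
        ∀ P : MvPolynomial (Fin d) ℚ,
          (∀ n : Fin d → ℕ, (Curv2.euler k X (Curv2.tensorPows (ClSub.quotMod Z) d (fun _ => L) n) : ℚ) =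
            MvPolynomial.eval (fun i => (n i : ℚ)) P) →
          0 < MvPolynomial.coeff (Finsupp.equivFunOnFinite.symm fun _ : Fin d => 1) P) ↔ Pos k X L := by
  constructor
  · intro h Z _ d hd hZ
    have hsupp : topologicalKrullDim (CohB1.support (ClSub.quotMod Z)) ≤ (d : WithBot ℕ∞) := by
      rw [Groth.Agent.Lib.Helper6.DevRed.support_quotMod]
      exact hZ.le
    obtain ⟨P, -, hP⟩ := exists_mvPolynomial
      (snapper k X _ (Groth.Agent.Lib.Helper6.DevRed.isCoh_quotMod Z) d hsupp d (fun _ => L) (fun _ => hL))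
    have h1 := h Z d hd hZ P hP
    rw [coeff_eq_hcoef k L hL Z d hZ P hP] at h1
    exact_mod_cast h1
  · intro h Z _ d hd hZ P hP
    rw [coeff_eq_hcoef k L hL Z d hZ P hP]
    exact_mod_cast h Z d hd hZ

/-- an ample module satisfies the positivity condition -/
theorem pos_of_isAmple (L : X.Modules) (hL : CohB1.IsAmple L) : Pos k X L := by
  intro Z _ d hd hZ
  apply hcoef_pos k L hL d _ (Groth.Agent.Lib.Helper6.DevRed.isCoh_quotMod Z)
  rw [Groth.Agent.Lib.Helper6.DevRed.support_quotMod]
  exact hZ

end Groth.Agent.Lib.Helper4.NM1
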