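import Groth.Agent.Lib.Helper4.NM1
import Groth.Agent.Lib.Helper4.VanClass
import Groth.Agent.Lib.Helper6.DevStep
set_option backward.isDefEq.respectTransparency.types false
set_option autoImplicit false
set_option linter.style.haveILetI false
set_option linter.unusedSectionVars false

universe u
open CategoryTheory CategoryTheory.Limits AlgebraicGeometry Opposite TopologicalSpace

namespace Groth.Agent.Lib.Helper4.NM2
open Groth.Agent.Lib.Helper8.EulerK Groth.Agent.Lib.Helper4.VanClass Groth.Agent.Lib.Helper28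
  Groth.Agent.Lib.Helper28.GenLocus Groth.Agent.Lib.Helper2.HLesLin Groth.Agent.Lib.Helper4.HLesFin1
  Groth.Agent.Lib.Helper6.DevStep Groth.Agent.Lib.Helper6.DevCore

/-- Pascal step for binomial sums -/
theorem binom_sum_succ (d : ℕ) (a : ℕ → ℤ) (n : ℕ) :
    ∑ m ∈ Finset.range (d + 2), ((n + 1).choose m : ℤ) * a m =
      ∑ m ∈ Finset.range (d + 2), (n.choose m : ℤ) * a m +
        ∑ m ∈ Finset.range (d + 1), (n.choose m : ℤ) * a (m + 1) := by
  rw [Finset.sum_range_succ' (fun m => ((n + 1).choose m : ℤ) * a m) (d + 1),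
    Finset.sum_range_succ' (fun m => (n.choose m : ℤ) * a m) (d + 1)]
  simp only [Nat.choose_zero_right, Nat.cast_one, one_mul]
  have h : ∀ m, ((n + 1).choose (m + 1) : ℤ) * a (m + 1) =
      (n.choose m : ℤ) * a (m + 1) + (n.choose (m + 1) : ℤ) * a (m + 1) := by
    intro m
    rw [Nat.choose_succ_succ]
    push_cast
    ring
  simp only [h, Finset.sum_add_distrib]
  ring

/-- a numerical polynomial with positive leading coefficient of positive degree tends to infinity -/
theorem growth : ∀ (d : ℕ) (a : ℕ → ℤ), 0 < a (d + 1) → ∀ B : ℤ, ∃ n₀ : ℕ, ∀ n : ℕ, n₀ ≤ n →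
    B ≤ ∑ m ∈ Finset.range (d + 2), (n.choose m : ℤ) * a m := by
  intro d
  induction d with
  | zero =>
    intro a ha B
    refine ⟨(B - a 0).toNat, fun n hn => ?_⟩
    simp only [zero_add, Finset.sum_range_succ, Finset.range_one, Finset.sum_singleton,
      Nat.choose_zero_right, Nat.cast_one, one_mul, Nat.choose_one_right]
    have h1 : B - a 0 ≤ (n : ℤ) := by
      have := Int.self_le_toNat (B - a 0)
      have h2 : ((B - a 0).toNat : ℤ) ≤ n := by exact_mod_cast hn
      linarith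
    have h3 : (n : ℤ) ≤ n * a 1 := by
      have : (0 : ℤ) ≤ n := by positivity
      nlinarith
    linarith
  | succ d ih =>
    intro a ha B
    obtain ⟨n₁, hn₁⟩ := ih (fun m => a (m + 1)) ha 1
    set f : ℕ → ℤ := fun n => ∑ m ∈ Finset.range (d + 1 + 2), (n.choose m : ℤ) * a m with hf
    have hstep : ∀ j : ℕ, f n₁ + j ≤ f (n₁ + j) := by
      intro j
      induction j with
      | zero => simp
      | succ j ihj =>
        have h1 : f (n₁ + (j + 1)) = f (n₁ + j) +
            ∑ m ∈ Finset.range (d + 2), ((n₁ + j).choose m : ℤ) * a (m + 1) := by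
          rw [← Nat.add_assoc]
          exact binom_sum_succ (d + 1) a (n₁ + j)
        have h2 := hn₁ (n₁ + j) (Nat.le_add_right _ _)
        rw [h1]
        push_cast
        linarith
    refine ⟨n₁ + (B - f n₁).toNat, fun n hn => ?_⟩
    obtain ⟨j, rfl⟩ := Nat.exists_eq_add_of_le (show n₁ ≤ n by omega)
    have hj : (B - f n₁).toNat ≤ j := by omega
    have h1 := hstep j
    have h2 : B - f n₁ ≤ (j : ℤ) := by
      have := Int.self_le_toNat (B - f n₁)
      have h2 : ((B - f n₁).toNat : ℤ) ≤ j := by exact_mod_cast hj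
      linarith
    show B ≤ f (n₁ + j)
    linarith

/-- an antitone sequence of natural numbers is eventually constant -/
theorem antitone_eventually_const (c : ℕ → ℕ) (hc : ∀ t, c (t + 1) ≤ c t) :
    ∃ t₀, ∀ t, t₀ ≤ t → c t = c t₀ := by
  have key : ∀ v : ℕ, ∀ t₁ : ℕ, c t₁ = v → ∃ t₀, ∀ t, t₀ ≤ t → c t = c t₀ := by
    intro v
    induction v using Nat.strong_induction_on with
    | _ v ih =>
      intro t₁ ht₁
      by_cases h : ∀ t, t₁ ≤ t → c t = c t₁
      · exact ⟨t₁, h⟩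
      · push Not at h
        obtain ⟨t, ht, hne⟩ := h
        have hle : ∀ j, c (t₁ + j) ≤ c t₁ := by
          intro j
          induction j with
          | zero => exact le_rfl
          | succ j ihj => exact (hc _).trans ihj
        obtain ⟨j, rfl⟩ := Nat.exists_eq_add_of_le ht
        have hlt : c (t₁ + j) < v := by
          have := hle j
          omega
        exact ih _ hlt (t₁ + j) rfl
  exact key _ 0 rfl


variable (k : Type u) [Field k] {X : Scheme.{u}} [X.Over (Spec (CommRingCat.of k))]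
    [IsProper (X ↘ (Spec (CommRingCat.of k)))]

/-- the twist functor `L^n ⊗ -` -/
noncomputable abbrev Tw (L : X.Modules) (n : ℕ) : X.Modules ⥤ X.Modules :=
  DCoh.tensorBi.obj (CohB1.tensorPow L n)

omit [IsProper (X ↘ (Spec (CommRingCat.of k)))] in
theorem isCoh_tw {L : X.Modules} (hL : PicF.IsInvertible L) (n : ℕ) (F : X.Modules) (hF : Coh.IsCoh F) :
    Coh.IsCoh ((Tw L n).obj F) :=
  Groth.Agent.Lib.Helper6.K0Op.isCoh_tensorMod _ _
    (Groth.Agent.Lib.Helper6.K0Op.isCoh_of_isInvertible _ (isInvertible_tensorPow hL n)) hF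

omit [IsProper (X ↘ (Spec (CommRingCat.of k)))] in
theorem shortExact_tw {L : X.Modules} (hL : PicF.IsInvertible L) (n : ℕ) (S : ShortComplex X.Modules)
    (hS : S.ShortExact) : (S.map (Tw L n)).ShortExact :=
  Groth.Agent.Lib.Helper6.K0Op.shortExact_tensor_of_flat _
    (Groth.Agent.Lib.Helper6.K0Op.isFlat_of_isInvertible _ (isInvertible_tensorPow hL n)) S hS

omit [IsProper (X ↘ (Spec (CommRingCat.of k)))] in
theorem hh_eq_zero_of_van {L : X.Modules} (F : X.Modules) (h : Van L F) :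
    ∃ n₀ : ℕ, ∀ n : ℕ, n₀ ≤ n → ∀ p : ℕ, 0 < p → hh k ((Tw L n).obj F) p = 0 := by
  obtain ⟨n₀, hn₀⟩ := h
  refine ⟨n₀, fun n hn p hp => ?_⟩
  have h1 := hn₀ n hn p hp
  have e : (Tw L n).obj F ≅ CohB1.tensorMod F (CohB1.tensorPow L n) :=
    Groth.Agent.Lib.Helper6.K0Inv.braidIso _ _
  haveI := subsingleton_HH_of_iso e.symm p h1
  exact Module.finrank_zero_of_subsingleton

section LES
variable (S : ShortComplex X.Modules) (hS : S.ShortExact)
  (h₁ : Coh.IsCoh S.X₁) (h₂ : Coh.IsCoh S.X₂) (h₃ : Coh.IsCoh S.X₃)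

include hS h₁ h₂ h₃ in
theorem hh_eq_of_van₃ (hv : ∀ p : ℕ, 0 < p → hh k S.X₃ p = 0) :
    (∀ p : ℕ, 0 < p → hh k S.X₁ (p + 1) = hh k S.X₂ (p + 1)) ∧ hh k S.X₂ 1 ≤ hh k S.X₁ 1 := by
  constructor
  · intro p hp
    have a := hh₁_succ_le k S hS h₁ h₂ h₃ p
    have b := hh₂_le k S hS h₁ h₂ h₃ (p + 1)
    rw [hv p hp] at a
    rw [hv (p + 1) (by omega)] at b
    omega
  · have b := hh₂_le k S hS h₁ h₂ h₃ 1
    rw [hv 1 one_pos] at b
    omega

include hS h₁ h₂ h₃ in
theorem hh_eq_of_van₁ (hv : ∀ p : ℕ, 0 < p → hh k S.X₁ p = 0) :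
    ∀ p : ℕ, 0 < p → hh k S.X₂ p = hh k S.X₃ p := by
  intro p hp
  have a := hh₂_le k S hS h₁ h₂ h₃ p
  have b := hh₃_le k S hS h₁ h₂ h₃ p
  rw [hv p hp] at a
  rw [hv (p + 1) (by omega)] at b
  omega

include hS h₁ h₂ h₃ in
theorem surjective_of_hh_le (hv : hh k S.X₃ 1 = 0) (hle : hh k S.X₁ 1 ≤ hh k S.X₂ 1) :
    Function.Surjective (Canon.HHlin k S.g 0) := by
  haveI := finite_HH k X _ h₁ 1
  haveI := finite_HH k X _ h₂ 1
  haveI := finite_HH k X _ h₃ 1
  haveI : Subsingleton (Coh.HH X S.X₃ 1) := Module.finrank_zero_iff.1 hv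
  have e2 := range_eq_ker₂ S hS k 1
  have hker : LinearMap.ker (Canon.HHlin k S.g 1) = ⊤ := by
    rw [eq_top_iff]
    intro x _
    rw [LinearMap.mem_ker]
    exact Subsingleton.elim _ _
  rw [hker] at e2
  have hrk := LinearMap.finrank_range_add_finrank_ker (Canon.HHlin k S.f 1)
  rw [e2, finrank_top] at hrk
  have hk0 : Module.finrank k (LinearMap.ker (Canon.HHlin k S.f 1)) = 0 := by
    have a1 : Module.finrank k (Coh.HH X S.X₁ 1) = hh k S.X₁ 1 := rfl
    have a2 : Module.finrank k (Coh.HH X S.X₂ 1) = hh k S.X₂ 1 := rfl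
    omega
  have hkb : LinearMap.ker (Canon.HHlin k S.f 1) = ⊥ := Submodule.finrank_eq_zero.1 hk0
  have e1 := range_eq_ker₁ S hS k 0
  rw [hkb] at e1
  have e3 := range_eq_ker₃ S hS k 0
  have hδ : LinearMap.ker (δLin S hS k 0) = ⊤ := by
    rw [eq_top_iff]
    intro x _
    rw [LinearMap.mem_ker]
    have : δLin S hS k 0 x ∈ LinearMap.range (δLin S hS k 0) := ⟨x, rfl⟩
    rw [e1] at this
    exact (Submodule.mem_bot k).1 this
  rw [hδ] at e3
  exact LinearMap.range_eq_top.1 e3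

end LES

/-- comparison of the cohomology of high twists along a morphism whose kernel and cokernel have no higher
cohomology after high twists -/
theorem map_hh {L : X.Modules} (hL : PicF.IsInvertible L) {A B : X.Modules} (α : A ⟶ B)
    (hA : Coh.IsCoh A) (hB : Coh.IsCoh B) (hK : Van L (kernel α)) (hC : Van L (cokernel α)) :
    ∃ n₀ : ℕ, ∀ n : ℕ, n₀ ≤ n →
      (∀ p : ℕ, 1 < p → hh k ((Tw L n).obj A) p = hh k ((Tw L n).obj B) p) ∧
      hh k ((Tw L n).obj B) 1 ≤ hh k ((Tw L n).obj A) 1 ∧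
      (hh k ((Tw L n).obj A) 1 ≤ hh k ((Tw L n).obj B) 1 →
        Function.Surjective (Canon.HHlin k ((Tw L n).map (cokernel.π α)) 0)) := by
  haveI : IsLocallyNoetherian X := isLocallyNoetherian k X
  obtain ⟨nK, hnK⟩ := hh_eq_zero_of_van k _ hK
  obtain ⟨nC, hnC⟩ := hh_eq_zero_of_van k _ hC
  refine ⟨max nK nC, fun n hn => ?_⟩
  have hnK' := hnK n ((le_max_left _ _).trans hn)
  have hnC' := hnC n ((le_max_right _ _).trans hn)
  have cK := isCoh_kernel α hA hB
  have cI := isCoh_image α hA hB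
  have cCo := isCoh_coimage α hA hB
  have cC := isCoh_cokernel α hA hB
  have s1 := hh_eq_of_van₁ k ((sc1 α).map (Tw L n)) (shortExact_tw hL n _ (sc1_shortExact α))
    (isCoh_tw hL n _ cK) (isCoh_tw hL n _ hA) (isCoh_tw hL n _ cCo) hnK'
  have s2 := hh_eq_of_van₃ k ((sc2 α).map (Tw L n)) (shortExact_tw hL n _ (sc2_shortExact α))
    (isCoh_tw hL n _ cI) (isCoh_tw hL n _ hB) (isCoh_tw hL n _ cC) hnC'
  have ci : ∀ p, hh k ((Tw L n).obj (Abelian.coimage α)) p = hh k ((Tw L n).obj (Abelian.image α)) p :=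
    fun p => hh_congr k ((Tw L n).mapIso (Abelian.coimageIsoImage α)) p
  have e1 : ∀ p : ℕ, 0 < p → hh k ((Tw L n).obj A) p = hh k ((Tw L n).obj (Abelian.image α)) p :=
    fun p hp => (s1 p hp).trans (ci p)
  refine ⟨fun p hp => ?_, ?_, fun hle => ?_⟩
  · obtain ⟨q, rfl⟩ : ∃ q, p = q + 1 := ⟨p - 1, by omega⟩
    exact (e1 (q + 1) (by omega)).trans (s2.1 q (by omega))
  · rw [e1 1 one_pos]
    exact s2.2
  · refine surjective_of_hh_le k ((sc2 α).map (Tw L n)) (shortExact_tw hL n _ (sc2_shortExact α))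
      (isCoh_tw hL n _ cI) (isCoh_tw hL n _ hB) (isCoh_tw hL n _ cC) (hnC' 1 one_pos) ?_
    have : hh k ((Tw L n).obj (Abelian.image α)) 1 ≤ hh k ((Tw L n).obj B) 1 := by
      rw [← e1 1 one_pos]; exact hle
    exact this

end Groth.Agent.Lib.Helper4.NM2
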