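import Groth.Agent.Lib.Helper4.NM2
import Groth.Agent.Lib.Helper6.DevLift
import Groth.Agent.Lib.Helper8.KillA
import Groth.Agent.Lib.Helper28.InvQC
import Groth.Agent.S17647
set_option backward.isDefEq.respectTransparency.types false
set_option autoImplicit false
set_option linter.style.haveILetI false
set_option linter.unusedSectionVars false

universe u
open CategoryTheory CategoryTheory.Limits AlgebraicGeometry Opposite TopologicalSpace

namespace Groth.Agent.Lib.Helper4.NM3
open Groth.Agent.Lib.Helper8.EulerK Groth.Agent.Lib.Helper4.VanClass Groth.Agent.Lib.Helper28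
  Groth.Agent.Lib.Helper28.GenLocus Groth.Agent.Lib.Helper4.NM2
  Groth.Agent.Lib.Helper6.K0Len Groth.Agent.Lib.Helper4.Snapper Groth.Agent.Lib.Helper8.KillA

variable (k : Type u) [Field k] {X : Scheme.{u}} [X.Over (Spec (CommRingCat.of k))]
    [IsProper (X ↘ (Spec (CommRingCat.of k)))]

/-- the hypothesis: coherent modules with proper support have no higher cohomology after high twists -/
def H1 (N : X.Modules) : Prop :=
  ∀ K : X.Modules, Coh.IsCoh K → CohB1.support K ≠ Set.univ → Van N K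

omit [IsProper (X ↘ (Spec (CommRingCat.of k)))] in
/-- a nonzero class in `H⁰` gives a nonzero section -/
theorem exists_section_of_hh_ne_zero (M : X.Modules) (h : hh k M 0 ≠ 0) :
    ∃ s : Coh.structureModule X ⟶ M, s ≠ 0 := by
  have hnt : Nontrivial (Coh.HH X M 0) := by
    by_contra hcon
    rw [not_nontrivial_iff_subsingleton] at hcon
    exact h Module.finrank_zero_of_subsingleton
  obtain ⟨q, hq⟩ := exists_ne (0 : Coh.HH X M 0)
  obtain ⟨φ, hφ⟩ := exists_hom_of_H0 M q
  refine ⟨φ, fun h0 => hq ?_⟩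
  rw [← hφ, h0]
  exact HHmap_zero_unitH M

/-- the comparison of the higher cohomology of consecutive powers -/
theorem exists_hh_pow_eq [IsIntegral X] {N : X.Modules} (hN : PicF.IsInvertible N) (h1 : H1 N) :
    ∃ m₀ : ℕ, ∀ m : ℕ, m₀ ≤ m → ∀ p : ℕ, 1 < p →
      hh k (CohB1.tensorPow N m) p = hh k (CohB1.tensorPow N m₀) p := by
  haveI : IsNoetherian X := isNoetherian_of_proper k
  have hO : Coh.IsCoh (Coh.structureModule X) := Groth.Agent.Lib.Helper6.DevRed.isCoh_structureModule
  have hNc : Coh.IsCoh N := Groth.Agent.Lib.Helper6.K0Op.isCoh_of_isInvertible N hN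
  obtain ⟨U, hηU, ⟨e⟩⟩ := hN (genericPoint X)
  let φ : (Scheme.Modules.restrictFunctor U.ι).obj (Coh.structureModule X) ⟶
      (Scheme.Modules.restrictFunctor U.ι).obj N :=
    (Scheme.Modules.restrictUnitIso U.ι).hom ≫ e.inv
  haveI : IsIso φ := by dsimp only [φ]; infer_instance
  obtain ⟨H, p₁, p₂, hH, hp₁, hp₂⟩ :=
    Groth.Agent.Lib.Helper6.DevLift.exists_graph_extension (Coh.structureModule X) N hO hNc.1 U φ
  have hp₂' : IsIso ((Scheme.Modules.restrictFunctor U.ι).map p₂) := by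
    rw [hp₂]; infer_instance
  have hne : ∀ S : Set X, S ⊆ (↑U : Set X)ᶜ → S ≠ Set.univ := by
    intro S hS hSu
    have : genericPoint X ∈ S := by rw [hSu]; trivial
    exact hS this hηU
  obtain ⟨a1, a2⟩ := (Groth.Agent.S17647.isIso_restrict_iff_support U p₁).1 hp₁
  obtain ⟨b1, b2⟩ := (Groth.Agent.S17647.isIso_restrict_iff_support U p₂).1 hp₂'
  haveI : IsLocallyNoetherian X := isLocallyNoetherian k X
  obtain ⟨n₁, hn₁⟩ := map_hh k hN p₁ hH hO
    (h1 _ (Groth.Agent.Lib.Helper6.DevCore.isCoh_kernel p₁ hH hO) (hne _ a1))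
    (h1 _ (Groth.Agent.Lib.Helper6.DevCore.isCoh_cokernel p₁ hH hO) (hne _ a2))
  obtain ⟨n₂, hn₂⟩ := map_hh k hN p₂ hH hNc
    (h1 _ (Groth.Agent.Lib.Helper6.DevCore.isCoh_kernel p₂ hH hNc) (hne _ b1))
    (h1 _ (Groth.Agent.Lib.Helper6.DevCore.isCoh_cokernel p₂ hH hNc) (hne _ b2))
  have hstep : ∀ m : ℕ, max n₁ n₂ ≤ m → ∀ p : ℕ, 1 < p →
      hh k (CohB1.tensorPow N (m + 1)) p = hh k (CohB1.tensorPow N m) p := by
    intro m hm p hp
    have c1 := (hn₁ m ((le_max_left _ _).trans hm)).1 p hp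
    have c2 := (hn₂ m ((le_max_right _ _).trans hm)).1 p hp
    obtain ⟨u⟩ := AmpleUnit.nonempty_tensor_unit_iso (CohB1.tensorPow N m)
    have c3 : hh k ((Tw N m).obj (Coh.structureModule X)) p = hh k (CohB1.tensorPow N m) p :=
      hh_congr k u p
    have c4 : hh k ((Tw N m).obj N) p = hh k (CohB1.tensorPow N (m + 1)) p := rfl
    rw [← c4, ← c2, c1, c3]
  refine ⟨max n₁ n₂, fun m hm p hp => ?_⟩
  obtain ⟨j, rfl⟩ := Nat.exists_eq_add_of_le hm
  induction j with
  | zero => rfl
  | succ j ih =>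
    rw [← Nat.add_assoc, hstep _ (Nat.le_add_right _ _) p hp]
    exact ih (Nat.le_add_right _ _)

/-- **existence of a nonzero section of a power** -/
theorem exists_section [IsIntegral X] {N : X.Modules} (hN : PicF.IsInvertible N) (n : ℕ) (hn : 0 < n)
    (hdim : topologicalKrullDim X = (n : WithBot ℕ∞)) (h1 : H1 N)
    (h2 : 0 < hcoef k X N n (cls (Coh.structureModule X))) :
    ∃ m : ℕ, 0 < m ∧ ∃ s : Coh.structureModule X ⟶ CohB1.tensorPow N m, s ≠ 0 := by
  haveI : IsNoetherian X := isNoetherian_of_proper k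
  have hO : Coh.IsCoh (Coh.structureModule X) := Groth.Agent.Lib.Helper6.DevRed.isCoh_structureModule
  have hOi := AmpleUnit.isInvertible_structureModule X
  obtain ⟨m₀, hm₀⟩ := exists_hh_pow_eq k hN h1
  obtain ⟨D, hD⟩ := exists_bound k X
  have hsupp : topologicalKrullDim (CohB1.support (Coh.structureModule X)) ≤ (n : WithBot ℕ∞) := by
    rw [support_of_isInvertible _ hOi, (Homeomorph.Set.univ X).isHomeomorph.topologicalKrullDim_eq]
    exact hdim.le
  -- the Euler characteristic of the powers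
  have hχ : ∀ m : ℕ, Curv2.euler k X (CohB1.tensorPow N m) =
      ∑ j ∈ Finset.range (n + 1), (m.choose j : ℤ) * hcoef k X N j (cls (Coh.structureModule X)) := by
    intro m
    rw [← euler_twist_eq_sum k N hN _ hO n hsupp m]
    obtain ⟨e⟩ := InvQC.nonempty_unit_tensor_iso (CohB1.tensorPow N m)
    exact (euler_congr k e).symm
  -- the constant
  set c : ℤ := ∑ i ∈ Finset.range D, (-1 : ℤ) ^ i * (hh k (CohB1.tensorPow N m₀) (i + 2) : ℤ) with hc
  have hle : ∀ m : ℕ, m₀ ≤ m → Curv2.euler k X (CohB1.tensorPow N m) ≤ (hh k (CohB1.tensorPow N m) 0 : ℤ) + c := by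
    intro m hm
    have hq : Coh.IsQCoh (CohB1.tensorPow N m) :=
      (Groth.Agent.Lib.Helper6.K0Op.isCoh_of_isInvertible _ (isInvertible_tensorPow hN m)).1
    rw [euler_eq_sum k X _ (D + 2) (fun p hp => hD _ hq p (by omega)),
      Finset.sum_range_succ', Finset.sum_range_succ']
    have e1 : ∑ i ∈ Finset.range D, (-1 : ℤ) ^ (i + 1 + 1) *
        (Module.finrank k (Coh.HH X (CohB1.tensorPow N m) (i + 1 + 1)) : ℤ) = c := by
      rw [hc]
      apply Finset.sum_congr rfl
      intro i _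
      have := hm₀ m hm (i + 2) (by omega)
      unfold hh at this
      rw [this]
      congr 1
      rw [pow_succ, pow_succ]
      ring
    rw [e1]
    have : (0 : ℤ) ≤ (Module.finrank k (Coh.HH X (CohB1.tensorPow N m) (0 + 1)) : ℤ) := by positivity
    simp only [pow_zero, one_mul, zero_add, pow_one]
    unfold hh
    linarith
  obtain ⟨d, rfl⟩ : ∃ d, n = d + 1 := ⟨n - 1, by omega⟩
  obtain ⟨m₁, hm₁⟩ := growth d (fun j => hcoef k X N j (cls (Coh.structureModule X))) h2 (c + 1)
  refine ⟨max (max m₀ m₁) 1, lt_of_lt_of_le one_pos (le_max_right _ _), ?_⟩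
  apply exists_section_of_hh_ne_zero k
  intro h0
  have a := hle (max (max m₀ m₁) 1) ((le_max_left _ _).trans (le_max_left _ _))
  have b := hm₁ (max (max m₀ m₁) 1) ((le_max_right _ _).trans (le_max_left _ _))
  rw [hχ] at a
  rw [h0] at a
  simp only [Nat.cast_zero, zero_add] at a
  linarith

end Groth.Agent.Lib.Helper4.NM3
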