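import Groth.Agent.Lib.Helper4.NM3
import Groth.Agent.Lib.Helper8.CurveInv1
import Groth.Agent.Lib.Helper8.Vanish
import Groth.Agent.Lib.Helper16.TA2
import Groth.Agent.Lib.Helper28.AmplePow
set_option backward.isDefEq.respectTransparency.types false
set_option autoImplicit false
set_option linter.style.haveILetI false
set_option linter.unusedSectionVars false

universe u
open CategoryTheory CategoryTheory.Limits AlgebraicGeometry Opposite TopologicalSpace

namespace Groth.Agent.Lib.Helper4.NM4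
open Groth.Agent.Lib.Helper8.EulerK Groth.Agent.Lib.Helper4.VanClass Groth.Agent.Lib.Helper28
  Groth.Agent.Lib.Helper28.GenLocus Groth.Agent.Lib.Helper4.NM2 Groth.Agent.Lib.Helper4.NM3
  Groth.Agent.Lib.Helper6.K0Len Groth.Agent.Lib.Helper4.Snapper Groth.Agent.Lib.Helper8.KillA
  Groth.Agent.Lib.Helper2.HLesLin Groth.Agent.Lib.Helper4.HLesFin1

variable (k : Type u) [Field k] {X : Scheme.{u}} [X.Over (Spec (CommRingCat.of k))]
    [IsProper (X ↘ (Spec (CommRingCat.of k)))]

section LES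
variable (S : ShortComplex X.Modules) (hS : S.ShortExact)
  (h₁ : Coh.IsCoh S.X₁)

include hS h₁ in
theorem surjective_of_hh₁_zero (hv : hh k S.X₁ 1 = 0) :
    Function.Surjective (Canon.HHlin k S.g 0) := by
  haveI := finite_HH k X _ h₁ 1
  haveI : Subsingleton (Coh.HH X S.X₁ 1) := Module.finrank_zero_iff.1 hv
  have e3 := range_eq_ker₃ S hS k 0
  have hδ : LinearMap.ker (δLin S hS k 0) = ⊤ := by
    rw [eq_top_iff]
    intro x _
    rw [LinearMap.mem_ker]
    exact Subsingleton.elim _ _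
  rw [hδ] at e3
  exact LinearMap.range_eq_top.1 e3

end LES

/-- the twists of a nonzero section are eventually surjective on global sections of the cokernel, along an
arithmetic progression -/
theorem exists_surj [IsIntegral X] {N : X.Modules} (hN : PicF.IsInvertible N) (h1 : H1 N) (m : ℕ)
    (s' : Coh.structureModule X ⟶ (DCoh.tensorBi.obj (CohB1.tensorPow N m)).obj (Coh.structureModule X))
    (hs' : s' ≠ 0) :
    ∃ n₀ t₀ : ℕ, ∀ t : ℕ, t₀ ≤ t →
      Function.Surjective (Canon.HHlin k ((Tw N (n₀ + t * m)).map (cokernel.π s')) 0) := by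
  haveI : IsLocallyNoetherian X := isLocallyNoetherian k X
  have hO : Coh.IsCoh (Coh.structureModule X) := Groth.Agent.Lib.Helper6.DevRed.isCoh_structureModule
  have hOi := AmpleUnit.isInvertible_structureModule X
  have hL := isInvertible_tensorPow hN m
  have hB : PicF.IsInvertible ((DCoh.tensorBi.obj (CohB1.tensorPow N m)).obj (Coh.structureModule X)) :=
    isInvertible_tensorMod hL hOi
  have hBc := Groth.Agent.Lib.Helper6.K0Op.isCoh_of_isInvertible _ hB
  haveI : Mono s' := Groth.Agent.Lib.Helper8.CurveInv.mono_of_ne_zero hOi hB s' hs'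
  have hK : CohB1.support (kernel s') ≠ Set.univ := by
    rw [Groth.Agent.Lib.Helper16.K0Supp.support_of_isZero (isZero_kernel_of_mono s')]
    intro h
    have : genericPoint X ∈ (∅ : Set X) := by rw [h]; trivial
    exact this
  have hC : CohB1.support (cokernel s') ≠ Set.univ := by
    intro h
    have h2 := Groth.Agent.Lib.Helper8.CurveInv.genericPoint_notMem_support_cokernel hOi hB s' hs'
    rw [h] at h2
    exact h2 trivial
  obtain ⟨n₀, hn₀⟩ := map_hh k hN s' hO hBc
    (h1 _ (Groth.Agent.Lib.Helper6.DevCore.isCoh_kernel s' hO hBc) hK)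
    (h1 _ (Groth.Agent.Lib.Helper6.DevCore.isCoh_cokernel s' hO hBc) hC)
  have eO : ∀ j : ℕ, hh k ((Tw N j).obj (Coh.structureModule X)) 1 = hh k (CohB1.tensorPow N j) 1 := by
    intro j
    obtain ⟨u⟩ := AmpleUnit.nonempty_tensor_unit_iso (CohB1.tensorPow N j)
    exact hh_congr k u 1
  have eB : ∀ j : ℕ, hh k ((Tw N j).obj
      ((DCoh.tensorBi.obj (CohB1.tensorPow N m)).obj (Coh.structureModule X))) 1 =
      hh k (CohB1.tensorPow N (j + m)) 1 := by
    intro j
    obtain ⟨u⟩ := AmpleUnit.nonempty_tensor_unit_iso (CohB1.tensorPow N m)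
    obtain ⟨ψ, -⟩ := exists_tensorPow_add_iso hN j m (j + m) rfl
    have u' : (DCoh.tensorBi.obj (CohB1.tensorPow N m)).obj (Coh.structureModule X) ≅ CohB1.tensorPow N m := u
    have e2 : (Tw N j).obj (CohB1.tensorPow N m) ≅ CohB1.tensorPow N (j + m) := ψ
    exact hh_congr k ((Tw N j).mapIso u' ≪≫ e2) 1
  obtain ⟨t₀, ht₀⟩ := antitone_eventually_const (fun t => hh k (CohB1.tensorPow N (n₀ + t * m)) 1) (by
    intro t
    have := (hn₀ (n₀ + t * m) (Nat.le_add_right _ _)).2.1
    rw [eO, eB] at this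
    have e : n₀ + (t + 1) * m = n₀ + t * m + m := by ring
    rw [e]
    exact this)
  refine ⟨n₀, t₀, fun t ht => ?_⟩
  apply (hn₀ (n₀ + t * m) (Nat.le_add_right _ _)).2.2
  rw [eO, eB]
  have a1 := ht₀ t ht
  have a2 := ht₀ (t + 1) (by omega)
  have e : n₀ + (t + 1) * m = n₀ + t * m + m := by ring
  beta_reduce at a1 a2
  rw [e] at a2
  rw [a1, a2]

omit [IsProper (X ↘ (Spec (CommRingCat.of k)))] in
/-- a nonzero module supported at a closed point has a nonzero class in `H⁰` -/
theorem exists_H0_ne_zero (κ : X.Modules) (x : X) (hx : IsClosed ({x} : Set X))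
    (hsupp : CohB1.support κ = {x}) : ∃ q : Coh.HH X κ 0, q ≠ 0 := by
  classical
  have hxm : x ∈ CohB1.support κ := by rw [hsupp]; rfl
  have hnt : Nontrivial (κ.presheaf.stalk x) := not_subsingleton_iff_nontrivial.1 hxm
  obtain ⟨g, hg⟩ := exists_ne (0 : κ.presheaf.stalk x)
  obtain ⟨σ, hσ⟩ := Groth.Agent.Lib.Helper8.PtSupp.exists_section κ {x} (Set.finite_singleton x)
    (fun z hz => by rw [Set.mem_singleton_iff] at hz; rw [hz]; exact hx) hsupp.le (fun z => if h : z = x then h ▸ g else 0)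
  have h2 := hσ x rfl
  rw [dif_pos rfl] at h2
  have hσ0 : σ ≠ 0 := by
    intro h0
    apply hg
    have h3 : g = Groth.Agent.Lib.Helper29.QCohStalk.gm κ ⊤ x trivial σ := h2.symm
    rw [h3, h0]
    exact Groth.Agent.Lib.Helper29.QCohStalk.gm_zero κ ⊤ x trivial
  refine ⟨(Groth.Agent.Lib.Helper8.PtSupp.e0 κ).symm σ, fun h0 => hσ0 ?_⟩
  have := congrArg (Groth.Agent.Lib.Helper8.PtSupp.e0 κ) h0
  rw [AddEquiv.apply_symm_apply, map_zero] at this
  exact this


open Groth.Agent.Lib.Helper8.PointDeg Groth.Agent.Lib.Helper16.TA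

include k in
/-- **a section of a power generating at a given closed point** -/
theorem exists_section_gen_at [IsIntegral X] {N : X.Modules} (hN : PicF.IsInvertible N) (h1 : H1 N)
    (m : ℕ) (hm : 0 < m) (s : Coh.structureModule X ⟶ CohB1.tensorPow N m) (hs : s ≠ 0)
    (x : X) (hx : IsClosed ({x} : Set X)) :
    ∃ t : ℕ, 0 < t ∧ ∃ b : Coh.structureModule X ⟶ CohB1.tensorPow N t, x ∈ CohB1.genLocus _ b := by
  by_cases hxs : x ∈ CohB1.genLocus _ s
  · exact ⟨m, hm, s, hxs⟩
  haveI : IsLocallyNoetherian X := isLocallyNoetherian k X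
  have hO : Coh.IsCoh (Coh.structureModule X) := Groth.Agent.Lib.Helper6.DevRed.isCoh_structureModule
  have hOi := AmpleUnit.isInvertible_structureModule X
  have hL := isInvertible_tensorPow hN m
  have hLc := Groth.Agent.Lib.Helper6.K0Op.isCoh_of_isInvertible _ hL
  have hB : PicF.IsInvertible ((DCoh.tensorBi.obj (CohB1.tensorPow N m)).obj (Coh.structureModule X)) :=
    isInvertible_tensorMod hL hOi
  have hBc := Groth.Agent.Lib.Helper6.K0Op.isCoh_of_isInvertible _ hB
  obtain ⟨u⟩ := AmpleUnit.nonempty_tensor_unit_iso (CohB1.tensorPow N m)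
  have u' : (DCoh.tensorBi.obj (CohB1.tensorPow N m)).obj (Coh.structureModule X) ≅ CohB1.tensorPow N m := u
  let s' : Coh.structureModule X ⟶ (DCoh.tensorBi.obj (CohB1.tensorPow N m)).obj (Coh.structureModule X) :=
    s ≫ u'.inv
  have hs' : s' ≠ 0 := by
    intro h0
    apply hs
    have : s' ≫ u'.hom = s := by simp [s']
    rw [← this, h0, zero_comp]
  have hxs' : x ∉ CohB1.genLocus _ s' := by
    have := AmpleUnit.genLocus_comp_iso s u'.symm
    change CohB1.genLocus _ s' = _ at this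
    rw [this]
    exact hxs
  -- the quotient at the point
  let D := ptI x hx
  have hcQ : Coh.IsCoh (ClSub.quotMod D) := Groth.Agent.Lib.Helper6.DevRed.isCoh_quotMod D
  let ρ := (DCoh.tensorBi.obj (CohB1.tensorPow N m)).map (ClSub.toSubscheme D)
  have hρ : s' ≫ ρ = 0 := Groth.Agent.Lib.Helper8.Vanish.comp_eq_zero hL x hx s' hxs'
  have hSρ := Groth.Agent.Lib.Helper6.K0Op.shortExact_tensor_of_flat _
    (Groth.Agent.Lib.Helper6.K0Op.isFlat_of_isInvertible _ hL) _
    (Groth.Agent.Lib.Helper17.Serre.idealSES_shortExact D)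
  haveI : Epi ρ := hSρ.epi_g
  let r := cokernel.desc s' ρ hρ
  have hπr : cokernel.π s' ≫ r = ρ := cokernel.π_desc _ _ _
  haveI : Epi r := epi_of_epi_fac hπr
  have hCc := Groth.Agent.Lib.Helper6.DevCore.isCoh_cokernel s' hO hBc
  have hQc : Coh.IsCoh ((DCoh.tensorBi.obj (CohB1.tensorPow N m)).obj (ClSub.quotMod D)) :=
    Groth.Agent.Lib.Helper6.K0Op.isCoh_tensorMod _ _ hLc hcQ
  have hKc := Groth.Agent.Lib.Helper6.DevCore.isCoh_kernel r hCc hQc
  -- the kernel has proper support
  have hKsupp : CohB1.support (kernel r) ≠ Set.univ := by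
    intro h
    have h2 := Groth.Agent.Lib.Helper8.CurveInv.genericPoint_notMem_support_cokernel hOi hB s' hs'
    apply h2
    apply Groth.Agent.Lib.Helper6.DevCore.support_subset_of_mono (kernel.ι r)
    rw [h]
    trivial
  obtain ⟨n₁, hn₁⟩ := hh_eq_zero_of_van k _ (h1 _ hKc hKsupp)
  obtain ⟨n₀, t₀, hsurj⟩ := exists_surj k hN h1 m s' hs'
  -- the twist
  set j := n₀ + (t₀ + n₁) * m with hj
  have hjn : n₁ ≤ j := by
    have : n₁ ≤ (t₀ + n₁) * m := by
      calc n₁ ≤ t₀ + n₁ := Nat.le_add_left _ _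
        _ ≤ (t₀ + n₁) * m := Nat.le_mul_of_pos_right _ hm
    omega
  have sj1 := hsurj (t₀ + n₁) (Nat.le_add_right _ _)
  rw [← hj] at sj1
  let S : ShortComplex X.Modules := ShortComplex.mk (kernel.ι r) r (kernel.condition r)
  have hS : S.ShortExact :=
    { exact := ShortComplex.exact_of_f_is_kernel _ (kernelIsKernel r)
      mono_f := inferInstanceAs (Mono (kernel.ι r))
      epi_g := inferInstanceAs (Epi r) }
  have sj2 : Function.Surjective (Canon.HHlin k ((Tw N j).map r) 0) :=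
    surjective_of_hh₁_zero k (S.map (Tw N j)) (shortExact_tw hN j S hS) (isCoh_tw hN j _ hKc)
      (hn₁ j hjn 1 one_pos)
  -- a nonzero class at the point
  have hPj := isInvertible_tensorPow hN j
  have hκ : CohB1.support ((Tw N j).obj ((DCoh.tensorBi.obj (CohB1.tensorPow N m)).obj (ClSub.quotMod D))) = {x} := by
    have e1 := support_tensorMod_eq (CohB1.tensorPow N j)
      ((DCoh.tensorBi.obj (CohB1.tensorPow N m)).obj (ClSub.quotMod D)) hPj
    have e2 := support_tensorMod_eq (CohB1.tensorPow N m) (ClSub.quotMod D) hL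
    have e3 : CohB1.support (ClSub.quotMod D) = {x} :=
      Groth.Agent.Lib.Helper6.DevRed.support_quotMod_vanishingIdeal (Z := ⟨{x}, hx⟩)
    exact e1.trans (e2.trans e3)
  obtain ⟨q, hq⟩ := exists_H0_ne_zero _ x hx hκ
  obtain ⟨y₁, hy₁⟩ := sj2 q
  obtain ⟨y₂, hy₂⟩ := sj1 y₁
  obtain ⟨b, hb⟩ := exists_hom_of_H0 _ y₂
  have hbρ : b ≫ (Tw N j).map ρ ≠ 0 := by
    intro h0
    apply hq
    have e1 : HHmap (b ≫ (Tw N j).map ρ) 0 (unitH X) = q := by
      rw [HHmap_comp, hb, ← hπr, Functor.map_comp, HHmap_comp]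
      exact (congrArg _ hy₂).trans hy₁
    rw [← e1, h0]
    exact HHmap_zero_unitH _
  -- reassociate
  let M := (DCoh.tensorBi.obj (CohB1.tensorPow N j)).obj (CohB1.tensorPow N m)
  have hM : PicF.IsInvertible M := isInvertible_tensorMod hPj hL
  let b' : Coh.structureModule X ⟶ (DCoh.tensorBi.obj M).obj (Coh.structureModule X) :=
    b ≫ (assocIso (CohB1.tensorPow N j) (CohB1.tensorPow N m) (Coh.structureModule X)).inv
  have hb' : b' ≫ (DCoh.tensorBi.obj M).map (ClSub.toSubscheme D) ≠ 0 := by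
    intro h0
    apply hbρ
    have hnat := assocIso_nat₃ (CohB1.tensorPow N j) (CohB1.tensorPow N m) (ClSub.toSubscheme D)
    have e1 : b ≫ (Tw N j).map ρ =
        (b' ≫ (DCoh.tensorBi.obj M).map (ClSub.toSubscheme D)) ≫
          (assocIso (CohB1.tensorPow N j) (CohB1.tensorPow N m) (ClSub.quotMod D)).hom := by
      rw [Category.assoc, hnat]
      simp only [b', Category.assoc, Iso.inv_hom_id_assoc]
      rfl
    rw [e1, h0, zero_comp]
  have hxb' : x ∈ CohB1.genLocus _ b' := by
    by_contra hcon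
    exact hb' (Groth.Agent.Lib.Helper8.Vanish.comp_eq_zero hM x hx b' hcon)
  -- back to a power
  obtain ⟨uM⟩ := AmpleUnit.nonempty_tensor_unit_iso M
  have uM' : (DCoh.tensorBi.obj M).obj (Coh.structureModule X) ≅ M := uM
  obtain ⟨ψ, -⟩ := exists_tensorPow_add_iso hN j m (j + m) rfl
  have ψ' : M ≅ CohB1.tensorPow N (j + m) := ψ
  refine ⟨j + m, by omega, (b' ≫ uM'.hom) ≫ ψ'.hom, ?_⟩
  rw [AmpleUnit.genLocus_comp_iso _ ψ', AmpleUnit.genLocus_comp_iso _ uM']
  exact hxb'

omit [X.Over (Spec (CommRingCat.of k))] [IsProper (X ↘ (Spec (CommRingCat.of k)))] in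
/-- from sections of powers generating at each closed point to finitely many sections of a single power whose
loci cover -/
theorem exists_cover_of_pointwise [CompactSpace X] [Nonempty X] {N : X.Modules} (hN : PicF.IsInvertible N)
    (h : ∀ x : X, IsClosed ({x} : Set X) → ∃ t : ℕ, 0 < t ∧
      ∃ b : Coh.structureModule X ⟶ CohB1.tensorPow N t, x ∈ CohB1.genLocus _ b) :
    ∃ M : ℕ, 0 < M ∧ ∃ (r : ℕ) (b : Fin (r + 1) → (Coh.structureModule X ⟶ CohB1.tensorPow N M)),
      ∀ x : X, ∃ a, x ∈ CohB1.genLocus _ (b a) := by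
  classical
  let C := {x : X // IsClosed ({x} : Set X)}
  choose t ht b hb using fun c : C => h c.1 c.2
  let U : C → X.Opens := fun c => CohB1.genLocus _ (b c)
  have hcov : (Set.univ : Set X) ⊆ ⋃ c : C, (U c : Set X) := by
    intro y _
    obtain ⟨z, hz, hzc⟩ := IsClosed.exists_closed_singleton (isClosed_closure (s := ({y} : Set X)))
      ⟨y, subset_closure rfl⟩
    have hspec : y ⤳ z := specializes_iff_mem_closure.2 hz
    exact Set.mem_iUnion.2 ⟨⟨z, hzc⟩, hspec.mem_open (U ⟨z, hzc⟩).isOpen (hb ⟨z, hzc⟩)⟩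
  obtain ⟨F, hF⟩ := isCompact_univ.elim_finite_subcover (fun c : C => (U c : Set X))
    (fun c => (U c).isOpen) hcov
  have hFne : F.Nonempty := by
    obtain ⟨y⟩ := (inferInstance : Nonempty X)
    have := hF (Set.mem_univ y)
    simp only [Set.mem_iUnion] at this
    obtain ⟨c, hc, -⟩ := this
    exact ⟨c, hc⟩
  let M := ∏ c ∈ F, t c
  have hM : 0 < M := Finset.prod_pos fun c _ => ht c
  -- sections of the common power
  have key : ∀ c ∈ F, ∃ b' : Coh.structureModule X ⟶ CohB1.tensorPow N M,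
      CohB1.genLocus _ b' = U c := by
    intro c hc
    let e := ∏ c' ∈ F.erase c, t c'
    have he : 0 < e := Finset.prod_pos fun c' _ => ht c'
    have hMe : M = t c * e := (Finset.mul_prod_erase F t hc).symm
    obtain ⟨ψ, -⟩ := exists_tensorPow_tensorPow_iso hN (t c) e M hMe
    refine ⟨spow (b c) e ≫ ψ.hom, ?_⟩
    rw [AmpleUnit.genLocus_comp_iso _ ψ, genLocus_spow (isInvertible_tensorPow hN (t c)) (b c) e he]
  choose! b' hb' using key
  obtain ⟨r, hr⟩ : ∃ r, F.card = r + 1 := ⟨F.card - 1, by have := hFne.card_pos; omega⟩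
  let φ : Fin (r + 1) ≃ F := (Fintype.equivFinOfCardEq (by rw [Fintype.card_coe, hr])).symm
  refine ⟨M, hM, r, fun a => b' (φ a).1, fun x => ?_⟩
  have := hF (Set.mem_univ x)
  simp only [Set.mem_iUnion] at this
  obtain ⟨c, hc, hxc⟩ := this
  refine ⟨φ.symm ⟨c, hc⟩, ?_⟩
  show x ∈ CohB1.genLocus _ (b' (φ (φ.symm ⟨c, hc⟩)).1)
  rw [Equiv.apply_symm_apply, hb' c hc]
  exact hxc


include k in
/-- **a power has finitely many sections whose loci cover** -/
theorem exists_cover [IsIntegral X] {N : X.Modules} (hN : PicF.IsInvertible N) (h1 : H1 N)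
    (m : ℕ) (hm : 0 < m) (s : Coh.structureModule X ⟶ CohB1.tensorPow N m) (hs : s ≠ 0) :
    ∃ M : ℕ, 0 < M ∧ ∃ (r : ℕ) (b : Fin (r + 1) → (Coh.structureModule X ⟶ CohB1.tensorPow N M)),
      ∀ x : X, ∃ a, x ∈ CohB1.genLocus _ (b a) := by
  haveI : CompactSpace X := QuasiCompact.compactSpace_of_compactSpace (X ↘ Spec (CommRingCat.of k))
  exact exists_cover_of_pointwise hN (fun x hx => exists_section_gen_at k hN h1 m hm s hs x hx)

end Groth.Agent.Lib.Helper4.NM4
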