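import Groth.Agent.Lib.Helper4.NM4
import Groth.Agent.Lib.Helper4.ImmImage
import Groth.Agent.Lib.Helper16.RS6
import Groth.Agent.Lib.Helper28.VeryAmpleImm
import Groth.Agent.Lib.Helper28.ProjSpaceBasic
import Groth.Agent.Lib.Helper28.PullbackAmple2
import Groth.Agent.Lib.Helper28.AmpleGG
import Groth.Agent.Lib.Helper8.PointDeg
import Groth.Agent.S3572
set_option backward.isDefEq.respectTransparency.types false
set_option autoImplicit false
set_option linter.style.haveILetI false
set_option linter.unusedSectionVars false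

universe u
open CategoryTheory CategoryTheory.Limits AlgebraicGeometry Opposite TopologicalSpace

namespace Groth.Agent.Lib.Helper4.NM5
open Groth.Agent.Lib.Helper28 Groth.Agent.Lib.Helper28.GenLocus Groth.Agent.Lib.Helper28.QCohLoc
  Groth.Agent.Lib.Helper4.Snapper Groth.Agent.Lib.Helper8.PointDeg

/-- a proper morphism to a quasi-compact scheme with finite fibres over closed points is finite -/
theorem isFinite_of_closed_fibres {X P : Scheme.{u}} (φ : X ⟶ P) [IsProper φ] [CompactSpace P]
    (h : ∀ y : P, IsClosed ({y} : Set P) → (φ ⁻¹' {y}).Finite) : IsFinite φ := by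
  let C := {y : P // IsClosed ({y} : Set P)}
  choose V hyV hV using fun c : C =>
    exists_isFinite_morphismRestrict_of_finite_preimage_singleton φ c.1 (h c.1 c.2)
  have hcov : iSup V = ⊤ := by
    rw [eq_top_iff]
    intro z _
    obtain ⟨y, hy, hyc⟩ := IsClosed.exists_closed_singleton (isClosed_closure (s := ({z} : Set P)))
      ⟨z, subset_closure rfl⟩
    have hspec : z ⤳ y := specializes_iff_mem_closure.2 hy
    exact Opens.mem_iSup.2 ⟨⟨y, hyc⟩, hspec.mem_open (V ⟨y, hyc⟩).isOpen (hyV ⟨y, hyc⟩)⟩
  exact IsZariskiLocalAtTarget.of_iSup_eq_top V hcov hV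

/-- an infinite closed subset of a Noetherian space contains an irreducible closed subset with two distinct
points -/
theorem exists_irreducible_of_infinite {T : Type*} [TopologicalSpace T] [NoetherianSpace T] (F : Closeds T)
    (hF : (F : Set T).Infinite) :
    ∃ Z : Closeds T, IsIrreducible (Z : Set T) ∧ Z ≤ F ∧ ∃ a ∈ Z, ∃ b ∈ Z, a ≠ b := by
  obtain ⟨S, hSf, hS, rfl⟩ := NoetherianSpace.exists_finite_set_closeds_irreducible F
  by_contra hcon
  push Not at hcon
  apply hF
  have hsub : ∀ Z ∈ S, (Z : Set T).Subsingleton := by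
    intro Z hZ a ha b hb
    exact hcon Z (hS Z hZ) (le_sSup hZ) a ha b hb
  lift S to Finset (Closeds T) using hSf
  have : ((sSup (S : Set (Closeds T)) : Closeds T) : Set T) = ⋃ Z ∈ S, (Z : Set T) := by
    simp [← Finset.sup_id_eq_sSup, Closeds.coe_finset_sup]
  rw [this]
  exact Set.Finite.biUnion S.finite_toSet fun Z hZ => (hsub Z hZ).finite

theorem isIso_of_genLocus_eq_top {X : Scheme.{u}} {M : X.Modules} (s : Coh.structureModule X ⟶ M)
    (h : CohB1.genLocus M s = ⊤) : IsIso s :=
  TensorIso.isIso_of_bijective_on_basis s (fun _ => True) (fun U x hx => ⟨U, trivial, hx, le_rfl⟩)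
    (fun W _ => bijective_app_of_le_genLocus s W (by rw [h]; exact le_top))

/-- an invertible module on a one-point scheme is trivial -/
theorem nonempty_iso_of_subsingleton {S : Scheme.{u}} [Subsingleton S] (z : S) (M : S.Modules)
    (hM : PicF.IsInvertible M) : Nonempty (M ≅ Coh.structureModule S) := by
  obtain ⟨U, g, hzU, hg⟩ := exists_isGen M hM z
  have hU : U = ⊤ := by
    rw [eq_top_iff]
    intro w _
    rw [Subsingleton.elim w z]
    exact hzU
  subst hU
  let T := TwistGen.ofSection M g
  have h1 : ⊤ ≤ CohB1.genLocus M T := le_genLocus_of_isGen_res T ⊤ (by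
    rw [secOf_ofSection, res_self]; exact hg)
  haveI := isIso_of_genLocus_eq_top T (top_le_iff.1 h1)
  exact ⟨(asIso T).symm⟩


variable (k : Type u) [Field k] {X : Scheme.{u}} [X.Over (Spec (CommRingCat.of k))]
    [IsProper (X ↘ (Spec (CommRingCat.of k)))]

include k in
/-- **an invertible module a power of which is generated by finitely many sections, and no power of which is
trivial on a positive-dimensional integral closed subscheme, is ample** -/
theorem isAmple_of_cover {N : X.Modules} (hN : PicF.IsInvertible N) (M : ℕ) (hM : 0 < M) (r : ℕ)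
    (b : Fin (r + 1) → (Coh.structureModule X ⟶ CohB1.tensorPow N M))
    (hb : ∀ x : X, ∃ a, x ∈ CohB1.genLocus _ (b a))
    (H3 : ∀ T : Closeds X, IsIrreducible (T : Set X) → (∃ a ∈ T, ∃ b ∈ T, a ≠ b) →
      ¬ Nonempty ((Scheme.Modules.pullback (Scheme.IdealSheafData.vanishingIdeal T).subschemeι).obj
        (CohB1.tensorPow N M) ≅ Coh.structureModule _)) :
    CohB1.IsAmple N := by
  haveI : IsNoetherian X := isNoetherian_of_proper k
  have hNM := isInvertible_tensorPow hN M
  obtain ⟨φ, hφ, τ, -⟩ := Groth.Agent.S3572.result r (X ↘ Spec (CommRingCat.of k))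
    (CohB1.tensorPow N M) hNM _ (VeryAmpleImm.generatedBy_of_cover b hb)
  haveI : IsProper (CohB1.ProjSpace.toSpec r k) := ProjSpaceBasic.isProper_toSpec r k
  haveI : IsProper (φ ≫ CohB1.ProjSpace.toSpec r k) := by rw [hφ]; infer_instance
  haveI : IsProper φ := IsProper.of_comp φ (CohB1.ProjSpace.toSpec r k)
  haveI : CompactSpace (CohB1.ProjSpace r k) :=
    QuasiCompact.compactSpace_of_compactSpace (CohB1.ProjSpace.toSpec r k)
  haveI : CompactSpace (Proj (CohB1.polyGrading r k)) :=
    inferInstanceAs (CompactSpace (CohB1.ProjSpace r k))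
  have hO1 : CohB1.IsAmple (Twist.twistProjSpace r k 1) :=
    TwistGenD.isAmple_twist_of_cover (CohB1.polyGrading r k) 1 one_pos (VeryAmpleImm.projSpace_cover r k)
  have hfib : ∀ y : CohB1.ProjSpace r k, IsClosed ({y} : Set (CohB1.ProjSpace r k)) →
      (φ ⁻¹' {y}).Finite := by
    intro y hy
    by_contra hinf
    let F : Closeds X := ⟨φ ⁻¹' {y}, hy.preimage φ.continuous⟩
    obtain ⟨T, hTirr, hTF, hT2⟩ := exists_irreducible_of_infinite F hinf
    apply H3 T hTirr hT2
    haveI : IsReduced (Scheme.IdealSheafData.vanishingIdeal T).subscheme :=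
      Groth.Agent.Lib.Helper6.DevRed.isReduced_subscheme_vanishingIdeal T
    have hker : (ptI y hy).subschemeι.ker ≤
        ((Scheme.IdealSheafData.vanishingIdeal T).subschemeι ≫ φ).ker := by
      rw [Scheme.IdealSheafData.ker_subschemeι,
        Groth.Agent.Lib.Helper4.ImmImage.ker_eq_vanishingIdeal]
      apply Scheme.IdealSheafData.vanishingIdeal_antimono
      apply (Closeds.gc _ _).2
      rintro _ ⟨w, rfl⟩
      have hw : (Scheme.IdealSheafData.vanishingIdeal T).subschemeι w ∈ (T : Set X) := by
        have h1 : (Scheme.IdealSheafData.vanishingIdeal T).subschemeι w ∈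
            Set.range (Scheme.IdealSheafData.vanishingIdeal T).subschemeι := ⟨w, rfl⟩
        rw [Scheme.IdealSheafData.range_subschemeι,
          Scheme.IdealSheafData.coe_support_vanishingIdeal] at h1
        exact h1
      exact hTF hw
    let h := IsClosedImmersion.lift (ptI y hy).subschemeι
      ((Scheme.IdealSheafData.vanishingIdeal T).subschemeι ≫ φ) hker
    have hfac : h ≫ (ptI y hy).subschemeι = (Scheme.IdealSheafData.vanishingIdeal T).subschemeι ≫ φ :=
      IsClosedImmersion.lift_fac _ _ _
    obtain ⟨z, -⟩ := exists_point y hy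
    obtain ⟨e₀⟩ := nonempty_iso_of_subsingleton z
      ((Scheme.Modules.pullback (ptI y hy).subschemeι).obj (Twist.twistProjSpace r k 1))
      (PullbackInv.isInvertible_pullback _ hO1.1)
    exact ⟨(Scheme.Modules.pullback (Scheme.IdealSheafData.vanishingIdeal T).subschemeι).mapIso τ.symm ≪≫
      (Scheme.Modules.pullbackComp (Scheme.IdealSheafData.vanishingIdeal T).subschemeι φ).app _ ≪≫
      (Scheme.Modules.pullbackCongr hfac.symm).app _ ≪≫
      ((Scheme.Modules.pullbackComp h (ptI y hy).subschemeι).app _).symm ≪≫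
      (Scheme.Modules.pullback h).mapIso e₀ ≪≫ Groth.Agent.Lib.Helper16.RS.pullbackUnitIso h⟩
  haveI : IsFinite φ := isFinite_of_closed_fibres φ hfib
  have hpb : CohB1.IsAmple ((Scheme.Modules.pullback φ).obj (Twist.twistProjSpace r k 1)) := by
    refine PullbackInv.isAmple_pullback_of_quasiAffine φ (fun O hO => ?_) _ hO1
    haveI : IsAffine (↑(φ ⁻¹ᵁ O) : Scheme.{u}) := hO.preimage φ
    infer_instance
  exact isAmple_of_isAmple_tensorPow hN M hM (AmpleIso.isAmple_of_iso τ hpb)

end Groth.Agent.Lib.Helper4.NM5
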