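import Mathlib.Tactic
import Mathlib.AlgebraicGeometry.Morphisms.Smooth
import Groth.Prelude.Def_CInt

set_option autoImplicit false
universe u
open CategoryTheory AlgebraicGeometry Limits

namespace Groth.Agent.Lib.Helper4.NeronBCUniq

theorem main17731
    {S S' : Scheme.{u}} (g : S' ⟶ S) [Smooth g]
    (U : S.Opens) (N : Over S)
    (hN : ∀ Y : Over S, Smooth Y.hom →
      Function.Injective (fun f : Y ⟶ N => (Over.pullback U.ι).map f))
    (Y' : Over S') [Smooth Y'.hom] :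
    Function.Injective (fun f : Y' ⟶ (Over.pullback g).obj N => (Over.pullback (g ⁻¹ᵁ U).ι).map f) := by
  intro f1 f2 h12
  replace h12 : (Over.pullback (g ⁻¹ᵁ U).ι).map f1 = (Over.pullback (g ⁻¹ᵁ U).ι).map f2 := h12
  let Y : Over S := Over.mk (Y'.hom ≫ g)
  have hYs : Smooth Y.hom := by
    show Smooth (Y'.hom ≫ g)
    infer_instance
  have hw : ∀ f : Y' ⟶ (Over.pullback g).obj N, f.left ≫ pullback.snd N.hom g = Y'.hom :=
    fun f => Over.w f
  let ft : (Y' ⟶ (Over.pullback g).obj N) → (Y ⟶ N) := fun f =>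
    Over.homMk (f.left ≫ pullback.fst N.hom g) (by
      show (f.left ≫ pullback.fst N.hom g) ≫ N.hom = Y'.hom ≫ g
      rw [Category.assoc, pullback.condition, ← Category.assoc, hw])
  -- the comparison map
  have hrange : Set.range (pullback.fst (Y'.hom ≫ g) U.ι ≫ Y'.hom).base ⊆
      Set.range (g ⁻¹ᵁ U).ι.base := by
    rintro _ ⟨x, rfl⟩
    rw [Scheme.Opens.range_ι]
    show (pullback.fst (Y'.hom ≫ g) U.ι ≫ Y'.hom) x ∈ g ⁻¹ᵁ U
    show g ((pullback.fst (Y'.hom ≫ g) U.ι ≫ Y'.hom) x) ∈ U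
    rw [← Scheme.Hom.comp_apply, Category.assoc, pullback.condition, Scheme.Hom.comp_apply]
    exact (pullback.snd (Y'.hom ≫ g) U.ι x).2
  let lV := IsOpenImmersion.lift (g ⁻¹ᵁ U).ι (pullback.fst (Y'.hom ≫ g) U.ι ≫ Y'.hom) hrange
  have hlV : lV ≫ (g ⁻¹ᵁ U).ι = pullback.fst (Y'.hom ≫ g) U.ι ≫ Y'.hom :=
    IsOpenImmersion.lift_fac _ _ _
  let κ : pullback (Y'.hom ≫ g) U.ι ⟶ pullback Y'.hom (g ⁻¹ᵁ U).ι :=
    pullback.lift (pullback.fst _ _) lV hlV.symm
  have hκ : κ ≫ pullback.fst _ _ = pullback.fst _ _ := pullback.lift_fst _ _ _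
  have hmapfst : ∀ f : Y' ⟶ (Over.pullback g).obj N,
      ((Over.pullback (g ⁻¹ᵁ U).ι).map f).left ≫ pullback.fst _ _ = pullback.fst _ _ ≫ f.left :=
    fun f => pullback.lift_fst _ _ _
  have key : (Over.pullback U.ι).map (ft f1) = (Over.pullback U.ι).map (ft f2) := by
    ext
    apply pullback.hom_ext
    · have e1 : ∀ f, ((Over.pullback U.ι).map (ft f)).left ≫ pullback.fst N.hom U.ι =
          pullback.fst _ _ ≫ (ft f).left := fun f => pullback.lift_fst _ _ _
      rw [e1, e1]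
      show pullback.fst (Y'.hom ≫ g) U.ι ≫ f1.left ≫ pullback.fst N.hom g =
        pullback.fst (Y'.hom ≫ g) U.ι ≫ f2.left ≫ pullback.fst N.hom g
      rw [← hκ, Category.assoc, Category.assoc, ← reassoc_of% (hmapfst f1),
        ← reassoc_of% (hmapfst f2), h12]
    · have e2 : ∀ f, ((Over.pullback U.ι).map (ft f)).left ≫ pullback.snd N.hom U.ι =
          pullback.snd _ _ := fun f => pullback.lift_snd _ _ _
      rw [e2, e2]
  have h3 := hN Y hYs key
  ext
  apply pullback.hom_ext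
  · exact congrArg CommaMorphism.left h3
  · rw [hw, hw]

end Groth.Agent.Lib.Helper4.NeronBCUniq
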