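import Mathlib.Tactic
import Mathlib.AlgebraicGeometry.Morphisms.SchemeTheoreticallyDominant
import Groth.Prelude.Def_Neron
import Groth.Agent.Lib.Helper4.KummerSeq

set_option autoImplicit false
universe u
open CategoryTheory CategoryTheory.Limits AlgebraicGeometry MonObj

namespace Groth.Agent.Lib.Helper4.NeronClosed

/-- `Spec` of an injective ring hom is scheme-theoretically dominant. -/
theorem isSchemeTheoreticallyDominant_Spec_map {A B : CommRingCat.{u}} (φ : A ⟶ B)
    (hφ : Function.Injective φ.hom) : IsSchemeTheoreticallyDominant (Spec.map φ) := by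
  rw [isSchemeTheoreticallyDominant_iff, Scheme.ker_of_isAffine]
  have : RingHom.ker (Spec.map φ).appTop.hom = ⊥ := by
    rw [← RingHom.injective_iff_ker_eq_bot]
    have h := Scheme.ΓSpecIso_naturality φ
    have h2 : (Spec.map φ).appTop = (Scheme.ΓSpecIso A).hom ≫ φ ≫ (Scheme.ΓSpecIso B).inv := by
      rw [← Category.assoc, ← h, Category.assoc, Iso.hom_inv_id, Category.comp_id]
    rw [h2]
    simp only [CommRingCat.hom_comp, RingHom.coe_comp]
    exact ((ConcreteCategory.bijective_of_isIso (Scheme.ΓSpecIso B).inv).injective.comp hφ).comp
      (ConcreteCategory.bijective_of_isIso (Scheme.ΓSpecIso A).hom).injective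
  rw [this]
  exact map_bot (Scheme.IdealSheafData.equivOfIsAffine (X := Spec A)).symm

open KummerSeq in
theorem main (R : Type u) [CommRing R] [IsDomain R]
    (X G : Over (Spec (CommRingCat.of R)))
    (hX : Neron.IsNeronModelOf R X ((Neron.genericFibre R).obj X) (Iso.refl _))
    (i : G ⟶ X) [IsClosedImmersion i.left] [Smooth G.hom] :
    Neron.IsNeronModelOf R G ((Neron.genericFibre R).obj G) (Iso.refl _) := by
  obtain ⟨smX, sepX, lftX, qcX, mpX⟩ := hX
  have hw : i.left ≫ X.hom = G.hom := Over.w i
  refine ⟨inferInstance, ?_, ?_, ?_, ?_⟩
  · rw [← hw]; infer_instance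
  · rw [← hw]; infer_instance
  · rw [← hw]; infer_instance
  · intro Y hY
    have monoi : Mono i := by
      have : Mono ((Over.forget _).map i) := inferInstanceAs (Mono i.left)
      exact (Over.forget _).mono_of_mono_map this
    have monoFi : Mono ((Neron.genericFibre R).map i) := inferInstance
    constructor
    · intro g₁ g₂ h
      simp only [Iso.refl_hom, Category.comp_id] at h
      have h2 : g₁ ≫ i = g₂ ≫ i := (mpX Y hY).1 (by
        simp only [Iso.refl_hom, Category.comp_id, Functor.map_comp, h])
      exact (cancel_mono i).mp h2
    · intro h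
      obtain ⟨g', hg'⟩ := (mpX Y hY).2 (h ≫ (Neron.genericFibre R).map i)
      simp only [Iso.refl_hom, Category.comp_id] at hg'
      -- the closed subscheme g'⁻¹(G) of Y
      let z : pullback g'.left i.left ⟶ Y.left := pullback.fst g'.left i.left
      have hz : IsClosedImmersion z := inferInstance
      -- the generic fibre is scheme theoretically dominant
      let j : ((Neron.genericFibre R).obj Y).left ⟶ Y.left := pullback.fst Y.hom (Neron.genPt R)
      have hj : IsSchemeTheoreticallyDominant j := by
        have : IsSchemeTheoreticallyDominant (Neron.genPt R) :=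
          isSchemeTheoreticallyDominant_Spec_map _ (IsFractionRing.injective R (FractionRing R))
        have : Flat Y.hom := inferInstance
        exact IsSchemeTheoreticallyDominant.pullbackFst _ _
      have sqY := isPullback_pullback_map (Neron.genPt R) g'
      have sqG := isPullback_pullback_map (Neron.genPt R) i
      have hfac : j ≫ g'.left = (h.left ≫ pullback.fst G.hom (Neron.genPt R)) ≫ i.left := by
        have h1 : j ≫ g'.left = ((Neron.genericFibre R).map g').left ≫
            pullback.fst X.hom (Neron.genPt R) := sqY.w
        rw [h1, hg', Over.comp_left, Category.assoc, Category.assoc]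
        congr 1
        exact sqG.w.symm
      let l := pullback.lift j (h.left ≫ pullback.fst G.hom _) hfac
      have hl : l ≫ z = j := pullback.lift_fst _ _ _
      have hker : z.ker = ⊥ := by
        have := l.le_ker_comp z
        rw [hl, hj.ker_eq_bot] at this
        exact le_bot_iff.mp this
      have hziso : IsIso z := IsClosedImmersion.isIso_iff_ker_eq_bot.mpr hker
      let gl : Y.left ⟶ G.left := inv z ≫ pullback.snd g'.left i.left
      have hgl : gl ≫ i.left = g'.left := by
        show (inv z ≫ pullback.snd g'.left i.left) ≫ i.left = g'.left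
        rw [Category.assoc, ← pullback.condition, IsIso.inv_hom_id_assoc]
      let g : Y ⟶ G := Over.homMk gl (by rw [← hw, ← Category.assoc, hgl, Over.w])
      refine ⟨g, ?_⟩
      simp only [Iso.refl_hom, Category.comp_id]
      rw [← cancel_mono ((Neron.genericFibre R).map i), ← Functor.map_comp, ← hg']
      congr 1
      ext
      exact hgl

end Groth.Agent.Lib.Helper4.NeronClosed
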