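import Mathlib.Tactic
import Mathlib.AlgebraicGeometry.Morphisms.Etale
import Mathlib.AlgebraicGeometry.Morphisms.Smooth
import Mathlib.AlgebraicGeometry.Morphisms.Separated
import Mathlib.AlgebraicGeometry.Pullbacks
import Mathlib.RingTheory.Algebraic.Integral
import Mathlib.RingTheory.Flat.TorsionFree
import Mathlib.RingTheory.DedekindDomain.Basic
import Groth.Prelude.Def_Neron
import Groth.Agent.Lib.Helper4.BCBij

set_option autoImplicit false
universe u
open CategoryTheory AlgebraicGeometry Limits

namespace Groth.Agent.Lib.Helper4.NeronFEt

theorem smooth_specMap (R R' : Type u) [CommRing R] [CommRing R'] [Algebra R R']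
    [Algebra.Etale R R'] : Smooth (Spec.map (CommRingCat.ofHom (algebraMap R R'))) := by
  rw [HasRingHomProperty.Spec_iff (P := @Smooth)]
  simp only [CommRingCat.hom_ofHom]
  rw [RingHom.smooth_algebraMap]
  infer_instance

attribute [local instance] FractionRing.liftAlgebra in
theorem isPullback_genPt (R R' : Type u) [CommRing R] [IsDedekindDomain R]
    [CommRing R'] [IsDedekindDomain R'] [Algebra R R'] [Module.Finite R R'] [Algebra.Etale R R'] :
    IsPullback (Neron.genPt R')
      (Spec.map (CommRingCat.ofHom (algebraMap (FractionRing R) (FractionRing R'))))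
      (Spec.map (CommRingCat.ofHom (algebraMap R R'))) (Neron.genPt R) := by
  have : Algebra.IsPushout R (FractionRing R) R' (FractionRing R') := inferInstance
  have h := CommRingCat.isPushout_of_isPushout R (FractionRing R) R' (FractionRing R')
  exact (isPullback_SpecMap_of_isPushout _ _ _ _ h).flip

theorem main11103 (R R' : Type u) [CommRing R] [IsDedekindDomain R]
    [CommRing R'] [IsDedekindDomain R'] [Algebra R R'] [Module.Finite R R'] [Algebra.Etale R R']
    (N : Over (Spec (CommRingCat.of R)))
    (hN : Neron.IsNeronModelOf R N ((Neron.genericFibre R).obj N) (Iso.refl _)) :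
    Neron.IsNeronModelOf R'
      ((Over.pullback (Spec.map (CommRingCat.ofHom (algebraMap R R')))).obj N)
      ((Neron.genericFibre R').obj ((Over.pullback (Spec.map (CommRingCat.ofHom (algebraMap R R')))).obj N))
      (Iso.refl _) := by
  obtain ⟨h1, h2, h3, h4, h5⟩ := hN
  have hg := smooth_specMap R R'
  refine ⟨?_, ?_, ?_, ?_, ?_⟩
  · show Smooth (pullback.snd N.hom _)
    infer_instance
  · show IsSeparated (pullback.snd N.hom _)
    infer_instance
  · show LocallyOfFiniteType (pullback.snd N.hom _)
    infer_instance
  · show QuasiCompact (pullback.snd N.hom _)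
    infer_instance
  · intro Y' hY'
    have hb := (BCBij.bijective_pullback_map_iff (isPullback_genPt R R') N Y').mpr (by
      have hs : Smooth ((Over.map (Spec.map (CommRingCat.ofHom (algebraMap R R')))).obj Y').hom := by
        show Smooth (Y'.hom ≫ Spec.map (CommRingCat.ofHom (algebraMap R R')))
        infer_instance
      have := h5 _ hs
      convert this using 2
      simp)
    convert hb using 2
    simp

end Groth.Agent.Lib.Helper4.NeronFEt
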