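import Mathlib.Tactic
import Mathlib.AlgebraicGeometry.Morphisms.Smooth
import Mathlib.CategoryTheory.Comma.Over.Pullback
import Groth.Prelude.Def_NonAbH2
import Groth.Prelude.Def_CInt

set_option autoImplicit false
universe u
open CategoryTheory MonoidalCategory CartesianMonoidalCategory MonObj AlgebraicGeometry Limits

namespace Groth.Agent.Lib.Helper4.NeronTorsor

variable {S : Scheme.{u}}

theorem smooth_tensor (A B : Over S) [Smooth A.hom] [Smooth B.hom] : Smooth (A ⊗ B).hom := by
  rw [Over.tensorObj_hom]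
  infer_instance

/-- joint monicity of the images of the projections under a limit-preserving functor -/
theorem map_hom_ext {C D : Type*} [Category C] [Category D] [CartesianMonoidalCategory C]
    (F : C ⥤ D) [PreservesLimitsOfShape (Discrete WalkingPair) F] {A B : C} {T : D}
    (f g : T ⟶ F.obj (A ⊗ B)) (h1 : f ≫ F.map (fst A B) = g ≫ F.map (fst A B))
    (h2 : f ≫ F.map (snd A B) = g ≫ F.map (snd A B)) : f = g := by
  have hl : IsLimit (F.mapCone (BinaryFan.mk (fst A B) (snd A B))) :=
    isLimitOfPreserves F (tensorProductIsBinaryProduct A B)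
  apply hl.hom_ext
  rintro ⟨⟨⟩⟩
  · exact h1
  · exact h2

theorem main {T : Scheme.{u}} (j : T ⟶ S)
    (G N : Over S) [GrpObj G] [Smooth G.hom] [Smooth N.hom]
    (hG : ∀ Z : Over S, Smooth Z.hom →
      Function.Bijective (fun g : Z ⟶ G => (Over.pullback j).map g))
    (hN : ∀ Z : Over S, Smooth Z.hom →
      Function.Bijective (fun g : Z ⟶ N => (Over.pullback j).map g))
    (a : AlgGrp.Action G N)
    (h0 : IsIso ((Over.pullback j).map (lift a.act (snd G N)))) :
    IsIso (lift a.act (snd G N)) := by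
  set F := Over.pullback j with hF
  set θ := lift a.act (snd G N) with hθ
  have hθ1 : θ ≫ fst N N = a.act := lift_fst _ _
  have hθ2 : θ ≫ snd N N = snd G N := lift_snd _ _
  have hsGN : Smooth (G ⊗ N).hom := smooth_tensor G N
  have hsNN : Smooth (N ⊗ N).hom := smooth_tensor N N
  obtain ⟨ψ₁, hψ₁⟩ := (hG (N ⊗ N) hsNN).2 (inv (F.map θ) ≫ F.map (fst G N))
  have hψ₁' : F.map ψ₁ = inv (F.map θ) ≫ F.map (fst G N) := hψ₁
  let ψ : N ⊗ N ⟶ G ⊗ N := lift ψ₁ (snd N N)
  have hFψ : F.map ψ = inv (F.map θ) := by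
    apply map_hom_ext F
    · rw [← F.map_comp, lift_fst, hψ₁']
    · rw [← F.map_comp, lift_snd, ← hθ2, F.map_comp, IsIso.inv_hom_id_assoc]
  refine ⟨ψ, ?_, ?_⟩
  · apply CartesianMonoidalCategory.hom_ext
    · rw [Category.assoc, lift_fst, Category.id_comp]
      apply (hG (G ⊗ N) hsGN).1
      show F.map (θ ≫ ψ₁) = F.map (fst G N)
      rw [F.map_comp, hψ₁', IsIso.hom_inv_id_assoc]
    · rw [Category.assoc, lift_snd, Category.id_comp, hθ2]
  · apply CartesianMonoidalCategory.hom_ext
    · rw [Category.assoc, hθ1, Category.id_comp]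
      apply (hN (N ⊗ N) hsNN).1
      show F.map (ψ ≫ a.act) = F.map (fst N N)
      rw [F.map_comp, hFψ, ← hθ1, F.map_comp, IsIso.inv_hom_id_assoc]
    · rw [Category.assoc, hθ2, lift_snd, Category.id_comp]

theorem main13430 {k : Type u} [Field k] [CharZero k] {S : Scheme.{u}} (σ : S ⟶ Spec (CommRingCat.of k)) [IsLocallyNoetherian S] (S₀ : S.Opens) (hS₀ : CInt.IsSchematicallyDense S₀)
    (G : Over S) [GrpObj G] [Smooth G.hom]
    (hG : ∀ Z : Over S, Smooth Z.hom → Function.Bijective (fun g : Z ⟶ G => (Over.pullback S₀.ι).map g))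
    (N : Over S) [Smooth N.hom] [Surjective N.hom]
    (hN : ∀ Z : Over S, Smooth Z.hom → Function.Bijective (fun g : Z ⟶ N => (Over.pullback S₀.ι).map g))
    (a : AlgGrp.Action G N)
    (h0 : IsIso ((Over.pullback S₀.ι).map (lift a.act (snd G N)))) :
    NonAbH1.IsPseudoTorsorSch a :=
  main S₀.ι G N hG hN a h0

end Groth.Agent.Lib.Helper4.NeronTorsor
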