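import Mathlib.RingTheory.Kaehler.Basic
import Mathlib.RingTheory.MvPolynomial.Ideal
import Mathlib.Algebra.MvPolynomial.PDeriv
import Mathlib.Tactic

namespace Groth.Agent.Lib.Helper4.NodeKaehler

open MvPolynomial

variable (k : Type*) [Field k]

/-- membership in the node ideal -/
theorem mem_node_iff (p : MvPolynomial (Fin 2) k) :
    p ∈ Ideal.span {(X 0 * X 1 : MvPolynomial (Fin 2) k)} ↔
      ∀ m ∈ p.support, m 0 ≠ 0 ∧ m 1 ≠ 0 := by
  have h1 : (X 0 * X 1 : MvPolynomial (Fin 2) k) =
      monomial (Finsupp.single 0 1 + Finsupp.single 1 1) 1 := by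
    rw [X, X, monomial_mul, one_mul]
  have h2 : ({(X 0 * X 1 : MvPolynomial (Fin 2) k)} : Set _) =
      (fun s => monomial s (1 : k)) '' {Finsupp.single (0 : Fin 2) 1 + Finsupp.single 1 1} := by
    rw [Set.image_singleton, h1]
  rw [h2, mem_ideal_span_monomial_image]
  refine forall₂_congr fun m _ => ?_
  simp only [Set.mem_singleton_iff, exists_eq_left]
  constructor
  · intro h
    have h0 := h 0
    have h1 := h 1
    simp at h0 h1
    constructor <;> omega
  · intro h i
    fin_cases i <;> simp <;> omega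

/-- Euler operator coefficient -/
theorem coeff_X_mul_pderiv (i : Fin 2) (p : MvPolynomial (Fin 2) k) (m : Fin 2 →₀ ℕ) :
    coeff m (X i * pderiv i p) = (m i : k) * coeff m p := by
  induction p using MvPolynomial.induction_on' with
  | monomial s a =>
    rw [pderiv_monomial, X, monomial_mul, one_mul, coeff_monomial, coeff_monomial]
    by_cases hs : s i = 0
    · rw [hs]
      simp only [Nat.cast_zero, mul_zero, ite_self]
      split_ifs with h
      · rw [← h, hs]; simp
      · simp
    · have : Finsupp.single i 1 + (s - Finsupp.single i 1) = s := by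
        ext j
        simp only [Finsupp.coe_add, Finsupp.coe_tsub, Pi.add_apply, Pi.sub_apply]
        by_cases hj : j = i
        · subst hj; simp; omega
        · rw [Finsupp.single_eq_of_ne hj]; simp
      rw [this]
      split_ifs with h
      · rw [h, mul_comm]
      · simp
  | add p q hp hq =>
    rw [map_add, mul_add, coeff_add, hp, hq, coeff_add, mul_add]


/-- Euler derivation on the polynomial ring -/
noncomputable def euler (i : Fin 2) : Derivation k (MvPolynomial (Fin 2) k) (MvPolynomial (Fin 2) k) :=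
  (X i : MvPolynomial (Fin 2) k) • (pderiv i)

theorem euler_apply (i : Fin 2) (p : MvPolynomial (Fin 2) k) :
    euler k i p = X i * pderiv i p := rfl

theorem euler_mem (i : Fin 2) (p : MvPolynomial (Fin 2) k)
    (hp : p ∈ Ideal.span {(X 0 * X 1 : MvPolynomial (Fin 2) k)}) :
    euler k i p ∈ Ideal.span {(X 0 * X 1 : MvPolynomial (Fin 2) k)} := by
  rw [mem_node_iff] at hp ⊢
  intro m hm
  apply hp
  rw [mem_support_iff] at hm ⊢
  intro h
  apply hm
  rw [euler_apply, coeff_X_mul_pderiv, h, mul_zero]

/-- the node ideal -/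
noncomputable abbrev nodeI : Ideal (MvPolynomial (Fin 2) k) := Ideal.span {(X 0 * X 1 : MvPolynomial (Fin 2) k)}

variable [CharZero k]

theorem main
    (P : MvPolynomial (Fin 2) k ⧸ Ideal.span {(MvPolynomial.X 0 * MvPolynomial.X 1 : MvPolynomial (Fin 2) k)}) :
    KaehlerDifferential.D k (MvPolynomial (Fin 2) k ⧸ Ideal.span {(MvPolynomial.X 0 * MvPolynomial.X 1 : MvPolynomial (Fin 2) k)}) P = 0 ↔
      P ∈ Set.range (algebraMap k (MvPolynomial (Fin 2) k ⧸ Ideal.span {(MvPolynomial.X 0 * MvPolynomial.X 1 : MvPolynomial (Fin 2) k)})) := by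
  constructor
  · intro hP
    have hsurj : Function.Surjective (Ideal.Quotient.mkₐ k (nodeI k)) :=
      Ideal.Quotient.mkₐ_surjective k (nodeI k)
    have hd : ∀ i : Fin 2, ∀ x, (Ideal.Quotient.mkₐ k (nodeI k)) x = 0 →
        (Ideal.Quotient.mkₐ k (nodeI k)) (euler k i x) = 0 := by
      intro i x hx
      rw [Ideal.Quotient.mkₐ_eq_mk, Ideal.Quotient.eq_zero_iff_mem] at hx ⊢
      exact euler_mem k i x hx
    obtain ⟨p, rfl⟩ := hsurj P
    have key : ∀ i : Fin 2, euler k i p ∈ nodeI k := by
      intro i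
      have h1 := Derivation.liftOfSurjective_apply hsurj (hd i) p
      have h2 := Derivation.liftKaehlerDifferential_comp_D
        (Derivation.liftOfSurjective hsurj (hd i)) ((Ideal.Quotient.mkₐ k (nodeI k)) p)
      rw [hP, map_zero] at h2
      rw [← h2] at h1
      rw [← Ideal.Quotient.eq_zero_iff_mem, ← Ideal.Quotient.mkₐ_eq_mk k, ← h1]
    refine ⟨coeff 0 p, ?_⟩
    rw [Ideal.Quotient.mkₐ_eq_mk, IsScalarTower.algebraMap_apply k (MvPolynomial (Fin 2) k),
      Ideal.Quotient.algebraMap_eq, eq_comm, ← sub_eq_zero, ← map_sub,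
      Ideal.Quotient.eq_zero_iff_mem]
    change _ ∈ Ideal.span {(X 0 * X 1 : MvPolynomial (Fin 2) k)}
    rw [mem_node_iff]
    intro m hm
    rw [mem_support_iff, coeff_sub, MvPolynomial.algebraMap_eq, coeff_C] at hm
    have hm0 : m ≠ 0 := by
      rintro rfl
      simp at hm
    rw [if_neg (Ne.symm hm0), sub_zero] at hm
    have hk : ∀ i : Fin 2, m i ≠ 0 := by
      -- all coordinates nonzero
      by_contra hcon
      push Not at hcon
      obtain ⟨i, hi⟩ := hcon
      -- other coordinate j
      have hj : ∃ j : Fin 2, m j ≠ 0 := by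
        by_contra hall
        push Not at hall
        exact hm0 (Finsupp.ext hall)
      obtain ⟨j, hj⟩ := hj
      have hmem := key j
      change _ ∈ Ideal.span {(X 0 * X 1 : MvPolynomial (Fin 2) k)} at hmem
      rw [mem_node_iff] at hmem
      have hcoef : coeff m (euler k j p) ≠ 0 := by
        rw [euler_apply, coeff_X_mul_pderiv]
        exact mul_ne_zero (Nat.cast_ne_zero.2 hj) hm
      have := hmem m (mem_support_iff.2 hcoef)
      fin_cases i
      · exact this.1 hi
      · exact this.2 hi
    exact ⟨hk 0, hk 1⟩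
  · rintro ⟨c, rfl⟩
    exact (KaehlerDifferential.D k _).map_algebraMap c

end Groth.Agent.Lib.Helper4.NodeKaehler
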