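import Groth.Agent.Lib.Helper4.NodeKaehler
import Mathlib.RingTheory.Kaehler.Basic
import Mathlib.Tactic

namespace Groth.Agent.Lib.Helper4.NodeKaehler2

open MvPolynomial TensorProduct
open Groth.Agent.Lib.Helper4.NodeKaehler

universe u

variable (k : Type u) [Field k]

/-- functional on `B ⊗ Ω_A` induced by a derivation of `A` -/
noncomputable def F (δ : Derivation k (MvPolynomial (Fin 2) k) (MvPolynomial (Fin 2) k)) :
    (MvPolynomial (Fin 2) k ⧸ nodeI k) ⊗[MvPolynomial (Fin 2) k] Ω[MvPolynomial (Fin 2) k⁄k]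
      →ₗ[MvPolynomial (Fin 2) k] (MvPolynomial (Fin 2) k ⧸ nodeI k) :=
  (TensorProduct.rid (MvPolynomial (Fin 2) k) (MvPolynomial (Fin 2) k ⧸ nodeI k)).toLinearMap ∘ₗ
    (LinearMap.lTensor (MvPolynomial (Fin 2) k ⧸ nodeI k) δ.liftKaehlerDifferential)

theorem F_tmul_D (δ : Derivation k (MvPolynomial (Fin 2) k) (MvPolynomial (Fin 2) k))
    (b : MvPolynomial (Fin 2) k ⧸ nodeI k) (a : MvPolynomial (Fin 2) k) :
    F k δ (b ⊗ₜ KaehlerDifferential.D k _ a) = Ideal.Quotient.mk (nodeI k) (δ a) * b := by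
  simp only [F, LinearMap.coe_comp, LinearEquiv.coe_coe, Function.comp_apply, LinearMap.lTensor_tmul,
    Derivation.liftKaehlerDifferential_comp_D, TensorProduct.rid_tmul]
  obtain ⟨b, rfl⟩ := Ideal.Quotient.mk_surjective b
  rfl

theorem x_dy_ne_zero :
    (Ideal.Quotient.mk (nodeI k) (X 0)) • KaehlerDifferential.D k (MvPolynomial (Fin 2) k ⧸ nodeI k)
      (Ideal.Quotient.mk (nodeI k) (X 1)) ≠ 0 := by
  intro h
  have hex := KaehlerDifferential.exact_kerCotangentToTensor_mapBaseChange k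
    (MvPolynomial (Fin 2) k) (MvPolynomial (Fin 2) k ⧸ nodeI k) Ideal.Quotient.mk_surjective
  have hmem : KaehlerDifferential.mapBaseChange k (MvPolynomial (Fin 2) k)
      (MvPolynomial (Fin 2) k ⧸ nodeI k)
      ((Ideal.Quotient.mk (nodeI k) (X 0)) ⊗ₜ KaehlerDifferential.D k _ (X 1)) = 0 := by
    rw [KaehlerDifferential.mapBaseChange_tmul, KaehlerDifferential.map_D]
    exact h
  obtain ⟨c, hc⟩ := (hex _).1 hmem
  obtain ⟨⟨z, hz⟩, rfl⟩ := Ideal.toCotangent_surjective _ c
  rw [KaehlerDifferential.kerCotangentToTensor_toCotangent] at hc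
  have hzI : z ∈ nodeI k := by
    rw [RingHom.mem_ker] at hz
    exact Ideal.Quotient.eq_zero_iff_mem.1 hz
  obtain ⟨q, hq⟩ := Ideal.mem_span_singleton'.1 hzI
  -- apply functionals
  have h1 := congrArg (F k (pderiv 1)) hc
  have h0 := congrArg (F k (pderiv 0)) hc
  rw [F_tmul_D, F_tmul_D] at h1 h0
  simp only [mul_one] at h1 h0
  have e1 : pderiv 1 z = X 0 * q + X 0 * X 1 * pderiv 1 q := by
    rw [← hq]
    simp only [Derivation.leibniz, pderiv_X, smul_eq_mul, Pi.single_apply]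
    simp
    ring
  have e0 : pderiv 0 z = X 1 * q + X 0 * X 1 * pderiv 0 q := by
    rw [← hq]
    simp only [Derivation.leibniz, pderiv_X, smul_eq_mul, Pi.single_apply]
    simp
    ring
  have hX11 : pderiv (1 : Fin 2) (X 1 : MvPolynomial (Fin 2) k) = 1 := by
    rw [pderiv_X]; simp
  have hX01 : pderiv (0 : Fin 2) (X 1 : MvPolynomial (Fin 2) k) = 0 := by
    rw [pderiv_X]; simp
  rw [hX11, map_one, one_mul, e1, ← sub_eq_zero, ← map_sub, Ideal.Quotient.eq_zero_iff_mem] at h1
  rw [hX01, map_zero, zero_mul, e0, Ideal.Quotient.eq_zero_iff_mem] at h0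
  -- remove the multiples of X0 X1
  have hI : ∀ r : MvPolynomial (Fin 2) k, X 0 * X 1 * r ∈ nodeI k := fun r =>
    Ideal.mul_mem_right _ _ (Ideal.subset_span (Set.mem_singleton _))
  have h1' : X 0 * q - X 0 ∈ nodeI k := by
    have := Ideal.sub_mem _ h1 (hI (pderiv 1 q))
    convert this using 1
    ring
  have h0' : X 1 * q ∈ nodeI k := by
    have := Ideal.sub_mem _ h0 (hI (pderiv 0 q))
    convert this using 1
    ring
  change _ ∈ Ideal.span {(X 0 * X 1 : MvPolynomial (Fin 2) k)} at h1' h0'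
  rw [mem_node_iff] at h1' h0'
  -- constant coefficient of q
  have hq0 : coeff 0 q = 0 := by
    by_contra hne
    have hc : coeff (Finsupp.single (1 : Fin 2) 1) (X 1 * q) ≠ 0 := by
      rw [coeff_X_mul', if_pos (by simp), tsub_self]
      exact hne
    have := (h0' _ (mem_support_iff.2 hc)).1
    simp at this
  have hq1 : coeff 0 q = 1 := by
    by_contra hne
    have hc : coeff (Finsupp.single (0 : Fin 2) 1) (X 0 * q - X 0) ≠ 0 := by
      rw [coeff_sub, coeff_X_mul', if_pos (by simp), tsub_self, coeff_X, sub_ne_zero]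
      simpa using hne
    have := (h1' _ (mem_support_iff.2 hc)).2
    simp at this
  rw [hq0] at hq1
  exact zero_ne_one hq1

variable [CharZero k]

theorem const_of_euler_mem (p : MvPolynomial (Fin 2) k) (key : ∀ i : Fin 2, euler k i p ∈ nodeI k) :
    Ideal.Quotient.mk (nodeI k) p ∈
      Set.range (algebraMap k (MvPolynomial (Fin 2) k ⧸ nodeI k)) := by
  refine ⟨coeff 0 p, ?_⟩
  rw [IsScalarTower.algebraMap_apply k (MvPolynomial (Fin 2) k),
    Ideal.Quotient.algebraMap_eq, eq_comm, ← sub_eq_zero, ← map_sub,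
    Ideal.Quotient.eq_zero_iff_mem]
  change _ ∈ Ideal.span {(X 0 * X 1 : MvPolynomial (Fin 2) k)}
  rw [mem_node_iff]
  intro m hm
  rw [mem_support_iff, coeff_sub, MvPolynomial.algebraMap_eq, coeff_C] at hm
  have hm0 : m ≠ 0 := by
    rintro rfl
    simp at hm
  rw [if_neg (Ne.symm hm0), sub_zero] at hm
  have hk : ∀ i : Fin 2, m i ≠ 0 := by
    by_contra hcon
    push Not at hcon
    obtain ⟨i, hi⟩ := hcon
    have hj : ∃ j : Fin 2, m j ≠ 0 := by
      by_contra hall
      push Not at hall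
      exact hm0 (Finsupp.ext hall)
    obtain ⟨j, hj⟩ := hj
    have hmem := key j
    change _ ∈ Ideal.span {(X 0 * X 1 : MvPolynomial (Fin 2) k)} at hmem
    rw [mem_node_iff] at hmem
    have hcoef : coeff m (euler k j p) ≠ 0 := by
      rw [euler_apply, coeff_X_mul_pderiv]
      exact mul_ne_zero (Nat.cast_ne_zero.2 hj) hm
    have := hmem m (mem_support_iff.2 hcoef)
    fin_cases i
    · exact this.1 hi
    · exact this.2 hi
  exact ⟨hk 0, hk 1⟩

theorem main :
    ¬ Function.Surjective (KaehlerDifferential.D k (MvPolynomial (Fin 2) k ⧸ Ideal.span {(MvPolynomial.X 0 * MvPolynomial.X 1 : MvPolynomial (Fin 2) k)})) := by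
  intro hsurjD
  obtain ⟨P, hP⟩ := hsurjD ((Ideal.Quotient.mk (nodeI k) (X 0)) •
    KaehlerDifferential.D k (MvPolynomial (Fin 2) k ⧸ nodeI k) (Ideal.Quotient.mk (nodeI k) (X 1)))
  have hsurj : Function.Surjective (Ideal.Quotient.mkₐ k (nodeI k)) :=
    Ideal.Quotient.mkₐ_surjective k (nodeI k)
  have hd : ∀ i : Fin 2, ∀ x, (Ideal.Quotient.mkₐ k (nodeI k)) x = 0 →
      (Ideal.Quotient.mkₐ k (nodeI k)) (euler k i x) = 0 := by
    intro i x hx
    rw [Ideal.Quotient.mkₐ_eq_mk, Ideal.Quotient.eq_zero_iff_mem] at hx ⊢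
    exact euler_mem k i x hx
  obtain ⟨p, rfl⟩ := hsurj P
  have key : ∀ i : Fin 2, euler k i p ∈ nodeI k := by
    intro i
    have h1 := Derivation.liftOfSurjective_apply hsurj (hd i) p
    have h2 := Derivation.liftKaehlerDifferential_comp_D
      (Derivation.liftOfSurjective hsurj (hd i)) ((Ideal.Quotient.mkₐ k (nodeI k)) p)
    rw [hP, map_smul, Derivation.liftKaehlerDifferential_comp_D] at h2
    have h3 := Derivation.liftOfSurjective_apply hsurj (hd i) (X 1)
    rw [Ideal.Quotient.mkₐ_eq_mk] at h3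
    rw [h3, euler_apply, Ideal.Quotient.mkₐ_eq_mk, smul_eq_mul, ← map_mul] at h2
    have hz : Ideal.Quotient.mk (nodeI k) (X 0 * (X i * pderiv i (X 1))) = 0 := by
      rw [Ideal.Quotient.eq_zero_iff_mem]
      fin_cases i
      · have : pderiv (0 : Fin 2) (X 1 : MvPolynomial (Fin 2) k) = 0 := by rw [pderiv_X]; simp
        simp only [Fin.zero_eta, this, mul_zero]
        exact Ideal.zero_mem _
      · have : pderiv (1 : Fin 2) (X 1 : MvPolynomial (Fin 2) k) = 1 := by rw [pderiv_X]; simp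
        simp only [Fin.mk_one, this, mul_one]
        exact Ideal.subset_span (Set.mem_singleton _)
    rw [hz] at h2
    rw [Ideal.Quotient.mkₐ_eq_mk] at h1
    rw [← h2] at h1
    exact Ideal.Quotient.eq_zero_iff_mem.1 h1.symm
  obtain ⟨c, hc⟩ := const_of_euler_mem k p key
  rw [Ideal.Quotient.mkₐ_eq_mk, ← hc, Derivation.map_algebraMap] at hP
  exact x_dy_ne_zero k hP.symm

end Groth.Agent.Lib.Helper4.NodeKaehler2

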