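import Mathlib.RingTheory.Polynomial.Resultant.Basic
import Mathlib.RingTheory.Norm.Basic
import Mathlib.RingTheory.AdjoinRoot
import Mathlib.LinearAlgebra.Charpoly.Basic
import Mathlib.LinearAlgebra.Matrix.Charpoly.Minpoly
import Mathlib.LinearAlgebra.Matrix.Charpoly.Coeff
import Mathlib.FieldTheory.Minpoly.Field
import Mathlib.Tactic

set_option autoImplicit false

namespace Groth.Agent.Lib.Helper4.NormCharpoly
open Polynomial

universe u

section L1
variable {R : Type u} [CommRing R]

/-- explicit matrix of multiplication by `P` on `R[X]/(g)` -/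
noncomputable def W (g P : R[X]) (n : ℕ) : Matrix (Fin n) (Fin n) R :=
  Matrix.of fun i j => ((P * X ^ (j : ℕ)) %ₘ g).coeff (i : ℕ)

theorem repr_aux (g : R[X]) (hg : g.Monic) (P : R[X]) (i j : Fin g.natDegree) :
    (AdjoinRoot.powerBasisAux' hg).repr (AdjoinRoot.mk g P * AdjoinRoot.powerBasisAux' hg j) i =
      ((P * X ^ (j : ℕ)) %ₘ g).coeff (i : ℕ) := by
  have h1 : AdjoinRoot.powerBasisAux' hg j = AdjoinRoot.mk g (X ^ (j : ℕ)) := by
    have := (AdjoinRoot.powerBasis' hg).basis_eq_pow j
    rw [AdjoinRoot.powerBasis'_gen] at this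
    rw [map_pow, AdjoinRoot.mk_X]
    exact this
  rw [h1, ← map_mul, AdjoinRoot.powerBasisAux'_repr_apply_to_fun, AdjoinRoot.modByMonicHom_mk]

theorem norm_eq_det_W (g : R[X]) (hg : g.Monic) (P : R[X]) (n : ℕ) (hn : g.natDegree = n) :
    Algebra.norm R (AdjoinRoot.mk g P) = (W g P n).det := by
  subst hn
  rw [Algebra.norm_eq_matrix_det (AdjoinRoot.powerBasis' hg).basis]
  congr 1
  ext i j
  rw [Algebra.leftMulMatrix_eq_repr_mul]
  exact repr_aux g hg P i j

theorem W_map {S : Type u} [CommRing S] (φ : R →+* S) (g : R[X]) (hg : g.Monic) (P : R[X]) (n : ℕ) :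
    W (g.map φ) (P.map φ) n = (W g P n).map φ := by
  ext i j
  simp only [W, Matrix.of_apply, Matrix.map_apply]
  rw [← Polynomial.coeff_map, Polynomial.map_modByMonic φ hg, Polynomial.map_mul,
    Polynomial.map_pow, Polynomial.map_X]

theorem norm_map {S : Type u} [CommRing S] (φ : R →+* S) (g : R[X]) (hg : g.Monic) (P : R[X]) :
    φ (Algebra.norm R (AdjoinRoot.mk g P)) =
      Algebra.norm S (AdjoinRoot.mk (g.map φ) (P.map φ)) := by
  cases subsingleton_or_nontrivial S
  · exact Subsingleton.elim _ _
  rw [norm_eq_det_W g hg P _ rfl, norm_eq_det_W (g.map φ) (hg.map φ) (P.map φ) g.natDegree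
    (hg.natDegree_map φ), W_map φ g hg, RingHom.map_det]
  rfl

end L1

section aeval
variable {R : Type u} [CommRing R] {S : Type u} [CommRing S]

theorem aeval_map_matrix {ι : Type u} [Fintype ι] [DecidableEq ι] (φ : R →+* S)
    (A : Matrix ι ι R) (P : R[X]) :
    aeval (A.map φ) (P.map φ) = (aeval A P).map φ := by
  have := Polynomial.map_aeval_eq_aeval_map (R := R) (S := Matrix ι ι R) (T := S)
    (U := Matrix ι ι S) (φ := φ) (ψ := φ.mapMatrix) (by
      ext r i j
      simp only [RingHom.coe_comp, Function.comp_apply, Matrix.algebraMap_matrix_apply,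
        RingHom.mapMatrix_apply, Matrix.map_apply]
      split_ifs <;> simp) P A
  simpa using this.symm

end aeval

/-- the statement, as a predicate on `P` -/
def Q {R : Type u} [CommRing R] (P : R[X]) : Prop :=
  ∀ (ι : Type u) [Fintype ι] [DecidableEq ι] (A : Matrix ι ι R),
    Algebra.norm R (AdjoinRoot.mk A.charpoly P) = (aeval A P).det

theorem Q_injective (R S : Type u) [CommRing R] [CommRing S] (φ : R →+* S)
    (hφ : Function.Injective φ) (P : R[X]) (IH : Q (P.map φ)) : Q P := by
  intro ι _ _ A
  apply hφ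
  have := IH ι (A.map φ)
  rw [Matrix.charpoly_map, ← norm_map φ _ (Matrix.charpoly_monic A), aeval_map_matrix] at this
  rw [this, RingHom.map_det]
  rfl

theorem Q_surjective (R S : Type u) [CommRing R] [CommRing S] (φ : R →+* S)
    (hφ : Function.Surjective φ) (P : S[X]) (IH : ∀ q : R[X], Q q) : Q P := by
  intro ι _ _ A
  obtain ⟨P', rfl⟩ := Polynomial.map_surjective φ hφ P
  obtain ⟨A', rfl⟩ : ∃ A' : Matrix ι ι R, A'.map φ = A := by
    choose f hf using hφ
    exact ⟨Matrix.of fun i j => f (A i j), by ext i j; simp [hf]⟩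
  have := IH P' ι A'
  rw [Matrix.charpoly_map, ← norm_map φ _ (Matrix.charpoly_monic A'), aeval_map_matrix, this,
    RingHom.map_det]
  rfl

section field
variable {K : Type u} [Field K]

theorem norm_root_sub (g : K[X]) (hg : g.Monic) (b : K) :
    Algebra.norm K (AdjoinRoot.mk g (X - C b)) = (-1) ^ g.natDegree * g.eval b := by
  have hg0 : g ≠ 0 := hg.ne_zero
  let pb := AdjoinRoot.powerBasis' hg
  rw [Algebra.norm_eq_matrix_det pb.basis]
  have h1 : AdjoinRoot.mk g (X - C b) = pb.gen - algebraMap K _ b := by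
    simp [pb]
  rw [h1, map_sub, AlgHom.commutes]
  have h2 : (Algebra.leftMulMatrix pb.basis pb.gen).charpoly = g := by
    rw [charpoly_leftMulMatrix]
    show minpoly K (AdjoinRoot.root g) = g
    rw [AdjoinRoot.minpoly_root hg0, hg.leadingCoeff]; simp
  have h3 := Matrix.eval_charpoly (Algebra.leftMulMatrix pb.basis pb.gen) b
  rw [h2] at h3
  rw [h3]
  have h4 : (Algebra.leftMulMatrix pb.basis pb.gen - algebraMap K _ b) =
      -((Matrix.scalar _ b) - Algebra.leftMulMatrix pb.basis pb.gen) := by
    rw [neg_sub]; rfl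
  rw [h4, Matrix.det_neg]
  simp [pb]

theorem det_sub_scalar {ι : Type u} [Fintype ι] [DecidableEq ι] (A : Matrix ι ι K) (b : K) :
    (aeval A (X - C b : K[X])).det = (-1) ^ (Fintype.card ι) * A.charpoly.eval b := by
  rw [Matrix.eval_charpoly]
  have : aeval A (X - C b : K[X]) = -(Matrix.scalar ι b - A) := by
    simp [Algebra.algebraMap_eq_smul_one, Matrix.smul_one_eq_diagonal]
  rw [this, Matrix.det_neg]

theorem Q_splits (P : K[X]) (hP : P.Splits) : Q P := by
  intro ι _ _ A
  have hmon := Matrix.charpoly_monic A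
  have hdeg : A.charpoly.natDegree = Fintype.card ι := Matrix.charpoly_natDegree_eq_dim A
  have := hmon.free_adjoinRoot
  have := hmon.finite_adjoinRoot
  rw [hP.eq_prod_roots]
  simp only [map_mul, map_multiset_prod, Multiset.map_map, Function.comp_def]
  rw [Matrix.det_mul]
  congr 1
  · have : AdjoinRoot.mk A.charpoly (C P.leadingCoeff) = algebraMap K _ P.leadingCoeff := rfl
    rw [this, Algebra.norm_algebraMap]
    have hfr : Module.finrank K (AdjoinRoot A.charpoly) = Fintype.card ι := by
      rw [← hdeg]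
      exact (AdjoinRoot.powerBasis' hmon).finrank
    rw [hfr]
    simp [Algebra.algebraMap_eq_smul_one]
  · have key : ∀ q : K[X], (aeval A q).det =
        (Matrix.detMonoidHom.comp
          ((aeval A : K[X] →ₐ[K] Matrix ι ι K) : K[X] →* Matrix ι ι K)) q := fun q => rfl
    rw [key, map_multiset_prod, Multiset.map_map]
    congr 1
    apply Multiset.map_congr rfl
    intro b _
    simp only [Function.comp]
    rw [← key, norm_root_sub _ hmon, det_sub_scalar, hdeg]

end field

theorem Q_all {R : Type u} [CommRing R] (P : R[X]) : Q P := by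
  induction P using Polynomial.induction_of_Splits_of_injective_of_surjective with
  | Splits R P hP => exact Q_splits P hP
  | injective R S φ hφ P IH => exact Q_injective R S φ hφ P IH
  | surjective R S φ hφ P IH => exact Q_surjective R S φ hφ P IH

theorem main (k : Type u) [CommRing k] (M : Type u) [AddCommGroup M] [Module k M]
    [Module.Free k M] [Module.Finite k M] (u : M →ₗ[k] M) (P : Polynomial k) :
    Algebra.norm k (AdjoinRoot.mk u.charpoly P) = LinearMap.det (Polynomial.aeval u P) := by
  classical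
  let b := Module.Free.chooseBasis k M
  have h := Q_all P _ (LinearMap.toMatrix b b u)
  rw [← LinearMap.det_toMatrix b]
  have h2 : LinearMap.toMatrix b b (aeval u P) = aeval (LinearMap.toMatrix b b u) P := by
    have := Polynomial.aeval_algHom_apply (LinearMap.toMatrixAlgEquiv b).toAlgHom u P
    exact this.symm
  rw [h2, ← h]
  rfl

end Groth.Agent.Lib.Helper4.NormCharpoly
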