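import Mathlib.LinearAlgebra.Eigenspace.Zero
import Mathlib.RingTheory.Norm.Defs
import Mathlib.RingTheory.Artinian.Ring
import Mathlib.FieldTheory.IsAlgClosed.Basic
import Mathlib.RingTheory.LocalRing.ResidueField.Basic
import Mathlib.RingTheory.Nilpotent.Lemmas
import Mathlib.Tactic

namespace Groth.Agent.Lib.Helper4.NormLocal

open IsLocalRing

universe u

theorem main (k A : Type u) [Field k] [IsAlgClosed k] [CommRing A] [Algebra k A] [IsLocalRing A]
    [Module.Finite k A] (u : Aˣ) :
    algebraMap k (IsLocalRing.ResidueField A) (Algebra.norm k (u : A)) =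
      IsLocalRing.residue A (u : A) ^ Module.finrank k A := by
  have hfin : Module.Finite k (ResidueField A) :=
    Module.Finite.of_surjective (IsScalarTower.toAlgHom k A (ResidueField A)).toLinearMap
      IsLocalRing.residue_surjective
  have hint : Algebra.IsIntegral k (ResidueField A) := Algebra.IsIntegral.of_finite k _
  have hsurj : Function.Surjective (algebraMap k (ResidueField A)) :=
    IsAlgClosed.algebraMap_bijective_of_isIntegral.2
  obtain ⟨c, hc⟩ := hsurj (residue A (u : A))
  obtain ⟨n, hn⟩ : ∃ n : A, n = (u : A) - algebraMap k A c := ⟨_, rfl⟩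
  have hnm : n ∈ maximalIdeal A := by
    rw [← IsLocalRing.residue_eq_zero_iff, hn, map_sub, ← hc, sub_eq_zero]
    rfl
  have hart : IsArtinianRing A := IsArtinianRing.of_finite k A
  have hnil : IsNilpotent n := by
    obtain ⟨N, hN⟩ := IsArtinianRing.isNilpotent_jacobson_bot (R := A)
    rw [IsLocalRing.jacobson_eq_maximalIdeal ⊥ bot_ne_top] at hN
    refine ⟨N, ?_⟩
    have := Ideal.pow_mem_pow hnm N
    rw [hN] at this
    exact this
  have hφ : IsNilpotent (-(LinearMap.mulLeft k n)) :=
    ((LinearMap.isNilpotent_mulLeft_iff k n).2 hnil).neg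
  have hchar := IsNilpotent.charpoly_eq_X_pow_finrank hφ
  have heval := LinearMap.eval_charpoly (-(LinearMap.mulLeft k n)) c
  rw [hchar, Polynomial.eval_pow, Polynomial.eval_X] at heval
  have hmap : algebraMap k (Module.End k A) c - -(LinearMap.mulLeft k n) =
      Algebra.lmul k A (u : A) := by
    ext a
    simp only [sub_neg_eq_add, LinearMap.add_apply, Module.algebraMap_end_apply,
      LinearMap.mulLeft_apply, hn]
    rw [Algebra.smul_def]
    simp only [Algebra.lmul, AlgHom.coe_mk]
    change _ = (u : A) * a
    ring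
  rw [hmap] at heval
  rw [Algebra.norm_apply, ← heval, map_pow, hc]

end Groth.Agent.Lib.Helper4.NormLocal
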