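import Groth.Agent.Lib.Helper4.NumPoly3
import Mathlib

set_option autoImplicit false
open MvPolynomial Finset

namespace Groth.Agent.Lib.Helper4.NumPoly

variable {ι : Type*} [Fintype ι] [DecidableEq ι]

/-- a polynomial over `ℚ` is determined by its values on `ℕ^ι` -/
theorem eq_of_eval_nat_eq {P Q : MvPolynomial ι ℚ}
    (h : ∀ n : ι → ℕ, eval (fun i => (n i : ℚ)) P = eval (fun i => (n i : ℚ)) Q) : P = Q := by
  apply MvPolynomial.funext_set (fun _ => Set.range (Nat.cast : ℕ → ℚ))
    (fun _ => Set.infinite_range_of_injective Nat.cast_injective)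
  intro x hx
  have hx' : ∀ i, ∃ n : ℕ, (n : ℚ) = x i := fun i => hx i (Set.mem_univ i)
  choose n hn using hx'
  have : x = fun i => (n i : ℚ) := funext fun i => (hn i).symm
  rw [this]
  exact h n

theorem inVar_eq_sum (i : ι) (p : Polynomial ℚ) (N : ℕ) (hN : p.natDegree < N) :
    inVar i p = ∑ j ∈ Finset.range N, monomial (Finsupp.single i j) (p.coeff j) := by
  unfold inVar
  rw [Polynomial.aeval_eq_sum_range' hN]
  apply Finset.sum_congr rfl
  intro j _
  rw [X_pow_eq_monomial, smul_monomial, smul_eq_mul, mul_one]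

/-- coefficients of a product of univariate polynomials in distinct variables -/
theorem coeff_prod_inVar (p : ι → Polynomial ℚ) (m : ι →₀ ℕ) :
    coeff m (∏ i, inVar i (p i)) = ∏ i, (p i).coeff (m i) := by
  classical
  obtain ⟨N, hN⟩ : ∃ N : ℕ, ∀ i, (p i).natDegree < N :=
    ⟨(Finset.univ.sup fun i => (p i).natDegree) + 1, fun i =>
      Nat.lt_succ_of_le (Finset.le_sup (f := fun i => (p i).natDegree) (Finset.mem_univ i))⟩
  have h1 : ∀ i, inVar i (p i) = ∑ j ∈ Finset.range N, monomial (Finsupp.single i j) ((p i).coeff j) :=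
    fun i => inVar_eq_sum i (p i) N (hN i)
  simp_rw [h1]
  rw [Finset.prod_univ_sum]
  have h2 : ∀ x : ι → ℕ, ∏ i, monomial (Finsupp.single i (x i)) ((p i).coeff (x i)) =
      monomial (Finsupp.equivFunOnFinite.symm x) (∏ i, (p i).coeff (x i)) := by
    intro x
    rw [Finsupp.equivFunOnFinite_symm_eq_sum, monomial_sum_prod]
  simp_rw [h2]
  rw [coeff_sum]
  simp_rw [coeff_monomial]
  by_cases hm : (⇑m : ι → ℕ) ∈ Fintype.piFinset (fun _ : ι => Finset.range N)
  · rw [Finset.sum_eq_single_of_mem (⇑m) hm]
    · rw [if_pos]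
      exact Finsupp.equivFunOnFinite_symm_coe m
    · intro x _ hx
      rw [if_neg]
      intro h
      apply hx
      rw [← h]
      rfl
  · rw [Finset.sum_eq_zero]
    · rw [Fintype.mem_piFinset] at hm
      push Not at hm
      obtain ⟨i, hi⟩ := hm
      rw [Finset.mem_range, not_lt] at hi
      symm
      apply Finset.prod_eq_zero (Finset.mem_univ i)
      exact Polynomial.coeff_eq_zero_of_natDegree_lt ((hN i).trans_le hi)
    · intro x hx
      rw [if_neg]
      intro h
      apply hm
      rw [← h]
      exact hx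

theorem bp_zero : bp 0 = 1 := by
  unfold bp
  simp

theorem bp_one : bp 1 = Polynomial.X := by
  unfold bp
  simp

/-- the coefficient of `∏ X_i` in the Newton polynomial of degree `card ι` is the top mixed difference -/
theorem coeff_one_newtonPoly (f : (ι → ℕ) → ℚ) :
    coeff (Finsupp.equivFunOnFinite.symm fun _ : ι => 1) (newtonPoly (Fintype.card ι) f) =
      pair f (Y fun _ => 1) := by
  unfold newtonPoly
  rw [coeff_sum]
  simp_rw [coeff_C_mul]
  have hmem : (fun _ : ι => 1) ∈ (Fintype.piFinset (fun _ : ι => Finset.range (Fintype.card ι + 1))).filter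
      (fun k => ∑ i, k i ≤ Fintype.card ι) := by
    rw [Finset.mem_filter, Fintype.mem_piFinset]
    refine ⟨fun i => ?_, by simp⟩
    rw [Finset.mem_range]
    have : 0 < Fintype.card ι := Fintype.card_pos_iff.2 ⟨i⟩
    omega
  rw [Finset.sum_eq_single_of_mem _ hmem]
  · unfold B
    rw [coeff_prod_inVar]
    simp [bp_one]
  · intro k hk hk1
    rw [Finset.mem_filter] at hk
    have : ∃ i, k i = 0 := by
      by_contra hcon
      push Not at hcon
      apply hk1
      have h1 : ∀ i, 1 ≤ k i := fun i => Nat.one_le_iff_ne_zero.2 (hcon i)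
      have h2 : ∑ i : ι, (k i - 1) = 0 := by
        have : ∑ i : ι, k i = ∑ i : ι, (k i - 1) + Fintype.card ι := by
          rw [Fintype.card, Finset.card_eq_sum_ones, ← Finset.sum_add_distrib]
          apply Finset.sum_congr rfl
          intro i _
          have := h1 i
          omega
        omega
      funext i
      have := (Finset.sum_eq_zero_iff.1 h2) i (Finset.mem_univ i)
      have := h1 i
      omega
    obtain ⟨i, hi⟩ := this
    unfold B
    rw [coeff_prod_inVar, Finset.prod_eq_zero (Finset.mem_univ i), mul_zero]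
    rw [hi, bp_zero]
    simp [Polynomial.coeff_one]

end Groth.Agent.Lib.Helper4.NumPoly
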