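import Mathlib.Algebra.Group.Submonoid.Membership
import Mathlib.Data.Nat.ModEq
import Mathlib.Tactic

namespace Groth.Agent.Lib.Helper4.NumSemi

theorem symm_iff (Γ : AddSubmonoid ℕ) (c : ℕ) (hc : ∀ n : ℕ, c ≤ n → n ∈ Γ) (hc0 : c ≠ 0)
    (hc1 : c - 1 ∉ Γ) :
    (∀ x : ℕ, x < c → (x ∉ Γ ↔ c - 1 - x ∈ Γ)) ↔
      ∃! n : ℕ, n ∉ Γ ∧ ∀ γ : ℕ, γ ∈ Γ → γ ≠ 0 → n + γ ∈ Γ := by
  have hF : c - 1 ∉ Γ ∧ ∀ γ : ℕ, γ ∈ Γ → γ ≠ 0 → c - 1 + γ ∈ Γ :=
    ⟨hc1, fun γ _ h0 => hc _ (by omega)⟩
  have hlt : ∀ n, n ∉ Γ → n < c := fun n hn => by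
    by_contra h; exact hn (hc n (by omega))
  constructor
  · intro hsym
    refine ⟨c - 1, hF, ?_⟩
    rintro n ⟨hn, hn2⟩
    by_contra hne
    have hnc := hlt n hn
    have h1 := (hsym n hnc).mp hn
    have h2 := hn2 _ h1 (by omega)
    have : n + (c - 1 - n) = c - 1 := by omega
    rw [this] at h2
    exact hc1 h2
  · rintro ⟨n, ⟨hn, hn2⟩, huniq⟩
    have hnF : n = c - 1 := (huniq (c - 1) hF).symm
    -- every gap x has F - x ∈ Γ
    have key : ∀ k x : ℕ, c - x ≤ k → x ∉ Γ → c - 1 - x ∈ Γ := by
      intro k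
      induction k with
      | zero =>
        intro x hx hxg
        exact absurd (hc x (by omega)) hxg
      | succ k ih =>
        intro x hx hxg
        have hxc := hlt x hxg
        by_cases hpf : ∀ γ : ℕ, γ ∈ Γ → γ ≠ 0 → x + γ ∈ Γ
        · have : x = c - 1 := by
            rw [← hnF]; exact huniq x ⟨hxg, hpf⟩
          rw [this, Nat.sub_self]; exact Γ.zero_mem
        · push Not at hpf
          obtain ⟨γ, hγ, hγ0, hxγ⟩ := hpf
          have hlt2 := hlt _ hxγ
          have := ih (x + γ) (by omega) hxγ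
          have e : c - 1 - x = (c - 1 - (x + γ)) + γ := by omega
          rw [e]; exact Γ.add_mem this hγ
    intro x hxc
    constructor
    · intro hxg; exact key (c - x) x le_rfl hxg
    · intro h hx
      have := Γ.add_mem h hx
      have e : c - 1 - x + x = c - 1 := by omega
      rw [e] at this
      exact hc1 this


theorem gen_below (Γ : AddSubmonoid ℕ) (c : ℕ) (hc : ∀ n : ℕ, c ≤ n → n ∈ Γ) (hc0 : c ≠ 0)
    (hc1 : c - 1 ∉ Γ) (hsymm : ∀ x : ℕ, x < c → (x ∉ Γ ↔ c - 1 - x ∈ Γ))
    (he : (1 : ℕ) ∉ Γ ∧ (2 : ℕ) ∉ Γ) :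
    AddSubmonoid.closure {γ : ℕ | γ ∈ Γ ∧ γ < c} = Γ := by
  classical
  apply le_antisymm
  · rw [AddSubmonoid.closure_le]
    intro x hx; exact hx.1
  -- facts
  have hc3 : 3 ≤ c := by
    rcases c with _ | _ | _ | c
    · exact absurd rfl hc0
    · exact absurd Γ.zero_mem hc1
    · exact absurd (hc 2 le_rfl) he.2
    · omega
  have h2 : c - 2 ∈ Γ := by
    by_contra h
    have := (hsymm (c - 2) (by omega)).mp h
    have e1 : c - 1 - (c - 2) = 1 := by omega
    rw [e1] at this; exact he.1 this
  have h3 : c - 3 ∈ Γ := by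
    by_contra h
    have := (hsymm (c - 3) (by omega)).mp h
    have e1 : c - 1 - (c - 3) = 2 := by omega
    rw [e1] at this; exact he.2 this
  have hex : ∃ m, m ∈ Γ ∧ 0 < m := ⟨c, hc c le_rfl, by omega⟩
  set e := Nat.find hex with he_def
  have heΓ : e ∈ Γ := (Nat.find_spec hex).1
  have hepos : 0 < e := (Nat.find_spec hex).2
  have hemin : ∀ m, m ∈ Γ → 0 < m → e ≤ m := fun m hm h0 => Nat.find_min' hex ⟨hm, h0⟩
  have he3 : 3 ≤ e := by
    by_contra h
    have : e = 1 ∨ e = 2 := by omega
    rcases this with h1 | h1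
    · rw [h1] at heΓ; exact he.1 heΓ
    · rw [h1] at heΓ; exact he.2 heΓ
  have hec : e ≤ c - 2 := hemin _ h2 (by omega)
  have hex2 : ∃ m, m ∈ Γ ∧ ¬ e ∣ m := by
    by_cases hd : e ∣ c - 2
    · refine ⟨c - 3, h3, fun hd3 => ?_⟩
      have : e ∣ (c - 2) - (c - 3) := Nat.dvd_sub hd hd3
      have e1 : (c - 2) - (c - 3) = 1 := by omega
      rw [e1] at this
      have := Nat.le_of_dvd one_pos this
      omega
    · exact ⟨c - 2, h2, hd⟩
  set γ := Nat.find hex2 with hγ_def
  have hγΓ : γ ∈ Γ := (Nat.find_spec hex2).1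
  have hγnd : ¬ e ∣ γ := (Nat.find_spec hex2).2
  have hγmin : ∀ m, m ∈ Γ → ¬ e ∣ m → γ ≤ m := fun m hm h0 => Nat.find_min' hex2 ⟨hm, h0⟩
  have hγc : γ ≤ c - 2 := by
    by_cases hd : e ∣ c - 2
    · have hd3 : ¬ e ∣ c - 3 := by
        intro hd3
        have : e ∣ (c - 2) - (c - 3) := Nat.dvd_sub hd hd3
        have e1 : (c - 2) - (c - 3) = 1 := by omega
        rw [e1] at this
        have := Nat.le_of_dvd one_pos this
        omega
      have := hγmin _ h3 hd3
      omega
    · exact hγmin _ h2 hd
  have hγpos : 0 < γ := by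
    rcases Nat.eq_zero_or_pos γ with h | h
    · exact absurd (h ▸ dvd_zero e) hγnd
    · exact h
  have hγe : e < γ := by
    have h1 := hemin γ hγΓ hγpos
    rcases Nat.lt_or_ge e γ with h | h
    · exact h
    · have : e = γ := le_antisymm h1 h
      exact absurd (this ▸ dvd_refl e) hγnd
  have hγsub : γ - e ∉ Γ := by
    intro h
    have hnd : ¬ e ∣ γ - e := by
      intro hd
      have : e ∣ (γ - e) + e := Dvd.dvd.add hd (dvd_refl e)
      rw [Nat.sub_add_cancel hγe.le] at this
      exact hγnd this
    have := hγmin _ h hnd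
    omega
  -- main induction
  intro n hn
  induction n using Nat.strong_induction_on with
  | _ n ih =>
    by_cases hnc : n < c
    · exact AddSubmonoid.subset_closure ⟨hn, hnc⟩
    · push Not at hnc
      have heS : e ∈ AddSubmonoid.closure {γ : ℕ | γ ∈ Γ ∧ γ < c} :=
        AddSubmonoid.subset_closure ⟨heΓ, by omega⟩
      by_cases hne : n - e ∈ Γ
      · have := ih (n - e) (by omega) hne
        have e1 : n = (n - e) + e := by omega
        rw [e1]; exact AddSubmonoid.add_mem _ this heS
      · have hlt : n - e < c := by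
          by_contra h; exact hne (hc _ (by omega))
        have ht := (hsymm (n - e) hlt).mp hne
        have ht0 : c - 1 - (n - e) = 0 := by
          by_contra h
          have := hemin _ ht (Nat.pos_of_ne_zero h)
          omega
        have hn_eq : n = c - 1 + e := by omega
        have hx : n - γ ∈ Γ := by
          by_contra h
          have := (hsymm (n - γ) (by omega)).mp h
          have e1 : c - 1 - (n - γ) = γ - e := by omega
          rw [e1] at this
          exact hγsub this
        have e1 : n = (n - γ) + γ := by omega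
        rw [e1]
        exact AddSubmonoid.add_mem _ (AddSubmonoid.subset_closure ⟨hx, by omega⟩)
          (AddSubmonoid.subset_closure ⟨hγΓ, by omega⟩)


theorem gens_le (Γ : AddSubmonoid ℕ) (c : ℕ) (hc : ∀ n : ℕ, c ≤ n → n ∈ Γ) (hc0 : c ≠ 0)
    (hc1 : c - 1 ∉ Γ) (hsymm : ∀ x : ℕ, x < c → (x ∉ Γ ↔ c - 1 - x ∈ Γ)) (e : ℕ) (he : e ∈ Γ)
    (he0 : e ≠ 0) (hemin : ∀ γ : ℕ, γ ∈ Γ → γ ≠ 0 → e ≤ γ) (he2 : 2 < e) :
    ∃ G : Finset ℕ, G.card ≤ e - 1 ∧ AddSubmonoid.closure (↑G : Set ℕ) = Γ := by
  classical
  have hmul : ∀ k : ℕ, e * k ∈ Γ := fun k => by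
    rw [mul_comm, ← smul_eq_mul]; exact Γ.nsmul_mem he k
  set rF := (c - 1) % e with hrF
  have hrF0 : rF ≠ 0 := by
    intro h
    have : e ∣ c - 1 := Nat.dvd_of_mod_eq_zero h
    obtain ⟨k, hk⟩ := this
    exact hc1 (hk ▸ hmul k)
  have hrFlt : rF < e := Nat.mod_lt _ (by omega)
  -- Apery-type elements with same residue coincide
  have hsame : ∀ n n' : ℕ, n ∈ Γ → n - e ∉ Γ → n' ∈ Γ → n' - e ∉ Γ → n % e = n' % e → n ≤ n' → n = n' := by
    intro n n' hn hne hn' hne' hmod hle
    by_contra hneq
    have hlt : n < n' := lt_of_le_of_ne hle hneq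
    have hd : e ∣ n' - n := (Nat.modEq_iff_dvd' hle).mp hmod
    obtain ⟨k, hk⟩ := hd
    have hk1 : 1 ≤ k := by
      rcases k with _ | k
      · omega
      · omega
    apply hne'
    have : n' - e = n + e * (k - 1) := by
      have : e * k = e * (k - 1) + e := by
        conv_lhs => rw [show k = (k - 1) + 1 by omega]
        ring
      omega
    rw [this]; exact Γ.add_mem hn (hmul _)
  set A : Finset ℕ := (Finset.range (c + e)).filter
    (fun n => n ∈ Γ ∧ n - e ∉ Γ ∧ n % e ≠ 0 ∧ n % e ≠ rF) with hA
  have hAcard : A.card ≤ e - 2 := by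
    have h1 : A.card ≤ (((Finset.range e).erase 0).erase rF).card := by
      apply Finset.card_le_card_of_injOn (fun n => n % e)
      · intro n hn
        simp only [hA, Finset.coe_filter, Finset.mem_range, Set.mem_ofPred_eq] at hn
        simp only [Finset.coe_erase, Finset.coe_range, Set.mem_sdiff, Set.mem_Iio,
          Set.mem_singleton_iff]
        exact ⟨⟨Nat.mod_lt _ (by omega), hn.2.2.2.1⟩, hn.2.2.2.2⟩
      · intro n hn n' hn' hmod
        simp only [hA, Finset.coe_filter, Finset.mem_range, Set.mem_ofPred_eq] at hn hn'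
        rcases le_total n n' with h | h
        · exact hsame n n' hn.2.1 hn.2.2.1 hn'.2.1 hn'.2.2.1 hmod h
        · exact (hsame n' n hn'.2.1 hn'.2.2.1 hn.2.1 hn.2.2.1 hmod.symm h).symm
    have h2 : (((Finset.range e).erase 0).erase rF).card = e - 2 := by
      rw [Finset.card_erase_of_mem, Finset.card_erase_of_mem, Finset.card_range]
      · omega
      · simp; omega
      · simp [hrF0]; exact hrFlt
    omega
  refine ⟨insert e A, ?_, ?_⟩
  · have := Finset.card_insert_le e A
    omega
  apply le_antisymm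
  · rw [AddSubmonoid.closure_le]
    intro x hx
    simp only [Finset.coe_insert, Set.mem_insert_iff, Finset.mem_coe] at hx
    rcases hx with rfl | hx
    · exact he
    · simp only [hA, Finset.mem_filter] at hx
      exact hx.2.1
  · intro n hn
    induction n using Nat.strong_induction_on with
    | _ n ih =>
      have heG : e ∈ AddSubmonoid.closure (↑(insert e A) : Set ℕ) :=
        AddSubmonoid.subset_closure (by simp)
      rcases Nat.eq_zero_or_pos n with rfl | hnpos
      · exact AddSubmonoid.zero_mem _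
      have hne_le : e ≤ n := hemin n hn (by omega)
      by_cases hne : n - e ∈ Γ
      · have := ih (n - e) (by omega) hne
        have e1 : n = (n - e) + e := by omega
        rw [e1]; exact AddSubmonoid.add_mem _ this heG
      have hnlt : n - e < c := by
        by_contra h; exact hne (hc _ (by omega))
      have hr0 : n % e ≠ 0 := by
        intro h
        obtain ⟨k, hk⟩ := Nat.dvd_of_mod_eq_zero h
        apply hne
        have hk1 : 1 ≤ k := by
          rcases k with _ | k
          · omega
          · omega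
        have : n - e = e * (k - 1) := by
          have : e * k = e * (k - 1) + e := by
            conv_lhs => rw [show k = (k - 1) + 1 by omega]
            ring
          omega
        rw [this]; exact hmul _
      by_cases hrn : n % e = rF
      · -- n = c - 1 + e
        have hn_eq : n = c - 1 + e := by
          have hFe : c - 1 + e ∈ Γ := hc _ (by omega)
          have hFe' : (c - 1 + e) - e ∉ Γ := by rwa [Nat.add_sub_cancel]
          have hmod : n % e = (c - 1 + e) % e := by rw [Nat.add_mod_right]; exact hrn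
          rcases le_total n (c - 1 + e) with h | h
          · exact hsame n _ hn hne hFe hFe' hmod h
          · exact (hsame _ n hFe hFe' hn hne hmod.symm h).symm
        -- pick residue r ∉ {0, rF}
        obtain ⟨r, hrlt, hr0', hrF'⟩ : ∃ r, r < e ∧ r ≠ 0 ∧ r ≠ rF := by
          by_cases h1 : rF = 1
          · exact ⟨2, by omega, by omega, by omega⟩
          · exact ⟨1, by omega, by omega, fun h => h1 h.symm⟩
        have hex : ∃ w, w ∈ Γ ∧ w % e = r := by
          refine ⟨c * e + r, hc _ ?_, ?_⟩
          · have : c * 1 ≤ c * e := Nat.mul_le_mul_left c (by omega)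
            omega
          · rw [Nat.mul_add_mod_of_lt hrlt]
        set w := Nat.find hex with hw_def
        have hwΓ : w ∈ Γ := (Nat.find_spec hex).1
        have hwr : w % e = r := (Nat.find_spec hex).2
        have hwmin : ∀ m, m ∈ Γ → m % e = r → w ≤ m := fun m hm h0 => Nat.find_min' hex ⟨hm, h0⟩
        have hwpos : w ≠ 0 := by
          intro h; rw [h] at hwr; simp at hwr; exact hr0' hwr.symm
        have hwe : e ≤ w := hemin w hwΓ hwpos
        have hwsub : w - e ∉ Γ := by
          intro h
          have hm : (w - e) % e = r := by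
            rw [← hwr]
            conv_rhs => rw [show w = (w - e) + e by omega]
            rw [Nat.add_mod_right]
          have := hwmin _ h hm
          omega
        have hwlt : w - e < c := by
          by_contra h; exact hwsub (hc _ (by omega))
        have hnw : n - w ∈ Γ := by
          have := (hsymm (w - e) hwlt).mp hwsub
          have e1 : c - 1 - (w - e) = n - w := by omega
          rwa [e1] at this
        have hwn : w ≤ n := by omega
        have hne' : n - w ≠ 0 := by
          intro h
          have : n = w := by omega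
          rw [this, hwr] at hrn
          exact hrF' hrn
        have e1 : n = (n - w) + w := by omega
        rw [e1]
        exact AddSubmonoid.add_mem _ (ih _ (by omega) hnw) (ih _ (by omega) hwΓ)
      · apply AddSubmonoid.subset_closure
        simp only [Finset.coe_insert, Set.mem_insert_iff, Finset.mem_coe]
        right
        simp only [hA, Finset.mem_filter, Finset.mem_range]
        exact ⟨by omega, hn, hne, hr0, hrn⟩

end Groth.Agent.Lib.Helper4.NumSemi
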