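import Mathlib.RingTheory.HopfAlgebra.Basic
import Mathlib.RingTheory.Bialgebra.Equiv
import Mathlib.RingTheory.Bialgebra.Hom
import Mathlib.Tactic

open TensorProduct

namespace Groth.Agent.Lib.Helper4.OT2

section basic
variable {R : Type*} [CommRing R] {A : Type*} [CommRing A] [HopfAlgebra R A]
  {x : A} (hx : Bialgebra.counitAlgHom R A x = 0)
  (hgen : ∀ f : A, Bialgebra.counitAlgHom R A f = 0 → ∃ r : R, f = r • x)
  (hfree : ∀ r : R, r • x = 0 → r = 0)

local notation "ε" => Bialgebra.counitAlgHom R A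

include hgen in
lemma exists_cf (f : A) : ∃ r : R, f - algebraMap R A (ε f) = r • x := by
  apply hgen
  simp

/-- coefficient of `x` -/
noncomputable def cf (f : A) : R := (exists_cf hgen f).choose

lemma cf_spec (f : A) : f = algebraMap R A (ε f) + cf hgen f • x := by
  have : f - algebraMap R A (ε f) = cf hgen f • x := (exists_cf hgen f).choose_spec
  rw [← this]; ring

include hx hfree in
lemma unique_repr {f : A} {r0 r1 : R} (h : f = algebraMap R A r0 + r1 • x) :
    ε f = r0 ∧ cf hgen f = r1 := by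
  have h0 : ε f = r0 := by
    rw [h, map_add, map_smul, hx, smul_zero, add_zero]; simp
  refine ⟨h0, ?_⟩
  have h1 := cf_spec hgen f
  rw [h0] at h1
  have : (cf hgen f - r1) • x = 0 := by
    rw [sub_smul, sub_eq_zero]
    have := h1.symm.trans h
    exact add_left_cancel this
  exact sub_eq_zero.mp (hfree _ this)

include hx hfree in
lemma cf_x : cf hgen x = 1 :=
  (unique_repr hx hgen hfree (f := x) (r0 := 0) (r1 := 1) (by simp)).2

include hx hfree in
lemma cf_one : cf hgen (1 : A) = 0 :=
  (unique_repr hx hgen hfree (f := 1) (r0 := 1) (r1 := 0) (by simp)).2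

include hx hfree in
lemma cf_add (f g : A) : cf hgen (f + g) = cf hgen f + cf hgen g := by
  refine (unique_repr hx hgen hfree (r0 := ε f + ε g) ?_).2
  conv_lhs => rw [cf_spec hgen f, cf_spec hgen g]
  rw [map_add, add_smul]; ring

include hx hfree in
lemma cf_smul (c : R) (f : A) : cf hgen (c • f) = c * cf hgen f := by
  refine (unique_repr hx hgen hfree (r0 := c * ε f) ?_).2
  conv_lhs => rw [cf_spec hgen f]
  rw [smul_add, map_mul, mul_smul, Algebra.smul_def c (algebraMap R A _)]

/-- linear coefficient functional -/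
noncomputable def cfL : A →ₗ[R] R where
  toFun := cf hgen
  map_add' := cf_add hx hgen hfree
  map_smul' := by intro c f; simpa using cf_smul hx hgen hfree c f

include hx hfree in
lemma cf_mul {a : R} (hxa : x * x = a • x) (f g : A) :
    cf hgen (f * g) = ε f * cf hgen g + ε g * cf hgen f + a * (cf hgen f * cf hgen g) := by
  refine (unique_repr hx hgen hfree (r0 := ε f * ε g) ?_).2
  conv_lhs => rw [cf_spec hgen f, cf_spec hgen g]
  have : (algebraMap R A (ε f) + cf hgen f • x) * (algebraMap R A (ε g) + cf hgen g • x)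
      = algebraMap R A (ε f) * algebraMap R A (ε g) + (algebraMap R A (ε f) * cf hgen g • x
        + algebraMap R A (ε g) * cf hgen f • x) + (cf hgen f * cf hgen g) • (x * x) := by
    simp only [Algebra.smul_def, map_mul]; ring
  rw [this, hxa]
  simp only [Algebra.smul_def, map_mul, map_add]
  ring

variable {C : Type*} [CommRing C] [Algebra R C]

/-- the algebra hom sending `x` to `y` -/
noncomputable def lift {a : R} (hxa : x * x = a • x) (y : C) (hy : y * y = a • y) : A →ₐ[R] C :=
  AlgHom.ofLinearMap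
    ((Algebra.linearMap R C) ∘ₗ (ε).toLinearMap + (cfL hx hgen hfree).smulRight y)
    (by simp [cfL, cf_one hx hgen hfree])
    (by
      intro f g
      simp only [LinearMap.add_apply, LinearMap.comp_apply, AlgHom.toLinearMap_apply,
        Algebra.linearMap_apply, LinearMap.smulRight_apply, cfL, LinearMap.coe_mk, AddHom.coe_mk,
        cf_mul hx hgen hfree hxa, map_mul]
      have : (algebraMap R C (ε f) + cf hgen f • y) * (algebraMap R C (ε g) + cf hgen g • y)
          = algebraMap R C (ε f) * algebraMap R C (ε g) + (algebraMap R C (ε f) * cf hgen g • y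
            + algebraMap R C (ε g) * cf hgen f • y) + (cf hgen f * cf hgen g) • (y * y) := by
        simp only [Algebra.smul_def, map_mul]; ring
      rw [this, hy]
      simp only [Algebra.smul_def, map_mul, map_add]
      ring)

lemma lift_apply {a : R} (hxa : x * x = a • x) (y : C) (hy : y * y = a • y) (f : A) :
    lift hx hgen hfree hxa y hy f = algebraMap R C (ε f) + cf hgen f • y := rfl

lemma lift_x {a : R} (hxa : x * x = a • x) (y : C) (hy : y * y = a • y) :
    lift hx hgen hfree hxa y hy x = y := by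
  rw [lift_apply, hx, cf_x hx hgen hfree]; simp

include hgen in
lemma algHom_ext {φ ψ : A →ₐ[R] C} (h : φ x = ψ x) : φ = ψ := by
  ext f
  rw [cf_spec hgen f]
  simp [h]

end basic


universe u v

theorem main
    (R : Type u) [CommRing R] (A : Type v) [CommRing A] [HopfAlgebra R A]
    (x : A) (hx : Bialgebra.counitAlgHom R A x = 0)
    (hgen : ∀ f : A, Bialgebra.counitAlgHom R A f = 0 → ∃ r : R, f = r • x)
    (hfree : ∀ r : R, r • x = 0 → r = 0)
    (a b : R) (hxa : x * x = a • x)
    (hxb : Bialgebra.comulAlgHom R A x = x ⊗ₜ[R] 1 + 1 ⊗ₜ[R] x + b • (x ⊗ₜ[R] x))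
    (A' : Type v) [CommRing A'] [HopfAlgebra R A']
    (x' : A') (hx' : Bialgebra.counitAlgHom R A' x' = 0)
    (hgen' : ∀ f : A', Bialgebra.counitAlgHom R A' f = 0 → ∃ r : R, f = r • x')
    (hfree' : ∀ r : R, r • x' = 0 → r = 0)
    (a' b' : R) (hxa' : x' * x' = a' • x')
    (hxb' : Bialgebra.comulAlgHom R A' x' = x' ⊗ₜ[R] 1 + 1 ⊗ₜ[R] x' + b' • (x' ⊗ₜ[R] x')) :
    Nonempty (A ≃ₐc[R] A') ↔ ∃ s : Rˣ, a = a' * (s : R) ∧ b' = b * (s : R) := by
  constructor
  · rintro ⟨e⟩
    -- e x = s • x'
    have h1 : Bialgebra.counitAlgHom R A' (e x) = 0 := by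
      have := congrArg (fun f => f x) (BialgHom.counitAlgHom_comp (e : A →ₐc[R] A'))
      simp only [AlgHom.comp_apply] at this
      rw [← hx, ← this]; rfl
    have h2 : Bialgebra.counitAlgHom R A (e.symm x') = 0 := by
      have := congrArg (fun f => f x') (BialgHom.counitAlgHom_comp (e.symm : A' →ₐc[R] A))
      simp only [AlgHom.comp_apply] at this
      rw [← hx', ← this]; rfl
    obtain ⟨s, hs⟩ := hgen' _ h1
    obtain ⟨t, ht⟩ := hgen _ h2
    have hst : s * t = 1 := by
      have : x = (s * t) • x := by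
        conv_lhs => rw [← e.symm_apply_apply x, hs, map_smul, ht, smul_smul]
      have h3 : (s * t - 1) • x = 0 := by
        rw [sub_smul, one_smul, ← this, sub_self]
      exact sub_eq_zero.mp (hfree _ h3)
    refine ⟨⟨s, t, hst, by rw [mul_comm]; exact hst⟩, ?_, ?_⟩
    · -- a
      have h3 : e (x * x) = e (a • x) := by rw [hxa]
      rw [map_mul, map_smul, hs, smul_mul_smul_comm, hxa', smul_smul, smul_smul] at h3
      have h4 : (s * s * a' - a * s) • x' = 0 := by rw [sub_smul, h3, sub_self]
      have h5 := sub_eq_zero.mp (hfree' _ h4)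
      show a = a' * s
      calc a = a * (s * t) := by rw [hst, mul_one]
        _ = (a * s) * t := by ring
        _ = (s * s * a') * t := by rw [h5]
        _ = a' * s * (s * t) := by ring
        _ = a' * s := by rw [hst, mul_one]
    · -- b
      set eL : A →ₗ[R] A' := (e : A →ₗ[R] A') with heL
      have h3 : TensorProduct.map eL eL (Coalgebra.comul x)
          = Coalgebra.comul (eL x) := CoalgHomClass.map_comp_comul_apply e x
      have hxb0 : Coalgebra.comul (R := R) x = x ⊗ₜ[R] 1 + 1 ⊗ₜ[R] x + b • (x ⊗ₜ[R] x) := hxb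
      have hxb0' : Coalgebra.comul (R := R) x' = x' ⊗ₜ[R] 1 + 1 ⊗ₜ[R] x' + b' • (x' ⊗ₜ[R] x') := hxb'
      have e1 : eL x = s • x' := hs
      have e2 : eL (1 : A) = 1 := map_one e
      rw [hxb0, e1, map_smul, hxb0'] at h3
      simp only [map_add, map_smul, TensorProduct.map_tmul, e1, e2] at h3
      have h4 := congrArg (LinearMap.mul' R R ∘ₗ
        TensorProduct.map (cfL hx' hgen' hfree') (cfL hx' hgen' hfree')) h3
      simp only [LinearMap.comp_apply, map_add, map_smul, TensorProduct.map_tmul,
        LinearMap.mul'_apply, cfL, LinearMap.coe_mk, AddHom.coe_mk, cf_one hx' hgen' hfree',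
        cf_x hx' hgen' hfree', cf_smul hx' hgen' hfree', smul_eq_mul] at h4
      show b' = b * s
      have h5 : b * (s * s) = s * b' := by simpa using h4
      calc b' = (s * t) * b' := by rw [hst, one_mul]
        _ = (s * b') * t := by ring
        _ = b * (s * s) * t := by rw [h5]
        _ = b * s * (s * t) := by ring
        _ = b * s := by rw [hst, mul_one]
  · rintro ⟨s, ha, hb⟩
    have hy : ((s : R) • x') * ((s : R) • x') = a • ((s : R) • x') := by
      rw [smul_mul_smul_comm, hxa', smul_smul, smul_smul, ha]; congr 1; ring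
    have hy' : (((s⁻¹ : Rˣ) : R) • x) * (((s⁻¹ : Rˣ) : R) • x) = a' • (((s⁻¹ : Rˣ) : R) • x) := by
      rw [smul_mul_smul_comm, hxa, smul_smul, smul_smul, ha]; congr 1
      have : ((s⁻¹ : Rˣ) : R) * (s : R) = 1 := by simp
      calc ((s⁻¹ : Rˣ) : R) * ((s⁻¹ : Rˣ) : R) * (a' * (s : R))
          = a' * ((s⁻¹ : Rˣ) : R) * (((s⁻¹ : Rˣ) : R) * (s : R)) := by ring
        _ = a' * ((s⁻¹ : Rˣ) : R) := by rw [this, mul_one]
    let φ := lift hx hgen hfree hxa ((s : R) • x') hy
    let ψ := lift hx' hgen' hfree' hxa' (((s⁻¹ : Rˣ) : R) • x) hy'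
    have hφx : φ x = (s : R) • x' := lift_x hx hgen hfree hxa _ hy
    have hψx : ψ x' = ((s⁻¹ : Rˣ) : R) • x := lift_x hx' hgen' hfree' hxa' _ hy'
    have h1 : φ.comp ψ = AlgHom.id R A' := by
      apply algHom_ext hgen'
      simp [hφx, hψx, smul_smul]
    have h2 : ψ.comp φ = AlgHom.id R A := by
      apply algHom_ext hgen
      simp [hφx, hψx, smul_smul]
    refine ⟨BialgEquiv.ofAlgEquiv (AlgEquiv.ofAlgHom φ ψ h1 h2) ?_ ?_⟩
    · apply algHom_ext hgen
      simp [hφx, hx, hx']
    · apply algHom_ext hgen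
      simp only [AlgHom.comp_apply, hxb, map_add,
        map_smul, Algebra.TensorProduct.map_tmul, map_one]
      show φ x ⊗ₜ[R] 1 + 1 ⊗ₜ[R] φ x + b • (φ x ⊗ₜ[R] φ x) = Bialgebra.comulAlgHom R A' (φ x)
      rw [hφx, map_smul, hxb', hb]
      simp only [smul_add, TensorProduct.smul_tmul', TensorProduct.tmul_smul, smul_smul]
      congr 2
      ring_nf

end Groth.Agent.Lib.Helper4.OT2
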