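import Groth.Agent.Lib.Helper4.OT2

open TensorProduct

namespace Groth.Agent.Lib.Helper4.OT3
open Groth.Agent.Lib.Helper4.OT2

universe u v

section
variable {R : Type u} [CommRing R] {A : Type v} [CommRing A] [HopfAlgebra R A]
  {x : A} (hx : Bialgebra.counitAlgHom R A x = 0)
  (hgen : ∀ f : A, Bialgebra.counitAlgHom R A f = 0 → ∃ r : R, f = r • x)
  (hfree : ∀ r : R, r • x = 0 → r = 0)

/-- `η ∘ ε` -/
noncomputable def P0 : A →ₗ[R] A := Algebra.linearMap R A ∘ₗ (Bialgebra.counitAlgHom R A).toLinearMap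
/-- `f ↦ cf f • x` -/
noncomputable def P1 : A →ₗ[R] A := (cfL hx hgen hfree).smulRight x

lemma P0_add_P1 : P0 + P1 hx hgen hfree = (LinearMap.id : A →ₗ[R] A) := by
  ext f
  simp only [LinearMap.add_apply, P0, P1, LinearMap.comp_apply, AlgHom.toLinearMap_apply,
    Algebra.linearMap_apply, LinearMap.smulRight_apply, LinearMap.id_apply, cfL, LinearMap.coe_mk,
    AddHom.coe_mk]
  exact (cf_spec hgen f).symm

omit hx hgen hfree in
lemma map_P0_left (g : A →ₗ[R] A) (y : A) :
    TensorProduct.map P0 g (Coalgebra.comul (R := R) y) = 1 ⊗ₜ g y := by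
  have key : ∀ t : A ⊗[R] A, TensorProduct.map P0 g t
      = TensorProduct.map (Algebra.linearMap R A) g ((Coalgebra.counit (R := R)).rTensor A t) := by
    intro t
    induction t with
    | zero => simp
    | tmul a b => simp [P0]
    | add u v hu hv => simp only [map_add, hu, hv]
  rw [key, Coalgebra.rTensor_counit_comul]
  simp

omit hx hgen hfree in
lemma map_P0_right (g : A →ₗ[R] A) (y : A) :
    TensorProduct.map g P0 (Coalgebra.comul (R := R) y) = g y ⊗ₜ 1 := by
  have key : ∀ t : A ⊗[R] A, TensorProduct.map g P0 t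
      = TensorProduct.map g (Algebra.linearMap R A) ((Coalgebra.counit (R := R)).lTensor A t) := by
    intro t
    induction t with
    | zero => simp
    | tmul a b => simp [P0]
    | add u v hu hv => simp only [map_add, hu, hv]
  rw [key, Coalgebra.lTensor_counit_comul]
  simp

lemma map_P1_P1 (t : A ⊗[R] A) :
    TensorProduct.map (P1 hx hgen hfree) (P1 hx hgen hfree) t =
      (LinearMap.mul' R R (TensorProduct.map (cfL hx hgen hfree) (cfL hx hgen hfree) t)) • (x ⊗ₜ[R] x) := by
  induction t with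
  | zero => simp
  | tmul a b => simp [P1, TensorProduct.smul_tmul', TensorProduct.tmul_smul, smul_smul, mul_comm]
  | add u v hu hv => simp only [map_add, hu, hv, add_smul]

include hx hgen hfree in
lemma comul_x : ∃ b : R, Coalgebra.comul (R := R) x = x ⊗ₜ[R] 1 + 1 ⊗ₜ[R] x + b • (x ⊗ₜ[R] x) := by
  refine ⟨LinearMap.mul' R R (TensorProduct.map (cfL hx hgen hfree) (cfL hx hgen hfree)
    (Coalgebra.comul (R := R) x)), ?_⟩
  have h : TensorProduct.map (P0 + P1 hx hgen hfree) (P0 + P1 hx hgen hfree) (Coalgebra.comul (R := R) x)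
      = Coalgebra.comul (R := R) x := by
    rw [P0_add_P1]; simp
  rw [TensorProduct.map_add_left, TensorProduct.map_add_right, TensorProduct.map_add_right] at h
  simp only [LinearMap.add_apply, map_P0_left, map_P0_right, map_P1_P1] at h
  have e0 : (P0 : A →ₗ[R] A) x = 0 := by
    show algebraMap R A (Bialgebra.counitAlgHom R A x) = 0
    rw [hx, map_zero]
  have e1 : P1 hx hgen hfree x = x := by
    simp [P1, cfL, cf_x hx hgen hfree]
  rw [e0, e1, zero_tmul, zero_add] at h
  conv_lhs => rw [← h]
  abel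



include hx hgen hfree in
theorem main : ∃ a b : R, x * x = a • x ∧
      Bialgebra.comulAlgHom R A x = x ⊗ₜ[R] 1 + 1 ⊗ₜ[R] x + b • (x ⊗ₜ[R] x) ∧ a * b = -2 := by
  obtain ⟨a, ha⟩ := hgen (x * x) (by rw [map_mul, hx, mul_zero])
  obtain ⟨b, hb⟩ := comul_x hx hgen hfree
  refine ⟨a, b, ha, hb, ?_⟩
  -- antipode
  obtain ⟨c, hc⟩ := hgen (HopfAlgebra.antipode R x) (by
    show Coalgebra.counit (R := R) (HopfAlgebra.antipode R x) = 0
    rw [HopfAlgebra.counit_antipode]; exact hx)
  have h1 := HopfAlgebra.mul_antipode_lTensor_comul_apply (R := R) x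
  rw [hb] at h1
  simp only [map_add, map_smul, LinearMap.lTensor_tmul, LinearMap.mul'_apply,
    HopfAlgebra.antipode_one, hc, mul_one, one_mul, mul_smul_comm, ha] at h1
  have hx0 : Coalgebra.counit (R := R) x = 0 := hx
  rw [hx0, map_zero] at h1
  have h2 : (1 + c + a * b * c) • x = 0 := by
    rw [← h1, add_smul, add_smul, one_smul, smul_smul, smul_smul]
    congr 2
    ring
  have h3 := hfree _ h2
  -- multiplicativity of comul
  have h4 : Coalgebra.comul (R := R) (x * x) = Coalgebra.comul (R := R) x * Coalgebra.comul (R := R) x :=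
    Bialgebra.comul_mul x x
  rw [ha, map_smul, hb] at h4
  have h5 := congrArg (LinearMap.mul' R R ∘ₗ
    TensorProduct.map (cfL hx hgen hfree) (cfL hx hgen hfree)) h4
  simp only [mul_add, add_mul, Algebra.TensorProduct.tmul_mul_tmul, mul_one, one_mul,
    smul_mul_assoc, mul_smul_comm, ha, smul_add, TensorProduct.smul_tmul', TensorProduct.tmul_smul,
    smul_smul] at h5
  simp only [LinearMap.comp_apply, map_add, map_smul, TensorProduct.map_tmul,
    LinearMap.mul'_apply, cfL, LinearMap.coe_mk, AddHom.coe_mk, cf_one hx hgen hfree,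
    cf_x hx hgen hfree, smul_eq_mul, mul_zero, zero_mul, mul_one, add_zero, zero_add] at h5
  -- h5 : a * b = (polynomial in a b)
  have h6 : (a * b + 1) * (a * b + 2) = 0 := by linear_combination (-1 : R) * h5
  have h7 : (a * b + 1) * (-c) = 1 := by linear_combination (-1 : R) * h3
  calc a * b = a * b + ((a * b + 1) * (-c)) * (a * b + 2) - (a * b + 2) := by rw [h7]; ring
    _ = a * b + (-c) * ((a * b + 1) * (a * b + 2)) - (a * b + 2) := by ring
    _ = -2 := by rw [h6]; ring

end

end Groth.Agent.Lib.Helper4.OT3
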