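import Mathlib.AlgebraicGeometry.Morphisms.UniversallyOpen
import Mathlib.Tactic

set_option autoImplicit false
universe u
open CategoryTheory AlgebraicGeometry TopologicalSpace

namespace Groth.Agent.Lib.Helper4.OpenGeneralizing

theorem ring_level {A B : Type*} [CommRing A] [CommRing B] (φ : A →+* B)
    (h : IsOpenMap (PrimeSpectrum.comap φ)) : GeneralizingMap (PrimeSpectrum.comap φ) := by
  intro Q p' hp'
  have hle : p' ≤ PrimeSpectrum.comap φ Q := (PrimeSpectrum.le_iff_specializes _ _).mpr hp'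
  let C := Localization.AtPrime Q.asIdeal
  let ψ : A →+* C := (algebraMap B C).comp φ
  have hmem : p' ∈ Set.range (PrimeSpectrum.comap ψ) := by
    rw [PrimeSpectrum.mem_range_comap_iff]
    apply le_antisymm _ Ideal.le_comap_map
    intro a ha
    rw [Ideal.mem_comap] at ha
    have e : p'.asIdeal.map ψ = (p'.asIdeal.map φ).map (algebraMap B C) := by
      rw [Ideal.map_map]
    rw [e, IsLocalization.mem_map_algebraMap_iff Q.asIdeal.primeCompl] at ha
    obtain ⟨⟨⟨x, hx⟩, ⟨g, hg⟩⟩, hxg⟩ := ha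
    simp only [ψ, RingHom.comp_apply, ← map_mul] at hxg
    obtain ⟨⟨c, hc⟩, hcc⟩ := (IsLocalization.eq_iff_exists Q.asIdeal.primeCompl C).mp hxg
    simp only at hcc
    -- c * (φ a * g) = c * x ∈ p'.map φ
    have hmem2 : c * g * φ a ∈ p'.asIdeal.map φ := by
      have : c * g * φ a = c * (φ a * g) := by ring
      rw [this, hcc]
      exact Ideal.mul_mem_left _ _ hx
    -- the basic open D(c*g) contains Q
    have hQ : Q ∈ (PrimeSpectrum.basicOpen (c * g) : Set (PrimeSpectrum B)) := by
      show c * g ∉ Q.asIdeal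
      exact fun hh => (Q.2.mem_or_mem hh).elim hc hg
    have hopen := h _ (PrimeSpectrum.basicOpen (c * g)).2
    have : p' ∈ PrimeSpectrum.comap φ '' (PrimeSpectrum.basicOpen (c * g) : Set (PrimeSpectrum B)) :=
      hp'.mem_open hopen ⟨Q, hQ, rfl⟩
    obtain ⟨Q₁, hQ₁, rfl⟩ := this
    have hle1 : (PrimeSpectrum.comap φ Q₁).asIdeal.map φ ≤ Q₁.asIdeal :=
      Ideal.map_le_iff_le_comap.mpr le_rfl
    have h3 := hle1 hmem2
    rcases Q₁.2.mem_or_mem h3 with h4 | h4
    · exact absurd h4 hQ₁
    · exact h4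
  obtain ⟨P, hP⟩ := hmem
  refine ⟨PrimeSpectrum.comap (algebraMap B C) P, ?_, ?_⟩
  · show PrimeSpectrum.comap (algebraMap B C) P ⤳ Q
    rw [← PrimeSpectrum.le_iff_specializes]
    show P.asIdeal.comap (algebraMap B C) ≤ Q.asIdeal
    have h1 : P.asIdeal ≤ IsLocalRing.maximalIdeal C := IsLocalRing.le_maximalIdeal P.2.ne_top
    calc P.asIdeal.comap (algebraMap B C) ≤ (IsLocalRing.maximalIdeal C).comap (algebraMap B C) :=
          Ideal.comap_mono h1
      _ = Q.asIdeal := IsLocalization.AtPrime.under_maximalIdeal C Q.asIdeal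
  · rw [← hP]
    rfl

theorem main {X Y : Scheme.{u}} (f : X ⟶ Y) (hf : IsOpenMap f.base) :
    GeneralizingMap f.base := by
  have := HasRingHomProperty.of_isZariskiLocalAtSource_of_isZariskiLocalAtTarget.{u}
    (topologically GeneralizingMap)
  change topologically GeneralizingMap f
  rw [HasRingHomProperty.iff_appLE (P := topologically GeneralizingMap)]
  intro U V e
  apply ring_level
  have hU : IsAffineOpen (U : Y.Opens) := U.2
  have hV : IsAffineOpen (V : X.Opens) := V.2
  have key := hU.SpecMap_appLE_fromSpec f hV e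
  have hinj : Function.Injective hU.fromSpec := hU.fromSpec.isOpenEmbedding.injective
  have hcomm : ∀ w, f (hV.fromSpec w) = hU.fromSpec ((Spec.map (f.appLE U V e)) w) := by
    intro w
    have := congr(($key) w)
    simpa using this.symm
  show IsOpenMap (Spec.map (f.appLE U V e))
  intro W hW
  have h1 : IsOpen (f '' (hV.fromSpec '' W)) :=
    hf _ (hV.fromSpec.isOpenEmbedding.isOpenMap _ hW)
  have h2 : (Spec.map (f.appLE U V e)) '' W = hU.fromSpec ⁻¹' (f '' (hV.fromSpec '' W)) := by
    ext x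
    constructor
    · rintro ⟨w, hw, rfl⟩
      exact ⟨hV.fromSpec w, ⟨w, hw, rfl⟩, hcomm w⟩
    · rintro ⟨_, ⟨w, hw, rfl⟩, hx⟩
      rw [hcomm w] at hx
      exact ⟨w, hw, hinj hx⟩
  rw [h2]
  exact h1.preimage hU.fromSpec.continuous

end Groth.Agent.Lib.Helper4.OpenGeneralizing
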