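import Groth.Agent.Lib.Helper4.RS2
import Groth.Agent.Lib.Helper7.TopDimComponents
import Groth.Agent.Lib.Helper17.FlatBC
import Groth.Prelude.Def_ShStab
set_option autoImplicit false
set_option backward.isDefEq.respectTransparency.types false
set_option linter.unusedSectionVars false
set_option linter.style.haveILetI false

universe u
open CategoryTheory CategoryTheory.Limits AlgebraicGeometry Opposite TopologicalSpace

noncomputable section
namespace Groth.Agent.Lib.Helper4.PU1
open Groth.Agent.Lib.Helper28 Groth.Agent.Lib.Helper28.QCohLoc Groth.Agent.Lib.Helper28.GenLocus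
  Groth.Agent.Lib.Helper17.GGStalk Groth.Agent.Lib.Helper16.Stk

/-- in a T0 space of dimension at most one, a non-closed point has no proper generization -/
theorem eq_of_specializes_of_not_isClosed {T : Type*} [TopologicalSpace T] [T0Space T]
    (hdim : topologicalKrullDim T ≤ 1) {y η : T} (hy : ¬ IsClosed ({y} : Set T)) (h : η ⤳ y) : η = y := by
  by_contra hne
  exact hy (Groth.Agent.Lib.Helper8.EffCart.isClosed_singleton_of_specializes hdim h hne)

variable {X : Scheme.{u}}

/-- on a reduced Noetherian scheme, a function vanishing at a maximal point has zero germ there -/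
theorem germ_eq_zero_of_maximal [IsReduced X] [NoetherianSpace X] {U : X.Opens} (f : Γ(X, U)) (y : X)
    (hyU : y ∈ U) (hmax : ∀ η : X, η ⤳ y → η = y) (hyf : y ∉ X.basicOpen f) :
    X.presheaf.germ U y hyU f = 0 := by
  set C : Set X := irreducibleComponent y with hC
  have hCirr : IsIrreducible C := isIrreducible_irreducibleComponent
  have hCcl : IsClosed C := isClosed_irreducibleComponent
  have hCmem : C ∈ irreducibleComponents X := irreducibleComponent_mem_irreducibleComponents y
  obtain ⟨η, hη⟩ := QuasiSober.sober hCirr hCcl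
  have hηy : η = y := hmax η (hη.specializes mem_irreducibleComponent)
  subst hηy
  -- the union of the other components
  have hfin : (irreducibleComponents X \ {C}).Finite :=
    (NoetherianSpace.finite_irreducibleComponents).subset Set.sdiff_subset
  have hcl : IsClosed (⋃₀ (irreducibleComponents X \ {C})) := by
    rw [Set.sUnion_eq_biUnion]
    exact hfin.isClosed_biUnion (fun s hs => isClosed_of_mem_irreducibleComponents s hs.1)
  let W : X.Opens := ⟨(⋃₀ (irreducibleComponents X \ {C}))ᶜ, hcl.isOpen_compl⟩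
  have hηW : η ∈ W := by
    rintro ⟨C', ⟨hC', hne⟩, hyC'⟩
    apply hne
    have h1 : C ⊆ C' := by
      rw [← hη.def]
      exact closure_minimal (Set.singleton_subset_iff.2 hyC') (isClosed_of_mem_irreducibleComponents _ hC')
    exact (Set.Subset.antisymm (hCmem.2 hC'.1 h1) h1)
  have hWC : (W : Set X) ⊆ C := by
    intro z hz
    by_contra hzC
    apply hz
    refine ⟨irreducibleComponent z, ⟨irreducibleComponent_mem_irreducibleComponents z, ?_⟩,
      mem_irreducibleComponent⟩
    intro h
    rw [Set.mem_singleton_iff] at h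
    exact hzC (h ▸ mem_irreducibleComponent)
  have hdisj : (U ⊓ W) ⊓ X.basicOpen f = ⊥ := by
    rw [eq_bot_iff]
    rintro z ⟨⟨-, hzW⟩, hzf⟩
    exact hyf ((hη.specializes (hWC hzW)).mem_open (X.basicOpen f).2 hzf)
  have hres : resO (inf_le_left : U ⊓ W ≤ U) f = 0 := by
    rw [← basicOpen_eq_bot_iff]
    have h2 : X.basicOpen (resO (inf_le_left : U ⊓ W ≤ U) f) = (U ⊓ W) ⊓ X.basicOpen f :=
      Scheme.basicOpen_res _ _ _
    rw [h2, hdisj]
  have hgerm := TopCat.Presheaf.germ_res_apply X.presheaf (homOfLE (inf_le_left : U ⊓ W ≤ U)) η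
    ⟨hyU, hηW⟩ f
  rw [← hgerm]
  have : (X.presheaf.map (homOfLE (inf_le_left : U ⊓ W ≤ U)).op).hom f = 0 := hres
  rw [this, map_zero]

/-- in a Noetherian quasi-sober space, a subset of an open set, relatively closed in it and consisting of closed
points of the whole space, is finite -/
theorem finite_of_forall_isClosed_singleton {T : Type*} [TopologicalSpace T] [NoetherianSpace T] [QuasiSober T]
    (V : Set T) (hV : IsOpen V) (Z : Set T) (hZV : Z ⊆ V) (hZ : closure Z ∩ V ⊆ Z)
    (hpt : ∀ z ∈ Z, IsClosed ({z} : Set T)) : Z.Finite := by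
  obtain ⟨S, hSfin, hScl, hSirr, hS⟩ :=
    NoetherianSpace.exists_finite_set_isClosed_irreducible (isClosed_closure (s := Z))
  have hfin : (⋃ t ∈ {t ∈ S | t.Subsingleton}, t).Finite :=
    (hSfin.subset (Set.sep_subset _ _)).biUnion (fun t ht => ht.2.finite)
  refine hfin.subset ?_
  intro z hz
  have hz' : z ∈ ⋃₀ S := hS ▸ subset_closure hz
  obtain ⟨t, htS, hzt⟩ := hz'
  refine Set.mem_biUnion (⟨htS, ?_⟩ : t ∈ {t ∈ S | t.Subsingleton}) hzt
  obtain ⟨g, hg⟩ := QuasiSober.sober (hSirr t htS) (hScl t htS)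
  have hgz : g ⤳ z := hg.specializes hzt
  have hgV : g ∈ V := hgz.mem_open hV (hZV hz)
  have hgt : g ∈ t := hg.mem
  have hgZ : g ∈ Z := hZ ⟨hS ▸ (Set.mem_sUnion_of_mem hgt htS), hgV⟩
  have ht : t = {g} := by
    rw [← hg.def, (hpt g hgZ).closure_eq]
  rw [ht]
  exact Set.subsingleton_singleton

theorem germAt_zero (M : X.Modules) (y : X) (V : X.Opens) (hy : y ∈ V) :
    germAt M y V hy (0 : Γ(M, V)) = 0 := map_zero (M.presheaf.germ V y hy).hom

/-- the locus where a section has nonzero germ -/
def nzLocus (M : X.Modules) (V : X.Opens) (m : Γ(M, V)) : Set X :=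
  {y | ∃ hy : y ∈ V, germAt M y V hy m ≠ 0}

theorem nzLocus_subset (M : X.Modules) (V : X.Opens) (m : Γ(M, V)) : nzLocus M V m ⊆ V :=
  fun _ hy => hy.1

theorem closure_nzLocus_inter_subset (M : X.Modules) (V : X.Opens) (m : Γ(M, V)) :
    closure (nzLocus M V m) ∩ V ⊆ nzLocus M V m := by
  rintro y ⟨hycl, hyV⟩
  by_contra hyn
  have h0 : germAt M y V hyV m = 0 := by
    by_contra h
    exact hyn ⟨hyV, h⟩
  obtain ⟨W, hWV, hWV', hyW, hres⟩ := germAt_eq M y hyV hyV m 0 (h0.trans (germAt_zero M y V hyV).symm)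
  obtain ⟨z, hzW, hzV, hz⟩ := mem_closure_iff.1 hycl W W.2 hyW
  apply hz
  rw [← germAt_res M z hWV hzW m, hres, res_zero, germAt_zero]

/-- a section whose germs vanish away from a closed point extends by zero to a global section -/
theorem exists_global_of_isolated (M : X.Modules) (x : X) (hxcl : IsClosed ({x} : Set X)) (V : X.Opens)
    (hxV : x ∈ V) (m : Γ(M, V)) (hm : ∀ y (hy : y ∈ V), y ≠ x → germAt M y V hy m = 0) :
    ∃ n : Γ(M, ⊤), res M (le_top : V ≤ ⊤) n = m ∧
      res M (le_top : (⟨{x}ᶜ, hxcl.isOpen_compl⟩ : X.Opens) ≤ ⊤) n = 0 := by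
  set W : X.Opens := ⟨{x}ᶜ, hxcl.isOpen_compl⟩ with hW
  have h : res M (inf_le_left : V ⊓ W ≤ V) m = res M (inf_le_right : V ⊓ W ≤ W) (0 : Γ(M, W)) := by
    rw [res_zero]
    refine TopCat.Presheaf.section_ext (⟨M.presheaf, M.isSheaf⟩ : TopCat.Sheaf Ab X) (V ⊓ W) _ 0 ?_
    intro z hz
    have h1 : germAt M z (V ⊓ W) hz (res M (inf_le_left : V ⊓ W ≤ V) m) = 0 := by
      rw [germAt_res]
      exact hm z hz.1 hz.2
    exact h1.trans (germAt_zero M z (V ⊓ W) hz).symm
  obtain ⟨n, hn1, hn2⟩ := Groth.Agent.Lib.Helper17.FlatBC.exists_glue_two M m (0 : Γ(M, W)) h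
  have htop : (⊤ : X.Opens) ≤ V ⊔ W := by
    intro y _
    by_cases hy : y = x
    · exact Or.inl (hy ▸ hxV)
    · exact Or.inr hy
  refine ⟨res M htop n, ?_, ?_⟩
  · rw [res_res]; exact hn1
  · rw [res_res]; exact hn2

/-- the image of a global section vanishing on an open set has no support there -/
theorem support_image_ofSection_subset (M : X.Modules) (n : Γ(M, ⊤)) (W : X.Opens)
    (hn : res M (le_top : W ≤ ⊤) n = 0) :
    CohB1.support (Abelian.image (TwistGen.ofSection M n)) ⊆ ((W : Set X))ᶜ := by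
  intro y hy hyW
  apply hy
  set σ := TwistGen.ofSection M n with hσ
  change Subsingleton ((stk y).obj (Abelian.image σ) : Type u)
  have hepi : Function.Surjective ((stk y).map (Abelian.factorThruImage σ)).hom :=
    (ModuleCat.epi_iff_surjective _).1 inferInstance
  have hmono : Function.Injective ((stk y).map (Abelian.image.ι σ)).hom :=
    (ModuleCat.mono_iff_injective _).1 inferInstance
  have hzero : ∀ b : ((stk y).obj (Abelian.image σ) : Type u), b = 0 := by
    intro b
    obtain ⟨c, rfl⟩ := hepi b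
    apply hmono
    rw [map_zero]
    have hfac : ((stk y).map (Abelian.image.ι σ)).hom (((stk y).map (Abelian.factorThruImage σ)).hom c) =
        ((stk y).map σ).hom c := by
      rw [← ModuleCat.comp_apply, ← Functor.map_comp, Abelian.image.fac]
    rw [hfac]
    obtain ⟨W', hyW', c', rfl⟩ := exists_germAt (Coh.structureModule X) y c
    have hle : W' ⊓ W ≤ W' := inf_le_left
    rw [← germAt_res (Coh.structureModule X) y hle ⟨hyW', hyW⟩ c', stk_map_germAt]
    have h1 := TwistGen.ofSection_app M n (W' ⊓ W) (res (Coh.structureModule X) hle c')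
    have h2 : res M (le_top : W' ⊓ W ≤ ⊤) n = 0 := by
      rw [← res_res M (le_top : W ≤ ⊤) (inf_le_right : W' ⊓ W ≤ W) n, hn, res_zero]
    rw [h2, smul_zero] at h1
    exact (congrArg (germAt M y (W' ⊓ W) ⟨hyW', hyW⟩) h1).trans (germAt_zero M y _ _)
  exact ⟨fun a b => (hzero a).trans (hzero b).symm⟩

/-- a subsingleton space has dimension at most zero -/
theorem topologicalKrullDim_le_zero_of_subsingleton (T : Type*) [TopologicalSpace T] [Subsingleton T] :
    topologicalKrullDim T ≤ 0 := by
  unfold topologicalKrullDim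
  haveI : Subsingleton (IrreducibleCloseds T) := by
    refine ⟨fun a b => ?_⟩
    apply IrreducibleCloseds.ext
    apply Set.Subset.antisymm
    · intro z hz
      obtain ⟨w, hw⟩ := b.isIrreducible'.nonempty
      exact (Subsingleton.elim w z) ▸ hw
    · intro z hz
      obtain ⟨w, hw⟩ := a.isIrreducible'.nonempty
      exact (Subsingleton.elim w z) ▸ hw
  exact Order.krullDim_nonpos_of_subsingleton

section main

variable (k : Type u) [Field k] [X.Over (Spec (CommRingCat.of k))]
    [IsProper (X ↘ Spec (CommRingCat.of k))] [IsReduced X]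

theorem isClosed_singleton_of_germ_ne_zero (hdim : topologicalKrullDim X ≤ 1) (J : X.Modules)
    (U : X.Opens) (f : Γ(X, U))
    (hf : ∀ x : X, x ∈ U → x ∈ CohB1.support J → x ∉ X.basicOpen f) [NoetherianSpace X]
    (V : X.Opens) (hVU : V ≤ U) (m : Γ(J, V)) (y : X) (hy : y ∈ V)
    (hne : germAt J y V hy (resO hVU f • m) ≠ 0) : IsClosed ({y} : Set X) := by
  by_contra hcl
  apply hne
  have hmax : ∀ η : X, η ⤳ y → η = y := fun η h => eq_of_specializes_of_not_isClosed hdim hcl h
  by_cases hys : y ∈ CohB1.support J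
  · have g0 := germ_eq_zero_of_maximal f y (hVU hy) hmax (hf y (hVU hy) hys)
    rw [germAt_smul]
    have h1 : (X.presheaf.germ V y hy).hom (resO hVU f) = (X.presheaf.germ U y (hVU hy)).hom f :=
      TopCat.Presheaf.germ_res_apply X.presheaf (homOfLE hVU) y hy f
    rw [h1]
    have g0' : (X.presheaf.germ U y (hVU hy)).hom f = 0 := g0
    rw [g0', zero_smul]
  · have hs : Subsingleton (J.presheaf.stalk y) := by
      unfold CohB1.support at hys
      rw [Set.mem_ofPred_eq, not_not] at hys
      exact hys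
    exact Subsingleton.elim (α := J.presheaf.stalk y) _ _

include k in
theorem main (hequi : ∀ Z ∈ irreducibleComponents (X : Type u), topologicalKrullDim Z = 1)
    (J : X.Modules) (hJc : Coh.IsCoh J) (hJp : ShStab.IsPure X J 1)
    (U : X.Opens) (f : X.presheaf.obj (Opposite.op U))
    (hf : ∀ x : X, x ∈ U → x ∈ CohB1.support J → x ∉ X.basicOpen f)
    (x : X) (hx : x ∈ U) (t : J.presheaf.stalk x) :
    (X.presheaf.germ U x hx f) • t = 0 := by
  haveI : IsLocallyNoetherian X := Groth.Agent.Lib.Helper8.EulerK.isLocallyNoetherian k X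
  haveI : CompactSpace X := QuasiCompact.compactSpace_of_compactSpace (X ↘ Spec (CommRingCat.of k))
  haveI : IsNoetherian X := { }
  have hdim : topologicalKrullDim X ≤ 1 :=
    Groth.Agent.Lib.Helper7.TopDimComp.topologicalKrullDim_le_of_forall_component 1
      (fun Z hZ => (hequi Z hZ).le)
  obtain ⟨V₀, hxV₀, t', rfl⟩ := exists_germAt J x t
  set V : X.Opens := V₀ ⊓ U with hV
  have hVU : V ≤ U := inf_le_right
  have hVV₀ : V ≤ V₀ := inf_le_left
  set m : Γ(J, V) := resO hVU f • res J hVV₀ t' with hm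
  have hgerm : germAt J x V ⟨hxV₀, hx⟩ m =
      ((X.presheaf.germ U x hx).hom f • germAt J x V₀ hxV₀ t' : ((stk x).obj J : Type u)) := by
    rw [hm, germAt_smul, germAt_res]
    congr 1
    exact TopCat.Presheaf.germ_res_apply X.presheaf (homOfLE hVU) x ⟨hxV₀, hx⟩ f
  by_contra hne
  have hne' : germAt J x V ⟨hxV₀, hx⟩ m ≠ 0 := fun h => hne (hgerm.symm.trans h)
  set Z := nzLocus J V m with hZ
  have hZpt : ∀ z ∈ Z, IsClosed ({z} : Set X) := fun z hz =>
    isClosed_singleton_of_germ_ne_zero hdim J U f hf V hVU (res J hVV₀ t') z hz.1 hz.2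
  have hZfin : Z.Finite := finite_of_forall_isClosed_singleton (V : Set X) V.2 Z (nzLocus_subset J V m)
    (closure_nzLocus_inter_subset J V m) hZpt
  have hxZ : x ∈ Z := ⟨⟨hxV₀, hx⟩, hne'⟩
  have hxcl := hZpt x hxZ
  have hcl : IsClosed (Z \ {x}) := by
    rw [← Set.biUnion_of_singleton (Z \ {x})]
    exact (hZfin.subset Set.sdiff_subset).isClosed_biUnion (fun z hz => hZpt z hz.1)
  set V' : X.Opens := V ⊓ ⟨(Z \ {x})ᶜ, hcl.isOpen_compl⟩ with hV'
  have hxV' : x ∈ V' := ⟨⟨hxV₀, hx⟩, fun h => h.2 rfl⟩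
  have hV'V : V' ≤ V := inf_le_left
  set m' := res J hV'V m with hm'
  have hm'0 : ∀ y (hy : y ∈ V'), y ≠ x → germAt J y V' hy m' = 0 := by
    intro y hy hyx
    rw [hm', germAt_res]
    by_contra h
    exact hy.2 ⟨⟨hy.1, h⟩, hyx⟩
  obtain ⟨n, hn1, hn2⟩ := exists_global_of_isolated J x hxcl V' hxV' m' hm'0
  set σ := TwistGen.ofSection J n with hσ
  have hsupp := support_image_ofSection_subset J n _ hn2
  have hI : Coh.IsCoh (Abelian.image σ) :=
    Groth.Agent.Lib.Helper6.DevCore.isCoh_image σ Groth.Agent.Lib.Helper6.DevRed.isCoh_structureModule hJc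
  have hI0 : ¬ IsZero (Abelian.image σ) := by
    intro hz
    have hσ0 : σ = 0 := by
      rw [← Abelian.image.fac σ, hz.eq_of_tgt (Abelian.factorThruImage σ) 0, Limits.zero_comp]
    have h1 := TwistGen.ofSection_app_one J n V'
    rw [← hσ, hσ0, hn1] at h1
    apply hne'
    rw [← germAt_res J x hV'V hxV' m, ← hm', ← h1]
    exact germAt_zero J x V' hxV'
  have h1 := hJp _ (Abelian.image.ι σ) inferInstance hI hI0
  haveI : Subsingleton ↥(CohB1.support (Abelian.image σ)) := by
    refine ⟨fun a b => Subtype.ext ?_⟩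
    have ha : a.1 = x := not_not.1 (hsupp a.2)
    have hb : b.1 = x := not_not.1 (hsupp b.2)
    rw [ha, hb]
  have h2 := topologicalKrullDim_le_zero_of_subsingleton ↥(CohB1.support (Abelian.image σ))
  rw [h1] at h2
  exact absurd h2 (by norm_num)

end main

end Groth.Agent.Lib.Helper4.PU1
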