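import Groth.Agent.Lib.Helper4.HilbPoly6
import Groth.Prelude.Def_W4swparbununimodPar
set_option backward.isDefEq.respectTransparency.types false
set_option autoImplicit false
set_option linter.style.haveILetI false

universe u
open CategoryTheory CategoryTheory.Limits AlgebraicGeometry Opposite TopologicalSpace Polynomial

namespace Groth.Agent.Lib.Helper4.ParShA
open Groth.Agent.Lib.Helper4.Snapper Groth.Agent.Lib.Helper6.K0Len Groth.Agent.Lib.Helper6.K0Op
open Groth.Agent.Lib.Helper4.HilbPoly

section cat
variable {C : Type*} [Category C] [Abelian C]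

/-- for `0 → F → E → G → 0` and `T ≤ E`: `0 → F ∩ T → T → im(T → G) → 0`. -/
theorem pullback_image_w {F E G : C} (i : F ⟶ E) (p : E ⟶ G) (w : i ≫ p = 0) (T : Subobject E) :
    Subobject.pullbackπ i T ≫ factorThruImageSubobject (T.arrow ≫ p) = 0 := by
  rw [← cancel_mono (imageSubobject (T.arrow ≫ p)).arrow, Category.assoc, imageSubobject_arrow_comp,
    Limits.zero_comp, ← Category.assoc, (Subobject.isPullback i T).w, Category.assoc, w, Limits.comp_zero]

theorem pullback_image_shortExact {F E G : C} (i : F ⟶ E) (p : E ⟶ G) (w : i ≫ p = 0)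
    (hS : (ShortComplex.mk i p w).ShortExact) (T : Subobject E) :
    (ShortComplex.mk (Subobject.pullbackπ i T) (factorThruImageSubobject (T.arrow ≫ p))
      (pullback_image_w i p w T)).ShortExact := by
  haveI : Mono i := hS.mono_f
  haveI : Mono (Subobject.pullbackπ i T) := by
    refine ⟨fun {Z} a b hab => ?_⟩
    apply (Subobject.isPullback i T).hom_ext hab
    rw [← cancel_mono i, Category.assoc, Category.assoc, ← (Subobject.isPullback i T).w,
      ← Category.assoc, hab, Category.assoc]
  refine ShortComplex.ShortExact.mk' (ShortComplex.exact_of_f_is_kernel _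
    (KernelFork.IsLimit.ofι' _ _ (fun {W} h hh => ?_))) inferInstance inferInstance
  dsimp at h hh
  have h1 : (h ≫ T.arrow) ≫ p = 0 := by
    rw [Category.assoc, ← imageSubobject_arrow_comp (T.arrow ≫ p), ← Category.assoc, hh, Limits.zero_comp]
  let l : W ⟶ F := hS.fIsKernel.lift (KernelFork.ofι (h ≫ T.arrow) h1)
  have hl : l ≫ i = h ≫ T.arrow := hS.fIsKernel.fac (KernelFork.ofι (h ≫ T.arrow) h1) WalkingParallelPair.zero
  exact ⟨(Subobject.isPullback i T).lift h l hl.symm, (Subobject.isPullback i T).lift_fst h l hl.symm⟩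

end cat

end Groth.Agent.Lib.Helper4.ParShA
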