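import Groth.Agent.Lib.Helper4.ParShA
set_option backward.isDefEq.respectTransparency.types false
set_option autoImplicit false
set_option linter.style.haveILetI false

universe u
open CategoryTheory CategoryTheory.Limits AlgebraicGeometry Opposite TopologicalSpace Polynomial

namespace Groth.Agent.Lib.Helper4.ParShB
open Groth.Agent.Lib.Helper4.Snapper Groth.Agent.Lib.Helper6.K0Len Groth.Agent.Lib.Helper6.K0Op
open Groth.Agent.Lib.Helper4.HilbPoly Groth.Agent.Lib.Helper4.ParShA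

section gen
variable {C : Type*} [Category C] [Abelian C]

theorem pieceX_induced {E F : C} (𝓔 : ParSh.Str E) (i : F ⟶ E) (j : Fin (𝓔.l + 2)) :
    (𝓔.induced i).pieceX j = (Subobject.pullback i).obj (𝓔.pieceX j) := by
  induction j using Fin.lastCases with
  | last => rw [ParSh.Str.pieceX_last]; exact (ParSh.Str.pieceX_last (𝓔.induced i))
  | cast j => rw [ParSh.Str.pieceX_castSucc]; exact (ParSh.Str.pieceX_castSucc (𝓔.induced i) j)

theorem pieceX_coinduced {E G : C} (𝓔 : ParSh.Str E) (p : E ⟶ G) [Epi p] (j : Fin (𝓔.l + 2)) :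
    (𝓔.coinduced p).pieceX j = imageSubobject ((𝓔.pieceX j).arrow ≫ p) := by
  induction j using Fin.lastCases with
  | last => rw [ParSh.Str.pieceX_last]; exact (ParSh.Str.pieceX_last (𝓔.coinduced p))
  | cast j => rw [ParSh.Str.pieceX_castSucc]; exact (ParSh.Str.pieceX_castSucc (𝓔.coinduced p) j)

/-- uniform form of `parSum` in terms of the extended pieces -/
theorem parSum_eq {E : C} (𝓔 : ParSh.Str E) (f : C → ℝ) :
    𝓔.parSum f = f (𝓔.pieceX (Fin.last (𝓔.l + 1)) : C) +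
      ∑ j : Fin (𝓔.l + 1), 𝓔.wt j * (f (𝓔.pieceX j.castSucc : C) - f (𝓔.pieceX j.succ : C)) := by
  unfold ParSh.Str.parSum
  simp only [ParSh.Str.pieceX_last, ParSh.Str.pieceX_castSucc]

theorem parSum_induced {E F : C} (𝓔 : ParSh.Str E) (i : F ⟶ E) (f : C → ℝ) :
    (𝓔.induced i).parSum f = f ((Subobject.pullback i).obj (𝓔.pieceX (Fin.last (𝓔.l + 1))) : C) +
      ∑ j : Fin (𝓔.l + 1), 𝓔.wt j * (f ((Subobject.pullback i).obj (𝓔.pieceX j.castSucc) : C) -
        f ((Subobject.pullback i).obj (𝓔.pieceX j.succ) : C)) := by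
  rw [parSum_eq]
  refine congrArg₂ (· + ·) ?_ (Finset.sum_congr rfl fun j _ => ?_)
  · exact congrArg (fun S : Subobject F => f (S : C)) (pieceX_induced 𝓔 i (Fin.last (𝓔.l + 1)))
  · exact congrArg₂ (fun S T : Subobject F => 𝓔.wt j * (f (S : C) - f (T : C)))
      (pieceX_induced 𝓔 i j.castSucc) (pieceX_induced 𝓔 i j.succ)

theorem parSum_coinduced {E G : C} (𝓔 : ParSh.Str E) (p : E ⟶ G) [Epi p] (f : C → ℝ) :
    (𝓔.coinduced p).parSum f = f (imageSubobject ((𝓔.pieceX (Fin.last (𝓔.l + 1))).arrow ≫ p) : C) +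
      ∑ j : Fin (𝓔.l + 1), 𝓔.wt j * (f (imageSubobject ((𝓔.pieceX j.castSucc).arrow ≫ p) : C) -
        f (imageSubobject ((𝓔.pieceX j.succ).arrow ≫ p) : C)) := by
  rw [parSum_eq]
  refine congrArg₂ (· + ·) ?_ (Finset.sum_congr rfl fun j _ => ?_)
  · exact congrArg (fun S : Subobject G => f (S : C)) (pieceX_coinduced 𝓔 p (Fin.last (𝓔.l + 1)))
  · exact congrArg₂ (fun S T : Subobject G => 𝓔.wt j * (f (S : C) - f (T : C)))
      (pieceX_coinduced 𝓔 p j.castSucc) (pieceX_coinduced 𝓔 p j.succ)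

/-- abstract additivity of `parSum` in a parabolic extension -/
theorem parSum_add_of_isParExt {F E G : C} (i : F ⟶ E) (p : E ⟶ G) [Epi p] (𝓕 : ParSh.Str F) (𝓔 : ParSh.Str E)
    (𝓖 : ParSh.Str G) (hext : ParSh.IsParExt i p 𝓕 𝓔 𝓖) (f : C → ℝ)
    (hf : ∀ j : Fin (𝓔.l + 2), f ((Subobject.pullback i).obj (𝓔.pieceX j) : C) +
      f (imageSubobject ((𝓔.pieceX j).arrow ≫ p) : C) = f (𝓔.pieceX j : C)) :
    𝓕.parSum f + 𝓖.parSum f = 𝓔.parSum f := by
  obtain ⟨w, hS, rfl, rfl⟩ := hext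
  rw [parSum_induced, parSum_coinduced, parSum_eq 𝓔]
  rw [← hf (Fin.last _)]
  have : ∀ j : Fin (𝓔.l + 1), 𝓔.wt j * (f (𝓔.pieceX j.castSucc : C) - f (𝓔.pieceX j.succ : C)) =
      𝓔.wt j * (f ((Subobject.pullback i).obj (𝓔.pieceX j.castSucc) : C) -
        f ((Subobject.pullback i).obj (𝓔.pieceX j.succ) : C)) +
      𝓔.wt j * (f (imageSubobject ((𝓔.pieceX j.castSucc).arrow ≫ p) : C) -
        f (imageSubobject ((𝓔.pieceX j.succ).arrow ≫ p) : C)) := by
    intro j
    rw [← hf j.castSucc, ← hf j.succ]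
    ring
  rw [Finset.sum_congr rfl (fun j _ => this j), Finset.sum_add_distrib]
  ring

end gen

variable (k : Type u) [Field k] {X : Scheme.{u}} [X.Over (Spec (CommRingCat.of k))]
    [IsProper (X ↘ (Spec (CommRingCat.of k)))] {L : X.Modules}

/-- additivity of the twisted Euler characteristic -/
theorem euler_twist_add (hL : PicF.IsInvertible L) (S : ShortComplex X.Modules) (hS : S.ShortExact)
    (h₁ : Coh.IsCoh S.X₁) (h₂ : Coh.IsCoh S.X₂) (h₃ : Coh.IsCoh S.X₃) (m : ℕ) :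
    Curv2.euler k X (ShStab.twist X L S.X₂ m) =
      Curv2.euler k X (ShStab.twist X L S.X₁ m) + Curv2.euler k X (ShStab.twist X L S.X₃ m) := by
  rw [euler_twist_eq k hL _ h₁, euler_twist_eq k hL _ h₂, euler_twist_eq k hL _ h₃]
  have hcl : cls S.X₂ = cls S.X₁ + cls S.X₃ :=
    Groth.Agent.Lib.Helper16.K0Db.clSub_shortExact _ S hS h₁ h₂ h₃
  rw [hcl, map_add, map_add]

omit [IsProper (X ↘ (Spec (CommRingCat.of k)))] [X.Over (Spec (CommRingCat.of k))] in
/-- coherence of the pulled back and pushed forward subobjects -/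
theorem isCoh_pullback_image [IsLocallyNoetherian X] {F E G : X.Modules} (hG : Coh.IsCoh G) (i : F ⟶ E) (p : E ⟶ G)
    (w : i ≫ p = 0)
    (hS : (ShortComplex.mk i p w).ShortExact) (T : Subobject E) (hT : Coh.IsCoh (T : X.Modules)) :
    Coh.IsCoh (((Subobject.pullback i).obj T : Subobject F) : X.Modules) ∧
      Coh.IsCoh ((imageSubobject (T.arrow ≫ p) : Subobject G) : X.Modules) := by
  have h3 : Coh.IsCoh ((imageSubobject (T.arrow ≫ p) : Subobject G) : X.Modules) := by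
    have h := Groth.Agent.Lib.Helper6.DevCore.isCoh_image (T.arrow ≫ p) hT hG
    exact Groth.Agent.Lib.Helper6.DevCore.isCoh_of_iso
      ((Abelian.imageIsoImage (T.arrow ≫ p)) ≪≫ (imageSubobjectIso (T.arrow ≫ p)).symm) h
  refine ⟨?_, h3⟩
  have hS' := pullback_image_shortExact i p w hS T
  have hk := Groth.Agent.Lib.Helper6.DevCore.isCoh_kernel (factorThruImageSubobject (T.arrow ≫ p)) hT h3
  have hlim := hS'.fIsKernel
  exact Groth.Agent.Lib.Helper6.DevCore.isCoh_of_iso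
    (IsLimit.conePointUniqueUpToIso (kernelIsKernel _) hlim) hk

theorem euler_pullback_image (hL : PicF.IsInvertible L) {F E G : X.Modules} (hG : Coh.IsCoh G)
    (i : F ⟶ E) (p : E ⟶ G) (w : i ≫ p = 0)
    (hS : (ShortComplex.mk i p w).ShortExact) (T : Subobject E) (hT : Coh.IsCoh (T : X.Modules)) (m : ℕ) :
    (Curv2.euler k X (ShStab.twist X L (((Subobject.pullback i).obj T : Subobject F) : X.Modules) m) : ℝ) +
      Curv2.euler k X (ShStab.twist X L ((imageSubobject (T.arrow ≫ p) : Subobject G) : X.Modules) m) =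
      Curv2.euler k X (ShStab.twist X L (T : X.Modules) m) := by
  haveI : IsLocallyNoetherian X := Groth.Agent.Lib.Helper8.EulerK.isLocallyNoetherian k X
  obtain ⟨h1, h3⟩ := isCoh_pullback_image hG i p w hS T hT
  have := euler_twist_add k hL _ (pullback_image_shortExact i p w hS T) h1 hT h3 m
  dsimp only at this
  rw [this]
  push_cast
  rfl

/-- **S18524** -/
theorem parHilb_add (hL : PicF.IsInvertible L) {F E G : X.Modules} (hG : Coh.IsCoh G)
    (i : F ⟶ E) (p : E ⟶ G) [Epi p] (𝓕 : ParSh.Str F) (𝓔 : ParSh.Str E) (𝓖 : ParSh.Str G)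
    (hext : ParSh.IsParExt i p 𝓕 𝓔 𝓖)
    (hcoh : ∀ j, Coh.IsCoh ((𝓔.pieceX j : Subobject E) : X.Modules)) (m : ℕ) :
    𝓕.parHilb k X L m + 𝓖.parHilb k X L m = 𝓔.parHilb k X L m := by
  unfold ParSh.Str.parHilb
  obtain ⟨w, hS, _, _⟩ := id hext
  exact parSum_add_of_isParExt i p 𝓕 𝓔 𝓖 hext _
    (fun j => euler_pullback_image k hL hG i p w hS _ (hcoh j) m)

end Groth.Agent.Lib.Helper4.ParShB
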