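import Groth.Agent.Lib.Helper4.ParShB
set_option backward.isDefEq.respectTransparency.types false
set_option autoImplicit false
set_option linter.style.haveILetI false

universe u
open CategoryTheory CategoryTheory.Limits AlgebraicGeometry Opposite TopologicalSpace Polynomial

namespace Groth.Agent.Lib.Helper4.ParShC
open Groth.Agent.Lib.Helper4.Snapper Groth.Agent.Lib.Helper6.K0Len Groth.Agent.Lib.Helper6.K0Op
open Groth.Agent.Lib.Helper4.HilbPoly Groth.Agent.Lib.Helper4.ParShA Groth.Agent.Lib.Helper4.ParShB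

/-- Abel summation identity behind `parSum` -/
theorem abel_identity (l : ℕ) (a h : Fin (l + 2) → ℝ) (p : ℝ) (h0 : h 0 = 0) (hlast : a (Fin.last (l + 1)) = 1) :
    (p - h (Fin.last (l + 1))) + ∑ j : Fin (l + 1), a j.castSucc * ((p - h j.castSucc) - (p - h j.succ)) =
      p - ∑ j : Fin (l + 1), (a j.succ - a j.castSucc) * h j.succ := by
  have e1 := Fin.sum_univ_castSucc (fun j : Fin (l + 2) => a j * h j)
  have e2 := Fin.sum_univ_succ (fun j : Fin (l + 2) => a j * h j)
  rw [h0, mul_zero, zero_add] at e2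
  rw [hlast, one_mul, e2] at e1
  have e3 : ∑ j : Fin (l + 1), a j.castSucc * ((p - h j.castSucc) - (p - h j.succ)) =
      ∑ j : Fin (l + 1), a j.castSucc * h j.succ - ∑ j : Fin (l + 1), a j.castSucc * h j.castSucc := by
    rw [← Finset.sum_sub_distrib]
    exact Finset.sum_congr rfl fun j _ => by ring
  have e4 : ∑ j : Fin (l + 1), (a j.succ - a j.castSucc) * h j.succ =
      ∑ j : Fin (l + 1), a j.succ * h j.succ - ∑ j : Fin (l + 1), a j.castSucc * h j.succ := by
    rw [← Finset.sum_sub_distrib]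
    exact Finset.sum_congr rfl fun j _ => by ring
  rw [e3, e4, e1]
  ring

variable (k : Type u) [Field k] {X : Scheme.{u}} [X.Over (Spec (CommRingCat.of k))]
    [IsProper (X ↘ (Spec (CommRingCat.of k)))] {L : X.Modules}

/-- the Hilbert polynomial of a coherent subobject from that of the quotient -/
theorem isHilbPoly_subobject (hL : PicF.IsInvertible L) {E : X.Modules} (hE : Coh.IsCoh E) (T : Subobject E)
    (hT : Coh.IsCoh (T : X.Modules)) {P H : ℚ[X]} (hP : ShStab.IsHilbPoly k X L E P)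
    (hH : ShStab.IsHilbPoly k X L (cokernel T.arrow) H) :
    ShStab.IsHilbPoly k X L (T : X.Modules) (P - H) :=
  isHilbPoly_sub_right k hL (ShortComplex.mk T.arrow (cokernel.π T.arrow) (cokernel.condition _))
    (shortExact_cokernel T.arrow) hT hE
    (Groth.Agent.Lib.Helper6.DevCore.isCoh_cokernel T.arrow hT hE) hP hH

theorem eval_cokernel_top (hL : PicF.IsInvertible L) {E : X.Modules} (T : Subobject E) (hT : T = ⊤)
    {H : ℚ[X]} (hH : ShStab.IsHilbPoly k X L (cokernel T.arrow) H) : H = 0 := by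
  subst hT
  have hz : IsZero (cokernel (⊤ : Subobject E).arrow) := isZero_cokernel_of_epi _
  exact isHilbPoly_unique k hH (isHilbPoly_zero k hL hz)

/-- **S18526** -/
theorem parHilb_eq (hL : PicF.IsInvertible L) (E : X.Modules) (hE : Coh.IsCoh E) (𝓔 : ParSh.Str E)
    (hcoh : ∀ j, Coh.IsCoh ((𝓔.pieceX j : Subobject E) : X.Modules))
    (P : ℚ[X]) (hP : ShStab.IsHilbPoly k X L E P) (H : Fin (𝓔.l + 2) → ℚ[X])
    (hH : ∀ j, ShStab.IsHilbPoly k X L (cokernel (𝓔.pieceX j).arrow) (H j)) (m : ℕ) :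
    𝓔.parHilb k X L m =
      ((P.eval (m : ℚ) : ℚ) : ℝ) -
        ∑ j : Fin (𝓔.l + 1), (𝓔.wtX j.succ - 𝓔.wtX j.castSucc) * (((H j.succ).eval (m : ℚ) : ℚ) : ℝ) := by
  unfold ParSh.Str.parHilb
  rw [parSum_eq]
  have key : ∀ j : Fin (𝓔.l + 2),
      (Curv2.euler k X (ShStab.twist X L ((𝓔.pieceX j : Subobject E) : X.Modules) m) : ℝ) =
        ((P.eval (m : ℚ) : ℚ) : ℝ) - (((H j).eval (m : ℚ) : ℚ) : ℝ) := by
    intro j
    have h := isHilbPoly_subobject k hL hE _ (hcoh j) hP (hH j) m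
    rw [eval_sub] at h
    have h' := congrArg (fun q : ℚ => (q : ℝ)) h
    simp only [Rat.cast_sub, Rat.cast_intCast] at h'
    exact h'
  simp only [key]
  have h0 : (((H 0).eval (m : ℚ) : ℚ) : ℝ) = 0 := by
    have hz : H 0 = 0 := by
      refine eval_cokernel_top k hL (𝓔.pieceX 0) ?_ (hH 0)
      have : (0 : Fin (𝓔.l + 2)) = (0 : Fin (𝓔.l + 1)).castSucc := rfl
      rw [this, ParSh.Str.pieceX_castSucc, 𝓔.piece_zero]
    rw [hz]; simp
  have := abel_identity 𝓔.l 𝓔.wtX (fun j => (((H j).eval (m : ℚ) : ℚ) : ℝ)) ((P.eval (m : ℚ) : ℚ) : ℝ) h0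
    𝓔.wtX_last
  simp only [ParSh.Str.wtX_castSucc] at this ⊢
  exact this
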