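import Groth.Agent.Lib.Helper4.ParShC
import Groth.Agent.Lib.Helper8.KillC
import Groth.Agent.Lib.Helper6.DevRed
import Groth.Agent.Lib.Helper17.Serre
set_option backward.isDefEq.respectTransparency.types false
set_option autoImplicit false
set_option linter.style.haveILetI false

universe u
open CategoryTheory CategoryTheory.Limits AlgebraicGeometry Opposite TopologicalSpace Polynomial MonoidalCategory

namespace Groth.Agent.Lib.Helper4.ParShD
open Groth.Agent.Lib.Helper16.Stk Groth.Agent.Lib.Helper16.TA Groth.Agent.Lib.Helper8.KillC

variable {X : Scheme.{u}}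

/-- tensoring a morphism (in the right variable) with a module does not enlarge the support of the cokernel -/
theorem support_cokernel_tensor_subset_right (M : X.Modules) {N N' : X.Modules} (g : N ⟶ N') :
    CohB1.support (cokernel ((DCoh.tensorBi.obj M).map g)) ⊆ CohB1.support (cokernel g) := by
  intro x hx
  by_contra hx'
  rw [← epi_stk_iff] at hx'
  revert hx
  change x ∉ CohB1.support (cokernel ((DCoh.tensorBi.obj M).map g))
  rw [← epi_stk_iff]
  have hnat := stalkTensorIso_natR x M g
  haveI : Epi ((stk x).obj M ◁ (stk x).map g) := by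
    rw [ModuleCat.epi_iff_surjective] at hx' ⊢
    exact LinearMap.lTensor_surjective _ hx'
  have h1 : Epi (((stk x).obj M ◁ (stk x).map g) ≫ (stalkTensorIso x M N').hom) := inferInstance
  rw [hnat] at h1
  exact (epi_comp_iff_of_epi _ _).1 h1

theorem support_eq_of_iso {A B : X.Modules} (e : A ≅ B) : CohB1.support A = CohB1.support B := by
  ext x
  rw [← not_iff_not, notMem_support_iff, notMem_support_iff]
  exact ⟨fun h => h.of_iso ((stk x).mapIso e).symm, fun h => h.of_iso ((stk x).mapIso e)⟩

theorem support_cokernel_comp_iso {A B B' : X.Modules} (f : A ⟶ B) (e : B ≅ B') :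
    CohB1.support (cokernel (f ≫ e.hom)) = CohB1.support (cokernel f) := by
  ext x
  rw [← not_iff_not, ← epi_stk_iff, ← epi_stk_iff, CategoryTheory.Functor.map_comp]
  constructor
  · intro h
    have : (stk x).map f = ((stk x).map f ≫ (stk x).map e.hom) ≫ (stk x).map e.inv := by
      rw [Category.assoc, ← CategoryTheory.Functor.map_comp, e.hom_inv_id, CategoryTheory.Functor.map_id, Category.comp_id]
    rw [this]
    infer_instance
  · intro h
    infer_instance

theorem support_cokernel_epi_comp {A' A B : X.Modules} (p : A' ⟶ A) [Epi p] (f : A ⟶ B) :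
    CohB1.support (cokernel (p ≫ f)) = CohB1.support (cokernel f) := by
  ext x
  rw [← not_iff_not, ← epi_stk_iff, ← epi_stk_iff, CategoryTheory.Functor.map_comp]
  haveI : Epi ((stk x).map p) := inferInstance
  exact epi_comp_iff_of_epi _ _

theorem support_cokernel_idealModι (I : X.IdealSheafData) :
    CohB1.support (cokernel (ClSub.idealModι I)) = (I.support : Set X) := by
  rw [← Groth.Agent.Lib.Helper6.DevRed.support_quotMod I]
  have hS := Groth.Agent.Lib.Helper17.Serre.idealSES_shortExact I
  have e : cokernel (ClSub.idealModι I) ≅ ClSub.quotMod I :=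
    IsColimit.coconePointUniqueUpToIso (cokernelIsCokernel _) hS.gIsCokernel
  exact support_eq_of_iso e

theorem support_cokernel_congr {A B : X.Modules} {f g : A ⟶ B} (h : f = g) :
    CohB1.support (cokernel f) = CohB1.support (cokernel g) := by
  subst h; rfl

theorem support_cokernel_twistSub (I : X.IdealSheafData) (E : X.Modules) :
    CohB1.support (cokernel (ParSh.twistSub I E).arrow) ⊆ CohB1.support E ∩ (I.support : Set X) := by
  refine Set.subset_inter (Groth.Agent.Lib.Helper6.DevCore.support_subset_of_epi (cokernel.π _)) ?_
  have h1 : CohB1.support (cokernel (ParSh.twistSub I E).arrow) =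
      CohB1.support (cokernel (ParSh.twistMap I E)) :=
    (support_cokernel_epi_comp (factorThruImageSubobject (ParSh.twistMap I E)) _).symm.trans
      (support_cokernel_congr (imageSubobject_arrow_comp (ParSh.twistMap I E)))
  have h2 : CohB1.support (cokernel (ParSh.twistMap I E)) =
      CohB1.support (cokernel ((DCoh.tensorBi.obj E).map (ClSub.idealModι I))) :=
    (support_cokernel_comp_iso _ (SecTwist.unitorR E)).trans
      (support_cokernel_congr (KoszTw.tensorBi_obj_map E (ClSub.idealModι I)).symm)
  rw [h1, h2, ← support_cokernel_idealModι I]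
  exact support_cokernel_tensor_subset_right E (ClSub.idealModι I)

end Groth.Agent.Lib.Helper4.ParShD
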