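import Groth.Agent.Lib.Helper4.ParShD
set_option backward.isDefEq.respectTransparency.types false
set_option autoImplicit false
set_option linter.style.haveILetI false

universe u
open CategoryTheory CategoryTheory.Limits AlgebraicGeometry Opposite TopologicalSpace Polynomial

namespace Groth.Agent.Lib.Helper4.ParShE
open Groth.Agent.Lib.Helper4.Snapper Groth.Agent.Lib.Helper6.K0Len Groth.Agent.Lib.Helper6.K0Op
open Groth.Agent.Lib.Helper4.HilbPoly Groth.Agent.Lib.Helper4.ParShA Groth.Agent.Lib.Helper4.ParShB
open Groth.Agent.Lib.Helper4.ParShC Groth.Agent.Lib.Helper4.ParShD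

section cat
variable {C : Type*} [Category C] [Abelian C]

theorem pullback_arrow_w {W E : C} (ι : W ⟶ E) (T : Subobject E) :
    ((Subobject.pullback ι).obj T).arrow ≫ factorThruImageSubobject (ι ≫ cokernel.π T.arrow) = 0 := by
  rw [← cancel_mono (imageSubobject (ι ≫ cokernel.π T.arrow)).arrow, Category.assoc, imageSubobject_arrow_comp,
    Limits.zero_comp, ← Category.assoc, ← (Subobject.isPullback ι T).w, Category.assoc, cokernel.condition,
    Limits.comp_zero]

/-- `0 → ι⁻¹T → W → im(W → E/T) → 0` -/
theorem pullback_arrow_shortExact {W E : C} (ι : W ⟶ E) (T : Subobject E) :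
    (ShortComplex.mk ((Subobject.pullback ι).obj T).arrow (factorThruImageSubobject (ι ≫ cokernel.π T.arrow))
      (pullback_arrow_w ι T)).ShortExact := by
  refine ShortComplex.ShortExact.mk' (ShortComplex.exact_of_f_is_kernel _
    (KernelFork.IsLimit.ofι' _ _ (fun {Z} h hh => ?_))) inferInstance inferInstance
  dsimp at h hh
  have h1 : (h ≫ ι) ≫ cokernel.π T.arrow = 0 := by
    rw [Category.assoc, ← imageSubobject_arrow_comp (ι ≫ cokernel.π T.arrow), ← Category.assoc, hh,
      Limits.zero_comp]
  let l : Z ⟶ (T : C) := Abelian.monoLift T.arrow (h ≫ ι) h1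
  have hl : l ≫ T.arrow = h ≫ ι := Abelian.monoLift_comp T.arrow (h ≫ ι) h1
  exact ⟨(Subobject.isPullback ι T).lift l h hl, (Subobject.isPullback ι T).lift_snd l h hl⟩

/-- for `T ≤ T'` the induced epimorphism `E/T ↠ E/T'` -/
noncomputable def cokerMap {E : C} {T T' : Subobject E} (h : T ≤ T') : cokernel T.arrow ⟶ cokernel T'.arrow :=
  cokernel.desc T.arrow (cokernel.π T'.arrow) (by
    rw [← Subobject.ofLE_arrow h, Category.assoc, cokernel.condition, Limits.comp_zero])

theorem π_cokerMap {E : C} {T T' : Subobject E} (h : T ≤ T') :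
    cokernel.π T.arrow ≫ cokerMap h = cokernel.π T'.arrow := cokernel.π_desc _ _ _

instance {E : C} {T T' : Subobject E} (h : T ≤ T') : Epi (cokerMap h) := by
  have : Epi (cokernel.π T.arrow ≫ cokerMap h) := by rw [π_cokerMap]; infer_instance
  exact epi_of_epi (cokernel.π T.arrow) _

end cat

variable {X : Scheme.{u}}

/-- a subobject with small quotient -/
def Small (d : ℕ) {E : X.Modules} (T : Subobject E) : Prop :=
  topologicalKrullDim (CohB1.support (cokernel T.arrow)) < (d : WithBot ℕ∞)

theorem dim_mono {A B : Set X} (h : A ⊆ B) : topologicalKrullDim A ≤ topologicalKrullDim B :=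
  (Topology.IsEmbedding.inclusion h).isInducing.topologicalKrullDim_le

theorem Small.of_le {d : ℕ} {E : X.Modules} {T T' : Subobject E} (hT : Small d T) (h : T ≤ T') : Small d T' :=
  lt_of_le_of_lt (dim_mono (Groth.Agent.Lib.Helper6.DevCore.support_subset_of_epi (cokerMap h))) hT

theorem Small.pullback {d : ℕ} {W E : X.Modules} (ι : W ⟶ E) {T : Subobject E} (hT : Small d T) :
    Small d ((Subobject.pullback ι).obj T) := by
  refine lt_of_le_of_lt (dim_mono ?_) hT
  have hS := pullback_arrow_shortExact ι T
  have e : cokernel ((Subobject.pullback ι).obj T).arrow ≅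
      ((imageSubobject (ι ≫ cokernel.π T.arrow) : Subobject (cokernel T.arrow)) : X.Modules) :=
    IsColimit.coconePointUniqueUpToIso (cokernelIsCokernel _) hS.gIsCokernel
  rw [support_eq_of_iso e]
  exact Groth.Agent.Lib.Helper6.DevCore.support_subset_of_mono (imageSubobject (ι ≫ cokernel.π T.arrow)).arrow

theorem small_twistSub {d : ℕ} (I : X.IdealSheafData) (E : X.Modules)
    (hsupp : topologicalKrullDim ↥(CohB1.support E ∩ (I.support : Set X)) < (d : WithBot ℕ∞)) :
    Small d (ParSh.twistSub I E) :=
  lt_of_le_of_lt (dim_mono (support_cokernel_twistSub I E)) hsupp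

end Groth.Agent.Lib.Helper4.ParShE
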