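import Groth.Agent.Lib.Helper4.ParShE
set_option backward.isDefEq.respectTransparency.types false
set_option autoImplicit false
set_option linter.style.haveILetI false

universe u
open CategoryTheory CategoryTheory.Limits AlgebraicGeometry Opposite TopologicalSpace Polynomial

namespace Groth.Agent.Lib.Helper4.ParShF
open Groth.Agent.Lib.Helper4.Snapper Groth.Agent.Lib.Helper6.K0Len Groth.Agent.Lib.Helper6.K0Op
open Groth.Agent.Lib.Helper4.HilbPoly Groth.Agent.Lib.Helper4.ParShA Groth.Agent.Lib.Helper4.ParShB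
open Groth.Agent.Lib.Helper4.ParShC Groth.Agent.Lib.Helper4.ParShD Groth.Agent.Lib.Helper4.ParShE

variable (k : Type u) [Field k] {X : Scheme.{u}} [X.Over (Spec (CommRingCat.of k))]
    [IsProper (X ↘ (Spec (CommRingCat.of k)))] {L : X.Modules}

/-- coefficients of a Hilbert polynomial of a coherent module whose support has dimension `< d` -/
theorem coeff_of_small_support (hL : CohB1.IsAmple L) {G : X.Modules} (hG : Coh.IsCoh G) {d : ℕ}
    (hs : topologicalKrullDim (CohB1.support G) < (d : WithBot ℕ∞)) {R : ℚ[X]}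
    (hR : ShStab.IsHilbPoly k X L G R) :
    (∀ n, d ≤ n → R.coeff n = 0) ∧ 0 ≤ R.coeff (d - 1) := by
  rcases Nat.eq_zero_or_pos d with h0 | hpos
  · subst h0
    have hempty : CohB1.support G = ∅ := by
      by_contra hne
      obtain ⟨x, hx⟩ := Set.nonempty_iff_ne_empty.2 hne
      have h1 : (0 : WithBot ℕ∞) ≤ topologicalKrullDim (CohB1.support G) := by
        have : Nonempty (IrreducibleCloseds ↥(CohB1.support G)) :=
          ⟨⟨closure {(⟨x, hx⟩ : ↥(CohB1.support G))}, isIrreducible_singleton.closure, isClosed_closure⟩⟩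
        exact Order.krullDim_nonneg
      exact absurd (lt_of_le_of_lt h1 hs) (by simp)
    have hz := Groth.Agent.Lib.Helper6.DevCore.isZero_of_support_eq_empty G hempty
    have : R = 0 := isHilbPoly_unique k hR (isHilbPoly_zero k hL.1 hz)
    subst this
    simp
  · have hle := le_pred_of_lt _ d hs
    have hdeg := natDegree_le k hL.1 hG hle hR
    refine ⟨fun n hn => coeff_eq_zero_of_natDegree_lt (by omega), ?_⟩
    have hα := alpha_nonneg k hL hG hle hR
    unfold StabCat.alpha at hα
    have hf : (0 : ℚ) < ((d - 1).factorial : ℚ) := by exact_mod_cast Nat.factorial_pos _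
    exact nonneg_of_mul_nonneg_right hα hf

/-- Hilbert polynomial of the quotient by a coherent subobject -/
theorem isHilbPoly_cokernel (hL : PicF.IsInvertible L) {E : X.Modules} (hE : Coh.IsCoh E) (T : Subobject E)
    (hT : Coh.IsCoh (T : X.Modules)) {P PT : ℚ[X]} (hP : ShStab.IsHilbPoly k X L E P)
    (hPT : ShStab.IsHilbPoly k X L (T : X.Modules) PT) :
    ShStab.IsHilbPoly k X L (cokernel T.arrow) (P - PT) :=
  isHilbPoly_sub_left k hL (ShortComplex.mk T.arrow (cokernel.π T.arrow) (cokernel.condition _))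
    (shortExact_cokernel T.arrow) hT hE
    (Groth.Agent.Lib.Helper6.DevCore.isCoh_cokernel T.arrow hT hE) hPT hP

theorem coeff_sub_of_small (hL : CohB1.IsAmple L) {E : X.Modules} (hE : Coh.IsCoh E) {T : Subobject E}
    (hT : Coh.IsCoh (T : X.Modules)) {d : ℕ} (hs : Small d T) {P PT : ℚ[X]}
    (hP : ShStab.IsHilbPoly k X L E P) (hPT : ShStab.IsHilbPoly k X L (T : X.Modules) PT) :
    (∀ n, d ≤ n → PT.coeff n = P.coeff n) ∧ PT.coeff (d - 1) ≤ P.coeff (d - 1) := by
  obtain ⟨h1, h2⟩ := coeff_of_small_support k hL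
    (Groth.Agent.Lib.Helper6.DevCore.isCoh_cokernel T.arrow hT hE) hs
    (isHilbPoly_cokernel k hL.1 hE T hT hP hPT)
  refine ⟨fun n hn => ?_, ?_⟩
  · have := h1 n hn
    rw [coeff_sub] at this
    linarith
  · rw [coeff_sub] at h2
    linarith

theorem coeff_mono_of_small (hL : CohB1.IsAmple L) {E : X.Modules} (hE : Coh.IsCoh E) {T T' : Subobject E}
    (hle : T' ≤ T) (hT : Coh.IsCoh (T : X.Modules)) (hT' : Coh.IsCoh (T' : X.Modules)) {d : ℕ}
    (hs : Small d T') {P PT PT' : ℚ[X]}
    (hP : ShStab.IsHilbPoly k X L E P) (hPT : ShStab.IsHilbPoly k X L (T : X.Modules) PT)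
    (hPT' : ShStab.IsHilbPoly k X L (T' : X.Modules) PT') :
    PT'.coeff (d - 1) ≤ PT.coeff (d - 1) := by
  haveI : IsLocallyNoetherian X := Groth.Agent.Lib.Helper8.EulerK.isLocallyNoetherian k X
  have hc := Groth.Agent.Lib.Helper6.DevCore.isCoh_cokernel T.arrow hT hE
  have hc' := Groth.Agent.Lib.Helper6.DevCore.isCoh_cokernel T'.arrow hT' hE
  have hK := Groth.Agent.Lib.Helper6.DevCore.isCoh_kernel (cokerMap hle) hc' hc
  have hPK := isHilbPoly_sub_right k hL.1 _ (shortExact_kernel (cokerMap hle)) hK hc' hc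
    (isHilbPoly_cokernel k hL.1 hE T' hT' hP hPT') (isHilbPoly_cokernel k hL.1 hE T hT hP hPT)
  have hsK : topologicalKrullDim (CohB1.support (kernel (cokerMap hle))) < (d : WithBot ℕ∞) :=
    lt_of_le_of_lt (dim_mono (Groth.Agent.Lib.Helper6.DevCore.support_subset_of_mono (kernel.ι _))) hs
  obtain ⟨_, h2⟩ := coeff_of_small_support k hL hK hsK hPK
  simp only [coeff_sub] at h2
  linarith

/-- the Hilbert polynomial of the top subobject -/
theorem isHilbPoly_top (hL : PicF.IsInvertible L) {E : X.Modules} (hE : Coh.IsCoh E) {T : Subobject E}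
    (hT : T = ⊤) {P PT : ℚ[X]} (hP : ShStab.IsHilbPoly k X L E P)
    (hPT : ShStab.IsHilbPoly k X L (T : X.Modules) PT) : PT = P := by
  subst hT
  haveI : IsIso (⊤ : Subobject E).arrow := inferInstance
  exact isHilbPoly_unique k hPT (isHilbPoly_of_iso k hL (asIso (⊤ : Subobject E).arrow).symm hE hP)

end Groth.Agent.Lib.Helper4.ParShF
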