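import Groth.Agent.Lib.Helper4.ParShF
set_option backward.isDefEq.respectTransparency.types false
set_option autoImplicit false
set_option linter.style.haveILetI false

universe u
open CategoryTheory CategoryTheory.Limits AlgebraicGeometry Opposite TopologicalSpace Polynomial

namespace Groth.Agent.Lib.Helper4.ParShG
open Groth.Agent.Lib.Helper4.Snapper Groth.Agent.Lib.Helper6.K0Len Groth.Agent.Lib.Helper6.K0Op
open Groth.Agent.Lib.Helper4.HilbPoly Groth.Agent.Lib.Helper4.ParShA Groth.Agent.Lib.Helper4.ParShB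
open Groth.Agent.Lib.Helper4.ParShC Groth.Agent.Lib.Helper4.ParShD Groth.Agent.Lib.Helper4.ParShE
open Groth.Agent.Lib.Helper4.ParShF W4swparbununimod

section poly

theorem coeff_rpoly (P : ℚ[X]) (n : ℕ) : (rpoly P).coeff n = ((P.coeff n : ℚ) : ℝ) := by
  unfold rpoly
  rw [coeff_map]
  rfl

theorem eval_rpoly (P : ℚ[X]) (m : ℕ) : (rpoly P).eval (m : ℝ) = ((P.eval (m : ℚ) : ℚ) : ℝ) := by
  unfold rpoly
  have := Polynomial.eval_map_apply (f := Rat.castHom ℝ) (p := P) (x := (m : ℚ))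
  simp only [eq_ratCast, Rat.cast_natCast] at this
  exact this

variable {𝒞 : Type*} [Category 𝒞] {E : 𝒞}

theorem coeff_parPoly (𝓔 : ParSh.Str E) (PX : Fin (𝓔.l + 2) → ℚ[X]) (n : ℕ) :
    (parPoly 𝓔 PX).coeff n = (((PX (Fin.last (𝓔.l + 1))).coeff n : ℚ) : ℝ) +
      ∑ j : Fin (𝓔.l + 1), 𝓔.wt j * ((((PX j.castSucc).coeff n : ℚ) : ℝ) - (((PX j.succ).coeff n : ℚ) : ℝ)) := by
  unfold parPoly
  rw [coeff_add, finsetSum_coeff, coeff_rpoly]
  congr 1
  refine Finset.sum_congr rfl fun j _ => ?_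
  rw [coeff_C_mul, coeff_sub, coeff_rpoly, coeff_rpoly]

theorem eval_parPoly (𝓔 : ParSh.Str E) (PX : Fin (𝓔.l + 2) → ℚ[X]) (m : ℕ) :
    (parPoly 𝓔 PX).eval (m : ℝ) = (((PX (Fin.last (𝓔.l + 1))).eval (m : ℚ) : ℚ) : ℝ) +
      ∑ j : Fin (𝓔.l + 1), 𝓔.wt j *
        ((((PX j.castSucc).eval (m : ℚ) : ℚ) : ℝ) - (((PX j.succ).eval (m : ℚ) : ℚ) : ℝ)) := by
  unfold parPoly
  rw [eval_add, eval_finsetSum, eval_rpoly]
  congr 1
  refine Finset.sum_congr rfl fun j _ => ?_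
  rw [eval_mul, eval_C, eval_sub, eval_rpoly, eval_rpoly]

theorem wt_nonneg' (𝓔 : ParSh.Str E) (j : Fin (𝓔.l + 1)) : 0 ≤ 𝓔.wt j :=
  le_trans 𝓔.wt_nonneg (𝓔.wt_strictMono.monotone (Fin.zero_le j))

theorem wt_lt_one' (𝓔 : ParSh.Str E) (j : Fin (𝓔.l + 1)) : 𝓔.wt j < 1 :=
  lt_of_le_of_lt (𝓔.wt_strictMono.monotone (Fin.le_last j)) 𝓔.wt_lt_one

theorem telescope (l : ℕ) (c : Fin (l + 2) → ℝ) :
    ∑ j : Fin (l + 1), (c j.castSucc - c j.succ) = c 0 - c (Fin.last (l + 1)) := by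
  have e1 := Fin.sum_univ_castSucc c
  have e2 := Fin.sum_univ_succ c
  rw [Finset.sum_sub_distrib]
  linarith

/-- the numerical sandwich for weighted sums -/
theorem sandwich (l : ℕ) (c : Fin (l + 2) → ℝ) (w : Fin (l + 1) → ℝ) (hc : ∀ j : Fin (l + 1), c j.succ ≤ c j.castSucc)
    (hw0 : ∀ j, 0 ≤ w j) (hw1 : ∀ j, w j ≤ 1) :
    c (Fin.last (l + 1)) ≤ c (Fin.last (l + 1)) + ∑ j : Fin (l + 1), w j * (c j.castSucc - c j.succ) ∧
      c (Fin.last (l + 1)) + ∑ j : Fin (l + 1), w j * (c j.castSucc - c j.succ) ≤ c 0 := by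
  constructor
  · have : 0 ≤ ∑ j : Fin (l + 1), w j * (c j.castSucc - c j.succ) :=
      Finset.sum_nonneg fun j _ => mul_nonneg (hw0 j) (by linarith [hc j])
    linarith
  · have h1 : ∑ j : Fin (l + 1), w j * (c j.castSucc - c j.succ) ≤ ∑ j : Fin (l + 1), (c j.castSucc - c j.succ) :=
      Finset.sum_le_sum fun j _ => by
        have := hc j
        nlinarith [hw1 j, hw0 j]
    rw [telescope] at h1
    linarith

end poly

variable (k : Type u) [Field k] {X : Scheme.{u}} [X.Over (Spec (CommRingCat.of k))]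
    [IsProper (X ↘ (Spec (CommRingCat.of k)))] (L : X.Modules)

/-- the hypotheses on a filtered structure under which the coefficient computations work -/
structure Good (d : ℕ) {E : X.Modules} (𝓔 : ParSh.Str E) : Prop where
  cohE : Coh.IsCoh E
  coh : ∀ j, Coh.IsCoh ((𝓔.pieceX j : Subobject E) : X.Modules)
  small : Small d 𝓔.bot

variable {L}

omit [IsProper (X ↘ (Spec (CommRingCat.of k)))] [X.Over (Spec (CommRingCat.of k))] in
theorem Good.of_along {d : ℕ} {E : X.Modules} {𝓔 : ParSh.Str E} (hE : Coh.IsCoh E)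
    (hcoh : ∀ j, Coh.IsCoh ((𝓔.pieceX j : Subobject E) : X.Modules)) (I : X.IdealSheafData) (h𝓔 : 𝓔.Along I)
    (hsupp : topologicalKrullDim ↥(CohB1.support E ∩ (I.support : Set X)) < (d : WithBot ℕ∞)) :
    Good d 𝓔 :=
  ⟨hE, hcoh, by rw [h𝓔]; exact small_twistSub I E hsupp⟩

omit [IsProper (X ↘ (Spec (CommRingCat.of k)))] [X.Over (Spec (CommRingCat.of k))] in
theorem isCoh_pullback [IsLocallyNoetherian X] {W E : X.Modules} (hW : Coh.IsCoh W) (hE : Coh.IsCoh E) (ι : W ⟶ E)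
    (T : Subobject E) (hT : Coh.IsCoh (T : X.Modules)) :
    Coh.IsCoh (((Subobject.pullback ι).obj T : Subobject W) : X.Modules) := by
  have hc := Groth.Agent.Lib.Helper6.DevCore.isCoh_cokernel T.arrow hT hE
  have h3 : Coh.IsCoh ((imageSubobject (ι ≫ cokernel.π T.arrow) : Subobject (cokernel T.arrow)) : X.Modules) := by
    have h := Groth.Agent.Lib.Helper6.DevCore.isCoh_image (ι ≫ cokernel.π T.arrow) hW hc
    exact Groth.Agent.Lib.Helper6.DevCore.isCoh_of_iso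
      ((Abelian.imageIsoImage (ι ≫ cokernel.π T.arrow)) ≪≫ (imageSubobjectIso (ι ≫ cokernel.π T.arrow)).symm) h
  have hS' := pullback_arrow_shortExact ι T
  have hk := Groth.Agent.Lib.Helper6.DevCore.isCoh_kernel (factorThruImageSubobject (ι ≫ cokernel.π T.arrow)) hW h3
  exact Groth.Agent.Lib.Helper6.DevCore.isCoh_of_iso
    (IsLimit.conePointUniqueUpToIso (kernelIsKernel _) hS'.fIsKernel) hk

omit [IsProper (X ↘ (Spec (CommRingCat.of k)))] [X.Over (Spec (CommRingCat.of k))] in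
theorem Good.induced [IsLocallyNoetherian X] {d : ℕ} {E : X.Modules} {𝓔 : ParSh.Str E} (h : Good d 𝓔)
    {W : X.Modules} (hW : Coh.IsCoh W) (ι : W ⟶ E) : Good d (𝓔.induced ι) := by
  refine ⟨hW, fun j => ?_, h.small.pullback ι⟩
  rw [pieceX_induced]
  exact isCoh_pullback hW h.cohE ι _ (h.coh j)

/-- all extended pieces have small quotient -/
theorem Good.small_pieceX {d : ℕ} {E : X.Modules} {𝓔 : ParSh.Str E} (h : Good d 𝓔) (j : Fin (𝓔.l + 2)) :
    Small d (𝓔.pieceX j) := h.small.of_le (𝓔.bot_le_pieceX j)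

omit [IsProper (X ↘ (Spec (CommRingCat.of k)))] [X.Over (Spec (CommRingCat.of k))] in
theorem pieceX_succ_le {E : X.Modules} (𝓔 : ParSh.Str E) (j : Fin (𝓔.l + 1)) :
    𝓔.pieceX j.succ ≤ 𝓔.pieceX j.castSucc := by
  rw [ParSh.Str.pieceX_castSucc]
  induction j using Fin.lastCases with
  | last => rw [ParSh.Str.pieceX_succ_last]; exact 𝓔.bot_le _
  | cast j =>
    rw [ParSh.Str.pieceX_succ_castSucc]
    exact 𝓔.piece_anti (Fin.castSucc_lt_succ).le

/-- **S18525** in general form -/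
theorem coeff_parPoly_of_le (hL : CohB1.IsAmple L) {d : ℕ} {E : X.Modules} {𝓔 : ParSh.Str E} (h : Good d 𝓔)
    {P : ℚ[X]} (hP : ShStab.IsHilbPoly k X L E P) {PX : Fin (𝓔.l + 2) → ℚ[X]}
    (hPX : ∀ j, ShStab.IsHilbPoly k X L ((𝓔.pieceX j : Subobject E) : X.Modules) (PX j))
    (n : ℕ) (hn : d ≤ n) : (parPoly 𝓔 PX).coeff n = (rpoly P).coeff n := by
  rw [coeff_parPoly, coeff_rpoly]
  have key : ∀ j, (PX j).coeff n = P.coeff n := fun j =>
    (coeff_sub_of_small k hL h.cohE (h.coh j) (h.small_pieceX j) hP (hPX j)).1 n hn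
  simp only [key, sub_self, mul_zero, Finset.sum_const_zero, add_zero]

/-- **S18527** in general form -/
theorem coeff_parPoly_pred (hL : CohB1.IsAmple L) {d : ℕ} {E : X.Modules} {𝓔 : ParSh.Str E} (h : Good d 𝓔)
    {P : ℚ[X]} (hP : ShStab.IsHilbPoly k X L E P) {PX : Fin (𝓔.l + 2) → ℚ[X]}
    (hPX : ∀ j, ShStab.IsHilbPoly k X L ((𝓔.pieceX j : Subobject E) : X.Modules) (PX j)) :
    (rpoly (PX (Fin.last (𝓔.l + 1)))).coeff (d - 1) ≤ (parPoly 𝓔 PX).coeff (d - 1) ∧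
      (parPoly 𝓔 PX).coeff (d - 1) ≤ (rpoly P).coeff (d - 1) := by
  rw [coeff_parPoly, coeff_rpoly, coeff_rpoly]
  have h0 : PX 0 = P := by
    refine isHilbPoly_top k hL.1 h.cohE ?_ hP (hPX 0)
    have : (0 : Fin (𝓔.l + 2)) = (0 : Fin (𝓔.l + 1)).castSucc := rfl
    rw [this, ParSh.Str.pieceX_castSucc, 𝓔.piece_zero]
  have hmono : ∀ j : Fin (𝓔.l + 1), (((PX j.succ).coeff (d - 1) : ℚ) : ℝ) ≤ (((PX j.castSucc).coeff (d - 1) : ℚ) : ℝ) := by
    intro j
    exact_mod_cast coeff_mono_of_small k hL h.cohE (pieceX_succ_le 𝓔 j) (h.coh _) (h.coh _)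
      (h.small_pieceX _) hP (hPX _) (hPX _)
  have := sandwich 𝓔.l (fun j => (((PX j).coeff (d - 1) : ℚ) : ℝ)) 𝓔.wt hmono (wt_nonneg' 𝓔)
    (fun j => (wt_lt_one' 𝓔 j).le)
  simp only [h0] at this
  exact this

end Groth.Agent.Lib.Helper4.ParShG
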