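import Groth.Agent.Lib.Helper4.ParShG
set_option backward.isDefEq.respectTransparency.types false
set_option autoImplicit false
set_option linter.style.haveILetI false

universe u
open CategoryTheory CategoryTheory.Limits AlgebraicGeometry Opposite TopologicalSpace Polynomial Filter

namespace Groth.Agent.Lib.Helper4.ParShH
open Groth.Agent.Lib.Helper4.Snapper Groth.Agent.Lib.Helper6.K0Len Groth.Agent.Lib.Helper6.K0Op
open Groth.Agent.Lib.Helper4.HilbPoly Groth.Agent.Lib.Helper4.ParShA Groth.Agent.Lib.Helper4.ParShB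
open Groth.Agent.Lib.Helper4.ParShC Groth.Agent.Lib.Helper4.ParShD Groth.Agent.Lib.Helper4.ParShE
open Groth.Agent.Lib.Helper4.ParShF Groth.Agent.Lib.Helper4.ParShG W4swparbununimod

section real

/-- a real polynomial of degree `≤ n` with positive `n`-th coefficient is eventually positive on `ℕ` -/
theorem eventually_pos_of_coeff_pos {P : ℝ[X]} {n : ℕ} (hn : P.natDegree ≤ n) (hc : 0 < P.coeff n) :
    ∃ N : ℕ, ∀ m : ℕ, N ≤ m → 0 < P.eval (m : ℝ) := by
  have hdeg : P.natDegree = n := by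
    apply le_antisymm hn
    exact Polynomial.le_natDegree_of_ne_zero hc.ne'
  have hlc : P.leadingCoeff = P.coeff n := by rw [leadingCoeff, hdeg]
  rcases Nat.eq_zero_or_pos n with h0 | hpos
  · subst h0
    have hP : P = C (P.coeff 0) := Polynomial.eq_C_of_natDegree_eq_zero hdeg
    refine ⟨0, fun m _ => ?_⟩
    rw [hP, eval_C]
    exact hc
  · have hd : 0 < P.degree := by
      rw [← natDegree_pos_iff_degree_pos, hdeg]
      exact hpos
    have ht := Polynomial.tendsto_atTop_of_leadingCoeff_nonneg P hd (by rw [hlc]; exact hc.le)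
    have ht' : Tendsto (fun m : ℕ => P.eval (m : ℝ)) atTop atTop :=
      ht.comp tendsto_natCast_atTop_atTop
    have := ht'.eventually_gt_atTop 0
    rw [Filter.eventually_atTop] at this
    exact this

theorem coeff_nonneg_of_eventually_nonneg {P : ℝ[X]} {n : ℕ} (hn : P.natDegree ≤ n)
    (h : ∃ N : ℕ, ∀ m : ℕ, N ≤ m → 0 ≤ P.eval (m : ℝ)) : 0 ≤ P.coeff n := by
  by_contra hc
  rw [not_le] at hc
  have h1 : (-P).natDegree ≤ n := by rw [natDegree_neg]; exact hn
  have h2 : 0 < (-P).coeff n := by rw [coeff_neg]; linarith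
  obtain ⟨N1, hN1⟩ := eventually_pos_of_coeff_pos h1 h2
  obtain ⟨N2, hN2⟩ := h
  have a := hN1 (max N1 N2) (le_max_left _ _)
  have b := hN2 (max N1 N2) (le_max_right _ _)
  rw [eval_neg] at a
  linarith

/-- cross-multiplied comparison of two real polynomials of degree `≤ d` whose top coefficients cancel -/
theorem cross_compare {A B : ℝ[X]} {a b : ℝ} {d : ℕ} (hd : 1 ≤ d)
    (hA : ∀ n, d < n → A.coeff n = 0) (hB : ∀ n, d < n → B.coeff n = 0)
    (htop : A.coeff d * a = B.coeff d * b) :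
    ((∃ M : ℕ, ∀ m : ℕ, M ≤ m → A.eval (m : ℝ) * a ≤ B.eval (m : ℝ) * b) →
      A.coeff (d - 1) * a ≤ B.coeff (d - 1) * b) ∧
    (A.coeff (d - 1) * a < B.coeff (d - 1) * b →
      ∃ M : ℕ, ∀ m : ℕ, M ≤ m → A.eval (m : ℝ) * a < B.eval (m : ℝ) * b) := by
  set D : ℝ[X] := B * C b - A * C a with hD
  have hcoef : ∀ n, D.coeff n = B.coeff n * b - A.coeff n * a := fun n => by
    rw [hD, coeff_sub, coeff_mul_C, coeff_mul_C]
  have heval : ∀ x : ℝ, D.eval x = B.eval x * b - A.eval x * a := fun x => by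
    rw [hD, eval_sub, eval_mul, eval_mul, eval_C, eval_C]
  have hdeg : D.natDegree ≤ d - 1 := by
    rw [natDegree_le_iff_coeff_eq_zero]
    intro n hn
    rw [hcoef]
    rcases Nat.lt_or_ge d n with h | h
    · rw [hA n h, hB n h]; ring
    · have : n = d := by omega
      subst this
      rw [htop]; ring
  constructor
  · rintro ⟨M, hM⟩
    have := coeff_nonneg_of_eventually_nonneg hdeg ⟨M, fun m hm => by rw [heval]; linarith [hM m hm]⟩
    rw [hcoef] at this
    linarith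
  · intro h
    obtain ⟨M, hM⟩ := eventually_pos_of_coeff_pos hdeg (by rw [hcoef]; linarith)
    exact ⟨M, fun m hm => by have := hM m hm; rw [heval] at this; linarith⟩

end real

variable (k : Type u) [Field k] {X : Scheme.{u}} [X.Over (Spec (CommRingCat.of k))]
    [IsProper (X ↘ (Spec (CommRingCat.of k)))] {L : X.Modules}

/-- vanishing of the high coefficients of `parPoly` -/
theorem coeff_parPoly_of_lt (hL : CohB1.IsAmple L) {d : ℕ} {E : X.Modules} {𝓔 : ParSh.Str E} (h : Good d 𝓔)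
    (hdim : topologicalKrullDim (CohB1.support E) ≤ (d : WithBot ℕ∞))
    {P : ℚ[X]} (hP : ShStab.IsHilbPoly k X L E P) {PX : Fin (𝓔.l + 2) → ℚ[X]}
    (hPX : ∀ j, ShStab.IsHilbPoly k X L ((𝓔.pieceX j : Subobject E) : X.Modules) (PX j))
    (n : ℕ) (hn : d < n) : (parPoly 𝓔 PX).coeff n = 0 := by
  rw [coeff_parPoly_of_le k hL h hP hPX n hn.le, coeff_rpoly,
    coeff_eq_zero_of_natDegree_lt (lt_of_le_of_lt (natDegree_le k hL.1 h.cohE hdim hP) hn)]
  simp

/-- **S18528** in general form -/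
theorem compare_parPoly (hL : CohB1.IsAmple L) {d : ℕ} (hd : 1 ≤ d) {E : X.Modules} {𝓔 : ParSh.Str E}
    (h : Good d 𝓔) (hdim : topologicalKrullDim (CohB1.support E) ≤ (d : WithBot ℕ∞))
    {P : ℚ[X]} (hP : ShStab.IsHilbPoly k X L E P) {PX : Fin (𝓔.l + 2) → ℚ[X]}
    (hPX : ∀ j, ShStab.IsHilbPoly k X L ((𝓔.pieceX j : Subobject E) : X.Modules) (PX j))
    {W : X.Modules} (ι : W ⟶ E) [Mono ι] (hW : Coh.IsCoh W)
    {Q : ℚ[X]} (hQ : ShStab.IsHilbPoly k X L W Q) {QX : Fin (𝓔.l + 2) → ℚ[X]}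
    (hQX : ∀ j, ShStab.IsHilbPoly k X L (((𝓔.induced ι).pieceX j : Subobject W) : X.Modules) (QX j)) :
    ((∃ M : ℕ, ∀ m : ℕ, M ≤ m →
        (parPoly (𝓔.induced ι) QX).eval (m : ℝ) * (StabCat.alpha d P : ℝ) ≤
          (parPoly 𝓔 PX).eval (m : ℝ) * (StabCat.alpha d Q : ℝ)) →
      (parPoly (𝓔.induced ι) QX).coeff (d - 1) * (StabCat.alpha d P : ℝ) ≤
        (parPoly 𝓔 PX).coeff (d - 1) * (StabCat.alpha d Q : ℝ)) ∧
    ((parPoly (𝓔.induced ι) QX).coeff (d - 1) * (StabCat.alpha d P : ℝ) <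
        (parPoly 𝓔 PX).coeff (d - 1) * (StabCat.alpha d Q : ℝ) →
      ∃ M : ℕ, ∀ m : ℕ, M ≤ m →
        (parPoly (𝓔.induced ι) QX).eval (m : ℝ) * (StabCat.alpha d P : ℝ) <
          (parPoly 𝓔 PX).eval (m : ℝ) * (StabCat.alpha d Q : ℝ)) := by
  haveI : IsLocallyNoetherian X := Groth.Agent.Lib.Helper8.EulerK.isLocallyNoetherian k X
  have hW' : Good d (𝓔.induced ι) := h.induced hW ι
  have hdimW : topologicalKrullDim (CohB1.support W) ≤ (d : WithBot ℕ∞) :=
    le_trans (dim_support_le_of_mono ι) hdim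
  refine cross_compare hd (fun n hn => coeff_parPoly_of_lt k hL hW' hdimW hQ hQX n hn)
    (fun n hn => coeff_parPoly_of_lt k hL h hdim hP hPX n hn) ?_
  rw [coeff_parPoly_of_le k hL hW' hQ hQX d le_rfl, coeff_parPoly_of_le k hL h hP hPX d le_rfl,
    coeff_rpoly, coeff_rpoly]
  unfold StabCat.alpha
  push_cast
  ring

end Groth.Agent.Lib.Helper4.ParShH
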