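import Groth.Agent.Lib.Helper4.ParShH
set_option backward.isDefEq.respectTransparency.types false
set_option autoImplicit false
set_option linter.style.haveILetI false

universe u
open CategoryTheory CategoryTheory.Limits AlgebraicGeometry Opposite TopologicalSpace Polynomial Filter

namespace Groth.Agent.Lib.Helper4.ParShI
open Groth.Agent.Lib.Helper4.Snapper Groth.Agent.Lib.Helper6.K0Len Groth.Agent.Lib.Helper6.K0Op
open Groth.Agent.Lib.Helper4.HilbPoly Groth.Agent.Lib.Helper4.ParShA Groth.Agent.Lib.Helper4.ParShB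
open Groth.Agent.Lib.Helper4.ParShC Groth.Agent.Lib.Helper4.ParShD Groth.Agent.Lib.Helper4.ParShE
open Groth.Agent.Lib.Helper4.ParShF Groth.Agent.Lib.Helper4.ParShG Groth.Agent.Lib.Helper4.ParShH W4swparbununimod

section poly
variable {𝒞 : Type*} [Category 𝒞] {E : 𝒞}

theorem coeff_parPolyOne (𝓔 : ParSh.Str E) (d : ℕ) (Q : ℚ[X]) (QH H : Fin (𝓔.l + 2) → ℚ[X]) (n : ℕ) :
    (parPolyOne 𝓔 d Q QH H).coeff n = ((Q.coeff n : ℚ) : ℝ) -
      ∑ j : Fin (𝓔.l + 1), ((𝓔.wtX j.succ - 𝓔.wtX j.castSucc) *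
        ((StabCat.alpha (d - 1) (QH j.succ) / StabCat.alpha (d - 1) (H j.succ) : ℚ) : ℝ)) *
          (((H j.succ).coeff n : ℚ) : ℝ) := by
  unfold parPolyOne
  rw [coeff_sub, finsetSum_coeff, coeff_rpoly]
  congr 1
  refine Finset.sum_congr rfl fun j _ => ?_
  rw [coeff_C_mul, coeff_rpoly]

theorem eval_parPolyOne (𝓔 : ParSh.Str E) (d : ℕ) (Q : ℚ[X]) (QH H : Fin (𝓔.l + 2) → ℚ[X]) (m : ℕ) :
    (parPolyOne 𝓔 d Q QH H).eval (m : ℝ) = ((Q.eval (m : ℚ) : ℚ) : ℝ) -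
      ∑ j : Fin (𝓔.l + 1), ((𝓔.wtX j.succ - 𝓔.wtX j.castSucc) *
        ((StabCat.alpha (d - 1) (QH j.succ) / StabCat.alpha (d - 1) (H j.succ) : ℚ) : ℝ)) *
          (((H j.succ).eval (m : ℚ) : ℚ) : ℝ) := by
  unfold parPolyOne
  rw [eval_sub, eval_finsetSum, eval_rpoly]
  congr 1
  refine Finset.sum_congr rfl fun j _ => ?_
  rw [eval_mul, eval_C, eval_rpoly]

end poly

variable (k : Type u) [Field k] {X : Scheme.{u}} [X.Over (Spec (CommRingCat.of k))]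
    [IsProper (X ↘ (Spec (CommRingCat.of k)))] {L : X.Modules}

/-- the Hilbert polynomials of the extended pieces from those of the quotients -/
theorem pieceX_poly_eq (hL : CohB1.IsAmple L) {d : ℕ} {E : X.Modules} {𝓔 : ParSh.Str E} (h : Good d 𝓔)
    {P : ℚ[X]} (hP : ShStab.IsHilbPoly k X L E P) {PX : Fin (𝓔.l + 2) → ℚ[X]}
    (hPX : ∀ j, ShStab.IsHilbPoly k X L ((𝓔.pieceX j : Subobject E) : X.Modules) (PX j))
    {H : Fin (𝓔.l + 2) → ℚ[X]} (hH : ∀ j, ShStab.IsHilbPoly k X L (cokernel (𝓔.pieceX j).arrow) (H j)) :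
    (∀ j, PX j = P - H j) ∧ H 0 = 0 := by
  refine ⟨fun j => isHilbPoly_unique k (hPX j) (isHilbPoly_subobject k hL.1 h.cohE _ (h.coh j) hP (hH j)), ?_⟩
  refine eval_cokernel_top k hL.1 (𝓔.pieceX 0) ?_ (hH 0)
  have : (0 : Fin (𝓔.l + 2)) = (0 : Fin (𝓔.l + 1)).castSucc := rfl
  rw [this, ParSh.Str.pieceX_castSucc, 𝓔.piece_zero]

/-- coefficients of the quotient Hilbert polynomials -/
theorem coeff_quot (hL : CohB1.IsAmple L) {d : ℕ} {E : X.Modules} {𝓔 : ParSh.Str E} (h : Good d 𝓔)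
    {H : Fin (𝓔.l + 2) → ℚ[X]} (hH : ∀ j, ShStab.IsHilbPoly k X L (cokernel (𝓔.pieceX j).arrow) (H j))
    (j : Fin (𝓔.l + 2)) : (∀ n, d ≤ n → (H j).coeff n = 0) ∧ 0 ≤ (H j).coeff (d - 1) :=
  coeff_of_small_support k hL (Groth.Agent.Lib.Helper6.DevCore.isCoh_cokernel _ (h.coh j) h.cohE)
    (h.small_pieceX j) (hH j)

/-- the `n`-th coefficient of `parPoly` in terms of the quotient polynomials (Abel summation) -/
theorem coeff_parPoly_quot (hL : CohB1.IsAmple L) {d : ℕ} {E : X.Modules} {𝓔 : ParSh.Str E} (h : Good d 𝓔)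
    {P : ℚ[X]} (hP : ShStab.IsHilbPoly k X L E P) {PX : Fin (𝓔.l + 2) → ℚ[X]}
    (hPX : ∀ j, ShStab.IsHilbPoly k X L ((𝓔.pieceX j : Subobject E) : X.Modules) (PX j))
    {H : Fin (𝓔.l + 2) → ℚ[X]} (hH : ∀ j, ShStab.IsHilbPoly k X L (cokernel (𝓔.pieceX j).arrow) (H j)) (n : ℕ) :
    (parPoly 𝓔 PX).coeff n = ((P.coeff n : ℚ) : ℝ) -
      ∑ j : Fin (𝓔.l + 1), (𝓔.wtX j.succ - 𝓔.wtX j.castSucc) * (((H j.succ).coeff n : ℚ) : ℝ) := by
  obtain ⟨h1, h0⟩ := pieceX_poly_eq k hL h hP hPX hH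
  rw [coeff_parPoly]
  simp only [h1, coeff_sub, Rat.cast_sub]
  have := abel_identity 𝓔.l 𝓔.wtX (fun j => (((H j).coeff n : ℚ) : ℝ)) ((P.coeff n : ℚ) : ℝ)
    (by rw [h0]; simp) 𝓔.wtX_last
  simp only [ParSh.Str.wtX_castSucc] at this ⊢
  exact this

/-- the values of `parPoly` in terms of the quotient polynomials (Abel summation) -/
theorem eval_parPoly_quot (hL : CohB1.IsAmple L) {d : ℕ} {E : X.Modules} {𝓔 : ParSh.Str E} (h : Good d 𝓔)
    {P : ℚ[X]} (hP : ShStab.IsHilbPoly k X L E P) {PX : Fin (𝓔.l + 2) → ℚ[X]}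
    (hPX : ∀ j, ShStab.IsHilbPoly k X L ((𝓔.pieceX j : Subobject E) : X.Modules) (PX j))
    {H : Fin (𝓔.l + 2) → ℚ[X]} (hH : ∀ j, ShStab.IsHilbPoly k X L (cokernel (𝓔.pieceX j).arrow) (H j)) (m : ℕ) :
    (parPoly 𝓔 PX).eval (m : ℝ) = ((P.eval (m : ℚ) : ℚ) : ℝ) -
      ∑ j : Fin (𝓔.l + 1), (𝓔.wtX j.succ - 𝓔.wtX j.castSucc) * (((H j.succ).eval (m : ℚ) : ℚ) : ℝ) := by
  obtain ⟨h1, h0⟩ := pieceX_poly_eq k hL h hP hPX hH
  rw [eval_parPoly]
  simp only [h1, eval_sub, Rat.cast_sub]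
  have := abel_identity 𝓔.l 𝓔.wtX (fun j => (((H j).eval (m : ℚ) : ℚ) : ℝ)) ((P.eval (m : ℚ) : ℚ) : ℝ)
    (by rw [h0]; simp) 𝓔.wtX_last
  simp only [ParSh.Str.wtX_castSucc] at this ⊢
  exact this

/-- **S18530** in general form -/
theorem coeff_parPolyOne_eq (hL : CohB1.IsAmple L) {d : ℕ} (hd : 1 ≤ d) {E : X.Modules} {𝓔 : ParSh.Str E}
    (h : Good d 𝓔)
    {H : Fin (𝓔.l + 2) → ℚ[X]} (hH : ∀ j, ShStab.IsHilbPoly k X L (cokernel (𝓔.pieceX j).arrow) (H j))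
    (hHa : ∀ j : Fin (𝓔.l + 1), StabCat.alpha (d - 1) (H j.succ) ≠ 0)
    {W : X.Modules} (ι : W ⟶ E) (hW : Coh.IsCoh W)
    {Q : ℚ[X]} (hQ : ShStab.IsHilbPoly k X L W Q) {QX : Fin (𝓔.l + 2) → ℚ[X]}
    (hQX : ∀ j, ShStab.IsHilbPoly k X L (((𝓔.induced ι).pieceX j : Subobject W) : X.Modules) (QX j))
    {QH : Fin (𝓔.l + 2) → ℚ[X]}
    (hQH : ∀ j, ShStab.IsHilbPoly k X L (cokernel ((𝓔.induced ι).pieceX j).arrow) (QH j)) :
    (parPolyOne 𝓔 d Q QH H).coeff d = (parPoly (𝓔.induced ι) QX).coeff d ∧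
      (parPolyOne 𝓔 d Q QH H).coeff (d - 1) = (parPoly (𝓔.induced ι) QX).coeff (d - 1) := by
  haveI : IsLocallyNoetherian X := Groth.Agent.Lib.Helper8.EulerK.isLocallyNoetherian k X
  have hW' : Good d (𝓔.induced ι) := h.induced hW ι
  constructor
  · rw [coeff_parPoly_of_le k hL hW' hQ hQX d le_rfl, coeff_rpoly, coeff_parPolyOne]
    have : ∀ j : Fin (𝓔.l + 1), (H j.succ).coeff d = 0 := fun j => (coeff_quot k hL h hH j.succ).1 d le_rfl
    simp only [this, Rat.cast_zero, mul_zero, Finset.sum_const_zero, sub_zero]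
  · rw [coeff_parPoly_quot k hL hW' hQ hQX hQH (d - 1), coeff_parPolyOne]
    congr 1
    refine Finset.sum_congr rfl fun j _ => ?_
    have hne := hHa j
    unfold StabCat.alpha at hne ⊢
    have hc : (H j.succ).coeff (d - 1) ≠ 0 := fun h0 => hne (by rw [h0, mul_zero])
    have hf : ((d - 1).factorial : ℚ) ≠ 0 := by exact_mod_cast Nat.factorial_ne_zero _
    have : (((d - 1).factorial : ℚ) * (QH j.succ).coeff (d - 1) / (((d - 1).factorial : ℚ) * (H j.succ).coeff (d - 1))) *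
        (H j.succ).coeff (d - 1) = (QH j.succ).coeff (d - 1) := by
      field_simp
    rw [mul_assoc, ← Rat.cast_mul, this]
    rfl

end Groth.Agent.Lib.Helper4.ParShI
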