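import Groth.Agent.Lib.Helper4.ParShI
set_option backward.isDefEq.respectTransparency.types false
set_option autoImplicit false
set_option linter.style.haveILetI false

universe u
open CategoryTheory CategoryTheory.Limits AlgebraicGeometry Opposite TopologicalSpace Polynomial Filter Topology

namespace Groth.Agent.Lib.Helper4.ParShJ
open Groth.Agent.Lib.Helper4.Snapper Groth.Agent.Lib.Helper6.K0Len Groth.Agent.Lib.Helper6.K0Op
open Groth.Agent.Lib.Helper4.HilbPoly Groth.Agent.Lib.Helper4.ParShA Groth.Agent.Lib.Helper4.ParShB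
open Groth.Agent.Lib.Helper4.ParShC Groth.Agent.Lib.Helper4.ParShD Groth.Agent.Lib.Helper4.ParShE
open Groth.Agent.Lib.Helper4.ParShF Groth.Agent.Lib.Helper4.ParShG Groth.Agent.Lib.Helper4.ParShH
open Groth.Agent.Lib.Helper4.ParShI W4swparbununimod

section lim

theorem tendsto_div_pow_real {R : ℝ[X]} {e : ℕ} (h : R.natDegree ≤ e) :
    Tendsto (fun x : ℝ => R.eval x / x ^ e) atTop (𝓝 (R.coeff e)) := by
  by_cases hc : R.coeff e = 0
  · rw [hc]
    have hdeg : R.degree < (X ^ e : ℝ[X]).degree := by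
      rw [degree_X_pow, degree_lt_iff_coeff_zero]
      intro m hm
      rcases Nat.eq_or_lt_of_le hm with h1 | h1
      · rw [← h1]; exact hc
      · exact coeff_eq_zero_of_natDegree_lt (lt_of_le_of_lt h h1)
    have := Polynomial.div_tendsto_atTop_zero_of_degree_lt R (X ^ e) hdeg
    simpa using this
  · have hnat : R.natDegree = e := le_antisymm h (le_natDegree_of_ne_zero hc)
    have hR0 : R ≠ 0 := fun h0 => hc (by rw [h0, coeff_zero])
    have hdeg : R.degree = (X ^ e : ℝ[X]).degree := by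
      rw [degree_X_pow, degree_eq_natDegree hR0, hnat]
    have := Polynomial.div_tendsto_atTop_leadingCoeff_div_of_degree_eq R (X ^ e) hdeg
    have hl : R.leadingCoeff = R.coeff e := by rw [leadingCoeff, hnat]
    simpa [hl] using this

theorem tendsto_div_pow {R : ℚ[X]} {e : ℕ} (h : R.natDegree ≤ e) :
    Tendsto (fun n : ℕ => ((R.eval (n : ℚ) : ℚ) : ℝ) / (n : ℝ) ^ e) atTop (𝓝 ((R.coeff e : ℚ) : ℝ)) := by
  have h1 : (rpoly R).natDegree ≤ e := le_trans natDegree_map_le h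
  have := (tendsto_div_pow_real h1).comp tendsto_natCast_atTop_atTop
  rw [coeff_rpoly] at this
  refine this.congr fun n => ?_
  simp only [Function.comp_apply]
  rw [eval_rpoly]

theorem tendsto_ratio {A B : ℚ[X]} {e : ℕ} (hA : A.natDegree ≤ e) (hB : B.natDegree ≤ e) (hB0 : B.coeff e ≠ 0) :
    Tendsto (fun n : ℕ => ((A.eval (n : ℚ) / B.eval (n : ℚ) : ℚ) : ℝ)) atTop
      (𝓝 ((A.coeff e / B.coeff e : ℚ) : ℝ)) := by
  have hB0' : ((B.coeff e : ℚ) : ℝ) ≠ 0 := by exact_mod_cast hB0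
  have h := (tendsto_div_pow hA).div (tendsto_div_pow hB) hB0'
  rw [Rat.cast_div]
  refine h.congr' ?_
  filter_upwards [eventually_ge_atTop 1] with n hn
  have hn0 : ((n : ℝ) ^ e) ≠ 0 := by positivity
  simp only [Pi.div_apply]
  rw [Rat.cast_div]
  field_simp

end lim


variable (k : Type u) [Field k] {X : Scheme.{u}} [X.Over (Spec (CommRingCat.of k))]
    [IsProper (X ↘ (Spec (CommRingCat.of k)))] {L : X.Modules}

/-- the inner expression of the `p₂` comparison tends to `parPolyOne` -/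
theorem tendsto_inner (hL : CohB1.IsAmple L) {d : ℕ} (hd : 1 ≤ d) {E : X.Modules} {𝓔 : ParSh.Str E}
    (h : Good d 𝓔)
    {H : Fin (𝓔.l + 2) → ℚ[X]} (hH : ∀ j, ShStab.IsHilbPoly k X L (cokernel (𝓔.pieceX j).arrow) (H j))
    (hHa : ∀ j : Fin (𝓔.l + 1), StabCat.alpha (d - 1) (H j.succ) ≠ 0)
    {W : X.Modules} (ι : W ⟶ E) (hW : Coh.IsCoh W) (Q : ℚ[X])
    {QH : Fin (𝓔.l + 2) → ℚ[X]}
    (hQH : ∀ j, ShStab.IsHilbPoly k X L (cokernel ((𝓔.induced ι).pieceX j).arrow) (QH j)) (m : ℕ) :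
    Tendsto (fun n : ℕ => ((Q.eval (m : ℚ) : ℚ) : ℝ) -
        ∑ j : Fin (𝓔.l + 1), (𝓔.wtX j.succ - 𝓔.wtX j.castSucc) *
          ((((QH j.succ).eval (n : ℚ) / (H j.succ).eval (n : ℚ) : ℚ) : ℝ) * (((H j.succ).eval (m : ℚ) : ℚ) : ℝ)))
      atTop (𝓝 ((parPolyOne 𝓔 d Q QH H).eval (m : ℝ))) := by
  haveI : IsLocallyNoetherian X := Groth.Agent.Lib.Helper8.EulerK.isLocallyNoetherian k X
  have hW' : Good d (𝓔.induced ι) := h.induced hW ι
  rw [eval_parPolyOne]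
  refine tendsto_const_nhds.sub (tendsto_finsetSum _ fun j _ => ?_)
  rw [mul_assoc]
  refine tendsto_const_nhds.mul (Tendsto.mul_const _ ?_)
  have hne := hHa j
  unfold StabCat.alpha at hne ⊢
  have hc : (H j.succ).coeff (d - 1) ≠ 0 := fun h0 => hne (by rw [h0, mul_zero])
  have hf : ((d - 1).factorial : ℚ) ≠ 0 := by exact_mod_cast Nat.factorial_ne_zero _
  have hAdeg : (QH j.succ).natDegree ≤ d - 1 := by
    rw [natDegree_le_iff_coeff_eq_zero]
    intro n hn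
    exact (coeff_quot k hL hW' hQH j.succ).1 n (by omega)
  have hBdeg : (H j.succ).natDegree ≤ d - 1 := by
    rw [natDegree_le_iff_coeff_eq_zero]
    intro n hn
    exact (coeff_quot k hL h hH j.succ).1 n (by omega)
  have := tendsto_ratio hAdeg hBdeg hc
  have e : ((d - 1).factorial : ℚ) * (QH j.succ).coeff (d - 1) / (((d - 1).factorial : ℚ) * (H j.succ).coeff (d - 1)) =
      (QH j.succ).coeff (d - 1) / (H j.succ).coeff (d - 1) := by
    field_simp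
  rw [e]
  exact this

/-- **S18532** in general form -/
theorem p2_p1 (hL : CohB1.IsAmple L) {d : ℕ} (hd : 1 ≤ d) {E : X.Modules} {𝓔 : ParSh.Str E}
    (h : Good d 𝓔) (hdim : topologicalKrullDim (CohB1.support E) ≤ (d : WithBot ℕ∞))
    {P : ℚ[X]} (hP : ShStab.IsHilbPoly k X L E P) (PX : Fin (𝓔.l + 2) → ℚ[X])
    {H : Fin (𝓔.l + 2) → ℚ[X]} (hH : ∀ j, ShStab.IsHilbPoly k X L (cokernel (𝓔.pieceX j).arrow) (H j))
    (hHa : ∀ j : Fin (𝓔.l + 1), StabCat.alpha (d - 1) (H j.succ) ≠ 0)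
    {W : X.Modules} (ι : W ⟶ E) [Mono ι] (hW : Coh.IsCoh W)
    {Q : ℚ[X]} (hQ : ShStab.IsHilbPoly k X L W Q) {QH : Fin (𝓔.l + 2) → ℚ[X]}
    (hQH : ∀ j, ShStab.IsHilbPoly k X L (cokernel ((𝓔.induced ι).pieceX j).arrow) (QH j)) :
    ((∃ M : ℕ, ∀ m : ℕ, M ≤ m → ∃ N : ℕ, ∀ n : ℕ, N ≤ n →
        (((Q.eval (m : ℚ) : ℚ) : ℝ) -
            ∑ j : Fin (𝓔.l + 1), (𝓔.wtX j.succ - 𝓔.wtX j.castSucc) *
              ((((QH j.succ).eval (n : ℚ) / (H j.succ).eval (n : ℚ) : ℚ) : ℝ) * (((H j.succ).eval (m : ℚ) : ℚ) : ℝ))) *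
          ((P.eval (n : ℚ) : ℚ) : ℝ) ≤
        (parPoly 𝓔 PX).eval (m : ℝ) * ((Q.eval (n : ℚ) : ℚ) : ℝ)) →
      ∃ M : ℕ, ∀ m : ℕ, M ≤ m →
        (parPolyOne 𝓔 d Q QH H).eval (m : ℝ) * (StabCat.alpha d P : ℝ) ≤
          (parPoly 𝓔 PX).eval (m : ℝ) * (StabCat.alpha d Q : ℝ)) ∧
    ((∃ M : ℕ, ∀ m : ℕ, M ≤ m →
        (parPolyOne 𝓔 d Q QH H).eval (m : ℝ) * (StabCat.alpha d P : ℝ) <
          (parPoly 𝓔 PX).eval (m : ℝ) * (StabCat.alpha d Q : ℝ)) →
      ∃ M : ℕ, ∀ m : ℕ, M ≤ m → ∃ N : ℕ, ∀ n : ℕ, N ≤ n →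
        (((Q.eval (m : ℚ) : ℚ) : ℝ) -
            ∑ j : Fin (𝓔.l + 1), (𝓔.wtX j.succ - 𝓔.wtX j.castSucc) *
              ((((QH j.succ).eval (n : ℚ) / (H j.succ).eval (n : ℚ) : ℚ) : ℝ) * (((H j.succ).eval (m : ℚ) : ℚ) : ℝ))) *
          ((P.eval (n : ℚ) : ℚ) : ℝ) <
        (parPoly 𝓔 PX).eval (m : ℝ) * ((Q.eval (n : ℚ) : ℚ) : ℝ)) := by
  have hPdeg : P.natDegree ≤ d := natDegree_le k hL.1 h.cohE hdim hP
  have hQdeg : Q.natDegree ≤ d :=
    natDegree_le k hL.1 hW (le_trans (dim_support_le_of_mono ι) hdim) hQ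
  have hfact : (0 : ℝ) < (d.factorial : ℝ) := by exact_mod_cast Nat.factorial_pos d
  have hαP : (StabCat.alpha d P : ℝ) = (d.factorial : ℝ) * ((P.coeff d : ℚ) : ℝ) := by
    unfold StabCat.alpha; push_cast; rfl
  have hαQ : (StabCat.alpha d Q : ℝ) = (d.factorial : ℝ) * ((Q.coeff d : ℚ) : ℝ) := by
    unfold StabCat.alpha; push_cast; rfl
  -- the two limits, for fixed `m`
  have hlimL : ∀ m : ℕ, Tendsto (fun n : ℕ => ((((Q.eval (m : ℚ) : ℚ) : ℝ) -
            ∑ j : Fin (𝓔.l + 1), (𝓔.wtX j.succ - 𝓔.wtX j.castSucc) *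
              ((((QH j.succ).eval (n : ℚ) / (H j.succ).eval (n : ℚ) : ℚ) : ℝ) * (((H j.succ).eval (m : ℚ) : ℚ) : ℝ))) *
          ((P.eval (n : ℚ) : ℚ) : ℝ)) / (n : ℝ) ^ d) atTop
        (𝓝 ((parPolyOne 𝓔 d Q QH H).eval (m : ℝ) * ((P.coeff d : ℚ) : ℝ))) := by
    intro m
    have := (tendsto_inner k hL hd h hH hHa ι hW Q hQH m).mul (tendsto_div_pow hPdeg)
    refine this.congr fun n => ?_
    simp only [mul_div_assoc]
  have hlimR : ∀ m : ℕ, Tendsto (fun n : ℕ => ((parPoly 𝓔 PX).eval (m : ℝ) * ((Q.eval (n : ℚ) : ℚ) : ℝ)) /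
        (n : ℝ) ^ d) atTop (𝓝 ((parPoly 𝓔 PX).eval (m : ℝ) * ((Q.coeff d : ℚ) : ℝ))) := by
    intro m
    have := (tendsto_const_nhds (x := (parPoly 𝓔 PX).eval (m : ℝ))).mul (tendsto_div_pow hQdeg)
    refine this.congr fun n => ?_
    simp only [mul_div_assoc]
  constructor
  · rintro ⟨M, hM⟩
    refine ⟨M, fun m hm => ?_⟩
    obtain ⟨N, hN⟩ := hM m hm
    have hle := le_of_tendsto_of_tendsto (hlimL m) (hlimR m) (by
      filter_upwards [eventually_ge_atTop N] with n hn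
      exact div_le_div_of_nonneg_right (hN n hn) (by positivity))
    rw [hαP, hαQ]
    nlinarith [hle, hfact]
  · rintro ⟨M, hM⟩
    refine ⟨M, fun m hm => ?_⟩
    have hlt := hM m hm
    rw [hαP, hαQ] at hlt
    have hlt' : (parPolyOne 𝓔 d Q QH H).eval (m : ℝ) * ((P.coeff d : ℚ) : ℝ) <
        (parPoly 𝓔 PX).eval (m : ℝ) * ((Q.coeff d : ℚ) : ℝ) := by nlinarith [hlt, hfact]
    have hev := (hlimL m).eventually_lt (hlimR m) hlt'
    have hev' := hev.and (eventually_ge_atTop 1)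
    rw [Filter.eventually_atTop] at hev'
    obtain ⟨N, hN⟩ := hev'
    refine ⟨N, fun n hn => ?_⟩
    obtain ⟨h1, h2⟩ := hN n hn
    have hpos : (0 : ℝ) < (n : ℝ) ^ d := by
      have : (0 : ℝ) < (n : ℝ) := by exact_mod_cast h2
      positivity
    exact (div_lt_div_iff_of_pos_right hpos).1 h1

end Groth.Agent.Lib.Helper4.ParShJ
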