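import Groth.Agent.Lib.Helper4.ParShJ
import Groth.Agent.Lib.Helper4.HilbPoly7
set_option backward.isDefEq.respectTransparency.types false
set_option autoImplicit false
set_option linter.style.haveILetI false

universe u
open CategoryTheory CategoryTheory.Limits AlgebraicGeometry Opposite TopologicalSpace Polynomial Filter Topology

namespace Groth.Agent.Lib.Helper4.ParShK
open Groth.Agent.Lib.Helper4.Snapper Groth.Agent.Lib.Helper6.K0Len Groth.Agent.Lib.Helper6.K0Op
open Groth.Agent.Lib.Helper4.HilbPoly Groth.Agent.Lib.Helper4.ParShA Groth.Agent.Lib.Helper4.ParShB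
open Groth.Agent.Lib.Helper4.ParShC Groth.Agent.Lib.Helper4.ParShD Groth.Agent.Lib.Helper4.ParShE
open Groth.Agent.Lib.Helper4.ParShF Groth.Agent.Lib.Helper4.ParShG Groth.Agent.Lib.Helper4.ParShH
open Groth.Agent.Lib.Helper4.ParShI W4swparbununimod

section gen
variable {𝒞 : Type*} [Category 𝒞] {E : 𝒞}

theorem wtX_step_pos (𝓔 : ParSh.Str E) (j : Fin (𝓔.l + 1)) : 0 < 𝓔.wtX j.succ - 𝓔.wtX j.castSucc := by
  rw [ParSh.Str.wtX_castSucc, sub_pos]
  induction j using Fin.lastCases with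
  | last => rw [Fin.succ_last, ParSh.Str.wtX_last]; exact 𝓔.wt_lt_one
  | cast j =>
    rw [Fin.succ_castSucc, ParSh.Str.wtX_castSucc]
    exact 𝓔.wt_strictMono Fin.castSucc_lt_succ

theorem sum_wtX_step (𝓔 : ParSh.Str E) :
    ∑ j : Fin (𝓔.l + 1), (𝓔.wtX j.succ - 𝓔.wtX j.castSucc) = 1 - 𝓔.wt 0 := by
  have := telescope 𝓔.l 𝓔.wtX
  have h0 : 𝓔.wtX 0 = 𝓔.wt 0 := 𝓔.wtX_castSucc 0
  rw [h0, ParSh.Str.wtX_last] at this
  have e : ∑ j : Fin (𝓔.l + 1), (𝓔.wtX j.succ - 𝓔.wtX j.castSucc) =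
      - ∑ j : Fin (𝓔.l + 1), (𝓔.wtX j.castSucc - 𝓔.wtX j.succ) := by
    rw [← Finset.sum_neg_distrib]
    exact Finset.sum_congr rfl fun j _ => by ring
  rw [e, this]
  ring

end gen

section cat
variable {C : Type*} [Category C] [Abelian C]

/-- `W/ι⁻¹T ↪ E/T` -/
theorem exists_mono_cokernel_pullback {W E : C} (ι : W ⟶ E) (T : Subobject E) (T' : Subobject W)
    (hT' : T' = (Subobject.pullback ι).obj T) :
    ∃ μ : cokernel T'.arrow ⟶ cokernel T.arrow, Mono μ := by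
  subst hT'
  have hS := pullback_arrow_shortExact ι T
  let e : cokernel ((Subobject.pullback ι).obj T).arrow ≅
      ((imageSubobject (ι ≫ cokernel.π T.arrow) : Subobject (cokernel T.arrow)) : C) :=
    IsColimit.coconePointUniqueUpToIso (cokernelIsCokernel _) hS.gIsCokernel
  exact ⟨e.hom ≫ (imageSubobject (ι ≫ cokernel.π T.arrow)).arrow, inferInstance⟩

end cat

variable (k : Type u) [Field k] {X : Scheme.{u}} [X.Over (Spec (CommRingCat.of k))]
    [IsProper (X ↘ (Spec (CommRingCat.of k)))] {L : X.Modules}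

/-- reduced comparison for an arbitrary coherent submodule of a semistable module -/
theorem redLE_of_mono_semistable (hL : CohB1.IsAmple L) {e : ℕ} {G S : X.Modules}
    (hG : ShStab.IsSemistable k X L G e) (μ : S ⟶ G) [Mono μ] (hS : Coh.IsCoh S) {pS pG : ℚ[X]}
    (hpS : ShStab.IsHilbPoly k X L S pS) (hpG : ShStab.IsHilbPoly k X L G pG) :
    StabCat.RedLE e pS pG := by
  obtain ⟨hGc, hG0, hGp, hGss⟩ := hG
  by_cases hS0 : IsZero S
  · have : pS = 0 := isHilbPoly_unique k hpS (isHilbPoly_zero k hL.1 hS0)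
    subst this
    rw [redLE_iff]
    refine ⟨0, fun m _ => ?_⟩
    unfold StabCat.alpha
    simp
  · by_cases hiso : IsIso μ
    · have := isHilbPoly_unique k (isHilbPoly_of_iso k hL.1 (asIso μ) hS hpS) hpG
      rw [this]
      exact redLE_refl e pG
    · exact hGss S μ inferInstance hS hS0 hiso pS pG hpS hpG

/-- `parPolyOne ≤ parPoly` of the induced structure, eventually, when the quotients `E/F_{j+1}` are semistable -/
theorem parPolyOne_le_parPoly (hL : CohB1.IsAmple L) {d : ℕ} (hd : 1 ≤ d) {E : X.Modules} {𝓔 : ParSh.Str E}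
    (h : Good d 𝓔)
    {H : Fin (𝓔.l + 2) → ℚ[X]} (hH : ∀ j, ShStab.IsHilbPoly k X L (cokernel (𝓔.pieceX j).arrow) (H j))
    (hHa : ∀ j : Fin (𝓔.l + 1), StabCat.alpha (d - 1) (H j.succ) ≠ 0)
    (hq : ∀ j : Fin (𝓔.l + 1), ShStab.IsSemistable k X L (cokernel (𝓔.pieceX j.succ).arrow) (d - 1))
    {W : X.Modules} (ι : W ⟶ E) (hW : Coh.IsCoh W)
    {Q : ℚ[X]} (hQ : ShStab.IsHilbPoly k X L W Q) {QX : Fin (𝓔.l + 2) → ℚ[X]}
    (hQX : ∀ j, ShStab.IsHilbPoly k X L (((𝓔.induced ι).pieceX j : Subobject W) : X.Modules) (QX j))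
    {QH : Fin (𝓔.l + 2) → ℚ[X]}
    (hQH : ∀ j, ShStab.IsHilbPoly k X L (cokernel ((𝓔.induced ι).pieceX j).arrow) (QH j)) :
    ∀ᶠ m : ℕ in atTop, (parPolyOne 𝓔 d Q QH H).eval (m : ℝ) ≤ (parPoly (𝓔.induced ι) QX).eval (m : ℝ) := by
  haveI : IsLocallyNoetherian X := Groth.Agent.Lib.Helper8.EulerK.isLocallyNoetherian k X
  have hW' : Good d (𝓔.induced ι) := h.induced hW ι
  have key : ∀ j : Fin (𝓔.l + 1), ∀ᶠ m : ℕ in atTop,
      (((QH j.succ).eval (m : ℚ) : ℚ) : ℝ) ≤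
        ((StabCat.alpha (d - 1) (QH j.succ) / StabCat.alpha (d - 1) (H j.succ) : ℚ) : ℝ) *
          (((H j.succ).eval (m : ℚ) : ℚ) : ℝ) := by
    intro j
    obtain ⟨μ, hμ⟩ := exists_mono_cokernel_pullback ι (𝓔.pieceX j.succ) ((𝓔.induced ι).pieceX j.succ)
      (pieceX_induced 𝓔 ι j.succ)
    have hSc : Coh.IsCoh (cokernel ((𝓔.induced ι).pieceX j.succ).arrow) :=
      Groth.Agent.Lib.Helper6.DevCore.isCoh_cokernel _ (hW'.coh j.succ) hW'.cohE
    have hred := redLE_of_mono_semistable k hL (hq j) μ hSc (hQH j.succ) (hH j.succ)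
    rw [redLE_iff] at hred
    obtain ⟨N, hN⟩ := hred
    have hpos : 0 < StabCat.alpha (d - 1) (H j.succ) := by
      refine lt_of_le_of_ne ?_ (hHa j).symm
      have := (coeff_quot k hL h hH j.succ).2
      unfold StabCat.alpha
      positivity
    filter_upwards [eventually_ge_atTop N] with m hm
    have h1 := hN m hm
    rw [← Rat.cast_mul, Rat.cast_le, div_mul_eq_mul_div, le_div_iff₀ hpos]
    linarith
  have hall := (Filter.eventually_all (l := atTop)).2 key
  filter_upwards [hall] with m hm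
  rw [eval_parPolyOne, eval_parPoly_quot k hL hW' hQ hQX hQH m]
  refine sub_le_sub_left ?_ _
  refine Finset.sum_le_sum fun j _ => ?_
  rw [mul_assoc]
  exact mul_le_mul_of_nonneg_left (hm j) (wtX_step_pos 𝓔 j).le

end Groth.Agent.Lib.Helper4.ParShK
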