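import Groth.Agent.Lib.Helper4.ParShK
set_option backward.isDefEq.respectTransparency.types false
set_option autoImplicit false
set_option linter.style.haveILetI false

universe u
open CategoryTheory CategoryTheory.Limits AlgebraicGeometry Opposite TopologicalSpace Polynomial Filter Topology

namespace Groth.Agent.Lib.Helper4.ParShL
open Groth.Agent.Lib.Helper4.Snapper Groth.Agent.Lib.Helper6.K0Len Groth.Agent.Lib.Helper6.K0Op
open Groth.Agent.Lib.Helper4.HilbPoly Groth.Agent.Lib.Helper4.ParShA Groth.Agent.Lib.Helper4.ParShB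
open Groth.Agent.Lib.Helper4.ParShC Groth.Agent.Lib.Helper4.ParShD Groth.Agent.Lib.Helper4.ParShE
open Groth.Agent.Lib.Helper4.ParShF Groth.Agent.Lib.Helper4.ParShG Groth.Agent.Lib.Helper4.ParShH
open Groth.Agent.Lib.Helper4.ParShI Groth.Agent.Lib.Helper4.ParShK W4swparbununimod

section gen
variable {𝒞 : Type*} [Category 𝒞] {E : 𝒞}

/-- `parPoly` as a nonnegative combination of the polynomials of the pieces (Abel summation) -/
theorem eval_parPoly_pos (𝓔 : ParSh.Str E) (PX : Fin (𝓔.l + 2) → ℚ[X]) (m : ℕ) :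
    (parPoly 𝓔 PX).eval (m : ℝ) = 𝓔.wt 0 * (((PX 0).eval (m : ℚ) : ℚ) : ℝ) +
      ∑ j : Fin (𝓔.l + 1), (𝓔.wtX j.succ - 𝓔.wtX j.castSucc) * (((PX j.succ).eval (m : ℚ) : ℚ) : ℝ) := by
  rw [eval_parPoly]
  set p : ℝ := (((PX 0).eval (m : ℚ) : ℚ) : ℝ) with hp
  have := abel_identity 𝓔.l 𝓔.wtX (fun j => p - (((PX j).eval (m : ℚ) : ℚ) : ℝ)) p (by simp [hp]) 𝓔.wtX_last
  simp only [sub_sub_cancel, ParSh.Str.wtX_castSucc] at this
  rw [this]
  have hs := sum_wtX_step 𝓔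
  simp only [ParSh.Str.wtX_castSucc] at hs
  have e : ∑ j : Fin (𝓔.l + 1), (𝓔.wtX j.succ - 𝓔.wtX j.castSucc) * (p - (((PX j.succ).eval (m : ℚ) : ℚ) : ℝ)) =
      (∑ j : Fin (𝓔.l + 1), (𝓔.wtX j.succ - 𝓔.wtX j.castSucc)) * p -
        ∑ j : Fin (𝓔.l + 1), (𝓔.wtX j.succ - 𝓔.wtX j.castSucc) * (((PX j.succ).eval (m : ℚ) : ℚ) : ℝ) := by
    rw [Finset.sum_mul, ← Finset.sum_sub_distrib]
    exact Finset.sum_congr rfl fun j _ => by ring
  simp only [ParSh.Str.wtX_castSucc] at e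
  rw [e, hs]
  simp only [ParSh.Str.wtX_castSucc]
  ring

end gen

section cat
variable {C : Type*} [Category C] [Abelian C]

/-- `ι⁻¹T ↪ ι'⁻¹T` for `ι = f ≫ ι'` -/
theorem exists_mono_pullback {W W' E : C} (ι : W ⟶ E) (ι' : W' ⟶ E) (f : W ⟶ W') [Mono f] (hf : f ≫ ι' = ι)
    (T : Subobject E) (S : Subobject W) (S' : Subobject W') (hS : S = (Subobject.pullback ι).obj T)
    (hS' : S' = (Subobject.pullback ι').obj T) : ∃ g : (S : C) ⟶ (S' : C), Mono g := by
  subst hS hS'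
  have hw : Subobject.pullbackπ ι T ≫ T.arrow = (((Subobject.pullback ι).obj T).arrow ≫ f) ≫ ι' := by
    rw [Category.assoc, hf]; exact (Subobject.isPullback ι T).w
  refine ⟨(Subobject.isPullback ι' T).lift _ _ hw, ?_⟩
  have : Mono ((Subobject.isPullback ι' T).lift _ _ hw ≫ ((Subobject.pullback ι').obj T).arrow) := by
    rw [(Subobject.isPullback ι' T).lift_snd]; infer_instance
  exact mono_of_mono _ ((Subobject.pullback ι').obj T).arrow

end cat

variable (k : Type u) [Field k] {X : Scheme.{u}} [X.Over (Spec (CommRingCat.of k))]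
    [IsProper (X ↘ (Spec (CommRingCat.of k)))] {L : X.Modules}

/-- Hilbert polynomials of the induced pieces exist -/
theorem exists_hilbPoly_induced (hL : CohB1.IsAmple L) {d : ℕ} {E : X.Modules} {𝓔 : ParSh.Str E} (h : Good d 𝓔)
    (hdim : topologicalKrullDim (CohB1.support E) ≤ (d : WithBot ℕ∞))
    {W : X.Modules} (ι : W ⟶ E) [Mono ι] (hW : Coh.IsCoh W) :
    ∃ QX : Fin (𝓔.l + 2) → ℚ[X],
      ∀ j, ShStab.IsHilbPoly k X L (((𝓔.induced ι).pieceX j : Subobject W) : X.Modules) (QX j) := by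
  haveI : IsLocallyNoetherian X := Groth.Agent.Lib.Helper8.EulerK.isLocallyNoetherian k X
  have hW' : Good d (𝓔.induced ι) := h.induced hW ι
  refine ⟨fun j => hilb k L (((𝓔.induced ι).pieceX j : Subobject W) : X.Modules) d, fun j => ?_⟩
  refine isHilbPoly_hilb k hL.1 _ (hW'.coh j) d ?_
  exact le_trans (dim_support_le_of_mono ((𝓔.induced ι).pieceX j).arrow)
    (le_trans (dim_support_le_of_mono ι) hdim)

/-- monotonicity of the parabolic Hilbert polynomial of the induced structures -/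
theorem parPoly_induced_mono (hL : CohB1.IsAmple L) {d : ℕ} {E : X.Modules} {𝓔 : ParSh.Str E} (h : Good d 𝓔)
    {W W' : X.Modules} (ι : W ⟶ E) (ι' : W' ⟶ E) (f : W ⟶ W') [Mono f] (hf : f ≫ ι' = ι)
    (hW : Coh.IsCoh W) (hW' : Coh.IsCoh W')
    {Q Q' : ℚ[X]} (hQ : ShStab.IsHilbPoly k X L W Q) (hQ' : ShStab.IsHilbPoly k X L W' Q')
    {QX QX' : Fin (𝓔.l + 2) → ℚ[X]}
    (hQX : ∀ j, ShStab.IsHilbPoly k X L (((𝓔.induced ι).pieceX j : Subobject W) : X.Modules) (QX j))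
    (hQX' : ∀ j, ShStab.IsHilbPoly k X L (((𝓔.induced ι').pieceX j : Subobject W') : X.Modules) (QX' j)) :
    ∀ᶠ m : ℕ in atTop, (parPoly (𝓔.induced ι) QX).eval (m : ℝ) ≤ (parPoly (𝓔.induced ι') QX').eval (m : ℝ) := by
  haveI : IsLocallyNoetherian X := Groth.Agent.Lib.Helper8.EulerK.isLocallyNoetherian k X
  have hG : Good d (𝓔.induced ι) := h.induced hW ι
  have hG' : Good d (𝓔.induced ι') := h.induced hW' ι'
  have key : ∀ j : Fin (𝓔.l + 2), ∀ᶠ m : ℕ in atTop,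
      (((QX j).eval (m : ℚ) : ℚ) : ℝ) ≤ (((QX' j).eval (m : ℚ) : ℚ) : ℝ) := by
    intro j
    obtain ⟨g, hg⟩ := exists_mono_pullback ι ι' f hf (𝓔.pieceX j) _ _ (pieceX_induced 𝓔 ι j)
      (pieceX_induced 𝓔 ι' j)
    obtain ⟨N, hN⟩ := (polyLE_of_mono k hL (hG.coh j) (hG'.coh j) g (hQX j) (hQX' j)).2
    filter_upwards [eventually_ge_atTop N] with m hm
    exact_mod_cast hN m hm
  have hall := (Filter.eventually_all (l := atTop)).2 key
  filter_upwards [hall] with m hm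
  rw [eval_parPoly_pos, eval_parPoly_pos]
  refine add_le_add (mul_le_mul_of_nonneg_left (hm 0) 𝓔.wt_nonneg) (Finset.sum_le_sum fun j _ => ?_)
  exact mul_le_mul_of_nonneg_left (hm j.succ) (wtX_step_pos 𝓔 j).le

end Groth.Agent.Lib.Helper4.ParShL
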