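import Groth.Agent.Lib.Helper4.ParShL
set_option backward.isDefEq.respectTransparency.types false
set_option autoImplicit false
set_option linter.style.haveILetI false

universe u
open CategoryTheory CategoryTheory.Limits AlgebraicGeometry Opposite TopologicalSpace Polynomial Filter Topology

namespace Groth.Agent.Lib.Helper4.ParShM
open Groth.Agent.Lib.Helper4.Snapper Groth.Agent.Lib.Helper6.K0Len Groth.Agent.Lib.Helper6.K0Op
open Groth.Agent.Lib.Helper4.HilbPoly Groth.Agent.Lib.Helper4.ParShA Groth.Agent.Lib.Helper4.ParShB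
open Groth.Agent.Lib.Helper4.ParShC Groth.Agent.Lib.Helper4.ParShD Groth.Agent.Lib.Helper4.ParShE
open Groth.Agent.Lib.Helper4.ParShF Groth.Agent.Lib.Helper4.ParShG Groth.Agent.Lib.Helper4.ParShH
open Groth.Agent.Lib.Helper4.ParShI Groth.Agent.Lib.Helper4.ParShK Groth.Agent.Lib.Helper4.ParShL
open W4swparbununimod

variable (k : Type u) [Field k] {X : Scheme.{u}} [X.Over (Spec (CommRingCat.of k))]
    [IsProper (X ↘ (Spec (CommRingCat.of k)))] {L : X.Modules}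

/-- **S18533** in general form -/
theorem p1_stable (hL : CohB1.IsAmple L) {d : ℕ} (hd : 1 ≤ d) {E : X.Modules} {𝓔 : ParSh.Str E}
    (h : Good d 𝓔) (hdim : topologicalKrullDim (CohB1.support E) = (d : WithBot ℕ∞))
    {P : ℚ[X]} (hP : ShStab.IsHilbPoly k X L E P) (PX : Fin (𝓔.l + 2) → ℚ[X])
    {H : Fin (𝓔.l + 2) → ℚ[X]} (hH : ∀ j, ShStab.IsHilbPoly k X L (cokernel (𝓔.pieceX j).arrow) (H j))
    (hHa : ∀ j : Fin (𝓔.l + 1), StabCat.alpha (d - 1) (H j.succ) ≠ 0)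
    (hq : ∀ j : Fin (𝓔.l + 1), ShStab.IsSemistable k X L (cokernel (𝓔.pieceX j.succ).arrow) (d - 1))
    {W : X.Modules} (ι : W ⟶ E) [Mono ι] (hW : Coh.IsCoh W)
    {Q : ℚ[X]} (hQ : ShStab.IsHilbPoly k X L W Q)
    (hst : ∀ (QX : Fin (𝓔.l + 2) → ℚ[X]),
      (∀ j, ShStab.IsHilbPoly k X L (((𝓔.induced ι).pieceX j : Subobject W) : X.Modules) (QX j)) →
        ∃ M : ℕ, ∀ m : ℕ, M ≤ m →
          (parPoly (𝓔.induced ι) QX).eval (m : ℝ) * (StabCat.alpha d P : ℝ) <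
            (parPoly 𝓔 PX).eval (m : ℝ) * (StabCat.alpha d Q : ℝ))
    {QH : Fin (𝓔.l + 2) → ℚ[X]}
    (hQH : ∀ j, ShStab.IsHilbPoly k X L (cokernel ((𝓔.induced ι).pieceX j).arrow) (QH j)) :
    ∃ M : ℕ, ∀ m : ℕ, M ≤ m →
      (parPolyOne 𝓔 d Q QH H).eval (m : ℝ) * (StabCat.alpha d P : ℝ) <
        (parPoly 𝓔 PX).eval (m : ℝ) * (StabCat.alpha d Q : ℝ) := by
  obtain ⟨QX, hQX⟩ := exists_hilbPoly_induced k hL h hdim.le ι hW
  obtain ⟨M, hM⟩ := hst QX hQX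
  have h1 := parPolyOne_le_parPoly k hL hd h hH hHa hq ι hW hQ hQX hQH
  have hαP : (0 : ℝ) < (StabCat.alpha d P : ℝ) := by exact_mod_cast alpha_pos k hL h.cohE hdim hP
  have h2 := h1.and (eventually_ge_atTop M)
  rw [Filter.eventually_atTop] at h2
  obtain ⟨N, hN⟩ := h2
  refine ⟨N, fun m hm => ?_⟩
  obtain ⟨ha, hb⟩ := hN m hm
  exact lt_of_le_of_lt (mul_le_mul_of_nonneg_right ha hαP.le) (hM m hb)

/-- **S18531** in general form -/
theorem p1_semistable (hL : CohB1.IsAmple L) {d : ℕ} (hd : 1 ≤ d) {E : X.Modules} {𝓔 : ParSh.Str E}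
    (h : Good d 𝓔) (h0 : ¬ IsZero E) (hpure : ShStab.IsPure X E d)
    {P : ℚ[X]} (hP : ShStab.IsHilbPoly k X L E P) (PX : Fin (𝓔.l + 2) → ℚ[X])
    {H : Fin (𝓔.l + 2) → ℚ[X]} (hH : ∀ j, ShStab.IsHilbPoly k X L (cokernel (𝓔.pieceX j).arrow) (H j))
    (hHa : ∀ j : Fin (𝓔.l + 1), StabCat.alpha (d - 1) (H j.succ) ≠ 0)
    (hss : (∀ (W : X.Modules) (ι : W ⟶ E), Mono ι → Coh.IsCoh W → ¬ IsZero W → ShStab.IsPure X (cokernel ι) d →
        ∀ (Q : ℚ[X]) (QX : Fin (𝓔.l + 2) → ℚ[X]), ShStab.IsHilbPoly k X L W Q →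
          (∀ j, ShStab.IsHilbPoly k X L (((𝓔.induced ι).pieceX j : Subobject W) : X.Modules) (QX j)) →
          ∃ M : ℕ, ∀ m : ℕ, M ≤ m →
            (parPoly (𝓔.induced ι) QX).eval (m : ℝ) * (StabCat.alpha d P : ℝ) ≤
              (parPoly 𝓔 PX).eval (m : ℝ) * (StabCat.alpha d Q : ℝ)))
    (hq : ∀ j : Fin (𝓔.l + 1), ShStab.IsSemistable k X L (cokernel (𝓔.pieceX j.succ).arrow) (d - 1))
    {W : X.Modules} (ι : W ⟶ E) [Mono ι] (hW : Coh.IsCoh W)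
    {Q : ℚ[X]} (hQ : ShStab.IsHilbPoly k X L W Q) {QH : Fin (𝓔.l + 2) → ℚ[X]}
    (hQH : ∀ j, ShStab.IsHilbPoly k X L (cokernel ((𝓔.induced ι).pieceX j).arrow) (QH j)) (hW0 : ¬ IsZero W) :
    ∃ M : ℕ, ∀ m : ℕ, M ≤ m →
      (parPolyOne 𝓔 d Q QH H).eval (m : ℝ) * (StabCat.alpha d P : ℝ) ≤
        (parPoly 𝓔 PX).eval (m : ℝ) * (StabCat.alpha d Q : ℝ) := by
  have hdim := dim_support_of_isPure h.cohE h0 hpure
  obtain ⟨W', ι', f, Q', hι', hf, hW', hsat, hQ', hα, -⟩ :=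
    exists_saturation k hL h.cohE h0 hpure ι hW hQ hP
  haveI := hι'
  haveI : Mono f := by
    haveI : Mono (f ≫ ι') := by rw [hf]; infer_instance
    exact mono_of_mono f ι'
  have hW'0 : ¬ IsZero W' := fun hz => hW0 (IsZero.of_mono f hz)
  obtain ⟨QX, hQX⟩ := exists_hilbPoly_induced k hL h hdim.le ι hW
  obtain ⟨QX', hQX'⟩ := exists_hilbPoly_induced k hL h hdim.le ι' hW'
  obtain ⟨M, hM⟩ := hss W' ι' hι' hW' hW'0 hsat Q' QX' hQ' hQX'
  have h1 := parPolyOne_le_parPoly k hL hd h hH hHa hq ι hW hQ hQX hQH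
  have h2 := parPoly_induced_mono k hL h ι ι' f hf hW hW' hQ hQ' hQX hQX'
  have hαP : (0 : ℝ) < (StabCat.alpha d P : ℝ) := by exact_mod_cast alpha_pos k hL h.cohE hdim hP
  have h3 := (h1.and h2).and (eventually_ge_atTop M)
  rw [Filter.eventually_atTop] at h3
  obtain ⟨N, hN⟩ := h3
  refine ⟨N, fun m hm => ?_⟩
  obtain ⟨⟨ha, hb⟩, hc⟩ := hN m hm
  have := hM m hc
  rw [hα] at this
  exact le_trans (mul_le_mul_of_nonneg_right (le_trans ha hb) hαP.le) this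

end Groth.Agent.Lib.Helper4.ParShM
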