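import Mathlib.RingTheory.Localization.FractionRing
import Mathlib.RingTheory.Multiplicity
import Mathlib.RingTheory.Prime
import Mathlib.Tactic

set_option autoImplicit false

namespace Groth.Agent.Lib.Helper4.PrimeMonomial

open Finset

variable {R : Type*} [CommRing R] [IsDomain R] {ι : Type*}

theorem factor_of_mul_eq [DecidableEq ι] (p : ι → R) (hp : ∀ i, Prime (p i)) (e : ι → ℕ)
    (s : Finset ι) : ∀ (x y : R) (u : Rˣ), x * y = u * ∏ i ∈ s, p i ^ e i →
    ∃ (v : Rˣ) (d : ι → ℕ), x = v * ∏ i ∈ s, p i ^ d i := by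
  induction s using Finset.induction with
  | empty =>
    intro x y u h
    rw [Finset.prod_empty, mul_one] at h
    have hx : IsUnit x := isUnit_of_mul_isUnit_left (h ▸ u.isUnit)
    exact ⟨hx.unit, fun _ => 0, by simp⟩
  | insert i s his ih =>
    intro x y u h
    rw [Finset.prod_insert his] at h
    have h' : x * y = (u * ∏ j ∈ s, p j ^ e j) * p i ^ e i := by rw [h]; ring
    obtain ⟨a, b, c, d', -, hcd, hx, -⟩ := mul_eq_mul_prime_pow (hp i) h'
    obtain ⟨v, d, hc⟩ := ih c d' u hcd.symm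
    refine ⟨v, Function.update d i a, ?_⟩
    rw [Finset.prod_insert his, Function.update_self, hx, hc]
    have : ∏ j ∈ s, p j ^ Function.update d i a j = ∏ j ∈ s, p j ^ d j := by
      apply Finset.prod_congr rfl
      intro j hj
      rw [Function.update_of_ne]
      rintro rfl
      exact his hj
    rw [this]
    ring

theorem emult_monomial [Fintype ι] [DecidableEq ι] (p : ι → R) (hp : ∀ i, Prime (p i))
    (hpa : ∀ i j, Associated (p i) (p j) → i = j) (v : Rˣ) (a : ι → ℕ) (j : ι) :
    emultiplicity (p j) ((v : R) * ∏ i, p i ^ a i) = a j := by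
  rw [emultiplicity_mul (hp j), emultiplicity_of_unit_right (hp j).not_isUnit, zero_add,
    Finset.emultiplicity_prod (hp j)]
  have : ∀ i ∈ (Finset.univ : Finset ι), emultiplicity (p j) (p i ^ a i) =
      if i = j then (a j : ℕ∞) else 0 := by
    intro i _
    rw [emultiplicity_pow (hp j)]
    split_ifs with hij
    · subst hij
      have := emultiplicity_pow_self_of_prime (hp i) 1
      rw [pow_one] at this
      rw [this]; simp
    · have : emultiplicity (p j) (p i) = 0 := by
        rw [emultiplicity_eq_zero]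
        intro hd
        exact hij (hpa _ _ ((hp j).associated_of_dvd (hp i) hd)).symm
      rw [this, mul_zero]
  rw [Finset.sum_congr rfl this]
  simp

theorem monomial_unique [Fintype ι] [DecidableEq ι] (p : ι → R) (hp : ∀ i, Prime (p i))
    (hpa : ∀ i j, Associated (p i) (p j) → i = j) (v v' : Rˣ) (a b : ι → ℕ)
    (h : (v : R) * ∏ i, p i ^ a i = (v' : R) * ∏ i, p i ^ b i) : a = b := by
  funext j
  have h1 := emult_monomial p hp hpa v a j
  have h2 := emult_monomial p hp hpa v' b j
  rw [h, h2] at h1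
  exact_mod_cast h1.symm

theorem zmonomial_unique {K : Type*} [Field K] [Algebra R K] [IsFractionRing R K] [Fintype ι]
    [DecidableEq ι]
    (f : ι → R) (hf : ∀ i, Prime (f i)) (hfa : ∀ i j, Associated (f i) (f j) → i = j)
    (v v' : Rˣ) (z z' : ι → ℤ)
    (h : algebraMap R K (v : R) * ∏ i, (algebraMap R K (f i)) ^ (z i) =
      algebraMap R K (v' : R) * ∏ i, (algebraMap R K (f i)) ^ (z' i)) : v = v' ∧ z = z' := by
  have hinj : Function.Injective (algebraMap R K) := IsFractionRing.injective R K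
  have hne : ∀ i, algebraMap R K (f i) ≠ 0 := fun i =>
    (map_ne_zero_iff _ hinj).mpr (hf i).ne_zero
  let M : ι → ℕ := fun i => (z i).natAbs + (z' i).natAbs
  let a : ι → ℕ := fun i => (z i + M i).toNat
  let b : ι → ℕ := fun i => (z' i + M i).toNat
  have ha : ∀ i, (a i : ℤ) = z i + M i := fun i => Int.toNat_of_nonneg (by simp only [M]; omega)
  have hb : ∀ i, (b i : ℤ) = z' i + M i := fun i => Int.toNat_of_nonneg (by simp only [M]; omega)
  have key : ∀ (u : Rˣ) (c : ι → ℕ) (y : ι → ℤ), (∀ i, (c i : ℤ) = y i + M i) →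
      algebraMap R K ((u : R) * ∏ i, f i ^ c i) =
        (algebraMap R K (u : R) * ∏ i, (algebraMap R K (f i)) ^ (y i)) *
          ∏ i, (algebraMap R K (f i)) ^ (M i) := by
    intro u c y hc
    rw [map_mul, map_prod, mul_assoc, ← Finset.prod_mul_distrib]
    congr 1
    apply Finset.prod_congr rfl
    intro i _
    rw [map_pow, ← zpow_natCast, hc i, zpow_add₀ (hne i), zpow_natCast]
  have hab : a = b := by
    apply monomial_unique f hf hfa v v' a b
    apply hinj
    rw [key v a z ha, key v' b z' hb, h]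
  have hzz : z = z' := by
    funext i
    have := congr_fun hab i
    have h1 := ha i
    have h2 := hb i
    rw [this] at h1
    omega
  refine ⟨?_, hzz⟩
  subst hzz
  have hP : (∏ i, (algebraMap R K (f i)) ^ (z i)) ≠ 0 :=
    Finset.prod_ne_zero_iff.mpr fun i _ => zpow_ne_zero _ (hne i)
  have := mul_right_cancel₀ hP h
  exact Units.ext (hinj this)

theorem main {K : Type*} [Field K] [Algebra R K] [IsFractionRing R K] [Fintype ι] [DecidableEq ι]
    (f : ι → R) (hf : ∀ i, Prime (f i)) (hfa : ∀ i j, Associated (f i) (f j) → i = j)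
    (w : Kˣ)
    (hw : ∃ (a : R) (n : ℕ), (w : K) * algebraMap R K ((∏ i, f i) ^ n) = algebraMap R K a)
    (hw' : ∃ (a : R) (n : ℕ), (w⁻¹ : Kˣ) * algebraMap R K ((∏ i, f i) ^ n) = algebraMap R K a) :
    ∃! vb : Rˣ × (ι → ℤ),
      (w : K) = algebraMap R K (vb.1 : R) * ∏ i, (algebraMap R K (f i)) ^ (vb.2 i) := by
  have hinj : Function.Injective (algebraMap R K) := IsFractionRing.injective R K
  have hne : ∀ i, algebraMap R K (f i) ≠ 0 := fun i =>
    (map_ne_zero_iff _ hinj).mpr (hf i).ne_zero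
  obtain ⟨a, n, ha⟩ := hw
  obtain ⟨a', m, ha'⟩ := hw'
  have haa : a * a' = ((1 : Rˣ) : R) * ∏ i, f i ^ (n + m) := by
    apply hinj
    rw [map_mul, ← ha, ← ha', Units.val_one, one_mul, Finset.prod_pow, pow_add, map_mul]
    have : (w : K) * ((w⁻¹ : Kˣ) : K) = 1 := by simp
    calc (w : K) * algebraMap R K ((∏ i, f i) ^ n) * (((w⁻¹ : Kˣ) : K) * algebraMap R K ((∏ i, f i) ^ m))
        = ((w : K) * ((w⁻¹ : Kˣ) : K)) * (algebraMap R K ((∏ i, f i) ^ n) * algebraMap R K ((∏ i, f i) ^ m)) := by ring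
      _ = _ := by rw [this, one_mul]
  obtain ⟨v, d, hvd⟩ := factor_of_mul_eq f hf (fun _ => n + m) Finset.univ a a' 1 haa
  have hex : (w : K) = algebraMap R K (v : R) * ∏ i, (algebraMap R K (f i)) ^ ((d i : ℤ) - n) := by
    have hFn : algebraMap R K ((∏ i, f i) ^ n) ≠ 0 := by
      rw [map_ne_zero_iff _ hinj]
      exact pow_ne_zero _ (Finset.prod_ne_zero_iff.mpr fun i _ => (hf i).ne_zero)
    have : (w : K) = algebraMap R K a / algebraMap R K ((∏ i, f i) ^ n) := by
      rw [← ha]; field_simp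
    rw [this, hvd, map_mul, map_prod, map_pow, map_prod, ← Finset.prod_pow, mul_div_assoc,
      ← Finset.prod_div_distrib]
    congr 1
    apply Finset.prod_congr rfl
    intro i _
    rw [map_pow, zpow_sub₀ (hne i), zpow_natCast, zpow_natCast]
  refine ⟨⟨v, fun i => (d i : ℤ) - n⟩, hex, ?_⟩
  rintro ⟨v', z'⟩ hz'
  have hz : (w : K) = algebraMap R K (v' : R) * ∏ i, (algebraMap R K (f i)) ^ (z' i) := hz'
  rw [hex] at hz
  obtain ⟨h1, h2⟩ := zmonomial_unique f hf hfa v v' _ z' hz
  rw [h1, ← h2]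

end Groth.Agent.Lib.Helper4.PrimeMonomial
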