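import Mathlib.Topology.Algebra.OpenSubgroup
import Mathlib.Topology.Separation.Profinite
import Mathlib.Algebra.Category.Grp.Injective
import Mathlib.Topology.Instances.AddCircle.Defs
import Mathlib.Tactic

namespace Groth.Agent.Lib.Helper4.ProCompl
open Topology Set Filter
open scoped Pointwise


variable {B : Type*} [AddCommGroup B] [TopologicalSpace B] [IsTopologicalAddGroup B]

lemma exists_add_closure_nhds {K : Set B} (hKc : IsCompact K) (hKo : IsOpen K) :
    ∃ T ∈ 𝓝 (0 : B), K + T ⊆ K := by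
  apply hKc.induction_on (p := fun S ↦ ∃ T ∈ 𝓝 (0 : B), S + T ⊆ K)
    ⟨Set.univ, by simp only [univ_mem, empty_add, empty_subset, and_self]⟩
    (fun _ _ huv ⟨T, hT, mem⟩ ↦ ⟨T, hT, (add_subset_add_right huv).trans mem⟩)
    fun U V ⟨T₁, hT₁, mem1⟩ ⟨T₂, hT₂, mem2⟩ ↦ ⟨T₁ ∩ T₂, inter_mem hT₁ hT₂, by
      rw [union_add]
      exact union_subset (add_subset_add_left inter_subset_left |>.trans mem1)
        (add_subset_add_left inter_subset_right |>.trans mem2) ⟩
  intro x memW
  have : (x, 0) ∈ (fun p : B × B ↦ p.1 + p.2) ⁻¹' K := by simp [memW]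
  rcases isOpen_prod_iff.mp (continuous_add.isOpen_preimage K hKo) x 0 this with
    ⟨U, V, Uopen, Vopen, xmemU, onememV, prodsub⟩
  have h6 : U + V ⊆ K := add_subset_iff.mpr (fun _ hx _ hy ↦ prodsub (mk_mem_prod hx hy))
  exact ⟨U ∩ K, ⟨U, Uopen.mem_nhds xmemU, K, fun _ a ↦ a, rfl⟩,
    V, IsOpen.mem_nhds Vopen onememV, fun _ a ↦ h6 ((add_subset_add_right inter_subset_left) a)⟩

lemma exists_openAddSubgroup_subset [T2Space B] [LocallyCompactSpace B] [TotallyDisconnectedSpace B]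
    {W : Set B} (hW : W ∈ 𝓝 (0 : B)) : ∃ U : AddSubgroup B, IsOpen (U : Set B) ∧ (U : Set B) ⊆ W := by
  -- compact clopen neighbourhood
  obtain ⟨C, hC, h0C, hCW⟩ := exists_compact_subset isOpen_interior (mem_interior_iff_mem_nhds.mpr hW)
  obtain ⟨K, hKclopen, h0K, hKC⟩ :=
    (loc_compact_Haus_tot_disc_of_zero_dim (H := B)).mem_nhds_iff.mp
      (isOpen_interior.mem_nhds h0C)
  have hKcompact : IsCompact K :=
    hC.of_isClosed_subset hKclopen.isClosed (hKC.trans interior_subset)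
  have hKW : K ⊆ W := (hKC.trans interior_subset).trans (hCW.trans interior_subset)
  obtain ⟨T₀, hT₀, hKT₀⟩ := exists_add_closure_nhds hKcompact hKclopen.isOpen
  -- symmetric
  set T := T₀ ∩ -T₀ with hT
  have hTnhds : T ∈ 𝓝 (0 : B) := inter_mem hT₀ (neg_mem_nhds_zero B hT₀)
  have hTneg : ∀ t ∈ T, -t ∈ T := by
    intro t ht
    exact ⟨by simpa using ht.2, by simpa using ht.1⟩
  have hKT : ∀ k ∈ K, ∀ t ∈ T, k + t ∈ K := fun k hk t ht =>
    hKT₀ (Set.add_mem_add hk ht.1)
  refine ⟨AddSubgroup.closure T, ?_, ?_⟩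
  · apply AddSubgroup.isOpen_of_mem_nhds
    exact mem_of_superset hTnhds AddSubgroup.subset_closure
  · intro s hs
    have key : ∀ k ∈ K, k + s ∈ K := by
      induction hs using AddSubgroup.closure_induction'' with
      | mem x hx => exact fun k hk => hKT k hk x hx
      | neg_mem x hx => exact fun k hk => hKT k hk (-x) (hTneg x hx)
      | zero => intro k hk; simpa using hk
      | add x y _ _ hx hy => intro k hk; rw [← add_assoc]; exact hy _ (hx k hk)
    have := key 0 h0K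
    rw [zero_add] at this
    exact hKW this

theorem main {A : Type*} [AddCommGroup A] [TopologicalSpace A]
    [T2Space B] [LocallyCompactSpace B] [TotallyDisconnectedSpace B]
    (i : A →+ B) (hind : IsInducing i)
    (χ : A →+ ℚ ⧸ AddSubgroup.zmultiples (1 : ℚ)) (hχ : IsOpen (χ.ker : Set A)) :
    ∃ ψ : B →+ ℚ ⧸ AddSubgroup.zmultiples (1 : ℚ), IsOpen (ψ.ker : Set B) ∧ ψ.comp i = χ := by
  obtain ⟨W, hWo, hWk⟩ := hind.isOpen_iff.mp hχ
  have h0W : (0 : B) ∈ W := by
    have : (0 : A) ∈ i ⁻¹' W := by rw [hWk]; exact χ.ker.zero_mem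
    simpa using this
  obtain ⟨U, hUo, hUW⟩ := exists_openAddSubgroup_subset (hWo.mem_nhds h0W)
  set N : AddSubgroup A := U.comap i with hN
  have hNker : N ≤ χ.ker := by
    intro a ha
    have : a ∈ i ⁻¹' W := hUW ha
    rw [hWk] at this
    exact this
  let χ' : A ⧸ N →+ ℚ ⧸ AddSubgroup.zmultiples (1 : ℚ) := QuotientAddGroup.lift N χ hNker
  let ι : A ⧸ N →+ B ⧸ U := QuotientAddGroup.map N U i le_rfl
  have hι : Function.Injective ι := by
    rw [injective_iff_map_eq_zero]
    intro x hx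
    obtain ⟨a, rfl⟩ := QuotientAddGroup.mk_surjective x
    rw [QuotientAddGroup.map_mk, QuotientAddGroup.eq_zero_iff] at hx
    exact (QuotientAddGroup.eq_zero_iff a).mpr hx
  obtain ⟨ψ', hψ'⟩ := Module.Baer.extension_property_addMonoidHom
    (Module.Baer.of_divisible _) ι hι χ'
  refine ⟨ψ'.comp (QuotientAddGroup.mk' U), ?_, ?_⟩
  · refine AddSubgroup.isOpen_mono (H₁ := U) ?_ hUo
    intro u hu
    rw [AddMonoidHom.mem_ker, AddMonoidHom.comp_apply, QuotientAddGroup.mk'_apply,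
      (QuotientAddGroup.eq_zero_iff u).mpr hu, map_zero]
  · ext a
    have := DFunLike.congr_fun hψ' (QuotientAddGroup.mk a)
    simpa [ι, χ'] using this

end Groth.Agent.Lib.Helper4.ProCompl
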