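import Mathlib.RingTheory.Filtration
import Mathlib.GroupTheory.FiniteAbelian.Basic
import Mathlib.GroupTheory.IndexNSmul
import Mathlib.Tactic
import Groth.Agent.Lib.Helper4.ProCompl
import Groth.Prelude.Def_W4c61motalbdualityCompl

namespace Groth.Agent.Lib.Helper4.ProCompl2
open Topology Set Filter W4c61motalbduality
open scoped Pointwise

/-- Artin–Rees over `ℤ`. -/
lemma exists_nsmul_mem {Γ : Type*} [AddCommGroup Γ] [Module.Finite ℤ Γ] (Abar : AddSubgroup Γ) (n : ℕ)
    (hn : 0 < n) :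
    ∃ N : ℕ, 0 < N ∧ ∀ γ : Γ, N • γ ∈ Abar → ∃ a ∈ Abar, N • γ = n • a := by
  obtain ⟨c, hc⟩ := Ideal.exists_pow_inf_eq_pow_smul (Ideal.span {(n : ℤ)}) (AddSubgroup.toIntSubmodule Abar)
  refine ⟨n ^ (c + 1), pow_pos hn _, fun γ hγ => ?_⟩
  have h1 : (n ^ (c + 1)) • γ ∈ (Ideal.span {(n : ℤ)}) ^ (c + 1) • (⊤ : Submodule ℤ Γ) ⊓
      AddSubgroup.toIntSubmodule Abar := by
    refine ⟨?_, hγ⟩
    rw [Ideal.span_singleton_pow]
    have : (n ^ (c + 1)) • γ = ((n : ℤ) ^ (c + 1)) • γ := by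
      rw [← Nat.cast_pow, natCast_zsmul]
    rw [this]
    exact Submodule.smul_mem_smul (Ideal.mem_span_singleton_self _) Submodule.mem_top
  rw [hc (c + 1) (by omega)] at h1
  have h2 : (Ideal.span {(n : ℤ)}) ^ (c + 1 - c) • ((Ideal.span {(n : ℤ)}) ^ c • (⊤ : Submodule ℤ Γ) ⊓
      AddSubgroup.toIntSubmodule Abar) ≤ (Ideal.span {(n : ℤ)}) • AddSubgroup.toIntSubmodule Abar := by
    have : c + 1 - c = 1 := by omega
    rw [this, pow_one]
    exact Submodule.smul_mono le_rfl inf_le_right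
  have h3 := h2 h1
  rw [Submodule.ideal_span_singleton_smul] at h3
  obtain ⟨a, ha, hag⟩ := (Submodule.mem_smul_pointwise_iff_exists _ _ _).mp h3
  refine ⟨a, ha, ?_⟩
  rw [← hag, natCast_zsmul]

variable {A : Type*} {B : Type*} [AddCommGroup A] [TopologicalSpace A]
  [AddCommGroup B] [TopologicalSpace B] [IsTopologicalAddGroup B]
  [T2Space B] [LocallyCompactSpace B] [TotallyDisconnectedSpace B]

lemma fg_quotient (hcg : ∃ K : Set B, IsCompact K ∧ AddSubgroup.closure K = ⊤)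
    (K₀ : AddSubgroup B) (hK₀ : IsOpen (K₀ : Set B)) : AddGroup.FG (B ⧸ K₀) := by
  obtain ⟨C, hCc, hCgen⟩ := hcg
  set π := QuotientAddGroup.mk' K₀ with hπ
  have hπs : Function.Surjective π := QuotientAddGroup.mk'_surjective K₀
  have hopen : ∀ b : B, IsOpen (π ⁻¹' {π b}) := by
    intro b
    have : π ⁻¹' {π b} = (fun x => x + b) '' (K₀ : Set B) := by
      ext x
      simp only [mem_preimage, mem_singleton_iff, mem_image, SetLike.mem_coe, hπ,
        QuotientAddGroup.mk'_apply]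
      constructor
      · intro h
        refine ⟨x - b, ?_, by abel⟩
        have := QuotientAddGroup.eq.mp h.symm
        rwa [neg_add_eq_sub] at this
      · rintro ⟨k, hk, rfl⟩
        rw [QuotientAddGroup.mk_add, (QuotientAddGroup.eq_zero_iff k).mpr hk, zero_add]
    rw [this]
    exact (Homeomorph.addRight b).isOpenMap _ hK₀
  obtain ⟨t, ht⟩ := hCc.elim_finite_subcover (fun b : B => π ⁻¹' {π b}) hopen
    (fun c _ => mem_iUnion.mpr ⟨c, rfl⟩)
  rw [AddGroup.fg_iff]
  refine ⟨π '' (t : Set B), ?_, (t.finite_toSet).image _⟩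
  rw [eq_top_iff]
  have h1 : (⊤ : AddSubgroup (B ⧸ K₀)) = AddSubgroup.closure (π '' C) := by
    rw [← AddMonoidHom.map_closure, hCgen, AddSubgroup.map_top_of_surjective π hπs]
  rw [h1]
  apply AddSubgroup.closure_mono
  rintro _ ⟨c, hc, rfl⟩
  obtain ⟨b, hb⟩ := mem_iUnion.mp (ht hc)
  obtain ⟨hbt, hcb⟩ := mem_iUnion.mp hb
  exact ⟨b, hbt, hcb.symm⟩

lemma key (hcg : ∃ K : Set B, IsCompact K ∧ AddSubgroup.closure K = ⊤)
    (i : A →+ B) (hi : Continuous i) (hind : IsInducing i) (U : OpenFI A) :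
    ∃ V : OpenFI B, (V.comap i hi).toAddSubgroup ≤ U.toAddSubgroup := by
  obtain ⟨W, hWo, hWU⟩ := hind.isOpen_iff.mp U.isOpen'
  have h0W : (0 : B) ∈ W := by
    have : (0 : A) ∈ i ⁻¹' W := by rw [hWU]; exact U.toAddSubgroup.zero_mem
    simpa using this
  obtain ⟨K₀, hK₀o, hK₀W⟩ := ProCompl.exists_openAddSubgroup_subset (hWo.mem_nhds h0W)
  haveI : AddGroup.FG (B ⧸ K₀) := fg_quotient hcg K₀ hK₀o
  haveI : Module.Finite ℤ (B ⧸ K₀) := Module.Finite.iff_addGroup_fg.mpr inferInstance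
  set π := QuotientAddGroup.mk' K₀ with hπ
  have hπs : Function.Surjective π := QuotientAddGroup.mk'_surjective K₀
  set abar : A →+ B ⧸ K₀ := π.comp i with habar
  haveI := U.finiteIndex'
  set n := U.toAddSubgroup.index with hn
  have hn0 : 0 < n := Nat.pos_of_ne_zero AddSubgroup.FiniteIndex.index_ne_zero
  obtain ⟨N, hN0, hN⟩ := exists_nsmul_mem abar.range n hn0
  -- the subgroup
  let NΓ : AddSubgroup (B ⧸ K₀) := (nsmulAddMonoidHom N : (B ⧸ K₀) →+ (B ⧸ K₀)).range
  let Vbar : AddSubgroup (B ⧸ K₀) := U.toAddSubgroup.map abar ⊔ NΓ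
  have hNΓfin : NΓ.FiniteIndex := by
    haveI : AddGroup.FG ((B ⧸ K₀) ⧸ NΓ) := inferInstance
    haveI : Finite ((B ⧸ K₀) ⧸ NΓ) := by
      apply AddCommGroup.finite_of_fg_isAddTorsion
      intro x
      obtain ⟨y, rfl⟩ := QuotientAddGroup.mk_surjective x
      rw [isOfFinAddOrder_iff_nsmul_eq_zero]
      refine ⟨N, hN0, ?_⟩
      rw [← QuotientAddGroup.mk_nsmul, QuotientAddGroup.eq_zero_iff]
      exact ⟨y, rfl⟩
    exact AddSubgroup.finiteIndex_of_finite_quotient
  have hVbarfin : Vbar.FiniteIndex := AddSubgroup.finiteIndex_of_le (H := NΓ) le_sup_right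
  refine ⟨⟨Vbar.comap π, ?_, ?_⟩, ?_⟩
  · refine AddSubgroup.isOpen_mono (H₁ := K₀) ?_ hK₀o
    intro k hk
    rw [AddSubgroup.mem_comap, hπ, QuotientAddGroup.mk'_apply,
      (QuotientAddGroup.eq_zero_iff k).mpr hk]
    exact Vbar.zero_mem
  · refine ⟨?_⟩
    rw [AddSubgroup.index_comap_of_surjective _ hπs]
    exact hVbarfin.index_ne_zero
  · intro a ha
    change π (i a) ∈ Vbar at ha
    obtain ⟨x, hx, y, hy, hxy⟩ := AddSubgroup.mem_sup.mp ha
    obtain ⟨u, hu, rfl⟩ := hx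
    obtain ⟨γ, rfl⟩ := hy
    have hγ : N • γ ∈ abar.range := by
      refine ⟨a - u, ?_⟩
      rw [map_sub]
      change π (i a) - abar u = _
      rw [← hxy]
      simp
    obtain ⟨_, ⟨a', rfl⟩, ha'⟩ := hN γ hγ
    have hu' : n • a' ∈ U.toAddSubgroup := U.toAddSubgroup.nsmul_index_mem a'
    -- abar (a - u - n • a') = 0
    have hz : abar (a - u - n • a') = 0 := by
      rw [map_sub, map_sub, map_nsmul, ← ha']
      change π (i a) - abar u - _ = 0
      rw [← hxy]
      simp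
    have hK : i (a - u - n • a') ∈ K₀ := by
      have : π (i (a - u - n • a')) = 0 := hz
      rwa [hπ, QuotientAddGroup.mk'_apply, QuotientAddGroup.eq_zero_iff] at this
    have hU : a - u - n • a' ∈ U.toAddSubgroup := by
      have : a - u - n • a' ∈ i ⁻¹' W := hK₀W hK
      rw [hWU] at this
      exact this
    have : a = (a - u - n • a') + u + n • a' := by abel
    rw [this]
    exact U.toAddSubgroup.add_mem (U.toAddSubgroup.add_mem hU hu) hu'

theorem main (hcg : ∃ K : Set B, IsCompact K ∧ AddSubgroup.closure K = ⊤)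
    (i : A →+ B) (hi : Continuous i) (hind : IsInducing i) :
    Function.Injective (FICompl.map i hi) := by
  rw [injective_iff_map_eq_zero]
  intro x hx
  apply Subtype.ext
  funext U
  obtain ⟨V, hV⟩ := key hcg i hi hind U
  have h1 : (FICompl.map i hi x).1 V = 0 := by rw [hx]; rfl
  have h2 : x.1 (V.comap i hi) = 0 := by
    obtain ⟨a, ha⟩ := QuotientAddGroup.mk_surjective (x.1 (V.comap i hi))
    change QuotientAddGroup.map (V.comap i hi).toAddSubgroup V.toAddSubgroup i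
      (V.comap_le i) (x.1 (V.comap i hi)) = 0 at h1
    rw [← ha] at h1
    have h1' : ((i a : B) : B ⧸ V.toAddSubgroup) = 0 := h1
    rw [QuotientAddGroup.eq_zero_iff] at h1'
    rw [← ha]
    exact (QuotientAddGroup.eq_zero_iff a).mpr h1'
  have h3 := x.2 (V.comap i hi) U hV
  rw [h2, map_zero] at h3
  exact h3.symm

end Groth.Agent.Lib.Helper4.ProCompl2
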