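import Mathlib.Tactic
import Groth.Agent.Lib.Helper4.ProCompl2

namespace Groth.Agent.Lib.Helper4.ProCompl3
open Groth.Agent.Lib.Helper4

open Set in
lemma fg_quotient' {B : Type*} [AddCommGroup B] [TopologicalSpace B] [IsTopologicalAddGroup B] (hcg : ∃ K : Set B, IsCompact K ∧ AddSubgroup.closure K = ⊤)
    (K₀ : AddSubgroup B) (hK₀ : IsOpen (K₀ : Set B)) : AddGroup.FG (B ⧸ K₀) := by
  obtain ⟨C, hCc, hCgen⟩ := hcg
  set π := QuotientAddGroup.mk' K₀ with hπ
  have hπs : Function.Surjective π := QuotientAddGroup.mk'_surjective K₀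
  have hopen : ∀ b : B, IsOpen (π ⁻¹' {π b}) := by
    intro b
    have : π ⁻¹' {π b} = (fun x => x + b) '' (K₀ : Set B) := by
      ext x
      simp only [mem_preimage, mem_singleton_iff, mem_image, SetLike.mem_coe, hπ,
        QuotientAddGroup.mk'_apply]
      constructor
      · intro h
        refine ⟨x - b, ?_, by abel⟩
        have := QuotientAddGroup.eq.mp h.symm
        rwa [neg_add_eq_sub] at this
      · rintro ⟨k, hk, rfl⟩
        rw [QuotientAddGroup.mk_add, (QuotientAddGroup.eq_zero_iff k).mpr hk, zero_add]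
    rw [this]
    exact (Homeomorph.addRight b).isOpenMap _ hK₀
  obtain ⟨t, ht⟩ := hCc.elim_finite_subcover (fun b : B => π ⁻¹' {π b}) hopen
    (fun c _ => mem_iUnion.mpr ⟨c, rfl⟩)
  rw [AddGroup.fg_iff]
  refine ⟨π '' (t : Set B), ?_, (t.finite_toSet).image _⟩
  rw [eq_top_iff]
  have h1 : (⊤ : AddSubgroup (B ⧸ K₀)) = AddSubgroup.closure (π '' C) := by
    rw [← AddMonoidHom.map_closure, hCgen, AddSubgroup.map_top_of_surjective π hπs]
  rw [h1]
  apply AddSubgroup.closure_mono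
  rintro _ ⟨c, hc, rfl⟩
  obtain ⟨b, hb⟩ := mem_iUnion.mp (ht hc)
  obtain ⟨hbt, hcb⟩ := mem_iUnion.mp hb
  exact ⟨b, hbt, hcb.symm⟩


lemma torsion_QZ (x : ℚ ⧸ AddSubgroup.zmultiples (1 : ℚ)) : ∃ n : ℕ, 0 < n ∧ n • x = 0 := by
  obtain ⟨q, rfl⟩ := QuotientAddGroup.mk_surjective x
  refine ⟨q.den, q.den_pos, ?_⟩
  rw [← QuotientAddGroup.mk_nsmul, QuotientAddGroup.eq_zero_iff, AddSubgroup.mem_zmultiples_iff]
  refine ⟨q.num, ?_⟩
  simp [Rat.den_mul_eq_num]  

theorem main {B : Type*} [AddCommGroup B] [TopologicalSpace B] [IsTopologicalAddGroup B]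
    (hcg : ∃ K : Set B, IsCompact K ∧ AddSubgroup.closure K = ⊤)
    (χ : B →+ ℚ ⧸ AddSubgroup.zmultiples (1 : ℚ)) (hχ : IsOpen (χ.ker : Set B)) :
    χ.ker.FiniteIndex := by
  haveI : AddGroup.FG (B ⧸ χ.ker) := fg_quotient' hcg χ.ker hχ
  haveI : Finite (B ⧸ χ.ker) := by
    apply AddCommGroup.finite_of_fg_isAddTorsion
    intro x
    obtain ⟨b, rfl⟩ := QuotientAddGroup.mk_surjective x
    obtain ⟨n, hn, hnb⟩ := torsion_QZ (χ b)
    rw [isOfFinAddOrder_iff_nsmul_eq_zero]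
    refine ⟨n, hn, ?_⟩
    rw [← QuotientAddGroup.mk_nsmul, QuotientAddGroup.eq_zero_iff, AddMonoidHom.mem_ker, map_nsmul]
    exact hnb
  exact AddSubgroup.finiteIndex_of_finite_quotient

end Groth.Agent.Lib.Helper4.ProCompl3
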