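import Mathlib.Tactic
import Mathlib.AlgebraicGeometry.AlgClosed.Basic
import Mathlib.AlgebraicGeometry.PullbackCarrier
import Mathlib.AlgebraicGeometry.Morphisms.UniversallyOpen
import Mathlib.AlgebraicGeometry.Noetherian
import Mathlib.Topology.JacobsonSpace

open CategoryTheory AlgebraicGeometry Limits TopologicalSpace

namespace Groth.Agent.Lib.Helper4.ProdConn

universe u

/-- Over an algebraically closed field, the product of two connected schemes locally of finite type
is connected (scheme form). -/
theorem connectedSpace_pullback (k : Type u) [Field k] [IsAlgClosed k] {X Y : Scheme.{u}}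
    (sX : X ⟶ Spec (CommRingCat.of k)) (sY : Y ⟶ Spec (CommRingCat.of k))
    [LocallyOfFiniteType sX] [LocallyOfFiniteType sY] [ConnectedSpace X] [ConnectedSpace Y] :
    ConnectedSpace ↥(pullback sX sY) := by
  haveI : JacobsonSpace X := LocallyOfFiniteType.jacobsonSpace sX
  haveI : JacobsonSpace Y := LocallyOfFiniteType.jacobsonSpace sY
  -- rational points
  have hptY : ∀ y : Y, IsClosed {y} → ∃ t : Spec (CommRingCat.of k) ⟶ Y,
      t ≫ sY = 𝟙 _ ∧ Set.range t = {y} := by
    intro y hy
    refine ⟨pointOfClosedPoint sY y hy, pointOfClosedPoint_comp sY y hy, ?_⟩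
    ext z
    constructor
    · rintro ⟨a, rfl⟩
      exact pointOfClosedPoint_apply sY y hy a
    · rintro rfl
      exact ⟨(default : PrimeSpectrum k), pointOfClosedPoint_apply sY z hy _⟩
  -- fibres over closed points are connected
  have hfib : ∀ y : Y, IsClosed {y} → _root_.IsConnected (pullback.snd sX sY ⁻¹' {y}) := by
    intro y hy
    obtain ⟨t, ht, htr⟩ := hptY y hy
    let m : pullback sX (𝟙 (Spec (CommRingCat.of k))) ⟶ pullback sX sY :=
      pullback.map sX (𝟙 _) sX sY (𝟙 X) t (𝟙 _) (by simp) (by simp [ht])
    have hm : Set.range m = pullback.snd sX sY ⁻¹' {y} := by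
      rw [Scheme.Pullback.range_map, htr]
      simp
    rw [← hm]
    haveI : ConnectedSpace ↥(pullback sX (𝟙 (Spec (CommRingCat.of k)))) :=
      (asIso (pullback.fst sX (𝟙 (Spec (CommRingCat.of k))))).hom.homeomorph.connectedSpace_iff.mpr
        inferInstance
    exact isConnected_range m.continuous
  obtain ⟨x₁⟩ : Nonempty X := inferInstance
  obtain ⟨y₁⟩ : Nonempty Y := inferInstance
  haveI hsurj : Surjective sX := by
    constructor
    intro z
    exact ⟨x₁, Subsingleton.elim (α := PrimeSpectrum k) _ _⟩
  have hp₂surj : Function.Surjective (pullback.snd sX sY) := (pullback.snd sX sY).surjective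
  haveI : Nonempty ↥(pullback sX sY) := ⟨(hp₂surj y₁).choose⟩
  have hopen : IsOpenMap (pullback.snd sX sY) := (pullback.snd sX sY).isOpenMap
  haveI : PreconnectedSpace ↥(pullback sX sY) := by
    rw [preconnectedSpace_iff_clopen]
    intro U hU
    let A : Set Y := pullback.snd sX sY '' U
    let B : Set Y := pullback.snd sX sY '' Uᶜ
    have hA : IsOpen A := hopen U hU.2
    have hB : IsOpen B := hopen Uᶜ hU.1.isOpen_compl
    have hAB : A ∪ B = Set.univ := by
      rw [← Set.image_union, Set.union_compl_self, Set.image_univ, Set.range_eq_univ.mpr hp₂surj]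
    have hdisj : A ∩ B = ∅ := by
      by_contra hne
      rw [← Ne, ← Set.nonempty_iff_ne_empty] at hne
      obtain ⟨y, ⟨hyA, hyB⟩, hyc⟩ := nonempty_inter_closedPoints hne (hA.inter hB).isLocallyClosed
      have hconn := hfib y hyc
      obtain ⟨a, haU, hay⟩ := hyA
      obtain ⟨b, hbU, hby⟩ := hyB
      have hsub : pullback.snd sX sY ⁻¹' {y} ⊆ U :=
        hconn.isPreconnected.subset_isClopen hU ⟨a, hay, haU⟩
      exact hbU (hsub hby)
    have hAclopen : IsClopen A := by
      refine ⟨?_, hA⟩
      have : A = Bᶜ := by
        ext y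
        constructor
        · intro hyA hyB
          have : y ∈ A ∩ B := ⟨hyA, hyB⟩
          rw [hdisj] at this
          exact this
        · intro hyB
          have : y ∈ A ∪ B := by rw [hAB]; trivial
          exact this.resolve_right hyB
      rw [this]
      exact hB.isClosed_compl
    rcases isClopen_iff.mp hAclopen with h | h
    · left
      by_contra hne
      rw [← Ne, ← Set.nonempty_iff_ne_empty] at hne
      obtain ⟨a, ha⟩ := hne
      have : pullback.snd sX sY a ∈ A := ⟨a, ha, rfl⟩
      rw [h] at this
      exact this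
    · right
      by_contra hne
      have hne' : (Uᶜ).Nonempty := by
        rw [Set.nonempty_compl]
        exact hne
      obtain ⟨b, hb⟩ := hne'
      have hbB : pullback.snd sX sY b ∈ B := ⟨b, hb, rfl⟩
      have hbA : pullback.snd sX sY b ∈ A := by rw [h]; trivial
      have : pullback.snd sX sY b ∈ A ∩ B := ⟨hbA, hbB⟩
      rw [hdisj] at this
      exact this
  exact ConnectedSpace.mk inferInstance

end Groth.Agent.Lib.Helper4.ProdConn
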