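import Mathlib.Tactic
import Groth.Agent.Lib.Helper4.AntiAffOver2
import Groth.Agent.Lib.Helper4.ProperAntiAff
import Groth.Agent.Lib.Helper4.ProdConn
import Groth.Prelude.Def_AlgGrp

open CategoryTheory AlgebraicGeometry Limits TopologicalSpace MonoidalCategory CartesianMonoidalCategory
  MonObj GrpObj

namespace Groth.Agent.Lib.Helper4.ProdAct

open Groth.Agent.Lib.Helper4.AntiAffOver Groth.Agent.Lib.Helper4.AntiAffOver2
  Groth.Agent.Lib.Helper4.ProperAntiAff Groth.Agent.Lib.Helper4.ProdConn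

universe u

variable {C : Type*} [Category C] [CartesianMonoidalCategory C]

/-- pointwise form of the unit axiom -/
theorem one_act_pt {S : Scheme.{u}} {G X : Over S} [GrpObj G] (a : AlgGrp.Action G X) {T : Over S}
    (p : T ⟶ X) : lift (toUnit T ≫ η[G]) p ≫ a.act = p := by
  have h1 : lift (toUnit T ≫ η[G]) p = lift (toUnit T) p ≫ (η[G] ▷ X) := by
    rw [lift_whiskerRight]
  rw [h1, Category.assoc, a.one_act, leftUnitor_hom, lift_snd]


/-- rigidity for a family of maps `φ_g : X × Y → X` with `φ_e = fst`: `φ_g (x, y)` does not depend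
on `y` -/
theorem contract (k : Type u) [Field k] [IsAlgClosed k]
    (G X Y : Over (Spec (CommRingCat.of k))) [GrpObj G] [LocallyOfFiniteType G.hom]
    [ConnectedSpace ↥G.left]
    [IsProper X.hom] [IsIntegral X.left]
    [IsProper Y.hom] [IsIntegral Y.left]
    (φ : G ⊗ (X ⊗ Y) ⟶ X)
    (hφ : ∀ {T : Over (Spec (CommRingCat.of k))} (p : T ⟶ X ⊗ Y),
      lift (toUnit T ≫ η[G]) p ≫ φ = p ≫ fst X Y)
    (x₀ : 𝟙_ (Over (Spec (CommRingCat.of k))) ⟶ X) (y₀ : 𝟙_ (Over (Spec (CommRingCat.of k))) ⟶ Y) :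
    φ = (G ◁ (fst X Y ≫ lift (𝟙 X) (toUnit X ≫ y₀))) ≫ φ := by
  have hY := bijective_of_universallyClosed k Y
  haveI : CompactSpace Y.left := QuasiCompact.compactSpace_of_compactSpace Y.hom
  haveI : IsLocallyNoetherian Y.left := isLocallyNoetherian_of_lft k Y
  let W := G ⊗ X
  haveI : LocallyOfFiniteType W.hom := by
    change LocallyOfFiniteType (pullback.fst G.hom X.hom ≫ G.hom)
    infer_instance
  haveI : IsLocallyNoetherian W.left := isLocallyNoetherian_of_lft k W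
  haveI : ConnectedSpace W.left := connectedSpace_pullback k G.hom X.hom
  let ρ : Y ⊗ W ⟶ G ⊗ (X ⊗ Y) :=
    lift (snd Y W ≫ fst G X) (lift (snd Y W ≫ snd G X) (fst Y W))
  let ρ' : G ⊗ (X ⊗ Y) ⟶ Y ⊗ W :=
    lift (snd G (X ⊗ Y) ≫ snd X Y) (lift (fst G (X ⊗ Y)) (snd G (X ⊗ Y) ≫ fst X Y))
  have hρ'ρ : ρ' ≫ ρ = 𝟙 _ := by
    apply CartesianMonoidalCategory.hom_ext
    · simp [ρ, ρ']
    · apply CartesianMonoidalCategory.hom_ext <;> simp [ρ, ρ']
  let w₀ : 𝟙_ (Over (Spec (CommRingCat.of k))) ⟶ W := lift η[G] x₀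
  let f' : Y ⊗ W ⟶ X := ρ ≫ φ
  have hf' : (Y ◁ w₀) ≫ f' = toUnit _ ≫ lift y₀ w₀ ≫ f' := by
    have h1 : (Y ◁ w₀) ≫ ρ = lift (toUnit _ ≫ η[G]) (lift (toUnit _ ≫ x₀) (fst Y _)) := by
      apply CartesianMonoidalCategory.hom_ext
      · simp only [ρ, w₀, Category.assoc, lift_fst, whiskerLeft_snd_assoc]
        congr 1
        exact toUnit_unique _ _
      · apply CartesianMonoidalCategory.hom_ext
        · simp only [ρ, w₀, Category.assoc, lift_fst, lift_snd, whiskerLeft_snd_assoc]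
          congr 1
          exact toUnit_unique _ _
        · simp [ρ, w₀]
    have h2 : lift y₀ w₀ ≫ ρ = lift (toUnit _ ≫ η[G]) (lift x₀ y₀) := by
      apply CartesianMonoidalCategory.hom_ext
      · simp only [ρ, w₀, Category.assoc, lift_fst, lift_snd_assoc]
        rw [toUnit_unique (toUnit (𝟙_ (Over (Spec (CommRingCat.of k))))) (𝟙 _), Category.id_comp]
      · apply CartesianMonoidalCategory.hom_ext <;> simp [ρ, w₀]
    simp only [f']
    rw [← Category.assoc (Y ◁ w₀), h1, hφ, lift_fst,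
      ← Category.assoc (lift y₀ w₀), h2, hφ, lift_fst]
  have key := over_rigidity k Y W X hY y₀ w₀ f' hf'
  have h3 : φ = ρ' ≫ f' := by
    simp only [f']
    rw [← Category.assoc, hρ'ρ, Category.id_comp]
  have h4 : ρ' ≫ snd Y W = G ◁ fst X Y := by
    apply CartesianMonoidalCategory.hom_ext <;> simp [ρ']
  have h5 : lift (toUnit W ≫ y₀) (𝟙 W) ≫ ρ = G ◁ lift (𝟙 X) (toUnit X ≫ y₀) := by
    apply CartesianMonoidalCategory.hom_ext
    · simp [ρ, W]
    · apply CartesianMonoidalCategory.hom_ext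
      · simp [ρ, W]
      · simp only [ρ, Category.assoc, lift_snd, lift_fst, whiskerLeft_snd_assoc]
        rw [← Category.assoc, toUnit_unique (snd G X ≫ toUnit X) (toUnit W)]
  have h6 : φ =
      (G ◁ fst X Y) ≫ (G ◁ lift (𝟙 X) (toUnit X ≫ y₀)) ≫ φ := by
    calc φ = ρ' ≫ f' := h3
      _ = ρ' ≫ snd Y W ≫ lift (toUnit W ≫ y₀) (𝟙 W) ≫ f' := by rw [← key]
      _ = _ := by
        simp only [f']
        rw [← Category.assoc ρ', h4, ← Category.assoc (lift _ _), h5]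
  rw [whiskerLeft_comp, Category.assoc]
  exact h6


theorem action_ext {S : Scheme.{u}} {G X : Over S} [GrpObj G] (a b : AlgGrp.Action G X)
    (h : a.act = b.act) : a = b := by
  cases a; cases b
  simp only at h
  subst h
  rfl

/-- an action `a` on `X ⊗ Y` whose first component factors through `G ⊗ X` induces an action
on `X` -/
noncomputable def actFst {S : Scheme.{u}} {G X Y : Over S} [GrpObj G] (a : AlgGrp.Action G (X ⊗ Y))
    (j : X ⟶ X ⊗ Y) (hj : j ≫ fst X Y = 𝟙 X)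
    (h : a.act ≫ fst X Y = (G ◁ (fst X Y ≫ j)) ≫ a.act ≫ fst X Y) : AlgGrp.Action G X where
  act := (G ◁ j) ≫ a.act ≫ fst X Y
  one_act := by
    rw [← Category.assoc, ← whisker_exchange, Category.assoc, ← Category.assoc _ a.act, a.one_act,
      ← Category.assoc, leftUnitor_naturality, Category.assoc, hj, Category.comp_id]
  mul_act := by
    have h' : a.act ≫ fst X Y = (G ◁ fst X Y) ≫ (G ◁ j) ≫ a.act ≫ fst X Y := by
      rw [← Category.assoc (G ◁ fst X Y), ← whiskerLeft_comp]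
      exact h
    calc (μ[G] ▷ X) ≫ (G ◁ j) ≫ a.act ≫ fst X Y
        = ((G ⊗ G) ◁ j) ≫ ((μ[G] ▷ (X ⊗ Y)) ≫ a.act) ≫ fst X Y := by
          rw [← Category.assoc, ← whisker_exchange]
          simp only [Category.assoc]
      _ = ((G ⊗ G) ◁ j) ≫ (α_ G G (X ⊗ Y)).hom ≫ (G ◁ a.act) ≫ a.act ≫ fst X Y := by
          rw [a.mul_act]
          simp only [Category.assoc]
      _ = ((G ⊗ G) ◁ j) ≫ (α_ G G (X ⊗ Y)).hom ≫ (G ◁ a.act) ≫ (G ◁ fst X Y) ≫ (G ◁ j) ≫
            a.act ≫ fst X Y := by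
          rw [← h']
      _ = (α_ G G X).hom ≫ (G ◁ ((G ◁ j) ≫ a.act ≫ fst X Y)) ≫ (G ◁ j) ≫ a.act ≫ fst X Y := by
          rw [← Category.assoc ((G ⊗ G) ◁ j), associator_naturality_right]
          simp only [whiskerLeft_comp, Category.assoc]


/-- the second-factor analogue of `actFst` -/
noncomputable def actSnd {S : Scheme.{u}} {G X Y : Over S} [GrpObj G] (a : AlgGrp.Action G (X ⊗ Y))
    (j : Y ⟶ X ⊗ Y) (hj : j ≫ snd X Y = 𝟙 Y)
    (h : a.act ≫ snd X Y = (G ◁ (snd X Y ≫ j)) ≫ a.act ≫ snd X Y) : AlgGrp.Action G Y where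
  act := (G ◁ j) ≫ a.act ≫ snd X Y
  one_act := by
    rw [← Category.assoc, ← whisker_exchange, Category.assoc, ← Category.assoc _ a.act, a.one_act,
      ← Category.assoc, leftUnitor_naturality, Category.assoc, hj, Category.comp_id]
  mul_act := by
    have h' : a.act ≫ snd X Y = (G ◁ snd X Y) ≫ (G ◁ j) ≫ a.act ≫ snd X Y := by
      rw [← Category.assoc (G ◁ snd X Y), ← whiskerLeft_comp]
      exact h
    calc (μ[G] ▷ Y) ≫ (G ◁ j) ≫ a.act ≫ snd X Y
        = ((G ⊗ G) ◁ j) ≫ ((μ[G] ▷ (X ⊗ Y)) ≫ a.act) ≫ snd X Y := by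
          rw [← Category.assoc, ← whisker_exchange]
          simp only [Category.assoc]
      _ = ((G ⊗ G) ◁ j) ≫ (α_ G G (X ⊗ Y)).hom ≫ (G ◁ a.act) ≫ a.act ≫ snd X Y := by
          rw [a.mul_act]
          simp only [Category.assoc]
      _ = ((G ⊗ G) ◁ j) ≫ (α_ G G (X ⊗ Y)).hom ≫ (G ◁ a.act) ≫ (G ◁ snd X Y) ≫ (G ◁ j) ≫
            a.act ≫ snd X Y := by
          rw [← h']
      _ = (α_ G G Y).hom ≫ (G ◁ ((G ◁ j) ≫ a.act ≫ snd X Y)) ≫ (G ◁ j) ≫ a.act ≫ snd X Y := by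
          rw [← Category.assoc ((G ⊗ G) ◁ j), associator_naturality_right]
          simp only [whiskerLeft_comp, Category.assoc]

theorem main11420 (k : Type u) [Field k] [IsAlgClosed k]
    (G X Y : Over (Spec (CommRingCat.of k))) [GrpObj G] [LocallyOfFiniteType G.hom] [QuasiCompact G.hom] [ConnectedSpace ↥G.left]
    [IsProper X.hom] [IsIntegral X.left]
    [IsProper Y.hom] [IsIntegral Y.left]
    (a : AlgGrp.Action G (X ⊗ Y)) :
    ∃ (b : AlgGrp.Action G X) (c : AlgGrp.Action G Y),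
      a.act = lift ((G ◁ fst X Y) ≫ b.act) ((G ◁ snd X Y) ≫ c.act) ∧
      ∀ (b' : AlgGrp.Action G X) (c' : AlgGrp.Action G Y),
        a.act = lift ((G ◁ fst X Y) ≫ b'.act) ((G ◁ snd X Y) ≫ c'.act) → b' = b ∧ c' = c := by
  haveI : CompactSpace X.left := QuasiCompact.compactSpace_of_compactSpace X.hom
  haveI : CompactSpace Y.left := QuasiCompact.compactSpace_of_compactSpace Y.hom
  obtain ⟨x₀⟩ := exists_point k X
  obtain ⟨y₀⟩ := exists_point k Y
  let jX : X ⟶ X ⊗ Y := lift (𝟙 X) (toUnit X ≫ y₀)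
  let jY : Y ⟶ X ⊗ Y := lift (toUnit Y ≫ x₀) (𝟙 Y)
  have hjX : jX ≫ fst X Y = 𝟙 X := lift_fst _ _
  have hjY : jY ≫ snd X Y = 𝟙 Y := lift_snd _ _
  have R1 : a.act ≫ fst X Y = (G ◁ (fst X Y ≫ jX)) ≫ a.act ≫ fst X Y :=
    contract k G X Y (a.act ≫ fst X Y)
      (fun p => by rw [← Category.assoc, one_act_pt]) x₀ y₀
  have R2 : a.act ≫ snd X Y = (G ◁ (snd X Y ≫ jY)) ≫ a.act ≫ snd X Y := by
    let φ' : G ⊗ (Y ⊗ X) ⟶ Y := (G ◁ (β_ Y X).hom) ≫ a.act ≫ snd X Y
    have hφ' : ∀ {T : Over (Spec (CommRingCat.of k))} (p : T ⟶ Y ⊗ X),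
        lift (toUnit T ≫ η[G]) p ≫ φ' = p ≫ fst Y X := by
      intro T p
      simp only [φ']
      rw [← Category.assoc, lift_whiskerLeft, ← Category.assoc, one_act_pt, Category.assoc,
        braiding_hom_snd]
    have h1 := contract k G Y X φ' hφ' y₀ x₀
    have h2 : a.act ≫ snd X Y = (G ◁ (β_ X Y).hom) ≫ φ' := by
      simp only [φ']
      rw [← Category.assoc, ← whiskerLeft_comp, SymmetricCategory.symmetry, whiskerLeft_id,
        Category.id_comp]
    have h3 : (β_ X Y).hom ≫ (fst Y X ≫ lift (𝟙 Y) (toUnit Y ≫ x₀)) ≫ (β_ Y X).hom =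
        snd X Y ≫ jY := by
      apply CartesianMonoidalCategory.hom_ext <;> simp [jY]
    calc a.act ≫ snd X Y = (G ◁ (β_ X Y).hom) ≫ φ' := h2
      _ = (G ◁ (β_ X Y).hom) ≫ (G ◁ (fst Y X ≫ lift (𝟙 Y) (toUnit Y ≫ x₀))) ≫ φ' := by
          rw [← h1]
      _ = (G ◁ (β_ X Y).hom) ≫ (G ◁ (fst Y X ≫ lift (𝟙 Y) (toUnit Y ≫ x₀))) ≫
            (G ◁ (β_ Y X).hom) ≫ a.act ≫ snd X Y := rfl
      _ = (G ◁ (snd X Y ≫ jY)) ≫ a.act ≫ snd X Y := by
          rw [← h3]
          simp only [whiskerLeft_comp, Category.assoc]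
  refine ⟨actFst a jX hjX R1, actSnd a jY hjY R2, ?_, ?_⟩
  · apply CartesianMonoidalCategory.hom_ext
    · rw [lift_fst]
      change a.act ≫ fst X Y = (G ◁ fst X Y) ≫ (G ◁ jX) ≫ a.act ≫ fst X Y
      rw [← Category.assoc (G ◁ fst X Y), ← whiskerLeft_comp]
      exact R1
    · rw [lift_snd]
      change a.act ≫ snd X Y = (G ◁ snd X Y) ≫ (G ◁ jY) ≫ a.act ≫ snd X Y
      rw [← Category.assoc (G ◁ snd X Y), ← whiskerLeft_comp]
      exact R2
  · intro b' c' h
    constructor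
    · apply action_ext
      change b'.act = (G ◁ jX) ≫ a.act ≫ fst X Y
      rw [h, lift_fst, ← Category.assoc, ← whiskerLeft_comp, hjX, whiskerLeft_id, Category.id_comp]
    · apply action_ext
      change c'.act = (G ◁ jY) ≫ a.act ≫ snd X Y
      rw [h, lift_snd, ← Category.assoc, ← whiskerLeft_comp, hjY, whiskerLeft_id, Category.id_comp]

end Groth.Agent.Lib.Helper4.ProdAct
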