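import Groth.Agent.Lib.Helper4.CechPush
import Groth.Agent.Lib.Helper28.ProjSpaceBasic
import Groth.Agent.S0038
import Groth.Agent.S0019
import Groth.Agent.S2357

set_option autoImplicit false
universe u
open CategoryTheory CategoryTheory.Limits Opposite TopologicalSpace AlgebraicGeometry

namespace Groth.Agent.Lib.Helper4.ProjFinite

open Groth.Agent.Lib.Helper2.CechNat2 Groth.Agent.Lib.Helper17.AffineVanish

/-- the affine opens of a scheme with affine diagonal form a family with affine finite intersections -/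
theorem affineOpens_cover (P : Scheme.{u}) [IsAffineHom (pullback.diagonal (terminal.from P))] :
    (⨆ i : P.affineOpens, (i.1 : P.Opens)) = ⊤ ∧
      ∀ s : Finset P.affineOpens, s.Nonempty → IsAffineOpen (⨅ i ∈ s, (i.1 : P.Opens)) := by
  refine ⟨iSup_affineOpens_eq_top P, fun s hs => ?_⟩
  have := IsAffineOpen.biInf (X := P) (s : Set P.affineOpens) s.finite_toSet hs (U := fun i => i.1) (fun i _ => i.2)
  simpa only [Finset.mem_coe] using this

theorem preimage_iInf {Y X : Scheme.{u}} (g : Y ⟶ X) {α : Type*} [Finite α] (V : α → X.Opens) :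
    (⨅ a, g ⁻¹ᵁ V a) = g ⁻¹ᵁ (⨅ a, V a) := by
  ext y
  simp only [Opens.coe_iInf, Set.mem_iInter, SetLike.mem_coe]
  show (∀ a, g y ∈ V a) ↔ g y ∈ ((⨅ a, V a : X.Opens) : Set X)
  rw [Opens.coe_iInf]
  simp

/-- acyclicity of a quasi-coherent module on the preimages of a family of opens under an affine morphism -/
theorem acyc_preimage {Y X : Scheme.{u}} (g : Y ⟶ X) [IsAffineHom g] {ι : Type u} (U : ι → X.Opens)
    (hU : ∀ s : Finset ι, s.Nonempty → IsAffineOpen (⨅ i ∈ s, U i)) (M : Y.Modules) [M.IsQuasicoherent] :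
    Acyc' (X := Y.toTopCat) (fun i => g ⁻¹ᵁ U i) (Coh.toAb M) := by
  classical
  intro p a q
  refine subsingleton_HU_of_isAffineOpen M ?_ q
  have h1 := hU (Finset.univ.image a) (Finset.univ_nonempty.image a)
  have h2 : (⨅ i ∈ Finset.univ.image a, U i) = ⨅ k, U (a k) := by
    rw [Finset.iInf_finset_image]
    simp
  rw [h2] at h1
  have h3 : (⨅ k, g ⁻¹ᵁ U (a k)) = g ⁻¹ᵁ (⨅ k, U (a k)) := preimage_iInf g (fun k => U (a k))
  show IsAffineOpen (⨅ k, g ⁻¹ᵁ U (a k))
  rw [h3]
  exact h1.preimage g

variable (N : ℕ) (B : Type u) [CommRing B] [IsNoetherianRing B] {W : Scheme.{u}}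
  [W.Over (Spec (CommRingCat.of B))] (k : W ⟶ CohB1.ProjSpace N B) [IsClosedImmersion k]
  [k.IsOver (Spec (CommRingCat.of B))]

include N k in
/-- **finiteness of the cohomology of a coherent module on a closed subscheme of projective space** -/
theorem finite_HH (M : W.Modules) (hM : Coh.IsCoh M) (p : ℕ) : Module.Finite B (Coh.HH W M p) := by
  haveI : IsNoetherian (CohB1.ProjSpace N B) := Groth.Agent.S2357.result (CohB1.polyGrading N B)
  have hsep : IsProper (CohB1.ProjSpace.toSpec N B) := Groth.Agent.Lib.Helper28.ProjSpaceBasic.isProper_toSpec N B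
  haveI : IsSeparated (terminal.from (CohB1.ProjSpace N B)) := by
    rw [← terminal.comp_from (CohB1.ProjSpace.toSpec N B)]
    infer_instance
  obtain ⟨hcov, hU⟩ := affineOpens_cover (CohB1.ProjSpace N B)
  have hpush := Groth.Agent.S0019.result k M hM
  haveI : ((Scheme.Modules.pushforward k).obj M).IsQuasicoherent := hpush.1
  haveI : M.IsQuasicoherent := hM.1
  obtain ⟨e⟩ := CechPush.nonempty_linearEquiv_push k (fun i : (CohB1.ProjSpace N B).affineOpens => i.1) B hcov hU M
    (acyc_preimage k _ hU M) p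
  haveI := Groth.Agent.S0038.result N B _ hpush p
  exact Module.Finite.equiv e.symm

end Groth.Agent.Lib.Helper4.ProjFinite
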