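import Groth.Agent.Lib.Helper28.TwistIso
import Groth.Agent.Lib.Helper28.PullbackInv2
import Groth.Agent.Lib.Helper28.QCohPush

set_option autoImplicit false
universe u
open CategoryTheory CategoryTheory.Limits Opposite TopologicalSpace AlgebraicGeometry

noncomputable section

namespace Groth.Agent.Lib.Helper4.ProjFormula

open Groth.Agent.Lib.Helper28 Groth.Agent.Lib.Helper28.QCohLoc Groth.Agent.Lib.Helper28.GenLocus
  Groth.Agent.Lib.Helper28.PullbackInv Groth.Agent.Lib.Helper28.TensorGen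

variable {W P : Scheme.{u}} (k : W ⟶ P) (L : P.Modules) (d : ℕ)

/-- the local twisting maps exhibiting `k_* ((k^* L)^{⊗ d})` as the twist of `k_* O_W` by `L^{⊗ d}` -/
def Θ (V : P.Opens) (g : Γ(L, V)) (x : Γ((Scheme.Modules.pushforward k).obj (Coh.structureModule W), V)) :
    Γ((Scheme.Modules.pushforward k).obj (CohB1.tensorPow ((Scheme.Modules.pullback k).obj L) d), V) :=
  ((show Γ(W, k ⁻¹ᵁ V) from x) • gpow _ (pbs k L V g) d :
    Γ(CohB1.tensorPow ((Scheme.Modules.pullback k).obj L) d, k ⁻¹ᵁ V))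

theorem isTwist_push :
    IsTwist ((Scheme.Modules.pushforward k).obj (Coh.structureModule W)) L d
      ((Scheme.Modules.pushforward k).obj (CohB1.tensorPow ((Scheme.Modules.pullback k).obj L) d)) (Θ k L d) where
  bij V g hg := by
    have hγ := isGen_gpow (isGen_pbs (f := k) hg) d
    have := hγ (k ⁻¹ᵁ V) le_rfl
    simp only [res_self] at this
    exact this
  add V g x y := by
    show (((show Γ(W, k ⁻¹ᵁ V) from x) + (show Γ(W, k ⁻¹ᵁ V) from y) : Γ(W, k ⁻¹ᵁ V)) •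
      gpow _ (pbs k L V g) d : Γ(CohB1.tensorPow ((Scheme.Modules.pullback k).obj L) d, k ⁻¹ᵁ V)) =
      (((show Γ(W, k ⁻¹ᵁ V) from x) • gpow _ (pbs k L V g) d :
        Γ(CohB1.tensorPow ((Scheme.Modules.pullback k).obj L) d, k ⁻¹ᵁ V)) +
      ((show Γ(W, k ⁻¹ᵁ V) from y) • gpow _ (pbs k L V g) d :
        Γ(CohB1.tensorPow ((Scheme.Modules.pullback k).obj L) d, k ⁻¹ᵁ V)) :
        Γ(CohB1.tensorPow ((Scheme.Modules.pullback k).obj L) d, k ⁻¹ᵁ V))
    exact add_smul _ _ _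
  smul V g a x := by
    show (((k.app V a) * (show Γ(W, k ⁻¹ᵁ V) from x) : Γ(W, k ⁻¹ᵁ V)) • gpow _ (pbs k L V g) d :
      Γ(CohB1.tensorPow ((Scheme.Modules.pullback k).obj L) d, k ⁻¹ᵁ V)) = _
    rw [mul_smul]
    rfl
  res V V' h g x := by
    show res (CohB1.tensorPow ((Scheme.Modules.pullback k).obj L) d) (k.preimage_mono h)
      ((show Γ(W, k ⁻¹ᵁ V) from x) • gpow _ (pbs k L V g) d :
        Γ(CohB1.tensorPow ((Scheme.Modules.pullback k).obj L) d, k ⁻¹ᵁ V)) = _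
    rw [res_smul, gpow_res, ← pbs_res]
    rfl
  hom V c g x := by
    show ((show Γ(W, k ⁻¹ᵁ V) from x) • gpow _ (pbs k L V (c • g : Γ(L, V))) d :
        Γ(CohB1.tensorPow ((Scheme.Modules.pullback k).obj L) d, k ⁻¹ᵁ V)) =
      ((k.app V (c ^ d)) • ((show Γ(W, k ⁻¹ᵁ V) from x) • gpow _ (pbs k L V g) d :
        Γ(CohB1.tensorPow ((Scheme.Modules.pullback k).obj L) d, k ⁻¹ᵁ V)) :
        Γ(CohB1.tensorPow ((Scheme.Modules.pullback k).obj L) d, k ⁻¹ᵁ V))
    rw [pbs_smul, gpow_smul, map_pow, smul_comm]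

/-- **projection formula** for an invertible module: `k_* ((k^* L)^{⊗ d}) ≅ k_* O_W ⊗ L^{⊗ d}` -/
theorem nonempty_push_tensorPow_iso (hL : PicF.IsInvertible L) :
    Nonempty ((Scheme.Modules.pushforward k).obj (CohB1.tensorPow ((Scheme.Modules.pullback k).obj L) d) ≅
      CohB1.tensorMod ((Scheme.Modules.pushforward k).obj (Coh.structureModule W)) (CohB1.tensorPow L d)) := by
  have h1 := isTwist_push k L d
  have h2 := ((IsTwist.refl ((Scheme.Modules.pushforward k).obj (Coh.structureModule W)) L).tensorPow d).congr_deg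
    (zero_add d)
  obtain ⟨ψ, -⟩ := h1.exists_iso h2 hL
  exact ⟨ψ⟩

end Groth.Agent.Lib.Helper4.ProjFormula
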