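import Groth.Agent.Lib.Helper4.PushCoh

set_option autoImplicit false
universe u
open CategoryTheory CategoryTheory.Limits Opposite TopologicalSpace AlgebraicGeometry

noncomputable section

namespace Groth.Agent.Lib.Helper4.ProperFin

open Groth.Agent.Lib.Helper28 Groth.Agent.Lib.Helper28.QCohLoc Groth.Agent.Lib.Helper28.GenLocus
  Groth.Agent.Lib.Helper28.PullbackInv Groth.Agent.Lib.Helper4.Bridge Groth.Agent.Lib.Helper4.LocalEmb
  Groth.Agent.Lib.Helper4.PushCoh Groth.Agent.Lib.Helper2.CechNat2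

variable (A : Type u) [CommRing A] [IsNoetherianRing A] {X Z' : Scheme.{u}}
  [X.Over (Spec (CommRingCat.of A))] [IsProper (X ↘ Spec (CommRingCat.of A))]
  (g : Z' ⟶ X) [IsProper g]
  (N : ℕ) (j : Z' ⟶ CohB1.ProjSpaceOver N (Spec (CommRingCat.of A))) [Mono j]
  (hj : j ≫ CohB1.ProjSpaceOver.toBase N _ = g ≫ (X ↘ Spec (CommRingCat.of A)))

include hj in
/-- the cohomology of the twists on the source is finite over the base ring -/
theorem finite_HH_source (d p : ℕ) :
    letI : Z'.Over (Spec (CommRingCat.of A)) := ⟨g ≫ (X ↘ Spec (CommRingCat.of A))⟩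
    Module.Finite A (Coh.HH Z' (FF N j d) p) := by
  letI : Z'.Over (Spec (CommRingCat.of A)) := ⟨g ≫ (X ↘ Spec (CommRingCat.of A))⟩
  obtain ⟨i₀, hi₀, hi₀', -⟩ := exists_bridge N A
  have hp1 : IsProper (CohB1.ProjSpaceOver.toBase N (Spec (CommRingCat.of A))) :=
    ProjSpaceBasic.isProper_toBase N _
  have hp2 : IsProper (j ≫ CohB1.ProjSpaceOver.toBase N (Spec (CommRingCat.of A))) := by
    rw [hj]; infer_instance
  have hp : IsProper j := IsProper.of_comp j (CohB1.ProjSpaceOver.toBase N (Spec (CommRingCat.of A)))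
  haveI : IsClosedImmersion j := (IsClosedImmersion.iff_isProper_and_mono j).2 ⟨hp, inferInstance⟩
  haveI : (j ≫ i₀).IsOver (Spec (CommRingCat.of A)) := ⟨by
    show (j ≫ i₀) ≫ CohB1.ProjSpace.toSpec N A = g ≫ (X ↘ Spec (CommRingCat.of A))
    rw [Category.assoc, hi₀', hj]⟩
  exact ProjFinite.finite_HH N A (j ≫ i₀) (FF N j d)
    (Groth.Agent.Lib.Helper6.K0Op.isCoh_of_isInvertible _ (isInvertible_FF N j d)) p

omit [IsNoetherianRing A] [IsProper (X ↘ Spec (CommRingCat.of A))] in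
/-- a finite affine cover of a quasi-compact scheme with affine diagonal; its finite intersections are affine -/
theorem exists_finite_cover (Y : Scheme.{u}) [CompactSpace Y] [IsAffineHom (pullback.diagonal (terminal.from Y))] :
    ∃ t : Finset Y.affineOpens, (⨆ i : ↥t, (i.1.1 : Y.Opens)) = ⊤ ∧
      ∀ s : Finset ↥t, s.Nonempty → IsAffineOpen (⨅ i ∈ s, (i.1.1 : Y.Opens)) := by
  classical
  obtain ⟨t, ht⟩ := isCompact_univ.elim_finite_subcover (fun i : Y.affineOpens => ((i.1 : Y.Opens) : Set Y))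
    (fun i => i.1.2) (by
      intro y _
      have : y ∈ (⨆ i : Y.affineOpens, (i.1 : Y.Opens)) := by rw [iSup_affineOpens_eq_top]; trivial
      obtain ⟨i, hi⟩ := Opens.mem_iSup.1 this
      exact Set.mem_iUnion.2 ⟨i, hi⟩)
  refine ⟨t, ?_, fun s hs => ?_⟩
  · ext y
    simp only [Opens.coe_iSup, Set.mem_iUnion, SetLike.mem_coe, Opens.coe_top, Set.mem_univ, iff_true]
    have := ht (Set.mem_univ y)
    simp only [Set.mem_iUnion] at this
    obtain ⟨i, hi, hy⟩ := this
    exact ⟨⟨i, hi⟩, hy⟩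
  · have := IsAffineOpen.biInf (X := Y) (s : Set ↥t) s.finite_toSet hs (U := fun i => i.1.1) (fun i _ => i.1.2)
    simpa only [Finset.mem_coe] using this

include hj in
/-- **finiteness of the cohomology of the direct images of high twists** -/
theorem exists_finite_HH_push :
    ∃ d₀ : ℕ, ∀ d : ℕ, d₀ ≤ d → ∀ p : ℕ,
      Module.Finite A (Coh.HH X ((Scheme.Modules.pushforward g).obj (FF N j d)) p) := by
  classical
  haveI : IsLocallyNoetherian X := LocallyOfFiniteType.isLocallyNoetherian (X ↘ Spec (CommRingCat.of A))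
  haveI : CompactSpace X := QuasiCompact.compactSpace_of_compactSpace (X ↘ Spec (CommRingCat.of A))
  haveI : IsSeparated (terminal.from X) := by
    rw [← terminal.comp_from (X ↘ Spec (CommRingCat.of A))]
    infer_instance
  obtain ⟨t, hcov, hU⟩ := exists_finite_cover X
  -- the bounds
  have hex : ∀ s : Finset ↥t, ∃ d₀ : ℕ, s.Nonempty → ∀ d : ℕ, d₀ ≤ d → ∀ q : ℕ,
      Subsingleton (CohTop.HU (X := Z'.toTopCat) (Coh.toAb (FF N j d)) (q + 1)
        (g ⁻¹ᵁ (⨅ i ∈ s, (i.1.1 : X.Opens)))) := by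
    intro s
    by_cases hs : s.Nonempty
    · obtain ⟨d₀, h⟩ := exists_vanish (X ↘ Spec (CommRingCat.of A)) g N j hj _ (hU s hs)
      exact ⟨d₀, fun _ => h⟩
    · exact ⟨0, fun h => absurd h hs⟩
  choose f hf using hex
  refine ⟨Finset.univ.sup f, fun d hd p => ?_⟩
  letI : Z'.Over (Spec (CommRingCat.of A)) := ⟨g ≫ (X ↘ Spec (CommRingCat.of A))⟩
  haveI : g.IsOver (Spec (CommRingCat.of A)) := ⟨rfl⟩
  haveI := (isCoh_push (X ↘ Spec (CommRingCat.of A)) g N j hj d).1
  have hF : Acyc' (X := Z'.toTopCat) (fun i : ↥t => g ⁻¹ᵁ (i.1.1 : X.Opens)) (Coh.toAb (FF N j d)) := by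
    intro p a q
    have hne : (Finset.univ.image a).Nonempty := Finset.univ_nonempty.image a
    have h1 := hf (Finset.univ.image a) hne d ((Finset.le_sup (Finset.mem_univ _)).trans hd) q
    have h2 : (⨅ i ∈ Finset.univ.image a, (i.1.1 : X.Opens)) = ⨅ k, ((a k).1.1 : X.Opens) := by
      rw [Finset.iInf_finset_image]
      simp
    have h3 : (⨅ k, g ⁻¹ᵁ ((a k).1.1 : X.Opens)) = g ⁻¹ᵁ (⨅ k, ((a k).1.1 : X.Opens)) :=
      ProjFinite.preimage_iInf g (fun k => ((a k).1.1 : X.Opens))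
    rw [h2, ← h3] at h1
    exact h1
  obtain ⟨e⟩ := CechPush.nonempty_linearEquiv_push g (fun i : ↥t => (i.1.1 : X.Opens)) A hcov hU (FF N j d) hF p
  haveI := finite_HH_source A g N j hj d p
  exact Module.Finite.equiv e

end Groth.Agent.Lib.Helper4.ProperFin
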