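import Mathlib

namespace Groth.Agent.Lib.Helper4.PtsExt
open AlgebraicGeometry CategoryTheory Limits

universe u

variable (k Ω : Type u) [Field k] [Field Ω] [Algebra k Ω] [IsAlgClosed Ω]

/-- The `k`-scheme `Spec Ω`. -/
noncomputable abbrev SpΩ : Over (Spec (CommRingCat.of k)) :=
  Over.mk (Spec.map (CommRingCat.ofHom (algebraMap k Ω)))

variable {k Ω}

/-- every closed point of a l.f.t. `k`-scheme is the image of an `Ω`-point -/
theorem exists_point_of_isClosed (Y : Over (Spec (CommRingCat.of k))) [LocallyOfFiniteType Y.hom]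
    (y : Y.left) (hy : IsClosed ({y} : Set Y.left)) :
    ∃ p : SpΩ k Ω ⟶ Y, y ∈ Set.range p.left := by
  have hci : IsClosedImmersion (Y.left.fromSpecResidueField y) :=
    isClosed_singleton_iff_isClosedImmersion.mp hy
  have hlft : LocallyOfFiniteType (Y.left.fromSpecResidueField y ≫ Y.hom) := inferInstance
  obtain ⟨ψ, hψ⟩ := Spec.map_surjective (Y.left.fromSpecResidueField y ≫ Y.hom)
  rw [← hψ] at hlft
  have hft : ψ.hom.FiniteType := (HasRingHomProperty.Spec_iff (P := @LocallyOfFiniteType)).mp hlft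
  have hfin : ψ.hom.Finite := RingHom.finite_iff_finiteType_of_isJacobsonRing.mpr hft
  letI : Algebra k (Y.left.residueField y) := ψ.hom.toAlgebra
  haveI : Module.Finite k (Y.left.residueField y) := hfin
  haveI : Algebra.IsAlgebraic k (Y.left.residueField y) := Algebra.IsAlgebraic.of_finite _ _
  let σ : Y.left.residueField y →ₐ[k] Ω := IsAlgClosed.lift
  have hσ : ψ ≫ CommRingCat.ofHom σ.toRingHom = CommRingCat.ofHom (algebraMap k Ω) := by
    ext r
    exact σ.commutes r
  refine ⟨Over.homMk (Spec.map (CommRingCat.ofHom σ.toRingHom) ≫ Y.left.fromSpecResidueField y) ?_,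
    ?_⟩
  · rw [Category.assoc, ← hψ, ← Spec.map_comp]
    exact congrArg Spec.map hσ
  · exact ⟨IsLocalRing.closedPoint Ω, Scheme.fromSpecResidueField_apply y
      (Spec.map (CommRingCat.ofHom σ.toRingHom) (IsLocalRing.closedPoint Ω))⟩

theorem eq_of_eq_on_points (Y Z : Over (Spec (CommRingCat.of k))) [LocallyOfFiniteType Y.hom]
    [IsReduced Y.left] [IsSeparated Z.hom] (a b : Y ⟶ Z)
    (h : ∀ p : SpΩ k Ω ⟶ Y, p ≫ a = p ≫ b) : a = b := by
  ext1
  let ι : (∐ fun _ : (SpΩ k Ω ⟶ Y) => Spec (CommRingCat.of Ω)) ⟶ Y.left :=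
    Sigma.desc fun p => p.left
  have hι : ι ≫ a.left = ι ≫ b.left := by
    apply Sigma.hom_ext
    intro p
    simp only [ι, colimit.ι_desc_assoc, Cofan.mk_ι_app]
    exact congrArg CommaMorphism.left (h p)
  haveI : JacobsonSpace Y.left := LocallyOfFiniteType.jacobsonSpace Y.hom
  haveI : IsDominant ι := by
    refine ⟨?_⟩
    rw [DenseRange, dense_iff_closure_eq, ← Set.univ_subset_iff, ← closure_closedPoints]
    apply closure_mono
    intro y hy
    obtain ⟨p, q, hq⟩ := exists_point_of_isClosed (Ω := Ω) Y y hy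
    refine ⟨(Sigma.ι (fun _ : (SpΩ k Ω ⟶ Y) => Spec (CommRingCat.of Ω)) p) q, ?_⟩
    rw [← Scheme.Hom.comp_apply]
    simp only [ι, colimit.ι_desc, Cofan.mk_ι_app]
    exact hq
  exact ext_of_isDominant_of_isSeparated Z.hom (by rw [Over.w, Over.w]) ι hι

end Groth.Agent.Lib.Helper4.PtsExt
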