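import Groth.Agent.Lib.Helper4.LocalEmb
import Groth.Agent.Lib.Helper4.ProjFinite
import Groth.Agent.Lib.Helper6.CohTopRestr
import Groth.Agent.Lib.Helper6.K0Op
import Groth.Agent.Lib.Helper28.RestrictGen
import Groth.Agent.Lib.Helper28.FinTypeConv

set_option autoImplicit false
universe u
open CategoryTheory CategoryTheory.Limits Opposite TopologicalSpace AlgebraicGeometry

noncomputable section

namespace Groth.Agent.Lib.Helper4.PushCoh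

open Groth.Agent.Lib.Helper28 Groth.Agent.Lib.Helper28.QCohLoc Groth.Agent.Lib.Helper28.GenLocus
  Groth.Agent.Lib.Helper28.PullbackInv Groth.Agent.Lib.Helper4.Bridge Groth.Agent.Lib.Helper4.LocalEmb

section Zero

variable (B : Type u) [CommRing B] {Y : Scheme.{u}} [Y.Over (Spec (CommRingCat.of B))] (M : Y.Modules)

/-- `H⁰ = Γ`, compatibly with the action of the base ring -/
theorem exists_equiv_zero :
    ∃ e : Coh.HH Y M 0 ≃+ Γ(M, ⊤), ∀ (b : B) (x : Coh.HH Y M 0),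
      e (b • x) = ((show Γ(Y, ⊤) from Coh.toGlobal (Y ↘ Spec (CommRingCat.of B)) b) • e x : Γ(M, ⊤)) := by
  refine ⟨Sheaf.H.equiv₀ (Coh.toAb M) (isTerminalTop (α := Opens Y)), fun b x => ?_⟩
  rw [CechPush.smul_def]
  refine (Sheaf.H.equiv₀_naturality (isTerminalTop (α := Opens Y))
    (Coh.smulAb M (Coh.toGlobal (Y ↘ Spec (CommRingCat.of B)) b)) x).symm.trans ?_
  refine (Coh.smulAb_app M _ (op ⊤) _).trans ?_
  have h1 : Coh.resTop Y (op ⊤) (Coh.toGlobal (Y ↘ Spec (CommRingCat.of B)) b) =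
      Coh.toGlobal (Y ↘ Spec (CommRingCat.of B)) b := by
    unfold Coh.resTop
    have : (homOfLE (le_top (a := (op (⊤ : Opens Y)).unop))).op = 𝟙 (op (⊤ : Opens Y)) := rfl
    rw [this, CategoryTheory.Functor.map_id]
    rfl
  rw [h1]
  rfl

end Zero

section Local

variable {A : Type u} [CommRing A] {X Z' : Scheme.{u}} [IsLocallyNoetherian X]
  (fX : X ⟶ Spec (CommRingCat.of A)) (g : Z' ⟶ X) [IsProper g]
  (N : ℕ) (j : Z' ⟶ CohB1.ProjSpaceOver N (Spec (CommRingCat.of A))) [Mono j]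
  (hj : j ≫ CohB1.ProjSpaceOver.toBase N _ = g ≫ fX)

/-- the twists `L^{⊗ d}` -/
abbrev FF (d : ℕ) : Z'.Modules := CohB1.tensorPow (LL N j) d

theorem isInvertible_FF (d : ℕ) : PicF.IsInvertible (FF N j d) :=
  isInvertible_tensorPow (isInvertible_LL N j) d

include hj in
/-- local data: over an affine open `U`, a projective embedding of `g⁻¹ U` under which the twists are the standard ones -/
theorem exists_local_data (U : X.Opens) (hU : IsAffineOpen U) :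
    ∃ (k : ↑(g ⁻¹ᵁ U) ⟶ CohB1.ProjSpace N Γ(X, U)), IsClosedImmersion k ∧
      k ≫ CohB1.ProjSpace.toSpec N Γ(X, U) = β g U hU ∧
      ∀ d : ℕ, Nonempty (CohB1.tensorPow ((Scheme.Modules.pullback k).obj (Twist.twistProjSpace N Γ(X, U) 1)) d ≅
        (FF N j d).restrict (g ⁻¹ᵁ U).ι) := by
  obtain ⟨k, hk, hkβ, ⟨τ⟩⟩ := exists_local_embedding fX g N j hj U hU
  refine ⟨k, hk, hkβ, fun d => ?_⟩
  have hLr : PicF.IsInvertible ((LL N j).restrict (g ⁻¹ᵁ U).ι) :=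
    AmpleIso.isInvertible_of_iso τ (isInvertible_pullback k (ProjVanish.isInvertible_twistProjSpace N Γ(X, U) 1))
  obtain ⟨e1⟩ := exists_restrict_tensorPow_iso (LL N j) (g ⁻¹ᵁ U) hLr d
  exact ⟨AmpleIso.tensorPowIso τ d ≪≫ e1.symm⟩

include hj in
/-- **relative Serre vanishing**, over an affine open of the target -/
theorem exists_vanish (U : X.Opens) (hU : IsAffineOpen U) :
    ∃ d₀ : ℕ, ∀ d : ℕ, d₀ ≤ d → ∀ q : ℕ,
      Subsingleton (CohTop.HU (X := Z'.toTopCat) (Coh.toAb (FF N j d)) (q + 1) (g ⁻¹ᵁ U)) := by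
  haveI : IsNoetherianRing Γ(X, U) := IsLocallyNoetherian.component_noetherian ⟨U, hU⟩
  obtain ⟨k, hk, hkβ, he⟩ := exists_local_data fX g N j hj U hU
  obtain ⟨d₀, h⟩ := ProjVanish.exists_vanishing k
  refine ⟨d₀, fun d hd q => ?_⟩
  have h1 := h d hd (q + 1) (Nat.succ_pos q)
  obtain ⟨e⟩ := he d
  letI : (↑(g ⁻¹ᵁ U) : Scheme.{u}).Over (Spec (CommRingCat.of Γ(X, U))) := ⟨β g U hU⟩
  have h2 : Subsingleton (Coh.HH ↑(g ⁻¹ᵁ U) ((FF N j d).restrict (g ⁻¹ᵁ U).ι) (q + 1)) :=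
    Groth.Agent.Lib.Helper2.DualE2.subsingleton_HH_of_iso Γ(X, U) e (q + 1) h1
  obtain ⟨φ⟩ := Groth.Agent.Lib.Helper6.CohTopRestr.nonempty_HU_addEquiv (X := Z'.toTopCat) (g ⁻¹ᵁ U)
    (Coh.toAb (FF N j d)) (q + 1)
  exact @Equiv.subsingleton _ _ φ.toEquiv h2

theorem appLE_of_eq {P Q : Scheme.{u}} {f f' : P ⟶ Q} (h : f = f') (U : Q.Opens) (V : P.Opens) (e : V ≤ f ⁻¹ᵁ U) :
    f.appLE U V e = f'.appLE U V (h ▸ e) := by
  subst h; rfl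

omit [IsLocallyNoetherian X] [IsProper g] in
theorem key_ring_hom (U : X.Opens) (hU : IsAffineOpen U) :
    (Scheme.ΓSpecIso Γ(X, U)).inv ≫ (β g U hU).appTop ≫ ((g ⁻¹ᵁ U).ι.appIso ⊤).inv =
      g.app U ≫ Z'.presheaf.map (homOfLE (le_of_eq (g ⁻¹ᵁ U).ι_image_top)).op := by
  have e1 : (g ⁻¹ᵁ U).ι ≫ g = β g U hU ≫ hU.fromSpec := by
    unfold β
    rw [Category.assoc, IsAffineOpen.isoSpec_hom_fromSpec, morphismRestrict_ι]
  have e0 : (⊤ : (↑(g ⁻¹ᵁ U) : Scheme.{u}).Opens) ≤ ((g ⁻¹ᵁ U).ι ≫ g) ⁻¹ᵁ U := by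
    intro x _
    exact x.2
  have e0' : (⊤ : (↑(g ⁻¹ᵁ U) : Scheme.{u}).Opens) ≤ (g ⁻¹ᵁ U).ι ⁻¹ᵁ (g ⁻¹ᵁ U) := e0
  have e2 : (⊤ : (↑(g ⁻¹ᵁ U) : Scheme.{u}).Opens) ≤ (β g U hU ≫ hU.fromSpec) ⁻¹ᵁ U := e1 ▸ e0
  have e2' : (⊤ : (↑(g ⁻¹ᵁ U) : Scheme.{u}).Opens) ≤ (β g U hU) ⁻¹ᵁ (hU.fromSpec ⁻¹ᵁ U) := e2
  have ha : ((g ⁻¹ᵁ U).ι ≫ g).appLE U ⊤ e0 = g.app U ≫ (g ⁻¹ᵁ U).ι.appLE (g ⁻¹ᵁ U) ⊤ e0' :=
    Scheme.Hom.comp_appLE _ _ _ _ _
  have hb : (β g U hU ≫ hU.fromSpec).appLE U ⊤ e2 =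
      hU.fromSpec.app U ≫ (β g U hU).appLE (hU.fromSpec ⁻¹ᵁ U) ⊤ e2' :=
    Scheme.Hom.comp_appLE _ _ _ _ _
  have hc : ((g ⁻¹ᵁ U).ι ≫ g).appLE U ⊤ e0 = (β g U hU ≫ hU.fromSpec).appLE U ⊤ e2 := appLE_of_eq e1 U ⊤ e0
  have hd : hU.fromSpec.app U ≫ (β g U hU).appLE (hU.fromSpec ⁻¹ᵁ U) ⊤ e2' =
      (Scheme.ΓSpecIso Γ(X, U)).inv ≫ (β g U hU).appTop := by
    rw [hU.fromSpec_app_self, Category.assoc, Scheme.Hom.map_appLE]
    congr 1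
    rw [Scheme.Hom.appLE]
    refine Eq.trans ?_ (Category.comp_id _)
    congr 1
    exact (↑(g ⁻¹ᵁ U) : Scheme.{u}).presheaf.map_id _
  have he : (g ⁻¹ᵁ U).ι.appLE (g ⁻¹ᵁ U) ⊤ e0' ≫ ((g ⁻¹ᵁ U).ι.appIso ⊤).inv =
      Z'.presheaf.map (homOfLE (le_of_eq (g ⁻¹ᵁ U).ι_image_top)).op :=
    Scheme.Hom.appLE_appIso_inv _ _
  calc (Scheme.ΓSpecIso Γ(X, U)).inv ≫ (β g U hU).appTop ≫ ((g ⁻¹ᵁ U).ι.appIso ⊤).inv
      = ((Scheme.ΓSpecIso Γ(X, U)).inv ≫ (β g U hU).appTop) ≫ ((g ⁻¹ᵁ U).ι.appIso ⊤).inv := by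
        rw [Category.assoc]
    _ = (g.app U ≫ (g ⁻¹ᵁ U).ι.appLE (g ⁻¹ᵁ U) ⊤ e0') ≫ ((g ⁻¹ᵁ U).ι.appIso ⊤).inv := by
        rw [← hd, ← hb, ← hc, ha]
    _ = g.app U ≫ Z'.presheaf.map (homOfLE (le_of_eq (g ⁻¹ᵁ U).ι_image_top)).op := by
        rw [Category.assoc, he]

include hj in
/-- the sections of the direct image of a twist over an affine open are finitely generated -/
theorem finite_sections (U : X.Opens) (hU : IsAffineOpen U) (d : ℕ) :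
    Module.Finite Γ(X, U) Γ((Scheme.Modules.pushforward g).obj (FF N j d), U) := by
  haveI : IsNoetherianRing Γ(X, U) := IsLocallyNoetherian.component_noetherian ⟨U, hU⟩
  obtain ⟨k, hk, hkβ, he⟩ := exists_local_data fX g N j hj U hU
  obtain ⟨e⟩ := he d
  letI : (↑(g ⁻¹ᵁ U) : Scheme.{u}).Over (Spec (CommRingCat.of Γ(X, U))) := ⟨β g U hU⟩
  haveI : k.IsOver (Spec (CommRingCat.of Γ(X, U))) := ⟨hkβ⟩
  have hM : Coh.IsCoh ((FF N j d).restrict (g ⁻¹ᵁ U).ι) :=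
    Groth.Agent.Lib.Helper6.DevCore.isCoh_of_iso e
      (Groth.Agent.Lib.Helper6.K0Op.isCoh_of_isInvertible _ (isInvertible_tensorPow
        (isInvertible_pullback k (ProjVanish.isInvertible_twistProjSpace N Γ(X, U) 1)) d))
  haveI := ProjFinite.finite_HH N Γ(X, U) k _ hM 0
  obtain ⟨e0, he0⟩ := exists_equiv_zero Γ(X, U) ((FF N j d).restrict (g ⁻¹ᵁ U).ι)
  let r : Γ((FF N j d).restrict (g ⁻¹ᵁ U).ι, ⊤) → Γ((Scheme.Modules.pushforward g).obj (FF N j d), U) := fun m =>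
    res (FF N j d) (le_of_eq (g ⁻¹ᵁ U).ι_image_top.symm) (show Γ(FF N j d, (g ⁻¹ᵁ U).ι ''ᵁ ⊤) from m)
  have hr_add : ∀ m m', r (m + m') = r m + r m' := fun m m' => map_add _ _ _
  have hr_smul : ∀ (b : Γ(X, U)) (m : Γ((FF N j d).restrict (g ⁻¹ᵁ U).ι, ⊤)),
      r ((show Γ(↑(g ⁻¹ᵁ U), ⊤) from Coh.toGlobal (β g U hU) b) • m) = b • r m := by
    intro b m
    show res (FF N j d) (le_of_eq (g ⁻¹ᵁ U).ι_image_top.symm)
      ((((g ⁻¹ᵁ U).ι.appIso ⊤).inv (show Γ(↑(g ⁻¹ᵁ U), ⊤) from Coh.toGlobal (β g U hU) b)) •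
        (show Γ(FF N j d, (g ⁻¹ᵁ U).ι ''ᵁ ⊤) from m) : Γ(FF N j d, (g ⁻¹ᵁ U).ι ''ᵁ ⊤)) = _
    rw [res_smul]
    have hk := congrArg (fun φ => φ.hom b) (key_ring_hom g U hU)
    have hk2 : resO (le_of_eq (g ⁻¹ᵁ U).ι_image_top.symm)
        (((g ⁻¹ᵁ U).ι.appIso ⊤).inv (show Γ(↑(g ⁻¹ᵁ U), ⊤) from Coh.toGlobal (β g U hU) b)) = g.app U b := by
      have h3 : ((g ⁻¹ᵁ U).ι.appIso ⊤).inv (show Γ(↑(g ⁻¹ᵁ U), ⊤) from Coh.toGlobal (β g U hU) b) =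
          Z'.presheaf.map (homOfLE (le_of_eq (g ⁻¹ᵁ U).ι_image_top)).op (g.app U b) := hk
      rw [h3]
      show (Z'.presheaf.map (homOfLE (le_of_eq (g ⁻¹ᵁ U).ι_image_top)).op ≫
        Z'.presheaf.map (homOfLE (le_of_eq (g ⁻¹ᵁ U).ι_image_top.symm)).op) (g.app U b) = _
      rw [← Functor.map_comp]
      have : (homOfLE (le_of_eq (g ⁻¹ᵁ U).ι_image_top)).op ≫
          (homOfLE (le_of_eq (g ⁻¹ᵁ U).ι_image_top.symm)).op = 𝟙 _ := Subsingleton.elim _ _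
      rw [this, CategoryTheory.Functor.map_id]
      rfl
    rw [hk2]
    rfl
  let φ : Coh.HH ↑(g ⁻¹ᵁ U) ((FF N j d).restrict (g ⁻¹ᵁ U).ι) 0 →ₗ[Γ(X, U)]
      Γ((Scheme.Modules.pushforward g).obj (FF N j d), U) :=
    { toFun := fun x => r (e0 x)
      map_add' := fun x y => by rw [map_add, hr_add]
      map_smul' := fun b x => (congrArg r (he0 b x)).trans (hr_smul b (e0 x)) }
  refine Module.Finite.of_surjective φ ?_
  intro y
  have hle : (g ⁻¹ᵁ U).ι ''ᵁ ⊤ ≤ g ⁻¹ᵁ U := le_of_eq (g ⁻¹ᵁ U).ι_image_top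
  refine ⟨e0.symm (show Γ((FF N j d).restrict (g ⁻¹ᵁ U).ι, ⊤) from
    res (FF N j d) hle (show Γ(FF N j d, g ⁻¹ᵁ U) from y)), ?_⟩
  show r (e0 (e0.symm _)) = y
  rw [AddEquiv.apply_symm_apply]
  show res (FF N j d) _ (res (FF N j d) hle (show Γ(FF N j d, g ⁻¹ᵁ U) from y)) = y
  rw [res_res]
  exact res_self _ _

include hj in
/-- **the direct image of a twist along the proper morphism `g` is coherent** -/
theorem isCoh_push (d : ℕ) : Coh.IsCoh ((Scheme.Modules.pushforward g).obj (FF N j d)) := by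
  haveI : (FF N j d).IsQuasicoherent := InvQC.isQuasicoherent_of_isInvertible _ (isInvertible_FF N j d)
  haveI : ((Scheme.Modules.pushforward g).obj (FF N j d)).IsQuasicoherent :=
    isQuasicoherent_pushforward g (FF N j d)
  refine ⟨inferInstance, ?_⟩
  exact FinType.isFiniteType_of_finite_cover _ (fun i : X.affineOpens => (i.1 : X.Opens))
    (iSup_affineOpens_eq_top X) (fun i => i.2) (fun i => finite_sections fX g N j hj i.1 i.2 d)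

end Local

end Groth.Agent.Lib.Helper4.PushCoh
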