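import Groth.Agent.Lib.Helper4.ProperFin
import Groth.Agent.Lib.Helper6.DevFin

set_option autoImplicit false
universe u
open CategoryTheory CategoryTheory.Limits Opposite TopologicalSpace AlgebraicGeometry

noncomputable section

namespace Groth.Agent.Lib.Helper4.PushGeneric

open Groth.Agent.Lib.Helper28 Groth.Agent.Lib.Helper28.QCohLoc Groth.Agent.Lib.Helper28.GenLocus
  Groth.Agent.Lib.Helper17.StalkExact Groth.Agent.Lib.Helper6.DevSub

/-- a cyclic module over a local ring killed by the maximal ideal and nonzero is the residue field -/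
theorem nonempty_equiv_residueField (R M : Type*) [CommRing R] [IsLocalRing R] [AddCommGroup M] [Module R M]
    (gen : M) (h0 : gen ≠ 0) (hm : ∀ a ∈ IsLocalRing.maximalIdeal R, a • gen = 0)
    (hc : ∀ t : M, ∃ c : R, t = c • gen) :
    Nonempty (M ≃ₗ[R] IsLocalRing.ResidueField R) := by
  let f : R →ₗ[R] M := LinearMap.toSpanSingleton R M gen
  have hf : Function.Surjective f := by
    intro t
    obtain ⟨c, rfl⟩ := hc t
    exact ⟨c, by simp [f]⟩
  have hker : LinearMap.ker f = IsLocalRing.maximalIdeal R := by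
    have hle : (IsLocalRing.maximalIdeal R : Submodule R R) ≤ LinearMap.ker f := by
      intro a ha
      rw [LinearMap.mem_ker]
      simpa [f] using hm a ha
    have hne : (LinearMap.ker f : Ideal R) ≠ ⊤ := by
      intro htop
      have : (1 : R) ∈ LinearMap.ker f := by rw [htop]; trivial
      rw [LinearMap.mem_ker] at this
      apply h0
      simpa [f] using this
    exact ((IsLocalRing.maximalIdeal.isMaximal R).eq_of_le hne hle).symm
  exact ⟨(f.quotKerEquivOfSurjective hf).symm ≪≫ₗ Submodule.quotEquivOfEq _ _ hker⟩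

/-- if the restriction of `π` over `U₀` is an isomorphism, `π` induces isomorphisms on sections over opens in `U₀` -/
theorem app_bijective_of_isIso_restrict {Z Z' : Scheme.{u}} (π : Z' ⟶ Z) (U₀ : Z.Opens) [IsIso (π ∣_ U₀)]
    (W : Z.Opens) (hW : W ≤ U₀) : Function.Bijective (π.app W).hom := by
  have himg : U₀.ι ''ᵁ (U₀.ι ⁻¹ᵁ W) = W := by
    rw [Scheme.Hom.image_preimage_eq_opensRange_inf, Scheme.Opens.opensRange_ι]
    exact inf_eq_right.2 hW
  suffices h : ∀ W' : Z.Opens, W' = U₀.ι ''ᵁ (U₀.ι ⁻¹ᵁ W) → Function.Bijective (π.app W').hom from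
    h W himg.symm
  intro W' hW'
  subst hW'
  have h1 := morphismRestrict_app π U₀ (U₀.ι ⁻¹ᵁ W)
  have h2 : IsIso ((π ∣_ U₀).app (U₀.ι ⁻¹ᵁ W)) := inferInstance
  rw [h1] at h2
  have h3 : IsIso (π.app (U₀.ι ''ᵁ (U₀.ι ⁻¹ᵁ W))) := @IsIso.of_isIso_comp_right _ _ _ _ _ _
    (Z'.presheaf.map (eqToHom (image_morphismRestrict_preimage π U₀ (U₀.ι ⁻¹ᵁ W))).op) inferInstance h2
  exact ConcreteCategory.bijective_of_isIso (π.app (U₀.ι ''ᵁ (U₀.ι ⁻¹ᵁ W)))

section Main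

variable {X Z Z' : Scheme.{u}} (i : Z ⟶ X) [IsClosedImmersion i] [IsIntegral Z]
  (π : Z' ⟶ Z) [IsProper π] [Surjective π] (U₀ : Z.Opens) (hU₀ : Dense (U₀ : Set Z)) [IsIso (π ∣_ U₀)]

include hU₀ in
theorem genericPoint_mem : genericPoint Z ∈ U₀ := by
  apply ((genericPoint_spec Z).mem_open_set_iff U₀.2).2
  obtain ⟨z, hz⟩ := hU₀.nonempty
  exact ⟨z, trivial, hz⟩

include hU₀ in
/-- the generic point of `Z` has a unique preimage -/
theorem exists_unique_preimage :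
    ∃ ξ' : Z', π ξ' = genericPoint Z ∧ ∀ t : Z', π t = genericPoint Z → t = ξ' := by
  obtain ⟨ξ', hξ'⟩ := π.surjective (genericPoint Z)
  refine ⟨ξ', hξ', fun t ht => ?_⟩
  have hξ := genericPoint_mem U₀ hU₀
  have h1 : t ∈ π ⁻¹ᵁ U₀ := by change π t ∈ U₀; rw [ht]; exact hξ
  have h2 : ξ' ∈ π ⁻¹ᵁ U₀ := by change π ξ' ∈ U₀; rw [hξ']; exact hξ
  have hinj : Function.Injective (π ∣_ U₀) := (π ∣_ U₀).isOpenEmbedding.injective
  have h3 : (π ∣_ U₀) ⟨t, h1⟩ = (π ∣_ U₀) ⟨ξ', h2⟩ := by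
    apply Subtype.ext
    exact (morphismRestrict_base_coe π U₀ ⟨t, h1⟩).trans
      ((ht.trans hξ'.symm).trans (morphismRestrict_base_coe π U₀ ⟨ξ', h2⟩).symm)
  exact congrArg Subtype.val (hinj h3)

include hU₀ in
/-- a neighbourhood of the image of the generic point over which everything is controlled -/
theorem exists_nhd (ξ' : Z') (hξ' : π ξ' = genericPoint Z) (huniq : ∀ t : Z', π t = genericPoint Z → t = ξ')
    (W₀ : Z'.Opens) (hW₀ : ξ' ∈ W₀) :
    ∃ V₂ : X.Opens, i (genericPoint Z) ∈ V₂ ∧ (π ≫ i) ⁻¹ᵁ V₂ ≤ W₀ ⊓ π ⁻¹ᵁ U₀ := by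
  have hξ := genericPoint_mem U₀ hU₀
  have hcl : IsClosedMap (π ≫ i) := (π ≫ i).isClosedMap
  let T : Set Z' := ((W₀ ⊓ π ⁻¹ᵁ U₀ : Z'.Opens) : Set Z')ᶜ
  have hT : IsClosed T := (W₀ ⊓ π ⁻¹ᵁ U₀).2.isClosed_compl
  refine ⟨⟨((π ≫ i) '' T)ᶜ, (hcl T hT).isOpen_compl⟩, ?_, ?_⟩
  · rintro ⟨t, htT, ht⟩
    have h1 : i (π t) = i (genericPoint Z) := ht
    have h2 : π t = genericPoint Z := i.isClosedEmbedding.injective h1
    have h3 : t = ξ' := huniq t h2
    apply htT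
    subst h3
    exact ⟨hW₀, by change π t ∈ U₀; rw [h2]; exact hξ⟩
  · intro t ht
    by_contra hnt
    exact ht ⟨t, hnt, rfl⟩

end Main

section Stalk

variable {X Z Z' : Scheme.{u}} (i : Z ⟶ X) [IsClosedImmersion i] [IsIntegral Z]
  (π : Z' ⟶ Z) [Surjective π] (U₀ : Z.Opens) [IsIso (π ∣_ U₀)]
  (L : Z'.Modules) (V₂ : X.Opens) (W₀ : Z'.Opens) (γ : Γ(L, W₀)) (hγ : IsGen L W₀ γ)
  (h₂ : (π ≫ i) ⁻¹ᵁ V₂ ≤ W₀ ⊓ π ⁻¹ᵁ U₀)

include h₂ in
theorem preimage_le {V : X.Opens} (hV : V ≤ V₂) : (π ≫ i) ⁻¹ᵁ V ≤ W₀ :=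
  fun _ ht => (h₂ (hV ht)).1

include h₂ in
theorem preimage_le' {V : X.Opens} (hV : V ≤ V₂) : i ⁻¹ᵁ V ≤ U₀ := by
  intro z hz
  obtain ⟨t, rfl⟩ := π.surjective z
  exact (h₂ (show t ∈ (π ≫ i) ⁻¹ᵁ V₂ from hV hz)).2

include h₂ in
/-- functions on the preimage of a small affine open come from functions downstairs -/
theorem app_surjective {V : X.Opens} (hV : V ≤ V₂) (hVa : IsAffineOpen V) :
    Function.Surjective ((π ≫ i).app V).hom := by
  intro a
  obtain ⟨b, hb⟩ := (app_bijective_of_isIso_restrict π U₀ (i ⁻¹ᵁ V) (preimage_le' i π U₀ V₂ W₀ h₂ hV)).2 a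
  obtain ⟨c, hc⟩ := i.app_surjective V hVa b
  refine ⟨c, ?_⟩
  have h1 := congrArg (fun φ => φ.hom c) (Scheme.Hom.comp_app π i V)
  refine h1.trans ?_
  change (π.app (i ⁻¹ᵁ V)).hom ((i.app V).hom c) = a
  rw [← hb]
  congr 1

/-- the generating section of the direct image over a small open -/
def γV {V : X.Opens} (hV : V ≤ V₂) : Γ((Scheme.Modules.pushforward (π ≫ i)).obj L, V) :=
  res L (preimage_le i π U₀ V₂ W₀ h₂ hV) γ

theorem res_γV {V V' : X.Opens} (hV : V ≤ V₂) (hV' : V' ≤ V) :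
    res ((Scheme.Modules.pushforward (π ≫ i)).obj L) hV' (γV i π U₀ L V₂ W₀ γ h₂ hV) =
      γV i π U₀ L V₂ W₀ γ h₂ (hV'.trans hV) := by
  unfold γV
  exact res_res L _ _ γ

include hγ in
/-- the stalk of the direct image at a point of `V₂` is cyclic -/
theorem exists_eq_smul_gen (y : X) (hy : y ∈ V₂)
    (t : ((Scheme.Modules.pushforward (π ≫ i)).obj L).presheaf.stalk y) :
    ∃ c : X.presheaf.stalk y,
      t = c • ((Scheme.Modules.pushforward (π ≫ i)).obj L).presheaf.germ V₂ y hy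
        (γV i π U₀ L V₂ W₀ γ h₂ le_rfl) := by
  obtain ⟨V₁, hy₁, s, rfl⟩ := TopCat.Presheaf.exists_germ_eq
    ((Scheme.Modules.pushforward (π ≫ i)).obj L).presheaf t
  obtain ⟨_, ⟨V, hVa, rfl⟩, hyV, hVV⟩ := X.isBasis_affineOpens.exists_subset_of_mem_open
    (show y ∈ V₁ ⊓ V₂ from ⟨hy₁, hy⟩) (V₁ ⊓ V₂).2
  have hV₁ : V ≤ V₁ := fun z hz => (hVV hz).1
  have hV₂ : V ≤ V₂ := fun z hz => (hVV hz).2
  have hle := preimage_le i π U₀ V₂ W₀ h₂ hV₂
  let s' : Γ(L, (π ≫ i) ⁻¹ᵁ V) := res ((Scheme.Modules.pushforward (π ≫ i)).obj L) hV₁ s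
  have ha : (hγ.coef hle s' • res L hle γ : Γ(L, (π ≫ i) ⁻¹ᵁ V)) = s' := hγ.coef_smul hle s'
  obtain ⟨b, hb⟩ := app_surjective i π U₀ V₂ W₀ h₂ hV₂ hVa (hγ.coef hle s')
  refine ⟨X.presheaf.germ V y hyV b, ?_⟩
  have e1 : ((Scheme.Modules.pushforward (π ≫ i)).obj L).presheaf.germ V₁ y hy₁ s =
      ((Scheme.Modules.pushforward (π ≫ i)).obj L).presheaf.germ V y hyV
        (res ((Scheme.Modules.pushforward (π ≫ i)).obj L) hV₁ s) :=
    (germ_res' ((Scheme.Modules.pushforward (π ≫ i)).obj L) y hV₁ hyV s).symm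
  have e2 : ((Scheme.Modules.pushforward (π ≫ i)).obj L).presheaf.germ V₂ y hy (γV i π U₀ L V₂ W₀ γ h₂ le_rfl) =
      ((Scheme.Modules.pushforward (π ≫ i)).obj L).presheaf.germ V y hyV (γV i π U₀ L V₂ W₀ γ h₂ hV₂) := by
    rw [← res_γV i π U₀ L V₂ W₀ γ h₂ le_rfl hV₂]
    exact (germ_res' ((Scheme.Modules.pushforward (π ≫ i)).obj L) y hV₂ hyV _).symm
  rw [e1, e2, ← germ_smul']
  congr 1
  have e3 : (b • γV i π U₀ L V₂ W₀ γ h₂ hV₂ : Γ((Scheme.Modules.pushforward (π ≫ i)).obj L, V)) =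
      ((((π ≫ i).app V).hom b) • res L hle γ : Γ(L, (π ≫ i) ⁻¹ᵁ V)) := rfl
  rw [e3, hb]
  exact ha.symm

/-- the maximal ideal at the image of the generic point kills the generator -/
theorem maximalIdeal_smul_gen (hy : i (genericPoint Z) ∈ V₂) (a : X.presheaf.stalk (i (genericPoint Z)))
    (ha : a ∈ IsLocalRing.maximalIdeal (X.presheaf.stalk (i (genericPoint Z)))) :
    a • ((Scheme.Modules.pushforward (π ≫ i)).obj L).presheaf.germ V₂ (i (genericPoint Z)) hy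
        (γV i π U₀ L V₂ W₀ γ h₂ le_rfl) = 0 := by
  obtain ⟨V₁, hy₁, b₁, rfl⟩ := TopCat.Presheaf.exists_germ_eq X.presheaf a
  obtain ⟨_, ⟨V, hVa, rfl⟩, hyV, hVV⟩ := X.isBasis_affineOpens.exists_subset_of_mem_open
    (show i (genericPoint Z) ∈ V₁ ⊓ V₂ from ⟨hy₁, hy⟩) (V₁ ⊓ V₂).2
  have hV₁ : V ≤ V₁ := fun z hz => (hVV hz).1
  have hV₂ : V ≤ V₂ := fun z hz => (hVV hz).2
  have hle := preimage_le i π U₀ V₂ W₀ h₂ hV₂
  have e1 : X.presheaf.germ V₁ (i (genericPoint Z)) hy₁ b₁ =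
      X.presheaf.germ V (i (genericPoint Z)) hyV (resO hV₁ b₁) :=
    (TopCat.Presheaf.germ_res_apply X.presheaf (homOfLE hV₁) (i (genericPoint Z)) hyV b₁).symm
  rw [e1] at ha ⊢
  set b := resO hV₁ b₁ with hb
  have e2 : ((Scheme.Modules.pushforward (π ≫ i)).obj L).presheaf.germ V₂ (i (genericPoint Z)) hy
        (γV i π U₀ L V₂ W₀ γ h₂ le_rfl) =
      ((Scheme.Modules.pushforward (π ≫ i)).obj L).presheaf.germ V (i (genericPoint Z)) hyV
        (γV i π U₀ L V₂ W₀ γ h₂ hV₂) := by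
    rw [← res_γV i π U₀ L V₂ W₀ γ h₂ le_rfl hV₂]
    exact (germ_res' ((Scheme.Modules.pushforward (π ≫ i)).obj L) (i (genericPoint Z)) hV₂ hyV _).symm
  rw [e2, ← germ_smul']
  have hb0 : (i.app V).hom b = 0 := by
    rw [← AlgebraicGeometry.basicOpen_eq_bot_iff]
    by_contra hne
    obtain ⟨z, hz⟩ : ((Z.basicOpen ((i.app V).hom b) : Z.Opens) : Set Z).Nonempty := by
      rw [Set.nonempty_iff_ne_empty]
      intro h0
      exact hne (Opens.ext h0)
    have h1 : genericPoint Z ∈ Z.basicOpen ((i.app V).hom b) :=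
      ((genericPoint_spec Z).mem_open_set_iff (Z.basicOpen ((i.app V).hom b)).2).2 ⟨z, trivial, hz⟩
    rw [← Scheme.preimage_basicOpen] at h1
    have h2 : i (genericPoint Z) ∈ X.basicOpen b := h1
    rw [Scheme.mem_basicOpen _ _ _ hyV] at h2
    exact ha h2
  have e3 : (b • γV i π U₀ L V₂ W₀ γ h₂ hV₂ : Γ((Scheme.Modules.pushforward (π ≫ i)).obj L, V)) =
      ((((π ≫ i).app V).hom b) • res L hle γ : Γ(L, (π ≫ i) ⁻¹ᵁ V)) := rfl
  have e4 : ((π ≫ i).app V).hom b = 0 := by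
    have h1 := congrArg (fun φ => φ.hom b) (Scheme.Hom.comp_app π i V)
    refine h1.trans ?_
    change (π.app (i ⁻¹ᵁ V)).hom ((i.app V).hom b) = 0
    rw [hb0, map_zero]
  rw [e3, e4, zero_smul]
  exact map_zero _

include hγ in
/-- the generator is nonzero in the stalk at any point of the image -/
theorem gen_ne_zero (y : X) (hy : y ∈ V₂) (ξ' : Z') (hξ' : (π ≫ i) ξ' = y) :
    ((Scheme.Modules.pushforward (π ≫ i)).obj L).presheaf.germ V₂ y hy
        (γV i π U₀ L V₂ W₀ γ h₂ le_rfl) ≠ 0 := by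
  intro h0
  have h1 : ((Scheme.Modules.pushforward (π ≫ i)).obj L).presheaf.germ V₂ y hy
        (γV i π U₀ L V₂ W₀ γ h₂ le_rfl) =
      ((Scheme.Modules.pushforward (π ≫ i)).obj L).presheaf.germ V₂ y hy 0 := by
    rw [h0, map_zero]
  obtain ⟨V, hyV, i₁, i₂, h3⟩ := TopCat.Presheaf.germ_eq
    ((Scheme.Modules.pushforward (π ≫ i)).obj L).presheaf y hy hy _ _ h1
  rw [map_zero] at h3
  have hV₂ : V ≤ V₂ := leOfHom i₁
  have hle := preimage_le i π U₀ V₂ W₀ h₂ hV₂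
  have h4 : γV i π U₀ L V₂ W₀ γ h₂ hV₂ = 0 := by
    rw [← res_γV i π U₀ L V₂ W₀ γ h₂ le_rfl hV₂]
    exact h3
  have h5 : ((1 : Γ(Z', (π ≫ i) ⁻¹ᵁ V)) • res L hle γ : Γ(L, (π ≫ i) ⁻¹ᵁ V)) =
      ((0 : Γ(Z', (π ≫ i) ⁻¹ᵁ V)) • res L hle γ : Γ(L, (π ≫ i) ⁻¹ᵁ V)) := by
    rw [one_smul, zero_smul]
    exact h4
  have h6 : (1 : Γ(Z', (π ≫ i) ⁻¹ᵁ V)) = 0 := (hγ _ hle).1 h5
  have hξV : ξ' ∈ (π ≫ i) ⁻¹ᵁ V := by
    change (π ≫ i) ξ' ∈ V
    rw [hξ']
    exact hyV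
  have h7 := congrArg (Z'.presheaf.germ _ ξ' hξV).hom h6
  rw [map_one, map_zero] at h7
  exact one_ne_zero h7

end Stalk

section Final

variable {X Z Z' : Scheme.{u}} (i : Z ⟶ X) [IsClosedImmersion i] [IsIntegral Z]
  (π : Z' ⟶ Z) [IsProper π] [Surjective π] (U₀ : Z.Opens) (hU₀ : Dense (U₀ : Set Z)) [IsIso (π ∣_ U₀)]
  (L : Z'.Modules) (hL : PicF.IsInvertible L)

omit [IsIntegral Z] [IsProper π] [Surjective π] in
/-- the support of a direct image from `Z'` lies in the image of `Z` -/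
theorem support_subset_range :
    CohB1.support ((Scheme.Modules.pushforward (π ≫ i)).obj L) ⊆ Set.range i := by
  intro x hx
  by_contra hxr
  apply hx
  let V : X.Opens := ⟨(Set.range i)ᶜ, i.isClosedEmbedding.isClosed_range.isOpen_compl⟩
  suffices h : ∀ m : ((Scheme.Modules.pushforward (π ≫ i)).obj L).presheaf.stalk x, m = 0 from
    ⟨fun m m' => by rw [h m, h m']⟩
  intro m
  obtain ⟨U, hxU, t, rfl⟩ := TopCat.Presheaf.exists_germ_eq
    ((Scheme.Modules.pushforward (π ≫ i)).obj L).presheaf m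
  have hW : x ∈ U ⊓ V := ⟨hxU, hxr⟩
  rw [← germ_res' ((Scheme.Modules.pushforward (π ≫ i)).obj L) x (inf_le_left : U ⊓ V ≤ U) hW]
  have h0 : res ((Scheme.Modules.pushforward (π ≫ i)).obj L) (inf_le_left : U ⊓ V ≤ U) t = 0 := by
    refine Groth.Agent.Lib.Helper6.DevFin.section_eq_zero_of_notMem_support L ((π ≫ i) ⁻¹ᵁ (U ⊓ V)) ?_ _
    intro w hw
    exact absurd ⟨π w, rfl⟩ hw.2
  rw [h0]
  exact map_zero _

include hU₀ hL in
/-- the direct image of an invertible module along a birational proper modification of an integral closed subscheme: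
support and generic stalk -/
theorem support_and_stalk (hcoh : Coh.IsCoh ((Scheme.Modules.pushforward (π ≫ i)).obj L)) :
    CohB1.support ((Scheme.Modules.pushforward (π ≫ i)).obj L) = Set.range i ∧
    Nonempty (↑(((Scheme.Modules.pushforward (π ≫ i)).obj L).presheaf.stalk (i (genericPoint Z)))
      ≃ₗ[X.presheaf.stalk (i (genericPoint Z))]
        IsLocalRing.ResidueField (X.presheaf.stalk (i (genericPoint Z)))) := by
  obtain ⟨ξ', hξ', huniq⟩ := exists_unique_preimage π U₀ hU₀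
  obtain ⟨W₀, γ, hW₀, hγ⟩ := exists_isGen L hL ξ'
  obtain ⟨V₂, hy, h₂⟩ := exists_nhd i π U₀ hU₀ ξ' hξ' huniq W₀ hW₀
  have hgξ : (π ≫ i) ξ' = i (genericPoint Z) := by
    change i (π ξ') = _
    rw [hξ']
  have hne := gen_ne_zero i π U₀ L V₂ W₀ γ hγ h₂ (i (genericPoint Z)) hy ξ' hgξ
  refine ⟨subset_antisymm (support_subset_range i π L) ?_, ?_⟩
  · rintro _ ⟨z, rfl⟩
    have hsp : i (genericPoint Z) ⤳ i z := (genericPoint_specializes z).map i.continuous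
    refine hsp.mem_closed (Groth.Agent.Lib.Helper6.DevCore.isClosed_support _ hcoh) ?_
    intro hsub
    exact hne (hsub.elim _ _)
  · exact nonempty_equiv_residueField _ _ _ hne
      (maximalIdeal_smul_gen i π U₀ L V₂ W₀ γ h₂ hy)
      (exists_eq_smul_gen i π U₀ L V₂ W₀ γ hγ h₂ (i (genericPoint Z)) hy)

end Final

end Groth.Agent.Lib.Helper4.PushGeneric
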