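import Mathlib.AlgebraicGeometry.Morphisms.QuasiFinite
import Mathlib.AlgebraicGeometry.Noetherian
import Mathlib.Tactic

set_option autoImplicit false
universe u
open CategoryTheory AlgebraicGeometry TopologicalSpace

namespace Groth.Agent.Lib.Helper4.QFinFinite

theorem finite_open_points (F : Type*) [TopologicalSpace F] [NoetherianSpace F] :
    {z : F | IsOpen ({z} : Set F)}.Finite := by
  let D : Set F := {z : F | IsOpen ({z} : Set F)}
  have hD : IsCompact D := NoetherianSpace.isCompact D
  obtain ⟨t, ht⟩ := hD.elim_finite_subcover (fun z : D => ({(z : F)} : Set F)) (fun z => z.2)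
    (fun z hz => Set.mem_iUnion.mpr ⟨⟨z, hz⟩, rfl⟩)
  apply (t.finite_toSet.image (fun z : D => (z : F))).subset
  intro z hz
  obtain ⟨i, hi⟩ := Set.mem_iUnion.mp (ht hz)
  obtain ⟨hit, hzi⟩ := Set.mem_iUnion.mp hi
  exact ⟨i, hit, (Set.mem_singleton_iff.mp hzi).symm⟩

theorem main {X S : Scheme.{u}} (f : X ⟶ S) [LocallyOfFiniteType f] [QuasiCompact f] (s : S) :
    {x : ↑X | f.base x = s ∧ f.QuasiFiniteAt x}.Finite := by
  have h1 : IsLocallyNoetherian (f.fiber s) := by
    unfold Scheme.Hom.fiber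
    infer_instance
  have h2 : IsNoetherian (f.fiber s) := { }
  have hfin := finite_open_points (f.fiber s)
  apply (hfin.image (f.fiberι s)).subset
  rintro x ⟨rfl, hx⟩
  rw [Scheme.Hom.quasiFiniteAt_iff_isOpen_singleton_asFiber] at hx
  exact ⟨f.asFiber x, hx, f.fiberι_asFiber x⟩

end Groth.Agent.Lib.Helper4.QFinFinite
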