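import Mathlib.AlgebraicGeometry.AffineScheme
import Mathlib.Topology.QuasiSeparated
import Mathlib.Tactic

set_option autoImplicit false
universe u
open CategoryTheory AlgebraicGeometry TopologicalSpace

namespace Groth.Agent.Lib.Helper4.QcqsInduction

/-- reindex a finite set of opens by `Fin n` -/
theorem exists_fin_family {α : Type*} [CompleteLattice α] (Us : Set α) (hfin : Us.Finite) :
    ∃ (n : ℕ) (V : Fin n → α), (∀ i, V i ∈ Us) ∧ ⨆ i, V i = sSup Us := by
  have : Finite Us := hfin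
  obtain ⟨n, ⟨e⟩⟩ := Finite.exists_equiv_fin Us
  refine ⟨n, fun i => (e.symm i).1, fun i => (e.symm i).2, ?_⟩
  rw [sSup_eq_iSup']
  exact e.symm.iSup_comp (g := fun x : Us => (x : α))

variable (X : Scheme.{u}) (P : X.Opens → Prop) (ha : ∀ U : X.Opens, IsAffineOpen U → P U)
    (hb : ∀ (U : X.Opens) (n : ℕ) (V : Fin n → X.Opens), IsCompact (U : Set X) →
      (∀ i, IsAffineOpen (V i)) → ⨆ i, V i = U → (∀ i j, P (V i ⊓ V j)) → P U)

include ha hb in
theorem step1 (W : X.Opens) (hW : IsAffineOpen W) (U : X.Opens) (hU : IsCompact (U : Set X))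
    (hUW : U ≤ W) : P U := by
  let B : Set X.Opens := {V | ∃ f : Γ(X, W), V = X.basicOpen f ∧ V ≤ U}
  have hcov : ∀ x : U, ∃ f : Γ(X, W), X.basicOpen f ≤ U ∧ (x : X) ∈ X.basicOpen f :=
    fun x => hW.exists_basicOpen_le x (hUW x.2)
  choose f hfU hfx using hcov
  obtain ⟨t, ht⟩ := hU.elim_finite_subcover (fun x : U => (X.basicOpen (f x) : Set X))
    (fun x => (X.basicOpen (f x)).isOpen) (fun x hx => Set.mem_iUnion.mpr ⟨⟨x, hx⟩, hfx ⟨x, hx⟩⟩)
  let Us : Set X.Opens := Set.range (fun x : t => X.basicOpen (f x.1))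
  obtain ⟨n, V, hV, hsup⟩ := exists_fin_family Us (Set.finite_range _)
  have hVf : ∀ i, ∃ g : Γ(X, W), V i = X.basicOpen g ∧ V i ≤ U := by
    intro i
    obtain ⟨x, hx⟩ := hV i
    exact ⟨f x.1, hx.symm, hx ▸ hfU x.1⟩
  choose g hg hgU using hVf
  apply hb U n V hU
  · intro i; rw [hg i]; exact hW.basicOpen _
  · apply le_antisymm
    · exact iSup_le hgU
    · rw [hsup]
      intro x hx
      obtain ⟨y, hy⟩ := Set.mem_iUnion.mp (ht hx)
      obtain ⟨hyt, hxy⟩ := Set.mem_iUnion.mp hy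
      have : X.basicOpen (f y) ≤ sSup Us := le_sSup ⟨⟨y, hyt⟩, rfl⟩
      exact this hxy
  · intro i j
    apply ha
    rw [hg i, hg j, ← Scheme.basicOpen_mul]
    exact hW.basicOpen _

include ha hb in
theorem main [QuasiSeparatedSpace X] (U : X.Opens) (hU : IsCompact (U : Set X)) : P U := by
  obtain ⟨Us, hUs, hfin, hsup⟩ := X.isBasis_affineOpens.exists_finite_of_isCompact hU
  obtain ⟨n, V, hV, hsup'⟩ := exists_fin_family Us hfin
  have hVa : ∀ i, IsAffineOpen (V i) := fun i => hUs (hV i)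
  apply hb U n V hU hVa (by rw [hsup', hsup])
  intro i j
  apply step1 X P ha hb (V i) (hVa i) _ _ inf_le_left
  exact QuasiSeparatedSpace.inter_isCompact _ _ (V i).isOpen (hVa i).isCompact (V j).isOpen
    (hVa j).isCompact

end Groth.Agent.Lib.Helper4.QcqsInduction
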