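import Mathlib.Algebra.Polynomial.Div
import Mathlib.RingTheory.Ideal.Quotient.Operations
import Mathlib.LinearAlgebra.FreeModule.Basic
import Mathlib.RingTheory.Polynomial.Basic
import Mathlib.Tactic

namespace Groth.Agent.Lib.Helper4.QuadSub

open Polynomial

section
variable (S : Type*) [CommRing S] (a b : S)

/-- the quadratic polynomial -/
noncomputable def fq : S[X] := X ^ 2 + C a * X + C b

theorem fq_monic : (fq S a b).Monic := by
  unfold fq
  monicity!

theorem fq_natDegree [Nontrivial S] : (fq S a b).natDegree = 2 := by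
  unfold fq
  compute_degree!

/-- the subalgebra -/
noncomputable def Asub : Subalgebra S S[X] :=
  (⊥ : Subalgebra S (S[X] ⧸ Ideal.span ({fq S a b} : Set S[X]))).comap
    (Ideal.Quotient.mkₐ S (Ideal.span ({fq S a b} : Set S[X])))

theorem mem_Asub (p : S[X]) : p ∈ Asub S a b ↔ ∃ (c : S) (q : S[X]), p = C c + fq S a b * q := by
  unfold Asub
  rw [Subalgebra.mem_comap, Algebra.mem_bot]
  constructor
  · rintro ⟨c, hc⟩
    have h1 : algebraMap S (S[X] ⧸ Ideal.span ({fq S a b} : Set S[X])) c =
        Ideal.Quotient.mk _ (C c) := rfl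
    rw [h1] at hc
    have h2 : Ideal.Quotient.mk (Ideal.span ({fq S a b} : Set S[X])) (C c) =
        Ideal.Quotient.mk _ p := hc
    rw [eq_comm, Ideal.Quotient.eq, Ideal.mem_span_singleton] at h2
    obtain ⟨q, hq⟩ := h2
    exact ⟨c, q, by linear_combination hq⟩
  · rintro ⟨c, q, rfl⟩
    refine ⟨c, ?_⟩
    have h1 : algebraMap S (S[X] ⧸ Ideal.span ({fq S a b} : Set S[X])) c =
        Ideal.Quotient.mk _ (C c) := rfl
    rw [h1]
    show Ideal.Quotient.mk _ (C c) = Ideal.Quotient.mk _ (C c + fq S a b * q)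
    rw [eq_comm, Ideal.Quotient.eq, Ideal.mem_span_singleton]
    exact ⟨q, by ring⟩

/-- the parametrization -/
noncomputable def phiLin : (S × S[X]) →ₗ[S] S[X] where
  toFun x := C x.1 + fq S a b * x.2
  map_add' x y := by simp only [Prod.fst_add, Prod.snd_add, map_add]; ring
  map_smul' t x := by
    simp only [Prod.smul_fst, Prod.smul_snd, smul_eq_mul, RingHom.id_apply, map_mul, smul_add,
      smul_eq_C_mul]
    ring

theorem phiLin_injective : Function.Injective (phiLin S a b) := by
  rcases subsingleton_or_nontrivial S with hS | hS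
  · intro x y _
    exact Subsingleton.elim _ _
  rw [← LinearMap.ker_eq_bot, LinearMap.ker_eq_bot']
  rintro ⟨c, q⟩ h
  change C c + fq S a b * q = 0 at h
  have hm := fq_monic S a b
  have h1 : (C c + fq S a b * q) %ₘ fq S a b = C c := by
    rw [add_modByMonic, (modByMonic_eq_zero_iff_dvd hm).2 (dvd_mul_right _ _), add_zero]
    rw [modByMonic_eq_self_iff hm]
    refine lt_of_le_of_lt degree_C_le ?_
    rw [degree_eq_natDegree hm.ne_zero, fq_natDegree]
    norm_num
  rw [h, zero_modByMonic] at h1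
  have hc : c = 0 := C_eq_zero.1 h1.symm
  rw [hc, C_0, zero_add] at h
  have hq : q = 0 := (hm.mul_right_eq_zero_iff).1 h
  rw [hc, hq]
  rfl

theorem phiLin_range : LinearMap.range (phiLin S a b) = Subalgebra.toSubmodule (Asub S a b) := by
  ext p
  rw [LinearMap.mem_range, Subalgebra.mem_toSubmodule, mem_Asub]
  constructor
  · rintro ⟨⟨c, q⟩, rfl⟩
    exact ⟨c, q, rfl⟩
  · rintro ⟨c, q, rfl⟩
    exact ⟨(c, q), rfl⟩

theorem free : Module.Free S (Asub S a b) := by
  have e : (S × S[X]) ≃ₗ[S] Subalgebra.toSubmodule (Asub S a b) :=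
    (LinearEquiv.ofInjective (phiLin S a b) (phiLin_injective S a b)).trans
      (LinearEquiv.ofEq _ _ (phiLin_range S a b))
  exact Module.Free.of_equiv e

theorem finite : Module.Finite (Asub S a b) S[X] := by
  classical
  refine ⟨⟨({1, X} : Finset S[X]), ?_⟩⟩
  rw [eq_top_iff]
  intro p _
  have hm := fq_monic S a b
  rcases subsingleton_or_nontrivial S with hS | hS
  · have : p = 0 := Subsingleton.elim _ _
    rw [this]; exact zero_mem _
  have hdeg : (p %ₘ fq S a b).natDegree < 2 := by
    have := natDegree_modByMonic_lt p hm (by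
      intro h1
      have := fq_natDegree S a b
      rw [h1] at this
      simp at this)
    rwa [fq_natDegree] at this
  have h1 : p %ₘ fq S a b = C ((p %ₘ fq S a b).coeff 0) + C ((p %ₘ fq S a b).coeff 1) * X := by
    conv_lhs => rw [as_sum_range_C_mul_X_pow' (p %ₘ fq S a b) hdeg]
    simp [Finset.sum_range_succ]
  have h2 : p = (C ((p %ₘ fq S a b).coeff 0) + fq S a b * (p /ₘ fq S a b)) +
      C ((p %ₘ fq S a b).coeff 1) * X := by
    conv_lhs => rw [← modByMonic_add_div p (fq S a b), h1]
    ring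
  have m0 : C ((p %ₘ fq S a b).coeff 0) + fq S a b * (p /ₘ fq S a b) ∈ Asub S a b :=
    (mem_Asub S a b _).2 ⟨_, _, rfl⟩
  have m1 : C ((p %ₘ fq S a b).coeff 1) ∈ Asub S a b :=
    (mem_Asub S a b _).2 ⟨(p %ₘ fq S a b).coeff 1, 0, by simp⟩
  rw [h2]
  refine Submodule.add_mem _ ?_ ?_
  · have : (⟨_, m0⟩ : Asub S a b) • (1 : S[X]) ∈
        Submodule.span (Asub S a b) (({1, X} : Finset S[X]) : Set S[X]) :=
      Submodule.smul_mem _ _ (Submodule.subset_span (by simp))
    simpa [Subalgebra.smul_def] using this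
  · have : (⟨_, m1⟩ : Asub S a b) • (X : S[X]) ∈
        Submodule.span (Asub S a b) (({1, X} : Finset S[X]) : Set S[X]) :=
      Submodule.smul_mem _ _ (Submodule.subset_span (by simp))
    simpa [Subalgebra.smul_def] using this

end

end Groth.Agent.Lib.Helper4.QuadSub
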