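import Mathlib.Tactic
import Mathlib.AlgebraicGeometry.Sites.Fpqc
import Groth.Prelude.Def_QuotSh
import Groth.Agent.Lib.Helper4.QuotEpi
import Groth.Agent.Lib.Helper4.EpiRep

set_option autoImplicit false
universe u
open CategoryTheory AlgebraicGeometry Limits MonoidalCategory CartesianMonoidalCategory

namespace Groth.Agent.Lib.Helper4.QuotSect

variable {S : Scheme.{u}} (K : Precoverage Scheme.{u})

/-- descent of a map of sheaves along an epi of representables -/
theorem existsUnique_desc {Z T : Over S} (p : Z ⟶ T) (hp : Epi (QuotSh.repMap K p))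
    {F : QuotSh.Sh K S} (φ : QuotSh.rep K Z ⟶ F)
    (h : ∀ (W : Over S) (z₁ z₂ : W ⟶ Z), z₁ ≫ p = z₂ ≫ p →
      QuotSh.repMap K z₁ ≫ φ = QuotSh.repMap K z₂ ≫ φ) :
    ∃! σ : QuotSh.rep K T ⟶ F, φ = QuotSh.repMap K p ≫ σ := by
  have hreg : IsRegularEpi (QuotSh.repMap K p) := IsRegularEpiCategory.regularEpiOfEpi _
  have hee : EffectiveEpi (QuotSh.repMap K p) := inferInstance
  let P : Over S := Over.mk (pullback.fst p.left p.left ≫ Z.hom)
  let a : P ⟶ Z := Over.homMk (pullback.fst p.left p.left) rfl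
  let b : P ⟶ Z := Over.homMk (pullback.snd p.left p.left) (by
    show pullback.snd p.left p.left ≫ Z.hom = pullback.fst p.left p.left ≫ Z.hom
    rw [← Over.w p, pullback.condition_assoc])
  have hpb : IsPullback a b p p := by
    refine IsPullback.of_map (Over.forget _) ?_ ?_
    · apply Over.OverMorphism.ext
      exact pullback.condition
    · exact IsPullback.of_hasPullback p.left p.left
  have hpb' := QuotEpi.isPullback_rep K hpb
  have hab := h P a b hpb.w
  have hd : ∀ {W : QuotSh.Sh K S} (g₁ g₂ : W ⟶ QuotSh.rep K Z),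
      g₁ ≫ QuotSh.repMap K p = g₂ ≫ QuotSh.repMap K p → g₁ ≫ φ = g₂ ≫ φ := by
    intro W g₁ g₂ hg
    rw [← hpb'.lift_fst g₁ g₂ hg, Category.assoc, hab, ← Category.assoc, hpb'.lift_snd]
  refine ⟨EffectiveEpi.desc _ φ hd, (EffectiveEpi.fac _ φ hd).symm, ?_⟩
  intro m hm
  rw [← cancel_epi (QuotSh.repMap K p), ← hm, EffectiveEpi.fac]

theorem main6041 {R U : Over S} (s t : R ⟶ U)
    (T Z : Over S) (i : Z ⟶ U ⊗ T)
    [Flat (i ≫ snd U T).left] [Surjective (i ≫ snd U T).left] [LocallyOfFinitePresentation (i ≫ snd U T).left]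
    (hZZ : ∀ (T' : Over S) (z₁ z₂ : T' ⟶ Z), z₁ ≫ i ≫ snd U T = z₂ ≫ i ≫ snd U T →
      ∃ r : T' ⟶ R, r ≫ s = z₁ ≫ i ≫ fst U T ∧ r ≫ t = z₂ ≫ i ≫ fst U T) :
    ∃! σ : QuotSh.rep Scheme.fppfPrecoverage T ⟶ QuotSh.quot Scheme.fppfPrecoverage s t,
      QuotSh.repMap Scheme.fppfPrecoverage (i ≫ fst U T) ≫ QuotSh.quotπ Scheme.fppfPrecoverage s t =
        QuotSh.repMap Scheme.fppfPrecoverage (i ≫ snd U T) ≫ σ := by
  have hp : Epi (QuotSh.repMap Scheme.fppfPrecoverage (i ≫ snd U T)) := by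
    rw [EpiRep.epi_repMap_iff_generate]
    exact Precoverage.generate_mem_toGrothendieck
      (Scheme.Hom.singleton_mem_fppfPrecoverage (i ≫ snd U T).left)
  refine existsUnique_desc Scheme.fppfPrecoverage (i ≫ snd U T) hp _ ?_
  intro W z₁ z₂ hz
  obtain ⟨r, hr₁, hr₂⟩ := hZZ W z₁ z₂ hz
  rw [← Category.assoc, ← Category.assoc, ← QuotEpi.repMap_comp, ← QuotEpi.repMap_comp, ← hr₁, ← hr₂,
    QuotEpi.repMap_comp, QuotEpi.repMap_comp, Category.assoc, Category.assoc, QuotSh.quot_condition]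

end Groth.Agent.Lib.Helper4.QuotSect
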