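import Groth.Agent.Lib.Helper4.VA6
import Groth.Agent.Lib.Helper8.EffCart
import Groth.Agent.Lib.Helper8.GGKill
import Groth.Agent.Lib.Helper4.VanIdeal
import Groth.Agent.Lib.Helper8.KillC
set_option autoImplicit false
set_option backward.isDefEq.respectTransparency.types false
set_option linter.unusedSectionVars false
set_option linter.style.haveILetI false

universe u
open CategoryTheory CategoryTheory.Limits AlgebraicGeometry Opposite TopologicalSpace MonoidalCategory

noncomputable section
namespace Groth.Agent.Lib.Helper4.RS1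
open Groth.Agent.Lib.Helper28 Groth.Agent.Lib.Helper28.QCohLoc Groth.Agent.Lib.Helper28.GenLocus
  Groth.Agent.Lib.Helper28.TensorGen Groth.Agent.Lib.Helper4.CM1
  Groth.Agent.Lib.Helper29.QCohStalk Groth.Agent.Lib.Helper16.Stk Groth.Agent.Lib.Helper17.GGStalk
  Groth.Agent.Lib.Helper8.KillC

variable {X : Scheme.{u}}

/-- on a scheme of dimension at most one, a point of an affine open lying on the zero locus of a
nonzerodivisor is a closed point -/
theorem isClosed_singleton_of_nzd (hdim : topologicalKrullDim X ≤ 1) {U : X.Opens} (hU : IsAffineOpen U)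
    (f : Γ(X, U)) (hf : f ∈ nonZeroDivisors Γ(X, U)) (x : X) (hxU : x ∈ U) (hxf : x ∉ X.basicOpen f) :
    IsClosed ({x} : Set X) := by
  have hfp : f ∈ germPrime U x hxU := (mem_germPrime_iff_notMem_basicOpen U x hxU f).2 hxf
  obtain ⟨q, hq, hqp⟩ := Ideal.exists_minimalPrimes_le (bot_le : (⊥ : Ideal Γ(X, U)) ≤ germPrime U x hxU)
  haveI : q.IsPrime := hq.1.1
  have hfq : f ∉ q := fun h =>
    Set.disjoint_left.mp (Ideal.disjoint_nonZeroDivisors_of_mem_minimalPrimes hq) h hf
  obtain ⟨p, hp⟩ := exists_fromSpec_eq hU hxU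
  have hpe : p.asIdeal = germPrime U x hxU := by
    rw [← germPrime_fromSpec hU p]
    congr 1
  set y := hU.fromSpec ⟨q, inferInstance⟩ with hy
  have hspec : y ⤳ x := by
    rw [← hp]
    apply Specializes.map _ hU.fromSpec.continuous
    refine (PrimeSpectrum.le_iff_specializes (⟨q, inferInstance⟩ : PrimeSpectrum Γ(X, U)) p).1 ?_
    change q ≤ p.asIdeal
    rw [hpe]
    exact hqp
  have hne : y ≠ x := by
    intro h
    apply hfq
    have h1 := germPrime_fromSpec hU ⟨q, inferInstance⟩
    have h2 : germPrime U y (fromSpec_mem hU _) = germPrime U x hxU := by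
      congr 1
    rw [← show germPrime U y (fromSpec_mem hU _) = q from h1, h2]
    exact hfp
  exact Groth.Agent.Lib.Helper8.EffCart.isClosed_singleton_of_specializes hdim hspec hne

/-- a local presentation of a section of an invertible module: affine neighbourhood, generator, coefficient -/
theorem exists_local_coef {L : X.Modules} (hL : PicF.IsInvertible L) (s : Coh.structureModule X ⟶ L) (x : X) :
    ∃ (V : X.Opens) (_ : IsAffineOpen V) (_ : x ∈ V) (g : Γ(L, V)) (_ : IsGen L V g) (r : Γ(X, V)),
      s.app V (show Γ(Coh.structureModule X, V) from (1 : Γ(X, V))) = (r • g : Γ(L, V)) := by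
  obtain ⟨U, g, hxU, hg⟩ := exists_isGen L hL x
  obtain ⟨_, ⟨V', hV, rfl⟩, hxV, hVU⟩ := X.isBasis_affineOpens.exists_subset_of_mem_open hxU U.2
  have hVU' : V' ≤ U := hVU
  have hg' := hg.res hVU'
  obtain ⟨r, hr⟩ := (hg' V' le_rfl).2 (s.app V' (show Γ(Coh.structureModule X, V') from (1 : Γ(X, V'))))
  refine ⟨V', hV, hxV, res L hVU' g, hg', r, ?_⟩
  rw [← hr]
  show (r • res L (le_refl V') (res L hVU' g) : Γ(L, V')) = _
  rw [res_self]

/-- on a scheme of dimension at most one, the zeros of a regular section of an invertible module are closed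
points -/
theorem isClosed_singleton_of_notMem_genLocus (hdim : topologicalKrullDim X ≤ 1) {L : X.Modules}
    (hL : PicF.IsInvertible L) (s : Coh.structureModule X ⟶ L) [Mono s] (x : X)
    (hx : x ∉ CohB1.genLocus L s) : IsClosed ({x} : Set X) := by
  obtain ⟨V, hV, hxV, g, hg, r, hr⟩ := exists_local_coef hL s x
  have hloc := genLocus_inf_eq_basicOpen s V g hg r hr
  have hxr : x ∉ X.basicOpen r := fun h => hx (by
    have : x ∈ CohB1.genLocus L s ⊓ V := by rw [hloc]; exact h
    exact this.1)
  refine isClosed_singleton_of_nzd hdim hV r ?_ x hxV hxr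
  rw [mem_nonZeroDivisors_iff_right]
  intro c hc
  have hinj := Groth.Agent.Lib.Helper4.VanIdeal.app_injective_of_mono s V
  apply hinj
  have h1 : s.app V (show Γ(Coh.structureModule X, V) from c) =
      (c • s.app V (show Γ(Coh.structureModule X, V) from (1 : Γ(X, V))) : Γ(L, V)) := by
    have h0 : (show Γ(Coh.structureModule X, V) from c) =
        (c • (show Γ(Coh.structureModule X, V) from (1 : Γ(X, V))) : Γ(Coh.structureModule X, V)) :=
      (mul_one c).symm
    exact (congrArg (s.app V) h0).trans (Scheme.Modules.Hom.app_smul s c _)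
  show s.app V (show Γ(Coh.structureModule X, V) from c) = s.app V 0
  rw [h1, hr, ← mul_smul, hc, zero_smul, map_zero]

/-- at a point of its generating locus, a section is surjective on stalks -/
theorem epi_stk_of_mem_genLocus {L : X.Modules} (s : Coh.structureModule X ⟶ L) (x : X)
    (hx : x ∈ CohB1.genLocus L s) : Epi ((stk x).map s) := by
  rw [ModuleCat.epi_iff_surjective]
  intro a
  obtain ⟨U, hxU, hU⟩ := (mem_genLocus_iff s x).1 hx
  obtain ⟨V, hxV, m, rfl⟩ := exists_germAt L x a
  have hW : U ⊓ V ≤ V := inf_le_right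
  obtain ⟨c, hc⟩ := (hU (U ⊓ V) inf_le_left).2 (res L hW m)
  refine ⟨germAt (Coh.structureModule X) x (U ⊓ V) ⟨hxU, hxV⟩ c, ?_⟩
  rw [stk_map_germAt, hc, germAt_res]

/-- tensoring on the left does not enlarge the support of the cokernel -/
theorem support_cokernel_tensor_subset' {P P' : X.Modules} (s : P ⟶ P') (N : X.Modules) :
    CohB1.support (cokernel ((DCoh.tensorBi.obj N).map s)) ⊆ CohB1.support (cokernel s) := by
  intro x hx
  by_contra hx'
  rw [← epi_stk_iff] at hx'
  revert hx
  change x ∉ CohB1.support (cokernel ((DCoh.tensorBi.obj N).map s))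
  rw [← epi_stk_iff]
  have hnat := stalkTensorIso_natR x N s
  haveI : Epi ((stk x).obj N ◁ (stk x).map s) := by
    rw [ModuleCat.epi_iff_surjective] at hx' ⊢
    exact LinearMap.lTensor_surjective _ hx'
  have h1 : Epi (((stk x).obj N ◁ (stk x).map s) ≫ (stalkTensorIso x N P').hom) := inferInstance
  rw [hnat] at h1
  exact (epi_comp_iff_of_epi _ _).1 h1

/-- the cokernel of multiplication by a section is supported off the generating locus -/
theorem support_cokernel_mulR_subset {L : X.Modules} (s : Coh.structureModule X ⟶ L) (N : X.Modules) :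
    CohB1.support (cokernel (mulR s N)) ⊆ ((CohB1.genLocus L s : Set X))ᶜ := by
  intro x hx hxg
  apply hx
  have h1 : x ∉ CohB1.support (cokernel (mulR s N)) := by
    rw [← epi_stk_iff]
    have h2 : x ∉ CohB1.support (cokernel ((DCoh.tensorBi.obj N).map s)) := fun h =>
      (epi_stk_iff s x).1 (epi_stk_of_mem_genLocus s x hxg) (support_cokernel_tensor_subset' s N h)
    rw [← epi_stk_iff] at h2
    haveI h4 : Epi ((stk x).map (KoszTw.tensorMap (𝟙 N) s)) := by
      rw [← KoszTw.tensorBi_obj_map]; exact h2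
    show Epi ((stk x).map ((SecTwist.unitorR N).inv ≫ KoszTw.tensorMap (𝟙 N) s))
    rw [Functor.map_comp]
    infer_instance
  exact not_not.1 h1

section curve

variable [IsNoetherian X] (hdim : topologicalKrullDim X ≤ 1) {L : X.Modules} (hL : PicF.IsInvertible L)
  (s : Coh.structureModule X ⟶ L) [Mono s]

include hdim hL in
theorem isClosed_of_mem_support_cokernel_mulR (N : X.Modules) :
    ∀ x ∈ CohB1.support (cokernel (mulR s N)), IsClosed ({x} : Set X) := fun x hx =>
  isClosed_singleton_of_notMem_genLocus hdim hL s x (support_cokernel_mulR_subset s N hx)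

include hdim hL in
/-- multiplication by a regular section is surjective on `H¹` -/
theorem HHmap_mulR_surjective (N : X.Modules) (hN : Coh.IsCoh N) :
    Function.Surjective (Groth.Agent.Lib.Helper8.KillA.HHmap (mulR s N) 1) := by
  have hcL := Groth.Agent.Lib.Helper6.K0Op.isCoh_of_isInvertible _ hL
  have hB : Coh.IsCoh (CohB1.tensorMod N L) := Groth.Agent.Lib.Helper6.K0Op.isCoh_tensorMod _ _ hN hcL
  have hQ := Groth.Agent.Lib.Helper6.DevCore.isCoh_cokernel (mulR s N) hN hB
  have h2 : Subsingleton (Coh.HH X (kernel (mulR s N)) (0 + 1 + 1)) :=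
    Groth.Agent.Lib.Helper8.GGCoh.subsingleton_HH_add_two hdim _ 0
  have h1 : Subsingleton (Coh.HH X (cokernel (mulR s N)) (0 + 1)) :=
    Groth.Agent.Lib.Helper8.CurveDeg.subsingleton_HH_succ (cokernel (mulR s N)) hQ
      (isClosed_of_mem_support_cokernel_mulR hdim hL s N) 0
  exact HHmap_surjective_of_cokernel (mulR s N) 0 h2 h1

include hdim hL s in
theorem subsingleton_H1_tensorMod (N : X.Modules) (hN : Coh.IsCoh N) (h1 : Subsingleton (Coh.HH X N 1)) :
    Subsingleton (Coh.HH X (CohB1.tensorMod N L) 1) := by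
  refine ⟨fun a b => ?_⟩
  obtain ⟨a', rfl⟩ := HHmap_mulR_surjective hdim hL s N hN a
  obtain ⟨b', rfl⟩ := HHmap_mulR_surjective hdim hL s N hN b
  rw [Subsingleton.elim a' b']

end curve

end Groth.Agent.Lib.Helper4.RS1
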