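import Groth.Agent.Lib.Helper4.RS1
set_option autoImplicit false
set_option backward.isDefEq.respectTransparency.types false
set_option linter.unusedSectionVars false
set_option linter.style.haveILetI false

universe u
open CategoryTheory CategoryTheory.Limits AlgebraicGeometry Opposite TopologicalSpace MonoidalCategory

noncomputable section
namespace Groth.Agent.Lib.Helper4.RS2
open Groth.Agent.Lib.Helper28 Groth.Agent.Lib.Helper28.QCohLoc Groth.Agent.Lib.Helper28.GenLocus
  Groth.Agent.Lib.Helper28.TensorGen Groth.Agent.Lib.Helper4.CM1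
  Groth.Agent.Lib.Helper29.QCohStalk Groth.Agent.Lib.Helper16.Stk Groth.Agent.Lib.Helper17.GGStalk
  Groth.Agent.Lib.Helper8.KillC Groth.Agent.Lib.Helper4.RS1

variable {X : Scheme.{u}}

/-- in a local ring of a scheme: `1 + r a` is a unit at the zeros of `r` -/
theorem mem_basicOpen_one_add {U : X.Opens} (r a : Γ(X, U)) (x : X) (hxU : x ∈ U)
    (hr : x ∉ X.basicOpen r) : x ∈ X.basicOpen (1 + r * a) := by
  rw [Scheme.mem_basicOpen _ _ x hxU] at hr ⊢
  rw [map_add, map_one, map_mul]
  have h1 : -((X.presheaf.germ U x hxU).hom r * (X.presheaf.germ U x hxU).hom a) ∈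
      nonunits (X.presheaf.stalk x) := by
    rw [mem_nonunits_iff, IsUnit.neg_iff]
    intro h
    exact hr (isUnit_of_mul_isUnit_left h)
  have h2 := IsLocalRing.isUnit_one_sub_self_of_mem_nonunits _ h1
  rwa [sub_neg_eq_add] at h2

/-- **a section congruent to a local generator modulo the image of multiplication by a section vanishing at
`x` generates at `x`** -/
theorem mem_genLocus_of_sub_eq_mulR {L N : X.Modules} (hL : PicF.IsInvertible L)
    (s : Coh.structureModule X ⟶ L) (x : X) (hx : x ∉ CohB1.genLocus L s)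
    (T : Coh.structureModule X ⟶ CohB1.tensorMod N L) (W : X.Opens) (hxW : x ∈ W)
    (g : Γ(CohB1.tensorMod N L, W)) (hg : IsGen (CohB1.tensorMod N L) W g) (ν : Γ(N, W))
    (h : T.app W (one W) - g = (mulR s N).app W ν) : x ∈ CohB1.genLocus (CohB1.tensorMod N L) T := by
  obtain ⟨V, hV, hxV, e, he, r, hr⟩ := exists_local_coef hL s x
  have hW' : W ⊓ V ≤ W := inf_le_left
  have hV' : W ⊓ V ≤ V := inf_le_right
  have hx' : x ∈ W ⊓ V := ⟨hxW, hxV⟩
  have hg' := hg.res hW'
  have he' := he.res hV'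
  -- the coefficient of `s` on `W ⊓ V`
  have hr' : s.app (W ⊓ V) (one (W ⊓ V)) = (resO hV' r • res L hV' e : Γ(L, W ⊓ V)) := by
    rw [← res_app_one s hV']
    show res L hV' (s.app V (show Γ(Coh.structureModule X, V) from (1 : Γ(X, V)))) = _
    rw [hr, res_smul]
  have hxr : x ∉ X.basicOpen (resO hV' r) := by
    have hloc := genLocus_inf_eq_basicOpen s (W ⊓ V) (res L hV' e) he' (resO hV' r) hr'
    intro h
    rw [← hloc] at h
    exact hx h.1
  -- the coefficient of `ν ⊗ e`
  obtain ⟨a, ha⟩ := (hg' (W ⊓ V) le_rfl).2 (tmulSec N L (res N hW' ν) (res L hV' e))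
  have ha' : (a • res (CohB1.tensorMod N L) hW' g : Γ(CohB1.tensorMod N L, W ⊓ V)) =
      tmulSec N L (res N hW' ν) (res L hV' e) := by
    rw [← ha]
    show _ = (a • res _ (le_refl (W ⊓ V)) (res _ hW' g) : Γ(CohB1.tensorMod N L, W ⊓ V))
    rw [res_self]
  have hT : T.app (W ⊓ V) (one (W ⊓ V)) =
      ((1 + resO hV' r * a) • res (CohB1.tensorMod N L) hW' g : Γ(CohB1.tensorMod N L, W ⊓ V)) := by
    have h1 := congrArg (res (CohB1.tensorMod N L) hW') h
    rw [res_sub, res_app_one, ← app_res, mulR_app, hr', tmulSec_smul_right, ← ha', ← mul_smul] at h1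
    rw [add_smul, one_smul, ← h1]
    abel
  have hloc := genLocus_inf_eq_basicOpen T (W ⊓ V) _ hg' (1 + resO hV' r * a) hT
  have hmem : x ∈ CohB1.genLocus (CohB1.tensorMod N L) T ⊓ (W ⊓ V) := by
    rw [hloc]
    exact mem_basicOpen_one_add _ _ x hx' hxr
  exact hmem.1

/-- sections of a quotient that vanish are locally in the image -/
theorem exists_local_preimage {M A : X.Modules} (φ : M ⟶ A) (x : X) (W : X.Opens) (hxW : x ∈ W)
    (a : Γ(A, W)) (ha : (cokernel.π φ).app W a = 0) :
    ∃ (W' : X.Opens) (hW' : W' ≤ W) (_ : x ∈ W') (ν : Γ(M, W')), res A hW' a = φ.app W' ν := by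
  let S : ShortComplex X.Modules := ShortComplex.mk φ (cokernel.π φ) (cokernel.condition φ)
  have hS : S.Exact := ShortComplex.exact_cokernel φ
  have hex := Groth.Agent.Lib.Helper17.StalkExact.stalkHom_exact_of_exact S hS x
  have h1 : Groth.Agent.Lib.Helper17.StalkExact.stalkHom (cokernel.π φ) x (A.presheaf.germ W x hxW a) = 0 := by
    rw [Groth.Agent.Lib.Helper17.StalkExact.stalkHom_germ, ha, map_zero]
  obtain ⟨n, hn⟩ := (hex _).1 h1
  obtain ⟨W₁, hxW₁, ν, rfl⟩ := TopCat.Presheaf.exists_germ_eq M.presheaf n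
  have hn' : Groth.Agent.Lib.Helper17.StalkExact.stalkHom φ x (M.presheaf.germ W₁ x hxW₁ ν) =
      A.presheaf.germ W x hxW a := hn
  rw [Groth.Agent.Lib.Helper17.StalkExact.stalkHom_germ] at hn'
  obtain ⟨W₂, hW₂W₁, hW₂W, hxW₂, heq⟩ := germAt_eq A x hxW₁ hxW (φ.app W₁ ν) a hn'
  refine ⟨W₂, hW₂W, hxW₂, res M hW₂W₁ ν, ?_⟩
  rw [← heq, app_res]

section curve

variable [IsNoetherian X] (hdim : topologicalKrullDim X ≤ 1) {L : X.Modules} (hL : PicF.IsInvertible L)
  (s : Coh.structureModule X ⟶ L) [Mono s]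

open Groth.Agent.Lib.Helper8.GGKill Groth.Agent.Lib.Helper8.GGCoh in
include hdim hL in
/-- **at a zero of a regular section `s` of `L`, the module `N ⊗ L` has a generating global section as soon
as `H¹(N) = 0`** -/
theorem exists_mem_genLocus_of_notMem (N : X.Modules) (hN : Coh.IsCoh N) (h1 : Subsingleton (Coh.HH X N 1))
    (hA : PicF.IsInvertible (CohB1.tensorMod N L)) (x : X) (hx : x ∉ CohB1.genLocus L s) :
    ∃ T : Coh.structureModule X ⟶ CohB1.tensorMod N L, x ∈ CohB1.genLocus (CohB1.tensorMod N L) T := by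
  have hcL := Groth.Agent.Lib.Helper6.K0Op.isCoh_of_isInvertible _ hL
  have hB : Coh.IsCoh (CohB1.tensorMod N L) := Groth.Agent.Lib.Helper6.K0Op.isCoh_tensorMod _ _ hN hcL
  have hQ := Groth.Agent.Lib.Helper6.DevCore.isCoh_cokernel (mulR s N) hN hB
  have htors := isClosed_of_mem_support_cokernel_mulR hdim hL s N
  haveI hfl : TopCat.Sheaf.IsFlasque (Coh.toAb (cokernel (mulR s N))) :=
    @Groth.Agent.Lib.Helper17.ZeroSupp.isFlasque_of_support_closedPoints _ (cokernel (mulR s N)) _ hQ.1 hQ.2
      htors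
  obtain ⟨W, g, hxW, hg⟩ := exists_isGen _ hA x
  -- extend the class of the generator to a global section of the quotient
  have hepi : Epi ((Coh.toAb (cokernel (mulR s N))).obj.map (homOfLE (le_top : W ≤ ⊤)).op) :=
    TopCat.Presheaf.IsFlasque.epi _
  rw [AddCommGrpCat.epi_iff_surjective] at hepi
  obtain ⟨q, hq⟩ := hepi ((cokernel.π (mulR s N)).app W g)
  have hq' : res (cokernel (mulR s N)) (le_top : W ≤ ⊤) q = (cokernel.π (mulR s N)).app W g := hq
  -- lift it
  let S2 : ShortComplex X.Modules :=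
    ShortComplex.mk (Abelian.image.ι (mulR s N)) (cokernel.π (mulR s N)) (kernel.condition _)
  have hS2 : S2.ShortExact :=
    { exact := ShortComplex.exact_of_f_is_kernel _ (kernelIsKernel _)
      mono_f := by dsimp [S2]; infer_instance
      epi_g := by dsimp [S2]; infer_instance }
  have hI : Subsingleton (Coh.HH X (Abelian.image (mulR s N)) 1) :=
    subsingleton_HH_of_epi (Abelian.factorThruImage (mulR s N)) inferInstance 1 h1
      (subsingleton_HH_add_two hdim _ 0)
  obtain ⟨T, hT⟩ := exists_lift_section S2 hS2 hI (TwistGen.ofSection _ q)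
  have hT' : T ≫ cokernel.π (mulR s N) = TwistGen.ofSection _ q := hT
  refine ⟨T, ?_⟩
  have hzero : (cokernel.π (mulR s N)).app W (T.app W (one W) - g) = 0 := by
    rw [map_sub, sub_eq_zero, ← hq']
    have h2 := congrArg (fun f => f.app W (one W)) hT'
    simp only at h2
    rw [InvQC.ofSection_app_one_eq] at h2
    exact h2
  obtain ⟨W', hW', hxW', ν, hν⟩ := exists_local_preimage (mulR s N) x W hxW _ hzero
  refine mem_genLocus_of_sub_eq_mulR hL s x hx T W' hxW' (res _ hW' g) (hg.res hW') ν ?_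
  rw [← hν, res_sub, res_app_one]

end curve

section gg

open Groth.Agent.Lib.Helper4.VA2 Groth.Agent.Lib.Helper8.GGKill

theorem exists_fin_sections' [CompactSpace X] {A : X.Modules}
    (h : ∀ x : X, ∃ τ : Coh.structureModule X ⟶ A, x ∈ CohB1.genLocus A τ) :
    ∃ (r : ℕ) (s : Fin r → (Coh.structureModule X ⟶ A)), ∀ x : X, ∃ i, x ∈ CohB1.genLocus A (s i) := by
  choose T hT using h
  obtain ⟨t, ht⟩ := isCompact_univ.elim_finite_subcover (fun x : X => (CohB1.genLocus A (T x) : Set X))
    (fun x => (CohB1.genLocus A (T x)).isOpen) (fun x _ => Set.mem_iUnion.2 ⟨x, hT x⟩)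
  refine ⟨t.card, fun i => T (t.equivFin.symm i).1, fun x => ?_⟩
  obtain ⟨y, hyt, hxy⟩ := Set.mem_iUnion₂.1 (ht (Set.mem_univ x))
  refine ⟨t.equivFin ⟨y, hyt⟩, ?_⟩
  show x ∈ CohB1.genLocus A (T (t.equivFin.symm (t.equivFin ⟨y, hyt⟩)).1)
  rw [Equiv.symm_apply_apply]
  exact hxy

theorem mulR_unitorL {A : X.Modules} (σ : Coh.structureModule X ⟶ A) :
    mulR σ (Coh.structureModule X) ≫ (unitorL A).hom = σ := by
  apply hom_ext_app
  intro U c0
  let c : Γ(X, U) := c0
  show (unitorL A).hom.app U ((mulR σ (Coh.structureModule X)).app U c0) = σ.app U c0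
  rw [mulR_app]
  have h1 := unitorL_hom_app A U (σ.app U (one U)) c
  refine h1.trans ?_
  have h0 : (show Γ(Coh.structureModule X, U) from c) =
      (c • (show Γ(Coh.structureModule X, U) from (1 : Γ(X, U))) : Γ(Coh.structureModule X, U)) :=
    (mul_one c).symm
  exact ((congrArg (σ.app U) h0).trans (Scheme.Modules.Hom.app_smul σ c _)).symm

/-- **an invertible module generated at every point by a global section is globally generated** -/
theorem isGloballyGenerated_of_forall_mem_genLocus [CompactSpace X] {A : X.Modules}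
    (h : ∀ x : X, ∃ τ : Coh.structureModule X ⟶ A, x ∈ CohB1.genLocus A τ) :
    Curv2.IsGloballyGenerated A := by
  obtain ⟨r, s, hs⟩ := exists_fin_sections' h
  apply isGloballyGenerated_of_kills
  intro C π hπ
  haveI := epi_desc_mulR s hs (Coh.structureModule X)
  have h1 : biproduct.desc (fun i : Fin r => mulR (s i) (Coh.structureModule X)) ≫ (unitorL A).hom ≫ π = 0 := by
    apply biproduct.hom_ext'
    intro i
    rw [biproduct.ι_desc_assoc, comp_zero, ← Category.assoc, mulR_unitorL]
    exact hπ (s i)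
  have h2 : (unitorL A).hom ≫ π = 0 := by
    rw [← cancel_epi (biproduct.desc (fun i : Fin r => mulR (s i) (Coh.structureModule X))), h1, comp_zero]
  rw [← cancel_epi (unitorL A).hom, h2, comp_zero]

end gg

end Groth.Agent.Lib.Helper4.RS2
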