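import Groth.Agent.Lib.Helper4.RS2
set_option autoImplicit false
set_option backward.isDefEq.respectTransparency.types false
set_option linter.unusedSectionVars false
set_option linter.style.haveILetI false

universe u
open CategoryTheory CategoryTheory.Limits AlgebraicGeometry Opposite TopologicalSpace MonoidalCategory

noncomputable section
namespace Groth.Agent.Lib.Helper4.RS3
open Groth.Agent.Lib.Helper28 Groth.Agent.Lib.Helper28.QCohLoc Groth.Agent.Lib.Helper28.GenLocus
  Groth.Agent.Lib.Helper28.TensorGen Groth.Agent.Lib.Helper4.CM1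
  Groth.Agent.Lib.Helper4.RS1 Groth.Agent.Lib.Helper4.RS2

variable {X : Scheme.{u}}

section curve

variable [IsNoetherian X] (hdim : topologicalKrullDim X ≤ 1) {L : X.Modules} (hL : PicF.IsInvertible L)
  (s : Coh.structureModule X ⟶ L) [Mono s] (h1 : Subsingleton (Coh.HH X L 1))

include hdim hL s h1 in
/-- all positive powers of an invertible module with a regular section and `H¹ = 0` have `H¹ = 0` -/
theorem subsingleton_H1_tensorPow : ∀ n : ℕ, 1 ≤ n → Subsingleton (Coh.HH X (CohB1.tensorPow L n) 1) := by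
  intro n hn
  induction n, hn using Nat.le_induction with
  | base =>
    exact Groth.Agent.Lib.Helper4.VanClass.subsingleton_HH_of_iso
      (Groth.Agent.Lib.Helper4.VA6.tensorPowOne L).symm 1 h1
  | succ n _ ih =>
    exact RS1.subsingleton_H1_tensorMod hdim hL s (CohB1.tensorPow L n)
      (Groth.Agent.Lib.Helper6.K0Op.isCoh_of_isInvertible _ (isInvertible_tensorPow hL n)) ih

include hdim hL s h1 in
/-- powers `≥ 2` of an invertible module with a regular section and `H¹ = 0` are generated at every point -/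
theorem exists_mem_genLocus_tensorPow (n : ℕ) (hn : 2 ≤ n) (x : X) :
    ∃ τ : Coh.structureModule X ⟶ CohB1.tensorPow L n, x ∈ CohB1.genLocus (CohB1.tensorPow L n) τ := by
  obtain ⟨m, rfl⟩ : ∃ m, n = m + 1 := ⟨n - 1, by omega⟩
  by_cases hx : x ∈ CohB1.genLocus L s
  · refine ⟨spow s (m + 1), ?_⟩
    rw [genLocus_spow hL s (m + 1) (by omega)]
    exact hx
  · exact exists_mem_genLocus_of_notMem hdim hL s (CohB1.tensorPow L m)
      (Groth.Agent.Lib.Helper6.K0Op.isCoh_of_isInvertible _ (isInvertible_tensorPow hL m))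
      (subsingleton_H1_tensorPow hdim hL s h1 m (by omega)) (isInvertible_tensorPow hL (m + 1)) x hx

include hdim hL s h1 in
theorem isGloballyGenerated_tensorPow (n : ℕ) (hn : 2 ≤ n) :
    Curv2.IsGloballyGenerated (CohB1.tensorPow L n) :=
  isGloballyGenerated_of_forall_mem_genLocus (exists_mem_genLocus_tensorPow hdim hL s h1 n hn)

end curve

/-- **on a proper curve, the sixth power of an ample invertible module with a regular section and `H¹ = 0`
is very ample** -/
theorem veryAmple_tensorPow_six (k : Type u) [Field k] (X : Scheme.{u}) [X.Over (Spec (CommRingCat.of k))]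
    [IsProper (X ↘ (Spec (CommRingCat.of k)))] (hdim : topologicalKrullDim X = 1)
    (L : X.Modules) (hL : PicF.IsInvertible L)
    (hs : ∃ s : Coh.structureModule X ⟶ L, Mono s) (h1 : Subsingleton (Coh.HH X L 1))
    (hample : CohB1.IsAmple L) :
    ∃ (n : ℕ) (i : X ⟶ CohB1.ProjSpace n k), IsClosedImmersion i ∧
      i ≫ CohB1.ProjSpace.toSpec n k = X ↘ (Spec (CommRingCat.of k)) ∧
      Nonempty ((Scheme.Modules.pullback i).obj (Twist.twistProjSpace n k 1) ≅ CohB1.tensorPow L 6) := by
  haveI : IsNoetherian X := Groth.Agent.Lib.Helper4.Snapper.isNoetherian_of_proper k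
  obtain ⟨s, hs⟩ := hs
  obtain ⟨n, i, hi, hq, ⟨φ⟩⟩ := Groth.Agent.Lib.Helper4.VA6.veryAmple_tensorPow_two k X hdim
    (CohB1.tensorPow L 3) (isInvertible_tensorPow hL 3)
    (isGloballyGenerated_tensorPow (le_of_eq hdim) hL s h1 3 (by norm_num))
    (subsingleton_H1_tensorPow (le_of_eq hdim) hL s h1 3 (by norm_num))
    (isAmple_tensorPow hample 3 (by norm_num))
  obtain ⟨ψ, -⟩ := exists_tensorPow_tensorPow_iso hL 3 2 6 rfl
  exact ⟨n, i, hi, hq, ⟨φ ≪≫ ψ⟩⟩

end Groth.Agent.Lib.Helper4.RS3
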