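import Groth.Agent.Lib.lead.FibOneJ
import Groth.Agent.Lib.Helper23.ProjF.ProjMap
import Groth.Agent.Lib.Helper17.TensorQC
import Groth.Agent.Lib.Helper26.ExtVanB
set_option autoImplicit false
set_option backward.isDefEq.respectTransparency.types false
set_option linter.unusedSectionVars false
set_option linter.style.haveILetI false
universe u
open CategoryTheory CategoryTheory.Limits AlgebraicGeometry Opposite TopologicalSpace

noncomputable section
namespace Groth.Agent.Lib.Helper4.RV1

open Groth.Agent.Lib.lead.FibOne Groth.Agent.Lib.Helper21.FibVan Groth.Agent.Lib.Helper2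
  Groth.Agent.Lib.Helper2.HomExt Groth.Agent.Lib.Helper23.ProjF Groth.Agent.Lib.Helper2.GSplit2
  Groth.Agent.Lib.Helper28.TensorGen Groth.Agent.Lib.Helper28.QCohLoc Groth.Agent.Lib.Helper17.CohKer

variable {X : Scheme.{u}}

/-- `E ⊗ -` commutes with multiplication by a global function -/
theorem TL_map_smulHom (E P : X.Modules) (r : Γ(X, ⊤)) :
    (TL E).map (smulHom P r) = smulHom ((TL E).obj P) r := by
  apply tensorMod_hom_ext
  intro W e p
  refine (TL_map_tmulSec E (smulHom P r) e p).trans ?_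
  have h := smulHom_app (CohB1.tensorMod E P) r W (tmulSec E P e p)
  refine Eq.trans ?_ h.symm
  rw [smulHom_app]
  exact tmulSec_smul_right E P (gOn r W) e p

instance isLeftAdjoint_TL (E : X.Modules) : (TL E).IsLeftAdjoint :=
  Groth.Agent.Lib.Helper26.ExtVanB.hasSheafHom E

/-- right exactness of `H^d` along a right exact sequence `P ⟶ Q ⟶ R ⟶ 0` of quasi-coherent modules -/
theorem exists_HH_lift_of_exact {P Q R : X.Modules} [P.IsQuasicoherent] [Q.IsQuasicoherent]
    [R.IsQuasicoherent] (φ : P ⟶ Q) (ψ : Q ⟶ R) (w : φ ≫ ψ = 0)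
    (hex : (ShortComplex.mk φ ψ w).Exact) [Epi ψ] (d : ℕ)
    (hvan : ∀ K : X.Modules, K.IsQuasicoherent → Subsingleton (Coh.HH X K (d + 1)))
    (x : Coh.HH X Q d)
    (hx : Sheaf.H.map ((SheafOfModules.toSheaf X.ringCatSheaf).map ψ) d x = 0) :
    ∃ z : Coh.HH X P d, Sheaf.H.map ((SheafOfModules.toSheaf X.ringCatSheaf).map φ) d z = x := by
  let S : ShortComplex (SheafOfModules.{u} X.ringCatSheaf) :=
    ShortComplex.mk (kernel.ι ψ) ψ (kernel.condition ψ)
  have hS : S.ShortExact :=
    ShortComplex.ShortExact.mk' (ShortComplex.kernelSequence_exact ψ)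
      (inferInstanceAs (Mono (kernel.ι ψ))) (inferInstanceAs (Epi ψ))
  haveI hJ : (kernel ψ).IsQuasicoherent := isQuasicoherent_kernel _
  obtain ⟨j, hj⟩ := HLes.exact₂ (HLesLin.shortExact_Sab S hS) d x hx
  haveI hl : Epi (kernel.lift ψ φ w) :=
    (ShortComplex.exact_iff_epi_kernel_lift (ShortComplex.mk φ ψ w)).1 hex
  have hK : (kernel (kernel.lift ψ φ w)).IsQuasicoherent := isQuasicoherent_kernel _
  obtain ⟨z, hz⟩ := surjective_HH_of_epi (kernel.lift ψ φ w) d (hvan _ hK) j
  refine ⟨z, ?_⟩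
  have h1 : (SheafOfModules.toSheaf X.ringCatSheaf).map φ =
      (SheafOfModules.toSheaf X.ringCatSheaf).map (kernel.lift ψ φ w) ≫
        (SheafOfModules.toSheaf X.ringCatSheaf).map (kernel.ι ψ) :=
    (congrArg (fun θ => (SheafOfModules.toSheaf X.ringCatSheaf).map θ)
      (kernel.lift_ι ψ φ w).symm).trans (Functor.map_comp _ _ _)
  refine (congrArg (fun θ => Sheaf.H.map θ d z) h1).trans ?_
  refine (Sheaf.H.map_comp_apply _ _ z).trans ?_
  exact (congrArg (fun t => Sheaf.H.map ((SheafOfModules.toSheaf X.ringCatSheaf).map (kernel.ι ψ)) d t)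
    hz).trans hj

variable {Z : Scheme.{u}} {k : Z ⟶ X} {R : Type u} [CommRing R] {ρ : R →+* Γ(X, ⊤)} {m : Ideal R}

instance isQuasicoherent_TL_obj (E P : X.Modules) [E.IsQuasicoherent] [P.IsQuasicoherent] :
    ((TL E).obj P).IsQuasicoherent :=
  Groth.Agent.Lib.Helper17.TensorQC.isQuasicoherent_tensorMod E P

set_option maxHeartbeats 1600000 in
/-- **the Nakayama step, twisted by a quasi-coherent module `E`** -/
theorem exists_sum_smul_tensor [IsAffineHom k] [CompactSpace X] [QuasiSeparatedSpace X]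
    (h : IsClosedFibre k ρ m) (E : X.Modules) [E.IsQuasicoherent] (d : ℕ)
    (hvan : ∀ K : X.Modules, K.IsQuasicoherent → Subsingleton (Coh.HH X K (d + 1)))
    (hZ : Subsingleton (Coh.HH X ((TL E).obj (PM k (Coh.structureModule Z))) d))
    (x : Coh.HH X ((TL E).obj (Coh.structureModule X)) d) :
    ∃ (σ : Finset m) (y : m → Coh.HH X ((TL E).obj (Coh.structureModule X)) d),
      x = ∑ a ∈ σ, Sheaf.H.map (Coh.smulAb ((TL E).obj (Coh.structureModule X)) (ρ a)) d (y a) := by
  classical
  haveI : (Coh.structureModule X).IsQuasicoherent := inferInstance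
  haveI : (Coh.structureModule Z).IsQuasicoherent := inferInstance
  haveI : (PM k (Coh.structureModule Z)).IsQuasicoherent := isQuasicoherent_pushforward k _
  haveI hu := epi_unitPush h
  haveI hD := epi_descLam h
  haveI hJ : (kernel (unitPush k)).IsQuasicoherent := isQuasicoherent_kernel _
  haveI : (∐ fun _ : m => Coh.structureModule X).IsQuasicoherent :=
    Groth.Agent.Lib.Helper16.QCohSigma.isQuasicoherent_sigma _
  let S : ShortComplex X.Modules :=
    ShortComplex.mk (kernel.ι (unitPush k)) (unitPush k) (kernel.condition (unitPush k))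
  have hS : S.ShortExact :=
    ShortComplex.ShortExact.mk' (ShortComplex.kernelSequence_exact (unitPush k))
      (inferInstanceAs (Mono (kernel.ι (unitPush k)))) (inferInstanceAs (Epi (unitPush k)))
  have hex := (Functor.preservesFiniteColimits_iff_forall_exact_map_and_epi (TL E)).1 inferInstance S hS
  haveI : Epi ((TL E).map (unitPush k)) := hex.2
  have hw : (TL E).map (kernel.ι (unitPush k)) ≫ (TL E).map (unitPush k) = 0 := by
    rw [← Functor.map_comp, kernel.condition, Functor.map_zero]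
  have hx0 : Sheaf.H.map ((SheafOfModules.toSheaf X.ringCatSheaf).map ((TL E).map (unitPush k))) d x = 0 :=
    @Subsingleton.elim _ hZ _ _
  obtain ⟨z₁, hz₁⟩ := exists_HH_lift_of_exact ((TL E).map (kernel.ι (unitPush k)))
    ((TL E).map (unitPush k)) hw hex.1 d hvan x hx0
  haveI : Epi ((TL E).map (descLam h)) := inferInstance
  have hK : (kernel ((TL E).map (descLam h))).IsQuasicoherent := isQuasicoherent_kernel _
  obtain ⟨w, hw'⟩ := surjective_HH_of_epi ((TL E).map (descLam h)) d (hvan _ hK) z₁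
  let f : m → X.Modules := fun _ => Coh.structureModule X
  let c : (TL E).obj (∐ f) ≅ ∐ fun a : m => (TL E).obj (f a) := PreservesCoproduct.iso (TL E) f
  let cmp : (∐ fun a : m => (TL E).obj (f a)) ⟶ (TL E).obj (∐ f) := c.inv
  have hcmpι : ∀ a : m, Sigma.ι (fun a : m => (TL E).obj (f a)) a ≫ cmp = (TL E).map (Sigma.ι f a) := by
    intro a
    show _ ≫ (PreservesCoproduct.iso (TL E) f).inv = _
    rw [PreservesCoproduct.inv_hom, ι_comp_sigmaComparison]
  let tS := SheafOfModules.toSheaf X.ringCatSheaf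
  have hcmp : Sheaf.H.map (tS.map cmp) d (Sheaf.H.map (tS.map c.hom) d w) = w := by
    refine (Sheaf.H.map_comp_apply _ _ w).symm.trans ?_
    have h1 : tS.map c.hom ≫ tS.map cmp = 𝟙 _ :=
      (Functor.map_comp _ _ _).symm.trans
        ((congrArg (fun θ => tS.map θ) c.hom_inv_id).trans (CategoryTheory.Functor.map_id _ _))
    refine (congrArg (fun θ => Sheaf.H.map θ d w) h1).trans ?_
    exact Sheaf.H.map_id_apply _
  obtain ⟨σ, y, hsum⟩ := Groth.Agent.Lib.Helper17.SigmaHH.exists_finset_sum_HH X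
    (fun a : m => (TL E).obj (f a)) d (Sheaf.H.map (tS.map c.hom) d w)
  refine ⟨σ, y, ?_⟩
  set Fι := tS.map ((TL E).map (kernel.ι (unitPush k))) with hFι
  set Fσ := tS.map ((TL E).map (descLam h)) with hFσ
  set Fc := tS.map cmp with hFc
  have hterm : ∀ a : m,
      Sheaf.H.map Fι d (Sheaf.H.map Fσ d (Sheaf.H.map Fc d
          (Sheaf.H.map (tS.map (Sigma.ι (fun a : m => (TL E).obj (f a)) a)) d (y a)))) =
      Sheaf.H.map (Coh.smulAb ((TL E).obj (Coh.structureModule X)) (ρ a)) d (y a) := by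
    intro a
    have h4 : tS.map (Sigma.ι (fun a : m => (TL E).obj (f a)) a) ≫ Fc ≫ Fσ ≫ Fι =
        Coh.smulAb ((TL E).obj (Coh.structureModule X)) (ρ a) := by
      rw [hFσ, hFι, hFc, ← Functor.map_comp, ← Functor.map_comp, ← Functor.map_comp]
      have h5 : Sigma.ι (fun a : m => (TL E).obj (f a)) a ≫ cmp ≫ (TL E).map (descLam h) ≫
          (TL E).map (kernel.ι (unitPush k)) = smulHom ((TL E).obj (Coh.structureModule X)) (ρ a) := by
        rw [← Category.assoc, hcmpι, ← Functor.map_comp, ← Functor.map_comp,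
          ι_descLam_ι h a]
        exact TL_map_smulHom E _ _
      exact (congrArg (fun φ => tS.map φ) h5).trans (Groth.Agent.Lib.Helper17.FlatBCH3.toSheaf_map_smulHom _ _)
    refine ((Sheaf.H.map_comp_apply Fσ Fι _).symm.trans ?_)
    refine ((Sheaf.H.map_comp_apply Fc (Fσ ≫ Fι) _).symm.trans ?_)
    refine ((Sheaf.H.map_comp_apply (tS.map (Sigma.ι (fun a : m => (TL E).obj (f a)) a))
      (Fc ≫ Fσ ≫ Fι) (y a)).symm.trans ?_)
    exact congrArg (fun φ => Sheaf.H.map φ d (y a)) h4
  have e1 : x = Sheaf.H.map Fι d (Sheaf.H.map Fσ d (Sheaf.H.map Fc d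
        (∑ a ∈ σ, Sheaf.H.map (tS.map (Sigma.ι (fun a : m => (TL E).obj (f a)) a)) d (y a)))) := by
    have e2 : Sheaf.H.map (tS.map c.hom) d w =
        ∑ a ∈ σ, Sheaf.H.map (tS.map (Sigma.ι (fun a : m => (TL E).obj (f a)) a)) d (y a) := hsum
    rw [← e2, hcmp, hw', hz₁]
  refine e1.trans ?_
  rw [map_sum, map_sum, map_sum]
  exact Finset.sum_congr rfl fun a _ => hterm a

end Groth.Agent.Lib.Helper4.RV1
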