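import Groth.Agent.Lib.Helper4.RV1
import Groth.Agent.Lib.Helper6.K0Op
import Groth.Agent.S0002
set_option autoImplicit false
set_option backward.isDefEq.respectTransparency.types false
set_option linter.unusedSectionVars false
set_option linter.style.haveILetI false
universe u
open CategoryTheory CategoryTheory.Limits AlgebraicGeometry Opposite TopologicalSpace

noncomputable section
namespace Groth.Agent.Lib.Helper4.RV2

open Groth.Agent.Lib.lead.FibOne Groth.Agent.Lib.Helper21.FibVan Groth.Agent.Lib.Helper2
  Groth.Agent.Lib.Helper2.HomExt Groth.Agent.Lib.Helper2.GSplit2 Groth.Agent.Lib.Helper4.RV1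

/-- global Nakayama: a finite module `M` with `M = 𝔪 M` for every maximal ideal vanishes -/
theorem subsingleton_of_forall_maximal {A M : Type*} [CommRing A] [AddCommGroup M] [Module A M]
    [Module.Finite A M]
    (h : ∀ m : Ideal A, m.IsMaximal → ∀ x : M, x ∈ m • (⊤ : Submodule A M)) : Subsingleton M := by
  by_contra hne
  rw [not_subsingleton_iff_nontrivial] at hne
  have hann : Module.annihilator A M ≠ ⊤ := by
    intro htop
    have h1 : (1 : A) ∈ Module.annihilator A M := htop ▸ Submodule.mem_top
    rw [Module.mem_annihilator] at h1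
    obtain ⟨x, hx⟩ := exists_ne (0 : M)
    exact hx (by rw [← one_smul A x]; exact h1 x)
  obtain ⟨m, hm, hle⟩ := Ideal.exists_le_maximal _ hann
  have hsm : (⊤ : Submodule A M) ≤ m • (⊤ : Submodule A M) := fun x _ => h m hm x
  obtain ⟨r, hr1, hr⟩ := Submodule.exists_sub_one_mem_and_smul_eq_zero_of_fg_of_le_smul m ⊤
    Module.Finite.fg_top hsm
  have hrann : r ∈ Module.annihilator A M := by
    rw [Module.mem_annihilator]
    exact fun x => hr x Submodule.mem_top
  have hrm : r ∈ m := hle hrann
  have h1m : (1 : A) ∈ m := by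
    have := m.sub_mem hrm hr1
    rwa [sub_sub_cancel] at this
  exact hm.ne_top ((Ideal.eq_top_iff_one m).2 h1m)

variable (A : Type u) [CommRing A] {X : Scheme.{u}} (f : X ⟶ Spec (CommRingCat.of A))

/-- the closed fibre over a closed point as an `IsClosedFibre` -/
theorem isClosedFibre_fiber (y : ↥(Spec (CommRingCat.of A))) (hy : IsClosed ({y} : Set ↥(Spec (CommRingCat.of A)))) :
    IsClosedFibre (f.fiberι y) f.appTop.hom
      (RingHom.ker ((Spec (CommRingCat.of A)).fromSpecResidueField y).appTop.hom) := by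
  haveI : IsClosedImmersion ((Spec (CommRingCat.of A)).fromSpecResidueField y) :=
    (isClosed_singleton_iff_isClosedImmersion).1 hy
  exact isClosedFibre_of_isPullback
    (IsPullback.of_hasPullback f ((Spec (CommRingCat.of A)).fromSpecResidueField y))

/-- elements of the kernel of evaluation at `y` lie in the prime ideal `y` -/
theorem ΓSpecIso_hom_mem_of_mem_ker (y : ↥(Spec (CommRingCat.of A)))
    (a : Γ(Spec (CommRingCat.of A), ⊤))
    (ha : a ∈ RingHom.ker ((Spec (CommRingCat.of A)).fromSpecResidueField y).appTop.hom) :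
    (Scheme.ΓSpecIso (CommRingCat.of A)).hom.hom a ∈ (show PrimeSpectrum A from y).asIdeal := by
  have haa : a = (Scheme.ΓSpecIso (CommRingCat.of A)).inv.hom
      ((Scheme.ΓSpecIso (CommRingCat.of A)).hom.hom a) :=
    (congrArg (fun θ : Γ(Spec (CommRingCat.of A), ⊤) ⟶ Γ(Spec (CommRingCat.of A), ⊤) => θ.hom a)
      (Scheme.ΓSpecIso (CommRingCat.of A)).hom_inv_id).symm
  have h1 : y ∉ (Spec (CommRingCat.of A)).basicOpen a := by
    intro hmem
    have hpre : ((Spec (CommRingCat.of A)).fromSpecResidueField y) ⁻¹ᵁ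
        ((Spec (CommRingCat.of A)).basicOpen a) =
        (Spec ((Spec (CommRingCat.of A)).residueField y)).basicOpen
          (((Spec (CommRingCat.of A)).fromSpecResidueField y).appTop.hom a) :=
      Scheme.preimage_basicOpen _ _
    rw [RingHom.mem_ker] at ha
    rw [ha, Scheme.basicOpen_zero] at hpre
    have hpt : (IsLocalRing.closedPoint ((Spec (CommRingCat.of A)).residueField y)) ∈
        ((Spec (CommRingCat.of A)).fromSpecResidueField y) ⁻¹ᵁ
          ((Spec (CommRingCat.of A)).basicOpen a) := by
      show (Spec (CommRingCat.of A)).fromSpecResidueField y _ ∈ (Spec (CommRingCat.of A)).basicOpen a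
      rw [Scheme.fromSpecResidueField_apply]
      exact hmem
    rw [hpre] at hpt
    exact hpt
  rw [haa, basicOpen_eq_of_affine] at h1
  by_contra hcon
  exact h1 hcon

/-- **Nakayama over the base**: top-degree cohomology of a coherent module vanishes as soon as it vanishes after
tensoring with the structure sheaves of the closed fibres -/
theorem subsingleton_HH_of_closedFibres [IsNoetherianRing A] [IsProper f] (d : ℕ)
    (hvan : ∀ K : X.Modules, K.IsQuasicoherent → Subsingleton (Coh.HH X K (d + 1)))
    (E : X.Modules) (hE : Coh.IsCoh E)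
    (hfib : ∀ y : ↥(Spec (CommRingCat.of A)), IsClosed ({y} : Set ↥(Spec (CommRingCat.of A))) →
      Subsingleton (Coh.HH X ((TL E).obj (PM (f.fiberι y) (Coh.structureModule (f.fiber y)))) d)) :
    Subsingleton (Coh.HH X ((TL E).obj (Coh.structureModule X)) d) := by
  letI : X.Over (Spec (CommRingCat.of A)) := ⟨f⟩
  haveI : IsProper (X ↘ Spec (CommRingCat.of A)) := ‹IsProper f›
  haveI : CompactSpace X := QuasiCompact.compactSpace_of_compactSpace f
  haveI : QuasiSeparatedSpace X := quasiSeparatedSpace_of_quasiSeparated f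
  haveI : E.IsQuasicoherent := hE.1
  have hcoh : Coh.IsCoh ((TL E).obj (Coh.structureModule X)) :=
    Groth.Agent.Lib.Helper6.K0Op.isCoh_tensorMod E _ hE
      (Groth.Agent.Lib.Helper1.RefHullLib.isCoh_structureModule X)
  haveI hfin : Module.Finite A (Coh.HH X ((TL E).obj (Coh.structureModule X)) d) :=
    Groth.Agent.S0002.result A X _ hcoh d
  apply subsingleton_of_forall_maximal (A := A)
  intro mA hmA x
  let y : ↥(Spec (CommRingCat.of A)) := (⟨mA, hmA.isPrime⟩ : PrimeSpectrum A)
  have hy : IsClosed ({y} : Set ↥(Spec (CommRingCat.of A))) :=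
    (PrimeSpectrum.isClosed_singleton_iff_isMaximal _).2 hmA
  have hcf := isClosedFibre_fiber A f y hy
  haveI : IsClosedImmersion ((Spec (CommRingCat.of A)).fromSpecResidueField y) :=
    (isClosed_singleton_iff_isClosedImmersion).1 hy
  haveI : IsClosedImmersion (f.fiberι y) :=
    MorphismProperty.of_isPullback (P := @IsClosedImmersion)
      (IsPullback.of_hasPullback f ((Spec (CommRingCat.of A)).fromSpecResidueField y)).flip inferInstance
  obtain ⟨σ, yy, hsum⟩ := exists_sum_smul_tensor hcf E d hvan (hfib y hy) x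
  rw [hsum]
  refine Submodule.sum_mem _ fun a _ => ?_
  have ha' := ΓSpecIso_hom_mem_of_mem_ker A y a.1 a.2
  have hterm : Sheaf.H.map (Coh.smulAb ((TL E).obj (Coh.structureModule X)) (f.appTop.hom a.1)) d (yy a) =
      ((Scheme.ΓSpecIso (CommRingCat.of A)).hom.hom a.1) • (yy a) := by
    show _ = Sheaf.H.map (Coh.smulAb ((TL E).obj (Coh.structureModule X))
      (Coh.toGlobal (X ↘ Spec (CommRingCat.of A)) ((Scheme.ΓSpecIso (CommRingCat.of A)).hom.hom a.1))) d (yy a)
    congr 3
    show f.appTop.hom a.1 = f.appTop.hom ((Scheme.ΓSpecIso (CommRingCat.of A)).inv.hom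
      ((Scheme.ΓSpecIso (CommRingCat.of A)).hom.hom a.1))
    congr 1
    exact (congrArg (fun θ : Γ(Spec (CommRingCat.of A), ⊤) ⟶ Γ(Spec (CommRingCat.of A), ⊤) => θ.hom a.1)
      (Scheme.ΓSpecIso (CommRingCat.of A)).hom_inv_id).symm
  rw [hterm]
  exact Submodule.smul_mem_smul ha' Submodule.mem_top

end Groth.Agent.Lib.Helper4.RV2
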