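import Groth.Agent.Lib.Helper4.CM3
import Groth.Agent.Lib.Helper17.TensorQC
import Groth.Agent.Lib.Helper17.CohKer
import Groth.Agent.Lib.Helper16.QCohSigma
import Groth.Agent.Lib.Helper28.InvQC
set_option autoImplicit false
set_option backward.isDefEq.respectTransparency.types false
set_option linter.unusedSectionVars false
set_option linter.style.haveILetI false

universe u
open CategoryTheory CategoryTheory.Limits AlgebraicGeometry Opposite TopologicalSpace

noncomputable section
namespace Groth.Agent.Lib.Helper4.RV5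
open Groth.Agent.Lib.Helper28.TensorGen Groth.Agent.Lib.Helper28.QCohLoc Groth.Agent.Lib.Helper28.GenLocus
  Groth.Agent.Lib.Helper4.GPEnd Groth.Agent.Lib.Helper4.CM1 Groth.Agent.Lib.Helper8.GGCoh
  Groth.Agent.Lib.Helper8.GGKill Groth.Agent.Lib.Helper2.HLes Groth.Agent.Lib.Helper4.GPExact
  Groth.Agent.Lib.Helper8.KillA Groth.Agent.Lib.Helper2.HLesLin Groth.Agent.Lib.Helper4.CM2
  Groth.Agent.Lib.Helper17.CohKer

variable {X : Scheme.{u}}

/-- finite direct sums of quasi-coherent modules are quasi-coherent -/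
theorem isQuasicoherent_biproduct {J : Type} [Fintype J] (f : J → X.Modules)
    [∀ j, (f j).IsQuasicoherent] : (⨁ f).IsQuasicoherent := by
  haveI : ∀ i : ULift.{u} J, ((fun i : ULift.{u} J => f i.down) i).IsQuasicoherent :=
    fun _ => inferInstance
  have h := Groth.Agent.Lib.Helper16.QCohSigma.isQuasicoherent_sigma
    (fun i : ULift.{u} J => f i.down)
  let e : (∐ (fun i : ULift.{u} J => f i.down)) ≅ ⨁ f :=
    Sigma.reindex (Equiv.ulift : ULift.{u} J ≃ J) f ≪≫ (biproduct.isoCoproduct f).symm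
  exact (SheafOfModules.isQuasicoherent.{u} X.ringCatSheaf).prop_of_iso e h

instance isQuasicoherent_F_obj (A N : X.Modules) [A.IsQuasicoherent] [N.IsQuasicoherent] :
    ((F A).obj N).IsQuasicoherent :=
  Groth.Agent.Lib.Helper17.TensorQC.isQuasicoherent_tensorMod N A

variable {A : X.Modules} {r : ℕ} (s : Fin r → (Coh.structureModule X ⟶ A))

section main

variable (hvan : ∀ K : X.Modules, K.IsQuasicoherent → Subsingleton (Coh.HH X K 2))
  (hA : PicF.IsInvertible A)
  (hs : ∀ x : X, ∃ i, x ∈ CohB1.genLocus A (s i)) (G : X.Modules) [G.IsQuasicoherent]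
  (hG : Subsingleton (Coh.HH X G 1))

set_option maxHeartbeats 1600000 in
include hvan hA hs hG in
/-- **Castelnuovo–Mumford, categorical form**, when `H²` vanishes on quasi-coherent modules -/
theorem exists_sum (z : Coh.structureModule X ⟶ (F A).obj ((F A).obj G)) :
    ∃ t : Fin r → (Coh.structureModule X ⟶ (F A).obj G), z = ∑ i, t i ≫ mR (s i) ((F A).obj G) := by
  haveI := preservesFiniteColimits_flip (X := X) A
  haveI := additive_flip (X := X) A
  haveI := epi_ε s hs G
  haveI : A.IsQuasicoherent := Groth.Agent.Lib.Helper28.InvQC.isQuasicoherent_of_isInvertible A hA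
  obtain ⟨ρ'', hρ''⟩ := exists_epi_kernel s G hA hs
  haveI : (P r G).IsQuasicoherent := isQuasicoherent_biproduct _
  haveI : (⨁ fun _ : Fin r × Fin r => G).IsQuasicoherent := isQuasicoherent_biproduct _
  haveI : (kernel ((F A).map (ε s G))).IsQuasicoherent := isQuasicoherent_kernel _
  have hKρ : (kernel ρ'').IsQuasicoherent := isQuasicoherent_kernel _
  have h1 : Subsingleton (Coh.HH X (kernel ((F A).map (ε s G))) 1) :=
    subsingleton_HH_of_epi ρ'' hρ'' 1 (subsingleton_HH_biproduct' _ 1 (fun _ => hG))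
      (hvan _ hKρ)
  have hepi : Epi ((F A).map (ε s G)) := epi_tensor (ε s G) (epi_ε s hs G) A
  let S' : ShortComplex X.Modules :=
    ShortComplex.mk (kernel.ι ((F A).map (ε s G))) ((F A).map (ε s G)) (kernel.condition _)
  have hS' : S'.ShortExact :=
    { exact := ShortComplex.exact_of_f_is_kernel _ (kernelIsKernel _)
      mono_f := by dsimp [S']; infer_instance
      epi_g := hepi }
  obtain ⟨t', ht'⟩ := exists_lift_section S' hS' h1 z
  have ht'' : t' ≫ (F A).map (ε s G) = z := ht'
  obtain ⟨t, ht⟩ : ∃ t : Coh.structureModule X ⟶ P r ((F A).obj G), t ≫ ε s ((F A).obj G) = z := by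
    refine ⟨t' ≫ inv (θ r A G), ?_⟩
    rw [← θ_comp s hA G, ← ht'']
    simp
  refine ⟨fun i => t ≫ biproduct.π _ i, ?_⟩
  rw [← ht]
  conv_lhs => rw [← Category.comp_id t, ← biproduct.total, Preadditive.comp_sum, Preadditive.sum_comp]
  refine Finset.sum_congr rfl (fun i _ => ?_)
  show (t ≫ biproduct.π (fun _ : Fin r => (F A).obj G) i ≫ biproduct.ι (fun _ : Fin r => (F A).obj G) i) ≫
    ε s ((F A).obj G) = (t ≫ biproduct.π (fun _ : Fin r => (F A).obj G) i) ≫ mR (s i) ((F A).obj G)
  rw [Category.assoc, Category.assoc, ι_ε, Category.assoc]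

include hvan hA hs hG in
theorem span_tmul_eq_top :
    Submodule.span (X.ringCatSheaf.obj.obj (Opposite.op ⊤))
      (Set.range (fun p : (CohB1.tensorMod G A).val.obj (Opposite.op ⊤) × A.val.obj (Opposite.op ⊤) =>
        SecTwist.tmul (CohB1.tensorMod G A) A ⊤ p.1 p.2)) = ⊤ := by
  rw [eq_top_iff]
  intro z₀ _
  obtain ⟨t, ht⟩ := exists_sum s hvan hA hs G hG
    (Groth.Agent.Lib.Helper28.TwistGen.ofSection (CohB1.tensorMod (CohB1.tensorMod G A) A) z₀)
  have h1 : z₀ = ∑ i, (t i ≫ mR (s i) ((F A).obj G)).app ⊤ (one ⊤) := by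
    have h2 := secOf_ofSection (M := CohB1.tensorMod (CohB1.tensorMod G A) A) z₀
    rw [← h2]
    show (Groth.Agent.Lib.Helper28.TwistGen.ofSection (CohB1.tensorMod (CohB1.tensorMod G A) A) z₀).app ⊤ (one ⊤) = _
    rw [ht]
    exact Groth.Agent.Lib.Helper2.HomExt.sum_app _ _ _ _
  rw [h1]
  refine Submodule.sum_mem _ (fun i _ => ?_)
  have h3 : (t i ≫ mR (s i) ((F A).obj G)).app ⊤ (one ⊤) =
      SecTwist.tmul (CohB1.tensorMod G A) A ⊤ ((t i).app ⊤ (one ⊤)) ((s i).app ⊤ (one ⊤)) :=
    mulR_app (s i) (CohB1.tensorMod G A) ⊤ ((t i).app ⊤ (one ⊤))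
  rw [h3]
  exact Submodule.subset_span ⟨(_, _), rfl⟩

end main

section powers

variable [CompactSpace X] (hvan : ∀ K : X.Modules, K.IsQuasicoherent → Subsingleton (Coh.HH X K 2))
  {A : X.Modules} (hA : PicF.IsInvertible A) (hgg : Curv2.IsGloballyGenerated A)

include hvan hA hgg in
/-- tensoring with a globally generated invertible module preserves `H¹ = 0` -/
theorem subsingleton_H1_tensorMod (N : X.Modules) [N.IsQuasicoherent] (hN : Subsingleton (Coh.HH X N 1)) :
    Subsingleton (Coh.HH X (CohB1.tensorMod N A) 1) := by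
  obtain ⟨r, s, hs⟩ := exists_fin_sections hA hgg
  haveI : A.IsQuasicoherent := Groth.Agent.Lib.Helper28.InvQC.isQuasicoherent_of_isInvertible A hA
  haveI : (P r N).IsQuasicoherent := isQuasicoherent_biproduct _
  have hK : (kernel (ε s N)).IsQuasicoherent := isQuasicoherent_kernel _
  exact subsingleton_HH_of_epi (ε s N) (epi_ε s hs N) 1 (subsingleton_HH_biproduct' _ 1 (fun _ => hN))
    (hvan _ hK)

include hvan hA hgg in
theorem subsingleton_H1_tensorPow (hO : Subsingleton (Coh.HH X (Coh.structureModule X) 1)) :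
    ∀ j : ℕ, Subsingleton (Coh.HH X (CohB1.tensorPow A j) 1) := by
  intro j
  induction j with
  | zero => exact hO
  | succ j ih =>
    haveI : (CohB1.tensorPow A j).IsQuasicoherent :=
      Groth.Agent.Lib.Helper28.InvQC.isQuasicoherent_of_isInvertible _
        (Groth.Agent.Lib.Helper28.GenLocus.isInvertible_tensorPow hA j)
    exact subsingleton_H1_tensorMod hvan hA hgg _ ih

include hvan hA hgg in
/-- **Castelnuovo–Mumford for powers of a globally generated invertible module** -/
theorem span_tmul_tensorPow (hO : Subsingleton (Coh.HH X (Coh.structureModule X) 1))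
    (n : ℕ) (hn : 1 ≤ n) :
    Submodule.span (X.ringCatSheaf.obj.obj (Opposite.op ⊤))
      (Set.range (fun p : (CohB1.tensorPow A n).val.obj (Opposite.op ⊤) × A.val.obj (Opposite.op ⊤) =>
        SecTwist.tmul (CohB1.tensorPow A n) A ⊤ p.1 p.2)) = ⊤ := by
  obtain ⟨r, s, hs⟩ := exists_fin_sections hA hgg
  obtain ⟨n', rfl⟩ : ∃ n', n = n' + 1 := ⟨n - 1, by omega⟩
  haveI : (CohB1.tensorPow A n').IsQuasicoherent :=
    Groth.Agent.Lib.Helper28.InvQC.isQuasicoherent_of_isInvertible _
      (Groth.Agent.Lib.Helper28.GenLocus.isInvertible_tensorPow hA n')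
  exact span_tmul_eq_top s hvan hA hs (CohB1.tensorPow A n')
    (subsingleton_H1_tensorPow hvan hA hgg hO n')

end powers

end Groth.Agent.Lib.Helper4.RV5
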