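import Groth.Agent.Lib.Helper4.VA3
import Groth.Agent.Lib.Helper28.SecAdd
set_option autoImplicit false
set_option backward.isDefEq.respectTransparency.types false
set_option linter.unusedSectionVars false
set_option linter.style.haveILetI false

universe u
open CategoryTheory CategoryTheory.Limits AlgebraicGeometry Opposite TopologicalSpace

noncomputable section
namespace Groth.Agent.Lib.Helper4.VA4
open Groth.Agent.Lib.Helper28 Groth.Agent.Lib.Helper28.QCohLoc Groth.Agent.Lib.Helper28.GenLocus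
  Groth.Agent.Lib.Helper28.TensorGen Groth.Agent.Lib.Helper4.CM1 Groth.Agent.Lib.Helper4.VA1
  Groth.Agent.Lib.Helper4.VA2 Groth.Agent.Lib.Helper4.VA3

variable {X Y : Scheme.{u}}

theorem ofSection_add {M : X.Modules} (y y' : Γ(M, ⊤)) :
    TwistGen.ofSection M (y + y') = TwistGen.ofSection M y + TwistGen.ofSection M y' := by
  rw [← ofSection_secOf (TwistGen.ofSection M y + TwistGen.ofSection M y'), secOf_add, secOf_ofSection,
    secOf_ofSection]

theorem ofSection_zero {M : X.Modules} : TwistGen.ofSection M (0 : Γ(M, ⊤)) = 0 := by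
  rw [← ofSection_secOf (0 : Coh.structureModule X ⟶ M), secOf_zero]

theorem genLocus_smul_le {M : X.Modules} (hM : PicF.IsInvertible M) (c : Γ(X, ⊤)) (y : Γ(M, ⊤)) :
    CohB1.genLocus M (TwistGen.ofSection M (c • y : Γ(M, ⊤))) ≤ CohB1.genLocus M (TwistGen.ofSection M y) := by
  intro x hx
  obtain ⟨W, γ, hxW, hγ⟩ := exists_isGen M hM x
  have h1 := genLocus_inf_eq_coef (TwistGen.ofSection M (c • y : Γ(M, ⊤))) W γ hγ
  have h2 := genLocus_inf_eq_coef (TwistGen.ofSection M y) W γ hγ
  rw [secOf_ofSection] at h1 h2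
  rw [res_smul, hγ.coef_smul_left, Scheme.basicOpen_mul] at h1
  have hx' : x ∈ CohB1.genLocus M (TwistGen.ofSection M (c • y : Γ(M, ⊤))) ⊓ W := ⟨hx, hxW⟩
  rw [h1] at hx'
  have hx'' : x ∈ CohB1.genLocus M (TwistGen.ofSection M y) ⊓ W := h2 ▸ hx'.2
  exact hx''.1

/-- an ample invertible module whose section ring is generated in degree one is generated by global sections -/
theorem exists_mem_genLocus_of_normGen {L : X.Modules} (hL : CohB1.IsAmple L)
    (hng : ∀ n : ℕ, 1 ≤ n → ∀ t : Γ(CohB1.tensorMod (CohB1.tensorPow L n) L, ⊤),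
      t ∈ Submodule.span Γ(X, ⊤) (Set.range fun p : Γ(CohB1.tensorPow L n, ⊤) × Γ(L, ⊤) =>
        tmulSec (CohB1.tensorPow L n) L p.1 p.2)) (x : X) :
    ∃ τ : Coh.structureModule X ⟶ L, x ∈ CohB1.genLocus L τ := by
  obtain ⟨n, t, hxt, -⟩ := hL.2.2 x
  have hng' : ∀ y : Γ(CohB1.tensorMod (CohB1.tensorPow L n) L, ⊤),
      y ∈ Submodule.span Γ(X, ⊤) (Set.range fun p : Γ(CohB1.tensorPow L n, ⊤) × Γ(L, ⊤) =>
        tmulSec (CohB1.tensorPow L n) L p.1 p.2) := by
    rcases Nat.eq_zero_or_pos n with rfl | hn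
    · exact fun y => mem_span_tmul_zero L y
    · exact hng n hn
  have hM : PicF.IsInvertible (CohB1.tensorMod (CohB1.tensorPow L n) L) :=
    isInvertible_tensorMod (isInvertible_tensorPow hL.1 n) hL.1
  have key : ∀ y : Γ(CohB1.tensorMod (CohB1.tensorPow L n) L, ⊤),
      x ∈ CohB1.genLocus (CohB1.tensorMod (CohB1.tensorPow L n) L) (TwistGen.ofSection _ y) →
        ∃ τ : Coh.structureModule X ⟶ L, x ∈ CohB1.genLocus L τ := by
    intro y
    have hy := hng' y
    induction hy using Submodule.span_induction with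
    | mem y hy =>
      obtain ⟨⟨p, τ⟩, rfl⟩ := hy
      intro hx
      have h1 : TwistGen.ofSection _ (tmulSec (CohB1.tensorPow L n) L p τ) =
          smulSec (TwistGen.ofSection _ p) (TwistGen.ofSection L τ) := by
        unfold smulSec
        rw [secOf_ofSection, secOf_ofSection]
      have h2 : x ∈ CohB1.genLocus _ (smulSec (TwistGen.ofSection (CohB1.tensorPow L n) p)
          (TwistGen.ofSection L τ)) := h1 ▸ hx
      rw [genLocus_smulSec (isInvertible_tensorPow hL.1 n) hL.1] at h2
      exact ⟨_, h2.2⟩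
    | zero =>
      intro hx
      rw [ofSection_zero, genLocus_zero hM] at hx
      exact absurd hx (by simp)
    | add y y' _ _ ih ih' =>
      intro hx
      rw [ofSection_add] at hx
      rcases genLocus_add_le hM _ _ hx with h | h
      · exact ih h
      · exact ih' h
    | smul c y _ ih =>
      intro hx
      exact ih (genLocus_smul_le hM c y hx)
  refine key (secOf t) ?_
  rw [ofSection_secOf]
  exact hxt

/-- **ample and normally generated implies very ample** (closed immersion into a projective space over the affine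
base, for a proper morphism) -/
theorem exists_closedImm [IsAffine Y] (q : X ⟶ Y) [IsProper q] {L : X.Modules} (hL : CohB1.IsAmple L)
    (hng : ∀ n : ℕ, 1 ≤ n → ∀ t : Γ(CohB1.tensorMod (CohB1.tensorPow L n) L, ⊤),
      t ∈ Submodule.span Γ(X, ⊤) (Set.range fun p : Γ(CohB1.tensorPow L n, ⊤) × Γ(L, ⊤) =>
        tmulSec (CohB1.tensorPow L n) L p.1 p.2)) :
    ∃ (N : ℕ) (i : X ⟶ CohB1.ProjSpaceOver N Y), IsClosedImmersion i ∧
      i ≫ pullback.snd (CohB1.ProjSpace.toSpec N (ULift.{u} ℤ)) (specULiftZIsTerminal.from Y) = q ∧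
      Nonempty (L ≅ (Scheme.Modules.pullback i).obj (Twist.twistOver N Y 1)) :=
  exists_closedImm_of_normGen q hL (exists_mem_genLocus_of_normGen hL hng) hng


/-- the same with the hypothesis in the additive-closure form -/
theorem exists_closedImm' [IsAffine Y] (q : X ⟶ Y) [IsProper q] {L : X.Modules} (hL : CohB1.IsAmple L)
    (hng : ∀ n : ℕ, 1 ≤ n → AddSubgroup.closure {t | ∃ (m : (CohB1.tensorPow L n).val.obj (op ⊤))
      (s : L.val.obj (op ⊤)), t = SecTwist.tmul (CohB1.tensorPow L n) L ⊤ m s} = ⊤) :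
    ∃ (N : ℕ) (i : X ⟶ CohB1.ProjSpaceOver N Y), IsClosedImmersion i ∧
      i ≫ pullback.snd (CohB1.ProjSpace.toSpec N (ULift.{u} ℤ)) (specULiftZIsTerminal.from Y) = q ∧
      Nonempty (L ≅ (Scheme.Modules.pullback i).obj (Twist.twistOver N Y 1)) := by
  refine exists_closedImm q hL (fun n hn t => ?_)
  have h1 : t ∈ AddSubgroup.closure {t | ∃ (m : (CohB1.tensorPow L n).val.obj (op ⊤)) (s : L.val.obj (op ⊤)),
      t = SecTwist.tmul (CohB1.tensorPow L n) L ⊤ m s} := by
    rw [hng n hn]; trivial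
  induction h1 using AddSubgroup.closure_induction with
  | mem t ht =>
    obtain ⟨m, s, rfl⟩ := ht
    exact Submodule.subset_span ⟨(m, s), rfl⟩
  | zero => exact Submodule.zero_mem _
  | add x y _ _ hx hy => exact Submodule.add_mem _ hx hy
  | neg x _ hx => exact Submodule.neg_mem _ hx

/-- the same with the hypothesis in the span form of the statements -/
theorem exists_closedImm'' [IsAffine Y] (q : X ⟶ Y) [IsProper q] {L : X.Modules} (hL : CohB1.IsAmple L)
    (hng : ∀ n : ℕ, 1 ≤ n → Submodule.span (X.ringCatSheaf.obj.obj (Opposite.op ⊤))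
        (Set.range (fun p : (CohB1.tensorPow L n).val.obj (Opposite.op ⊤) × L.val.obj (Opposite.op ⊤) =>
          SecTwist.tmul (CohB1.tensorPow L n) L ⊤ p.1 p.2)) = ⊤) :
    ∃ (N : ℕ) (i : X ⟶ CohB1.ProjSpaceOver N Y), IsClosedImmersion i ∧
      i ≫ pullback.snd (CohB1.ProjSpace.toSpec N (ULift.{u} ℤ)) (specULiftZIsTerminal.from Y) = q ∧
      Nonempty (L ≅ (Scheme.Modules.pullback i).obj (Twist.twistOver N Y 1)) := by
  refine exists_closedImm q hL (fun n hn t => ?_)
  have h1 := hng n hn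
  have h2 : t ∈ (⊤ : Submodule (X.ringCatSheaf.obj.obj (Opposite.op ⊤))
      ((CohB1.tensorMod (CohB1.tensorPow L n) L).val.obj (Opposite.op ⊤))) := trivial
  rw [← h1] at h2
  exact h2

end Groth.Agent.Lib.Helper4.VA4
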