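import Groth.Agent.Lib.Helper4.RV4
import Groth.Agent.Lib.Helper4.RV5
import Groth.Agent.Lib.Helper4.VA4
import Groth.Agent.Lib.Helper28.RestrictAmple
set_option autoImplicit false
set_option backward.isDefEq.respectTransparency.types false
set_option linter.unusedSectionVars false
set_option linter.style.haveILetI false

universe u
open CategoryTheory CategoryTheory.Limits AlgebraicGeometry Opposite TopologicalSpace

noncomputable section
namespace Groth.Agent.Lib.Helper4.RV6

/-- **relative very ampleness** over a Noetherian affine base when the fibres have dimension at most one and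
`H¹(X, O_X) = 0` -/
theorem main (A : Type u) [CommRing A] [IsNoetherianRing A] (X : Scheme.{u})
    (f : X ⟶ Spec (CommRingCat.of A)) [IsProper f]
    (h1 : Subsingleton (Coh.HH X (Coh.structureModule X) 1))
    (hfib : ∀ y : ↥(Spec (CommRingCat.of A)), topologicalKrullDim ↥(f.fiber y) ≤ 1)
    (L : X.Modules) (hL : RelAmple.IsRelAmple f L) :
    RelAmple.IsRelVeryAmplePn f L := by
  have hLa : CohB1.IsAmple L := by
    have h := hL.2 ⟨⊤, isAffineOpen_top _⟩
    exact Groth.Agent.Lib.Helper28.GenLocus.isAmple_of_isAmple_restrict_of_eq_top (f ⁻¹ᵁ ⊤) rfl h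
  haveI : CompactSpace X := QuasiCompact.compactSpace_of_compactSpace f
  have hgg := Groth.Agent.Lib.Helper4.RV4.isGloballyGenerated_of_isAmple A f h1 hfib hLa
  have hvan : ∀ K : X.Modules, K.IsQuasicoherent → Subsingleton (Coh.HH X K 2) :=
    fun K hK => Groth.Agent.Lib.Helper4.RV3.hvan A f hfib K hK
  obtain ⟨N, i, hi, hif, hiso⟩ := Groth.Agent.Lib.Helper4.VA4.exists_closedImm'' f hLa
    (fun n hn => Groth.Agent.Lib.Helper4.RV5.span_tmul_tensorPow hvan hLa.1 hgg h1 n hn)
  haveI := hi
  exact ⟨N, i, inferInstance, hif, hiso⟩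

end Groth.Agent.Lib.Helper4.RV6
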