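import Groth.Agent.Lib.Helper4.RV4
set_option autoImplicit false
set_option backward.isDefEq.respectTransparency.types false
set_option linter.unusedSectionVars false
set_option linter.style.haveILetI false
universe u
open CategoryTheory CategoryTheory.Limits AlgebraicGeometry Opposite TopologicalSpace

noncomputable section
namespace Groth.Agent.Lib.Helper4.RV7

open Groth.Agent.Lib.lead.FibOne Groth.Agent.Lib.Helper21.FibVan Groth.Agent.Lib.Helper2
  Groth.Agent.Lib.Helper2.HomExt Groth.Agent.Lib.Helper2.GSplit2 Groth.Agent.Lib.Helper4.RV1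
  Groth.Agent.Lib.Helper4.RV2 Groth.Agent.Lib.Helper4.RV3 Groth.Agent.Lib.Helper4.RV4
  Groth.Agent.Lib.Helper23.ProjF Groth.Agent.Lib.Helper28.PullbackInv

variable (A : Type u) [CommRing A] [IsNoetherianRing A] {X : Scheme.{u}}
  (f : X ⟶ Spec (CommRingCat.of A)) [IsProper f]
  (h1 : Subsingleton (Coh.HH X (Coh.structureModule X) 1))
  (hfib : ∀ y : ↥(Spec (CommRingCat.of A)), topologicalKrullDim ↥(f.fiber y) ≤ 1)

include h1 hfib in
/-- a globally generated invertible module on a closed fibre has no `H¹` -/
theorem subsingleton_H1_fiber_of_gg {L : X.Modules} (hL : PicF.IsInvertible L)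
    (y : ↥(Spec (CommRingCat.of A)))
    (hgg : Curv2.IsGloballyGenerated ((Scheme.Modules.pullback (f.fiberι y)).obj L)) :
    Subsingleton (Coh.HH (f.fiber y) ((Scheme.Modules.pullback (f.fiberι y)).obj L) 1) := by
  let κ : Type u := (Spec (CommRingCat.of A)).residueField y
  letI : (f.fiber y).Over (Spec (CommRingCat.of κ)) := ⟨f.fiberToSpecResidueField y⟩
  haveI : IsProper ((f.fiber y) ↘ Spec (CommRingCat.of κ)) := by
    show IsProper (f.fiberToSpecResidueField y)
    exact MorphismProperty.of_isPullback (P := @IsProper)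
      (IsPullback.of_hasPullback f ((Spec (CommRingCat.of A)).fromSpecResidueField y)) inferInstance
  have hO := subsingleton_H1_fiber A f h1 hfib y
  haveI := Groth.Agent.Lib.Helper2.G0GG.isNoetherian κ (f.fiber y)
  have hc := Groth.Agent.Lib.Helper6.K0Op.isCoh_of_isInvertible _
    (isInvertible_pullback (f.fiberι y) hL)
  exact Groth.Agent.Lib.Helper8.GGKill.subsingleton_H1_of_gg (hfib y) hO hc hgg

include h1 hfib in
theorem subsingleton_H1_tensor_push {L : X.Modules} (hL : PicF.IsInvertible L)
    (y : ↥(Spec (CommRingCat.of A))) (hy : IsClosed ({y} : Set ↥(Spec (CommRingCat.of A))))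
    (hgg : Curv2.IsGloballyGenerated ((Scheme.Modules.pullback (f.fiberι y)).obj L)) :
    Subsingleton (Coh.HH X ((TL L).obj (PM (f.fiberι y) (Coh.structureModule (f.fiber y)))) 1) := by
  haveI : IsClosedImmersion ((Spec (CommRingCat.of A)).fromSpecResidueField y) :=
    (isClosed_singleton_iff_isClosedImmersion).1 hy
  haveI : IsClosedImmersion (f.fiberι y) :=
    MorphismProperty.of_isPullback (P := @IsClosedImmersion)
      (IsPullback.of_hasPullback f ((Spec (CommRingCat.of A)).fromSpecResidueField y)).flip inferInstance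
  haveI : Coh.IsQCoh ((Scheme.Modules.pullback (f.fiberι y)).obj L) :=
    Groth.Agent.Lib.Helper28.InvQC.isQuasicoherent_of_isInvertible _
      (isInvertible_pullback (f.fiberι y) hL)
  obtain ⟨e⟩ := Groth.Agent.S0012.result (f.fiberι y) ((Scheme.Modules.pullback (f.fiberι y)).obj L) 1
  haveI := subsingleton_H1_fiber_of_gg A f h1 hfib hL y hgg
  have h2 : Subsingleton (Coh.HH X (PM (f.fiberι y) ((Scheme.Modules.pullback (f.fiberι y)).obj L)) 1) :=
    e.symm.toEquiv.subsingleton
  exact subsingleton_HH_of_iso (tensorPushIso (f.fiberι y) L hL) 1 h2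

section global

variable {L : X.Modules} (hL : PicF.IsInvertible L)
  (hgg : ∀ y : ↥(Spec (CommRingCat.of A)), IsClosed ({y} : Set ↥(Spec (CommRingCat.of A))) →
    Curv2.IsGloballyGenerated ((Scheme.Modules.pullback (f.fiberι y)).obj L))

include h1 hfib hL hgg in
theorem subsingleton_H1_tensor_unit :
    Subsingleton (Coh.HH X ((TL L).obj (Coh.structureModule X)) 1) :=
  subsingleton_HH_of_closedFibres A f 1 (hvan A f hfib) L
    (Groth.Agent.Lib.Helper6.K0Op.isCoh_of_isInvertible L hL)
    (fun y hy => subsingleton_H1_tensor_push A f h1 hfib hL y hy (hgg y hy))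

include h1 hfib hL hgg in
/-- **`H¹(X, L) = 0`** for an invertible module globally generated on the closed fibres -/
theorem subsingleton_H1 : Subsingleton (Coh.HH X L 1) :=
  subsingleton_HH_of_iso (SecTwist.unitorR L).symm 1 (subsingleton_H1_tensor_unit A f h1 hfib hL hgg)

include h1 hfib hL hgg in
/-- **an invertible module globally generated on the closed fibres is globally generated** -/
theorem isGloballyGenerated : Curv2.IsGloballyGenerated L := by
  apply Groth.Agent.Lib.Helper8.GGPoint.isGloballyGenerated_of_forall_mem_genLocus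
  by_contra hcon
  push Not at hcon
  haveI : CompactSpace X := QuasiCompact.compactSpace_of_compactSpace f
  haveI : QuasiSeparatedSpace X := quasiSeparatedSpace_of_quasiSeparated f
  let W : Set X := ⋂ s : Coh.structureModule X ⟶ L, ((CohB1.genLocus L s : Set X))ᶜ
  have hW : IsClosed W := isClosed_iInter fun s => (CohB1.genLocus L s).isOpen.isClosed_compl
  have hWne : W.Nonempty := by
    obtain ⟨x, hx⟩ := hcon
    exact ⟨x, Set.mem_iInter.2 fun s => hx s⟩
  have hfW : IsClosed (f '' W) := f.isClosedMap W hW
  obtain ⟨y, ⟨x, hxW, rfl⟩, hy⟩ := exists_isClosed_singleton_mem (A := A) (f '' W) hfW (hWne.image _)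
  have hcf := isClosedFibre_fiber A f (f x) hy
  haveI : IsClosedImmersion ((Spec (CommRingCat.of A)).fromSpecResidueField (f x)) :=
    (isClosed_singleton_iff_isClosedImmersion).1 hy
  haveI : IsClosedImmersion (f.fiberι (f x)) :=
    MorphismProperty.of_isPullback (P := @IsClosedImmersion)
      (IsPullback.of_hasPullback f ((Spec (CommRingCat.of A)).fromSpecResidueField (f x))).flip inferInstance
  obtain ⟨T, hT⟩ := Groth.Agent.Lib.Helper17.GGStalk.exists_mem_genLocus _
    (isInvertible_pullback (f.fiberι (f x)) hL) (hgg (f x) hy) (f.asFiber x)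
  obtain ⟨s, hs⟩ := exists_section_pbSec hcf L hL (hvan A f hfib)
    (subsingleton_H1_tensor_unit A f h1 hfib hL hgg) T
  rw [← hs, genLocus_pbSec (f.fiberι (f x)) hL s] at hT
  have hx : f.fiberι (f x) (f.asFiber x) ∈ CohB1.genLocus L s := hT
  rw [f.fiberι_asFiber] at hx
  exact (Set.mem_iInter.1 hxW s) hx

end global

end Groth.Agent.Lib.Helper4.RV7
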