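import Mathlib.Tactic
import Mathlib.Algebra.Group.Units.Hom
import Mathlib.Algebra.Ring.Units

namespace Groth.Agent.Lib.Helper4.RankOne

/-- Abstract rank-one data: a group `Γ` (points of `G`), a commutative ring `A` (global
functions), a group `Tt` (points of the torus), root groups `P`, `M`, the inclusion `I`, the root
`χ`, the coroot `h`, with the torus action and the commutation formula (F). -/
structure Data (Γ A Tt : Type*) [Group Γ] [CommRing A] [Group Tt] where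
  P : A → Γ
  M : A → Γ
  I : Tt →* Γ
  χ : Tt →* Aˣ
  h : Aˣ →* Tt
  P_add : ∀ a b, P (a + b) = P a * P b
  M_add : ∀ a b, M (a + b) = M a * M b
  χ_h : ∀ u, χ (h u) = u ^ 2
  conjP : ∀ t a, I t * P a * (I t)⁻¹ = P (χ t * a)
  conjM : ∀ t b, I t * M b * (I t)⁻¹ = M (↑(χ t)⁻¹ * b)
  comm : ∀ a b (u : Aˣ), (u : A) = 1 + a * b →
    P a * M b = M (b * ↑u⁻¹) * I (h u) * P (a * ↑u⁻¹)

namespace Data

variable {Γ A Tt : Type*} [Group Γ] [CommRing A] [Group Tt] (D : Data Γ A Tt)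

theorem P_zero : D.P 0 = 1 := by
  have h := D.P_add 0 0
  rw [add_zero] at h
  exact left_eq_mul.mp h

theorem M_zero : D.M 0 = 1 := by
  have h := D.M_add 0 0
  rw [add_zero] at h
  exact left_eq_mul.mp h

theorem P_neg (a : A) : D.P (-a) = (D.P a)⁻¹ := by
  have h := D.P_add (-a) a
  rw [neg_add_cancel, P_zero] at h
  exact eq_inv_of_mul_eq_one_left h.symm

theorem M_neg (a : A) : D.M (-a) = (D.M a)⁻¹ := by
  have h := D.M_add (-a) a
  rw [neg_add_cancel, M_zero] at h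
  exact eq_inv_of_mul_eq_one_left h.symm

/-- the coroot into `Γ` -/
def H (u : Aˣ) : Γ := D.I (D.h u)

theorem H_mul (u v : Aˣ) : D.H (u * v) = D.H u * D.H v := by
  simp only [H, map_mul]

theorem H_one : D.H 1 = 1 := by
  simp only [H, map_one]

theorem H_inv (u : Aˣ) : D.H u⁻¹ = (D.H u)⁻¹ := by
  simp only [H, map_inv]

theorem IP (t : Tt) (a : A) : D.I t * D.P a = D.P (D.χ t * a) * D.I t := by
  rw [← D.conjP, inv_mul_cancel_right]

theorem IM (t : Tt) (b : A) : D.I t * D.M b = D.M (↑(D.χ t)⁻¹ * b) * D.I t := by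
  rw [← D.conjM, inv_mul_cancel_right]

theorem PI (t : Tt) (a : A) : D.P a * D.I t = D.I t * D.P (↑(D.χ t)⁻¹ * a) := by
  rw [IP, ← mul_assoc, Units.mul_inv, one_mul]

theorem MI (t : Tt) (b : A) : D.M b * D.I t = D.I t * D.M (D.χ t * b) := by
  rw [IM, ← mul_assoc, Units.inv_mul, one_mul]

theorem HP (u : Aˣ) (a : A) : D.H u * D.P a = D.P (u ^ 2 * a) * D.H u := by
  rw [H, IP, D.χ_h, Units.val_pow_eq_pow_val]

theorem HM (u : Aˣ) (b : A) : D.H u * D.M b = D.M (↑(u⁻¹) ^ 2 * b) * D.H u := by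
  rw [H, IM, D.χ_h, ← inv_pow, Units.val_pow_eq_pow_val]

theorem PH (u : Aˣ) (a : A) : D.P a * D.H u = D.H u * D.P (↑(u⁻¹) ^ 2 * a) := by
  rw [H, PI, D.χ_h, ← inv_pow, Units.val_pow_eq_pow_val]

theorem MH (u : Aˣ) (b : A) : D.M b * D.H u = D.H u * D.M (u ^ 2 * b) := by
  rw [H, MI, D.χ_h, Units.val_pow_eq_pow_val]

/-- the commutation formula (F) -/
theorem PM (a b : A) (u : Aˣ) (hu : (u : A) = 1 + a * b) :
    D.P a * D.M b = D.M (b * ↑u⁻¹) * D.H u * D.P (a * ↑u⁻¹) := D.comm a b u hu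

/-- the reversed commutation formula -/
theorem MP (a b : A) (u : Aˣ) (hu : (u : A) = 1 + a * b) :
    D.M b * D.P a = D.P (a * ↑u⁻¹) * (D.H u)⁻¹ * D.M (b * ↑u⁻¹) := by
  have h := D.PM (-a) (-b) u (by rw [hu]; ring)
  have h2 := congrArg (fun g => g⁻¹) h
  simp only [mul_inv_rev, neg_mul, P_neg, M_neg, inv_inv] at h2
  rw [h2, mul_assoc]


/-- the Weyl element attached to a unit -/
def w (a : Aˣ) : Γ := D.P a * D.M (-↑a⁻¹) * D.P a

theorem w_inv (a : Aˣ) : (D.w a)⁻¹ = D.w (-a) := by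
  have h1 : (-(↑(-a)⁻¹ : A)) = -(-(↑a⁻¹ : A)) := by
    rw [inv_neg, Units.val_neg]
  simp only [w, mul_inv_rev, ← P_neg, ← M_neg, Units.val_neg, h1, mul_assoc]

theorem P_congr {a b : A} (h : a = b) : D.P a = D.P b := by rw [h]

theorem M_congr {a b : A} (h : a = b) : D.M a = D.M b := by rw [h]

/-- `w a * (w b)⁻¹ = H (a / b)` -/
theorem w_mul_w_inv (a b : Aˣ) : D.w a * (D.w b)⁻¹ = D.H (a * b⁻¹) := by
  have ha := a.mul_inv
  have hb := b.mul_inv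
  have ha' := a.inv_mul
  have hb' := b.inv_mul
  set u : Aˣ := a * b⁻¹ with hu
  have hu1 : (u : A) = ↑a * ↑b⁻¹ := by rw [hu, Units.val_mul]
  have hu2 : (↑u⁻¹ : A) = ↑b * ↑a⁻¹ := by rw [hu, mul_inv_rev, inv_inv, Units.val_mul]
  have key := D.PM (↑a - ↑b) (↑b⁻¹) u (by rw [hu1]; grind)
  have e1 : (↑b⁻¹ : A) * ↑u⁻¹ = ↑a⁻¹ := by rw [hu2]; grind
  rw [e1] at key
  calc D.w a * (D.w b)⁻¹
      = D.P a * D.M (-↑a⁻¹) * (D.P a * D.P (-↑b)) * D.M (↑b⁻¹) * D.P (-↑b) := by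
        rw [w_inv]
        have h1 : (-(↑(-b)⁻¹ : A)) = ↑b⁻¹ := by rw [inv_neg, Units.val_neg, neg_neg]
        simp only [w, Units.val_neg, h1, mul_assoc]
    _ = D.P a * D.M (-↑a⁻¹) * (D.P (↑a - ↑b) * D.M (↑b⁻¹)) * D.P (-↑b) := by
        rw [← D.P_add, ← sub_eq_add_neg]
        simp only [mul_assoc]
    _ = D.P a * (D.M (-↑a⁻¹) * D.M (↑a⁻¹)) * D.H u * (D.P ((↑a - ↑b) * ↑u⁻¹) * D.P (-↑b)) := by
        rw [key]
        simp only [mul_assoc]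
    _ = D.P a * (D.H u * D.P (-(↑b ^ 2 * ↑a⁻¹))) := by
        rw [← D.M_add, neg_add_cancel, D.M_zero, mul_one, ← D.P_add, mul_assoc]
        congr 2
        apply D.P_congr
        rw [hu2]
        grind
    _ = D.P a * (D.P (-↑a) * D.H u) := by
        rw [D.HP]
        congr 2
        apply D.P_congr
        rw [hu1]
        grind
    _ = D.H u := by
        rw [← mul_assoc, ← D.P_add, add_neg_cancel, D.P_zero, one_mul]


/-- `(w b)⁻¹ * w a = H (b / a)` -/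
theorem w_inv_mul_w (a b : Aˣ) : (D.w b)⁻¹ * D.w a = D.H (b * a⁻¹) := by
  have ha := a.mul_inv
  have hb := b.mul_inv
  have ha' := a.inv_mul
  have hb' := b.inv_mul
  set v : Aˣ := b * a⁻¹ with hv
  have hv1 : (v : A) = ↑b * ↑a⁻¹ := by rw [hv, Units.val_mul]
  have hv2 : (↑v⁻¹ : A) = ↑a * ↑b⁻¹ := by rw [hv, mul_inv_rev, inv_inv, Units.val_mul]
  have key := D.PM (↑a - ↑b) (-↑a⁻¹) v (by rw [hv1]; grind)
  have e1 : (-(↑a⁻¹ : A)) * ↑v⁻¹ = -↑b⁻¹ := by rw [hv2]; grind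
  rw [e1] at key
  calc (D.w b)⁻¹ * D.w a
      = D.P (-↑b) * D.M (↑b⁻¹) * (D.P (-↑b) * D.P a) * D.M (-↑a⁻¹) * D.P a := by
        rw [w_inv]
        have h1 : (-(↑(-b)⁻¹ : A)) = ↑b⁻¹ := by rw [inv_neg, Units.val_neg, neg_neg]
        simp only [w, Units.val_neg, h1, mul_assoc]
    _ = D.P (-↑b) * D.M (↑b⁻¹) * (D.P (↑a - ↑b) * D.M (-↑a⁻¹)) * D.P a := by
        rw [← D.P_add, neg_add_eq_sub]
        simp only [mul_assoc]
    _ = D.P (-↑b) * (D.M (↑b⁻¹) * D.M (-↑b⁻¹)) * D.H v * (D.P ((↑a - ↑b) * ↑v⁻¹) * D.P a) := by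
        rw [key]
        simp only [mul_assoc]
    _ = D.P (-↑b) * (D.H v * D.P (↑a ^ 2 * ↑b⁻¹)) := by
        rw [← D.M_add, add_neg_cancel, D.M_zero, mul_one, ← D.P_add, mul_assoc]
        congr 2
        apply D.P_congr
        rw [hv2]
        grind
    _ = D.P (-↑b) * (D.P (↑b) * D.H v) := by
        rw [D.HP]
        congr 2
        apply D.P_congr
        rw [hv1]
        grind
    _ = D.H v := by
        rw [← mul_assoc, ← D.P_add, neg_add_cancel, D.P_zero, one_mul]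

/-- `w (z a) = H z * w a` -/
theorem w_smul (z a : Aˣ) : D.w (z * a) = D.H z * D.w a := by
  have h := D.w_mul_w_inv (z * a) a
  rw [mul_inv_cancel_right] at h
  rw [← h, inv_mul_cancel_right]

/-- `w (z a) = w a * (H z)⁻¹` -/
theorem w_smul' (z a : Aˣ) : D.w (z * a) = D.w a * (D.H z)⁻¹ := by
  have h := D.w_inv_mul_w (z * a) a
  rw [mul_inv_rev, mul_inv_cancel_left] at h
  rw [← D.H_inv, ← h, mul_inv_cancel_left]

/-- the Weyl element inverts the coroot -/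
theorem w_conj_H (a z : Aˣ) : D.w a * D.H z * (D.w a)⁻¹ = (D.H z)⁻¹ := by
  have h1 := D.w_smul z a
  have h2 := D.w_smul' z a
  rw [h1] at h2
  -- H z * w a = w a * (H z)⁻¹
  have h3 : D.w a * D.H z = (D.H z)⁻¹ * D.w a := by
    have : D.H z⁻¹ * D.w a = D.w a * (D.H z⁻¹)⁻¹ := by
      have h1' := D.w_smul z⁻¹ a
      have h2' := D.w_smul' z⁻¹ a
      rw [h1'] at h2'
      exact h2'
    rw [D.H_inv, inv_inv] at this
    exact this.symm
  rw [h3, mul_inv_cancel_right]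

theorem w_sq (a : Aˣ) : D.w a * D.w a = D.H (-1) := by
  have h := D.w_mul_w_inv a (-a)
  rw [D.w_inv, neg_neg] at h
  rw [h]
  congr 1
  rw [inv_neg, mul_neg, mul_inv_cancel]

theorem w_mul_w (a b : Aˣ) : D.w a * D.w b = D.H (-(a * b⁻¹)) := by
  have h := D.w_mul_w_inv a (-b)
  rw [D.w_inv, neg_neg] at h
  rw [h]
  congr 1
  rw [inv_neg, mul_neg]


/-- the coroot as a product of root elements (SGA3 XX 2.7 type formula) -/
theorem H_formula (z : Aˣ) :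
    D.H z = D.M ((1 - ↑z) * ↑z⁻¹) * D.P 1 * D.M (↑z - 1) * D.P (-↑z⁻¹) := by
  have hz := z.mul_inv
  have key := D.PM 1 (↑z - 1) z (by ring)
  calc D.H z = D.M ((1 - ↑z) * ↑z⁻¹) * (D.M ((↑z - 1) * ↑z⁻¹) * D.H z * D.P (1 * ↑z⁻¹)) *
        D.P (-↑z⁻¹) := by
        rw [one_mul]
        have e1 : D.M ((1 - ↑z) * ↑z⁻¹) * (D.M ((↑z - 1) * ↑z⁻¹) * D.H z * D.P (↑z⁻¹)) *
            D.P (-↑z⁻¹) = (D.M ((1 - ↑z) * ↑z⁻¹) * D.M ((↑z - 1) * ↑z⁻¹)) * D.H z *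
              (D.P (↑z⁻¹) * D.P (-↑z⁻¹)) := by simp only [mul_assoc]
        rw [e1, ← D.M_add, ← D.P_add, add_neg_cancel, D.P_zero, mul_one]
        have e2 : (1 - (z : A)) * ↑z⁻¹ + (↑z - 1) * ↑z⁻¹ = 0 := by ring
        rw [e2, D.M_zero, one_mul]
    _ = D.M ((1 - ↑z) * ↑z⁻¹) * D.P 1 * D.M (↑z - 1) * D.P (-↑z⁻¹) := by
        rw [← key]
        simp only [mul_assoc]

/-- points of the torus commute with the coroot -/
theorem I_comm_H (t : Tt) (z : Aˣ) : D.I t * D.H z = D.H z * D.I t := by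
  have hz := z.mul_inv
  have hc := (D.χ t).mul_inv
  have hc' := (D.χ t).inv_mul
  set c : A := ↑(D.χ t) with hcdef
  set c' : A := ↑(D.χ t)⁻¹ with hc'def
  have key := D.PM c (c' * (↑z - 1)) z (by grind)
  rw [D.H_formula z]
  calc D.I t * (D.M ((1 - ↑z) * ↑z⁻¹) * D.P 1 * D.M (↑z - 1) * D.P (-↑z⁻¹))
      = D.M (c' * ((1 - ↑z) * ↑z⁻¹)) * D.P (c * 1) * D.M (c' * (↑z - 1)) * D.P (c * -↑z⁻¹) *
          D.I t := by
        have e : D.I t * (D.M ((1 - ↑z) * ↑z⁻¹) * D.P 1 * D.M (↑z - 1) * D.P (-↑z⁻¹)) =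
            D.I t * D.M ((1 - ↑z) * ↑z⁻¹) * D.P 1 * D.M (↑z - 1) * D.P (-↑z⁻¹) := by
          simp only [mul_assoc]
        rw [e, D.IM, mul_assoc (D.M _) (D.I t), D.IP, ← mul_assoc, mul_assoc _ (D.I t) (D.M _),
          D.IM, ← mul_assoc, mul_assoc _ (D.I t) (D.P _), D.IP, ← mul_assoc]
    _ = D.M (c' * ((1 - ↑z) * ↑z⁻¹)) * (D.M (c' * (↑z - 1) * ↑z⁻¹) * D.H z * D.P (c * ↑z⁻¹)) *
          D.P (c * -↑z⁻¹) * D.I t := by
        rw [mul_one, ← key]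
        simp only [mul_assoc]
    _ = D.H z * D.I t := by
        have e1 : D.M (c' * ((1 - ↑z) * ↑z⁻¹)) * (D.M (c' * (↑z - 1) * ↑z⁻¹) * D.H z *
            D.P (c * ↑z⁻¹)) * D.P (c * -↑z⁻¹) * D.I t =
            (D.M (c' * ((1 - ↑z) * ↑z⁻¹)) * D.M (c' * (↑z - 1) * ↑z⁻¹)) * D.H z *
            (D.P (c * ↑z⁻¹) * D.P (c * -↑z⁻¹)) * D.I t := by simp only [mul_assoc]
        rw [e1, ← D.M_add, ← D.P_add]
        have e2 : c' * ((1 - (z : A)) * ↑z⁻¹) + c' * (↑z - 1) * ↑z⁻¹ = 0 := by ring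
        have e3 : c * (↑z⁻¹ : A) + c * -↑z⁻¹ = 0 := by ring
        rw [e2, e3, D.M_zero, D.P_zero, one_mul, mul_one]
    _ = D.M ((1 - ↑z) * ↑z⁻¹) * D.P 1 * D.M (↑z - 1) * D.P (-↑z⁻¹) * D.I t := by
        rw [← D.H_formula z]


theorem w_mul_I (a : Aˣ) (t : Tt) : D.w a * D.I t = D.I t * D.w ((D.χ t)⁻¹ * a) := by
  have e1 : (-(↑((D.χ t)⁻¹ * a)⁻¹ : A)) = ↑(D.χ t) * -↑a⁻¹ := by
    rw [mul_inv_rev, inv_inv, Units.val_mul]
    ring
  calc D.w a * D.I t = D.P a * D.M (-↑a⁻¹) * (D.P a * D.I t) := by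
        simp only [w, mul_assoc]
    _ = D.P a * (D.M (-↑a⁻¹) * D.I t) * D.P (↑(D.χ t)⁻¹ * ↑a) := by
        rw [D.PI]
        simp only [mul_assoc]
    _ = (D.P a * D.I t) * D.M (↑(D.χ t) * -↑a⁻¹) * D.P (↑(D.χ t)⁻¹ * ↑a) := by
        rw [D.MI]
        simp only [mul_assoc]
    _ = D.I t * D.w ((D.χ t)⁻¹ * a) := by
        rw [D.PI, w, e1, Units.val_mul]
        simp only [mul_assoc]

/-- the Weyl element acts on the torus by the reflection `t ↦ t * h(χ t)⁻¹` -/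
theorem w_conj_I (a : Aˣ) (t : Tt) :
    D.w a * D.I t * (D.w a)⁻¹ = (D.H (D.χ t))⁻¹ * D.I t := by
  rw [D.w_mul_I, D.w_smul, D.H_inv, mul_assoc, mul_assoc, mul_inv_cancel, mul_one,
    ← D.H_inv, D.I_comm_H]

/-- product of two elements of the big cell (SGA3 XX 2.x) -/
theorem bigCell_mul (x y x' y' y₂ x₂ : A) (t t' : Tt) (z : Aˣ)
    (hz : (z : A) = 1 + x * y')
    (hy₂ : (y₂ - y) * ↑z * ↑(D.χ t) = y')
    (hx₂ : (x₂ - x') * ↑z * ↑(D.χ t') = x) :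
    (D.M y * D.I t * D.P x) * (D.M y' * D.I t' * D.P x') =
      D.M y₂ * D.I (t * D.h z * t') * D.P x₂ := by
  have hzi := z.mul_inv
  have hc := (D.χ t).mul_inv
  have hc' := (D.χ t').mul_inv
  have key := D.PM x y' z hz
  calc (D.M y * D.I t * D.P x) * (D.M y' * D.I t' * D.P x')
      = D.M y * D.I t * (D.P x * D.M y') * D.I t' * D.P x' := by simp only [mul_assoc]
    _ = D.M y * (D.I t * D.M (y' * ↑z⁻¹)) * D.H z * (D.P (x * ↑z⁻¹) * D.I t') * D.P x' := by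
        rw [key]
        simp only [mul_assoc]
    _ = (D.M y * D.M (↑(D.χ t)⁻¹ * (y' * ↑z⁻¹))) * (D.I t * D.H z * D.I t') *
          (D.P (↑(D.χ t')⁻¹ * (x * ↑z⁻¹)) * D.P x') := by
        rw [D.IM, D.PI]
        simp only [mul_assoc]
    _ = D.M y₂ * D.I (t * D.h z * t') * D.P x₂ := by
        have e1 : D.M (y + ↑(D.χ t)⁻¹ * (y' * ↑z⁻¹)) = D.M y₂ := D.M_congr (by grind)
        have e2 : D.P (↑(D.χ t')⁻¹ * (x * ↑z⁻¹) + x') = D.P x₂ := D.P_congr (by grind)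
        rw [← D.M_add, ← D.P_add, e1, e2, H, map_mul, map_mul]

end Data

end Groth.Agent.Lib.Helper4.RankOne
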