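import Mathlib.Tactic
import Mathlib.Algebra.Group.Units.Hom
import Mathlib.Algebra.Ring.Units
import Groth.Agent.Lib.Helper4.RankOne

namespace Groth.Agent.Lib.Helper4.RankOne

namespace Data

variable {Γ A Tt : Type*} [Group Γ] [CommRing A] [Group Tt] (D : Data Γ A Tt)

/-- The Steinberg relation `w(a) P(c) w(a)⁻¹ = M(-c/a²)` when `a - c` is a unit. -/
theorem steinberg (a d : Aˣ) (c : A) (hd : (d : A) = ↑a - c) :
    D.w a * D.P c * (D.w a)⁻¹ = D.M (-c * (↑a⁻¹) ^ 2) := by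
  have ha := a.mul_inv
  have hdi := d.mul_inv
  set u : Aˣ := d * a⁻¹ with hu
  have hu1 : (u : A) = ↑d * ↑a⁻¹ := by rw [hu, Units.val_mul]
  have hu2 : (↑u⁻¹ : A) = ↑a * ↑d⁻¹ := by rw [hu, mul_inv_rev, inv_inv, Units.val_mul]
  have hu3 : u⁻¹ = a * d⁻¹ := by rw [hu, mul_inv_rev, inv_inv]
  -- step 1: `M(-a⁻¹) P(c)`
  have k1 := D.MP c (-↑a⁻¹) u (by rw [hu1, hd]; grind)
  -- step 2: `P(a² d⁻¹) M(-c d a⁻³)`
  have k2 := D.PM (↑a ^ 2 * ↑d⁻¹) (-c * ↑d * (↑a⁻¹) ^ 3) u (by rw [hu1, hd]; grind)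
  have hinv : (D.w a)⁻¹ = D.P (-↑a) * D.M (↑a⁻¹) * D.P (-↑a) := by
    rw [w_inv, w]
    have h1 : (-(↑(-a)⁻¹ : A)) = ↑a⁻¹ := by rw [inv_neg, Units.val_neg, neg_neg]
    rw [h1, Units.val_neg]
  calc D.w a * D.P c * (D.w a)⁻¹
      = D.P a * (D.M (-↑a⁻¹) * D.P c) * (D.P a * D.P (-↑a)) * D.M (↑a⁻¹) * D.P (-↑a) := by
        rw [hinv, w]
        have : D.P (↑a) * D.P c = D.P c * D.P ↑a := by rw [← D.P_add, ← D.P_add, add_comm]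
        simp only [mul_assoc]
        rw [← mul_assoc (D.P ↑a) (D.P c), this]
        simp only [mul_assoc]
    _ = D.P a * (D.P (c * ↑u⁻¹) * (D.H u)⁻¹ * D.M (-↑a⁻¹ * ↑u⁻¹)) * D.M (↑a⁻¹) * D.P (-↑a) := by
        rw [k1, ← D.P_add, add_neg_cancel, D.P_zero, mul_one]
    _ = (D.P a * D.P (c * ↑u⁻¹)) * D.H u⁻¹ * (D.M (-↑a⁻¹ * ↑u⁻¹) * D.M (↑a⁻¹)) * D.P (-↑a) := by
        rw [D.H_inv]
        simp only [mul_assoc]
    _ = D.P (↑a ^ 2 * ↑d⁻¹) * (D.H u⁻¹ * D.M (-c * ↑a⁻¹ * ↑d⁻¹)) * D.P (-↑a) := by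
        rw [← D.P_add, ← D.M_add]
        have e1 : (a : A) + c * ↑u⁻¹ = ↑a ^ 2 * ↑d⁻¹ := by rw [hu2]; grind
        have e2 : -(↑a⁻¹ : A) * ↑u⁻¹ + ↑a⁻¹ = -c * ↑a⁻¹ * ↑d⁻¹ := by rw [hu2]; grind
        rw [e1, e2]
        simp only [mul_assoc]
    _ = D.P (↑a ^ 2 * ↑d⁻¹) * D.M (-c * ↑d * (↑a⁻¹) ^ 3) * (D.H u⁻¹ * D.P (-↑a)) := by
        rw [D.HM, inv_inv]
        have e3 : (u : A) ^ 2 * (-c * ↑a⁻¹ * ↑d⁻¹) = -c * ↑d * (↑a⁻¹) ^ 3 := by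
          rw [hu1]; grind
        rw [e3]
        simp only [mul_assoc]
    _ = (D.M (-c * ↑d * (↑a⁻¹) ^ 3 * ↑u⁻¹) * D.H u * D.P (↑a ^ 2 * ↑d⁻¹ * ↑u⁻¹)) *
          (D.P (↑(u⁻¹) ^ 2 * -↑a) * D.H u⁻¹) := by
        rw [k2, D.HP]
    _ = D.M (-c * (↑a⁻¹) ^ 2) * D.H u * (D.P (↑a ^ 2 * ↑d⁻¹ * ↑u⁻¹) * D.P (↑(u⁻¹) ^ 2 * -↑a)) *
          D.H u⁻¹ := by
        have e4 : -c * (d : A) * (↑a⁻¹) ^ 3 * ↑u⁻¹ = -c * (↑a⁻¹) ^ 2 := by rw [hu2]; grind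
        rw [e4]
        simp only [mul_assoc]
    _ = D.M (-c * (↑a⁻¹) ^ 2) := by
        rw [← D.P_add]
        have e5 : (a : A) ^ 2 * ↑d⁻¹ * ↑u⁻¹ + ↑(u⁻¹) ^ 2 * -↑a = 0 := by rw [hu2]; grind
        rw [e5, D.P_zero, mul_one, mul_assoc, ← D.H_mul, mul_inv_cancel, D.H_one, mul_one]


/-- If the ring has a unit `s` with `1 - s` a unit, then `w(a) P(a) w(a)⁻¹ = M(-1/a)`. -/
theorem steinberg_self (s s' : Aˣ) (hs : (s' : A) = 1 - ↑s) (a : Aˣ) :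
    D.w a * D.P a * (D.w a)⁻¹ = D.M (-↑a⁻¹) := by
  have ha := a.mul_inv
  have h1 := D.steinberg a (a * s') (↑a * ↑s) (by rw [Units.val_mul, hs]; ring)
  have h2 := D.steinberg a (a * s) (↑a * ↑s') (by rw [Units.val_mul, hs]; ring)
  have e : (a : A) = ↑a * ↑s + ↑a * ↑s' := by rw [hs]; ring
  calc D.w a * D.P a * (D.w a)⁻¹
      = D.w a * (D.P (↑a * ↑s) * D.P (↑a * ↑s')) * (D.w a)⁻¹ := by rw [← D.P_add, ← e]
    _ = (D.w a * D.P (↑a * ↑s) * (D.w a)⁻¹) * (D.w a * D.P (↑a * ↑s') * (D.w a)⁻¹) := by group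
    _ = D.M (-↑a⁻¹) := by
        rw [h1, h2, ← D.M_add]
        apply D.M_congr
        rw [hs]
        grind

/-- the relation `w(a) P(a) w(a)⁻¹ = M(-1/a)` descends along an injective map of data -/
theorem steinberg_self_of_cover {Γ' A' Tt' : Type*} [Group Γ'] [CommRing A'] [Group Tt']
    (D' : Data Γ' A' Tt') (φ : Γ →* Γ') (hφ : Function.Injective φ) (f : A →+* A')
    (hP : ∀ a, φ (D.P a) = D'.P (f a)) (hM : ∀ b, φ (D.M b) = D'.M (f b))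
    (s s' : A'ˣ) (hs : (s' : A') = 1 - ↑s) (a : Aˣ) :
    D.w a * D.P a * (D.w a)⁻¹ = D.M (-↑a⁻¹) := by
  apply hφ
  have hw : φ (D.w a) = D'.w (Units.map (f : A →* A') a) := by
    rw [w, w, map_mul, map_mul, hP, hM, map_neg]
    rfl
  rw [map_mul, map_mul, map_inv, hw, hP, hM, map_neg]
  exact D'.steinberg_self s s' hs (Units.map (f : A →* A') a)

/-- the braid relation, given the Steinberg relation -/
theorem braid_of_steinberg (a : Aˣ) (h : D.w a * D.P a * (D.w a)⁻¹ = D.M (-↑a⁻¹)) :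
    D.P a * D.M (-↑a⁻¹) * D.P a = D.M (-↑a⁻¹) * D.P a * D.M (-↑a⁻¹) := by
  have h1 : D.w a * D.P a = D.M (-↑a⁻¹) * D.w a := by
    rw [← h, inv_mul_cancel_right]
  rw [w] at h1
  have h2 : D.P a * D.M (-↑a⁻¹) * D.P a * D.P a = D.M (-↑a⁻¹) * D.P a * D.M (-↑a⁻¹) * D.P a := by
    rw [h1]
    simp only [mul_assoc]
  exact mul_right_cancel h2

theorem cube_of_steinberg (a : Aˣ) (h : D.w a * D.P a * (D.w a)⁻¹ = D.M (-↑a⁻¹)) :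
    (D.w a * D.P a) ^ 3 = 1 := by
  have hb := D.braid_of_steinberg a h
  -- Δ p = n Δ, Δ n = p Δ
  have h1 : D.w a * D.P a = D.M (-↑a⁻¹) * D.w a := by
    rw [← h, inv_mul_cancel_right]
  have h2 : D.w a * D.M (-↑a⁻¹) = D.P a * D.w a := by
    rw [w]
    calc D.P a * D.M (-↑a⁻¹) * D.P a * D.M (-↑a⁻¹)
        = D.P a * (D.M (-↑a⁻¹) * D.P a * D.M (-↑a⁻¹)) := by simp only [mul_assoc]
      _ = D.P a * (D.P a * D.M (-↑a⁻¹) * D.P a) := by rw [hb]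
  have h4 : D.w a * D.w a * (D.w a * D.w a) = 1 := by
    rw [D.w_sq, ← D.H_mul, neg_mul_neg, one_mul, D.H_one]
  calc (D.w a * D.P a) ^ 3
      = D.w a * D.P a * (D.w a * D.P a) * (D.w a * D.P a) := by rw [pow_succ, pow_two]
    _ = D.M (-↑a⁻¹) * D.w a * (D.M (-↑a⁻¹) * D.w a) * (D.M (-↑a⁻¹) * D.w a) := by rw [h1]
    _ = D.M (-↑a⁻¹) * (D.w a * D.M (-↑a⁻¹)) * (D.w a * D.M (-↑a⁻¹)) * D.w a := by
        simp only [mul_assoc]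
    _ = D.M (-↑a⁻¹) * (D.P a * D.w a) * (D.P a * D.w a) * D.w a := by rw [h2]
    _ = D.M (-↑a⁻¹) * D.P a * (D.w a * D.P a) * D.w a * D.w a := by simp only [mul_assoc]
    _ = D.M (-↑a⁻¹) * D.P a * (D.M (-↑a⁻¹) * D.w a) * D.w a * D.w a := by rw [h1]
    _ = (D.M (-↑a⁻¹) * D.P a * D.M (-↑a⁻¹)) * D.w a * D.w a * D.w a := by simp only [mul_assoc]
    _ = D.w a * D.w a * (D.w a * D.w a) := by
        rw [← hb, ← w]
        simp only [mul_assoc]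
    _ = 1 := h4

end Data

end Groth.Agent.Lib.Helper4.RankOne
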