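import Mathlib.Tactic
import Mathlib.AlgebraicGeometry.Group.Affine
import Groth.Prelude.Def_GmPts
import Groth.Agent.Lib.Helper4.GaPts
import Groth.Agent.Lib.Helper4.RankOne

universe u

open CategoryTheory CategoryTheory.Limits MonoidalCategory CartesianMonoidalCategory MonObj GrpObj
  AlgebraicGeometry Opposite

noncomputable section

namespace Groth.Agent.Lib.Helper4.RankOneSch

open Groth.Agent.Lib.Helper4 Groth.Agent.Lib.Helper4.RankOne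

section aux

variable {S : Scheme.{u}} {G T : Over S} [GrpObj G]

theorem conjP_aux (i : T ⟶ G) (α : T ⟶ Red.Gm S) (pp : Red.Ga S ⟶ G)
    (hpp : ∀ (X : Over S) (t : X ⟶ T) (x : X ⟶ Red.Ga S), ∃ x' : X ⟶ Red.Ga S,
      x' ≫ pp = (t ≫ i) * (x ≫ pp) * (t ≫ i)⁻¹ ∧ Red.gaFn x' = Red.gmFn (t ≫ α) * Red.gaFn x)
    (X : Over S) (t : X ⟶ T) (a : Γ(X.left, ⊤)) :
    (t ≫ i) * (GaPts.ptOfFn a ≫ pp) * (t ≫ i)⁻¹ =
      GaPts.ptOfFn (Red.gmFn (t ≫ α) * a) ≫ pp := by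
  obtain ⟨x', h1, h2'⟩ := hpp X t (GaPts.ptOfFn a)
  rw [← h1]
  congr 1
  apply GaPts.gaFn_injective
  rw [h2', GaPts.gaFn_ptOfFn, GaPts.gaFn_ptOfFn]

theorem conjM_aux (i : T ⟶ G) (α : T ⟶ Red.Gm S) (pm : Red.Ga S ⟶ G)
    (hpm : ∀ (X : Over S) (t : X ⟶ T) (y : X ⟶ Red.Ga S), ∃ y' : X ⟶ Red.Ga S,
      y' ≫ pm = (t ≫ i) * (y ≫ pm) * (t ≫ i)⁻¹ ∧ Red.gaFn y' * Red.gmFn (t ≫ α) = Red.gaFn y)
    (X : Over S) (t : X ⟶ T) (b c : Γ(X.left, ⊤)) (hc : Red.gmFn (t ≫ α) * c = 1) :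
    (t ≫ i) * (GaPts.ptOfFn b ≫ pm) * (t ≫ i)⁻¹ = GaPts.ptOfFn (c * b) ≫ pm := by
  obtain ⟨y', h1, h2'⟩ := hpm X t (GaPts.ptOfFn b)
  rw [← h1]
  congr 1
  apply GaPts.gaFn_injective
  rw [GaPts.gaFn_ptOfFn] at h2'
  rw [GaPts.gaFn_ptOfFn, ← h2']
  calc Red.gaFn y' = Red.gaFn y' * (Red.gmFn (t ≫ α) * c) := by rw [hc, _root_.mul_one]
    _ = c * (Red.gaFn y' * Red.gmFn (t ≫ α)) := by ring

theorem comm_aux [GrpObj T] (i : T ⟶ G) (pp pm : Red.Ga S ⟶ G) (av : Red.Gm S ⟶ T)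
    (hF : ∀ (X : Over S) (x y : X ⟶ Red.Ga S), IsUnit (1 + Red.gaFn x * Red.gaFn y) →
      ∃ (x' y' : X ⟶ Red.Ga S) (z : X ⟶ Red.Gm S), Red.gmFn z = 1 + Red.gaFn x * Red.gaFn y ∧
        Red.gaFn x' * Red.gmFn z = Red.gaFn x ∧ Red.gaFn y' * Red.gmFn z = Red.gaFn y ∧
        (x ≫ pp) * (y ≫ pm) = (y' ≫ pm) * (z ≫ av ≫ i) * (x' ≫ pp))
    (X : Over S) (a b : Γ(X.left, ⊤)) (u : Γ(X.left, ⊤)ˣ) (hu : (u : Γ(X.left, ⊤)) = 1 + a * b) :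
    (GaPts.ptOfFn a ≫ pp) * (GaPts.ptOfFn b ≫ pm) =
      ((GaPts.ptOfFn (b * (↑u⁻¹ : Γ(X.left, ⊤))) : X ⟶ Red.Ga S) ≫ pm) *
        ((GmPts.ptOfUnit u ≫ av) ≫ i) *
        ((GaPts.ptOfFn (a * (↑u⁻¹ : Γ(X.left, ⊤))) : X ⟶ Red.Ga S) ≫ pp) := by
  obtain ⟨x', y', z, hz, hx', hy', hcomm⟩ := hF X (GaPts.ptOfFn a) (GaPts.ptOfFn b)
    (by rw [GaPts.gaFn_ptOfFn, GaPts.gaFn_ptOfFn, ← hu]; exact u.isUnit)
  simp only [GaPts.gaFn_ptOfFn] at hz hx' hy'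
  have hzu : z = GmPts.ptOfUnit u := by
    apply GmPts.gmFn_injective
    change Red.gmFn z = Red.gmFn (GmPts.ptOfUnit u)
    rw [hz, GmPts.gmFn_ptOfUnit, hu]
  have hx'' : x' = GaPts.ptOfFn (a * (↑u⁻¹ : Γ(X.left, ⊤))) := by
    apply GaPts.gaFn_injective
    rw [GaPts.gaFn_ptOfFn, ← hx', hz, ← hu, _root_.mul_assoc, Units.mul_inv, _root_.mul_one]
  have hy'' : y' = GaPts.ptOfFn (b * (↑u⁻¹ : Γ(X.left, ⊤))) := by
    apply GaPts.gaFn_injective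
    rw [GaPts.gaFn_ptOfFn, ← hy', hz, ← hu, _root_.mul_assoc, Units.mul_inv, _root_.mul_one]
  rw [hcomm, hzu, hx'', hy'', Category.assoc]

theorem chi_h_aux [GrpObj T] (α : T ⟶ Red.Gm S) (av : Red.Gm S ⟶ T) (h2 : av ≫ α = (𝟙 (Red.Gm S)) ^ 2)
    (X : Over S) (u : Γ(X.left, ⊤)ˣ) :
    GmPts.unitOfPt ((GmPts.ptOfUnit u ≫ av) ≫ α) = u ^ 2 := by
  have e1 : (GmPts.ptOfUnit u ≫ av) ≫ α = (GmPts.ptOfUnit u : X ⟶ Red.Gm S) ^ 2 := by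
    rw [Category.assoc, h2]
    have := MonObj.comp_pow (𝟙 (Red.Gm S)) 2 (GmPts.ptOfUnit u : X ⟶ Red.Gm S)
    rw [this, Category.comp_id]
  have e2 : ∀ (t : X ⟶ Red.Gm S), GmPts.unitOfPt (t ^ 2) = (GmPts.unitOfPt t) ^ 2 := fun t =>
    map_pow (GmPts.equiv X) t 2
  rw [e1, e2, GmPts.unitOfPt_ptOfUnit]

end aux

/-- the abstract rank-one data of the points over `X` -/
def mkData {S : Scheme.{u}} {G T : Over S} [GrpObj G] [GrpObj T] (i : T ⟶ G) [IsMonHom i]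
    (α : T ⟶ Red.Gm S) [IsMonHom α] (pp pm : Red.Ga S ⟶ G) [IsMonHom pp] [IsMonHom pm]
    (hpp : ∀ (X : Over S) (t : X ⟶ T) (x : X ⟶ Red.Ga S), ∃ x' : X ⟶ Red.Ga S,
      x' ≫ pp = (t ≫ i) * (x ≫ pp) * (t ≫ i)⁻¹ ∧ Red.gaFn x' = Red.gmFn (t ≫ α) * Red.gaFn x)
    (hpm : ∀ (X : Over S) (t : X ⟶ T) (y : X ⟶ Red.Ga S), ∃ y' : X ⟶ Red.Ga S,
      y' ≫ pm = (t ≫ i) * (y ≫ pm) * (t ≫ i)⁻¹ ∧ Red.gaFn y' * Red.gmFn (t ≫ α) = Red.gaFn y)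
    (av : Red.Gm S ⟶ T) [IsMonHom av] (h2 : av ≫ α = (𝟙 (Red.Gm S)) ^ 2)
    (hF : ∀ (X : Over S) (x y : X ⟶ Red.Ga S), IsUnit (1 + Red.gaFn x * Red.gaFn y) →
      ∃ (x' y' : X ⟶ Red.Ga S) (z : X ⟶ Red.Gm S), Red.gmFn z = 1 + Red.gaFn x * Red.gaFn y ∧
        Red.gaFn x' * Red.gmFn z = Red.gaFn x ∧ Red.gaFn y' * Red.gmFn z = Red.gaFn y ∧
        (x ≫ pp) * (y ≫ pm) = (y' ≫ pm) * (z ≫ av ≫ i) * (x' ≫ pp))
    (X : Over S) : Data (X ⟶ G) Γ(X.left, ⊤) (X ⟶ T) where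
  P a := GaPts.ptOfFn a ≫ pp
  M b := GaPts.ptOfFn b ≫ pm
  I := { toFun := fun t => t ≫ i
         map_one' := MonObj.one_comp i
         map_mul' := fun a b => MonObj.mul_comp a b i }
  χ := { toFun := fun t => GmPts.unitOfPt (t ≫ α)
         map_one' := by
           change GmPts.unitOfPt ((1 : X ⟶ T) ≫ α) = 1
           rw [MonObj.one_comp α, GmPts.unitOfPt_one]
         map_mul' := fun a b => by
           change GmPts.unitOfPt ((a * b) ≫ α) = GmPts.unitOfPt (a ≫ α) * GmPts.unitOfPt (b ≫ α)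
           rw [MonObj.mul_comp a b α, GmPts.unitOfPt_mul] }
  h := { toFun := fun u => GmPts.ptOfUnit u ≫ av
         map_one' := by
           change (GmPts.ptOfUnit (1 : Γ(X.left, ⊤)ˣ) : X ⟶ Red.Gm S) ≫ av = 1
           rw [GmPts.ptOfUnit_one, MonObj.one_comp av]
         map_mul' := fun a b => by
           change (GmPts.ptOfUnit (a * b) : X ⟶ Red.Gm S) ≫ av =
             (GmPts.ptOfUnit a ≫ av) * (GmPts.ptOfUnit b ≫ av)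
           rw [GmPts.ptOfUnit_mul, MonObj.mul_comp _ _ av] }
  P_add a b := by rw [GaPts.ptOfFn_add, MonObj.mul_comp _ _ pp]
  M_add a b := by rw [GaPts.ptOfFn_add, MonObj.mul_comp _ _ pm]
  χ_h u := chi_h_aux α av h2 X u
  conjP t a := conjP_aux i α pp hpp X t a
  conjM t b := conjM_aux i α pm hpm X t b _ (GmPts.unitOfPt (t ≫ α)).mul_inv
  comm a b u hu := comm_aux i pp pm av hF X a b u hu


section lemmas

variable {S : Scheme.{u}} {G T : Over S} [GrpObj G] [GrpObj T] (i : T ⟶ G) [IsMonHom i]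
    (α : T ⟶ Red.Gm S) [IsMonHom α] (pp pm : Red.Ga S ⟶ G) [IsMonHom pp] [IsMonHom pm]
    (hpp : ∀ (X : Over S) (t : X ⟶ T) (x : X ⟶ Red.Ga S), ∃ x' : X ⟶ Red.Ga S,
      x' ≫ pp = (t ≫ i) * (x ≫ pp) * (t ≫ i)⁻¹ ∧ Red.gaFn x' = Red.gmFn (t ≫ α) * Red.gaFn x)
    (hpm : ∀ (X : Over S) (t : X ⟶ T) (y : X ⟶ Red.Ga S), ∃ y' : X ⟶ Red.Ga S,
      y' ≫ pm = (t ≫ i) * (y ≫ pm) * (t ≫ i)⁻¹ ∧ Red.gaFn y' * Red.gmFn (t ≫ α) = Red.gaFn y)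
    (av : Red.Gm S ⟶ T) [IsMonHom av] (h2 : av ≫ α = (𝟙 (Red.Gm S)) ^ 2)
    (hF : ∀ (X : Over S) (x y : X ⟶ Red.Ga S), IsUnit (1 + Red.gaFn x * Red.gaFn y) →
      ∃ (x' y' : X ⟶ Red.Ga S) (z : X ⟶ Red.Gm S), Red.gmFn z = 1 + Red.gaFn x * Red.gaFn y ∧
        Red.gaFn x' * Red.gmFn z = Red.gaFn x ∧ Red.gaFn y' * Red.gmFn z = Red.gaFn y ∧
        (x ≫ pp) * (y ≫ pm) = (y' ≫ pm) * (z ≫ av ≫ i) * (x' ≫ pp))
    (X : Over S)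

theorem mkData_P (x : X ⟶ Red.Ga S) :
    (mkData i α pp pm hpp hpm av h2 hF X).P (Red.gaFn x) = x ≫ pp := by
  change GaPts.ptOfFn (Red.gaFn x) ≫ pp = x ≫ pp
  rw [GaPts.ptOfFn_gaFn]

theorem mkData_M (x : X ⟶ Red.Ga S) :
    (mkData i α pp pm hpp hpm av h2 hF X).M (Red.gaFn x) = x ≫ pm := by
  change GaPts.ptOfFn (Red.gaFn x) ≫ pm = x ≫ pm
  rw [GaPts.ptOfFn_gaFn]

theorem mkData_P' (x : X ⟶ Red.Ga S) (a : Γ(X.left, ⊤)) (h : Red.gaFn x = a) :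
    x ≫ pp = (mkData i α pp pm hpp hpm av h2 hF X).P a := by
  rw [← h, mkData_P]

theorem mkData_M' (x : X ⟶ Red.Ga S) (a : Γ(X.left, ⊤)) (h : Red.gaFn x = a) :
    x ≫ pm = (mkData i α pp pm hpp hpm av h2 hF X).M a := by
  rw [← h, mkData_M]

theorem mkData_I (t : X ⟶ T) : (mkData i α pp pm hpp hpm av h2 hF X).I t = t ≫ i := rfl

theorem mkData_H (z : X ⟶ Red.Gm S) :
    (mkData i α pp pm hpp hpm av h2 hF X).H (GmPts.unitOfPt z) = z ≫ av ≫ i := by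
  change (GmPts.ptOfUnit (GmPts.unitOfPt z) ≫ av) ≫ i = z ≫ av ≫ i
  rw [GmPts.ptOfUnit_unitOfPt, Category.assoc]

theorem mkData_H' (z : X ⟶ Red.Gm S) (u : Γ(X.left, ⊤)ˣ) (h : Red.gmFn z = ↑u) :
    z ≫ av ≫ i = (mkData i α pp pm hpp hpm av h2 hF X).H u := by
  have : GmPts.unitOfPt z = u := Units.ext h
  rw [← this, mkData_H]

theorem mkData_χ (t : X ⟶ T) :
    ((mkData i α pp pm hpp hpm av h2 hF X).χ t : Γ(X.left, ⊤)) = Red.gmFn (t ≫ α) := rfl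

theorem mkData_h (z : X ⟶ Red.Gm S) :
    (mkData i α pp pm hpp hpm av h2 hF X).h (GmPts.unitOfPt z) = z ≫ av := by
  change GmPts.ptOfUnit (GmPts.unitOfPt z) ≫ av = z ≫ av
  rw [GmPts.ptOfUnit_unitOfPt]

/-- the unit attached to a pair of inverse (up to sign) functions -/
def unitOfNegInv {R : Type*} [CommRing R] (a a' : R) (h : a' * a = -1) : Rˣ where
  val := a
  inv := -a'
  val_inv := by rw [mul_neg, mul_comm, h, neg_neg]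
  inv_val := by rw [neg_mul, h, neg_neg]

theorem mkData_w (x x' : X ⟶ Red.Ga S) (hx : Red.gaFn x' * Red.gaFn x = -1) :
    (x ≫ pp) * (x' ≫ pm) * (x ≫ pp) =
      (mkData i α pp pm hpp hpm av h2 hF X).w (unitOfNegInv _ _ hx) := by
  rw [Data.w]
  have e1 : ((unitOfNegInv _ _ hx : Γ(X.left, ⊤)ˣ) : Γ(X.left, ⊤)) = Red.gaFn x := rfl
  have e2 : (-((unitOfNegInv _ _ hx)⁻¹ : Γ(X.left, ⊤)ˣ) : Γ(X.left, ⊤)) = Red.gaFn x' := by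
    change - - Red.gaFn x' = _
    rw [neg_neg]
  rw [e1, e2, mkData_P, mkData_M]


include hpp hpm h2 hF

theorem main8488 (x y x' y' : X ⟶ Red.Ga S) (z : X ⟶ Red.Gm S)
    (hz : Red.gmFn z = 1 + Red.gaFn x * Red.gaFn y)
    (hx' : Red.gaFn x' * Red.gmFn z = Red.gaFn x) (hy' : Red.gaFn y' * Red.gmFn z = Red.gaFn y) :
    (y ≫ pm) * (x ≫ pp) = (x' ≫ pp) * (z ≫ av ≫ i)⁻¹ * (y' ≫ pm) := by
  set D := mkData i α pp pm hpp hpm av h2 hF X with hD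
  set u : Γ(X.left, ⊤)ˣ := GmPts.unitOfPt z with hu
  have huz : (u : Γ(X.left, ⊤)) = Red.gmFn z := rfl
  have hui := u.mul_inv
  have key := D.MP (Red.gaFn x) (Red.gaFn y) u (by rw [huz, hz])
  rw [mkData_P' i α pp pm hpp hpm av h2 hF X x _ rfl, mkData_M' i α pp pm hpp hpm av h2 hF X y _ rfl,
    mkData_P' i α pp pm hpp hpm av h2 hF X x' (Red.gaFn x * ↑u⁻¹) (by rw [← hx', ← huz]; grind),
    mkData_M' i α pp pm hpp hpm av h2 hF X y' (Red.gaFn y * ↑u⁻¹) (by rw [← hy', ← huz]; grind),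
    mkData_H' i α pp pm hpp hpm av h2 hF X z u huz.symm]
  exact key

theorem main8470 (z : X ⟶ Red.Gm S) (y₁ x₁ y₂ x₂ : X ⟶ Red.Ga S)
    (hy₁ : Red.gaFn y₁ * Red.gmFn z = 1 - Red.gmFn z)
    (hx₁ : Red.gaFn x₁ = 1) (hy₂ : Red.gaFn y₂ = Red.gmFn z - 1)
    (hx₂ : Red.gaFn x₂ * Red.gmFn z = -1) :
    z ≫ av ≫ i = (y₁ ≫ pm) * (x₁ ≫ pp) * (y₂ ≫ pm) * (x₂ ≫ pp) := by
  set D := mkData i α pp pm hpp hpm av h2 hF X with hD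
  set u : Γ(X.left, ⊤)ˣ := GmPts.unitOfPt z with hu
  have huz : (u : Γ(X.left, ⊤)) = Red.gmFn z := rfl
  have hui := u.mul_inv
  rw [mkData_H' i α pp pm hpp hpm av h2 hF X z u huz.symm,
    mkData_M' i α pp pm hpp hpm av h2 hF X y₁ ((1 - ↑u) * ↑u⁻¹) (by rw [← huz] at hy₁; grind),
    mkData_P' i α pp pm hpp hpm av h2 hF X x₁ 1 hx₁,
    mkData_M' i α pp pm hpp hpm av h2 hF X y₂ (↑u - 1) (by rw [hy₂, huz]),
    mkData_P' i α pp pm hpp hpm av h2 hF X x₂ (-↑u⁻¹) (by rw [← huz] at hx₂; grind)]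
  exact D.H_formula u

theorem main8476 (x y x' y' y₂ x₂ : X ⟶ Red.Ga S) (t t' : X ⟶ T) (z : X ⟶ Red.Gm S)
    (hz : Red.gmFn z = 1 + Red.gaFn x * Red.gaFn y')
    (hy₂ : (Red.gaFn y₂ - Red.gaFn y) * Red.gmFn z * Red.gmFn (t ≫ α) = Red.gaFn y')
    (hx₂ : (Red.gaFn x₂ - Red.gaFn x') * Red.gmFn z * Red.gmFn (t' ≫ α) = Red.gaFn x) :
    ((y ≫ pm) * (t ≫ i) * (x ≫ pp)) * ((y' ≫ pm) * (t' ≫ i) * (x' ≫ pp)) =
      (y₂ ≫ pm) * ((t * (z ≫ av) * t') ≫ i) * (x₂ ≫ pp) := by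
  set D := mkData i α pp pm hpp hpm av h2 hF X with hD
  set u : Γ(X.left, ⊤)ˣ := GmPts.unitOfPt z with hu
  have huz : (u : Γ(X.left, ⊤)) = Red.gmFn z := rfl
  have key := D.bigCell_mul (Red.gaFn x) (Red.gaFn y) (Red.gaFn x') (Red.gaFn y') (Red.gaFn y₂)
    (Red.gaFn x₂) t t' u (by rw [huz, hz]) hy₂ hx₂
  rw [hD, mkData_h, ← hD] at key
  rw [mkData_P' i α pp pm hpp hpm av h2 hF X x _ rfl, mkData_M' i α pp pm hpp hpm av h2 hF X y _ rfl,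
    mkData_P' i α pp pm hpp hpm av h2 hF X x' _ rfl, mkData_M' i α pp pm hpp hpm av h2 hF X y' _ rfl,
    mkData_P' i α pp pm hpp hpm av h2 hF X x₂ _ rfl, mkData_M' i α pp pm hpp hpm av h2 hF X y₂ _ rfl]
  exact key


theorem main8448 (x x' : X ⟶ Red.Ga S) (hx : Red.gaFn x' * Red.gaFn x = -1) :
    (∀ t : X ⟶ T, ((x ≫ pp) * (x' ≫ pm) * (x ≫ pp)) * (t ≫ i) *
        ((x ≫ pp) * (x' ≫ pm) * (x ≫ pp))⁻¹ = (t ≫ α ≫ av ≫ i)⁻¹ * (t ≫ i)) ∧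
      ∀ (z : X ⟶ Red.Gm S) (y y' : X ⟶ Red.Ga S), Red.gaFn y = Red.gmFn z * Red.gaFn x →
        Red.gaFn y' * Red.gaFn y = -1 →
        (y ≫ pp) * (y' ≫ pm) * (y ≫ pp) = (z ≫ av ≫ i) * ((x ≫ pp) * (x' ≫ pm) * (x ≫ pp)) ∧
          (y ≫ pp) * (y' ≫ pm) * (y ≫ pp) =
            ((x ≫ pp) * (x' ≫ pm) * (x ≫ pp)) * (z ≫ av ≫ i)⁻¹ := by
  set D := mkData i α pp pm hpp hpm av h2 hF X with hD
  rw [mkData_w i α pp pm hpp hpm av h2 hF X x x' hx]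
  refine ⟨fun t => ?_, fun z y y' hy hy' => ?_⟩
  · have key := D.w_conj_I (unitOfNegInv _ _ hx) t
    have e1 : t ≫ α ≫ av ≫ i = D.H (D.χ t) := by
      have := mkData_H i α pp pm hpp hpm av h2 hF X (t ≫ α)
      rw [Category.assoc] at this
      rw [← this]
      rfl
    rw [e1]
    exact key
  · rw [mkData_w i α pp pm hpp hpm av h2 hF X y y' hy']
    have e1 : unitOfNegInv _ _ hy' = GmPts.unitOfPt z * unitOfNegInv _ _ hx := by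
      apply Units.ext
      rw [Units.val_mul]
      exact hy
    rw [e1, ← mkData_H i α pp pm hpp hpm av h2 hF X z]
    exact ⟨D.w_smul _ _, D.w_smul' _ _⟩

theorem main8449 (x x' y y' : X ⟶ Red.Ga S) (hx : Red.gaFn x' * Red.gaFn x = -1)
    (hy : Red.gaFn y' * Red.gaFn y = -1)
    (m n : X ⟶ Red.Gm S) (hm : Red.gmFn m * Red.gaFn y = - Red.gaFn x) (hn : Red.gmFn n = -1) :
    ((x ≫ pp) * (x' ≫ pm) * (x ≫ pp)) * ((y ≫ pp) * (y' ≫ pm) * (y ≫ pp)) = m ≫ av ≫ i ∧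
      ((x ≫ pp) * (x' ≫ pm) * (x ≫ pp)) ^ 2 = n ≫ av ≫ i := by
  set D := mkData i α pp pm hpp hpm av h2 hF X with hD
  rw [mkData_w i α pp pm hpp hpm av h2 hF X x x' hx, mkData_w i α pp pm hpp hpm av h2 hF X y y' hy]
  constructor
  · rw [D.w_mul_w, ← mkData_H i α pp pm hpp hpm av h2 hF X m]
    congr 1
    apply Units.ext
    rw [Units.val_neg, Units.val_mul]
    change -(Red.gaFn x * -Red.gaFn y') = Red.gmFn m
    have h1 : Red.gmFn m = Red.gmFn m * (-(Red.gaFn y' * Red.gaFn y)) := by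
      rw [hy, neg_neg, _root_.mul_one]
    rw [h1]
    have h2' : Red.gmFn m * (-(Red.gaFn y' * Red.gaFn y)) =
        -(Red.gaFn y' * (Red.gmFn m * Red.gaFn y)) := by ring
    rw [h2', hm]
    ring
  · rw [pow_two, D.w_sq, ← mkData_H i α pp pm hpp hpm av h2 hF X n]
    congr 1
    apply Units.ext
    rw [Units.val_neg, Units.val_one]
    exact hn.symm

end lemmas

end Groth.Agent.Lib.Helper4.RankOneSch
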