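import Mathlib.Tactic
import Mathlib.AlgebraicGeometry.Group.Affine
import Groth.Prelude.Def_GmPts
import Groth.Agent.Lib.Helper4.GaPts
import Groth.Agent.Lib.Helper4.RankOne
import Groth.Agent.Lib.Helper4.RankOne2
import Groth.Agent.Lib.Helper4.RankOneSch
import Groth.Agent.Lib.Helper4.EisCover

universe u

open CategoryTheory CategoryTheory.Limits MonoidalCategory CartesianMonoidalCategory MonObj GrpObj
  AlgebraicGeometry Opposite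

noncomputable section

namespace Groth.Agent.Lib.Helper4.RankOneSch

open Groth.Agent.Lib.Helper4 Groth.Agent.Lib.Helper4.RankOne Groth.Agent.Lib.Helper4.EisCover

section lemmas2

variable {S : Scheme.{u}} {G T : Over S} [GrpObj G] [GrpObj T] (i : T ⟶ G) [IsMonHom i]
    (α : T ⟶ Red.Gm S) [IsMonHom α] (pp pm : Red.Ga S ⟶ G) [IsMonHom pp] [IsMonHom pm]
    (hpp : ∀ (X : Over S) (t : X ⟶ T) (x : X ⟶ Red.Ga S), ∃ x' : X ⟶ Red.Ga S,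
      x' ≫ pp = (t ≫ i) * (x ≫ pp) * (t ≫ i)⁻¹ ∧ Red.gaFn x' = Red.gmFn (t ≫ α) * Red.gaFn x)
    (hpm : ∀ (X : Over S) (t : X ⟶ T) (y : X ⟶ Red.Ga S), ∃ y' : X ⟶ Red.Ga S,
      y' ≫ pm = (t ≫ i) * (y ≫ pm) * (t ≫ i)⁻¹ ∧ Red.gaFn y' * Red.gmFn (t ≫ α) = Red.gaFn y)
    (av : Red.Gm S ⟶ T) [IsMonHom av] (h2 : av ≫ α = (𝟙 (Red.Gm S)) ^ 2)
    (hF : ∀ (X : Over S) (x y : X ⟶ Red.Ga S), IsUnit (1 + Red.gaFn x * Red.gaFn y) →
      ∃ (x' y' : X ⟶ Red.Ga S) (z : X ⟶ Red.Gm S), Red.gmFn z = 1 + Red.gaFn x * Red.gaFn y ∧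
        Red.gaFn x' * Red.gmFn z = Red.gaFn x ∧ Red.gaFn y' * Red.gmFn z = Red.gaFn y ∧
        (x ≫ pp) * (y ≫ pm) = (y' ≫ pm) * (z ≫ av ≫ i) * (x' ≫ pp))
    (X : Over S)

/-- the Steinberg relation `w(a) P(a) w(a)⁻¹ = M(-1/a)` for the points over any `X`, by
descent from the flat cover `X ⊗ ℤ[s]/(s² - s + 1)` -/
theorem steinberg_sch (a : Γ(X.left, ⊤)ˣ) :
    (mkData i α pp pm hpp hpm av h2 hF X).w a * (mkData i α pp pm hpp hpm av h2 hF X).P a *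
      ((mkData i α pp pm hpp hpm av h2 hF X).w a)⁻¹ =
      (mkData i α pp pm hpp hpm av h2 hF X).M (-↑a⁻¹) := by
  let φ : (X ⟶ G) →* (cover X ⟶ G) :=
    { toFun := fun g => π X ≫ g
      map_one' := MonObj.comp_one _
      map_mul' := fun a b => MonObj.comp_mul _ _ _ }
  have hφ : Function.Injective φ := fun a b hab => (cancel_epi (π X)).mp hab
  refine Data.steinberg_self_of_cover _ (mkData i α pp pm hpp hpm av h2 hF (cover X)) φ hφ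
    (π X).left.appTop.hom ?_ ?_ (sUnit X) (sUnit' X) (sUnit'_val X) a
  · intro c
    change π X ≫ (GaPts.ptOfFn c ≫ pp) = GaPts.ptOfFn _ ≫ pp
    rw [← Category.assoc, GaPts.ptOfFn_comp]
  · intro c
    change π X ≫ (GaPts.ptOfFn c ≫ pm) = GaPts.ptOfFn _ ≫ pm
    rw [← Category.assoc, GaPts.ptOfFn_comp]

include hpp hpm h2 hF

theorem main8475 (x x' : X ⟶ Red.Ga S) (hx : Red.gaFn x' * Red.gaFn x = -1) :
    ((x ≫ pp) * (x' ≫ pm) * (x ≫ pp)) * (x ≫ pp) * ((x ≫ pp) * (x' ≫ pm) * (x ≫ pp))⁻¹ = x' ≫ pm ∧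
      (((x ≫ pp) * (x' ≫ pm) * (x ≫ pp)) * (x ≫ pp)) ^ 3 = 1 := by
  set D := mkData i α pp pm hpp hpm av h2 hF X with hD
  have hst := steinberg_sch i α pp pm hpp hpm av h2 hF X (unitOfNegInv _ _ hx)
  rw [← hD] at hst
  have e1 : ((unitOfNegInv _ _ hx : Γ(X.left, ⊤)ˣ) : Γ(X.left, ⊤)) = Red.gaFn x := rfl
  have e2 : (-((unitOfNegInv _ _ hx)⁻¹ : Γ(X.left, ⊤)ˣ) : Γ(X.left, ⊤)) = Red.gaFn x' := by
    change - - Red.gaFn x' = _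
    rw [neg_neg]
  have hP : x ≫ pp = D.P ↑(unitOfNegInv _ _ hx) := by
    rw [e1]
    exact (mkData_P i α pp pm hpp hpm av h2 hF X x).symm
  have hM : x' ≫ pm = D.M (-↑(unitOfNegInv _ _ hx)⁻¹) := by
    rw [e2]
    exact (mkData_M i α pp pm hpp hpm av h2 hF X x').symm
  rw [mkData_w i α pp pm hpp hpm av h2 hF X x x' hx, ← hD, hP, hM]
  exact ⟨hst, D.cube_of_steinberg _ hst⟩


theorem main8483 (x x' nx nx' y y' : X ⟶ Red.Ga S) (hx : Red.gaFn x' * Red.gaFn x = -1)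
    (hnx : Red.gaFn nx = - Red.gaFn x) (hnx' : Red.gaFn nx' = - Red.gaFn x')
    (hy : Red.gaFn y' * Red.gaFn y = -1) (z : X ⟶ Red.Gm S)
    (hz : Red.gmFn z = Red.gaFn x * Red.gaFn y) :
    (nx' ≫ pm) * (nx ≫ pp) * (nx' ≫ pm) = ((x ≫ pp) * (x' ≫ pm) * (x ≫ pp))⁻¹ ∧
      (nx ≫ pp) * (nx' ≫ pm) * (nx ≫ pp) = ((x ≫ pp) * (x' ≫ pm) * (x ≫ pp))⁻¹ ∧
      ((x ≫ pp) * (x' ≫ pm) * (x ≫ pp)) * ((y ≫ pm) * (y' ≫ pp) * (y ≫ pm)) = z ≫ av ≫ i := by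
  set D := mkData i α pp pm hpp hpm av h2 hF X with hD
  set a : Γ(X.left, ⊤)ˣ := unitOfNegInv _ _ hx with ha
  set b : Γ(X.left, ⊤)ˣ := unitOfNegInv _ _ hy with hb
  have ea : (a : Γ(X.left, ⊤)) = Red.gaFn x := rfl
  have ea' : (↑a⁻¹ : Γ(X.left, ⊤)) = - Red.gaFn x' := rfl
  have eb : (b : Γ(X.left, ⊤)) = Red.gaFn y := rfl
  have eb' : (↑b⁻¹ : Γ(X.left, ⊤)) = - Red.gaFn y' := rfl
  rw [mkData_w i α pp pm hpp hpm av h2 hF X x x' hx, ← hD, ← ha]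
  -- braid relations for `-a` and `-b⁻¹`
  have hbr1 := D.braid_of_steinberg (-a) (by
    rw [hD]; exact steinberg_sch i α pp pm hpp hpm av h2 hF X (-a))
  have hbr2 := D.braid_of_steinberg (-b⁻¹) (by
    rw [hD]; exact steinberg_sch i α pp pm hpp hpm av h2 hF X (-b⁻¹))
  have e1 : (-(↑(-a)⁻¹ : Γ(X.left, ⊤))) = ↑a⁻¹ := by rw [inv_neg, Units.val_neg, neg_neg]
  have e2 : (-(↑(-b⁻¹)⁻¹ : Γ(X.left, ⊤))) = ↑b := by
    rw [inv_neg, _root_.inv_inv, Units.val_neg, neg_neg]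
  rw [e1, Units.val_neg] at hbr1
  rw [e2, Units.val_neg] at hbr2
  have hnxP : nx ≫ pp = D.P (-↑a) := by
    rw [mkData_P' i α pp pm hpp hpm av h2 hF X nx (-↑a) (by rw [hnx, ea])]
  have hnxM : nx' ≫ pm = D.M (↑a⁻¹) := by
    rw [mkData_M' i α pp pm hpp hpm av h2 hF X nx' (↑a⁻¹) (by rw [hnx', ea'])]
  have hwinv : (D.w a)⁻¹ = D.P (-↑a) * D.M (↑a⁻¹) * D.P (-↑a) := by
    rw [D.w_inv, Data.w, e1, Units.val_neg]
  refine ⟨?_, ?_, ?_⟩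
  · rw [hnxP, hnxM, hwinv, hbr1]
  · rw [hnxP, hnxM, hwinv]
  · have hyM : y ≫ pm = D.M ↑b := by
      rw [mkData_M' i α pp pm hpp hpm av h2 hF X y (↑b) eb.symm]
    have hyP : y' ≫ pp = D.P (-↑b⁻¹) := by
      rw [mkData_P' i α pp pm hpp hpm av h2 hF X y' (-↑b⁻¹) (by rw [eb', neg_neg])]
    have hw2 : D.M ↑b * D.P (-↑b⁻¹) * D.M ↑b = D.w (-b⁻¹) := by
      rw [← hbr2, Data.w, e2, Units.val_neg]
    rw [hyM, hyP, hw2, D.w_mul_w, ← mkData_H i α pp pm hpp hpm av h2 hF X z, ← hD]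
    congr 1
    apply Units.ext
    rw [inv_neg, _root_.inv_inv, mul_neg, neg_neg, Units.val_mul, ea, eb]
    exact hz.symm

end lemmas2

end Groth.Agent.Lib.Helper4.RankOneSch
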