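import Mathlib.Tactic
import Mathlib.AlgebraicGeometry.AlgClosed.Basic
import Mathlib.AlgebraicGeometry.Morphisms.Smooth
import Mathlib.CategoryTheory.Monoidal.Cartesian.Grp
import Mathlib.CategoryTheory.Monoidal.Cartesian.Over

open CategoryTheory MonoidalCategory CartesianMonoidalCategory MonObj GrpObj AlgebraicGeometry

universe u v

namespace Groth.Agent.Lib.Helper4.RatDense

section abstract

variable {C : Type u} [Category.{v} C] [CartesianMonoidalCategory C] (H : C) [GrpObj H]

/-- left translation by a point -/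
def trans (h : 𝟙_ C ⟶ H) : H ⟶ H := (toUnit H ≫ h) * 𝟙 H

lemma comp_trans {T : C} (x : T ⟶ H) (h : 𝟙_ C ⟶ H) :
    x ≫ trans H h = (toUnit T ≫ h) * x := by
  simp [trans, MonObj.comp_mul]

lemma pt_comp_trans (x h : 𝟙_ C ⟶ H) : x ≫ trans H h = h * x := by
  rw [comp_trans]
  congr 1
  rw [toUnit_unit, Category.id_comp]

lemma trans_comp_trans (h h' : 𝟙_ C ⟶ H) : trans H h ≫ trans H h' = trans H (h' * h) := by
  rw [comp_trans]
  unfold trans
  rw [← _root_.mul_assoc, ← MonObj.comp_mul]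

lemma trans_one : trans H 1 = 𝟙 H := by
  simp [trans, MonObj.comp_one]

/-- translation is an isomorphism -/
def transIso (h : 𝟙_ C ⟶ H) : H ≅ H where
  hom := trans H h
  inv := trans H h⁻¹
  hom_inv_id := by rw [trans_comp_trans, inv_mul_cancel, trans_one]
  inv_hom_id := by rw [trans_comp_trans, mul_inv_cancel, trans_one]

end abstract

theorem main15596 (k : Type u) [Field k] [IsAlgClosed k]
    (H : Over (Spec (CommRingCat.of k))) [GrpObj H] [Smooth H.hom] [QuasiCompact H.hom]
    (U : H.left.Opens) (hU : Dense (U : Set ↥H.left)) (h : 𝟙_ (Over (Spec (CommRingCat.of k))) ⟶ H) :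
    ∃ u₁ u₂ : 𝟙_ (Over (Spec (CommRingCat.of k))) ⟶ H,
      u₁.left.base (IsLocalRing.closedPoint k) ∈ U ∧ u₂.left.base (IsLocalRing.closedPoint k) ∈ U ∧
        h = u₂ * u₁⁻¹ := by
  have hlft : LocallyOfFiniteType H.hom := inferInstance
  have hJ : JacobsonSpace ↥H.left := LocallyOfFiniteType.jacobsonSpace H.hom
  -- the translation automorphism of the underlying scheme
  let t : H.left ≅ H.left := (Over.forget _).mapIso (transIso H h)
  have ht : t.hom = (trans H h).left := rfl
  have hne : Nonempty ↥H.left := ⟨h.left.base (IsLocalRing.closedPoint k)⟩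
  -- W = U ∩ t⁻¹ U is dense open
  have hd2 : Dense ((t.hom ⁻¹ᵁ U : H.left.Opens) : Set ↥H.left) :=
    hU.preimage t.hom.isOpenEmbedding.isOpenMap
  have hW : Dense ((U : Set ↥H.left) ∩ ((t.hom ⁻¹ᵁ U : H.left.Opens) : Set ↥H.left)) :=
    hU.inter_of_isOpen_left hd2 U.isOpen
  have hlc : IsLocallyClosed ((U : Set ↥H.left) ∩ ((t.hom ⁻¹ᵁ U : H.left.Opens) : Set ↥H.left)) :=
    (U.isOpen.inter (t.hom ⁻¹ᵁ U).isOpen).isLocallyClosed
  have hcl := JacobsonSpace.closure_inter_closedPoints_eq_closure hlc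
  rw [hW.closure_eq] at hcl
  obtain ⟨w, ⟨hwU, hwt⟩, hwc⟩ : (((U : Set ↥H.left) ∩
      ((t.hom ⁻¹ᵁ U : H.left.Opens) : Set ↥H.left)) ∩ closedPoints ↥H.left).Nonempty := by
    by_contra hempty
    rw [Set.not_nonempty_iff_eq_empty] at hempty
    rw [hempty, closure_empty] at hcl
    exact Set.empty_ne_univ hcl
  have hwc' : IsClosed {w} := hwc
  let u₁ : 𝟙_ (Over (Spec (CommRingCat.of k))) ⟶ H :=
    Over.homMk (pointOfClosedPoint H.hom w hwc') (pointOfClosedPoint_comp H.hom w hwc')
  have hu₁ : u₁.left.base (IsLocalRing.closedPoint k) = w :=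
    pointOfClosedPoint_apply H.hom w hwc' _
  refine ⟨u₁, h * u₁, ?_, ?_, ?_⟩
  · rw [hu₁]; exact hwU
  · rw [← pt_comp_trans H u₁ h, Over.comp_left]
    change (trans H h).left.base (u₁.left.base (IsLocalRing.closedPoint k)) ∈ U
    have e : (trans H h).left.base (u₁.left.base (IsLocalRing.closedPoint k)) =
        (trans H h).left.base w := congrArg _ hu₁
    rw [e]
    exact hwt
  · rw [mul_inv_cancel_right]

end Groth.Agent.Lib.Helper4.RatDense
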