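import Mathlib.Tactic
import Mathlib.AlgebraicGeometry.AlgClosed.Basic
import Mathlib.AlgebraicGeometry.Morphisms.Proper
import Mathlib.AlgebraicGeometry.Morphisms.Smooth
import Groth.Agent.Lib.Helper4.RatDense

open CategoryTheory MonoidalCategory CartesianMonoidalCategory MonObj GrpObj AlgebraicGeometry Limits

universe u v

namespace Groth.Agent.Lib.Helper4.RatDense

section abstract

variable {C : Type u} [Category.{v} C] [CartesianMonoidalCategory C] (H : C) [GrpObj H]

/-- right translation by a point -/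
def rtrans (h : 𝟙_ C ⟶ H) : H ⟶ H := 𝟙 H * (toUnit H ≫ h)

lemma comp_rtrans {T : C} (x : T ⟶ H) (h : 𝟙_ C ⟶ H) :
    x ≫ rtrans H h = x * (toUnit T ≫ h) := by
  simp [rtrans, MonObj.comp_mul]

lemma pt_comp_rtrans (x h : 𝟙_ C ⟶ H) : x ≫ rtrans H h = x * h := by
  rw [comp_rtrans]
  congr 1
  rw [toUnit_unit, Category.id_comp]

lemma rtrans_comp_rtrans (h h' : 𝟙_ C ⟶ H) : rtrans H h ≫ rtrans H h' = rtrans H (h * h') := by
  rw [comp_rtrans]
  unfold rtrans
  rw [_root_.mul_assoc, ← MonObj.comp_mul]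

lemma rtrans_one : rtrans H 1 = 𝟙 H := by
  simp [rtrans, MonObj.comp_one]

lemma rtrans_inv_eq (h : 𝟙_ C ⟶ H) : 𝟙 H * (toUnit H ≫ h)⁻¹ = rtrans H h⁻¹ := by
  unfold rtrans
  rw [GrpObj.comp_inv]

lemma rtrans_comp_rtrans_inv (h : 𝟙_ C ⟶ H) : rtrans H h ≫ rtrans H h⁻¹ = 𝟙 H := by
  rw [rtrans_comp_rtrans, mul_inv_cancel, rtrans_one]

lemma rtrans_inv_comp_rtrans (h : 𝟙_ C ⟶ H) : rtrans H h⁻¹ ≫ rtrans H h = 𝟙 H := by
  rw [rtrans_comp_rtrans, inv_mul_cancel, rtrans_one]

/-- the inversion automorphism -/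
def invIso : H ≅ H where
  hom := ι[H]
  inv := ι[H]
  hom_inv_id := by simp
  inv_hom_id := by simp

end abstract

theorem main10959
    (K : Type u) [Field K] [IsAlgClosed K] (A : Over (Spec (CommRingCat.of K)))
    [GrpObj A] [IsProper A.hom] [Smooth A.hom] [IrreducibleSpace A.left]
    (Z : Set A.left) (hZ : IsClosed Z) (hZne : Z ≠ Set.univ)
    (z : 𝟙_ (Over (Spec (CommRingCat.of K))) ⟶ A) :
    ∃ x : 𝟙_ (Over (Spec (CommRingCat.of K))) ⟶ A,
      Disjoint (Set.range z.left.base)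
        ((𝟙 A * (toUnit A ≫ x)).left.base '' Z ∪ (𝟙 A * (toUnit A ≫ x)⁻¹).left.base '' Z) := by
  have hlft : LocallyOfFiniteType A.hom := inferInstance
  have hJ : JacobsonSpace ↥A.left := LocallyOfFiniteType.jacobsonSpace A.hom
  -- α = left translation by z, β = inversion followed by left translation by z
  let αi : A.left ≅ A.left := (Over.forget _).mapIso (transIso A z)
  let βi : A.left ≅ A.left := (Over.forget _).mapIso (invIso A ≪≫ transIso A z)
  have hα : αi.hom = (trans A z).left := rfl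
  have hβ : βi.hom = (ι[A] ≫ trans A z).left := rfl
  have hWne : (Zᶜ).Nonempty := Set.nonempty_compl.mpr hZne
  have hWo : IsOpen Zᶜ := hZ.isOpen_compl
  have h1o : IsOpen (αi.hom.base ⁻¹' Zᶜ) := hWo.preimage αi.hom.continuous
  have h2o : IsOpen (βi.hom.base ⁻¹' Zᶜ) := hWo.preimage βi.hom.continuous
  have h1ne : (αi.hom.base ⁻¹' Zᶜ).Nonempty := by
    obtain ⟨w, hw⟩ := hWne
    obtain ⟨v, rfl⟩ := αi.hom.homeomorph.surjective w
    exact ⟨v, hw⟩
  have h2ne : (βi.hom.base ⁻¹' Zᶜ).Nonempty := by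
    obtain ⟨w, hw⟩ := hWne
    obtain ⟨v, rfl⟩ := βi.hom.homeomorph.surjective w
    exact ⟨v, hw⟩
  have hne : ((αi.hom.base ⁻¹' Zᶜ) ∩ (βi.hom.base ⁻¹' Zᶜ)).Nonempty :=
    nonempty_preirreducible_inter h1o h2o h1ne h2ne
  have hlc : IsLocallyClosed ((αi.hom.base ⁻¹' Zᶜ) ∩ (βi.hom.base ⁻¹' Zᶜ)) :=
    (h1o.inter h2o).isLocallyClosed
  obtain ⟨w, ⟨hw1, hw2⟩, hwc⟩ := nonempty_inter_closedPoints hne hlc
  have hwc' : IsClosed {w} := hwc
  let x : 𝟙_ (Over (Spec (CommRingCat.of K))) ⟶ A :=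
    Over.homMk (pointOfClosedPoint A.hom w hwc') (pointOfClosedPoint_comp A.hom w hwc')
  have hx : ∀ p, x.left.base p = w := fun p => pointOfClosedPoint_apply A.hom w hwc' p
  refine ⟨x, ?_⟩
  rw [rtrans_inv_eq, Set.disjoint_left]
  rintro _ ⟨p, rfl⟩ hmem
  rcases hmem with ⟨a, haZ, ha⟩ | ⟨a, haZ, ha⟩
  · -- z p = r_x a, so a = (z * x⁻¹) p = β w
    have e1 : (rtrans A x⁻¹).left.base ((rtrans A x).left.base a) = a := by
      have := congrArg (fun f : A ⟶ A => f.left.base a) (rtrans_comp_rtrans_inv A x)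
      exact this
    have e2 : (rtrans A x⁻¹).left.base (z.left.base p) = βi.hom.base w := by
      have h3 : z ≫ rtrans A x⁻¹ = x ≫ (ι[A] ≫ trans A z) := by
        rw [pt_comp_rtrans, ← Category.assoc, pt_comp_trans, Hom.inv_def]
      have := congrArg (fun f : 𝟙_ (Over (Spec (CommRingCat.of K))) ⟶ A => f.left.base p) h3
      simp only [Over.comp_left] at this
      change (rtrans A x⁻¹).left.base (z.left.base p) =
        (ι[A] ≫ trans A z).left.base (x.left.base p) at this
      rw [this, hx p]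
      rfl
    have ha' : (rtrans A x).left.base a = z.left.base p := ha
    rw [ha', e2] at e1
    exact hw2 (e1 ▸ haZ)
  · have e1 : (rtrans A x).left.base ((rtrans A x⁻¹).left.base a) = a := by
      have := congrArg (fun f : A ⟶ A => f.left.base a) (rtrans_inv_comp_rtrans A x)
      exact this
    have e2 : (rtrans A x).left.base (z.left.base p) = αi.hom.base w := by
      have h3 : z ≫ rtrans A x = x ≫ trans A z := by
        rw [pt_comp_rtrans, pt_comp_trans]
      have := congrArg (fun f : 𝟙_ (Over (Spec (CommRingCat.of K))) ⟶ A => f.left.base p) h3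
      simp only [Over.comp_left] at this
      change (rtrans A x).left.base (z.left.base p) =
        (trans A z).left.base (x.left.base p) at this
      rw [this, hx p]
      rfl
    have ha' : (rtrans A x⁻¹).left.base a = z.left.base p := ha
    rw [ha', e2] at e1
    exact hw1 (e1 ▸ haZ)

end Groth.Agent.Lib.Helper4.RatDense
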