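import Mathlib.Tactic
import Mathlib.AlgebraicGeometry.Sites.Fpqc
import Groth.Prelude.Def_RedSub
import Groth.Agent.Lib.Helper4.CovSieve
import Groth.Agent.Lib.Helper4.FpqcDesc

set_option autoImplicit false
universe u
open CategoryTheory MonoidalCategory CartesianMonoidalCategory MonObj AlgebraicGeometry Limits

namespace Groth.Agent.Lib.Helper4.RedQuotDesc

variable {S : Scheme.{u}} {H G Q K : Over S} [GrpObj H] [GrpObj G] [GrpObj Q] [GrpObj K]

theorem covMor_of_fppf {X Y : Scheme.{u}} (p : X ⟶ Y) [Surjective p] [Flat p]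
    [LocallyOfFinitePresentation p] : CovSieve.CovMor p :=
  Scheme.fppfTopology_le_fpqcTopology _
    (Precoverage.generate_mem_toGrothendieck (Scheme.Hom.singleton_mem_fppfPrecoverage p))

theorem main5237 (i : H ⟶ G) [IsMonHom i]
    (q : G ⟶ Q) [IsMonHom q] (hq : RedSub.IsQuotient i q)
    (f : G ⟶ K) [IsMonHom f] (hf : i ≫ f = 1) :
    ∃! g : Q ⟶ K, q ≫ g = f ∧ IsMonHom g := by
  obtain ⟨h1, h2, h3, hpb⟩ := hq
  have hc : CovSieve.CovMor q.left := covMor_of_fppf q.left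
  have hee : EffectiveEpi q.left := hc.effectiveEpi
  have hepi : Epi q := Over.epi_of_epi_left _
  have hc2 : CovSieve.CovMor (q ⊗ₘ q).left := CovSieve.covMor_tensorHom q q hc hc
  have hee2 : EffectiveEpi (q ⊗ₘ q).left := hc2.effectiveEpi
  have hepi2 : Epi (q ⊗ₘ q) := Over.epi_of_epi_left _
  obtain ⟨g, hg⟩ := FpqcDesc.exists_desc q f (by
    intro W u v huv
    obtain ⟨l, hl⟩ : ∃ l, l = hpb.lift u v huv := ⟨_, rfl⟩
    have e1 : l ≫ fst G H = u := by rw [hl]; exact hpb.lift_fst _ _ _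
    have e2 : l ≫ (G ◁ i) ≫ μ[G] = v := by rw [hl]; exact hpb.lift_snd _ _ _
    have e3 : v = u * ((l ≫ snd G H) ≫ i) := by
      rw [← e2, ← e1, Hom.mul_def, ← Category.assoc]
      congr 1
      apply CartesianMonoidalCategory.hom_ext <;> simp
    rw [e3, MonObj.mul_comp, Category.assoc, hf, MonObj.comp_one, _root_.mul_one])
  refine ⟨g, ⟨hg, ⟨?_, ?_⟩⟩, ?_⟩
  · rw [← IsMonHom.one_hom (f := q), Category.assoc, hg, IsMonHom.one_hom]
  · rw [← cancel_epi (q ⊗ₘ q), ← Category.assoc, ← IsMonHom.mul_hom, Category.assoc, hg,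
      ← Category.assoc, tensorHom_comp_tensorHom, hg, IsMonHom.mul_hom]
  · rintro g' ⟨hg', -⟩
    rw [← cancel_epi q, hg, hg']

end Groth.Agent.Lib.Helper4.RedQuotDesc
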