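import Mathlib.Tactic
import Mathlib.CategoryTheory.Sites.LocallySurjective
import Groth.Agent.Lib.Helper4.YonPres
import Groth.Agent.Lib.Helper4.Refine2

namespace Groth.Agent.Lib.Helper4.Refine3

open CategoryTheory CategoryTheory.Limits Opposite Simplicial Groth.Agent.Lib.Helper4.SRCov
  Groth.Agent.Lib.Helper4

universe u

section General

variable {D : Type u} [SmallCategory D] (JD : GrothendieckTopology D)
  (P : Dᵒᵖ ⥤ Type u) {Y : FormalCoproduct.{u} D} (u : P ⟶ FormalCoproduct.yoneda.obj Y)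

/-- the formal coproduct of all sections of a presheaf -/
abbrev Zof : FormalCoproduct.{u} D := ⟨Σ V : D, P.obj (op V), fun x => x.1⟩

variable {P}

/-- the map attached to a section -/
noncomputable def bOf (x : (Zof P).I) : (FormalCoproduct.incl D).obj x.1 ⟶ Y :=
  (YonPres.mkEquiv Y x.1).symm (u.app (op x.1) x.2)

lemma mk_bOf (x : (Zof P).I) : YonElt.mk (bOf u x) = u.app (op x.1) x.2 :=
  (YonPres.mkEquiv Y x.1).apply_symm_apply _

/-- the induced map of formal coproducts -/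
noncomputable def wOf : Zof P ⟶ Y := ⟨fun x => (bOf u x).f PUnit.unit, fun x => (bOf u x).φ PUnit.unit⟩

lemma fromIncl_wOf (x : (Zof P).I) :
    FormalCoproduct.Hom.fromIncl (Y := Zof P) x (𝟙 _) ≫ wOf u = bOf u x := by
  apply (FormalCoproduct.inclHomEquiv _ _).injective
  exact Sigma.ext rfl (heq_of_eq (Category.id_comp _))

lemma fromIncl_comp {A B : FormalCoproduct.{u} D} (g0 : A ⟶ B) (i : A.I) :
    FormalCoproduct.Hom.fromIncl i (𝟙 _) ≫ g0 =
      (FormalCoproduct.incl D).map (g0.φ i) ≫ FormalCoproduct.Hom.fromIncl (g0.f i) (𝟙 _) := by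
  apply (FormalCoproduct.inclHomEquiv _ _).injective
  exact Sigma.ext rfl (heq_of_eq ((Category.id_comp _).trans (Category.comp_id _).symm))

/-- the map attached to a section, as a map to `Zof P` -/
def secIncl (W : D) (s : P.obj (op W)) : (FormalCoproduct.incl D).obj W ⟶ Zof P :=
  FormalCoproduct.Hom.fromIncl (Y := Zof P) (⟨W, s⟩ : (Zof P).I) (𝟙 _)

lemma secIncl_wOf (W : D) (s : P.obj (op W)) :
    secIncl W s ≫ wOf u = bOf u (⟨W, s⟩ : (Zof P).I) := fromIncl_wOf u ⟨W, s⟩

theorem wOf_cov (hu : Presheaf.IsLocallySurjective JD u) : Hyper.IsSRCovering JD (wOf u) := by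
  apply Refine2.isSRCovering_of_liftSieve
  intro V y
  refine JD.superset_covering ?_ (Presheaf.imageSieve_mem JD u (YonElt.mk y))
  rintro W h ⟨s, hs⟩
  refine ⟨secIncl W s, (secIncl_wOf u W s).trans ?_⟩
  apply YonPres.mk_injective
  rw [mk_bOf, ← YonElt.res_mk]
  exact hs

/-- the inclusion of a summand -/
noncomputable def ι' (A : FormalCoproduct.{u} D) (i : A.I) :
    yoneda.obj (A.obj i) ⟶ FormalCoproduct.yoneda.obj A :=
  Sigma.ι (fun i => yoneda.obj (A.obj i)) i

lemma yonedaEquiv_ι' (A : FormalCoproduct.{u} D) (i : A.I) :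
    yonedaEquiv (ι' A i) = YonElt.mk (FormalCoproduct.Hom.fromIncl i (𝟙 _)) := rfl

lemma hom_ext' {A : FormalCoproduct.{u} D} {Q : Dᵒᵖ ⥤ Type u}
    (f g : FormalCoproduct.yoneda.obj A ⟶ Q) (h : ∀ i, ι' A i ≫ f = ι' A i ≫ g) : f = g :=
  Sigma.hom_ext _ _ h

/-- the map to the presheaf -/
noncomputable def gOf {A : FormalCoproduct.{u} D} (g0 : A ⟶ Zof P) :
    FormalCoproduct.yoneda.obj A ⟶ P :=
  Sigma.desc (fun i => yonedaEquiv.symm (P.map (g0.φ i).op (g0.f i).2))

lemma ι'_gOf {A : FormalCoproduct.{u} D} (g0 : A ⟶ Zof P) (i : A.I) :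
    ι' A i ≫ gOf g0 = yonedaEquiv.symm (P.map (g0.φ i).op (g0.f i).2) := Sigma.ι_desc _ _

lemma gOf_comp {A : FormalCoproduct.{u} D} (g0 : A ⟶ Zof P) :
    gOf g0 ≫ u = FormalCoproduct.yoneda.map (g0 ≫ wOf u) := by
  apply hom_ext'
  intro i
  apply yonedaEquiv.injective
  rw [← Category.assoc, ι'_gOf, yonedaEquiv_comp, yonedaEquiv_comp, Equiv.apply_symm_apply,
    yonedaEquiv_ι', YonElt.map_mk]
  have h3 : u.app (op (A.obj i)) (P.map (g0.φ i).op (g0.f i).2) =
      (FormalCoproduct.yoneda.obj Y).map (g0.φ i).op (u.app (op (g0.f i).1) (g0.f i).2) :=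
    ConcreteCategory.congr_hom (u.naturality (g0.φ i).op) _
  rw [h3, ← mk_bOf, YonElt.res_mk, ← fromIncl_wOf, ← Category.assoc, ← fromIncl_comp,
    Category.assoc]

end General


section Final

variable {C : Type u} [SmallCategory C] [HasPullbacks C] (J : GrothendieckTopology C) (X : C)
    [∀ (n : ℕ) (F : (SimplexCategory.Truncated n)ᵒᵖ ⥤ Limits.FormalCoproduct.{u} (Over X)),
      (SimplexCategory.Truncated.inclusion n).op.HasRightKanExtension F]

theorem main6507 (K : SimplicialObject (FormalCoproduct.{u} (Over X)))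
    (hK : Hyper.IsHypercovering J X K) (n : ℕ)
    (P : (Over X)ᵒᵖ ⥤ Type u)
    (u : P ⟶ FormalCoproduct.yoneda.obj (K.obj (op (SimplexCategory.mk n))))
    (hu : Presheaf.IsLocallySurjective (J.over X) u) :
    ∃ (L : SimplicialObject (FormalCoproduct.{u} (Over X))) (f : L ⟶ K)
      (g : FormalCoproduct.yoneda.obj (L.obj (op (SimplexCategory.mk n))) ⟶ P),
      Hyper.IsHypercovering J X L ∧
        g ≫ u = FormalCoproduct.yoneda.map (f.app (op (SimplexCategory.mk n))) := by
  obtain ⟨L, f, g0, hL, hg0⟩ := Refine2.main3881 J X K hK n (Zof P) (wOf u)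
    (wOf_cov (J.over X) u hu)
  exact ⟨L, f, gOf g0, hL, by rw [gOf_comp, hg0]⟩

end Final

end Groth.Agent.Lib.Helper4.Refine3
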