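import Mathlib.LinearAlgebra.Matrix.ToLin
import Mathlib.Tactic

set_option autoImplicit false

namespace Groth.Agent.Lib.Helper4.RegUnipCentralizer

variable {R : Type*} [CommRing R] {n : ℕ}

theorem lower_zero (N x : Matrix (Fin n) (Fin n) R)
    (hN0 : ∀ a b : Fin n, b ≤ a → N a b = 0)
    (hN1 : ∀ a b : Fin n, b.val = a.val + 1 → IsUnit (N a b))
    (hc : ∀ a b : Fin n, ∑ l, x a l * N l b = ∑ l, N a l * x l b)
    (i j : Fin n) (h : j < i) : x i j = 0 := by
  have hi1 : 1 ≤ i.val := by
    have : j.val < i.val := h
    omega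
  let a : Fin n := ⟨i.val - 1, by omega⟩
  have hai : i.val = a.val + 1 := by simp [a]; omega
  have e := hc a j
  have hL : ∑ l, x a l * N l j = 0 := by
    apply Finset.sum_eq_zero
    intro l _
    by_cases hl : l < j
    · have hla : l < a := by
        have h1 : l.val < j.val := hl
        have h2 : j.val < i.val := h
        show l.val < a.val
        omega
      rw [lower_zero N x hN0 hN1 hc a l hla, zero_mul]
    · rw [hN0 l j (not_lt.mp hl), mul_zero]
  have hR : ∑ l, N a l * x l j = N a i * x i j := by
    apply Finset.sum_eq_single i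
    · intro l _ hli
      by_cases hl : i < l
      · rw [lower_zero N x hN0 hN1 hc l j (h.trans hl), mul_zero]
      · have : l ≤ a := by
          have h1 : l.val ≤ i.val := not_lt.mp hl
          have h2 : l.val ≠ i.val := fun h => hli (Fin.ext h)
          show l.val ≤ a.val
          omega
        rw [hN0 a l this, zero_mul]
    · intro h; exact absurd (Finset.mem_univ i) h
  rw [hL, hR] at e
  exact ((hN1 a i hai).mul_right_eq_zero).mp e.symm
termination_by (j.val, n - i.val)
decreasing_by
  · simp_wf
    left
    exact hl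
  · simp_wf
    right
    have h1 : i.val < l.val := hl
    have := l.isLt
    show n - l.val < n - i.val
    omega

theorem diag_succ (N x : Matrix (Fin n) (Fin n) R)
    (hN0 : ∀ a b : Fin n, b ≤ a → N a b = 0)
    (hN1 : ∀ a b : Fin n, b.val = a.val + 1 → IsUnit (N a b))
    (hc : ∀ a b : Fin n, ∑ l, x a l * N l b = ∑ l, N a l * x l b)
    (i b : Fin n) (h : b.val = i.val + 1) : x i i = x b b := by
  have e := hc i b
  have hL : ∑ l, x i l * N l b = x i i * N i b := by
    apply Finset.sum_eq_single i
    · intro l _ hli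
      by_cases hl : l < i
      · rw [lower_zero N x hN0 hN1 hc i l hl, zero_mul]
      · have : b ≤ l := by
          have h1 : i.val ≤ l.val := not_lt.mp hl
          have h2 : l.val ≠ i.val := fun h => hli (Fin.ext h)
          show b.val ≤ l.val
          omega
        rw [hN0 l b this, mul_zero]
    · intro h; exact absurd (Finset.mem_univ i) h
  have hR : ∑ l, N i l * x l b = N i b * x b b := by
    apply Finset.sum_eq_single b
    · intro l _ hlb
      by_cases hl : b < l
      · rw [lower_zero N x hN0 hN1 hc l b hl, mul_zero]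
      · have : l ≤ i := by
          have h1 : l.val ≤ b.val := not_lt.mp hl
          have h2 : l.val ≠ b.val := fun h => hlb (Fin.ext h)
          show l.val ≤ i.val
          omega
        rw [hN0 i l this, zero_mul]
    · intro h; exact absurd (Finset.mem_univ b) h
  rw [hL, hR, mul_comm] at e
  exact (hN1 i b h).mul_right_injective e

theorem diag_const (N x : Matrix (Fin n) (Fin n) R)
    (hN0 : ∀ a b : Fin n, b ≤ a → N a b = 0)
    (hN1 : ∀ a b : Fin n, b.val = a.val + 1 → IsUnit (N a b))
    (hc : ∀ a b : Fin n, ∑ l, x a l * N l b = ∑ l, N a l * x l b)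
    (i j : Fin n) : x i i = x j j := by
  have key : ∀ (m : ℕ) (hm : m < n), x ⟨m, hm⟩ ⟨m, hm⟩ = x ⟨0, by omega⟩ ⟨0, by omega⟩ := by
    intro m
    induction m with
    | zero => intro _; rfl
    | succ m ih =>
      intro hm
      rw [← ih (by omega)]
      exact (diag_succ N x hN0 hN1 hc ⟨m, by omega⟩ ⟨m+1, hm⟩ rfl).symm
  have hi := key i.val i.isLt
  have hj := key j.val j.isLt
  simp only [Fin.eta] at hi hj
  rw [hi, hj]

theorem main {k : Type*} [Field k] [Algebra k R]
    (u : Matrix (Fin n) (Fin n) k) (htri : ∀ i j : Fin n, j < i → u i j = 0)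
    (hdiag : ∀ i j : Fin n, u i i = u j j)
    (hreg : ∀ (i j : Fin n), j.val = i.val + 1 → u i j ≠ 0)
    (x : Matrix (Fin n) (Fin n) R)
    (hxu : x * u.map (algebraMap k R) = u.map (algebraMap k R) * x) :
    (∀ i j : Fin n, j < i → x i j = 0) ∧ (∀ i j : Fin n, x i i = x j j) := by
  rcases Nat.eq_zero_or_pos n with hn | hn
  · subst hn
    exact ⟨fun i => i.elim0, fun i => i.elim0⟩
  let i0 : Fin n := ⟨0, hn⟩
  let c : k := u i0 i0
  let N : Matrix (Fin n) (Fin n) R := u.map (algebraMap k R) - algebraMap k R c • (1 : Matrix (Fin n) (Fin n) R)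
  have hcomm : x * N = N * x := by
    simp only [N, mul_sub, sub_mul, hxu, Matrix.mul_smul, Matrix.smul_mul, mul_one, one_mul]
  have hc : ∀ a b : Fin n, ∑ l, x a l * N l b = ∑ l, N a l * x l b := by
    intro a b
    have := congr_fun (congr_fun hcomm a) b
    simpa [Matrix.mul_apply] using this
  have hN0 : ∀ a b : Fin n, b ≤ a → N a b = 0 := by
    intro a b hba
    rcases hba.lt_or_eq with h | h
    · simp [N, htri a b h, Matrix.one_apply, h.ne']
    · subst h
      show algebraMap k R (u b b) - (algebraMap k R c • (1 : Matrix (Fin n) (Fin n) R)) b b = 0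
      rw [Matrix.smul_apply, Matrix.one_apply_eq, smul_eq_mul, mul_one, hdiag b i0, sub_self]
  have hN1 : ∀ a b : Fin n, b.val = a.val + 1 → IsUnit (N a b) := by
    intro a b hab
    have hne : a ≠ b := by
      intro h; subst h; omega
    have : N a b = algebraMap k R (u a b) := by
      simp [N, Matrix.one_apply, hne]
    rw [this]
    exact (IsUnit.mk0 _ (hreg a b hab)).map (algebraMap k R)
  exact ⟨fun i j h => lower_zero N x hN0 hN1 hc i j h, fun i j => diag_const N x hN0 hN1 hc i j⟩

end Groth.Agent.Lib.Helper4.RegUnipCentralizer
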