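import Mathlib.Tactic
import Mathlib.AlgebraicGeometry.Morphisms.Immersion
import Mathlib.AlgebraicGeometry.IdealSheaf.Subscheme
import Mathlib.Topology.Sheaves.SheafCondition.UniqueGluing
import Groth.Prelude.Def_RelSpec
import Groth.Agent.S8255
import Groth.Agent.Lib.Helper4.AffAlgBij
import Groth.Agent.Lib.Helper4.AffAlgLocal

set_option autoImplicit false
universe u
open CategoryTheory AlgebraicGeometry TopologicalSpace Opposite Limits

namespace Groth.Agent.Lib.Helper4.RelSpecKer

open RelSpec

/-- a map from a sheaf of rings that is injective on a basis is injective everywhere -/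
theorem injective_of_affine {Y : Scheme.{u}} (F G : TopCat.Presheaf CommRingCat.{u} Y.carrier)
    (hF : F.IsSheaf) (α : F ⟶ G)
    (h : ∀ V : Y.affineOpens, Function.Injective (α.app (op V.1)).hom) (U : Y.Opens) :
    Function.Injective (α.app (op U)).hom := by
  intro s t hst
  let FS : TopCat.Sheaf CommRingCat.{u} Y.carrier := ⟨F, hF⟩
  refine TopCat.Sheaf.eq_of_locally_eq' FS
    (fun V : {V : Y.affineOpens // V.1 ≤ U} => V.1.1) U (fun V => homOfLE V.2) ?_ s t ?_
  · intro x hx
    obtain ⟨_, ⟨V, hV, rfl⟩, hxV, hVU⟩ := Y.isBasis_affineOpens.exists_subset_of_mem_open hx U.2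
    exact TopologicalSpace.Opens.mem_iSup.mpr ⟨⟨⟨V, hV⟩, hVU⟩, hxV⟩
  · intro V
    apply h V.1
    have nat := α.naturality (homOfLE V.2).op
    have e1 : ∀ x, (α.app (op V.1.1)).hom ((F.map (homOfLE V.2).op).hom x) =
        (G.map (homOfLE V.2).op).hom ((α.app (op U)).hom x) := by
      intro x
      simp
    show (α.app (op V.1.1)).hom ((F.map (homOfLE V.2).op).hom s) =
      (α.app (op V.1.1)).hom ((F.map (homOfLE V.2).op).hom t)
    rw [e1, e1, hst]


theorem main4837 {X Y : Scheme.{u}} (f : X ⟶ Y)
    [QuasiCompact f] [QuasiSeparated f] (C : RelSpec.QCAlg Y) (g : X ⟶ C.spec) (w : g ≫ C.π = f)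
    [IsImmersion g] (φ : C ⟶ RelSpec.QCAlg.directImage f)
    (hφ : C.gammaMap ≫ φ.hom = AffAlg.algHom C.π f g w) :
    (g.ker = ⊥ ↔ ∀ U : Y.Opens, Function.Injective (φ.hom.app (Opposite.op U)).hom) ∧
      (g.ker = ⊥ → IsOpenImmersion g) := by
  have hqc : QuasiCompact g := by
    have : QuasiCompact (g ≫ C.π) := by rw [w]; infer_instance
    exact QuasiCompact.of_comp g C.π
  have hiso : IsIso C.gammaMap := Groth.Agent.S8255.result C
  -- relation between φ_U and g.app (π⁻¹U)
  have hrel : ∀ U : Y.Opens, Function.Injective (φ.hom.app (op U)).hom ↔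
      Function.Injective (g.app (C.π ⁻¹ᵁ U)).hom := by
    intro U
    obtain ⟨e, he⟩ := AffAlgLocal.algHom_app C.π f g w U
    have h1 : C.gammaMap.app (op U) ≫ φ.hom.app (op U) = g.app (C.π ⁻¹ᵁ U) ≫ e.hom := by
      rw [← NatTrans.comp_app, hφ, he]
    have hγ : IsIso (C.gammaMap.app (op U)) := inferInstance
    have hγb : Function.Bijective (C.gammaMap.app (op U)).hom :=
      ConcreteCategory.bijective_of_isIso (C.gammaMap.app (op U))
    have heb : Function.Bijective e.hom.hom := ConcreteCategory.bijective_of_isIso e.hom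
    have h2 : (φ.hom.app (op U)).hom ∘ (C.gammaMap.app (op U)).hom =
        e.hom.hom ∘ (g.app (C.π ⁻¹ᵁ U)).hom := by
      ext x
      exact congrArg (fun t => t.hom x) h1
    constructor
    · intro hi
      have : Function.Injective (e.hom.hom ∘ (g.app (C.π ⁻¹ᵁ U)).hom) := by
        rw [← h2]; exact hi.comp hγb.1
      exact Function.Injective.of_comp this
    · intro hi
      have : Function.Injective ((φ.hom.app (op U)).hom ∘ (C.gammaMap.app (op U)).hom) := by
        rw [h2]; exact heb.1.comp hi
      exact (Function.Injective.of_comp_iff' _ hγb).mp this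
  have hker : g.ker = ⊥ ↔ ∀ U : Y.affineOpens,
      Function.Injective (g.app (C.π ⁻¹ᵁ U.1)).hom := by
    constructor
    · intro hk U
      have h3 := Scheme.Hom.ker_apply g ⟨C.π ⁻¹ᵁ U.1, U.2.preimage C.π⟩
      rw [hk] at h3
      simp only [Scheme.IdealSheafData.ideal_bot] at h3
      exact (RingHom.injective_iff_ker_eq_bot _).mpr h3.symm
    · intro hU
      apply Scheme.IdealSheafData.ext_of_iSup_eq_top
        (fun U : Y.affineOpens => (⟨C.π ⁻¹ᵁ U.1, U.2.preimage C.π⟩ : C.spec.affineOpens))
        (AffAlgLocal.iSup_preimage_affineOpens C.π)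
      intro U
      rw [Scheme.Hom.ker_apply]
      simp only [Scheme.IdealSheafData.ideal_bot]
      exact (RingHom.injective_iff_ker_eq_bot _).mp (hU U)
  refine ⟨?_, ?_⟩
  · rw [hker]
    constructor
    · intro h
      apply injective_of_affine C.presheaf _ C.isSheaf φ.hom
      intro V
      exact (hrel V.1).mpr (h V)
    · intro h U
      exact (hrel U.1).mp (h U.1)
  · intro hk
    have : IsIso g.imageι := by
      delta Scheme.Hom.imageι Scheme.Hom.image
      rw [hk]
      infer_instance
    rw [← g.toImage_imageι]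
    infer_instance

end Groth.Agent.Lib.Helper4.RelSpecKer
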