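import Mathlib.Combinatorics.Enumerative.DoubleCounting
import Mathlib.Algebra.Algebra.Rat
import Mathlib.Data.Nat.Choose.Sum
import Mathlib.Data.Nat.Choose.Cast
import Mathlib.Tactic

namespace Groth.Agent.Lib.Helper4.Rk2Rel

open Finset

theorem rat_identity (k : ℕ) (hk : 1 ≤ k) :
    ∑ i ∈ range k, (-1 : ℚ) ^ i * (((i + 1).factorial : ℚ)⁻¹ * ((k - 1 - i).factorial : ℚ)⁻¹) =
      (k.factorial : ℚ)⁻¹ := by
  have h := Int.alternating_sum_range_choose (n := k)
  rw [if_neg (by omega)] at h
  have h' : ∑ i ∈ range (k + 1), ((-1 : ℚ) ^ i * (k.choose i : ℚ)) = 0 := by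
    have := congrArg (fun z : ℤ => (z : ℚ)) h
    simpa using this
  rw [sum_range_succ'] at h'
  simp only [pow_zero, Nat.choose_zero_right, Nat.cast_one, mul_one] at h'
  have h2 : ∑ i ∈ range k, (-1 : ℚ) ^ i * (k.choose (i + 1) : ℚ) = 1 := by
    have : ∑ i ∈ range k, (-1 : ℚ) ^ (i + 1) * (k.choose (i + 1) : ℚ) =
        - ∑ i ∈ range k, (-1 : ℚ) ^ i * (k.choose (i + 1) : ℚ) := by
      rw [← sum_neg_distrib]
      exact sum_congr rfl fun i _ => by ring
    rw [this] at h'
    linarith
  have hk0 : (k.factorial : ℚ) ≠ 0 := by exact_mod_cast k.factorial_ne_zero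
  have h3 : ∀ i ∈ range k, (-1 : ℚ) ^ i * (((i + 1).factorial : ℚ)⁻¹ * ((k - 1 - i).factorial : ℚ)⁻¹) =
      (k.factorial : ℚ)⁻¹ * ((-1 : ℚ) ^ i * (k.choose (i + 1) : ℚ)) := by
    intro i hi
    have hik : i + 1 ≤ k := by have := mem_range.1 hi; omega
    rw [Nat.cast_choose ℚ hik]
    have e : k - (i + 1) = k - 1 - i := by omega
    rw [e]
    have h1 : ((i + 1).factorial : ℚ) ≠ 0 := by exact_mod_cast (i + 1).factorial_ne_zero
    have h2 : ((k - 1 - i).factorial : ℚ) ≠ 0 := by exact_mod_cast (k - 1 - i).factorial_ne_zero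
    field_simp
  rw [sum_congr rfl h3, ← mul_sum, h2, mul_one]

theorem main (R : Type*) [CommRing R] [Algebra ℚ R]
    (θ η : R) (g : ℕ) (c : ℕ → R) (hc : ∀ k : ℕ, c k = ((Nat.factorial k : ℚ)⁻¹) • ((4 : R) * θ) ^ k)
    (hθ : θ ^ (g + 1) = 0)
    (hrel : η ^ (g + 1) = ∑ i ∈ Finset.Ico 1 (g + 2), (-1 : R) ^ (i - 1) * c i * η ^ (g + 1 - i))
    (k : ℕ) (hk1 : 1 ≤ k) (hkg : k ≤ g) :
    η ^ (g + k) * θ ^ (g - k) = c k * η ^ g * θ ^ (g - k) := by
  set q : ℕ → R := fun i => algebraMap ℚ R ((i.factorial : ℚ)⁻¹) with hq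
  have hc' : ∀ k, c k = q k * 4 ^ k * θ ^ k := by
    intro k
    rw [hc, Algebra.smul_def, mul_pow, mul_assoc]
  have hrel' : η ^ (g + 1) = ∑ i ∈ range (g + 1), (-1 : R) ^ i * c (i + 1) * η ^ (g - i) := by
    rw [hrel, sum_Ico_eq_sum_range]
    have : g + 2 - 1 = g + 1 := by omega
    rw [this]
    refine sum_congr rfl fun i _ => ?_
    have e1 : 1 + i - 1 = i := by omega
    have e2 : g + 1 - (1 + i) = g - i := by omega
    rw [e1, e2, add_comm 1 i]
  set Z : R := θ ^ g * η ^ g with hZ
  have hθbig : ∀ m, g + 1 ≤ m → θ ^ m = 0 := by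
    intro m hm
    obtain ⟨t, rfl⟩ := Nat.exists_eq_add_of_le hm
    rw [pow_add, hθ, zero_mul]
  have P : ∀ j, j ≤ g → η ^ (g + j) * θ ^ (g - j) = q j * 4 ^ j * Z := by
    intro j
    induction j using Nat.strong_induction_on with
    | _ j ih =>
      intro hjg
      rcases Nat.eq_zero_or_pos j with rfl | hjpos
      · simp only [add_zero, Nat.sub_zero, pow_zero, mul_one, hq, Nat.factorial_zero, Nat.cast_one,
          inv_one, map_one, one_mul, hZ]
        ring
      · have hsplit : η ^ (g + j) * θ ^ (g - j) = η ^ (g + 1) * (η ^ (j - 1) * θ ^ (g - j)) := by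
          rw [← mul_assoc, ← pow_add]
          congr 2
          omega
        rw [hsplit, hrel', sum_mul]
        have hterm : ∀ i ∈ range (g + 1), (-1 : R) ^ i * c (i + 1) * η ^ (g - i) *
            (η ^ (j - 1) * θ ^ (g - j)) =
            if i < j then (4 ^ j * Z) * ((-1 : R) ^ i * (q (i + 1) * q (j - 1 - i))) else 0 := by
          intro i hi
          have hig : i ≤ g := by have := mem_range.1 hi; omega
          split_ifs with hij
          · have hj' : j - 1 - i < j := by omega
            have hj'g : j - 1 - i ≤ g := by omega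
            have := ih (j - 1 - i) hj' hj'g
            rw [hc']
            have e1 : η ^ (g - i) * η ^ (j - 1) = η ^ (g + (j - 1 - i)) := by
              rw [← pow_add]; congr 1; omega
            have e2 : θ ^ (i + 1) * θ ^ (g - j) = θ ^ (g - (j - 1 - i)) := by
              rw [← pow_add]; congr 1; omega
            have e3 : (4 : R) ^ (i + 1) * 4 ^ (j - 1 - i) = 4 ^ j := by
              rw [← pow_add]; congr 1; omega
            calc (-1 : R) ^ i * (q (i + 1) * 4 ^ (i + 1) * θ ^ (i + 1)) * η ^ (g - i) *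
                  (η ^ (j - 1) * θ ^ (g - j))
                = (-1 : R) ^ i * q (i + 1) * 4 ^ (i + 1) *
                    ((η ^ (g - i) * η ^ (j - 1)) * (θ ^ (i + 1) * θ ^ (g - j))) := by ring
              _ = (-1 : R) ^ i * q (i + 1) * 4 ^ (i + 1) *
                    (q (j - 1 - i) * 4 ^ (j - 1 - i) * Z) := by rw [e1, e2, this]
              _ = ((4 : R) ^ (i + 1) * 4 ^ (j - 1 - i)) * Z *
                    ((-1 : R) ^ i * (q (i + 1) * q (j - 1 - i))) := by ring
              _ = _ := by rw [e3]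
          · rw [hc']
            have e2 : θ ^ (i + 1) * θ ^ (g - j) = 0 := by
              rw [← pow_add]; exact hθbig _ (by omega)
            calc (-1 : R) ^ i * (q (i + 1) * 4 ^ (i + 1) * θ ^ (i + 1)) * η ^ (g - i) *
                  (η ^ (j - 1) * θ ^ (g - j))
                = (-1 : R) ^ i * q (i + 1) * 4 ^ (i + 1) * η ^ (g - i) * η ^ (j - 1) *
                    (θ ^ (i + 1) * θ ^ (g - j)) := by ring
              _ = 0 := by rw [e2, mul_zero]
        rw [sum_congr rfl hterm, ← sum_filter]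
        have hfil : (range (g + 1)).filter (fun i => i < j) = range j := by
          ext i
          simp only [mem_filter, mem_range]
          omega
        rw [hfil, ← mul_sum]
        have hid := congrArg (algebraMap ℚ R) (rat_identity j hjpos)
        simp only [map_sum, map_mul, map_pow, map_neg, map_one] at hid
        rw [hid]
        ring
  have := P k hkg
  rw [this, hc']
  have e : θ ^ k * θ ^ (g - k) = θ ^ g := by rw [← pow_add]; congr 1; omega
  calc q k * 4 ^ k * Z = q k * 4 ^ k * (θ ^ g * η ^ g) := rfl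
    _ = q k * 4 ^ k * ((θ ^ k * θ ^ (g - k)) * η ^ g) := by rw [e]
    _ = q k * 4 ^ k * θ ^ k * η ^ g * θ ^ (g - k) := by ring

end Groth.Agent.Lib.Helper4.Rk2Rel
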