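import Mathlib.RingTheory.Polynomial.Cyclotomic.Basic
import Mathlib.RingTheory.RootsOfUnity.Complex
import Mathlib.Tactic

namespace Groth.Agent.Lib.Helper4.RootsProd

open Polynomial

theorem prod_nthRootsFinset {R : Type*} [CommRing R] [IsDomain R] {M : Type*} [CommMonoid M]
    {ζ : R} {n : ℕ} (h : IsPrimitiveRoot ζ n) (F : R → M) :
    ∏ θ ∈ nthRootsFinset n (1 : R), F θ = ∏ k ∈ Finset.range n, F (ζ ^ k) := by
  classical
  have h1 : nthRootsFinset n (1 : R) = (Finset.range n).image (fun k => ζ ^ k) := by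
    unfold nthRootsFinset
    rw [h.nthRoots_eq (one_pow n)]
    ext x
    simp
  rw [h1, Finset.prod_image]
  intro i hi j hj hij
  exact h.pow_inj (Finset.mem_range.1 hi) (Finset.mem_range.1 hj) hij

theorem prod_range_mul_periodic {M : Type*} [CommMonoid M] (G : ℕ → M) (m g : ℕ)
    (hG : ∀ k, G (k + m) = G k) :
    ∏ k ∈ Finset.range (m * g), G k = (∏ k ∈ Finset.range m, G k) ^ g := by
  have hG' : ∀ b k, G (m * b + k) = G k := by
    intro b
    induction b with
    | zero => intro k; simp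
    | succ b ih =>
      intro k
      rw [Nat.mul_succ, add_right_comm, hG, ih]
  induction g with
  | zero => simp
  | succ g ih =>
    rw [Nat.mul_succ, Finset.prod_range_add, ih, pow_succ]
    congr 1
    exact Finset.prod_congr rfl fun k _ => hG' g k

theorem main (n d : ℕ) (hn : 0 < n) (hd : 0 < d) :
    ((1 : Polynomial ℂ) - Polynomial.X ^ (n * d / Nat.gcd n d)) ^ Nat.gcd n d =
      ∏ θ ∈ Polynomial.nthRootsFinset n (1 : ℂ),
        (1 - Polynomial.C (θ ^ d) * Polynomial.X ^ d) := by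
  set g := Nat.gcd n d with hg
  have hgpos : 0 < g := Nat.gcd_pos_of_pos_left d hn
  obtain ⟨m, hm⟩ : g ∣ n := Nat.gcd_dvd_left n d
  have hmg : n = m * g := by rw [hm, mul_comm]
  have hexp : n * d / g = m * d := by
    rw [hmg, mul_assoc, mul_comm g d, ← mul_assoc, Nat.mul_div_cancel _ hgpos]
  have hζ : IsPrimitiveRoot (Complex.exp (2 * Real.pi * Complex.I / n)) n :=
    Complex.isPrimitiveRoot_exp n hn.ne'
  set ζ := Complex.exp (2 * Real.pi * Complex.I / n) with hζdef
  set ω := ζ ^ d with hω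
  have hωprim : IsPrimitiveRoot ω m := by
    have h1 : orderOf ω = m := by
      rw [hω, orderOf_pow' _ hd.ne', ← hζ.eq_orderOf, ← hg, hmg, Nat.mul_div_cancel _ hgpos]
    rw [← h1]
    exact IsPrimitiveRoot.orderOf ω
  have hmpos : 0 < m := by
    rcases Nat.eq_zero_or_pos m with h | h
    · rw [h, zero_mul] at hmg; omega
    · exact h
  rw [hexp, prod_nthRootsFinset hζ, show Finset.range n = Finset.range (m * g) from by rw [← hmg]]
  have hper : ∀ k, (1 - C ((ζ ^ (k + m)) ^ d) * X ^ d : ℂ[X]) = 1 - C ((ζ ^ k) ^ d) * X ^ d := by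
    intro k
    have : (ζ ^ (k + m)) ^ d = (ζ ^ k) ^ d := by
      rw [← pow_mul, ← pow_mul, add_mul, pow_add, mul_comm m d, pow_mul ζ d m, ← hω,
        hωprim.pow_eq_one, mul_one]
    rw [this]
  rw [prod_range_mul_periodic (fun k => (1 - C ((ζ ^ k) ^ d) * X ^ d : ℂ[X])) m g hper]
  congr 1
  have hCω : IsPrimitiveRoot (C ω : ℂ[X]) m := hωprim.map_of_injective C_injective
  have h2 := hCω.pow_sub_pow_eq_prod_sub_mul (1 : ℂ[X]) (X ^ d) hmpos
  rw [prod_nthRootsFinset hCω, one_pow, ← pow_mul, mul_comm d m] at h2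
  rw [h2]
  refine Finset.prod_congr rfl fun k _ => ?_
  have hk : ((ζ ^ k) ^ d) = ω ^ k := by rw [hω, ← pow_mul, ← pow_mul, mul_comm]
  rw [hk]
  simp only [hω, map_pow]

end Groth.Agent.Lib.Helper4.RootsProd
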