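import Groth.Agent.Lib.Helper4.SN1
import Groth.Agent.Lib.Helper17.GGStalk
import Groth.Agent.Lib.Helper8.GGPoint
set_option backward.isDefEq.respectTransparency.types false
set_option autoImplicit false
set_option linter.style.haveILetI false
set_option linter.unusedSectionVars false

universe u
open CategoryTheory CategoryTheory.Limits AlgebraicGeometry Opposite TopologicalSpace

namespace Groth.Agent.Lib.Helper4.SN2
open Groth.Agent.Lib.Helper28 Groth.Agent.Lib.Helper28.GenLocus Groth.Agent.Lib.Helper28.QCohLoc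
  Groth.Agent.Lib.Helper4.Snapper Groth.Agent.Lib.Helper6.K0Len Groth.Agent.Lib.Helper4.NM1
  Groth.Agent.Lib.Helper4.NM2 Groth.Agent.Lib.Helper8.EulerK Groth.Agent.Lib.Helper6.K0Op
  Groth.Agent.Lib.Helper4.NM6 Groth.Agent.Lib.Helper4.SN1

variable (k : Type u) [Field k] {X : Scheme.{u}} [X.Over (Spec (CommRingCat.of k))]
    [IsProper (X ↘ (Spec (CommRingCat.of k)))]

include k in
/-- a strictly nef invertible module with a globally generated positive power is ample -/
theorem isAmple_of_strictNef_of_gg {L : X.Modules} (hL : PicF.IsInvertible L) (hnef : StrictNef k L)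
    (m : ℕ) (hgg : Curv2.IsGloballyGenerated (CohB1.tensorPow L (m + 1))) : CohB1.IsAmple L := by
  haveI : CompactSpace X := QuasiCompact.compactSpace_of_compactSpace (X ↘ Spec (CommRingCat.of k))
  by_cases hne : Nonempty X
  swap
  · rw [not_nonempty_iff] at hne
    exact ⟨hL, inferInstance, fun x => (hne.false x).elim⟩
  obtain ⟨M, hM, r, b, hb⟩ := Groth.Agent.Lib.Helper4.NM4.exists_cover_of_pointwise hL (fun x _ => by
    obtain ⟨T, hT⟩ := Groth.Agent.Lib.Helper17.GGStalk.exists_mem_genLocus _
      (isInvertible_tensorPow hL (m + 1)) hgg x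
    exact ⟨m + 1, Nat.succ_pos m, T, hT⟩)
  refine Groth.Agent.Lib.Helper4.NM5.isAmple_of_cover k hL M hM r b hb ?_
  rintro T hTirr ⟨a, ha, b', hb', hab⟩
  haveI : IsIntegral (Scheme.IdealSheafData.vanishingIdeal T).subscheme :=
    Groth.Agent.Lib.Helper6.DevRed.isIntegral_subscheme_vanishingIdeal T hTirr
  set c := (Scheme.IdealSheafData.vanishingIdeal T).subschemeι with hc
  have hrc : Set.range c = (T : Set X) := by
    rw [hc, Scheme.IdealSheafData.range_subschemeι, Scheme.IdealSheafData.coe_support_vanishingIdeal]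
  obtain ⟨wa, hwa⟩ : a ∈ Set.range c := by rw [hrc]; exact ha
  obtain ⟨wb, hwb⟩ : b' ∈ Set.range c := by rw [hrc]; exact hb'
  have hwab : wa ≠ wb := by
    intro h
    apply hab
    rw [← hwa, ← hwb, h]
  exact not_trivial_of_strictNef k hL hnef c wa wb hwab M hM

/-- **ample ⇔ strictly nef and semiample** (the statement of S16710) -/
theorem main (k : Type u) [Field k] (X : Scheme.{u})
    [X.Over (Spec (CommRingCat.of k))] [IsProper (X ↘ (Spec (CommRingCat.of k)))]
    (L : X.Modules) (hL : PicF.IsInvertible L) :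
    CohB1.IsAmple L ↔
      ((∀ C : X.IdealSheafData, IsIntegral C.subscheme →
          topologicalKrullDim (C.support : Set X) = 1 →
            0 < Curv2.euler k X (CohB1.tensorMod (ClSub.quotMod C) L) - Curv2.euler k X (ClSub.quotMod C)) ∧
        ∃ m : ℕ, Curv2.IsGloballyGenerated (CohB1.tensorPow L (m + 1))) := by
  haveI : CompactSpace X := QuasiCompact.compactSpace_of_compactSpace (X ↘ Spec (CommRingCat.of k))
  constructor
  · intro hA
    refine ⟨fun C hC hdim => ?_, ?_⟩
    · haveI := hC
      have h1 := pos_of_isAmple k L hA C 1 one_pos hdim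
      rwa [hcoef_one k L hL _ (Groth.Agent.Lib.Helper6.DevRed.isCoh_quotMod C)] at h1
    · by_cases hne : Nonempty X
      swap
      · rw [not_nonempty_iff] at hne
        exact ⟨0, Groth.Agent.Lib.Helper8.GGPoint.isGloballyGenerated_of_forall_mem_genLocus
          (fun x => (hne.false x).elim)⟩
      obtain ⟨M, hM, r, b, hb⟩ := Groth.Agent.Lib.Helper4.NM4.exists_cover_of_pointwise hL (fun x _ => by
        obtain ⟨n, s, hx, -⟩ := hA.2.2 x
        exact ⟨n + 1, Nat.succ_pos n, s, hx⟩)
      obtain ⟨m, rfl⟩ : ∃ m, M = m + 1 := ⟨M - 1, by omega⟩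
      refine ⟨m, Groth.Agent.Lib.Helper8.GGPoint.isGloballyGenerated_of_forall_mem_genLocus (fun x => ?_)⟩
      obtain ⟨a, ha⟩ := hb x
      exact ⟨b a, ha⟩
  · rintro ⟨hnef, m, hgg⟩
    exact isAmple_of_strictNef_of_gg k hL hnef m hgg

end Groth.Agent.Lib.Helper4.SN2
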