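import Groth.Agent.Lib.Helper4.SN1
set_option backward.isDefEq.respectTransparency.types false
set_option autoImplicit false
set_option linter.style.haveILetI false
set_option linter.unusedSectionVars false

universe u
open CategoryTheory CategoryTheory.Limits AlgebraicGeometry Opposite TopologicalSpace

namespace Groth.Agent.Lib.Helper4.SN3
open Groth.Agent.Lib.Helper28 Groth.Agent.Lib.Helper28.GenLocus Groth.Agent.Lib.Helper28.QCohLoc
  Groth.Agent.Lib.Helper4.Snapper Groth.Agent.Lib.Helper6.K0Len Groth.Agent.Lib.Helper4.NM1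
  Groth.Agent.Lib.Helper4.NM2 Groth.Agent.Lib.Helper8.EulerK Groth.Agent.Lib.Helper6.K0Op
  Groth.Agent.Lib.Helper4.NM6 Groth.Agent.Lib.Helper4.SN1 Groth.Agent.Lib.Helper4.NM3
  Groth.Agent.Lib.Helper6.DevGen Groth.Agent.Lib.Helper4.VanClass

variable (k : Type u) [Field k] {X : Scheme.{u}} [X.Over (Spec (CommRingCat.of k))]
    [IsProper (X ↘ (Spec (CommRingCat.of k)))]

/-- **the inductive step** -/
theorem step {L : X.Modules} (hL : PicF.IsInvertible L) (hnef : StrictNef k L)
    (heff : ∀ Z : X.IdealSheafData, IsIntegral Z.subscheme →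
      ∃ (m : ℕ) (s : Coh.structureModule Z.subscheme ⟶
          CohB1.tensorPow ((Scheme.Modules.pullback Z.subschemeι).obj L) (m + 1)), s ≠ 0) (T₀ : Closeds X)
    (hirr : IsIrreducible (T₀ : Set X))
    (IH : ∀ T' : Closeds X, T' < T₀ → IsIrreducible (T' : Set X) → P L T') : P L T₀ := by
  haveI : IsNoetherian X := isNoetherian_of_proper k
  unfold P
  set I := Scheme.IdealSheafData.vanishingIdeal T₀ with hI
  letI : I.subscheme.Over (Spec (CommRingCat.of k)) := ⟨I.subschemeι ≫ (X ↘ (Spec (CommRingCat.of k)))⟩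
  haveI : IsProper (I.subscheme ↘ (Spec (CommRingCat.of k))) :=
    inferInstanceAs (IsProper (I.subschemeι ≫ (X ↘ (Spec (CommRingCat.of k)))))
  haveI : IsIntegral I.subscheme :=
    Groth.Agent.Lib.Helper6.DevRed.isIntegral_subscheme_vanishingIdeal T₀ hirr
  have hN := PullbackInv.isInvertible_pullback I.subschemeι hL
  have hsupI : (I.support : Set X) = (T₀ : Set X) := Scheme.IdealSheafData.coe_support_vanishingIdeal T₀
  have hrange : Set.range I.subschemeι = (T₀ : Set X) := by
    rw [Scheme.IdealSheafData.range_subschemeι, hsupI]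
  have hinj : Function.Injective I.subschemeι := I.subschemeι.isClosedEmbedding.injective
  by_cases h2 : ∃ a ∈ T₀, ∃ b ∈ T₀, a ≠ b
  swap
  · -- the subscheme is a point
    push Not at h2
    haveI : Subsingleton I.subscheme := ⟨fun y y' => hinj (h2 _ (by rw [← SetLike.mem_coe, ← hrange]; exact ⟨y, rfl⟩) _
      (by rw [← SetLike.mem_coe, ← hrange]; exact ⟨y', rfl⟩))⟩
    obtain ⟨z⟩ := (inferInstance : Nonempty I.subscheme)
    obtain ⟨U, hU, hzU, -⟩ := exists_isAffineOpen_mem_and_subset (x := z) (U := ⊤) trivial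
    have hUtop : U = ⊤ := by
      rw [eq_top_iff]
      intro w _
      rw [Subsingleton.elim w z]
      exact hzU
    subst hUtop
    haveI : IsAffine (↑(⊤ : I.subscheme.Opens) : Scheme.{u}) := hU
    haveI : IsAffine I.subscheme := IsAffine.of_isIso I.subscheme.topIso.inv
    exact InvQC.isAmple_of_isQuasiAffine _ hN
  obtain ⟨a, ha, b, hb, hab⟩ := h2
  -- dimension
  obtain ⟨d, hd⟩ := exists_dim_eq k (T₀ : Set X) hirr.nonempty
  have hdpos : 0 < d := by
    haveI : IrreducibleSpace (T₀ : Set X) := Subtype.irreducibleSpace hirr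
    have h1 := dim_pos_of_ne (T := (T₀ : Set X)) ⟨a, ha⟩ ⟨b, hb⟩ (fun h => hab (congrArg Subtype.val h))
    rw [hd] at h1
    exact_mod_cast h1
  have hdimY : topologicalKrullDim I.subscheme = (d : WithBot ℕ∞) := by
    have e := I.subschemeι.isClosedEmbedding.isEmbedding.toHomeomorph
    rw [e.isHomeomorph.topologicalKrullDim_eq, hrange]
    exact hd
  -- H1
  have H1' : H1 ((Scheme.Modules.pullback I.subschemeι).obj L) := by
    intro K hK hKsupp
    haveI : K.IsQuasicoherent := hK.1
    haveI : SheafOfModules.IsFiniteType.{u} (R := I.subscheme.ringCatSheaf) K := hK.2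
    set J := Groth.Agent.Lib.Helper17.AnnIdeal.annIdeal K with hJ
    have hJs : (J.support : Set I.subscheme) = CohB1.support K :=
      Groth.Agent.Lib.Helper17.AnnIdeal.support_annIdeal K
    have hamp : CohB1.IsAmple ((Scheme.Modules.pullback (J.subschemeι ≫ I.subschemeι)).obj L) := by
      apply isAmple_pullback_of_forall k hL
      intro T' hT'irr hT'sub
      apply IH T' ?_ hT'irr
      have hle : T' ≤ T₀ := by
        intro x hx
        obtain ⟨w, rfl⟩ := hT'sub hx
        rw [← SetLike.mem_coe, ← hrange]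
        exact ⟨J.subschemeι w, rfl⟩
      refine lt_of_le_of_ne hle (fun heq => hKsupp ?_)
      rw [← hJs, Set.eq_univ_iff_forall]
      intro y
      have hy : I.subschemeι y ∈ (T' : Set X) := by
        rw [heq, ← hrange]; exact ⟨y, rfl⟩
      obtain ⟨w, hw⟩ := hT'sub hy
      have : J.subschemeι w = y := hinj hw
      rw [← this, ← Scheme.IdealSheafData.range_subschemeι]
      exact ⟨w, rfl⟩
    have hamp' : CohB1.IsAmple ((Scheme.Modules.pullback J.subschemeι).obj
        ((Scheme.Modules.pullback I.subschemeι).obj L)) :=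
      AmpleIso.isAmple_of_iso ((Scheme.Modules.pullbackComp J.subschemeι I.subschemeι).app L).symm hamp
    refine van_of_killed k (I.subscheme ↘ (Spec (CommRingCat.of k))) hN J.subschemeι hamp' K hK ?_
    rw [Scheme.IdealSheafData.ker_subschemeι]
    intro U a ha m
    exact Module.mem_annihilator.mp ha m
  -- sections
  obtain ⟨m, s, hs⟩ := heff I inferInstance
  obtain ⟨M, hM, r, bb, hbb⟩ := Groth.Agent.Lib.Helper4.NM4.exists_cover k hN H1' (m + 1) (Nat.succ_pos m) s hs
  refine Groth.Agent.Lib.Helper4.NM5.isAmple_of_cover k hN M hM r bb hbb ?_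
  -- H3
  rintro T'' hT''irr ⟨a'', ha'', b'', hb'', hab''⟩ ⟨e⟩
  set c := (Scheme.IdealSheafData.vanishingIdeal T'').subschemeι with hc
  haveI : IsIntegral (Scheme.IdealSheafData.vanishingIdeal T'').subscheme :=
    Groth.Agent.Lib.Helper6.DevRed.isIntegral_subscheme_vanishingIdeal T'' hT''irr
  have hrc : Set.range c = (T'' : Set I.subscheme) := by
    rw [hc, Scheme.IdealSheafData.range_subschemeι, Scheme.IdealSheafData.coe_support_vanishingIdeal]
  obtain ⟨wa, hwa⟩ : a'' ∈ Set.range c := by rw [hrc]; exact ha''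
  obtain ⟨wb, hwb⟩ : b'' ∈ Set.range c := by rw [hrc]; exact hb''
  have hwab : wa ≠ wb := by
    intro h
    apply hab''
    rw [← hwa, ← hwb, h]
  obtain ⟨ψ, -⟩ := PullbackInv.exists_pullback_tensorPow_iso I.subschemeι hL M
  exact not_trivial_of_strictNef k hL hnef (c ≫ I.subschemeι) wa wb hwab M hM
    ⟨((Scheme.Modules.pullbackComp c I.subschemeι).app _).symm ≪≫
      (Scheme.Modules.pullback c).mapIso ψ ≪≫ e⟩


/-- **strictly nef and effective on every integral closed subscheme implies ample** (the statement of S16711) -/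
theorem main (k : Type u) [Field k] [IsAlgClosed k]
    (X : Scheme.{u}) [X.Over (Spec (CommRingCat.of k))] [IsProper (X ↘ (Spec (CommRingCat.of k)))]
    (L : X.Modules) (hL : PicF.IsInvertible L)
    (hnef : ∀ C : X.IdealSheafData, IsIntegral C.subscheme →
      topologicalKrullDim (C.support : Set X) = 1 →
        0 < Curv2.euler k X (CohB1.tensorMod (ClSub.quotMod C) L) - Curv2.euler k X (ClSub.quotMod C))
    (heff : ∀ Z : X.IdealSheafData, IsIntegral Z.subscheme →
      ∃ (m : ℕ) (s : Coh.structureModule Z.subscheme ⟶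
          CohB1.tensorPow ((Scheme.Modules.pullback Z.subschemeι).obj L) (m + 1)), s ≠ 0) :
    CohB1.IsAmple L := by
  haveI : IsNoetherian X := isNoetherian_of_proper k
  have key : ∀ T : Closeds X, IsIrreducible (T : Set X) → P L T := by
    intro T
    induction T using WellFoundedLT.induction with
    | ind T IH =>
      intro hirr
      exact step k hL hnef heff T hirr (fun T' hlt hirr' => IH T' hlt hirr')
  have h := isAmple_pullback_of_forall k hL (𝟙 X) (fun T' hirr _ => key T' hirr)
  exact AmpleIso.isAmple_of_iso ((Scheme.Modules.pullbackId X).app L) h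

end Groth.Agent.Lib.Helper4.SN3
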