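import Groth.Agent.Lib.Helper4.FC9
import Groth.Agent.Lib.Helper4.SN2
set_option backward.isDefEq.respectTransparency.types false
set_option autoImplicit false
set_option linter.style.haveILetI false
set_option linter.unusedSectionVars false

universe u
open CategoryTheory CategoryTheory.Limits AlgebraicGeometry Opposite TopologicalSpace

namespace Groth.Agent.Lib.Helper4.SN4
open Groth.Agent.Lib.Helper28 Groth.Agent.Lib.Helper28.GenLocus Groth.Agent.Lib.Helper28.QCohLoc
  Groth.Agent.Lib.Helper4.Snapper Groth.Agent.Lib.Helper6.K0Len Groth.Agent.Lib.Helper4.NM1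
  Groth.Agent.Lib.Helper4.NM2 Groth.Agent.Lib.Helper8.EulerK Groth.Agent.Lib.Helper6.K0Op
  Groth.Agent.Lib.Helper4.NM6 Groth.Agent.Lib.Helper4.SN1 Groth.Agent.Lib.Helper4.KLM6
  Groth.Agent.Lib.Helper4.KLM2

variable (k : Type u) [Field k] {X : Scheme.{u}} [X.Over (Spec (CommRingCat.of k))]
    [IsProper (X ↘ (Spec (CommRingCat.of k)))]

/-- an invertible module whose restriction to every integral closed curve is ample is strictly nef -/
theorem strictNef_of_ample_on_curves {L : X.Modules} (hL : PicF.IsInvertible L)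
    (hcurves : ∀ C : X.IdealSheafData, IsIntegral C.subscheme →
      topologicalKrullDim (C.support : Set X) = 1 →
        CohB1.IsAmple ((Scheme.Modules.pullback C.subschemeι).obj L)) : StrictNef k L := by
  haveI : IsNoetherian X := isNoetherian_of_proper k
  intro C hC hdim
  haveI := hC
  have hA := hcurves C hC hdim
  letI iC : C.subscheme.Over (Spec (CommRingCat.of k)) := ⟨C.subschemeι ≫ (X ↘ (Spec (CommRingCat.of k)))⟩
  haveI : IsProper (C.subscheme ↘ (Spec (CommRingCat.of k))) :=
    inferInstanceAs (IsProper (C.subschemeι ≫ (X ↘ (Spec (CommRingCat.of k)))))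
  have hLC := PullbackInv.isInvertible_pullback C.subschemeι hL
  rw [euler_sub_eq_ev k hL _ (Groth.Agent.Lib.Helper6.DevRed.isCoh_quotMod C)]
  have h2 := ev_pow_mul_pow_quotMod_eq k C hL hL 1 0
  rw [pow_one, pow_zero, mul_one, pow_one, pow_zero, mul_one] at h2
  rw [h2, ← euler_sub_eq_ev k hLC _ Groth.Agent.Lib.Helper6.DevRed.isCoh_structureModule,
    ← hcoef_one k _ hLC _ Groth.Agent.Lib.Helper6.DevRed.isCoh_structureModule]
  apply Groth.Agent.Lib.Helper4.Snapper.hcoef_pos k _ hA 1 _ Groth.Agent.Lib.Helper6.DevRed.isCoh_structureModule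
  have hCdim' : topologicalKrullDim C.subscheme = 1 := by
    rw [← hdim, ← C.range_subschemeι]
    exact C.subschemeι.isClosedEmbedding.isEmbedding.toHomeomorph.isHomeomorph.topologicalKrullDim_eq
  rw [support_of_isInvertible _ (AmpleUnit.isInvertible_structureModule C.subscheme),
    (Homeomorph.Set.univ C.subscheme).isHomeomorph.topologicalKrullDim_eq, hCdim']
  rfl

/-- the statement of S11369 -/
theorem main11369 (k : Type u) [Field k] [IsAlgClosed k] (X : Scheme.{u})
    [X.Over (Spec (CommRingCat.of k))] [IsProper (X ↘ (Spec (CommRingCat.of k)))]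
    (L : X.Modules) (hL : PicF.IsInvertible L) (hgen : Curv2.IsGloballyGenerated L)
    (hcurves : ∀ C : X.IdealSheafData, IsIntegral C.subscheme →
      topologicalKrullDim (C.support : Set X) = 1 →
        CohB1.IsAmple ((Scheme.Modules.pullback C.subschemeι).obj L)) :
    CohB1.IsAmple L := by
  obtain ⟨ν⟩ := InvQC.nonempty_unit_tensor_iso L
  have ν' : CohB1.tensorPow L (0 + 1) ≅ L := ν
  have hgg : Curv2.IsGloballyGenerated (CohB1.tensorPow L (0 + 1)) :=
    Groth.Agent.Lib.Helper4.Snapper.isGloballyGenerated_of_iso ν'.symm hgen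
  exact Groth.Agent.Lib.Helper4.SN2.isAmple_of_strictNef_of_gg k hL (strictNef_of_ample_on_curves k hL hcurves) 0 hgg

end Groth.Agent.Lib.Helper4.SN4
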