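import Groth.Agent.Lib.Helper4.JHUniq1
set_option backward.isDefEq.respectTransparency.types false
set_option autoImplicit false
set_option linter.style.haveILetI false

universe u
open CategoryTheory CategoryTheory.Limits AlgebraicGeometry Opposite TopologicalSpace Polynomial

namespace Groth.Agent.Lib.Helper4.SSMor
open Groth.Agent.Lib.Helper4.HilbPoly Groth.Agent.Lib.Helper4.PolyAsymp Groth.Agent.Lib.Helper4.HNFilt
  Groth.Agent.Lib.Helper4.MaxDestab Groth.Agent.Lib.Helper4.SubPre Groth.Agent.Lib.Helper4.HNExist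
  Groth.Agent.Lib.Helper4.JHExist

variable (k : Type u) [Field k] {X : Scheme.{u}} [X.Over (Spec (CommRingCat.of k))]
    [IsProper (X ↘ (Spec (CommRingCat.of k)))] {L : X.Modules}

/-- a nonzero coherent submodule of a semistable module with the same reduced polynomial is semistable -/
theorem isSemistable_sub_of_redEq (hL : CohB1.IsAmple L) {d : ℕ} {E D : X.Modules}
    (hE : ShStab.IsSemistable k X L E d) (δ : D ⟶ E) [Mono δ] (hD : Coh.IsCoh D) (hD0 : ¬ IsZero D)
    {pD pE : ℚ[X]} (hpD : ShStab.IsHilbPoly k X L D pD) (hpE : ShStab.IsHilbPoly k X L E pE)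
    (hred : StabCat.RedEq d pD pE) : ShStab.IsSemistable k X L D d := by
  have hαE := alpha_pos_of_isSemistable k hL hE hpE
  have hαD : 0 < StabCat.alpha d pD := alpha_pos k hL hD (hE.2.2.1 D δ inferInstance hD hD0) hpD
  refine ⟨hD, hD0, isPure_of_mono hE.2.2.1 δ, fun G j hj hG hG0 _ pG pD' hpG hpD' => ?_⟩
  haveI := hj
  rw [isHilbPoly_unique k hpD' hpD]
  have hGE := redLE_of_isSemistable k hL hE (j ≫ δ) hG hG0 hpG hpE
  have hαG : 0 < StabCat.alpha d pG := alpha_pos k hL hG (hE.2.2.1 G (j ≫ δ) inferInstance hG hG0) hpG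
  exact redLE_trans hGE (redLE_of_redEq' hred) hαE hαG.le hαD.le

/-- the quotient of a semistable module by a proper nonzero coherent submodule with the same reduced polynomial is
semistable with the same reduced polynomial -/
theorem isSemistable_cokernel_of_redEq (hL : CohB1.IsAmple L) {d : ℕ} {E D : X.Modules}
    (hE : ShStab.IsSemistable k X L E d) (δ : D ⟶ E) [Mono δ] (hD : Coh.IsCoh D) (hD0 : ¬ IsZero D)
    (hiso : ¬ IsIso δ)
    {pD pE : ℚ[X]} (hpD : ShStab.IsHilbPoly k X L D pD) (hpE : ShStab.IsHilbPoly k X L E pE)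
    (hred : StabCat.RedEq d pD pE) :
    ShStab.IsSemistable k X L (cokernel δ) d ∧ ShStab.IsHilbPoly k X L (cokernel δ) (pE - pD) ∧
      StabCat.RedEq d (pE - pD) pE := by
  obtain ⟨hEc, h0, hp, hss⟩ := hE
  have hEss : ShStab.IsSemistable k X L E d := ⟨hEc, h0, hp, hss⟩
  have hαE := alpha_pos_of_isSemistable k hL hEss hpE
  have hαD : 0 < StabCat.alpha d pD := alpha_pos k hL hD (hp D δ inferInstance hD hD0) hpD
  obtain ⟨hQ0, -⟩ := cokernel_facts δ hD0 hiso
  have hQ : Coh.IsCoh (cokernel δ) := Groth.Agent.Lib.Helper6.DevCore.isCoh_cokernel _ hD hEc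
  obtain ⟨hpQ, -⟩ := polyLE_of_mono k hL hD hEc δ hpD hpE
  have hQp : ShStab.IsPure X (cokernel δ) d := by
    refine isPure_cokernel_of_forall_redLE k hL hEc h0 hp δ hD hD0
      (fun G κ hκ hG hG0 pF' pG hpF' hpG => ?_)
    haveI := hκ
    rw [isHilbPoly_unique k hpF' hpD]
    have hGE := redLE_of_isSemistable k hL hEss κ hG hG0 hpG hpE
    have hαG : 0 < StabCat.alpha d pG := alpha_pos k hL hG (hp G κ inferInstance hG hG0) hpG
    exact redLE_trans hGE (redLE_of_redEq' hred) hαE hαG.le hαD.le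
  have hdQ := dim_support_of_isPure hQ hQ0 hQp
  have hαQ := alpha_pos k hL hQ hdQ hpQ
  have hQeq : StabCat.RedEq d (pE - pD) pE := redEq_sub hred
  refine ⟨?_, hpQ, hQeq⟩
  refine ((isSemistable_tfae k hL d _ hQ hQ0 hQp).out 2 0).1 ?_
  intro G π' hπ' hG _ pQ' pG hpQ' hpG hαG
  haveI := hπ'
  rw [isHilbPoly_unique k hpQ' hpQ]
  have h1 := redLE_of_epi k hL.1 d hEc hG hss (cokernel.π δ ≫ π') hpE hpG
  exact redLE_trans (redLE_of_redEq hQeq) h1 hαE hαQ.le hαG.le

/-- S15272 -/
theorem kernel_cokernel_of_redEq (hL : CohB1.IsAmple L) (d : ℕ) {E F : X.Modules}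
    (hE : ShStab.IsSemistable k X L E d) (hF : ShStab.IsSemistable k X L F d)
    {pE pF : ℚ[X]} (hpE : ShStab.IsHilbPoly k X L E pE) (hpF : ShStab.IsHilbPoly k X L F pF)
    (hred : StabCat.RedEq d pE pF) (f : E ⟶ F) :
    (IsZero (kernel f) ∨ (ShStab.IsSemistable k X L (kernel f) d ∧
        ∀ pK : ℚ[X], ShStab.IsHilbPoly k X L (kernel f) pK → StabCat.RedEq d pK pE)) ∧
    (IsZero (cokernel f) ∨ (ShStab.IsSemistable k X L (cokernel f) d ∧
        ∀ pQ : ℚ[X], ShStab.IsHilbPoly k X L (cokernel f) pQ → StabCat.RedEq d pQ pE)) := by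
  haveI : IsLocallyNoetherian X := Groth.Agent.Lib.Helper8.EulerK.isLocallyNoetherian k X
  have hαE := alpha_pos_of_isSemistable k hL hE hpE
  have hαF := alpha_pos_of_isSemistable k hL hF hpF
  by_cases hf : f = 0
  · subst hf
    constructor
    · right
      have e : kernel (0 : E ⟶ F) ≅ E := kernelZeroIsoSource
      refine ⟨isSemistable_of_iso k hL e.symm hE, fun pK hpK => ?_⟩
      have := isHilbPoly_unique k (isHilbPoly_of_iso k hL.1 e
        (Groth.Agent.Lib.Helper6.DevCore.isCoh_of_iso e.symm hE.1) hpK) hpE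
      rw [this]
      exact redEq_refl d pE
    · right
      have e : cokernel (0 : E ⟶ F) ≅ F := cokernelZeroIsoTarget
      refine ⟨isSemistable_of_iso k hL e.symm hF, fun pQ hpQ => ?_⟩
      have := isHilbPoly_unique k (isHilbPoly_of_iso k hL.1 e
        (Groth.Agent.Lib.Helper6.DevCore.isCoh_of_iso e.symm hF.1) hpQ) hpF
      rw [this]
      exact redEq_symm hred
  · obtain ⟨hI, hI0, hdI, hpI, hαI⟩ := image_facts k hL hE.1 hF.1 hF.2.2.1 f hf
    obtain ⟨h1, h2⟩ := redLE_of_hom k hL hE hF hpE hpF f hf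
    set pI := hilb k L (Abelian.image f) d with hpI_def
    have hIE : StabCat.RedEq d pI pE :=
      redEq_of_redLE_of_redLE (redLE_trans h2 (redLE_of_redEq' hred) hαF hαI.le hαE.le) h1
    have hIF : StabCat.RedEq d pI pF := redEq_trans hIE hred hαE.ne'
    constructor
    · -- the kernel
      by_cases hK0 : IsZero (kernel f)
      · exact Or.inl hK0
      · right
        have hK : Coh.IsCoh (kernel f) := Groth.Agent.Lib.Helper6.DevCore.isCoh_kernel f hE.1 hF.1
        let π := Abelian.factorThruImage f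
        have eK : kernel f ≅ kernel π :=
          kernelIsoOfEq (Abelian.image.fac f).symm ≪≫ kernelCompMono π (Abelian.image.ι f)
        have hK' : Coh.IsCoh (kernel π) := Groth.Agent.Lib.Helper6.DevCore.isCoh_of_iso eK hK
        have hpK' := isHilbPoly_sub_right k hL.1 _ (shortExact_kernel π) hK' hE.1 hI hpE hpI
        have hpK := isHilbPoly_of_iso k hL.1 eK.symm hK' hpK'
        have hKeq : StabCat.RedEq d (pE - pI) pE := redEq_sub hIE
        refine ⟨isSemistable_sub_of_redEq k hL hE (kernel.ι f) hK hK0 hpK hpE hKeq, fun pK hpK2 => ?_⟩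
        rw [isHilbPoly_unique k hpK2 hpK]
        exact hKeq
    · -- the cokernel
      by_cases hQ0 : IsZero (cokernel f)
      · exact Or.inl hQ0
      · right
        let π := Abelian.factorThruImage f
        have eQ : cokernel f ≅ cokernel (Abelian.image.ι f) :=
          cokernelIsoOfEq (Abelian.image.fac f).symm ≪≫ cokernelEpiComp π (Abelian.image.ι f)
        have hiso : ¬ IsIso (Abelian.image.ι f) := by
          intro hiso
          apply hQ0
          have : IsZero (cokernel (Abelian.image.ι f)) := isZero_cokernel_of_epi _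
          exact this.of_iso eQ
        obtain ⟨hss, hpQ, hQeq⟩ := isSemistable_cokernel_of_redEq k hL hF (Abelian.image.ι f) hI hI0 hiso hpI hpF hIF
        refine ⟨isSemistable_of_iso k hL eQ.symm hss, fun pQ hpQ2 => ?_⟩
        have hpQ3 := isHilbPoly_of_iso k hL.1 eQ
          (Groth.Agent.Lib.Helper6.DevCore.isCoh_of_iso eQ.symm hss.1) hpQ2
        rw [isHilbPoly_unique k hpQ3 hpQ]
        exact redEq_trans hQeq (redEq_symm hred) hαF.ne'

end Groth.Agent.Lib.Helper4.SSMor
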