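import Mathlib.Tactic

namespace Groth.Agent.Lib.Helper4.STCI

theorem stci (d g s t n : ℤ) (hd : 1 ≤ d) (hg : 0 ≤ g) (hs : 1 ≤ s) (hst : s ≤ t)
    (hn : s * t = d * n) (hn2 : 2 ≤ n)
    (hpos : 0 < d * (n * (s - 4) + t) + (2 - 2 * g) * n)
    (hdvd : (n - 1) ∣ d * (n * (s - 4) + t) + (2 - 2 * g) * n) :
    s < 2 * d ^ 2 ∧ t < 2 * d ^ 4 := by
  -- r₀ = A + d t, A = d (s-4) + 2 - 2g
  have hdvd0 : (n - 1) ∣ d * (s - 4) + 2 - 2 * g + d * t := by
    have : d * (s - 4) + 2 - 2 * g + d * t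
        = (d * (n * (s - 4) + t) + (2 - 2 * g) * n) - (n - 1) * (d * (s - 4) + 2 - 2 * g) := by
      ring
    rw [this]
    exact dvd_sub hdvd (dvd_mul_right _ _)
  obtain ⟨q, hq⟩ := hdvd0
  have hr : d * (n * (s - 4) + t) + (2 - 2 * g) * n = (n - 1) * (n * q - d * t) := by
    have : d * (n * (s - 4) + t) + (2 - 2 * g) * n
        = n * (d * (s - 4) + 2 - 2 * g + d * t) - (n - 1) * (d * t) := by ring
    rw [this, hq]; ring
  rw [hr] at hpos
  have hn1 : 0 < n - 1 := by linarith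
  have h1 : 0 < n * q - d * t := by
    by_contra h
    push Not at h
    have : (n - 1) * (n * q - d * t) ≤ 0 := mul_nonpos_of_nonneg_of_nonpos hn1.le h
    linarith
  have ht : 1 ≤ t := le_trans hs hst
  have hdt : 0 < d * t := by positivity
  have hq1 : 1 ≤ q := by
    by_contra h
    push Not at h
    have : q ≤ 0 := by linarith
    have : n * q ≤ 0 := mul_nonpos_of_nonneg_of_nonpos (by linarith) this
    linarith
  -- s q > d^2
  have hsq : d ^ 2 + 1 ≤ s * q := by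
    have h2 : 0 < s * (n * q - d * t) := by positivity
    have h3 : s * (n * q - d * t) = n * (s * q - d ^ 2) := by
      have : s * (n * q - d * t) = n * (s * q) - d * (s * t) := by ring
      rw [this, hn]; ring
    rw [h3] at h2
    have : 0 < s * q - d ^ 2 := by
      by_contra h
      push Not at h
      have : n * (s * q - d ^ 2) ≤ 0 := mul_nonpos_of_nonneg_of_nonpos (by linarith) h
      linarith
    linarith
  -- first bound
  have hb1 : n - 1 ≤ d * (s + t) - 2 := by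
    have : n - 1 ≤ (n - 1) * q := by nlinarith
    nlinarith
  have hS : s < 2 * d ^ 2 := by
    by_contra h
    push Not at h
    -- s t + d ≤ d^2 (s + t)
    have h4 : s * t + d ≤ d ^ 2 * (s + t) := by
      have : d * n + d ≤ d * (d * (s + t)) := by nlinarith
      rw [hn]; nlinarith
    nlinarith
  refine ⟨hS, ?_⟩
  -- (*) n ≤ d s^2 - 2 s + d^2 + 1
  have hstar : n ≤ d * s ^ 2 - 2 * s + d ^ 2 + 1 := by
    have h5 : (n - 1) * (d ^ 2 + 1) ≤ (n - 1) * (s * q) := by nlinarith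
    have h6 : (n - 1) * (s * q) = s * (d * (s - 4) + 2 - 2 * g + d * t) := by
      rw [hq]; ring
    have h7 : s * (d * (s - 4) + 2 - 2 * g + d * t) ≤ d * s ^ 2 + d * (s * t) - 2 * s := by
      nlinarith
    rw [hn] at h7
    nlinarith
  -- s t = d n ≤ d^2 s^2 - 2 d s + d^3 + d
  have h8 : s * t ≤ d ^ 2 * s ^ 2 - 2 * d * s + d ^ 3 + d := by
    rw [hn]; nlinarith
  have h9 : s ^ 2 ≤ 2 * d ^ 2 * s - 2 * d ^ 2 + 1 := by nlinarith
  have h10 : s * t < 2 * d ^ 4 * s := by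
    have : d ^ 2 * s ^ 2 ≤ d ^ 2 * (2 * d ^ 2 * s - 2 * d ^ 2 + 1) := by nlinarith
    have hd3 : d ^ 3 ≤ d ^ 4 := by nlinarith [pow_pos (by linarith : (0:ℤ) < d) 3]
    have hd2 : d ^ 2 ≤ d ^ 4 := by nlinarith [pow_pos (by linarith : (0:ℤ) < d) 2]
    nlinarith
  by_contra h
  push Not at h
  nlinarith

end Groth.Agent.Lib.Helper4.STCI
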