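import Mathlib.Tactic

set_option autoImplicit false

namespace Groth.Agent.Lib.Helper4.STCIBound

theorem main (s t d g n : ℤ) (hs : 4 ≤ s) (hst : s ≤ t) (hd : 1 ≤ d) (hg : 0 ≤ g)
    (hn : s * t = d * n) (hn2 : 2 ≤ n)
    (hr : 3 * (d * (n * (s - 4) + t) + (2 - 2 * g) * n) ≤ s * (2 * s ^ 2 - 6 * s + 7) - 3) :
    d ≤ g + 3 := by
  by_contra hcon
  push Not at hcon
  have hd4 : g + 4 ≤ d := by omega
  -- key inequality
  have h1 : (10 - 2 * d) * n ≤ (2 - 2 * g) * n := by
    apply mul_le_mul_of_nonneg_right _ (by omega)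
    omega
  have key : 3 * s * t * (s - 6) + 3 * d * t + 30 * n ≤ 2 * s ^ 3 - 6 * s ^ 2 + 7 * s - 3 := by
    have e : 3 * (d * (n * (s - 4) + t) + (10 - 2 * d) * n) =
        3 * (d * n) * (s - 6) + 3 * d * t + 30 * n := by ring
    have : 3 * (d * (n * (s - 4) + t) + (10 - 2 * d) * n) ≤
        3 * (d * (n * (s - 4) + t) + (2 - 2 * g) * n) := by linarith
    rw [e, ← hn] at this
    nlinarith
  have ht : 4 ≤ t := le_trans hs hst
  have hd' : 4 ≤ d := by omega
  rcases lt_or_ge s 6 with hs6 | hs6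
  · -- s = 4 or 5
    have : s = 4 ∨ s = 5 := by omega
    rcases this with rfl | rfl
    · -- s = 4 : 3 t (d - 8) + 30 n ≤ 57
      have hd7 : d ≤ 7 := by
        by_contra h
        push Not at h
        have := mul_nonneg (show (0:ℤ) ≤ t by omega) (show (0:ℤ) ≤ d - 8 by omega)
        nlinarith
      interval_cases d <;> omega
    · -- s = 5 : 3 t (d - 5) + 30 n ≤ 132
      rcases lt_or_ge d 5 with hd5 | hd5
      · have : d = 4 := by omega
        subst this
        omega
      · have hn4 : n ≤ 4 := by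
          have := mul_nonneg (show (0:ℤ) ≤ t by omega) (show (0:ℤ) ≤ d - 5 by omega)
          nlinarith
        interval_cases n
        · nlinarith
        · nlinarith
        · nlinarith
  · -- s ≥ 6
    have hX : 3 * d * t + 30 * n ≤ - s ^ 3 + 12 * s ^ 2 + 7 * s - 3 := by
      have := mul_nonneg (mul_nonneg (show (0:ℤ) ≤ t - s by omega) (show (0:ℤ) ≤ s by omega))
        (show (0:ℤ) ≤ s - 6 by omega)
      nlinarith
    have hXpos : 0 < 3 * d * t + 30 * n := by positivity
    have hXsq : 360 * s ^ 3 ≤ (3 * d * t + 30 * n) ^ 2 := by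
      have h0 : 0 ≤ (3 * d * t - 30 * n) ^ 2 := sq_nonneg _
      have h2 : (3 * d * t + 30 * n) ^ 2 = (3 * d * t - 30 * n) ^ 2 + 360 * t * (d * n) := by ring
      rw [h2, ← hn]
      have h3 : s ^ 2 ≤ t ^ 2 := by nlinarith
      have h4 : 0 ≤ s := by omega
      nlinarith [mul_le_mul_of_nonneg_left h3 h4]
    have hs12 : s ≤ 12 := by
      by_contra h
      push Not at h
      nlinarith [mul_nonneg (show (0:ℤ) ≤ s - 13 by omega) (show (0:ℤ) ≤ s ^ 2 by positivity)]
    interval_cases s <;> nlinarith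

end Groth.Agent.Lib.Helper4.STCIBound
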