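import Mathlib.Tactic
import Mathlib.AlgebraicGeometry.AffineSpace
import Mathlib.AlgebraicGeometry.Morphisms.Separated
import Mathlib.AlgebraicGeometry.IdealSheaf.Subscheme

set_option autoImplicit false
universe u
open CategoryTheory AlgebraicGeometry Limits TopologicalSpace

namespace Groth.Agent.Lib.Helper4.SchDomTFAE

theorem topIso_inv_restrict_appTop {Z X : Scheme.{u}} (f : Z ⟶ X) (V : X.Opens) :
    V.topIso.inv ≫ (f ∣_ V).appTop = f.app V ≫ (f ⁻¹ᵁ V).topIso.inv := by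
  rw [Scheme.Hom.appTop, morphismRestrict_app']
  simp only [Scheme.Opens.topIso_inv]
  erw [Scheme.Hom.map_appLE]
  rw [Scheme.Hom.appLE]
  rfl

theorem restrict_appTop_topIso_inv {Z X : Scheme.{u}} (f : Z ⟶ X) (V : X.Opens) (t : Γ(X, V))
    (h : (f.app V).hom t = 0) : ((f ∣_ V).appTop).hom (V.topIso.inv.hom t) = 0 := by
  have := congrArg (fun φ => φ.hom t) (topIso_inv_restrict_appTop f V)
  simp only [CommRingCat.hom_comp, RingHom.comp_apply] at this
  rw [this, h, map_zero]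

theorem c_imp_a {X S : Scheme.{u}} (p : X ⟶ S) {ι' : Type u} (Z : ι' → Scheme.{u})
    (f : ∀ i, Z i ⟶ X)
    (hc : ∀ (X' : Scheme.{u}) (q : X' ⟶ S), IsSeparated q → ∀ (U : X.Opens)
      (u v : (U : Scheme.{u}) ⟶ X'),
        u ≫ q = U.ι ≫ p → v ≫ q = U.ι ≫ p →
        (∀ i, ((f i) ∣_ U) ≫ u = ((f i) ∣_ U) ≫ v) → u = v)
    (V : X.Opens) (t : Γ(X, V)) (ht : ∀ i, ((f i).app V).hom t = 0) : t = 0 := by
  let A := AffineSpace PUnit.{u+1} S
  have key := hc A (A ↘ S) inferInstance V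
    (AffineSpace.homOfVector (V.ι ≫ p) (fun _ => V.topIso.inv.hom t))
    (AffineSpace.homOfVector (V.ι ≫ p) (fun _ => 0))
    (AffineSpace.homOfVector_over _ _) (AffineSpace.homOfVector_over _ _) ?_
  · have h1 := congrArg (fun w => (w.appTop).hom (AffineSpace.coord S PUnit.unit)) key
    erw [AffineSpace.homOfVector_appTop_coord, AffineSpace.homOfVector_appTop_coord] at h1
    have h2 := congrArg V.topIso.hom.hom h1
    rw [map_zero, ← CommRingCat.comp_apply, Iso.inv_hom_id] at h2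
    exact h2
  · intro i
    rw [AffineSpace.comp_homOfVector, AffineSpace.comp_homOfVector]
    congr 1
    funext x
    simp only [Function.comp]
    rw [map_zero]
    exact restrict_appTop_topIso_inv (f i) V t (ht i)


theorem isIso_of_ker_eq_bot {Y U : Scheme.{u}} (j : Y ⟶ U) [IsClosedImmersion j]
    (h : j.ker = ⊥) : IsIso j := by
  have h1 : IsIso j.imageι := (Scheme.isIso_subschemeι_iff_eq_bot j.ker).mpr h
  rw [← j.toImage_imageι]
  infer_instance

theorem app_eq_zero_of_comp {A B C : Scheme.{u}} (g : A ⟶ B) (j : B ⟶ C) (k : A ⟶ C)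
    (hk : g ≫ j = k) (W : C.Opens) (t : Γ(C, W)) (ht : (j.app W).hom t = 0) :
    (k.app W).hom t = 0 := by
  subst hk
  rw [Scheme.Hom.comp_app]
  change (g.app (j ⁻¹ᵁ W)).hom ((j.app W).hom t) = 0
  rw [ht, map_zero]

theorem app_image_eq_zero {Z X : Scheme.{u}} (f : Z ⟶ X) (U : X.Opens) (W : U.toScheme.Opens)
    (t : Γ(X, U.ι ''ᵁ W)) (h : ((f ∣_ U).app W).hom t = 0) :
    (f.app (U.ι ''ᵁ W)).hom t = 0 := by
  have h1 : (f.app (U.ι ''ᵁ W) ≫
        Z.presheaf.map (eqToHom (image_morphismRestrict_preimage f U W)).op).hom t = 0 := by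
    rw [← morphismRestrict_app]; exact h
  rw [CommRingCat.comp_apply] at h1
  have hinj : Function.Injective (Z.presheaf.map
      (eqToHom (image_morphismRestrict_preimage f U W)).op).hom :=
    (ConcreteCategory.bijective_of_isIso _).1
  exact hinj (h1.trans (map_zero _).symm)

theorem a_imp_b {X : Scheme.{u}} {ι' : Type u} (Z : ι' → Scheme.{u})
    (f : ∀ i, Z i ⟶ X)
    (ha : ∀ (V : X.Opens) (t : Γ(X, V)), (∀ i, ((f i).app V).hom t = 0) → t = 0)
    (U : X.Opens) (Y : Scheme.{u}) (j : Y ⟶ (U : Scheme.{u})) (hj : IsClosedImmersion j)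
    (hfac : ∀ i, ∃ g : ((f i) ⁻¹ᵁ U : Scheme.{u}) ⟶ Y, g ≫ j = (f i) ∣_ U) : IsIso j := by
  apply isIso_of_ker_eq_bot
  rw [eq_bot_iff]
  intro W t ht
  rw [Scheme.Hom.ker_apply, RingHom.mem_ker] at ht
  rw [Scheme.IdealSheafData.ideal_bot]
  change t = 0
  have key : ∀ i, ((f i).app (U.ι ''ᵁ W.1)).hom t = 0 := by
    intro i
    obtain ⟨g, hg⟩ := hfac i
    exact app_image_eq_zero (f i) U W.1 t (app_eq_zero_of_comp g j _ hg W.1 t ht)
  exact ha (U.ι ''ᵁ W.1) t key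


theorem b_imp_c {X S : Scheme.{u}} (p : X ⟶ S) {ι' : Type u} (Z : ι' → Scheme.{u})
    (f : ∀ i, Z i ⟶ X)
    (hb : ∀ (U : X.Opens) (Y : Scheme.{u}) (j : Y ⟶ (U : Scheme.{u})), IsClosedImmersion j →
        (∀ i, ∃ g : ((f i) ⁻¹ᵁ U : Scheme.{u}) ⟶ Y, g ≫ j = (f i) ∣_ U) → IsIso j)
    (X' : Scheme.{u}) (q : X' ⟶ S) (hq : IsSeparated q) (U : X.Opens)
    (u v : (U : Scheme.{u}) ⟶ X') (hu : u ≫ q = U.ι ≫ p) (hv : v ≫ q = U.ι ≫ p)
    (huv : ∀ i, ((f i) ∣_ U) ≫ u = ((f i) ∣_ U) ≫ v) : u = v := by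
  let A : Over S := Over.mk (U.ι ≫ p)
  let B : Over S := Over.mk q
  let u' : A ⟶ B := Over.homMk u hu
  let v' : A ⟶ B := Over.homMk v hv
  have hB : IsSeparated B.hom := hq
  have hci : IsClosedImmersion (equalizer.ι u' v').left := inferInstance
  have hiso : IsIso (equalizer.ι u' v').left := by
    refine hb U _ (equalizer.ι u' v').left hci ?_
    intro i
    let Ci : Over S := Over.mk (((f i) ∣_ U) ≫ U.ι ≫ p)
    let fi : Ci ⟶ A := Over.homMk ((f i) ∣_ U) rfl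
    have hfi : fi ≫ u' = fi ≫ v' := by
      ext
      exact huv i
    refine ⟨(equalizer.lift fi hfi).left, ?_⟩
    rw [← Over.comp_left, equalizer.lift_ι]
    rfl
  rw [← cancel_epi (equalizer.ι u' v').left]
  exact congrArg CommaMorphism.left (equalizer.condition u' v')


theorem main4872 {X S : Scheme.{u}} (p : X ⟶ S) {ι' : Type u} (Z : ι' → Scheme.{u})
    (f : ∀ i, Z i ⟶ X) :
    [(∀ (V : (X).Opens) (t : Γ(X, V)), (∀ i, (f i).app V t = 0) → t = 0),
      ∀ (U : X.Opens) (Y : Scheme.{u}) (j : Y ⟶ (U : Scheme.{u})), IsClosedImmersion j →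
        (∀ i, ∃ g : ((f i) ⁻¹ᵁ U : Scheme.{u}) ⟶ Y, g ≫ j = (f i) ∣_ U) → IsIso j,
      ∀ (X' : Scheme.{u}) (q : X' ⟶ S), IsSeparated q → ∀ (U : X.Opens) (u v : (U : Scheme.{u}) ⟶ X'),
        u ≫ q = U.ι ≫ p → v ≫ q = U.ι ≫ p → (∀ i, ((f i) ∣_ U) ≫ u = ((f i) ∣_ U) ≫ v) → u = v].TFAE := by
  tfae_have 1 → 2 := fun ha U Y j hj hfac => a_imp_b Z f ha U Y j hj hfac
  tfae_have 2 → 3 := fun hb X' q hq U u v hu hv huv => b_imp_c p Z f hb X' q hq U u v hu hv huv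
  tfae_have 3 → 1 := fun hc V t ht => c_imp_a p Z f hc V t ht
  tfae_finish

end Groth.Agent.Lib.Helper4.SchDomTFAE
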