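import Mathlib.Tactic
import Groth.Agent.S4372

set_option autoImplicit false
universe u
open CategoryTheory AlgebraicGeometry TopologicalSpace Limits

namespace Groth.Agent.Lib.Helper4.SepCrit

/-- criterion (1) ⇐ -/
theorem sep_of_dense {X S : Scheme.{u}} (f : X ⟶ S)
    (H : ∀ (T : Scheme.{u}) [IsReduced T] (g₁ g₂ : T ⟶ X) (U : T.Opens), g₁ ≫ f = g₂ ≫ f →
      Dense (U : Set T) → U.ι ≫ g₁ = U.ι ≫ g₂ → g₁ = g₂) : IsSeparated f := by
  let I := Scheme.IdealSheafData.vanishingIdeal (X := X) ⊤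
  have hred : IsReduced I.subscheme := Groth.Agent.S4372.isReduced_vanishingIdeal_subscheme ⊤
  have hsurj : Set.range I.subschemeι = Set.univ := by
    rw [Scheme.IdealSheafData.range_subschemeι]
    simp [I]
  let Δ := pullback.diagonal f
  let h : I.subscheme ⟶ pullback f f := I.subschemeι ≫ Δ
  have himm : IsImmersion h := inferInstance
  have hrange : Set.range h = Set.range Δ := by
    show Set.range (I.subschemeι ≫ Δ) = _
    rw [Scheme.Hom.comp_base, TopCat.coe_comp, Set.range_comp, hsurj, Set.image_univ]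
  obtain ⟨W, j, i, hj, hi, hW, hri, hji⟩ := Groth.Agent.S4372.result h
  let U : W.Opens := j.opensRange
  have hdense : Dense (U : Set W) := by
    intro w
    have h1 : i w ∈ closure (Set.range h) := by rw [← hri]; exact Set.mem_range_self w
    have h2 : Set.range h = i '' (Set.range j) := by
      rw [← hji, Scheme.Hom.comp_base, TopCat.coe_comp, Set.range_comp]
    rw [h2] at h1
    have := i.isClosedEmbedding.isEmbedding.closure_eq_preimage_closure_image (Set.range j)
    show w ∈ closure (Set.range j)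
    rw [this]
    exact h1
  have hUι : (j.isoOpensRange).hom ≫ U.ι = j := by
    simp [U]
  have heq : U.ι ≫ (i ≫ pullback.fst f f) = U.ι ≫ (i ≫ pullback.snd f f) := by
    rw [← cancel_epi (j.isoOpensRange).hom, reassoc_of% hUι, reassoc_of% hUι, reassoc_of% hji,
      reassoc_of% hji]
    simp [h, Δ]
  have hcond : (i ≫ pullback.fst f f) ≫ f = (i ≫ pullback.snd f f) ≫ f := by
    rw [Category.assoc, Category.assoc, pullback.condition]
  have hg := H W (i ≫ pullback.fst f f) (i ≫ pullback.snd f f) U hcond hdense heq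
  have hfac : i = (i ≫ pullback.fst f f) ≫ Δ := by
    apply pullback.hom_ext
    · simp [Δ]
    · rw [Category.assoc, pullback.diagonal_snd, Category.comp_id, hg]
  have hclosed : IsClosed (Set.range Δ) := by
    rw [← closure_subset_iff_isClosed, ← hrange, ← hri]
    rintro _ ⟨w, rfl⟩
    rw [hrange, hfac, Scheme.Hom.comp_apply]
    exact Set.mem_range_self _
  exact ⟨IsClosedImmersion.of_isPreimmersion _ hclosed⟩

/-- criterion (2) ⇐ -/
theorem sep_of_local {X S : Scheme.{u}} (f : X ⟶ S)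
    (H : ∀ x₁ x₂ : X, f.base x₁ = f.base x₂ →
      ∃ V : X.Opens, x₁ ∈ V ∧ x₂ ∈ V ∧ IsSeparated (V.ι ≫ f)) : IsSeparated f := by
  let Δ := pullback.diagonal f
  have hclosed : IsClosed (Set.range Δ) := by
    rw [← isOpen_compl_iff, isOpen_iff_forall_mem_open]
    intro z hz
    have hfz : f.base (pullback.fst f f z) = f.base (pullback.snd f f z) := by
      show f (pullback.fst f f z) = f (pullback.snd f f z)
      rw [← Scheme.Hom.comp_apply, ← Scheme.Hom.comp_apply, pullback.condition]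
    obtain ⟨V, h1, h2, hsep⟩ := H _ _ hfz
    let ΔV := pullback.diagonal (V.ι ≫ f)
    let jj : pullback (V.ι ≫ f) (V.ι ≫ f) ⟶ pullback f f :=
      pullback.map _ _ _ _ V.ι V.ι (𝟙 S) (by simp) (by simp)
    have hjj : IsOpenImmersion jj := inferInstance
    have hr : Set.range jj = pullback.fst f f ⁻¹' (V : Set X) ∩ pullback.snd f f ⁻¹' (V : Set X) := by
      have := Scheme.Pullback.range_map (f := V.ι ≫ f) (g := V.ι ≫ f) f f V.ι V.ι (𝟙 S)
        (by simp) (by simp)
      rw [Scheme.Opens.range_ι] at this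
      exact this
    have hcomm : ΔV ≫ jj = V.ι ≫ Δ := by
      apply pullback.hom_ext
      · simp only [ΔV, jj, Δ, Category.assoc, pullback.lift_fst, pullback.diagonal_fst,
          pullback.diagonal_fst_assoc, Category.comp_id]
      · simp only [ΔV, jj, Δ, Category.assoc, pullback.lift_snd, pullback.diagonal_snd,
          pullback.diagonal_snd_assoc, Category.comp_id]
    obtain ⟨z', hz'⟩ : z ∈ Set.range jj := by rw [hr]; exact ⟨h1, h2⟩
    have hcl : IsClosed (Set.range ΔV) := ΔV.isClosedEmbedding.isClosed_range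
    refine ⟨jj '' (Set.range ΔV)ᶜ, ?_, jj.isOpenEmbedding.isOpenMap _ hcl.isOpen_compl, ?_⟩
    · rintro _ ⟨w, hw, rfl⟩ ⟨x, hx⟩
      apply hw
      have hxV : x ∈ V := by
        have h3 : pullback.fst f f (jj w) ∈ (V : Set X) := by
          have : jj w ∈ Set.range jj := Set.mem_range_self w
          rw [hr] at this
          exact this.1
        rw [← hx, ← Scheme.Hom.comp_apply] at h3
        simpa [Δ] using h3
      let v : V.toScheme := ⟨x, hxV⟩
      refine ⟨v, jj.isOpenEmbedding.injective ?_⟩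
      rw [← hx, ← Scheme.Hom.comp_apply, hcomm, Scheme.Hom.comp_apply]
      rfl
    · refine ⟨z', ?_, hz'⟩
      rintro ⟨v, hv⟩
      apply hz
      refine ⟨V.ι v, ?_⟩
      rw [← hz', ← hv, ← Scheme.Hom.comp_apply, ← Scheme.Hom.comp_apply, hcomm]
  exact ⟨IsClosedImmersion.of_isPreimmersion _ hclosed⟩

theorem main (X S : Scheme.{u}) (f : X ⟶ S) :
    (IsSeparated f ↔ ∀ (T : Scheme.{u}) [IsReduced T] (g₁ g₂ : T ⟶ X) (U : T.Opens), g₁ ≫ f = g₂ ≫ f →
      Dense (U : Set T) → U.ι ≫ g₁ = U.ι ≫ g₂ → g₁ = g₂) ∧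
    (IsSeparated f ↔ ∀ x₁ x₂ : X, f.base x₁ = f.base x₂ →
      ∃ V : X.Opens, x₁ ∈ V ∧ x₂ ∈ V ∧ IsSeparated (V.ι ≫ f)) := by
  refine ⟨⟨fun hs T _ g₁ g₂ U h hd hU => ?_, sep_of_dense f⟩, ⟨fun hs x₁ x₂ _ => ?_, sep_of_local f⟩⟩
  · have : IsDominant U.ι := ⟨by unfold DenseRange; rw [Scheme.Opens.range_ι]; exact hd⟩
    exact ext_of_isDominant_of_isSeparated f h U.ι hU
  · exact ⟨⊤, trivial, trivial, inferInstance⟩

end Groth.Agent.Lib.Helper4.SepCrit
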