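import Mathlib.FieldTheory.PrimitiveElement
import Mathlib.RingTheory.AlgebraicIndependent.TranscendenceBasis
import Mathlib.FieldTheory.IntermediateField.Adjoin.Algebra
import Mathlib.Tactic

namespace Groth.Agent.Lib.Helper4.SepGen

open IntermediateField Cardinal

universe u

theorem adjoin_top_of_top {k K : Type u} [Field k] [Field K] [Algebra k K]
    (F : IntermediateField k K) (s : Set K) (hs : IntermediateField.adjoin k s = ⊤) :
    IntermediateField.adjoin F s = ⊤ := by
  rw [eq_top_iff]
  intro a ha0
  clear ha0
  have ha : a ∈ IntermediateField.adjoin k s := by rw [hs]; trivial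
  induction ha using IntermediateField.adjoin_induction with
  | mem x hx => exact IntermediateField.subset_adjoin _ _ hx
  | algebraMap c =>
    have : algebraMap k K c = algebraMap F K (algebraMap k F c) := rfl
    rw [this]
    exact IntermediateField.algebraMap_mem _ _
  | add x y _ _ hx hy => exact add_mem hx hy
  | inv x _ hx => exact inv_mem hx
  | mul x y _ _ hx hy => exact mul_mem hx hy

theorem exists_primitive {k K : Type u} [Field k] [Field K] [Algebra k K]
    (F : IntermediateField k K) [Algebra.IsAlgebraic F K] [Algebra.IsSeparable F K]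
    (s : Finset K) (hs : IntermediateField.adjoin k (s : Set K) = ⊤) :
    ∃ y : K, F⟮y⟯ = ⊤ := by
  have htop := adjoin_top_of_top F (s : Set K) hs
  have hfd : FiniteDimensional F K := by
    have h1 : FiniteDimensional F (IntermediateField.adjoin F (s : Set K)) :=
      IntermediateField.finiteDimensional_adjoin fun a _ =>
        (Algebra.IsAlgebraic.isAlgebraic a).isIntegral
    rw [htop] at h1
    exact Module.Finite.equiv (IntermediateField.topEquiv (F := F) (E := K)).toLinearEquiv
  exact Field.exists_primitive_element F K

theorem main {k K : Type u} [Field k] [Field K] [Algebra k K]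
    (hfg : ∃ s : Finset K, IntermediateField.adjoin k (s : Set K) = ⊤)
    (hsep : ∃ (ι : Type u) (x : ι → K), IsTranscendenceBasis k x ∧ Algebra.IsSeparable (IntermediateField.adjoin k (Set.range x)) K) :
    ∃ (r : ℕ) (x : Fin r → K) (y : K), IsTranscendenceBasis k x ∧ IntermediateField.adjoin k (insert y (Set.range x)) = ⊤ ∧ IsSeparable (IntermediateField.adjoin k (Set.range x)) y := by
  classical
  obtain ⟨s, hs⟩ := hfg
  obtain ⟨ι, x, hx, hsepx⟩ := hsep
  -- K algebraic over the k-subalgebra generated by s
  have halg : Algebra.IsAlgebraic (Algebra.adjoin k (s : Set K)) K := by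
    constructor
    intro a
    have ha : a ∈ IntermediateField.adjoin k (s : Set K) := by rw [hs]; trivial
    obtain ⟨r, hr, t, ht, rfl⟩ := IntermediateField.mem_adjoin_iff_div.1 ha
    by_cases ht0 : t = 0
    · rw [ht0, div_zero]
      exact isAlgebraic_zero
    · refine ⟨Polynomial.C (⟨t, ht⟩ : Algebra.adjoin k (s : Set K)) * Polynomial.X -
        Polynomial.C ⟨r, hr⟩, ?_, ?_⟩
      · intro h
        have := congrArg (fun p => Polynomial.coeff p 1) h
        simp at this
        exact ht0 (congrArg Subtype.val this)
      · simp only [map_sub, map_mul, Polynomial.aeval_C, Polynomial.aeval_X]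
        change t * (r / t) - r = 0
        field_simp
        ring
  obtain ⟨t, hts, ht⟩ := exists_isTranscendenceBasis_subset (R := k) (s : Set K)
  have htfin : Finite t := Set.Finite.subset s.finite_toSet hts
  have hcard : #ι = #t := IsTranscendenceBasis.cardinalMk_eq hx ht
  have hιfin : Finite ι := by
    rw [← Cardinal.lt_aleph0_iff_finite, hcard, Cardinal.lt_aleph0_iff_finite]
    exact htfin
  obtain ⟨r, ⟨e⟩⟩ := Finite.exists_equiv_fin ι
  have hx' : IsTranscendenceBasis k (x ∘ e.symm) := hx.comp_equiv e.symm
  have hrange : Set.range (x ∘ e.symm) = Set.range x := EquivLike.range_comp x e.symm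
  refine ⟨r, x ∘ e.symm, ?_⟩
  rw [hrange]
  have halgF : Algebra.IsAlgebraic (IntermediateField.adjoin k (Set.range x)) K :=
    hx.isAlgebraic_field
  obtain ⟨y, hy⟩ := exists_primitive (IntermediateField.adjoin k (Set.range x)) s hs
  refine ⟨y, hx', ?_, Algebra.IsSeparable.isSeparable _ y⟩
  have := IntermediateField.adjoin_adjoin_left k (Set.range x) ({y} : Set K)
  rw [hy, IntermediateField.restrictScalars_top, Set.union_singleton] at this
  exact this.symm

end Groth.Agent.Lib.Helper4.SepGen
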