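import Groth.Prelude.Def_W4c2movlemaddchowShuffle
import Mathlib.Data.Fin.Tuple.Sort
import Mathlib.Order.WellFounded
import Mathlib.Algebra.BigOperators.Group.Finset.Basic

set_option autoImplicit false
open W4c2movlemaddchow Equiv

namespace Groth.Agent.Lib.Helper4.Shuffle

/-- Generic block decomposition: every permutation `ν` of `Fin n` factors uniquely as `τ * ext σ` with `τ`
monotone on the block `ι`. -/
theorem bijOn_generic {a n p q m : ℕ} (ι : Fin a → Fin n) (hι : Function.Injective ι)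
    (ext : Perm (Fin a) → Perm (Fin n))
    (h1 : ∀ σ i, ext σ (ι i) = ι (σ i)) (h2 : ∀ σ x, x ∉ Set.range ι → ext σ x = x)
    (κ₁ : Fin p → Fin a) (κ₂ : Fin q → Fin a) (o : Fin m → Fin n) (ho : ∀ l, o l ∉ Set.range ι) :
    Set.BijOn (fun p : Perm (Fin n) × Perm (Fin a) => p.1 * ext p.2)
      ({τ | Monotone (fun i => τ (ι i)) ∧ Monotone (fun l => τ (o l))} ×ˢ
        {σ | Monotone (fun i => σ (κ₁ i)) ∧ Monotone (fun j => σ (κ₂ j))})
      {ν | Monotone (fun i => ν (ι (κ₁ i))) ∧ Monotone (fun j => ν (ι (κ₂ j))) ∧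
        Monotone (fun l => ν (o l))} := by
  have hmul : ∀ σ σ' : Perm (Fin a), ext (σ * σ') = ext σ * ext σ' := by
    intro σ σ'
    ext x
    by_cases hx : x ∈ Set.range ι
    · obtain ⟨i, rfl⟩ := hx
      simp [Perm.mul_apply, h1]
    · simp [Perm.mul_apply, h2 _ x hx]
  have hone : ext 1 = 1 := by
    ext x
    by_cases hx : x ∈ Set.range ι
    · obtain ⟨i, rfl⟩ := hx
      simp [h1]
    · simp [h2 _ x hx]
  refine ⟨?_, ?_, ?_⟩
  · rintro ⟨τ, σ⟩ ⟨⟨hτ1, hτ2⟩, hσ1, hσ2⟩
    refine ⟨?_, ?_, ?_⟩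
    · intro i j hij
      simp only [Perm.mul_apply, h1]
      exact hτ1 (hσ1 hij)
    · intro i j hij
      simp only [Perm.mul_apply, h1]
      exact hτ1 (hσ2 hij)
    · intro i j hij
      simp only [Perm.mul_apply, h2 _ _ (ho _)]
      exact hτ2 hij
  · rintro ⟨τ, σ⟩ ⟨⟨hτ1, -⟩, -⟩ ⟨τ', σ'⟩ ⟨⟨hτ1', -⟩, -⟩ heq
    simp only at heq
    -- τ = τ' * ext (σ' * σ⁻¹)
    have hτ : τ = τ' * ext (σ' * σ⁻¹) := by
      rw [hmul, ← mul_assoc, ← heq, mul_assoc, ← hmul, mul_inv_cancel, hone, mul_one]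
    set ρ := σ' * σ⁻¹ with hρ
    have hsm : StrictMono (fun i => τ (ι i)) :=
      hτ1.strictMono_of_injective (τ.injective.comp hι)
    have hsm' : StrictMono (fun i => τ' (ι i)) :=
      hτ1'.strictMono_of_injective (τ'.injective.comp hι)
    have hrange : Set.range (fun i => τ (ι i)) = Set.range (fun i => τ' (ι i)) := by
      ext y
      constructor
      · rintro ⟨i, rfl⟩
        refine ⟨ρ i, ?_⟩
        simp only [hτ, Perm.mul_apply, h1]
      · rintro ⟨i, rfl⟩
        refine ⟨ρ⁻¹ i, ?_⟩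
        simp only [hτ, Perm.mul_apply, h1, Perm.coe_inv, Equiv.apply_symm_apply]
    have hfun := (hsm.range_inj hsm').mp hrange
    have hρ1 : ρ = 1 := by
      ext i
      have := congrFun hfun i
      simp only [hτ, Perm.mul_apply, h1] at this
      have := hι (τ'.injective this)
      simp [this]
    have hσ : σ = σ' := by
      have : σ' * σ⁻¹ = 1 := hρ1
      exact (mul_inv_eq_one.mp this).symm
    have hτ' : τ = τ' := by rw [hτ, hρ1, hone, mul_one]
    rw [hσ, hτ']
  · rintro ν ⟨hν1, hν2, hν3⟩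
    set f : Fin a → Fin n := fun i => ν (ι i) with hf
    have hfinj : Function.Injective f := ν.injective.comp hι
    have hg : StrictMono (f ∘ Tuple.sort f) :=
      (Tuple.monotone_sort f).strictMono_of_injective (hfinj.comp (Tuple.sort f).injective)
    refine ⟨(ν * ext (Tuple.sort f), (Tuple.sort f)⁻¹), ⟨⟨?_, ?_⟩, ?_, ?_⟩, ?_⟩
    · intro i j hij
      simp only [Perm.mul_apply, h1]
      exact Tuple.monotone_sort f hij
    · intro i j hij
      simp only [Perm.mul_apply, h2 _ _ (ho _)]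
      exact hν3 hij
    · intro i j hij
      have := hν1 hij
      simp only at this
      rw [← hg.le_iff_le]
      simpa [hf] using this
    · intro i j hij
      have := hν2 hij
      simp only at this
      rw [← hg.le_iff_le]
      simpa [hf] using this
    · simp only
      rw [mul_assoc, ← hmul, mul_inv_cancel, hone, mul_one]

theorem extRight_castAdd (a t : ℕ) (σ : Perm (Fin a)) (i : Fin a) :
    extRight a t σ (Fin.castAdd t i) = Fin.castAdd t (σ i) := by
  simp [extRight, Equiv.permCongr_apply]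

theorem extRight_natAdd (a t : ℕ) (σ : Perm (Fin a)) (l : Fin t) :
    extRight a t σ (Fin.natAdd a l) = Fin.natAdd a l := by
  simp [extRight, Equiv.permCongr_apply]

theorem sign_extRight (a t : ℕ) (σ : Perm (Fin a)) :
    Perm.sign (extRight a t σ) = Perm.sign σ := by
  unfold extRight
  rw [Perm.sign_permCongr, Perm.sign_sumCongr]
  simp

theorem sign_extLeft (r s t : ℕ) (σ : Perm (Fin (s + t))) :
    Perm.sign (extLeft r s t σ) = Perm.sign σ := by
  unfold extLeft
  rw [Perm.sign_permCongr, Perm.sign_permCongr, Perm.sign_sumCongr]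
  simp

theorem extLeft_natAdd (r s t : ℕ) (σ : Perm (Fin (s + t))) (i : Fin (s + t)) :
    extLeft r s t σ (Fin.cast (Nat.add_assoc r s t).symm (Fin.natAdd r i)) =
      Fin.cast (Nat.add_assoc r s t).symm (Fin.natAdd r (σ i)) := by
  simp [extLeft, Equiv.permCongr_apply]

theorem extLeft_castAdd (r s t : ℕ) (σ : Perm (Fin (s + t))) (i : Fin r) :
    extLeft r s t σ (Fin.cast (Nat.add_assoc r s t).symm (Fin.castAdd (s + t) i)) =
      Fin.cast (Nat.add_assoc r s t).symm (Fin.castAdd (s + t) i) := by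
  simp [extLeft, Equiv.permCongr_apply]

end Groth.Agent.Lib.Helper4.Shuffle
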