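import Mathlib.Tactic
import Mathlib.AlgebraicTopology.DoldKan.HomotopyEquivalence
import Mathlib.AlgebraicTopology.SimplicialSet.Homology.HomotopyInvariance
import Mathlib.Algebra.Category.Grp.Adjunctions
import Groth.Agent.Lib.Helper4.SimpAb

namespace Groth.Agent.Lib.Helper4.SimpAbHtpy

open CategoryTheory Limits Groth.Agent.Lib.Helper4.SimpAb

universe u

section ShortComplexAb

variable {S₁ S₂ : ShortComplex AddCommGrpCat.{u}} (φ : S₁ ⟶ S₂)

lemma sc_quasiIso_of
    (hinj : ∀ z : S₁.X₂, S₁.g z = 0 → (∃ y : S₂.X₁, φ.τ₂ z = S₂.f y) → ∃ x : S₁.X₁, S₁.f x = z)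
    (hsurj : ∀ y : S₂.X₂, S₂.g y = 0 →
      ∃ (c : S₁.X₂) (y'' : S₂.X₁), S₁.g c = 0 ∧ y = φ.τ₂ c + S₂.f y'') :
    ShortComplex.QuasiIso φ := by
  rw [ShortComplex.quasiIso_iff, ConcreteCategory.isIso_iff_bijective]
  constructor
  · rw [injective_iff_map_eq_zero]
    intro h hh
    obtain ⟨c₁, rfl⟩ := sc_homologyπ_surjective S₁ h
    rw [← ConcreteCategory.comp_apply, ShortComplex.homologyπ_naturality,
      ConcreteCategory.comp_apply] at hh
    obtain ⟨y, hy⟩ := sc_exists_of_homologyπ_eq_zero S₂ _ hh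
    have h1 : φ.τ₂ (S₁.iCycles c₁) = S₂.f y := by
      have := congrArg S₂.iCycles hy
      rw [← ConcreteCategory.comp_apply, S₂.toCycles_i, ← ConcreteCategory.comp_apply,
        ShortComplex.cyclesMap_i, ConcreteCategory.comp_apply] at this
      exact this.symm
    obtain ⟨x, hx⟩ := hinj _ (sc_g_iCycles _ _) ⟨y, h1⟩
    have h2 : S₁.toCycles x = c₁ := by
      apply sc_iCycles_injective
      rw [← ConcreteCategory.comp_apply, S₁.toCycles_i, hx]
    rw [← h2, ← ConcreteCategory.comp_apply, S₁.toCycles_comp_homologyπ]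
    rfl
  · intro h₂
    obtain ⟨c₂, rfl⟩ := sc_homologyπ_surjective S₂ h₂
    obtain ⟨c, y'', hc, hy⟩ := hsurj (S₂.iCycles c₂) (sc_g_iCycles _ _)
    obtain ⟨c₁, rfl⟩ := sc_exists_cycle S₁ c hc
    refine ⟨S₁.homologyπ c₁, ?_⟩
    have h1 : c₂ = ShortComplex.cyclesMap φ c₁ + S₂.toCycles y'' := by
      apply sc_iCycles_injective
      rw [map_add, ← ConcreteCategory.comp_apply, ← ConcreteCategory.comp_apply,
        ShortComplex.cyclesMap_i, S₂.toCycles_i, ConcreteCategory.comp_apply]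
      exact hy
    rw [h1, map_add, ← ConcreteCategory.comp_apply, ← ConcreteCategory.comp_apply,
      ← ConcreteCategory.comp_apply, S₂.toCycles_comp_homologyπ, ← ShortComplex.homologyπ_naturality]
    simp

end ShortComplexAb

section ChainComplexAb

variable {K L : ChainComplex AddCommGrpCat.{u} ℕ} (φ : K ⟶ L)

lemma cc_quasiIso_of
    (hinj : ∀ (m k : ℕ), (ComplexShape.down ℕ).next m = k → ∀ z : K.X m, K.d m k z = 0 →
      (∃ y : L.X (m + 1), φ.f m z = L.d (m + 1) m y) → ∃ x : K.X (m + 1), K.d (m + 1) m x = z)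
    (hsurj : ∀ (m k : ℕ), (ComplexShape.down ℕ).next m = k → ∀ y : L.X m, L.d m k y = 0 →
      ∃ (c : K.X m) (y'' : L.X (m + 1)), K.d m k c = 0 ∧ y = φ.f m c + L.d (m + 1) m y'') :
    QuasiIso φ := by
  rw [quasiIso_iff]
  intro m
  rw [quasiIsoAt_iff' φ (m + 1) m _ (by simp) rfl]
  exact sc_quasiIso_of _ (hinj m _ rfl) (hsurj m _ rfl)

/-- Homotopic chain maps differ by a boundary on cycles. -/
lemma homotopy_cycle {φ ψ : K ⟶ L} (H : Homotopy φ ψ) (m k : ℕ)
    (hk : (ComplexShape.down ℕ).next m = k) (z : K.X m) (hz : K.d m k z = 0) :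
    ∃ b : L.X (m + 1), φ.f m z = ψ.f m z + L.d (m + 1) m b := by
  subst hk
  refine ⟨H.hom m (m + 1) z, ?_⟩
  have h := H.comm m
  rw [prevD_eq (j' := m + 1) (w := by simp)] at h
  have h2 := congrArg (fun g => (ConcreteCategory.hom g) z) h
  simp only [AddCommGrpCat.hom_add_apply, ConcreteCategory.comp_apply] at h2
  have h3 : (dNext m H.hom) z = 0 := by
    change (H.hom _ _) (K.d m _ z) = 0
    rw [hz, map_zero]
  rw [h2, h3, zero_add, add_comm]

end ChainComplexAb

section FreeQuasiIso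

open AlgebraicTopology Simplicial Opposite

/-- The degreewise free abelian group functor on simplicial sets. -/
noncomputable abbrev Fr : SSet.{u} ⥤ SimplicialObject AddCommGrpCat.{u} :=
  (SimplicialObject.whiskering (Type u) AddCommGrpCat.{u}).obj AddCommGrpCat.free

open Classical in
/-- Homotopic maps of simplicial sets induce homotopic maps on free chain complexes. -/
noncomputable def freeHomotopy {A B : SSet.{u}} {p q : A ⟶ B}
    (H : Nonempty (SSet.Homotopy p q) ∨ Nonempty (SSet.Homotopy q p)) :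
    Homotopy ((alternatingFaceMapComplex _).map (Fr.map p))
      ((alternatingFaceMapComplex _).map (Fr.map q)) :=
  if h : Nonempty (SSet.Homotopy p q) then
    (h.some.toSimplicialObjectHomotopy.whiskerRight AddCommGrpCat.free).toChainHomotopy
  else
    ((H.resolve_left h).some.toSimplicialObjectHomotopy.whiskerRight
      AddCommGrpCat.free).toChainHomotopy.symm

lemma quasiIso_free {A B : SSet.{u}} (p : A ⟶ B) (q : B ⟶ A)
    (hA : Nonempty (SSet.Homotopy (p ≫ q) (𝟙 _)) ∨ Nonempty (SSet.Homotopy (𝟙 _) (p ≫ q)))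
    (hB : Nonempty (SSet.Homotopy (q ≫ p) (𝟙 _)) ∨ Nonempty (SSet.Homotopy (𝟙 _) (q ≫ p))) :
    QuasiIso ((alternatingFaceMapComplex _).map (Fr.map p)) := by
  let e : HomotopyEquiv ((alternatingFaceMapComplex _).obj (Fr.obj A))
      ((alternatingFaceMapComplex _).obj (Fr.obj B)) :=
    { hom := (alternatingFaceMapComplex _).map (Fr.map p)
      inv := (alternatingFaceMapComplex _).map (Fr.map q)
      homotopyHomInvId :=
        (Homotopy.ofEq (by rw [← Functor.map_comp, ← Functor.map_comp])).trans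
          ((freeHomotopy hA).trans (Homotopy.ofEq (by
            rw [CategoryTheory.Functor.map_id, CategoryTheory.Functor.map_id])))
      homotopyInvHomId :=
        (Homotopy.ofEq (by rw [← Functor.map_comp, ← Functor.map_comp])).trans
          ((freeHomotopy hB).trans (Homotopy.ofEq (by
            rw [CategoryTheory.Functor.map_id, CategoryTheory.Functor.map_id]))) }
  exact e.quasiIso_hom

end FreeQuasiIso

section Counit

open AlgebraicTopology AlgebraicTopology.DoldKan Simplicial Opposite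

variable (X : SimplicialObject AddCommGrpCat.{u})

/-- The underlying simplicial set. -/
abbrev U : SSet.{u} := X ⋙ forget AddCommGrpCat.{u}

/-- The counit from the free simplicial abelian group on the underlying simplicial set. -/
noncomputable def ε : Fr.obj (U X) ⟶ X where
  app n := AddCommGrpCat.ofHom (FreeAbelianGroup.lift (id : X.obj n → X.obj n))
  naturality n m θ := by
    apply AddCommGrpCat.hom_ext
    apply FreeAbelianGroup.lift_ext
    intro a
    change FreeAbelianGroup.lift id (FreeAbelianGroup.map _ (FreeAbelianGroup.of a)) =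
      X.map θ (FreeAbelianGroup.lift id (FreeAbelianGroup.of a))
    rw [FreeAbelianGroup.map_of_apply, FreeAbelianGroup.lift_apply_of,
      FreeAbelianGroup.lift_apply_of]
    rfl

/-- Generators of the free simplicial abelian group. -/
def gen {n : ℕ} (x : X _⦋n⦌) : (Fr.obj (U X)) _⦋n⦌ := FreeAbelianGroup.of x

lemma ε_gen {n : ℕ} (x : X _⦋n⦌) : (ε X).app (op ⦋n⦌) (gen X x) = x :=
  FreeAbelianGroup.lift_apply_of _ _

lemma δ_gen {n : ℕ} (i : Fin (n + 2)) (x : X _⦋n + 1⦌) :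
    (Fr.obj (U X)).δ i (gen X x) = gen X (X.δ i x) :=
  FreeAbelianGroup.map_of_apply x

variable {X} {Y : SimplicialObject AddCommGrpCat.{u}} (f : X ⟶ Y)

lemma Fr_map_gen {n : ℕ} (x : X _⦋n⦌) :
    (Fr.map (Functor.whiskerRight f (forget AddCommGrpCat.{u}))).app (op ⦋n⦌) (gen X x) =
      gen Y (f.app (op ⦋n⦌) x) :=
  FreeAbelianGroup.map_of_apply x

lemma Fr_map_ε : Fr.map (Functor.whiskerRight f (forget AddCommGrpCat.{u})) ≫ ε Y = ε X ≫ f := by
  ext n : 2
  let g : FreeAbelianGroup (X.obj n) →+ Y.obj n :=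
    ((Fr.map (Functor.whiskerRight f (forget AddCommGrpCat.{u})) ≫ ε Y).app n).hom
  let h : FreeAbelianGroup (X.obj n) →+ Y.obj n := ((ε X ≫ f).app n).hom
  change g = h
  apply FreeAbelianGroup.lift_ext
  intro a
  change FreeAbelianGroup.lift id (FreeAbelianGroup.map _ (FreeAbelianGroup.of a)) =
    f.app n (FreeAbelianGroup.lift id (FreeAbelianGroup.of a))
  rw [FreeAbelianGroup.map_of_apply, FreeAbelianGroup.lift_apply_of,
    FreeAbelianGroup.lift_apply_of]
  rfl

end Counit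

section Main

open AlgebraicTopology AlgebraicTopology.DoldKan Simplicial Opposite

variable (X : SimplicialObject AddCommGrpCat.{u})

/-- The reduced generator `[x] - [0]`. -/
noncomputable def cgen {n : ℕ} (x : X _⦋n⦌) : (Fr.obj (U X)) _⦋n⦌ := gen X x - gen X 0

lemma cgen_zero {n : ℕ} : cgen X (0 : X _⦋n⦌) = 0 := sub_self _

lemma ε_cgen {n : ℕ} (x : X _⦋n⦌) : (ε X).app (op ⦋n⦌) (cgen X x) = x := by
  rw [cgen, map_sub, ε_gen, ε_gen, sub_zero]

variable {X} in
lemma Fr_map_cgen {Y : SimplicialObject AddCommGrpCat.{u}} (f : X ⟶ Y) {n : ℕ} (x : X _⦋n⦌) :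
    (Fr.map (Functor.whiskerRight f (forget AddCommGrpCat.{u}))).app (op ⦋n⦌) (cgen X x) =
      cgen Y (f.app (op ⦋n⦌) x) := by
  rw [cgen, map_sub, Fr_map_gen, Fr_map_gen, map_zero]; rfl

lemma d_cgen_of_faces (m : ℕ) (x : X _⦋m + 1⦌) (hx : ∀ i : Fin (m + 1), X.δ i.succ x = 0) :
    ((alternatingFaceMapComplex _).obj (Fr.obj (U X))).d (m + 1) m (cgen X x) =
      cgen X (X.δ 0 x) := by
  rw [d_apply, Fin.sum_univ_succ]
  have : ∀ i : Fin (m + 1), (Fr.obj (U X)).δ i.succ (cgen X x) = 0 := by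
    intro i
    rw [cgen, map_sub, δ_gen, δ_gen, hx, map_zero, sub_self]
  simp only [this, smul_zero, Finset.sum_const_zero, add_zero, Fin.val_zero, pow_zero, one_smul]
  rw [cgen, map_sub, δ_gen, δ_gen, map_zero]; rfl

lemma faces_PInfty (m : ℕ) (v : X _⦋m + 1⦌) (i : Fin (m + 1)) :
    X.δ i.succ ((PInfty.f (m + 1) : X _⦋m + 1⦌ ⟶ X _⦋m + 1⦌) v) = 0 := by
  have := HigherFacesVanish.of_P (X := X) (m + 1) m i (by omega)
  rw [← PInfty_f] at this
  rw [← ConcreteCategory.comp_apply, this]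
  rfl

lemma d_eq_δ_zero_of_faces (m : ℕ) (x : X _⦋m + 1⦌) (hx : ∀ i : Fin (m + 1), X.δ i.succ x = 0) :
    ((alternatingFaceMapComplex _).obj X).d (m + 1) m x = X.δ 0 x := by
  rw [d_apply, Fin.sum_univ_succ]
  simp only [hx, smul_zero, Finset.sum_const_zero, add_zero, Fin.val_zero, pow_zero, one_smul]

lemma PInfty_comm_apply (m : ℕ) (v : X _⦋m + 1⦌) :
    ((alternatingFaceMapComplex AddCommGrpCat).obj X).d (m + 1) m
        ((PInfty.f (m + 1) : X _⦋m + 1⦌ ⟶ X _⦋m + 1⦌) v) =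
      (PInfty.f m : X _⦋m⦌ ⟶ X _⦋m⦌)
        (((alternatingFaceMapComplex AddCommGrpCat).obj X).d (m + 1) m v) :=
  congrArg (fun g => (ConcreteCategory.hom g) v) ((PInfty (X := X)).comm (m + 1) m)

/-- Normalization of cycles. -/
lemma normalize (m k : ℕ) (hk : (ComplexShape.down ℕ).next m = k) (z : X _⦋m⦌)
    (hz : ((alternatingFaceMapComplex _).obj X).d m k z = 0) :
    ∃ (z' : X _⦋m⦌) (b : X _⦋m + 1⦌),
      z' - z = ((alternatingFaceMapComplex _).obj X).d (m + 1) m b ∧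
      ((alternatingFaceMapComplex _).obj X).d m k z' = 0 ∧
      (PInfty.f m : X _⦋m⦌ ⟶ X _⦋m⦌) z' = z' ∧
      ((alternatingFaceMapComplex _).obj (Fr.obj (U X))).d m k (cgen X z') = 0 := by
  obtain ⟨b, hb⟩ := homotopy_cycle (homotopyPInftyToId X) m k hk z hz
  obtain ⟨z', hz'⟩ : ∃ z' : X _⦋m⦌, z' = (PInfty.f m : X _⦋m⦌ ⟶ X _⦋m⦌) z := ⟨_, rfl⟩
  have hb' : z' - z = ((alternatingFaceMapComplex _).obj X).d (m + 1) m b := by
    rw [sub_eq_iff_eq_add', hz']
    exact hb
  have hdz' : ((alternatingFaceMapComplex _).obj X).d m k z' = 0 := by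
    have h0 : ((alternatingFaceMapComplex _).obj X).d m k (z' - z) = 0 := by
      rw [hb', ← ConcreteCategory.comp_apply, HomologicalComplex.d_comp_d]
      rfl
    rw [map_sub, hz, sub_zero] at h0
    exact h0
  refine ⟨z', b, hb', hdz', ?_, ?_⟩
  · rw [hz', ← ConcreteCategory.comp_apply, PInfty_f_idem]
  · rcases m with _ | m
    · have hk0 : k = 0 := by simpa using hk.symm
      subst hk0
      rw [HomologicalComplex.shape _ 0 0 (by simp)]
      rfl
    · have hkm : k = m := by simpa using hk.symm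
      subst hkm
      have h1 : ∀ i : Fin (k + 1), X.δ i.succ z' = 0 := by
        intro i; rw [hz']; exact faces_PInfty X k z i
      rw [d_cgen_of_faces X k _ h1, ← d_eq_δ_zero_of_faces X k _ h1, hdz', cgen_zero]

variable {X} {Y : SimplicialObject AddCommGrpCat.{u}} (f : X ⟶ Y)

lemma ε_comm_apply (m : ℕ) (w : (Fr.obj (U X)) _⦋m + 1⦌) :
    (ε X).app (op ⦋m⦌) (((alternatingFaceMapComplex _).obj (Fr.obj (U X))).d (m + 1) m w) =
      ((alternatingFaceMapComplex _).obj X).d (m + 1) m ((ε X).app (op ⦋m + 1⦌) w) :=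
  (congrArg (fun g => (ConcreteCategory.hom g) w)
    (((alternatingFaceMapComplex _).map (ε X)).comm (m + 1) m)).symm

lemma ε_comm_apply' (m k : ℕ) (w : (Fr.obj (U X)) _⦋m⦌) :
    (ε X).app (op ⦋k⦌) (((alternatingFaceMapComplex _).obj (Fr.obj (U X))).d m k w) =
      ((alternatingFaceMapComplex _).obj X).d m k ((ε X).app (op ⦋m⦌) w) :=
  (congrArg (fun g => (ConcreteCategory.hom g) w)
    (((alternatingFaceMapComplex _).map (ε X)).comm m k)).symm

lemma f_comm_apply (m : ℕ) (w : X _⦋m + 1⦌) :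
    f.app (op ⦋m⦌) (((alternatingFaceMapComplex _).obj X).d (m + 1) m w) =
      ((alternatingFaceMapComplex _).obj Y).d (m + 1) m (f.app (op ⦋m + 1⦌) w) :=
  (congrArg (fun g => (ConcreteCategory.hom g) w)
    (((alternatingFaceMapComplex _).map f).comm (m + 1) m)).symm

lemma Fr_map_ε_apply (m : ℕ) (w : (Fr.obj (U X)) _⦋m⦌) :
    (ε Y).app (op ⦋m⦌)
      ((Fr.map (Functor.whiskerRight f (forget AddCommGrpCat.{u}))).app (op ⦋m⦌) w) =
      f.app (op ⦋m⦌) ((ε X).app (op ⦋m⦌) w) :=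
  congrArg (fun g => (ConcreteCategory.hom (g.app (op ⦋m⦌))) w) (Fr_map_ε f)

theorem main6817
    (g : (Y ⋙ forget AddCommGrpCat.{u} : SSet.{u}) ⟶ (X ⋙ forget AddCommGrpCat.{u} : SSet.{u}))
    (hX : Nonempty (SSet.Homotopy (Functor.whiskerRight f (forget AddCommGrpCat.{u}) ≫ g) (𝟙 _)) ∨
      Nonempty (SSet.Homotopy (𝟙 _) (Functor.whiskerRight f (forget AddCommGrpCat.{u}) ≫ g)))
    (hY : Nonempty (SSet.Homotopy (g ≫ Functor.whiskerRight f (forget AddCommGrpCat.{u})) (𝟙 _)) ∨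
      Nonempty (SSet.Homotopy (𝟙 _) (g ≫ Functor.whiskerRight f (forget AddCommGrpCat.{u})))) :
    QuasiIso ((AlgebraicTopology.alternatingFaceMapComplex AddCommGrpCat.{u}).map f) := by
  haveI hFq := quasiIso_free (Functor.whiskerRight f (forget AddCommGrpCat.{u})) g hX hY
  set Ff := Fr.map (Functor.whiskerRight f (forget AddCommGrpCat.{u})) with hFf
  apply cc_quasiIso_of
  · -- injectivity
    intro m k hk z hz ⟨y, hy⟩
    obtain ⟨z₀, rfl⟩ : ∃ z₀ : X _⦋m⦌, z₀ = z := ⟨z, rfl⟩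
    obtain ⟨y₀, rfl⟩ : ∃ y₀ : Y _⦋m + 1⦌, y₀ = y := ⟨y, rfl⟩
    obtain ⟨z', b, hb, hdz', hPz', hcz'⟩ := normalize X m k hk z₀ hz
    -- f z' is a boundary
    have hfz' : f.app (op ⦋m⦌) z' =
        ((alternatingFaceMapComplex _).obj Y).d (m + 1) m (y₀ + f.app (op ⦋m + 1⦌) b) := by
      have : z' = z₀ + (z' - z₀) := (add_sub_cancel _ _).symm
      rw [this, map_add, hb, f_comm_apply, map_add]
      congr 1
    obtain ⟨y', hy'⟩ : ∃ y' : Y _⦋m + 1⦌,
        y' = (PInfty.f (m + 1) : Y _⦋m + 1⦌ ⟶ Y _⦋m + 1⦌) (y₀ + f.app (op ⦋m + 1⦌) b) := ⟨_, rfl⟩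
    have hy'faces : ∀ i : Fin (m + 1), Y.δ i.succ y' = 0 := by
      intro i; rw [hy']; exact faces_PInfty Y m _ i
    have hy'0 : Y.δ 0 y' = f.app (op ⦋m⦌) z' := by
      rw [← d_eq_δ_zero_of_faces Y m y' hy'faces, hy', PInfty_comm_apply, ← hfz',
        ← ConcreteCategory.comp_apply, PInfty_f_naturality, ConcreteCategory.comp_apply, hPz']
    have hbd : (Ff.app (op ⦋m⦌)) (cgen X z') =
        ((alternatingFaceMapComplex _).obj (Fr.obj (U Y))).d (m + 1) m (cgen Y y') := by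
      rw [d_cgen_of_faces Y m y' hy'faces, hy'0, hFf, Fr_map_cgen]
    obtain ⟨w, hw⟩ := cc_inj ((alternatingFaceMapComplex _).map Ff) m k hk (cgen X z') hcz'
      (cgen Y y') hbd
    refine ⟨(ε X).app (op ⦋m + 1⦌) w - b, ?_⟩
    rw [map_sub, ← ε_comm_apply, hw, ε_cgen, ← hb]
    exact sub_sub_cancel _ _
  · -- surjectivity
    intro m k hk y hy
    obtain ⟨y₀, rfl⟩ : ∃ y₀ : Y _⦋m⦌, y₀ = y := ⟨y, rfl⟩
    obtain ⟨y', b, hb, hdy', hPy', hcy'⟩ := normalize Y m k hk y₀ hy
    obtain ⟨w, v, hw, hv⟩ := cc_surj ((alternatingFaceMapComplex _).map Ff) m k hk (cgen Y y') hcy'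
    refine ⟨(ε X).app (op ⦋m⦌) w, (ε Y).app (op ⦋m + 1⦌) v - b, ?_, ?_⟩
    · rw [← ε_comm_apply', hw, map_zero]
    · have h1 := congrArg ((ε Y).app (op ⦋m⦌)) hv
      rw [ε_cgen, map_add, ε_comm_apply] at h1
      have h2 : ((alternatingFaceMapComplex _).map Ff).f m w = Ff.app (op ⦋m⦌) w := rfl
      rw [h2, hFf, Fr_map_ε_apply] at h1
      have h3 : ((alternatingFaceMapComplex _).map f).f m ((ε X).app (op ⦋m⦌) w) =
        f.app (op ⦋m⦌) ((ε X).app (op ⦋m⦌) w) := rfl
      rw [h3, map_sub, ← hb, ← add_sub_assoc, ← h1]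
      exact (sub_sub_cancel _ _).symm

end Main

end Groth.Agent.Lib.Helper4.SimpAbHtpy
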