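import Mathlib.Tactic
import Mathlib.AlgebraicTopology.DoldKan.Normalized
import Mathlib.AlgebraicTopology.DoldKan.Degeneracies
import Mathlib.AlgebraicTopology.SimplicialObject.Basic
import Mathlib.CategoryTheory.Functor.KanExtension.Pointwise
import Groth.Agent.S6810

namespace Groth.Agent.Lib.Helper4.SkMoore

open CategoryTheory CategoryTheory.Limits AlgebraicTopology AlgebraicTopology.DoldKan
  Simplicial Opposite

universe v u

variable {A : Type u} [Category.{v} A] [Abelian A]

lemma subobject_eq_bot_of_arrow_eq_zero {B : A} (P : Subobject B) (h : P.arrow = 0) : P = ⊥ := by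
  rw [← Subobject.mk_arrow P, Subobject.mk_eq_bot_iff_zero]
  exact h

lemma objX_arrow_comp_PInfty (X : SimplicialObject A) (n : ℕ) :
    (NormalizedMooreComplex.objX X n).arrow ≫ (PInfty.f n : X _⦋n⦌ ⟶ X _⦋n⦌) =
      (NormalizedMooreComplex.objX X n).arrow := by
  have := congrArg (fun φ => φ.f n) (inclusionOfMooreComplexMap_comp_PInfty X)
  rw [HomologicalComplex.comp_f, inclusionOfMooreComplexMap_f] at this
  exact this

theorem main6806 (m : ℕ)
    [∀ F : (SimplexCategory.Truncated m)ᵒᵖ ⥤ A,
      (SimplexCategory.Truncated.inclusion m).op.HasLeftKanExtension F]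
    (U : SimplicialObject.Truncated A m) (n : ℕ) (hn : m < n) :
    AlgebraicTopology.NormalizedMooreComplex.objX ((SimplicialObject.Truncated.sk m).obj U) n = ⊥ := by
  set X := (SimplicialObject.Truncated.sk m).obj U with hX
  haveI : (SimplexCategory.Truncated.inclusion m).op.HasPointwiseLeftKanExtension U :=
    Groth.Agent.S6810.result m U
  let L := (SimplexCategory.Truncated.inclusion m).op
  let α : U ⟶ L ⋙ X := L.lanUnit.app U
  haveI : X.IsLeftKanExtension α := by
    dsimp [X, α]; infer_instance
  have hpt := Functor.isPointwiseLeftKanExtensionOfIsLeftKanExtension X α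
  have hcolim := hpt (op ⦋n⦌)
  have key : ∀ g : CostructuredArrow L (op ⦋n⦌),
      (α.app g.left ≫ X.map g.hom) ≫ (PInfty.f n : X _⦋n⦌ ⟶ X _⦋n⦌) = 0 := by
    intro g
    have hθ : ¬ Mono g.hom.unop := by
      intro hmono
      have h1 : (⦋n⦌ : SimplexCategory).len ≤ g.left.unop.obj.len :=
        SimplexCategory.len_le_of_mono g.hom.unop
      have h2 : g.left.unop.obj.len ≤ m := g.left.unop.property
      have h3 : (⦋n⦌ : SimplexCategory).len = n := rfl
      omega
    have := degeneracy_comp_PInfty X n g.hom.unop hθ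
    rw [Category.assoc]
    have e : X.map g.hom = X.map g.hom.unop.op := rfl
    rw [e, this, comp_zero]
  have hP : (PInfty.f n : X _⦋n⦌ ⟶ X _⦋n⦌) = 0 :=
    hcolim.hom_ext (fun g => (key g).trans comp_zero.symm)
  apply subobject_eq_bot_of_arrow_eq_zero
  rw [← objX_arrow_comp_PInfty, hP, comp_zero]

end Groth.Agent.Lib.Helper4.SkMoore
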