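import Mathlib.Tactic
import Mathlib.Algebra.Homology.ImageToKernel
import Mathlib.CategoryTheory.Abelian.Basic
import Groth.Agent.Lib.Helper4.SkMoore

namespace Groth.Agent.Lib.Helper4.SkGen

open CategoryTheory CategoryTheory.Limits AlgebraicTopology AlgebraicTopology.DoldKan
  Simplicial Opposite Groth.Agent.Lib.Helper4.SkMoore

universe v u

variable {A : Type u} [Category.{v} A] [Abelian A]

/-- If `f ≫ cokernel.π Q.arrow = 0` then the image of `f` is contained in `Q`. -/
lemma imageSubobject_le_of_comp_cokernel {B C : A} (f : B ⟶ C) (Q : Subobject C)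
    (h : f ≫ cokernel.π Q.arrow = 0) : imageSubobject f ≤ Q :=
  imageSubobject_le f (Abelian.monoLift Q.arrow f h) (Abelian.monoLift_comp _ _ _)

lemma comp_cokernel_of_imageSubobject_le {B C : A} (f : B ⟶ C) (Q : Subobject C)
    (h : imageSubobject f ≤ Q) : f ≫ cokernel.π Q.arrow = 0 := by
  have hfac0 : (imageSubobject f).Factors f :=
    (Subobject.factors_iff _ _).2 ⟨factorThruImageSubobject f, imageSubobject_arrow_comp f⟩
  have hfac : Q.Factors f := Subobject.factors_of_le _ h hfac0
  rw [← Subobject.factorThru_arrow Q f hfac, Category.assoc, cokernel.condition, comp_zero]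

/-- To check that a least upper bound of images maps into `Q` under `g`, it suffices to check
this on each generator. -/
lemma lub_image_le {ι : Type*} {B C : A} {D : ι → A} (φ : ∀ i, D i ⟶ B) (P : Subobject B)
    (hP : IsLUB (Set.range fun i => imageSubobject (φ i)) P) (g : B ⟶ C) (Q : Subobject C)
    (h : ∀ i, imageSubobject (φ i ≫ g) ≤ Q) : imageSubobject (P.arrow ≫ g) ≤ Q := by
  apply imageSubobject_le_of_comp_cokernel
  rw [Category.assoc]
  have hle : P ≤ kernelSubobject (g ≫ cokernel.π Q.arrow) := by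
    apply hP.2
    rintro _ ⟨i, rfl⟩
    apply image_le_kernel
    rw [← Category.assoc]
    exact comp_cokernel_of_imageSubobject_le _ _ (h i)
  have := Subobject.factors_of_le P.arrow hle (Subobject.factors_self P)
  exact (kernelSubobject_factors_iff _ _).1 this

theorem main6818 (U : SimplicialObject A) (n : ℕ)
    (U' : ∀ m : ℕ, Subobject (U.obj (op (SimplexCategory.mk m))))
    (hU' : ∀ m : ℕ, IsLUB (Set.range (fun φ : Σ i : Fin (n + 1),
      (SimplexCategory.mk m ⟶ SimplexCategory.mk i) => imageSubobject (U.map φ.2.op))) (U' m)) :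
    (∀ (m m' : ℕ) (ψ : SimplexCategory.mk m' ⟶ SimplexCategory.mk m),
      imageSubobject ((U' m).arrow ≫ U.map ψ.op) ≤ U' m') ∧
    (∀ i : ℕ, i ≤ n → U' i = ⊤) ∧
    (∀ m : ℕ, n < m → U' m ⊓ AlgebraicTopology.NormalizedMooreComplex.objX U m = ⊥) := by
  refine ⟨?_, ?_, ?_⟩
  · intro m m' ψ
    apply lub_image_le (fun φ : Σ i : Fin (n + 1),
      (SimplexCategory.mk m ⟶ SimplexCategory.mk i) => U.map φ.2.op) (U' m) (hU' m)
    rintro ⟨i, φ⟩
    have : U.map φ.op ≫ U.map ψ.op = U.map (ψ ≫ φ).op := by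
      rw [op_comp, Functor.map_comp]
    dsimp only
    rw [this]
    exact (hU' m').1 ⟨⟨i, ψ ≫ φ⟩, rfl⟩
  · intro i hi
    apply top_le_iff.1
    have h1 := (hU' i).1 ⟨⟨⟨i, Nat.lt_succ_of_le hi⟩, 𝟙 _⟩, rfl⟩
    dsimp only at h1
    rw [op_id, CategoryTheory.Functor.map_id, imageSubobject_mono,
      Subobject.mk_eq_top_of_isIso] at h1
    exact h1
  · intro m hnm
    -- PInfty kills U' m
    have hkill : (U' m).arrow ≫ (PInfty.f m : U _⦋m⦌ ⟶ U _⦋m⦌) = 0 := by
      have hle : U' m ≤ kernelSubobject (PInfty.f m : U _⦋m⦌ ⟶ U _⦋m⦌) := by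
        apply (hU' m).2
        rintro _ ⟨⟨i, φ⟩, rfl⟩
        apply image_le_kernel
        apply degeneracy_comp_PInfty U m φ
        intro hmono
        have h1 : (⦋m⦌ : SimplexCategory).len ≤ (⦋(i : ℕ)⦌ : SimplexCategory).len :=
          SimplexCategory.len_le_of_mono φ
        have h2 : (⦋m⦌ : SimplexCategory).len = m := rfl
        have h3 : (⦋(i : ℕ)⦌ : SimplexCategory).len = i := rfl
        have := i.2
        omega
      have := Subobject.factors_of_le (U' m).arrow hle (Subobject.factors_self _)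
      exact (kernelSubobject_factors_iff _ _).1 this
    apply subobject_eq_bot_of_arrow_eq_zero
    set W := U' m ⊓ AlgebraicTopology.NormalizedMooreComplex.objX U m with hW
    have e1 : W.arrow = Subobject.ofLE W _ inf_le_right ≫
        (AlgebraicTopology.NormalizedMooreComplex.objX U m).arrow := (Subobject.ofLE_arrow _).symm
    have e2 : W.arrow = Subobject.ofLE W _ inf_le_left ≫ (U' m).arrow :=
      (Subobject.ofLE_arrow _).symm
    have e3 : W.arrow ≫ (PInfty.f m : U _⦋m⦌ ⟶ U _⦋m⦌) = W.arrow := by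
      rw [e1, Category.assoc, objX_arrow_comp_PInfty]
    rw [← e3, e2, Category.assoc, hkill, comp_zero]

end Groth.Agent.Lib.Helper4.SkGen
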