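import Mathlib.Tactic
import Mathlib.AlgebraicTopology.DoldKan.Equivalence
import Groth.Agent.Lib.Helper4.SkGen

namespace Groth.Agent.Lib.Helper4.SkCounit

open CategoryTheory CategoryTheory.Limits AlgebraicTopology AlgebraicTopology.DoldKan
  Simplicial Opposite Groth.Agent.Lib.Helper4.SkMoore Groth.Agent.Lib.Helper4.SkGen

universe v u

variable {A : Type u} [Category.{v} A] [Abelian A]

/-- A morphism of simplicial objects in an abelian category whose normalized Moore complex map is
a degreewise monomorphism is a monomorphism. -/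
lemma mono_of_mono_normalized {X Y : SimplicialObject A} (f : X ⟶ Y)
    (h : ∀ k, Mono (((normalizedMooreComplex A).map f).f k)) : Mono f := by
  haveI : Mono ((normalizedMooreComplex A).map f) := HomologicalComplex.mono_of_mono_f _ h
  exact (CategoryTheory.Abelian.DoldKan.equivalence (A := A)).functor.mono_of_mono_map this

lemma map_f_arrow {X Y : SimplicialObject A} (f : X ⟶ Y) (k : ℕ) :
    ((normalizedMooreComplex A).map f).f k ≫ (NormalizedMooreComplex.objX Y k).arrow =
      (NormalizedMooreComplex.objX X k).arrow ≫ f.app (op ⦋k⦌) := by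
  simp only [normalizedMooreComplex_map, NormalizedMooreComplex.map_f]
  exact Subobject.factorThru_arrow _ _ _

lemma mono_map_f_of_isIso {X Y : SimplicialObject A} (f : X ⟶ Y) (k : ℕ)
    [IsIso (f.app (op ⦋k⦌))] : Mono (((normalizedMooreComplex A).map f).f k) := by
  have e := map_f_arrow f k
  have hm := mono_comp (NormalizedMooreComplex.objX X k).arrow (f.app (op ⦋k⦌))
  rw [← e] at hm
  exact @mono_of_mono _ _ _ _ _ _ _ hm

lemma mono_map_f_of_eq_bot {X Y : SimplicialObject A} (f : X ⟶ Y) (k : ℕ)
    (h : NormalizedMooreComplex.objX X k = ⊥) : Mono (((normalizedMooreComplex A).map f).f k) := by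
  have h0 : (NormalizedMooreComplex.objX X k).arrow = 0 := by
    rw [h, Subobject.bot_arrow]
  constructor
  intro T a b _
  have hz : ∀ c : T ⟶ ((NormalizedMooreComplex.objX X k : A)),
      c ≫ (NormalizedMooreComplex.objX X k).arrow = 0 := fun c => by rw [h0, comp_zero]
  exact (cancel_mono (NormalizedMooreComplex.objX X k).arrow).1 ((hz a).trans (hz b).symm)

section

variable (U : SimplicialObject A) (n : ℕ)
  [∀ F : (SimplexCategory.Truncated n)ᵒᵖ ⥤ A,
    (SimplexCategory.Truncated.inclusion n).op.HasLeftKanExtension F]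

/-- the counit is an isomorphism in degrees `≤ n`. -/
lemma isIso_counit_app (k : ℕ) (hk : k ≤ n) :
    IsIso (((SimplicialObject.skAdj n).counit.app U).app (op ⦋k⦌)) := by
  haveI : (SimplexCategory.Truncated.inclusion n).op.HasPointwiseLeftKanExtension
      ((SimplicialObject.truncation n).obj U) := Groth.Agent.S6810.result n _
  have htri := (SimplicialObject.skAdj (C := A) n).right_triangle_components U
  haveI : IsIso ((SimplicialObject.skAdj (C := A) n).unit.app
      ((SimplicialObject.truncation n).obj U)) := by
    change IsIso (((SimplexCategory.Truncated.inclusion n).op.lanAdjunction A).unit.app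
      ((SimplicialObject.truncation n).obj U))
    infer_instance
  haveI : IsIso ((SimplicialObject.truncation n).map
      ((SimplicialObject.skAdj (C := A) n).counit.app U)) :=
    IsIso.of_isIso_fac_left htri
  have := NatIso.isIso_app_of_isIso ((SimplicialObject.truncation n).map
      ((SimplicialObject.skAdj (C := A) n).counit.app U)) (op ⟨⦋k⦌, hk⟩)
  exact this

lemma mono_counit : Mono ((SimplicialObject.skAdj n).counit.app U) := by
  apply mono_of_mono_normalized
  intro k
  by_cases hk : k ≤ n
  · haveI := isIso_counit_app U n k hk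
    exact mono_map_f_of_isIso _ k
  · rw [not_le] at hk
    exact mono_map_f_of_eq_bot _ k (main6806 n ((SimplicialObject.truncation n).obj U) k hk)

omit [∀ F : (SimplexCategory.Truncated n)ᵒᵖ ⥤ A,
    (SimplexCategory.Truncated.inclusion n).op.HasLeftKanExtension F] in
/-- Abstract form of the image computation. -/
lemma image_eq_of_pointwise (X' : SimplicialObject A)
    (α : (SimplicialObject.truncation n).obj U ⟶ (SimplexCategory.Truncated.inclusion n).op ⋙ X')
    (m : ℕ)
    (hcolim : (Functor.LeftExtension.mk X' α).IsPointwiseLeftKanExtensionAt (op ⦋m⦌))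
    (ε : X' ⟶ U)
    (hε : ∀ j, α.app j ≫ ε.app ((SimplexCategory.Truncated.inclusion n).op.obj j) = 𝟙 _)
    (U' : ∀ m : ℕ, Subobject (U.obj (op (SimplexCategory.mk m))))
    (hU' : ∀ m : ℕ, IsLUB (Set.range (fun φ : Σ i : Fin (n + 1),
      (SimplexCategory.mk m ⟶ SimplexCategory.mk i) => imageSubobject (U.map φ.2.op))) (U' m)) :
    imageSubobject (ε.app (op ⦋m⦌)) = U' m := by
  have hl : ∀ g : CostructuredArrow (SimplexCategory.Truncated.inclusion n).op (op ⦋m⦌),
      (α.app g.left ≫ X'.map g.hom) ≫ ε.app (op ⦋m⦌) = U.map g.hom := by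
    intro g
    rw [Category.assoc, ε.naturality g.hom, ← Category.assoc, hε]
    exact Category.id_comp _
  apply le_antisymm
  · apply imageSubobject_le_of_comp_cokernel
    refine hcolim.hom_ext (fun g => ?_)
    refine Eq.trans ?_ comp_zero.symm
    have : (α.app g.left ≫ X'.map g.hom) ≫ ε.app (op ⦋m⦌) ≫ cokernel.π (U' m).arrow = 0 := by
      rw [← Category.assoc, hl]
      apply comp_cokernel_of_imageSubobject_le
      obtain ⟨⟨⟨Δ', hΔ'⟩⟩, _, φ⟩ := g
      induction Δ' using SimplexCategory.rec with
      | _ i => exact (hU' m).1 ⟨⟨⟨i, Nat.lt_succ_of_le hΔ'⟩, φ.unop⟩, rfl⟩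
    exact this
  · apply (hU' m).2
    rintro _ ⟨⟨i, φ⟩, rfl⟩
    have hi : (⦋(i : ℕ)⦌ : SimplexCategory).len ≤ n := Nat.le_of_lt_succ i.2
    let g : CostructuredArrow (SimplexCategory.Truncated.inclusion n).op (op ⦋m⦌) :=
      CostructuredArrow.mk (Y := op (⟨⦋(i : ℕ)⦌, hi⟩ : SimplexCategory.Truncated n)) φ.op
    have hlg := hl g
    dsimp only
    have e : U.map φ.op = U.map g.hom := rfl
    rw [e, ← hlg]
    exact imageSubobject_comp_le _ _

theorem main6819 (U' : ∀ m : ℕ, Subobject (U.obj (op (SimplexCategory.mk m))))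
    (hU' : ∀ m : ℕ, IsLUB (Set.range (fun φ : Σ i : Fin (n + 1),
      (SimplexCategory.mk m ⟶ SimplexCategory.mk i) => imageSubobject (U.map φ.2.op))) (U' m))
    (m : ℕ) :
    Mono (((SimplicialObject.skAdj n).counit.app U).app (op (SimplexCategory.mk m))) ∧
    imageSubobject (((SimplicialObject.skAdj n).counit.app U).app (op (SimplexCategory.mk m))) =
      U' m := by
  refine ⟨?_, ?_⟩
  · haveI := mono_counit U n
    infer_instance
  · haveI : (SimplexCategory.Truncated.inclusion n).op.HasPointwiseLeftKanExtension
        ((SimplicialObject.truncation n).obj U) := Groth.Agent.S6810.result n _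
    haveI : (SimplexCategory.Truncated.inclusion n).op.HasPointwiseLeftKanExtension
        ((𝟭 ((SimplexCategory.Truncated n)ᵒᵖ ⥤ A)).obj ((SimplicialObject.truncation n).obj U)) :=
      Groth.Agent.S6810.result n _
    have hcolim := Functor.isPointwiseLeftKanExtensionOfIsLeftKanExtension
      ((SimplicialObject.Truncated.sk n).obj ((SimplicialObject.truncation n).obj U))
      ((SimplexCategory.Truncated.inclusion n).op.lanUnit.app
        ((SimplicialObject.truncation n).obj U)) (op ⦋m⦌)
    refine image_eq_of_pointwise U n _ _ m hcolim _ ?_ U' hU'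
    intro j
    have htri := (SimplicialObject.skAdj (C := A) n).right_triangle_components U
    have h1 := congr_app htri j
    rw [NatTrans.comp_app, NatTrans.id_app] at h1
    have hu : (SimplicialObject.skAdj (C := A) n).unit =
        (SimplexCategory.Truncated.inclusion n).op.lanUnit := Functor.lanAdjunction_unit _ _
    rw [hu] at h1
    exact h1

end

end Groth.Agent.Lib.Helper4.SkCounit
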