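import Mathlib.Tactic
import Mathlib.AlgebraicTopology.SimplicialSet.Dimension
import Mathlib.CategoryTheory.Functor.KanExtension.Pointwise
import Mathlib.CategoryTheory.Limits.Types.Colimits

namespace Groth.Agent.Lib.Helper4.SkDim

open CategoryTheory CategoryTheory.Limits Simplicial Opposite

universe u

theorem main6805 (m : ℕ) (U : SSet.Truncated.{u} m) :
    ((SSet.Truncated.sk m).obj U).HasDimensionLT (m + 1) := by
  constructor
  intro k hk
  ext x
  simp only [Set.top_eq_univ, Set.mem_univ, iff_true]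
  let L := (SimplexCategory.Truncated.inclusion m).op
  let X : SSet.{u} := (SSet.Truncated.sk m).obj U
  let α : U ⟶ L ⋙ X := L.lanUnit.app U
  haveI : X.IsLeftKanExtension α := by
    dsimp [X, α, SSet.Truncated.sk]; infer_instance
  have hcolim := Functor.isPointwiseLeftKanExtensionOfIsLeftKanExtension X α (op ⦋k⦌)
  obtain ⟨g, u, hu⟩ := Types.jointly_surjective_of_isColimit hcolim x
  obtain ⟨⟨⟨Δ', hΔ'⟩⟩, _, φ⟩ := g
  induction Δ' using SimplexCategory.rec with
  | _ j =>
    have hj : j ≤ m := hΔ'
    refine ⟨j, by omega, φ.unop, ⟨α.app _ u, ?_⟩⟩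
    exact hu

end Groth.Agent.Lib.Helper4.SkDim
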