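import Mathlib.Algebra.Lie.Sl2
import Mathlib.Algebra.DirectSum.LinearMap
import Mathlib.LinearAlgebra.Eigenspace.Basic
import Mathlib.LinearAlgebra.Trace
import Mathlib.FieldTheory.IsAlgClosed.Basic
import Mathlib.Algebra.Lie.Semisimple.Defs
import Mathlib.Algebra.Lie.Semisimple.Basic
import Mathlib.Tactic

namespace Groth.Agent.Lib.Helper4.Sl2Trace
open LieModule Module

section sums
variable {k : Type*} [Field k] [CharZero k]

lemma sum_sq (n : ℕ) (a : k) :
    3 * ∑ j ∈ Finset.range (n + 1), (a - 2 * (j : k)) ^ 2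
      = 3 * ((n : k) + 1) * a ^ 2 - 6 * a * (n * (n + 1)) + 2 * (n * (n + 1) * (2 * n + 1)) := by
  induction n with
  | zero => simp
  | succ n ih =>
    rw [Finset.sum_range_succ, mul_add, ih]
    push_cast
    ring

lemma six_choose (n : ℕ) : 6 * (n + 2).choose 3 = (n + 2) * (n + 1) * n := by
  have := Nat.descFactorial_eq_factorial_mul_choose (n + 2) 3
  simp only [Nat.descFactorial, Nat.factorial] at this
  have h1 : n + 2 - 2 = n := by omega
  have h2 : n + 2 - 1 = n + 1 := by omega
  simp only [h1, h2, Nat.sub_zero] at this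
  nlinarith [this]

lemma sum_sq' (n : ℕ) :
    ∑ j ∈ Finset.range (n + 1), ((n : k) - 2 * (j : k)) ^ 2 = 2 * (((n + 2).choose 3 : ℕ) : k) := by
  have h1 := sum_sq n (n : k)
  have h2 : (6 : k) * (((n + 2).choose 3 : ℕ) : k) = ((n : k) + 2) * (n + 1) * n := by
    exact_mod_cast congrArg (Nat.cast (R := k)) (six_choose n)
  have h3 : (3 : k) ≠ 0 := by norm_num
  apply mul_left_cancel₀ h3
  rw [h1]
  linear_combination (-1 : k) * h2

end sums

section irr
variable {k : Type*} [Field k] [IsAlgClosed k] [CharZero k]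
  {L : Type*} [LieRing L] [LieAlgebra k L] {h e f : L}
  {M : Type*} [AddCommGroup M] [Module k M] [LieRingModule L M] [LieModule k L M]
  [FiniteDimensional k M]

theorem trace_irr (t : IsSl2Triple h e f) (hspan : t.toLieSubalgebra k = ⊤)
    [LieModule.IsIrreducible k L M] :
    LinearMap.trace k M ((toEnd k L M h) ^ 2) = 2 * (((Module.finrank k M + 1).choose 3 : ℕ) : k) := by
  classical
  have : Nontrivial M := LieModule.nontrivial_of_isIrreducible k L M
  obtain ⟨μ, m, hm0, P⟩ := t.exists_hasPrimitiveVectorWith (R := k) (M := M)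
  obtain ⟨n, hn⟩ := P.exists_nat
  set ψ : ℕ → M := fun j => ((toEnd k L M f) ^ j) m with hψ
  have hψne : ∀ j ≤ n, ψ j ≠ 0 := fun j hj => P.pow_toEnd_f_ne_zero_of_eq_nat hn hj
  have hψz : ψ (n + 1) = 0 := P.pow_toEnd_f_eq_zero_of_eq_nat hn
  have hh : ∀ j, ⁅h, ψ j⁆ = ((n : k) - 2 * j) • ψ j := fun j => by
    rw [← hn]; exact P.lie_h_pow_toEnd_f j
  have hf : ∀ j, ⁅f, ψ j⁆ = ψ (j + 1) := fun j => P.lie_f_pow_toEnd_f j
  have he0 : ⁅e, ψ 0⁆ = 0 := by simpa [hψ] using P.lie_e
  have he : ∀ j, ⁅e, ψ (j + 1)⁆ = (((j : k) + 1) * (μ - j)) • ψ j := fun j =>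
    P.lie_e_pow_succ_toEnd_f j
  -- the span
  set N : Submodule k M := Submodule.span k (Set.range fun j : Fin (n + 1) => ψ j) with hN
  have hψN : ∀ j ≤ n, ψ j ∈ N := fun j hj =>
    Submodule.subset_span ⟨⟨j, by omega⟩, rfl⟩
  have hstab : ∀ x ∈ ({h, e, f} : Set L), ∀ y ∈ N, ⁅x, y⁆ ∈ N := by
    intro x hx y hy
    induction hy using Submodule.span_induction with
    | mem y hy =>
      obtain ⟨⟨j, hj⟩, rfl⟩ := hy
      simp only
      rcases hx with rfl | rfl | rfl
      · rw [hh]; exact N.smul_mem _ (hψN j (by omega))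
      · rcases j with _ | j
        · rw [he0]; exact N.zero_mem
        · rw [he]; exact N.smul_mem _ (hψN j (by omega))
      · rw [hf]
        by_cases hjn : j + 1 ≤ n
        · exact hψN _ hjn
        · have : j + 1 = n + 1 := by omega
          rw [this, hψz]; exact N.zero_mem
    | zero => simp
    | add y z _ _ hy hz => rw [lie_add]; exact N.add_mem hy hz
    | smul c y _ hy => rw [lie_smul]; exact N.smul_mem c hy
  let N' : LieSubmodule k L M :=
    { N with
      lie_mem := by
        intro x y hy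
        have hx : x ∈ t.toLieSubalgebra k := by rw [hspan]; trivial
        obtain ⟨c₁, c₂, c₃, rfl⟩ := IsSl2Triple.mem_toLieSubalgebra_iff.mp hx
        rw [t.lie_e_f, add_lie, add_lie, smul_lie, smul_lie, smul_lie]
        exact N.add_mem (N.add_mem (N.smul_mem _ (hstab e (by simp) y hy))
          (N.smul_mem _ (hstab f (by simp) y hy))) (N.smul_mem _ (hstab h (by simp) y hy)) }
  have hN'top : N' = ⊤ := by
    refine (IsSimpleOrder.eq_bot_or_eq_top N').resolve_left ?_
    intro hbot
    have : ψ 0 ∈ N' := hψN 0 (Nat.zero_le n)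
    rw [hbot, LieSubmodule.mem_bot] at this
    exact hψne 0 (Nat.zero_le n) this
  have hNtop : N = ⊤ := by
    have := congrArg LieSubmodule.toSubmodule hN'top
    simpa [N'] using this
  -- linear independence
  have hli : LinearIndependent k (fun j : Fin (n + 1) => ψ j) := by
    apply Module.End.eigenvectors_linearIndependent' (toEnd k L M h)
      (fun j : Fin (n + 1) => (n : k) - 2 * (j : ℕ))
    · intro i j hij
      have : ((i : ℕ) : k) = ((j : ℕ) : k) := by
        have h2 : (2 : k) ≠ 0 := two_ne_zero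
        have := sub_right_injective hij
        exact mul_left_cancel₀ h2 this
      exact Fin.ext (Nat.cast_injective this)
    · intro j
      refine ⟨?_, hψne j (by omega)⟩
      rw [Module.End.mem_eigenspace_iff, toEnd_apply_apply, hh]
  let b : Basis (Fin (n + 1)) k M := Basis.mk hli (by rw [← hN, hNtop])
  have hfr : Module.finrank k M = n + 1 := by
    rw [Module.finrank_eq_card_basis b, Fintype.card_fin]
  rw [hfr, LinearMap.trace_eq_matrix_trace k b, Matrix.trace]
  have hdiag : ∀ j : Fin (n + 1), (LinearMap.toMatrix b b ((toEnd k L M h) ^ 2)).diag j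
      = ((n : k) - 2 * ((j : ℕ) : k)) ^ 2 := by
    intro j
    have hbj : b j = ψ j := by simp [b]
    rw [Matrix.diag_apply, LinearMap.toMatrix_apply, hbj, pow_two, Module.End.mul_apply,
      toEnd_apply_apply, toEnd_apply_apply, hh, lie_smul, hh, smul_smul]
    rw [← hbj, map_smul, Basis.repr_self, Finsupp.smul_apply, Finsupp.single_eq_same, smul_eq_mul,
      mul_one]
    ring
  simp only [hdiag]
  rw [Fin.sum_univ_eq_sum_range (fun j => ((n : k) - 2 * (j : k)) ^ 2) (n + 1)]
  exact sum_sq' n

end irr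

end Groth.Agent.Lib.Helper4.Sl2Trace

namespace Groth.Agent.Lib.Helper4.Sl2Trace
open LieModule Module

theorem main (k : Type*) [Field k] [IsAlgClosed k] [CharZero k]
    (L : Type*) [LieRing L] [LieAlgebra k L]
    (h e f : L) (t : IsSl2Triple h e f) (hspan : t.toLieSubalgebra k = ⊤)
    (V : Type*) [AddCommGroup V] [Module k V] [LieRingModule L V] [LieModule k L V]
    [FiniteDimensional k V]
    (ι : Type) [Fintype ι] [DecidableEq ι] (W : ι → LieSubmodule k L V)
    (hW : DirectSum.IsInternal fun i => (W i).toSubmodule)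
    (hirr : ∀ i, LieModule.IsIrreducible k L (W i)) :
    LinearMap.trace k V ((LieModule.toEnd k L V h) ^ 2) =
      2 * ∑ i, (((Module.finrank k (W i) + 1).choose 3 : ℕ) : k) := by
  have hf : ∀ i, Set.MapsTo (((LieModule.toEnd k L V h) ^ 2 : Module.End k V))
      ((W i).toSubmodule : Set V) ((W i).toSubmodule : Set V) := by
    intro i x hx
    rw [pow_two, Module.End.mul_apply, toEnd_apply_apply, toEnd_apply_apply]
    exact (W i).lie_mem ((W i).lie_mem hx)
  rw [LinearMap.trace_eq_sum_trace_restrict hW hf, Finset.mul_sum]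
  refine Finset.sum_congr rfl fun i _ => ?_
  have := hirr i
  have := trace_irr (M := W i) t hspan
  rw [← this]
  congr 1

end Groth.Agent.Lib.Helper4.Sl2Trace
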