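import Groth.Agent.Lib.Helper4.Snapper2
set_option backward.isDefEq.respectTransparency.types false
set_option autoImplicit false
set_option linter.style.haveILetI false

universe u
open CategoryTheory CategoryTheory.Limits AlgebraicGeometry Opposite TopologicalSpace

namespace Groth.Agent.Lib.Helper4.NumPoly
open MvPolynomial

variable {ι : Type*} [Fintype ι] [DecidableEq ι] {G H : Type*} [AddCommGroup G] [AddCommGroup H]

theorem pair_comp (φ : G →+ H) (f : (ι → ℕ) → G) (P : MvPolynomial ι ℤ) :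
    pair (fun n => φ (f n)) P = φ (pair f P) := by
  induction P using MvPolynomial.induction_on' with
  | monomial m a => simp [pair_monomial]
  | add p q hp hq => rw [map_add, hp, hq, map_add, map_add]

theorem IsNumPolyLt.comp {e : ℕ} {f : (ι → ℕ) → G} (hf : IsNumPolyLt e f) (φ : G →+ H) :
    IsNumPolyLt e (fun n => φ (f n)) := by
  intro P hP
  rw [pair_comp, hf P hP, map_zero]

end Groth.Agent.Lib.Helper4.NumPoly

namespace Groth.Agent.Lib.Helper4.Snapper
open Groth.Agent.Lib.Helper6.K0Filt Groth.Agent.Lib.Helper6.K0Len Groth.Agent.Lib.Helper6.K0Op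
  Groth.Agent.Lib.Helper6.K0Tensor Groth.Agent.Lib.Helper4.NumPoly

variable {X : Scheme.{u}}

theorem cls_mem_Hlt (F : X.Modules) (hF : Coh.IsCoh F) (d : ℕ)
    (hsupp : topologicalKrullDim (CohB1.support F) ≤ d) : cls F ∈ Hlt X (d + 1) := by
  unfold Hlt
  apply AddSubgroup.subset_closure
  exact ⟨F, hF, (lt_succ_iff_le _ d).2 hsupp, rfl⟩

theorem Top_map_Hlt [IsNoetherian X] (M : X.Modules) (hM : PicF.IsInvertible M) (e : ℕ) (c : K0 X)
    (hc : c ∈ Hlt X e) : Top M c ∈ Hlt X e := by
  cases e with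
  | zero =>
    rw [Hlt_zero, AddSubgroup.mem_bot] at hc
    rw [hc, map_zero]
    exact AddSubgroup.zero_mem _
  | succ e =>
    have h1 := Hlt_mono e (sub_Top_mem_Hlt M hM e c hc)
    have h2 : Top M c = c - (1 - Top M) c := by
      change _ = c - (c - Top M c)
      abel
    rw [h2]
    exact AddSubgroup.sub_mem _ hc h1

theorem W_map_Hlt [IsNoetherian X] (e : ℕ) : (r : ℕ) → (L : _root_.Fin r → X.Modules) →
    (∀ i, PicF.IsInvertible (L i)) → (n : _root_.Fin r → ℕ) → (c : K0 X) → c ∈ Hlt X e →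
    W r L n c ∈ Hlt X e
  | 0, _, _, _, c, hc => hc
  | r + 1, L, hL, n, c, hc => by
    have h1 := W_map_Hlt e r (fun i => L i.castSucc) (fun i => hL i.castSucc) (fun i => n i.castSucc) c hc
    show (Top (L (Fin.last r)) ^ n (Fin.last r)) (W r (fun i => L i.castSucc) (fun i => n i.castSucc) c) ∈ _
    generalize W r (fun i => L i.castSucc) (fun i => n i.castSucc) c = c' at h1
    generalize n (Fin.last r) = m
    induction m with
    | zero => rw [pow_zero]; exact h1
    | succ m ih =>
      rw [pow_succ']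
      exact Top_map_Hlt _ (hL (Fin.last r)) e _ ih

/-- **Snapper's theorem**: the Euler characteristic of `F ⊗ L_1^{n_1} ⊗ ... ⊗ L_r^{n_r}` is a numerical
polynomial in `n` of total degree at most `dim Supp F`. -/
theorem snapper (k : Type u) [Field k] (X : Scheme.{u}) [X.Over (Spec (CommRingCat.of k))]
    [IsProper (X ↘ (Spec (CommRingCat.of k)))]
    (F : X.Modules) (hF : Coh.IsCoh F) (d : ℕ) (hsupp : topologicalKrullDim (CohB1.support F) ≤ d)
    (r : ℕ) (L : _root_.Fin r → X.Modules) (hL : ∀ i, PicF.IsInvertible (L i)) :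
    IsNumPolyLt (d + 1) (fun n : _root_.Fin r → ℕ => (Curv2.euler k X (Curv2.tensorPows F r L n) : ℚ)) := by
  haveI : IsLocallyNoetherian X := Groth.Agent.Lib.Helper8.EulerK.isLocallyNoetherian k X
  haveI : CompactSpace X := QuasiCompact.compactSpace_of_compactSpace (X ↘ Spec (CommRingCat.of k))
  haveI : IsNoetherian X := { }
  let g : (_root_.Fin r → ℕ) → K0 X := fun n => W r L n (cls F)
  have hg : IsEquivariant L g := by
    intro i n
    show W r L (n + Pi.single i 1) (cls F) = Top (L i) (W r L n (cls F))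
    rw [W_add_single r L hL n i]
    rfl
  have hg2 : ∀ n, g n ∈ Hlt X (d + 1) := fun n =>
    W_map_Hlt (d + 1) r L hL n _ (cls_mem_Hlt F hF d hsupp)
  have h1 := isNumPolyLt_of_isEquivariant L hL (d + 1) g hg hg2
  let Φ := Groth.Agent.Lib.Helper8.K0Add.Φ (Curv2.euler k X)
    (Groth.Agent.Lib.Helper8.EulerK.euler_add k X)
  have h2 := h1.comp ((Int.castAddHom ℚ).comp Φ)
  convert h2 using 2 with n
  show _ = ((Φ (W r L n (cls F)) : ℤ) : ℚ)
  rw [← cls_tensorPows F hF r L hL n]
  congr 1
  exact (Groth.Agent.Lib.Helper8.K0Add.Φ_cls _ _ _ (isCoh_tensorPows F hF r L hL n)).symm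

end Groth.Agent.Lib.Helper4.Snapper
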