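import Groth.Agent.Lib.Helper4.Snapper3
import Groth.Agent.Lib.Helper4.NumPoly4
set_option backward.isDefEq.respectTransparency.types false
set_option autoImplicit false
set_option linter.style.haveILetI false

universe u
open CategoryTheory CategoryTheory.Limits AlgebraicGeometry Opposite TopologicalSpace

namespace Groth.Agent.Lib.Helper4.NumPoly
open MvPolynomial

/-- if an integer-valued function on `ℕ^d` with vanishing `(d+1)`-fold differences is given by a rational
polynomial `P`, then the coefficient of `x_1 ⋯ x_d` in `P` is an integer (the top mixed difference). -/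
theorem coeff_one_isInt {d : ℕ} (f : (_root_.Fin d → ℕ) → ℤ)
    (hf : IsNumPolyLt (d + 1) (fun n => ((f n : ℤ) : ℚ)))
    (P : MvPolynomial (_root_.Fin d) ℚ) (hP : ∀ n : _root_.Fin d → ℕ, ((f n : ℤ) : ℚ) = eval (fun i => (n i : ℚ)) P) :
    ∃ z : ℤ, coeff (Finsupp.equivFunOnFinite.symm fun _ : _root_.Fin d => 1) P = (z : ℚ) := by
  have h1 : P = newtonPoly d (fun n => ((f n : ℤ) : ℚ)) := by
    apply eq_of_eval_nat_eq
    intro n
    rw [eval_newtonPoly hf n, hP n]
  have h2 := coeff_one_newtonPoly (ι := _root_.Fin d) (fun n => ((f n : ℤ) : ℚ))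
  rw [Fintype.card_fin] at h2
  refine ⟨pair f (Y fun _ => 1), ?_⟩
  rw [h1, h2]
  exact pair_comp (Int.castAddHom ℚ) f _

end Groth.Agent.Lib.Helper4.NumPoly

namespace Groth.Agent.Lib.Helper4.Snapper
open Groth.Agent.Lib.Helper4.NumPoly

/-- integrality of intersection numbers -/
theorem intersectionNumber_isInteger (k : Type u) [Field k] (X : Scheme.{u}) [X.Over (Spec (CommRingCat.of k))]
    [IsProper (X ↘ (Spec (CommRingCat.of k)))]
    (F : X.Modules) (hF : Coh.IsCoh F) (d : ℕ) (hsupp : topologicalKrullDim (CohB1.support F) ≤ d)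
    (L : _root_.Fin d → X.Modules) (hL : ∀ i, PicF.IsInvertible (L i)) (P : MvPolynomial (_root_.Fin d) ℚ)
    (hP : ∀ n : _root_.Fin d → ℕ, (Curv2.euler k X (Curv2.tensorPows F d L n) : ℚ) =
      MvPolynomial.eval (fun i => (n i : ℚ)) P) :
    ∃ z : ℤ, MvPolynomial.coeff (Finsupp.equivFunOnFinite.symm fun _ : _root_.Fin d => 1) P = (z : ℚ) :=
  coeff_one_isInt (fun n => Curv2.euler k X (Curv2.tensorPows F d L n))
    (snapper k X F hF d hsupp d L hL) P hP

end Groth.Agent.Lib.Helper4.Snapper
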