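import Groth.Agent.Lib.Helper4.Snapper5
set_option backward.isDefEq.respectTransparency.types false
set_option autoImplicit false
set_option linter.style.haveILetI false

universe u
open CategoryTheory CategoryTheory.Limits AlgebraicGeometry Opposite TopologicalSpace

namespace Groth.Agent.Lib.Helper4.Snapper
open Groth.Agent.Lib.Helper6.K0Filt Groth.Agent.Lib.Helper6.K0Len Groth.Agent.Lib.Helper6.K0Op
  Groth.Agent.Lib.Helper6.K0Tensor Groth.Agent.Lib.Helper4.NumPoly

variable (k : Type u) [Field k] {X : Scheme.{u}} [X.Over (Spec (CommRingCat.of k))]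
    [IsProper (X ↘ (Spec (CommRingCat.of k)))]

open Classical in
/-- **intersection numbers via multiplicities of components**, coefficient form -/
theorem coeff_one_eq_cycle_sum (F : X.Modules) (hF : Coh.IsCoh F) (d : ℕ)
    (hsupp : topologicalKrullDim (CohB1.support F) ≤ d)
    (L : _root_.Fin d → X.Modules) (hL : ∀ i, PicF.IsInvertible (L i)) (P : MvPolynomial (_root_.Fin d) ℚ)
    (hP : ∀ n : _root_.Fin d → ℕ, (Curv2.euler k X (Curv2.tensorPows F d L n) : ℚ) =
      MvPolynomial.eval (fun i => (n i : ℚ)) P)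
    (Q : X → MvPolynomial (_root_.Fin d) ℚ)
    (hQ : ∀ ξ : X, topologicalKrullDim (closure ({ξ} : Set X)) = (d : WithBot ℕ∞) →
      ∀ n : _root_.Fin d → ℕ, (Curv2.euler k X (Curv2.tensorPows (OZ ξ) d L n) : ℚ) =
        MvPolynomial.eval (fun i => (n i : ℚ)) (Q ξ)) :
    MvPolynomial.coeff (Finsupp.equivFunOnFinite.symm fun _ : _root_.Fin d => 1) P =
      ∑ᶠ ξ : X, (if topologicalKrullDim (closure ({ξ} : Set X)) = (d : WithBot ℕ∞) then
        ((Module.length (X.presheaf.stalk ξ) (F.presheaf.stalk ξ)).toNat : ℚ) *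
          MvPolynomial.coeff (Finsupp.equivFunOnFinite.symm fun _ : _root_.Fin d => 1) (Q ξ) else 0) := by
  haveI : IsNoetherian X := isNoetherian_of_proper k
  rw [coeff_one_eq_inter k _ hF d hsupp L hL P hP, inter_eq_cycle_sum k _ hF d hsupp L hL]
  have hfin := (cycle_formula_dim d (CohB1.support F)
    (Groth.Agent.Lib.Helper6.DevCore.isClosed_support _ hF) hsupp _ hF le_rfl).1
  have hsub : (Function.support fun ξ : X => if Dn d ξ then
      ((len F ξ).toNat : ℤ) * inter k X d L (cls (OZ ξ)) else 0) ⊆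
      {x : X | Dn d x ∧ x ∈ CohB1.support F} := by
    intro ξ hξ
    rw [Function.mem_support] at hξ
    by_cases hDn : Dn d ξ
    · refine ⟨hDn, ?_⟩
      by_contra hxs
      apply hξ
      rw [if_pos hDn, len_eq_zero_of_notMem_support _ ξ hxs]
      simp
    · exfalso
      apply hξ
      rw [if_neg hDn]
  have hmap := AddMonoidHom.map_finsum (Int.castAddHom ℚ) (hfin.1.subset hsub)
  rw [Int.coe_castAddHom] at hmap
  refine (hmap.trans ?_)
  apply finsum_congr
  intro ξ
  by_cases hDn : Dn d ξ
  · have hDn' : topologicalKrullDim (closure ({ξ} : Set X)) = (d : WithBot ℕ∞) := hDn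
    rw [if_pos hDn, if_pos hDn']
    have hs : topologicalKrullDim (CohB1.support (OZ ξ)) ≤ d := by
      rw [support_OZ]
      exact hDn.le
    rw [coeff_one_eq_inter k _ (isCoh_OZ ξ) d hs L hL (Q ξ) (hQ ξ hDn')]
    push_cast
    rfl
  · have hDn' : ¬ topologicalKrullDim (closure ({ξ} : Set X)) = (d : WithBot ℕ∞) := hDn
    rw [if_neg hDn, if_neg hDn']
    simp

end Groth.Agent.Lib.Helper4.Snapper
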