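import Mathlib.Topology.NoetherianSpace
import Mathlib.Topology.Sober
import Mathlib.AlgebraicGeometry.Noetherian
import Mathlib.Tactic

set_option autoImplicit false
universe u
open TopologicalSpace Topology

namespace Groth.Agent.Lib.Helper4.SpecChain

variable {X : Type*} [TopologicalSpace X]

/-- a set saturated under specialization in both directions is a union of irreducible components,
hence closed when there are finitely many components -/
theorem saturated_isClosed [QuasiSober X] (hfin : (irreducibleComponents X).Finite)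
    (C : Set X) (h1 : ∀ x y, x ⤳ y → x ∈ C → y ∈ C) (h2 : ∀ x y, x ⤳ y → y ∈ C → x ∈ C) :
    IsClosed C := by
  have hC : C = ⋃ Z ∈ {Z ∈ irreducibleComponents X | (Z ∩ C).Nonempty}, Z := by
    ext x
    simp only [Set.mem_iUnion, Set.mem_ofPred_eq, exists_prop]
    constructor
    · intro hx
      refine ⟨irreducibleComponent x, ⟨irreducibleComponent_mem_irreducibleComponents x,
        ⟨x, mem_irreducibleComponent, hx⟩⟩, mem_irreducibleComponent⟩
    · rintro ⟨Z, ⟨hZ, ⟨y, hyZ, hyC⟩⟩, hxZ⟩
      have hZirr : IsIrreducible Z := hZ.1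
      have hZcl : IsClosed Z := isClosed_of_mem_irreducibleComponents Z hZ
      obtain ⟨η, hη⟩ := QuasiSober.sober hZirr hZcl
      have hηy : η ⤳ y := hη.specializes hyZ
      have hηx : η ⤳ x := hη.specializes hxZ
      exact h1 η x hηx (h2 η y hηy hyC)
  rw [hC]
  apply Set.Finite.isClosed_biUnion (hfin.subset (fun Z hZ => hZ.1))
  intro Z hZ
  exact isClosed_of_mem_irreducibleComponents Z hZ.1

theorem main [QuasiSober X] [ConnectedSpace X] (hfin : (irreducibleComponents X).Finite)
    (p q : X) : Relation.EqvGen (fun x y : X => x ⤳ y) p q := by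
  let C : Set X := {x | Relation.EqvGen (fun x y : X => x ⤳ y) p x}
  have hC1 : IsClosed C := by
    apply saturated_isClosed hfin
    · intro x y hxy hx
      exact Relation.EqvGen.trans _ _ _ hx (Relation.EqvGen.rel _ _ hxy)
    · intro x y hxy hy
      exact Relation.EqvGen.trans _ _ _ hy (Relation.EqvGen.symm _ _ (Relation.EqvGen.rel _ _ hxy))
  have hC2 : IsClosed Cᶜ := by
    apply saturated_isClosed hfin
    · intro x y hxy hx hy
      exact hx (Relation.EqvGen.trans _ _ _ hy
        (Relation.EqvGen.symm _ _ (Relation.EqvGen.rel _ _ hxy)))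
    · intro x y hxy hy hx
      exact hy (Relation.EqvGen.trans _ _ _ hx (Relation.EqvGen.rel _ _ hxy))
  have hclopen : IsClopen C := ⟨hC1, by simpa using hC2.isOpen_compl⟩
  have : C = Set.univ := hclopen.eq_univ ⟨p, Relation.EqvGen.refl p⟩
  have hq : q ∈ C := this ▸ Set.mem_univ q
  exact hq

end Groth.Agent.Lib.Helper4.SpecChain
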