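import Mathlib.Tactic
import Groth.Prelude.Def_Hyper

namespace Groth.Agent.Lib.Helper4.SplitCov

open CategoryTheory CategoryTheory.Limits Opposite Simplicial

universe u

section General

variable {D : Type u} [SmallCategory D] (JD : GrothendieckTopology D)

/-- split epimorphisms of formal coproducts are coverings -/
theorem isSRCovering_of_split {A B : FormalCoproduct.{u} D} (f : A ⟶ B) (s : B ⟶ A)
    (h : s ≫ f = 𝟙 B) : Hyper.IsSRCovering JD f := by
  intro j
  obtain ⟨h1, h2⟩ := (FormalCoproduct.hom_ext_iff' _ _).1 h j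
  have h1' : f.f (s.f j) = j := h1
  have hmem : (Sieve.ofArrows (fun i : {i : A.I // f.f i = j} => A.obj i.1)
      (fun i => f.φ i.1 ≫ eqToHom (congrArg B.obj i.2))) (𝟙 (B.obj j)) := by
    rw [Sieve.mem_ofArrows_iff]
    refine ⟨⟨s.f j, h1'⟩, s.φ j, ?_⟩
    have h2' : (s.φ j ≫ f.φ (s.f j)) ≫ eqToHom (congrArg B.obj h1') = 𝟙 (B.obj j) := h2
    rw [← h2', Category.assoc]
  rw [(Sieve.id_mem_iff_eq_top).1 hmem]
  exact JD.top_mem _

end General

section Main

variable {C : Type u} [SmallCategory C] (J : GrothendieckTopology C) (X : C)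
  (K : SimplicialObject (FormalCoproduct.{u} (Over X)))

lemma face_split (n : ℕ) (i : Fin (n + 2)) : ∃ s : K.obj (op ⦋n⦌) ⟶ K.obj (op ⦋n + 1⦌),
    s ≫ K.δ i = 𝟙 _ := by
  induction i using Fin.cases with
  | zero => exact ⟨K.σ 0, SimplicialObject.δ_comp_σ_self K (i := (0 : Fin (n + 1)))⟩
  | succ j => exact ⟨K.σ j, SimplicialObject.δ_comp_σ_succ K⟩

lemma covers_of_le (n : ℕ)
    (h0 : Sieve.ofArrows (fun i => ((K.obj (op (SimplexCategory.mk 0))).obj i).left)
      (fun i => ((K.obj (op (SimplexCategory.mk 0))).obj i).hom) ∈ J X) :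
    Sieve.ofArrows (fun i => ((K.obj (op (SimplexCategory.mk n))).obj i).left)
      (fun i => ((K.obj (op (SimplexCategory.mk n))).obj i).hom) ∈ J X := by
  let s : K.obj (op ⦋0⦌) ⟶ K.obj (op ⦋n⦌) := K.map (SimplexCategory.const ⦋n⦌ ⦋0⦌ 0).op
  refine J.superset_covering ?_ h0
  intro V g hg
  rw [Sieve.mem_ofArrows_iff] at hg ⊢
  obtain ⟨j, a, rfl⟩ := hg
  refine ⟨s.f j, a ≫ (s.φ j).left, ?_⟩
  rw [Category.assoc, Over.w]

theorem main0894
    [∀ (n : ℕ) (F : (SimplexCategory.Truncated n)ᵒᵖ ⥤ Limits.FormalCoproduct.{u} (Over X)),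
      (SimplexCategory.Truncated.inclusion n).op.HasRightKanExtension F]
    (hK : Hyper.IsHypercovering J X K) :
    (∀ n : ℕ, Sieve.ofArrows (fun i => ((K.obj (op (SimplexCategory.mk n))).obj i).left)
      (fun i => ((K.obj (op (SimplexCategory.mk n))).obj i).hom) ∈ J X) ∧
    ∀ (n : ℕ) (i : Fin (n + 2)), Hyper.IsSRCovering (J.over X) (K.δ i) := by
  refine ⟨fun n => covers_of_le J X K n hK.1, fun n i => ?_⟩
  obtain ⟨s, hs⟩ := face_split X K n i
  exact isSRCovering_of_split (J.over X) (K.δ i) s hs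

end Main

end Groth.Agent.Lib.Helper4.SplitCov
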