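import Mathlib.Tactic
import Mathlib.AlgebraicGeometry.AlgClosed.Basic
import Mathlib.AlgebraicGeometry.Stalk
import Groth.Agent.Lib.Helper4.RatDense

open CategoryTheory MonoidalCategory CartesianMonoidalCategory MonObj GrpObj AlgebraicGeometry Limits

universe u

namespace Groth.Agent.Lib.Helper4.StalkTrans

open Groth.Agent.Lib.Helper4.RatDense

theorem main5387 (k : Type u) [Field k] [IsAlgClosed k] (G : Over (Spec (CommRingCat.of k))) [GrpObj G]
    [LocallyOfFiniteType G.hom] (pt : ↥(𝟙_ (Over (Spec (CommRingCat.of k)))).left) (x : G.left) (hx : IsClosed ({x} : Set G.left)) :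
    Nonempty (G.left.presheaf.stalk (η[G].left.base pt) ≅ G.left.presheaf.stalk x) := by
  let u : 𝟙_ (Over (Spec (CommRingCat.of k))) ⟶ G :=
    Over.homMk (pointOfClosedPoint G.hom x hx) (pointOfClosedPoint_comp G.hom x hx)
  have hu : u.left.base pt = x := pointOfClosedPoint_apply G.hom x hx _
  have h1 : η[G] ≫ trans G u = u := by
    rw [pt_comp_trans, one_eq_one, _root_.mul_one]
  let φ : G.left ⟶ G.left := (trans G u).left
  have hφiso : IsIso φ := (inferInstance : IsIso ((Over.forget _).map (transIso G u).hom))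
  have h2 : φ.base (η[G].left.base pt) = x := by
    have : (η[G] ≫ trans G u).left.base pt = x := by rw [h1]; exact hu
    exact this
  have hstalk : IsIso (φ.stalkMap (η[G].left.base pt)) := inferInstance
  exact ⟨(asIso (φ.stalkMap (η[G].left.base pt))).symm ≪≫
    G.left.presheaf.stalkCongr (.of_eq h2)⟩

end Groth.Agent.Lib.Helper4.StalkTrans
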