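import Mathlib.Tactic
import Mathlib.AlgebraicTopology.SimplicialSet.StdSimplex
import Groth.Agent.Lib.Helper4.CoskOver

namespace Groth.Agent.Lib.Helper4.StdCosk

open CategoryTheory CategoryTheory.Limits Opposite Simplicial Groth.Agent.Lib.Helper4.CoskOver

universe u

variable (n : ℕ)

/-- the standard simplex -/
abbrev X : SSet.{u} := SSet.stdSimplex.{u}.obj ⦋n⦌

/-- the right extension -/
abbrev E : Functor.RightExtension (SimplexCategory.Truncated.inclusion 1).op
    ((SimplexCategory.Truncated.inclusion 1).op ⋙ X.{u} n) :=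
  Functor.RightExtension.mk (X.{u} n) (𝟙 _)

/-- values of a simplex -/
def ev {m : SimplexCategoryᵒᵖ} (x : (X.{u} n).obj m) (i : Fin (m.unop.len + 1)) : Fin (n + 1) :=
  (SSet.stdSimplex.objEquiv x).toOrderHom i

lemma ev_map {m m' : SimplexCategoryᵒᵖ} (g : m ⟶ m') (x : (X.{u} n).obj m)
    (i : Fin (m'.unop.len + 1)) :
    ev n ((X.{u} n).map g x) i = ev n x (g.unop.toOrderHom i) := rfl

lemma ev_mono {m : SimplexCategoryᵒᵖ} (x : (X.{u} n).obj m) {i j : Fin (m.unop.len + 1)}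
    (h : i ≤ j) : ev n x i ≤ ev n x j :=
  (SSet.stdSimplex.objEquiv x).toOrderHom.monotone h

lemma ext_ev {m : SimplexCategoryᵒᵖ} (x y : (X.{u} n).obj m) (h : ∀ i, ev n x i = ev n y i) :
    x = y := by
  apply SSet.stdSimplex.objEquiv.injective
  ext i : 3
  exact h i

/-- vertex objects -/
def vtx (m : SimplexCategoryᵒᵖ) (i : Fin (m.unop.len + 1)) : Idx 1 m :=
  smp 1 m 0 zero_le_one (SimplexCategory.const ⦋0⦌ m.unop i)

/-- edge objects -/
def edg (m : SimplexCategoryᵒᵖ) (i j : Fin (m.unop.len + 1)) (h : i ≤ j) : Idx 1 m :=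
  smp 1 m 1 le_rfl (SimplexCategory.mkOfLe i j h)

/-- source -/
def edgSrc (m : SimplexCategoryᵒᵖ) (i j : Fin (m.unop.len + 1)) (h : i ≤ j) :
    edg m i j h ⟶ vtx m i :=
  smpHom 1 m 1 0 le_rfl zero_le_one _ _ (SimplexCategory.const ⦋0⦌ ⦋1⦌ 0) (by
    ext x; fin_cases x; rfl)

/-- target -/
def edgTgt (m : SimplexCategoryᵒᵖ) (i j : Fin (m.unop.len + 1)) (h : i ≤ j) :
    edg m i j h ⟶ vtx m j :=
  smpHom 1 m 1 0 le_rfl zero_le_one _ _ (SimplexCategory.const ⦋0⦌ ⦋1⦌ 1) (by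
    ext x; fin_cases x; rfl)

/-- the morphism from `A` to one of its vertices -/
def toVtx (m : SimplexCategoryᵒᵖ) (A : Idx 1 m) (j : Fin (A.right.unop.obj.len + 1)) :
    A ⟶ vtx m (A.hom.unop.toOrderHom j) :=
  smpHom 1 m A.right.unop.obj.len 0 A.right.unop.property zero_le_one A.hom.unop
    (SimplexCategory.const ⦋0⦌ m.unop (A.hom.unop.toOrderHom j))
    (SimplexCategory.const ⦋0⦌ _ j) (by ext x; fin_cases x; rfl)

variable {n}

/-- the diagram -/
abbrev D (m : SimplexCategoryᵒᵖ) : Idx 1 m ⥤ Type u :=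
  StructuredArrow.proj m (SimplexCategory.Truncated.inclusion 1).op ⋙
      (SimplexCategory.Truncated.inclusion 1).op ⋙ X.{u} n

lemma cone_w {m : SimplexCategoryᵒᵖ} (c : Cone (D.{u} (n := n) m)) {A B : Idx 1 m} (φ : A ⟶ B)
    (t : c.pt) : (D.{u} (n := n) m).map φ (c.π.app A t) = c.π.app B t :=
  ConcreteCategory.congr_hom (c.w φ) t

lemma cone_vtx_src {m : SimplexCategoryᵒᵖ} (c : Cone (D.{u} (n := n) m))
    (i j : Fin (m.unop.len + 1)) (h : i ≤ j) (t : c.pt) :
    ev n (c.π.app (vtx m i) t) 0 = ev n (c.π.app (edg m i j h) t) 0 := by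
  rw [← cone_w c (edgSrc m i j h) t]
  rfl

lemma cone_vtx_tgt {m : SimplexCategoryᵒᵖ} (c : Cone (D.{u} (n := n) m))
    (i j : Fin (m.unop.len + 1)) (h : i ≤ j) (t : c.pt) :
    ev n (c.π.app (vtx m j) t) 0 = ev n (c.π.app (edg m i j h) t) 1 := by
  rw [← cone_w c (edgTgt m i j h) t]
  rfl

lemma cone_toVtx {m : SimplexCategoryᵒᵖ} (c : Cone (D.{u} (n := n) m))
    (A : Idx 1 m) (j : Fin (A.right.unop.obj.len + 1)) (t : c.pt) :
    ev n (c.π.app (vtx m (A.hom.unop.toOrderHom j)) t) 0 = ev n (c.π.app A t) j := by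
  rw [← cone_w c (toVtx m A j) t]
  rfl

/-- the lifted simplex -/
def liftFun {m : SimplexCategoryᵒᵖ} (c : Cone (D.{u} (n := n) m)) (t : c.pt) : (X.{u} n).obj m :=
  SSet.stdSimplex.objEquiv.symm (SimplexCategory.Hom.mk
    ⟨fun i => ev n (c.π.app (vtx m i) t) 0, by
      intro i j h
      show ev n (c.π.app (vtx m i) t) 0 ≤ ev n (c.π.app (vtx m j) t) 0
      rw [cone_vtx_src c i j h t, cone_vtx_tgt c i j h t]
      exact ev_mono n _ (Fin.zero_le _)⟩)

lemma ev_liftFun {m : SimplexCategoryᵒᵖ} (c : Cone (D.{u} (n := n) m)) (t : c.pt)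
    (i : Fin (m.unop.len + 1)) :
    ev n (liftFun c t) i = ev n (c.π.app (vtx m i) t) 0 := rfl

lemma coneAt_π (m : SimplexCategoryᵒᵖ) (A : Idx 1 m) :
    ((E.{u} n).coneAt m).π.app A = (X.{u} n).map A.hom :=
  Category.comp_id _

/-- the limit property -/
def isLimit (m : SimplexCategoryᵒᵖ) : IsLimit ((E.{u} n).coneAt m) where
  lift c := ↾(liftFun c)
  fac c A := by
    ext t
    apply ext_ev
    intro j
    refine Eq.trans ?_ (cone_toVtx c A j t)
    have h : (((E.{u} n).coneAt m).π.app A) (liftFun c t) = (X.{u} n).map A.hom (liftFun c t) :=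
      ConcreteCategory.congr_hom (coneAt_π m A) _
    exact (congrArg (fun z => ev n z j) h).trans rfl
  uniq c l hl := by
    ext t
    apply ext_ev
    intro i
    have h1 : c.π.app (vtx m i) t = (X.{u} n).map (vtx m i).hom (l t) := by
      rw [← hl (vtx m i)]
      exact ConcreteCategory.congr_hom (coneAt_π m (vtx m i)) (l t)
    show ev n (l t) i = ev n (c.π.app (vtx m i) t) 0
    rw [h1]
    rfl

end Groth.Agent.Lib.Helper4.StdCosk

namespace Groth.Agent.Lib.Helper4.StdCosk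

open CategoryTheory CategoryTheory.Limits Opposite Simplicial

universe u

theorem main6784 (n : ℕ) :
    SimplicialObject.IsCoskeletal (SSet.stdSimplex.{u}.obj (SimplexCategory.mk n)) 1 :=
  ⟨Functor.RightExtension.IsPointwiseRightKanExtension.isRightKanExtension (E := E.{u} n)
    (isLimit.{u} (n := n))⟩

end Groth.Agent.Lib.Helper4.StdCosk
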