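import Mathlib.Algebra.BigOperators.Fin
import Mathlib.Algebra.CharP.Defs
import Mathlib.LinearAlgebra.Pi
import Mathlib.Data.Fintype.BigOperators
import Mathlib.Tactic

namespace Groth.Agent.Lib.Helper4.StdRepBlocks

variable (k : Type*) [Field k] (r s : ℕ)

/-- mean over left block -/
noncomputable def meanL : (Fin r ⊕ Fin s → k) →ₗ[k] k where
  toFun f := (r : k)⁻¹ * ∑ i, f (Sum.inl i)
  map_add' f g := by simp [Finset.sum_add_distrib, mul_add]
  map_smul' c f := by simp [Finset.mul_sum, mul_left_comm]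

/-- mean over right block -/
noncomputable def meanR : (Fin r ⊕ Fin s → k) →ₗ[k] k where
  toFun f := (s : k)⁻¹ * ∑ i, f (Sum.inr i)
  map_add' f g := by simp [Finset.sum_add_distrib, mul_add]
  map_smul' c f := by simp [Finset.mul_sum, mul_left_comm]

/-- the map E -/
noncomputable def Emap : (Fin r ⊕ Fin s → k) →ₗ[k] (Fin r → k) × (Fin s → k) × k where
  toFun f := (fun i => f (Sum.inl i) - meanL k r s f, fun j => f (Sum.inr j) - meanR k r s f,
    meanL k r s f - meanR k r s f)
  map_add' f g := by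
    ext <;> simp <;> ring
  map_smul' c f := by
    ext <;> simp <;> ring

theorem meanL_apply (f : Fin r ⊕ Fin s → k) : meanL k r s f = (r : k)⁻¹ * ∑ i, f (Sum.inl i) := rfl
theorem meanR_apply (f : Fin r ⊕ Fin s → k) : meanR k r s f = (s : k)⁻¹ * ∑ i, f (Sum.inr i) := rfl

theorem main [CharZero k] (hr : 1 ≤ r) (hs : 1 ≤ s) :
    ∃ E : (Fin r ⊕ Fin s → k) →ₗ[k] (Fin r → k) × (Fin s → k) × k,
      (∀ (σ : Equiv.Perm (Fin r)) (τ : Equiv.Perm (Fin s)) (f : Fin r ⊕ Fin s → k),
        E (f ∘ ⇑(Equiv.sumCongr σ τ).symm) = ((E f).1 ∘ ⇑σ.symm, (E f).2.1 ∘ ⇑τ.symm, (E f).2.2)) ∧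
      Set.BijOn E {f | ∑ i, f i = 0}
        ({g : Fin r → k | ∑ i, g i = 0} ×ˢ ({h : Fin s → k | ∑ i, h i = 0} ×ˢ Set.univ)) := by
  have hr0 : (r : k) ≠ 0 := by exact_mod_cast (by omega : r ≠ 0)
  have hs0 : (s : k) ≠ 0 := by exact_mod_cast (by omega : s ≠ 0)
  have hrs0 : (r : k) + s ≠ 0 := by exact_mod_cast (by omega : r + s ≠ 0)
  refine ⟨Emap k r s, ?_, ?_, ?_, ?_⟩
  · intro σ τ f
    have h1 : ∀ (σ' : Equiv.Perm (Fin r)) (τ' : Equiv.Perm (Fin s)),
        meanL k r s (f ∘ ⇑(Equiv.sumCongr σ' τ')) = meanL k r s f := by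
      intro σ' τ'
      simp only [meanL_apply]
      congr 1
      exact Equiv.sum_comp σ' (fun i => f (Sum.inl i))
    have h2 : ∀ (σ' : Equiv.Perm (Fin r)) (τ' : Equiv.Perm (Fin s)),
        meanR k r s (f ∘ ⇑(Equiv.sumCongr σ' τ')) = meanR k r s f := by
      intro σ' τ'
      simp only [meanR_apply]
      congr 1
      exact Equiv.sum_comp τ' (fun i => f (Sum.inr i))
    ext <;> simp [Emap, h1, h2]
  · -- MapsTo
    intro f _
    refine ⟨?_, ?_, trivial⟩
    · show ∑ i, (f (Sum.inl i) - meanL k r s f) = 0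
      rw [Finset.sum_sub_distrib, Finset.sum_const, Finset.card_univ, Fintype.card_fin,
        nsmul_eq_mul, meanL_apply, mul_inv_cancel_left₀ hr0, sub_self]
    · show ∑ i, (f (Sum.inr i) - meanR k r s f) = 0
      rw [Finset.sum_sub_distrib, Finset.sum_const, Finset.card_univ, Fintype.card_fin,
        nsmul_eq_mul, meanR_apply, mul_inv_cancel_left₀ hs0, sub_self]
  · -- InjOn
    intro f hf g hg hfg
    have hd : Emap k r s (f - g) = 0 := by rw [map_sub, hfg, sub_self]
    have hsum : ∑ i, (f - g) i = 0 := by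
      simp only [Pi.sub_apply, Finset.sum_sub_distrib]
      rw [show ∑ i, f i = 0 from hf, show ∑ i, g i = 0 from hg, sub_self]
    set d := f - g with hdd
    have h1 : ∀ i, d (Sum.inl i) = meanL k r s d := by
      intro i
      have := congrFun (congrArg Prod.fst hd) i
      exact sub_eq_zero.1 this
    have h2 : ∀ j, d (Sum.inr j) = meanR k r s d := by
      intro j
      have := congrFun (congrArg (fun x => x.2.1) hd) j
      exact sub_eq_zero.1 this
    have h3 : meanL k r s d = meanR k r s d := by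
      have := congrArg (fun x => x.2.2) hd
      exact sub_eq_zero.1 this
    rw [Fintype.sum_sum_type] at hsum
    simp only [h1, h2, Finset.sum_const, Finset.card_univ, Fintype.card_fin, nsmul_eq_mul] at hsum
    rw [← h3, ← add_mul] at hsum
    have h4 : meanL k r s d = 0 := by
      rcases mul_eq_zero.1 hsum with h | h
      · exact absurd h hrs0
      · exact h
    have : d = 0 := by
      funext x
      rcases x with i | j
      · rw [h1, h4]; rfl
      · rw [h2, ← h3, h4]; rfl
    exact sub_eq_zero.1 this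
  · -- SurjOn
    rintro ⟨g, h, c⟩ ⟨hg, hh, -⟩
    have hg' : ∑ i, g i = 0 := hg
    have hh' : ∑ i, h i = 0 := hh
    obtain ⟨a, ha⟩ : ∃ a : k, a = (s : k) * c / (r + s) := ⟨_, rfl⟩
    obtain ⟨b, hb⟩ : ∃ b : k, b = -(r : k) * c / (r + s) := ⟨_, rfl⟩
    refine ⟨Sum.elim (fun i => g i + a) (fun j => h j + b), ?_, ?_⟩
    · show ∑ x, Sum.elim (fun i => g i + a) (fun j => h j + b) x = 0
      rw [Fintype.sum_sum_type]
      simp only [Sum.elim_inl, Sum.elim_inr, Finset.sum_add_distrib, hg', hh', Finset.sum_const,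
        Finset.card_univ, Fintype.card_fin, nsmul_eq_mul, zero_add]
      rw [ha, hb]
      field_simp
      ring
    · have hmL : meanL k r s (Sum.elim (fun i => g i + a) (fun j => h j + b)) = a := by
        rw [meanL_apply]
        simp only [Sum.elim_inl, Finset.sum_add_distrib, hg', Finset.sum_const,
          Finset.card_univ, Fintype.card_fin, nsmul_eq_mul, zero_add]
        field_simp
      have hmR : meanR k r s (Sum.elim (fun i => g i + a) (fun j => h j + b)) = b := by
        rw [meanR_apply]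
        simp only [Sum.elim_inr, Finset.sum_add_distrib, hh', Finset.sum_const,
          Finset.card_univ, Fintype.card_fin, nsmul_eq_mul, zero_add]
        field_simp
      show Emap k r s _ = (g, h, c)
      ext
      · simp [Emap, hmL]
      · simp [Emap, hmR]
      · show meanL k r s _ - meanR k r s _ = c
        rw [hmL, hmR, ha, hb]
        field_simp
        ring

end Groth.Agent.Lib.Helper4.StdRepBlocks
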