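import Mathlib.AlgebraicGeometry.Morphisms.Separated
import Mathlib.AlgebraicGeometry.Morphisms.Immersion
import Mathlib.Tactic

set_option autoImplicit false
universe u
open CategoryTheory AlgebraicGeometry TopologicalSpace Limits

namespace Groth.Agent.Lib.Helper4.T2Separated

open Scheme Pullback

variable {X Y : Scheme.{u}} (f : X ⟶ Y) (𝒰 : Y.OpenCover) (𝒱 : ∀ i, (pullback f (𝒰.f i)).OpenCover)

set_option backward.defeqAttrib.useBackward true in
set_option backward.isDefEq.respectTransparency false in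
lemma mem_diagonalCoverDiagonalRange_of_fst_eq_snd (x : ↑(pullback f f))
    (H : pullback.fst f f x = pullback.snd f f x) :
    x ∈ diagonalCoverDiagonalRange f 𝒰 𝒱 := by
  simp only [diagonalCoverDiagonalRange, openCoverOfBase_I₀, openCoverOfBase_X,
    openCoverOfLeftRight_I₀, Opens.iSup_mk, Opens.carrier_eq_coe, Hom.coe_opensRange, Opens.mem_mk,
    Set.mem_iUnion, Set.mem_range, Sigma.exists]
  let i := 𝒰.idx (f (pullback.fst f f x))
  obtain ⟨y : 𝒰.X i, hy : 𝒰.f i y = f _⟩ :=
    𝒰.covers (f (pullback.fst f f x))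
  obtain ⟨z, hz₁, hz₂⟩ := exists_preimage_pullback _ _ hy.symm
  let j := (𝒱 i).idx z
  obtain ⟨w : (𝒱 i).X j, hy : (𝒱 i).f j w = z⟩ := (𝒱 i).covers z
  refine ⟨i, j, ?_⟩
  simp_rw [diagonalCover_map]
  change x ∈ Set.range _
  simp only [diagonalCover, openCoverOfBase_I₀,
    Precoverage.ZeroHypercover.pullback₁_toPreZeroHypercover, PreZeroHypercover.pullback₁_X,
    Precoverage.ZeroHypercover.bind_toPreZeroHypercover, openCoverOfBase_X,
    PreZeroHypercover.bind_X, openCoverOfLeftRight_I₀, openCoverOfLeftRight_X]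
  rw [range_map]
  simp [← H, ← hz₁, ← hy]

theorem isSeparated_of_t2 [T2Space X] : IsSeparated f := by
  constructor
  let 𝒰 := Y.affineCover
  let 𝒱 (i) := (pullback f (𝒰.f i)).affineCover
  let W := diagonalCoverDiagonalRange f 𝒰 𝒱
  have hcl := isClosedImmersion_diagonal_restrict_diagonalCoverDiagonalRange f 𝒰 𝒱
  have hsub : Set.range (pullback.diagonal f) ⊆ W :=
    range_diagonal_subset_diagonalCoverDiagonalRange f 𝒰 𝒱
  apply IsClosedImmersion.of_isPreimmersion
  -- range of restricted map is closed in W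
  have h1 : IsClosed (Set.range (pullback.diagonal f ∣_ W)) :=
    (pullback.diagonal f ∣_ W).isClosedEmbedding.isClosed_range
  have hι : Topology.IsInducing W.ι := W.ι.isOpenEmbedding.isInducing
  have himg : W.ι '' (Set.range (pullback.diagonal f ∣_ W)) = Set.range (pullback.diagonal f) := by
    have e : (pullback.diagonal f ∣_ W) ≫ W.ι = (pullback.diagonal f ⁻¹ᵁ W).ι ≫ pullback.diagonal f :=
      morphismRestrict_ι _ _
    have e2 : (W.ι : _ → _) ∘ (pullback.diagonal f ∣_ W : _ → _) =
        (pullback.diagonal f : _ → _) ∘ ((pullback.diagonal f ⁻¹ᵁ W).ι : _ → _) := by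
      funext v
      show W.ι ((pullback.diagonal f ∣_ W) v) =
        (pullback.diagonal f) ((pullback.diagonal f ⁻¹ᵁ W).ι v)
      rw [← Scheme.Hom.comp_apply, ← Scheme.Hom.comp_apply, e]
    rw [← Set.range_comp, e2, Set.range_comp, Scheme.Opens.range_ι]
    show pullback.diagonal f '' (pullback.diagonal f ⁻¹' (W : Set _)) = _
    rw [Set.image_preimage_eq_inter_range, Set.inter_eq_right.mpr hsub]
  rw [← closure_subset_iff_isClosed]
  intro z hz
  have hz12 : pullback.fst f f z = pullback.snd f f z := by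
    by_contra hne
    obtain ⟨U1, U2, hU1, hU2, h1, h2, hdisj⟩ := t2_separation hne
    have hN : IsOpen ((pullback.fst f f) ⁻¹' U1 ∩ (pullback.snd f f) ⁻¹' U2) :=
      (hU1.preimage (pullback.fst f f).continuous).inter (hU2.preimage (pullback.snd f f).continuous)
    obtain ⟨_, ⟨hm1, hm2⟩, ⟨x, rfl⟩⟩ := mem_closure_iff.mp hz _ hN ⟨h1, h2⟩
    have e1 : pullback.fst f f (pullback.diagonal f x) = x := by
      rw [← Scheme.Hom.comp_apply]; simp
    have e2 : pullback.snd f f (pullback.diagonal f x) = x := by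
      rw [← Scheme.Hom.comp_apply]; simp
    simp only [Set.mem_preimage, e1, e2] at hm1 hm2
    exact Set.disjoint_left.mp hdisj hm1 hm2
  have hzW : z ∈ W := mem_diagonalCoverDiagonalRange_of_fst_eq_snd f 𝒰 𝒱 z hz12
  obtain ⟨w, rfl⟩ : z ∈ Set.range W.ι := by rw [Scheme.Opens.range_ι]; exact hzW
  have hw : w ∈ closure (Set.range (pullback.diagonal f ∣_ W)) := by
    rw [hι.closure_eq_preimage_closure_image, himg]
    exact hz
  rw [h1.closure_eq] at hw
  rw [← himg]
  exact ⟨w, hw, rfl⟩

theorem main (X : Scheme.{u}) [T2Space X] : X.IsSeparated :=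
  ⟨isSeparated_of_t2 _⟩

end Groth.Agent.Lib.Helper4.T2Separated
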