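import Groth.Agent.Lib.Helper4.CurveVB7
import Groth.Agent.Lib.Helper8.CurveVan
import Groth.Agent.Lib.Helper29.QCohStalk
import Groth.Agent.Lib.Helper28.QCohConv
set_option autoImplicit false
set_option linter.style.haveILetI false

universe u
open CategoryTheory CategoryTheory.Limits AlgebraicGeometry Opposite TopologicalSpace

namespace Groth.Agent.Lib.Helper4.TFCurve
open Groth.Agent.Lib.Helper28.QCohLoc Groth.Agent.Lib.Helper29.QCohStalk
  Groth.Agent.Lib.Helper17.StalkExact Groth.Agent.Lib.Helper8.CurveVan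

variable {X : Scheme.{u}} [IsIntegral X] [NoetherianSpace X]

/-- the open complement of a closed point -/
def punct (x : X) (hx : IsClosed ({x} : Set X)) : X.Opens := ⟨({x} : Set X)ᶜ, hx.isOpen_compl⟩

/-- **key local statement**: if `P ⟶ j_* j^* P` is a monomorphism for the complement of the closed point `x` of
an integral curve, then the stalk of `P` at `x` has no torsion. -/
theorem eq_zero_of_smul_eq_zero (hdim : topologicalKrullDim X ≤ 1) (P : X.Modules) [P.IsQuasicoherent]
    (x : X) (hx : IsClosed ({x} : Set X)) [Mono (unitMap (punct x hx) P)]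
    (b : X.presheaf.stalk x) (hb : b ≠ 0) (μ : P.presheaf.stalk x) (h : b • μ = 0) : μ = 0 := by
  obtain ⟨_, ⟨V, hV, rfl⟩, hxV, -⟩ := X.isBasis_affineOpens.exists_subset_of_mem_open
    (Set.mem_univ x) isOpen_univ
  have hloc := isLocOn_of_isQuasicoherent P hV
  obtain ⟨s, m, hs, hsm⟩ := exists_germ_smul_eq P hV hloc x hxV μ
  obtain ⟨s', g, hg, hbg⟩ := stalk_affine_surj hV x hxV b
  -- it suffices to show that the germ of `m` vanishes
  suffices hm0 : gm P V x hxV m = 0 by
    rw [hm0] at hsm
    exact eq_zero_of_isUnit_smul hs hsm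
  have h5 : gm P V x hxV (s' • m) = 0 := by
    rw [gm_smul, ← hbg, ← hsm, smul_smul]
    have : b * X.presheaf.germ V x hxV g * X.presheaf.germ V x hxV s =
        (X.presheaf.germ V x hxV g * X.presheaf.germ V x hxV s) * b := by ring
    rw [this, mul_smul, h, smul_zero]
  obtain ⟨t, ht, htm⟩ := exists_smul_eq_zero_of_gm_eq_zero P hV hloc x hxV (s' • m) h5
  set a : Γ(X, V) := t * s' with ha
  have ham : a • m = 0 := by rw [ha, mul_smul]; exact htm
  have hgerm : X.presheaf.germ V x hxV a ≠ 0 := by
    rw [ha, map_mul, ← hbg]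
    exact mul_ne_zero ht.ne_zero (mul_ne_zero hb hg.ne_zero)
  have ha0 : a ≠ 0 := fun h0 => hgerm (by rw [h0, map_zero])
  -- the basic open of `a`
  set D : X.Opens := X.basicOpen a with hD
  have hDV : D ≤ V := X.basicOpen_le a
  have hDne : D ≠ ⊥ := fun h0 => ha0 ((basicOpen_eq_bot_iff a).1 h0)
  have hresD : res P hDV m = 0 := by
    have hu : IsUnit (resO hDV a) := X.toRingedSpace.isUnit_res_basicOpen a
    apply eq_zero_of_isUnit_smul hu
    rw [← res_smul, ham, res_zero]
  -- the complement of `D` is finite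
  have hZne : ((D : Set X))ᶜ ≠ Set.univ := by
    intro h0
    apply hDne
    ext y
    simp only [Opens.coe_bot, Set.mem_empty_iff_false, iff_false]
    intro hy
    have : y ∈ ((D : Set X))ᶜ := by rw [h0]; trivial
    exact this hy
  obtain ⟨hfin, hpt⟩ := Groth.Agent.Lib.Helper4.DimOneConstructible.closed_proper_finite hdim
    ((D : Set X))ᶜ D.isOpen.isClosed_compl hZne
  have hZ'cl : IsClosed (((D : Set X))ᶜ \ {x}) := by
    have hf : (((D : Set X))ᶜ \ {x}).Finite := hfin.subset Set.sdiff_subset
    have : ((D : Set X))ᶜ \ {x} = ⋃ y ∈ ((D : Set X))ᶜ \ {x}, ({y} : Set X) :=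
      (Set.biUnion_of_singleton _).symm
    rw [this]
    exact hf.isClosed_biUnion fun y hy => hpt y hy.1
  set W : X.Opens := V ⊓ ⟨(((D : Set X))ᶜ \ {x})ᶜ, hZ'cl.isOpen_compl⟩ with hW
  have hxW : x ∈ W := ⟨hxV, fun hx' => hx'.2 rfl⟩
  have hWV : W ≤ V := inf_le_left
  set U := punct x hx with hU
  have hTD : U.ι ''ᵁ (U.ι ⁻¹ᵁ W) ≤ D := by
    intro y hy
    have hyW : y ∈ W := U.ι.image_preimage_le W hy
    have hyU : y ∈ U := by
      have := Scheme.Hom.image_le_opensRange U.ι (U.ι ⁻¹ᵁ W) hy
      rw [Scheme.Opens.opensRange_ι] at this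
      exact this
    by_contra hyD
    exact hyW.2 ⟨hyD, hyU⟩
  -- the image of the germ in `j_* j^* P` vanishes
  have h1 : gm P V x hxV m = gm P W x hxW (res P hWV m) := (gm_res P hWV x hxW m).symm
  rw [h1]
  apply stalkHom_injective_of_mono (unitMap U P) x
  rw [map_zero, stalkHom_germ]
  have h2 : (unitMap U P).app W (res P hWV m) = 0 := by
    change res P (U.ι.image_preimage_le W) (res P hWV m) = 0
    rw [res_res]
    have : res P ((U.ι.image_preimage_le W).trans hWV) m = res P hTD (res P hDV m) := (res_res P hDV hTD m).symm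
    rw [this, hresD, res_zero]
  rw [h2]
  exact gm_zero _ W x hxW



omit [NoetherianSpace X] in
theorem isQuasicoherent_jj [IsLocallyNoetherian X] (U : X.Opens) (P : X.Modules) [P.IsQuasicoherent] :
    (jj U P).IsQuasicoherent := by
  haveI : ((Scheme.Modules.restrictFunctor U.ι).obj P).IsQuasicoherent :=
    inferInstanceAs ((P.restrict U.ι).IsQuasicoherent)
  exact isQuasicoherent_pushforward U.ι _

omit [NoetherianSpace X] in
theorem isCoh_kernel_unitMap [IsLocallyNoetherian X] (U : X.Opens) (P : X.Modules) (hP : Coh.IsCoh P) :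
    Coh.IsCoh (kernel (unitMap U P)) := by
  haveI : P.IsQuasicoherent := hP.1
  haveI : SheafOfModules.IsFiniteType.{u} (R := X.ringCatSheaf) P := hP.2
  haveI := isQuasicoherent_jj U P
  exact ⟨Groth.Agent.Lib.Helper17.CohKer.isQuasicoherent_kernel _,
    Groth.Agent.Lib.Helper17.CohKer.isFiniteType_kernel _⟩

omit [NoetherianSpace X] in
theorem genericPoint_ne_of_isClosed (hdim : topologicalKrullDim X = 1) (x : X) (hx : IsClosed ({x} : Set X)) :
    genericPoint X ≠ x := by
  rintro rfl
  have h1 : closure ({genericPoint X} : Set X) = Set.univ := (genericPoint_spec X).def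
  rw [hx.closure_eq] at h1
  haveI : Subsingleton X := by
    refine ⟨fun a b => ?_⟩
    have ha : a ∈ ({genericPoint X} : Set X) := by rw [h1]; trivial
    have hb : b ∈ ({genericPoint X} : Set X) := by rw [h1]; trivial
    rw [Set.mem_singleton_iff] at ha hb
    rw [ha, hb]
  haveI : Subsingleton (IrreducibleCloseds X) := by
    refine ⟨fun a b => ?_⟩
    apply IrreducibleCloseds.ext
    have ha := a.isIrreducible'.nonempty
    have hb := b.isIrreducible'.nonempty
    ext y
    obtain ⟨a', ha'⟩ := ha
    obtain ⟨b', hb'⟩ := hb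
    constructor
    · intro _; rw [Subsingleton.elim y b']; exact hb'
    · intro _; rw [Subsingleton.elim y a']; exact ha'
  have : topologicalKrullDim X ≤ 0 := by
    unfold topologicalKrullDim
    exact Order.krullDim_nonpos_of_subsingleton
  rw [hdim] at this
  exact absurd this (by decide)



open Groth.Agent.Lib.Helper8.CurveTensor Groth.Agent.Lib.Helper4.GPRank in
/-- **torsion-free coherent modules on a smooth curve are locally free**: a coherent module none of whose nonzero
coherent submodules is torsion is locally free of its generic rank. -/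
theorem isFinLocFreeOfRank_of_pure {k : Type u} [Field k] (f : X ⟶ Spec (CommRingCat.of k)) [Smooth f]
    [IsLocallyNoetherian X] (hdim : topologicalKrullDim X = 1) (P : X.Modules) (hP : Coh.IsCoh P)
    (hpure : ∀ (S : X.Modules) (j : S ⟶ P), Mono j → Coh.IsCoh S → genericPoint X ∉ CohB1.support S → IsZero S) :
    FlatMod.IsFinLocFreeOfRank (grank X P) P := by
  haveI : P.IsQuasicoherent := hP.1
  intro x
  haveI := Groth.Agent.Lib.Helper4.CurveVB.isPrincipalIdealRing_stalk f hdim x
  haveI : Module.Finite (X.presheaf.stalk x) (P.presheaf.stalk x) :=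
    Groth.Agent.Lib.Helper7.StalkFree.finite_stalk_of_isCoh X P hP x
  have htf : ∀ (b : X.presheaf.stalk x), b ≠ 0 → ∀ μ : P.presheaf.stalk x, b • μ = 0 → μ = 0 := by
    by_cases hx : IsClosed ({x} : Set X)
    · have hK := isCoh_kernel_unitMap (punct x hx) P hP
      have hKsupp := support_kernel_unitMap_subset (punct x hx) P
      have hz : IsZero (kernel (unitMap (punct x hx) P)) := by
        apply hpure _ (kernel.ι _) inferInstance hK
        intro hη
        have := hKsupp hη
        apply this
        change genericPoint X ∈ ({x} : Set X)ᶜ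
        exact genericPoint_ne_of_isClosed hdim x hx
      haveI : Mono (unitMap (punct x hx) P) := Preadditive.mono_of_kernel_zero (hz.eq_of_src _ _)
      exact fun b hb μ h => eq_zero_of_smul_eq_zero hdim.le P x hx b hb μ h
    · have hxη : x = genericPoint X := by
        by_contra hne
        exact hx (Groth.Agent.Lib.Helper8.CurveDeg.isClosed_singleton_of_ne_genericPoint hdim.le x hne)
      subst hxη
      intro b hb μ h
      have hu : IsUnit b := by
        exact isUnit_iff_ne_zero.2 hb
      exact eq_zero_of_isUnit_smul hu h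
  haveI : Module.IsTorsionFree (X.presheaf.stalk x) (P.presheaf.stalk x) :=
    ⟨fun r hr m₁ m₂ h => by
      have hr0 : r ≠ 0 := hr.ne_zero
      have : r • (m₁ - m₂) = 0 := by
        rw [smul_sub]
        exact sub_eq_zero.2 h
      exact sub_eq_zero.1 (htf r hr0 _ this)⟩
  haveI : Module.Free (X.presheaf.stalk x) (P.presheaf.stalk x) := Module.free_of_finite_type_torsion_free'
  obtain ⟨U, hxU, ⟨e⟩⟩ := Groth.Agent.Lib.Helper7.StalkFree.exists_iso_freeMod_of_free_stalk X P hP x
  refine ⟨U, hxU, ?_⟩
  have hη : genericPoint X ∈ U := ((genericPoint_spec X).mem_open_set_iff U.2).2 ⟨x, trivial, hxU⟩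
  obtain ⟨-, -, hrank⟩ := Groth.Agent.Lib.Helper7.StalkFree.free_stalk_of_iso P (genericPoint X) U hη _ e
  unfold grank
  rw [hrank]
  exact ⟨e⟩

end Groth.Agent.Lib.Helper4.TFCurve
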