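import Mathlib.RingTheory.Ideal.MinimalPrime.Localization
import Mathlib.RingTheory.LocalProperties.Reduced
import Mathlib.RingTheory.Ideal.MinimalPrime.Noetherian
import Mathlib.RingTheory.Localization.BaseChange
import Mathlib.RingTheory.LocalRing.ResidueField.Ideal
import Mathlib.Algebra.Module.Torsion.Free
import Mathlib.Algebra.Module.Torsion.Basic
import Mathlib.Tactic

namespace Groth.Agent.Lib.Helper4.TorFreeFibre

open TensorProduct

universe u

variable (R : Type u) [CommRing R] [IsReduced R]

/-- localization of reduced ring at a minimal prime has zero maximal ideal -/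
theorem maximalIdeal_eq_bot_of_minimal (p : Ideal R) [p.IsPrime] (hp : p ∈ minimalPrimes R) :
    IsLocalRing.maximalIdeal (Localization.AtPrime p) = ⊥ := by
  have h := IsLocalization.AtPrime.radical_map_of_mem_minimalPrimes (Localization.AtPrime p) p ⊥ hp
  rw [Ideal.map_bot, IsLocalization.AtPrime.map_eq_maximalIdeal p (Localization.AtPrime p)] at h
  rw [← h]
  exact nilradical_eq_zero _

theorem exists_smul_eq_zero (M : Type u) [AddCommGroup M] [Module R M] (p : Ideal R) [p.IsPrime]
    (hp : p ∈ minimalPrimes R) (t : M)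
    (ht : (1 : p.ResidueField) ⊗ₜ[R] t = (0 : p.ResidueField ⊗[R] M)) : ∃ s ∉ p, s • t = 0 := by
  obtain ⟨res, hres⟩ : ∃ res : Localization.AtPrime p →ₗ[R] p.ResidueField,
      res = (IsScalarTower.toAlgHom R (Localization.AtPrime p) p.ResidueField).toLinearMap :=
    ⟨_, rfl⟩
  have hres_apply : ∀ x, res x = IsLocalRing.residue (Localization.AtPrime p) x := by
    intro x; rw [hres]; rfl
  have hbij : Function.Bijective res := by
    constructor
    · intro x y hxy
      rw [hres_apply, hres_apply] at hxy
      have hker : RingHom.ker (IsLocalRing.residue (Localization.AtPrime p)) = ⊥ := by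
        rw [IsLocalRing.ker_residue, maximalIdeal_eq_bot_of_minimal R p hp]
      exact (RingHom.injective_iff_ker_eq_bot _).2 hker hxy
    · intro y
      obtain ⟨x, rfl⟩ := IsLocalRing.residue_surjective y
      exact ⟨x, hres_apply x⟩
  have h1 : (1 : Localization.AtPrime p) ⊗ₜ[R] t = (0 : Localization.AtPrime p ⊗[R] M) := by
    apply (LinearEquiv.rTensor M (LinearEquiv.ofBijective res hbij)).injective
    rw [map_zero, LinearEquiv.rTensor_tmul, LinearEquiv.ofBijective_apply, hres_apply, map_one]
    exact ht
  have hbc := IsLocalizedModule.isBaseChange p.primeCompl (Localization.AtPrime p)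
    (LocalizedModule.mkLinearMap p.primeCompl M)
  have h3 : LocalizedModule.mkLinearMap p.primeCompl M t = 0 := by
    have := congrArg hbc.equiv h1
    rw [IsBaseChange.equiv_tmul, map_zero, one_smul] at this
    exact this
  obtain ⟨s, hs⟩ := (IsLocalizedModule.eq_zero_iff p.primeCompl
    (LocalizedModule.mkLinearMap p.primeCompl M)).1 h3
  exact ⟨s.1, s.2, hs⟩

theorem main [IsNoetherianRing R]
    (M : Type u) [AddCommGroup M] [Module R M] [Module.Finite R M] [Module.IsTorsionFree R M]
    (t : M) (ht : ∀ p : PrimeSpectrum R, (1 : p.asIdeal.ResidueField) ⊗ₜ[R] t = (0 : p.asIdeal.ResidueField ⊗[R] M)) :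
    t = 0 := by
  classical
  -- the annihilator of t is not contained in any minimal prime
  have hfin := minimalPrimes.finite_of_isNoetherianRing R
  have hnot : ¬ ((Ideal.torsionOf R M t : Set R) ⊆ ⋃ p ∈ (hfin.toFinset : Set (Ideal R)), (p : Set R)) := by
    intro hsub
    rw [Ideal.subset_union_prime (R := R) (f := fun p : Ideal R => p) ⊥ ⊥
      (fun p hp _ _ => ((Set.Finite.mem_toFinset hfin).1 hp).1.1)] at hsub
    obtain ⟨p, hp, hle⟩ := hsub
    have hpmin : p ∈ minimalPrimes R := (Set.Finite.mem_toFinset hfin).1 hp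
    have : p.IsPrime := hpmin.1.1
    obtain ⟨s, hsp, hst⟩ := exists_smul_eq_zero R M p hpmin t (ht ⟨p, inferInstance⟩)
    exact hsp (hle ((Ideal.mem_torsionOf_iff t s).2 hst))
  rw [Set.not_subset] at hnot
  obtain ⟨r, hrt, hrp⟩ := hnot
  have hrp' : ∀ p ∈ minimalPrimes R, r ∉ p := by
    intro p hp hr
    apply hrp
    simp only [Set.mem_iUnion]
    exact ⟨p, (Set.Finite.mem_toFinset hfin).2 hp, hr⟩
  -- r is regular
  have hreg : IsRegular r := by
    rw [isRegular_iff_mem_nonZeroDivisors, mem_nonZeroDivisors_iff_right]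
    intro x hx
    have hxnil : x ∈ nilradical R := by
      rw [nilradical, ← Ideal.sInf_minimalPrimes, Ideal.mem_sInf]
      intro p hp
      have hp' : p ∈ minimalPrimes R := hp
      have : p.IsPrime := hp'.1.1
      have : x * r ∈ p := by rw [hx]; exact p.zero_mem
      exact (Ideal.IsPrime.mem_or_mem ‹p.IsPrime› this).resolve_right (hrp' p hp')
    rw [nilradical_eq_zero] at hxnil
    exact hxnil
  have hsm := Module.IsTorsionFree.isSMulRegular (M := M) hreg
  apply hsm
  change r • t = r • (0 : M)
  rw [smul_zero]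
  exact (Ideal.mem_torsionOf_iff t r).1 hrt

end Groth.Agent.Lib.Helper4.TorFreeFibre


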