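import Mathlib.Tactic
import Mathlib.AlgebraicGeometry.Sites.Fpqc
import Groth.Prelude.Def_NonAbH2
import Groth.Agent.Lib.Helper4.CovSieve
import Groth.Agent.Lib.Helper4.QuotTower
import Groth.Agent.Lib.Helper4.TorsorIso
import Groth.Agent.Lib.Helper4.FpqcDesc

set_option autoImplicit false
universe u
open CategoryTheory MonoidalCategory CartesianMonoidalCategory MonObj AlgebraicGeometry Limits

namespace Groth.Agent.Lib.Helper4.TorsorPush

open CovSieve QuotTower TorsorIso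

variable {X : Scheme.{u}} {J J' J'' P P' P'' : Over X} [GrpObj J] [GrpObj J'] [GrpObj J'']
  (u : J ⟶ J') [IsMonHom u] (v : J' ⟶ J'') [IsMonHom v]
  (a : AlgGrp.Action J P) (a' : AlgGrp.Action J' P') (a'' : AlgGrp.Action J'' P'')

/-- pointwise form of `φ`-equivariance -/
theorem equiv_pt {G G' Y Y' : Over X} [GrpObj G] [GrpObj G'] (φ : G ⟶ G')
    (b : AlgGrp.Action G Y) (b' : AlgGrp.Action G' Y') (f : Y ⟶ Y')
    (hf : b.act ≫ f = lift (fst G Y ≫ φ) (snd G Y ≫ f) ≫ b'.act) {T : Over X} (g : T ⟶ G)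
    (y : T ⟶ Y) : smul b g y ≫ f = smul b' (g ≫ φ) (y ≫ f) := by
  unfold smul
  rw [Category.assoc, hf, ← Category.assoc]
  congr 1 <;> (apply CartesianMonoidalCategory.hom_ext <;> simp)

/-- morphism form from the pointwise form -/
theorem equiv_of_pt {G G' Y Y' : Over X} [GrpObj G] [GrpObj G'] (φ : G ⟶ G')
    (b : AlgGrp.Action G Y) (b' : AlgGrp.Action G' Y') (f : Y ⟶ Y')
    (h : smul b (fst G Y) (snd G Y) ≫ f = smul b' (fst G Y ≫ φ) (snd G Y ≫ f)) :
    b.act ≫ f = lift (fst G Y ≫ φ) (snd G Y ≫ f) ≫ b'.act := by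
  unfold smul at h
  have e1 : lift (fst G Y) (snd G Y) = 𝟙 (G ⊗ Y) := by
    apply CartesianMonoidalCategory.hom_ext <;> simp
  rw [e1, Category.id_comp] at h
  exact h

section main
variable (hP : IsIso (lift a.act (snd J P))) (hP' : IsIso (lift a'.act (snd J' P')))
  (hcovP : CovMor P.hom)
  (q' : P ⟶ P') (hq' : a.act ≫ q' = lift (fst J P ≫ u) (snd J P ≫ q') ≫ a'.act)
  (q'' : P ⟶ P'') (hq'' : a.act ≫ q'' = lift (fst J P ≫ u ≫ v) (snd J P ≫ q'') ≫ a''.act)

/-- the map `(j', p) ↦ j' · q'(p)` -/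
noncomputable def mm : J' ⊗ P ⟶ P' := lift (fst J' P) (snd J' P ≫ q') ≫ a'.act

theorem mm_pt {W : Over X} (w : W ⟶ J' ⊗ P) :
    w ≫ mm a' q' = smul a' (w ≫ fst J' P) ((w ≫ snd J' P) ≫ q') := by
  unfold mm smul
  rw [← Category.assoc]
  congr 1 <;> (apply CartesianMonoidalCategory.hom_ext <;> simp)

/-- the map `(j', p) ↦ v(j') · q''(p)` -/
noncomputable def rho : J' ⊗ P ⟶ P'' := lift (fst J' P ≫ v) (snd J' P ≫ q'') ≫ a''.act

theorem rho_pt {W : Over X} (w : W ⟶ J' ⊗ P) :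
    w ≫ rho v a'' q'' = smul a'' ((w ≫ fst J' P) ≫ v) ((w ≫ snd J' P) ≫ q'') := by
  unfold rho smul
  rw [← Category.assoc]
  congr 1 <;> (apply CartesianMonoidalCategory.hom_ext <;> simp)

include hP' in
theorem isIso_theta : IsIso (lift (mm a' q') (snd J' P)) := by
  apply isIso_of_yoneda_map_bijective
  intro T
  constructor
  · intro z₁ z₂ h
    have h' : z₁ ≫ lift (mm a' q') (snd J' P) = z₂ ≫ lift (mm a' q') (snd J' P) := h
    have hw : z₁ ≫ snd J' P = z₂ ≫ snd J' P := by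
      have := congrArg (· ≫ snd P' P) h'
      simpa using this
    have hx : z₁ ≫ mm a' q' = z₂ ≫ mm a' q' := by
      have := congrArg (· ≫ fst P' P) h'
      simpa using this
    rw [mm_pt, mm_pt, hw] at hx
    apply CartesianMonoidalCategory.hom_ext
    · exact tors_unique a' hP' _ _ _ hx
    · exact hw
  · intro z'
    obtain ⟨g, hg⟩ := tors_exists a' hP' (z' ≫ fst P' P) ((z' ≫ snd P' P) ≫ q')
    refine ⟨lift g (z' ≫ snd P' P), ?_⟩
    show lift g (z' ≫ snd P' P) ≫ lift (mm a' q') (snd J' P) = z'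
    apply CartesianMonoidalCategory.hom_ext
    · rw [Category.assoc, lift_fst, mm_pt, lift_fst, lift_snd, hg]
    · simp

include hP' hcovP in
theorem covMor_mm : CovMor (mm a' q').left := by
  have h1 : IsIso (lift (mm a' q') (snd J' P)) := isIso_theta a' hP' q'
  have h2 : IsIso (lift (mm a' q') (snd J' P)).left := by
    have : IsIso ((Over.forget _).map (lift (mm a' q') (snd J' P))) := inferInstance
    exact this
  have h3 : mm a' q' = lift (mm a' q') (snd J' P) ≫ fst P' P := by simp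
  have h4 : (mm a' q').left = (lift (mm a' q') (snd J' P)).left ≫ (fst P' P).left := by
    conv_lhs => rw [h3]
    rfl
  rw [h4]
  refine CovMor.comp (covMor_of_isIso _) ?_
  have hfst : (fst P' P).left = pullback.fst P'.hom P.hom := rfl
  rw [hfst]
  exact CovMor.of_isPullback hcovP (IsPullback.of_hasPullback P'.hom P.hom).flip

include hP hP' hcovP hq' hq'' in
theorem existsUnique_push :
    ∃! r : P' ⟶ P'', a'.act ≫ r = lift (fst J' P' ≫ v) (snd J' P' ≫ r) ≫ a''.act ∧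
      q' ≫ r = q'' := by
  have hcm := covMor_mm a' hP' hcovP q'
  have hee : EffectiveEpi (mm a' q').left := hcm.effectiveEpi
  have hepi : Epi (mm a' q') := Over.epi_of_epi_left _
  obtain ⟨r, hr⟩ := FpqcDesc.exists_desc (mm a' q') (rho v a'' q'') (by
    intro W w₁ w₂ hw
    rw [mm_pt, mm_pt] at hw
    obtain ⟨j, hj⟩ := tors_exists a hP (w₂ ≫ snd J' P) (w₁ ≫ snd J' P)
    have h1 : (w₂ ≫ snd J' P) ≫ q' = smul a' (j ≫ u) ((w₁ ≫ snd J' P) ≫ q') := by
      rw [← hj, equiv_pt u a a' q' hq']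
    rw [h1, QuotTower.smul_smul] at hw
    have h2 := tors_unique a' hP' _ _ _ hw
    rw [rho_pt, rho_pt, h2, MonObj.mul_comp, ← QuotTower.smul_smul, Category.assoc j u v,
      ← equiv_pt (u ≫ v) a a'' q'' hq'', hj])
  have hrpt : ∀ {W : Over X} (j' : W ⟶ J') (p : W ⟶ P),
      smul a' j' (p ≫ q') ≫ r = smul a'' (j' ≫ v) (p ≫ q'') := by
    intro W j' p
    have h1 := mm_pt a' q' (lift j' p)
    have h2 := rho_pt v a'' q'' (lift j' p)
    rw [lift_fst, lift_snd] at h1 h2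
    rw [← h1, Category.assoc, hr, h2]
  refine ⟨r, ⟨?_, ?_⟩, ?_⟩
  · apply equiv_of_pt v a' a'' r
    have hcm2 : CovMor (J' ◁ mm a' q').left :=
      CovMor.of_isPullback hcm (MaxOpenGrp.isPullback_whiskerLeft J' (J' ⊗ P) P' (mm a' q')).flip
    have hee2 : EffectiveEpi (J' ◁ mm a' q').left := hcm2.effectiveEpi
    have hepi2 : Epi (J' ◁ mm a' q') := Over.epi_of_epi_left _
    rw [← cancel_epi (J' ◁ mm a' q'), ← Category.assoc, comp_smul, comp_smul, whiskerLeft_fst,
      whiskerLeft_snd, mm_pt, QuotTower.smul_smul, hrpt]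
    rw [whiskerLeft_fst_assoc, whiskerLeft_snd_assoc, hr, rho_pt, QuotTower.smul_smul,
      MonObj.mul_comp]
  · have h1 : q' = lift (1 : P ⟶ J') (𝟙 P) ≫ mm a' q' := by
      rw [mm_pt, lift_fst, lift_snd, Category.id_comp, QuotTower.one_smul]
    rw [h1, Category.assoc, hr, rho_pt, lift_fst, lift_snd, Category.id_comp, MonObj.one_comp,
      QuotTower.one_smul]
  · rintro r' ⟨hr1, hr2⟩
    rw [← cancel_epi (mm a' q'), hr]
    have e0 : ∀ (f g : J' ⊗ P ⟶ P''), lift (fst J' P) (snd J' P) ≫ f =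
        lift (fst J' P) (snd J' P) ≫ g → f = g := by
      intro f g h
      have e1 : lift (fst J' P) (snd J' P) = 𝟙 (J' ⊗ P) := by
        apply CartesianMonoidalCategory.hom_ext <;> simp
      rwa [e1, Category.id_comp, Category.id_comp] at h
    apply e0
    rw [← Category.assoc, mm_pt, rho_pt, lift_fst, lift_snd, equiv_pt v a' a'' r' hr1,
      Category.assoc, hr2]

end main

theorem main14541 {X : Scheme.{u}}
    {J J' J'' : Over X} [GrpObj J] [GrpObj J'] [GrpObj J''] [IsAffineHom J.hom] [IsAffineHom J'.hom]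
    [IsAffineHom J''.hom] (u : J ⟶ J') [IsMonHom u] (v : J' ⟶ J'') [IsMonHom v] {P P' P'' : Over X}
    (a : AlgGrp.Action J P) (a' : AlgGrp.Action J' P') (a'' : AlgGrp.Action J'' P'')
    (hP : NonAbH1.IsTorsorFor Scheme.fpqcPrecoverage a)
    (hP' : NonAbH1.IsTorsorFor Scheme.fpqcPrecoverage a')
    (hP'' : NonAbH1.IsTorsorFor Scheme.fpqcPrecoverage a'')
    (q' : P ⟶ P') (hq' : a.act ≫ q' = lift (fst J P ≫ u) (snd J P ≫ q') ≫ a'.act)
    (q'' : P ⟶ P'') (hq'' : a.act ≫ q'' = lift (fst J P ≫ u ≫ v) (snd J P ≫ q'') ≫ a''.act) :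
    ∃! r : P' ⟶ P'', a'.act ≫ r = lift (fst J' P' ≫ v) (snd J' P' ≫ r) ≫ a''.act ∧ q' ≫ r = q'' := by
  obtain ⟨hP1, R, hR, hs⟩ := hP
  have hcovP : CovMor P.hom := covMor_of_locSec P.hom R hR hs
  exact existsUnique_push u v a a' a'' hP1 hP'.1 hcovP q' hq' q'' hq''

end Groth.Agent.Lib.Helper4.TorsorPush
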