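import Mathlib.Tactic
import Mathlib.AlgebraicGeometry.Sites.Fpqc
import Groth.Prelude.Def_NonAbH2
import Groth.Agent.Lib.Helper4.TorsorPush

set_option autoImplicit false
universe u
open CategoryTheory MonoidalCategory CartesianMonoidalCategory MonObj AlgebraicGeometry Limits

namespace Groth.Agent.Lib.Helper4.TorsorFibre

open CovSieve QuotTower TorsorIso

variable {S : Scheme.{u}} {G G' G'' : Over S} [GrpObj G] [GrpObj G'] [GrpObj G'']

theorem smul_trivial {T : Over S} (a b : T ⟶ G) : smul (NonAbH1.trivialAction G) a b = a * b := by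
  unfold smul
  rw [Hom.mul_def]
  rfl

variable (u : G' ⟶ G) (v : G ⟶ G'')

/-- the pullback-square part of exactness, pointwise: existence -/
theorem exact_exists (hsq : IsPullback (fst G G') ((G ◁ u) ≫ μ[G]) v v) {T : Over S} (x y : T ⟶ G)
    (h : x ≫ v = y ≫ v) : ∃ g' : T ⟶ G', x * (g' ≫ u) = y := by
  obtain ⟨z, hz1, hz2⟩ := hsq.exists_lift x y h
  refine ⟨z ≫ snd G G', ?_⟩
  rw [← hz2, ← hz1, Hom.mul_def, ← Category.assoc]
  congr 1
  apply CartesianMonoidalCategory.hom_ext <;> simp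

theorem exact_unique (hsq : IsPullback (fst G G') ((G ◁ u) ≫ μ[G]) v v) {T : Over S}
    (g₁ g₂ : T ⟶ G') (h : g₁ ≫ u = g₂ ≫ u) : g₁ = g₂ := by
  have hact : ∀ g' : T ⟶ G', lift (1 : T ⟶ G) g' ≫ (G ◁ u) ≫ μ[G] = 1 * (g' ≫ u) := by
    intro g'
    rw [Hom.mul_def, ← Category.assoc]
    congr 1
    apply CartesianMonoidalCategory.hom_ext <;> simp
  have : lift (1 : T ⟶ G) g₁ = lift 1 g₂ := by
    apply hsq.hom_ext
    · simp
    · rw [hact, hact, h]
  have := congrArg (· ≫ snd G G') this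
  simpa using this

section fwd

variable {Q : Over S} (a : AlgGrp.Action G' Q) (hps : IsIso (lift a.act (snd G' Q)))
  (hcov : CovMor Q.hom) [IsMonHom u] [IsMonHom v] (huv : u ≫ v = 1)
  (hsq : IsPullback (fst G G') ((G ◁ u) ≫ μ[G]) v v)
  (φ : Q ⟶ G) (hφ : a.act ≫ φ = lift (fst G' Q ≫ u) (snd G' Q ≫ φ) ≫ (NonAbH1.trivialAction G).act)

include hφ in
theorem phi_pt {T : Over S} (g' : T ⟶ G') (q : T ⟶ Q) :
    smul a g' q ≫ φ = (g' ≫ u) * (q ≫ φ) := by
  rw [TorsorPush.equiv_pt u a (NonAbH1.trivialAction G) φ hφ, smul_trivial]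

include hφ in
theorem inv_pt {T : Over S} (g' : T ⟶ G') (q : T ⟶ Q) :
    smul a g' q ≫ φ⁻¹ = (q ≫ φ⁻¹) * (g' ≫ u)⁻¹ := by
  rw [GrpObj.comp_inv, GrpObj.comp_inv, phi_pt u a φ hφ, mul_inv_rev]

include hps hφ hsq in
theorem mono_inv : Mono (φ⁻¹ : Q ⟶ G) := by
  constructor
  intro T y₁ y₂ h
  obtain ⟨g', hg'⟩ := tors_exists a hps y₁ y₂
  rw [← hg', inv_pt u a φ hφ] at h
  have h1 : (g' ≫ u)⁻¹ = 1 := mul_left_cancel (h.trans (_root_.mul_one _).symm)
  have h2 : g' ≫ u = (1 : T ⟶ G') ≫ u := by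
    rw [inv_eq_one] at h1
    rw [h1, MonObj.one_comp]
  have h3 := exact_unique u v hsq _ _ h2
  rw [← hg', h3, QuotTower.one_smul]

include hps hcov hφ huv in
theorem exists_f : ∃ f : 𝟙_ (Over S) ⟶ G'', toUnit Q ≫ f = φ⁻¹ ≫ v := by
  have : EffectiveEpi (toUnit Q).left := hcov.effectiveEpi
  refine FpqcDesc.exists_desc (toUnit Q) (φ⁻¹ ≫ v) ?_
  intro W y₁ y₂ _
  obtain ⟨g', hg'⟩ := tors_exists a hps y₁ y₂
  rw [← Category.assoc, ← Category.assoc, ← hg', inv_pt u a φ hφ, MonObj.mul_comp,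
    GrpObj.inv_comp, Category.assoc g' u v, huv, MonObj.comp_one, inv_one, _root_.mul_one]

include hps hcov hφ hsq in
theorem exists_unique_pt (f : 𝟙_ (Over S) ⟶ G'') (hf : toUnit Q ≫ f = φ⁻¹ ≫ v) {T : Over S}
    (x : T ⟶ G) (hx : x ≫ v = toUnit T ≫ f) : ∃! y : T ⟶ Q, y ≫ φ⁻¹ = x := by
  have := mono_inv u v a hps hsq φ hφ
  have hc1 : CovMor (fst T Q).left := by
    have sq : IsPullback (fst T Q).left (snd T Q).left T.hom Q.hom := IsPullback.of_hasPullback _ _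
    exact CovMor.of_isPullback hcov sq.flip
  have : EffectiveEpi (fst T Q).left := hc1.effectiveEpi
  have : Epi (fst T Q) := Over.epi_of_epi_left _
  -- local solution
  have h1 : (snd T Q ≫ φ⁻¹) ≫ v = (fst T Q ≫ x) ≫ v := by
    rw [Category.assoc, ← hf, Category.assoc, hx, ← Category.assoc, ← Category.assoc]
    congr 1
    apply toUnit_unique
  obtain ⟨g', hg'⟩ := exact_exists u v hsq _ _ h1
  let y' : T ⊗ Q ⟶ Q := smul a g'⁻¹ (snd T Q)
  have hy' : y' ≫ φ⁻¹ = fst T Q ≫ x := by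
    show smul a g'⁻¹ (snd T Q) ≫ φ⁻¹ = _
    rw [inv_pt u a φ hφ, GrpObj.inv_comp, inv_inv, hg']
  obtain ⟨y, hy⟩ := FpqcDesc.exists_desc (fst T Q) y' (by
    intro W a₁ a₂ h
    rw [← cancel_mono (φ⁻¹ : Q ⟶ G), Category.assoc, Category.assoc, hy', ← Category.assoc,
      ← Category.assoc, h])
  have hyx : y ≫ φ⁻¹ = x := by
    rw [← cancel_epi (fst T Q), ← Category.assoc, hy, hy']
  refine ⟨y, hyx, ?_⟩
  intro y₂ hy₂
  rw [← cancel_mono (φ⁻¹ : Q ⟶ G), hy₂, hyx]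

end fwd

theorem main6009 (u : G' ⟶ G) (v : G ⟶ G'')
    (hex : NonAbH1.IsExactSeq Scheme.fpqcPrecoverage u v)
    (Q : NonAbH1.TorsorSch G' Scheme.fpqcPrecoverage) :
    NonAbH1.IsPushforwardAlongSch u Q.act (NonAbH1.trivialAction G) ↔
      ∃ (f : 𝟙_ (Over S) ⟶ G'') (i : Q.X ⟶ G), NonAbH1.IsPullbackTorsor u v f i Q.act := by
  obtain ⟨hu, hv, huv, hsq, hloc⟩ := hex
  obtain ⟨hps, hlt⟩ := Q.isTorsor
  have hps' : IsIso (lift Q.act.act (snd G' Q.X)) := hps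
  have hcov : CovMor Q.X.hom := covMor_of_isLocallyTrivialFor_fpqc _ hlt
  constructor
  · rintro ⟨φ, hφ⟩
    obtain ⟨f, hf⟩ := exists_f u v Q.act hps' hcov huv φ hφ
    refine ⟨f, φ⁻¹, hu, hv, ?_, ?_⟩
    · have key : ∀ s : PullbackCone v f, ∃! y : s.pt ⟶ Q.X, y ≫ φ⁻¹ = s.fst := fun s =>
        exists_unique_pt u v Q.act hps' hcov hsq φ hφ f hf s.fst (by
          rw [s.condition]
          congr 1
          apply toUnit_unique)
      refine IsPullback.mk ⟨hf.symm⟩ ⟨PullbackCone.IsLimit.mk _ (fun s => (key s).choose) ?_ ?_ ?_⟩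
      · intro s
        exact (key s).choose_spec.1
      · intro s
        apply toUnit_unique
      · intro s m hm1 _
        exact (key s).choose_spec.2 m hm1
    · intro T g' p
      have := inv_pt u Q.act φ hφ g' p
      unfold smul at this
      rw [Category.assoc] at this
      exact this
  · rintro ⟨f, i, hu, hv, hpb, hact⟩
    refine ⟨i⁻¹, ?_⟩
    apply TorsorPush.equiv_of_pt
    rw [smul_trivial, GrpObj.comp_inv, GrpObj.comp_inv]
    unfold smul
    rw [Category.assoc, hact, mul_inv_rev, inv_inv]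

end Groth.Agent.Lib.Helper4.TorsorFibre
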