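import Mathlib.Tactic
import Mathlib.AlgebraicGeometry.Sites.Fpqc
import Groth.Prelude.Def_NonAbH2
import Groth.Prelude.Def_ChGrp
import Groth.Agent.Lib.Helper4.TorsorFibre

set_option autoImplicit false
universe u
open CategoryTheory MonoidalCategory CartesianMonoidalCategory MonObj AlgebraicGeometry Limits

namespace Groth.Agent.Lib.Helper4.TorsorFibre2

open CovSieve QuotTower TorsorIso TorsorFibre

variable {S : Scheme.{u}}

/-- an action restricts to an invariant subobject -/
noncomputable def subAction {H X Y : Over S} [GrpObj H] (a : AlgGrp.Action H X) (k : Y ⟶ X) [Mono k]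
    (actY : H ⊗ Y ⟶ Y) (h : actY ≫ k = (H ◁ k) ≫ a.act) : AlgGrp.Action H Y where
  act := actY
  one_act := by
    rw [← cancel_mono k, Category.assoc, h, ← whisker_exchange_assoc, a.one_act]
    simp
  mul_act := by
    apply AlgGrp.Action.hom_ext_lift₃
    intro T g g' y
    rw [← cancel_mono k]
    simp only [Category.assoc, h]
    rw [lift_whiskerRight_assoc, ← Hom.mul_def, lift_whiskerLeft_assoc, a.lift_mul_act,
      lift_lift_associator_hom_assoc, lift_whiskerLeft_assoc, lift_whiskerLeft_assoc,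
      Category.assoc, h, lift_whiskerLeft_assoc]

section fibre

variable {G G' G'' : Over S} [GrpObj G] [GrpObj G'] [GrpObj G'']
  (u : G' ⟶ G) (v : G ⟶ G'') [IsMonHom u] [IsMonHom v] (huv : u ≫ v = 1)
  (hsq : IsPullback (fst G G') ((G ◁ u) ≫ μ[G]) v v)
  {P : Over S} (a : AlgGrp.Action G P) (hps : IsIso (lift a.act (snd G P)))
  (r : P ⟶ G'') (hr : a.act ≫ r = lift (fst G P ≫ v) (snd G P ≫ r) ≫ (NonAbH1.trivialAction G'').act)

include hr in
theorem r_pt {T : Over S} (g : T ⟶ G) (p : T ⟶ P) : smul a g p ≫ r = (g ≫ v) * (p ≫ r) := by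
  rw [TorsorPush.equiv_pt v a (NonAbH1.trivialAction G'') r hr, smul_trivial]

/-- the fibre of `r` over the unit section -/
noncomputable abbrev Fib : Over S := pullback r η[G'']

noncomputable abbrev kk : Fib r ⟶ P := pullback.fst r η[G'']

instance : Mono (η[G''] : 𝟙_ (Over S) ⟶ G'') :=
  mono_of_mono_fac (show η[G''] ≫ toUnit G'' = 𝟙 _ from toUnit_unique _ _)

theorem kk_r : kk r ≫ r = 1 := by
  rw [Hom.one_def]
  have := pullback.condition (f := r) (g := η[G''])
  rw [this]
  congr 1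
  apply toUnit_unique

/-- points of the fibre -/
noncomputable def fibLift {T : Over S} (y : T ⟶ P) (hy : y ≫ r = 1) : T ⟶ Fib r :=
  pullback.lift y (toUnit T) (by rw [hy, Hom.one_def])

@[simp] theorem fibLift_kk {T : Over S} (y : T ⟶ P) (hy : y ≫ r = 1) : fibLift r y hy ≫ kk r = y :=
  pullback.lift_fst _ _ _

include huv hr in
theorem act_r : smul a (fst G' (Fib r) ≫ u) (snd G' (Fib r) ≫ kk r) ≫ r = 1 := by
  rw [r_pt v a r hr, Category.assoc, huv, Category.assoc, kk_r, MonObj.comp_one, MonObj.comp_one,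
    _root_.mul_one]

/-- the action of `G'` on the fibre -/
noncomputable def actFib : G' ⊗ Fib r ⟶ Fib r :=
  fibLift r (smul a (fst G' (Fib r) ≫ u) (snd G' (Fib r) ≫ kk r)) (act_r u v huv a r hr)

theorem actFib_kk : actFib u v huv a r hr ≫ kk r = (G' ◁ kk r) ≫ (a.restrict u).act := by
  unfold actFib
  rw [fibLift_kk]
  unfold smul
  rw [AlgGrp.Action.restrict_act, ← Category.assoc]
  congr 1
  apply CartesianMonoidalCategory.hom_ext <;> simp

noncomputable def aFib : AlgGrp.Action G' (Fib r) :=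
  subAction (a.restrict u) (kk r) (actFib u v huv a r hr) (actFib_kk u v huv a r hr)

theorem aFib_pt {T : Over S} (g' : T ⟶ G') (q : T ⟶ Fib r) :
    smul (aFib u v huv a r hr) g' q ≫ kk r = smul a (g' ≫ u) (q ≫ kk r) := by
  unfold smul
  show (lift g' q ≫ actFib u v huv a r hr) ≫ kk r = _
  rw [Category.assoc, actFib_kk, AlgGrp.Action.restrict_act, ← Category.assoc, ← Category.assoc]
  congr 1
  apply CartesianMonoidalCategory.hom_ext <;> simp

include hps hsq in
theorem isIso_shear_fib : IsIso (lift (aFib u v huv a r hr).act (snd G' (Fib r))) := by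
  apply isIso_of_yoneda_map_bijective
  intro T
  have hsm : ∀ z : T ⟶ G' ⊗ Fib r, z ≫ lift (aFib u v huv a r hr).act (snd G' (Fib r)) =
      lift (smul (aFib u v huv a r hr) (z ≫ fst _ _) (z ≫ snd _ _)) (z ≫ snd _ _) := by
    intro z
    apply CartesianMonoidalCategory.hom_ext
    · unfold smul
      simp only [comp_lift, lift_fst]
      congr 1
      apply CartesianMonoidalCategory.hom_ext <;> simp
    · simp
  constructor
  · intro z₁ z₂ h
    have h' : z₁ ≫ lift (aFib u v huv a r hr).act (snd G' (Fib r)) =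
        z₂ ≫ lift (aFib u v huv a r hr).act (snd G' (Fib r)) := h
    rw [hsm, hsm] at h'
    have h2 : z₁ ≫ snd _ _ = z₂ ≫ snd _ _ := by
      have := congrArg (· ≫ snd _ _) h'
      simpa using this
    have h1 : smul (aFib u v huv a r hr) (z₁ ≫ fst _ _) (z₁ ≫ snd _ _) =
        smul (aFib u v huv a r hr) (z₂ ≫ fst _ _) (z₂ ≫ snd _ _) := by
      have := congrArg (· ≫ fst _ _) h'
      simpa using this
    have h3 := congrArg (· ≫ kk r) h1
    simp only [aFib_pt] at h3
    rw [h2] at h3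
    have h4 := tors_unique a hps _ _ _ h3
    have h5 := exact_unique u v hsq _ _ h4
    apply CartesianMonoidalCategory.hom_ext
    · exact h5
    · exact h2
  · intro w
    obtain ⟨g, hg⟩ := tors_exists a hps ((w ≫ fst _ _) ≫ kk r) ((w ≫ snd _ _) ≫ kk r)
    have hgv : (1 : T ⟶ G) ≫ v = g ≫ v := by
      have := congrArg (· ≫ r) hg
      simp only [r_pt v a r hr, Category.assoc, kk_r, MonObj.comp_one, _root_.mul_one] at this
      rw [this, MonObj.one_comp]
    obtain ⟨g', hg'⟩ := exact_exists u v hsq _ _ hgv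
    rw [_root_.one_mul] at hg'
    refine ⟨lift g' (w ≫ snd _ _), ?_⟩
    show lift g' (w ≫ snd _ _) ≫ lift (aFib u v huv a r hr).act (snd G' (Fib r)) = w
    rw [hsm, lift_fst, lift_snd]
    apply CartesianMonoidalCategory.hom_ext
    · rw [lift_fst, ← cancel_mono (kk r), aFib_pt, hg', hg]
    · rw [lift_snd]

include hr in
theorem locTriv_fib (hP : NonAbH1.IsLocallyTrivialFor Scheme.fpqcPrecoverage P)
    (hv : NonAbH1.IsLocallyTrivialFor Scheme.fpqcPrecoverage (Over.mk v.left : Over G''.left)) :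
    NonAbH1.IsLocallyTrivialFor Scheme.fpqcPrecoverage (Fib r) := by
  obtain ⟨RP, hRP, hsP⟩ := hP
  obtain ⟨Rv, hRv, hsv⟩ := hv
  obtain ⟨I, Z, g, rfl⟩ := RP.exists_eq_ofArrows
  obtain ⟨κ, W, w, rfl⟩ := Rv.exists_eq_ofArrows
  choose p hp using fun i => hsP (g i) (Presieve.ofArrows.mk i)
  choose t ht using fun k => hsv (w k) (Presieve.ofArrows.mk k)
  refine ⟨Presieve.ofArrows (fun q : Σ _ : I, κ => pullback (p q.1 ≫ r.left) (w q.2))
    (fun q => pullback.fst _ _ ≫ g q.1), ?_, ?_⟩
  · exact Precoverage.comp_mem_coverings (J := Scheme.fpqcPrecoverage) g hRP (σ := fun _ => κ)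
      (Y := fun i k => pullback (p i ≫ r.left) (w k)) (fun i k => pullback.fst _ _)
      (fun i => Precoverage.mem_coverings_of_isPullback w hRv (p i ≫ r.left) _
        (fun k => pullback.snd _ _) (fun k => IsPullback.of_hasPullback _ _))
  · rintro S' f ⟨⟨i, k⟩⟩
    have ht' : t k ≫ v.left = w k := ht k
    have hp' : p i ≫ P.hom = g i := hp i
    let T : Over S := Over.mk (pullback.fst (p i ≫ r.left) (w k) ≫ g i)
    let p' : T ⟶ P := Over.homMk (pullback.fst (p i ≫ r.left) (w k) ≫ p i) (by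
      simp only [Category.assoc, hp']
      rfl)
    let gam : T ⟶ G := Over.homMk (pullback.snd (p i ≫ r.left) (w k) ≫ t k) (by
      have h1 : G.hom = v.left ≫ G''.hom := (Over.w v).symm
      have h2 : r.left ≫ G''.hom = P.hom := Over.w r
      rw [h1, Category.assoc, ← Category.assoc (t k), ht', ← Category.assoc, ← pullback.condition,
        Category.assoc, Category.assoc, h2, hp']
      rfl)
    have hgam : gam ≫ v = p' ≫ r := by
      ext
      show (pullback.snd (p i ≫ r.left) (w k) ≫ t k) ≫ v.left =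
        (pullback.fst (p i ≫ r.left) (w k) ≫ p i) ≫ r.left
      rw [Category.assoc, ht', ← pullback.condition, Category.assoc]
    have hq : smul a gam⁻¹ p' ≫ r = 1 := by
      rw [r_pt v a r hr, GrpObj.inv_comp, hgam, inv_mul_cancel]
    exact ⟨(fibLift r (smul a gam⁻¹ p') hq).left, Over.w (fibLift r (smul a gam⁻¹ p') hq)⟩

end fibre

theorem main6010 {G G' G'' : Over S} [GrpObj G] [GrpObj G'] [GrpObj G'']
    (u : G' ⟶ G) (v : G ⟶ G'') (hex : NonAbH1.IsExactSeq Scheme.fpqcPrecoverage u v)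
    (P : NonAbH1.TorsorSch G Scheme.fpqcPrecoverage) :
    NonAbH1.IsPushforwardAlongSch v P.act (NonAbH1.trivialAction G'') ↔
      ∃ Q : NonAbH1.TorsorSch G' Scheme.fpqcPrecoverage,
        NonAbH1.IsPushforwardAlongSch u Q.act P.act := by
  obtain ⟨hu, hv, huv, hsq, hloc⟩ := hex
  obtain ⟨hps, hlt⟩ := P.isTorsor
  have hps' : IsIso (lift P.act.act (snd G P.X)) := hps
  constructor
  · rintro ⟨r, hr⟩
    refine ⟨⟨Fib r, aFib u v huv P.act r hr,
      ⟨isIso_shear_fib u v huv hsq P.act hps' r hr, locTriv_fib v P.act r hr hlt hloc⟩⟩, kk r, ?_⟩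
    show actFib u v huv P.act r hr ≫ kk r = _
    unfold actFib
    rw [fibLift_kk]
    rfl
  · rintro ⟨Q, ψ, hψ⟩
    obtain ⟨hpsQ, hltQ⟩ := Q.isTorsor
    have hpsQ' : IsIso (lift Q.act.act (snd G' Q.X)) := hpsQ
    have hcovQ : CovMor Q.X.hom := covMor_of_isLocallyTrivialFor_fpqc _ hltQ
    obtain ⟨r, ⟨hr1, _⟩, _⟩ := TorsorPush.existsUnique_push u v Q.act P.act
      (NonAbH1.trivialAction G'') hpsQ' hps' hcovQ ψ hψ (1 : Q.X ⟶ G'') (by
        rw [MonObj.comp_one]
        have : lift (fst G' Q.X ≫ u ≫ v) (snd G' Q.X ≫ (1 : Q.X ⟶ G'')) ≫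
            (NonAbH1.trivialAction G'').act = (fst G' Q.X ≫ u ≫ v) * (snd G' Q.X ≫ 1) := by
          rw [Hom.mul_def]
          rfl
        rw [this, huv, MonObj.comp_one, MonObj.comp_one, _root_.mul_one])
    exact ⟨r, hr1⟩

end Groth.Agent.Lib.Helper4.TorsorFibre2
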