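import Mathlib.Tactic
import Mathlib.AlgebraicGeometry.Sites.Fpqc
import Groth.Prelude.Def_RedSub
import Groth.Agent.Lib.Helper4.CoverDesc

set_option autoImplicit false
universe u
open CategoryTheory MonoidalCategory CartesianMonoidalCategory MonObj AlgebraicGeometry Limits

namespace Groth.Agent.Lib.Helper4.TorsorPt

variable {S : Scheme.{u}} {G X : Over S} [GrpObj G] (a : AlgGrp.Action G X)

theorem isPullback_fst_snd (A B : Over S) :
    IsPullback (fst A B).left (snd A B).left A.hom B.hom := by
  rw [Over.fst_left, Over.snd_left]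
  exact IsPullback.of_hasPullback A.hom B.hom

section
variable (hX : IsIso (lift a.act (snd G X))) {S' : Over S} (x : S' ⟶ X)

/-- trivialisation of the base change of a pseudo-torsor with a point -/
noncomputable def triv : G ⊗ S' ⟶ X ⊗ S' := lift ((G ◁ x) ≫ a.act) (snd G S')

include hX in
theorem isIso_triv : IsIso (triv a x) := by
  have hΦΨ : lift a.act (snd G X) ≫ inv (lift a.act (snd G X)) = 𝟙 _ := IsIso.hom_inv_id _
  have hΨΦ : inv (lift a.act (snd G X)) ≫ lift a.act (snd G X) = 𝟙 _ := IsIso.inv_hom_id _
  have hΨ1 : inv (lift a.act (snd G X)) ≫ a.act = fst X X := by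
    have := congrArg (fun t => t ≫ fst X X) hΨΦ
    simp
  have hΨ2 : inv (lift a.act (snd G X)) ≫ snd G X = snd X X := by
    have := congrArg (fun t => t ≫ snd X X) hΨΦ
    simp
  let θ : X ⊗ S' ⟶ X ⊗ X := lift (fst X S') (snd X S' ≫ x)
  let ψ : X ⊗ S' ⟶ G ⊗ S' := lift (θ ≫ inv (lift a.act (snd G X)) ≫ fst G X) (snd X S')
  refine ⟨ψ, ?_, ?_⟩
  · apply CartesianMonoidalCategory.hom_ext
    · have e1 : triv a x ≫ θ = (G ◁ x) ≫ lift a.act (snd G X) := by
        apply CartesianMonoidalCategory.hom_ext <;> simp [triv, θ]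
      simp only [ψ, Category.assoc, lift_fst, Category.id_comp]
      rw [← Category.assoc (triv a x), e1, Category.assoc, ← Category.assoc (lift a.act (snd G X)),
        hΦΨ, Category.id_comp, whiskerLeft_fst]
    · simp [ψ, triv]
  · have e2 : ψ ≫ (G ◁ x) = θ ≫ inv (lift a.act (snd G X)) := by
      apply CartesianMonoidalCategory.hom_ext
      · simp [ψ]
      · simp only [ψ, Category.assoc, whiskerLeft_snd, lift_snd_assoc, hΨ2]
        simp [θ]
    apply CartesianMonoidalCategory.hom_ext
    · simp only [triv, Category.assoc, lift_fst, Category.id_comp]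
      rw [← Category.assoc, e2, Category.assoc, hΨ1]
      simp [θ]
    · simp [ψ, triv]

end


set_option backward.isDefEq.respectTransparency.types false in
theorem main5234
    [Flat G.hom] [Surjective G.hom] [LocallyOfFinitePresentation G.hom]
    (hX : IsIso (lift a.act (snd G X))) :
    RedSub.IsTorsor a ↔
      ∃ S' : Over S, Surjective S'.hom ∧ Flat S'.hom ∧ LocallyOfFinitePresentation S'.hom ∧
        Nonempty (S' ⟶ X) := by
  constructor
  · rintro ⟨h1, h2, h3, -⟩
    exact ⟨X, h1, h2, h3, ⟨𝟙 X⟩⟩
  · rintro ⟨S', h1, h2, h3, ⟨x⟩⟩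
    have hiso := isIso_triv a hX x
    have key : ∀ (P : MorphismProperty Scheme.{u}) [P.IsStableUnderBaseChange] [P.RespectsIso]
        [P.DescendsAlong (@Surjective ⊓ @Flat ⊓ @LocallyOfFinitePresentation)],
        P G.hom → P X.hom := by
      intro P _ _ _ hG
      have hP1 : P (snd G S').left :=
        MorphismProperty.of_isPullback (isPullback_fst_snd G S') hG
      have e : (snd X S').left = (inv (triv a x)).left ≫ (snd G S').left := by
        rw [← Over.comp_left]
        congr 1
        rw [IsIso.eq_inv_comp]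
        simp [triv]
      have hiso' : IsIso (inv (triv a x)).left :=
        (Over.forget S).map_isIso (inv (triv a x))
      have hP2 : P (snd X S').left := by
        rw [e]
        exact (P.cancel_left_of_respectsIso _ _).mpr hP1
      exact MorphismProperty.DescendsAlong.of_isPullback
        (Q := @Surjective ⊓ @Flat ⊓ @LocallyOfFinitePresentation)
        (isPullback_fst_snd X S').flip ⟨⟨h1, h2⟩, h3⟩ hP2
    exact ⟨key @Surjective inferInstance, key @Flat inferInstance,
      key @LocallyOfFinitePresentation inferInstance, hX⟩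

end Groth.Agent.Lib.Helper4.TorsorPt
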