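import Mathlib.Algebra.MvPolynomial.Basic
import Mathlib.Algebra.MvPolynomial.Eval
import Mathlib.RingTheory.Adjoin.Polynomial.Basic
import Mathlib.Algebra.CharP.Defs
import Mathlib.Tactic

namespace Groth.Agent.Lib.Helper4.TorusInv

open MvPolynomial

variable {k : Type*} [Field k] {m : ℕ}

/-- the weight character -/
def wt (σ : Fin m → kˣ) (α : Fin m →₀ ℕ) : k := ∏ i, ((σ i : k)) ^ (α i)

theorem aeval_monomial_scale (σ : Fin m → kˣ) (α : Fin m →₀ ℕ) (c : k) :
    aeval (fun i => C (σ i : k) * X i) (monomial α c : MvPolynomial (Fin m) k) =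
      monomial α (c * wt σ α) := by
  rw [aeval_monomial, monomial_eq (a := c * wt σ α), C_mul, mul_assoc]
  congr 1
  rw [Finsupp.prod_fintype _ _ (fun i => by simp), Finsupp.prod_fintype _ _ (fun i => by simp)]
  simp only [mul_pow, Finset.prod_mul_distrib, wt, map_prod, map_pow]

theorem coeff_aeval_scale (σ : Fin m → kˣ) (α : Fin m →₀ ℕ) (f : MvPolynomial (Fin m) k) :
    coeff α (aeval (fun i => C (σ i : k) * X i) f) = coeff α f * wt σ α := by
  conv_lhs => rw [f.as_sum, map_sum]
  simp only [aeval_monomial_scale, coeff_sum, coeff_monomial]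
  rw [Finset.sum_eq_single α]
  · simp
  · intro β _ hβ
    rw [if_neg hβ]
  · intro hα
    rw [if_pos rfl, notMem_support_iff.1 hα, zero_mul]

theorem prod_pair_fun {i j : Fin m} (hij : i ≠ j) (F : Fin m → k)
    (hF : ∀ l, l ≠ i → l ≠ j → F l = 1) : ∏ l, F l = F i * F j := by
  classical
  rw [← Finset.prod_pair hij]
  refine (Finset.prod_subset (Finset.subset_univ _) ?_).symm
  intro l _ hl
  simp only [Finset.mem_insert, Finset.mem_singleton, not_or] at hl
  exact hF l hl.1 hl.2

theorem main [CharZero k] (n : ℕ) (f : MvPolynomial (Fin (n + 1)) k) :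
    (∀ σ : Fin (n + 1) → kˣ, ∏ i, (σ i : k) = 1 →
        MvPolynomial.aeval (fun i => MvPolynomial.C (σ i : k) * MvPolynomial.X i) f = f) ↔
      f ∈ Algebra.adjoin k ({∏ i : Fin (n + 1), MvPolynomial.X i} :
        Set (MvPolynomial (Fin (n + 1)) k)) := by
  classical
  constructor
  · intro h
    have two_ne : (2 : k) ≠ 0 := two_ne_zero
    let u : kˣ := Units.mk0 2 two_ne
    have key : ∀ α ∈ f.support, ∀ i j, α i = α j := by
      intro α hα i j
      by_contra hne
      have hij : i ≠ j := fun h => hne (by rw [h])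
      let σ : Fin (n + 1) → kˣ := fun l => if l = i then u else if l = j then u⁻¹ else 1
      have hσi : σ i = u := by simp [σ]
      have hσj : σ j = u⁻¹ := by simp [σ, hij.symm]
      have hσl : ∀ l, l ≠ i → l ≠ j → σ l = 1 := fun l h1 h2 => by simp [σ, h1, h2]
      have hprod : ∏ l, (σ l : k) = 1 := by
        rw [prod_pair_fun hij (fun l => (σ l : k)) (fun l h1 h2 => by rw [hσl l h1 h2]; rfl),
          hσi, hσj]
        simp
      have h1 := congrArg (coeff α) (h σ hprod)
      rw [coeff_aeval_scale] at h1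
      have hc : coeff α f ≠ 0 := mem_support_iff.1 hα
      have h2 : wt σ α = 1 := by
        have : coeff α f * wt σ α = coeff α f * 1 := by rw [h1, mul_one]
        exact mul_left_cancel₀ hc this
      unfold wt at h2
      rw [prod_pair_fun hij (fun l => (σ l : k) ^ α l)
        (fun l h1 h2 => by rw [hσl l h1 h2]; simp), hσi, hσj] at h2
      have h3 : (2 : k) ^ α i = 2 ^ α j := by
        have hu : (u : k) = 2 := rfl
        have hui : ((u⁻¹ : kˣ) : k) = (2 : k)⁻¹ := by simp [u]
        rw [hu, hui, inv_pow] at h2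
        field_simp at h2
        exact h2
      have h4 : (2 : ℕ) ^ α i = 2 ^ α j := by
        have : ((2 ^ α i : ℕ) : k) = ((2 ^ α j : ℕ) : k) := by push_cast; exact h3
        exact_mod_cast this
      exact hne (Nat.pow_right_injective (le_refl 2) h4)
    rw [f.as_sum]
    refine Subalgebra.sum_mem _ fun α hα => ?_
    have hα' : α = Finsupp.equivFunOnFinite.symm (fun _ => α 0) := by
      ext i
      simp [key α hα i 0]
    have hmon : (monomial α (coeff α f) : MvPolynomial (Fin (n + 1)) k) =
        C (coeff α f) * (∏ i : Fin (n + 1), X i) ^ (α 0) := by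
      rw [monomial_eq, Finsupp.prod_fintype _ _ (fun i => by simp), ← Finset.prod_pow]
      congr 1
      refine Finset.prod_congr rfl fun i _ => ?_
      rw [key α hα i 0]
    rw [hmon]
    refine Subalgebra.mul_mem _ ?_ (Subalgebra.pow_mem _ (Algebra.subset_adjoin (Set.mem_singleton _)) _)
    rw [← algebraMap_eq]
    exact Subalgebra.algebraMap_mem _ _
  · intro hf σ hσ
    have hfix : aeval (fun i => C (σ i : k) * X i) (∏ i : Fin (n + 1), (X i : MvPolynomial (Fin (n + 1)) k)) =
        ∏ i : Fin (n + 1), X i := by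
      rw [map_prod]
      simp only [aeval_X, Finset.prod_mul_distrib, ← map_prod, hσ, map_one, one_mul]
    rw [Algebra.adjoin_singleton_eq_range_aeval] at hf
    obtain ⟨p, rfl⟩ := hf
    show aeval _ (Polynomial.aeval _ p) = Polynomial.aeval _ p
    rw [← Polynomial.aeval_algHom_apply, hfix]

end Groth.Agent.Lib.Helper4.TorusInv
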