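import Mathlib.Tactic
import Mathlib.AlgebraicTopology.SimplicialSet.Homotopy
import Mathlib.AlgebraicTopology.SimplicialSet.CategoryWithFibrations
import Mathlib.AlgebraicTopology.SimplicialSet.Monoidal

namespace Groth.Agent.Lib.Helper4.TrivFib

open CategoryTheory Simplicial Opposite SSet MonoidalCategory CartesianMonoidalCategory

universe u

/-- The subcomplex of `Z ⊗ Δ[1]` of pairs whose second component is a boundary simplex. -/
def bdry (Z : SSet.{u}) : (Z ⊗ Δ[1]).Subcomplex :=
  (boundary.{u} 1).preimage (snd Z Δ[1])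

lemma const_of_mem_boundary {a : SimplexCategory} (α : (Δ[1] : SSet.{u}).obj (op a))
    (hα : α ∈ (boundary.{u} 1).obj (op a)) (i j : Fin (a.len + 1)) :
    (stdSimplex.objEquiv α).toOrderHom i = (stdSimplex.objEquiv α).toOrderHom j := by
  by_contra hne
  apply hα
  intro y
  -- the two values are distinct elements of `Fin 2`, hence everything is hit
  have h2 : ∀ a b : Fin 2, a ≠ b → ∀ y : Fin 2, y = a ∨ y = b := by decide
  rcases h2 _ _ hne y with h | h
  · exact ⟨i, h.symm⟩
  · exact ⟨j, h.symm⟩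

open Classical in
/-- The map on the boundary part: `p` on the `0`-end and `q` on the `1`-end. -/
noncomputable def endsMap {Z X : SSet.{u}} (p q : Z ⟶ X) : ((bdry Z).toSSet ⟶ X) where
  app a := ↾fun w =>
    if (stdSimplex.objEquiv w.1.2).toOrderHom 0 = 1 then q.app a w.1.1 else p.app a w.1.1
  naturality a b θ := by
    ext ⟨⟨z, α⟩, hw⟩
    have hc : (stdSimplex.objEquiv ((Δ[1] : SSet.{u}).map θ α)).toOrderHom 0 =
        (stdSimplex.objEquiv α).toOrderHom 0 := by
      change (stdSimplex.objEquiv α).toOrderHom (θ.unop.toOrderHom 0) = _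
      exact const_of_mem_boundary α hw _ _
    have n1 := ConcreteCategory.congr_hom (q.naturality θ) z
    have n0 := ConcreteCategory.congr_hom (p.naturality θ) z
    change (if (stdSimplex.objEquiv ((Δ[1] : SSet.{u}).map θ α)).toOrderHom 0 = 1 then
      q.app b (Z.map θ z) else p.app b (Z.map θ z)) =
      X.map θ (if (stdSimplex.objEquiv α).toOrderHom 0 = 1 then q.app a z else p.app a z)
    rw [hc]
    split_ifs
    · exact n1
    · exact n0

lemma exists_homotopy_of_rlp {X Y Z : SSet.{u}} (f : X ⟶ Y)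
    (hf : (MorphismProperty.monomorphisms SSet.{u}).rlp f) (p q : Z ⟶ X) (h : p ≫ f = q ≫ f) :
    Nonempty (SSet.Homotopy p q) := by
  have sq : CommSq (endsMap p q) (bdry Z).ι f (fst Z Δ[1] ≫ p ≫ f) := by
    constructor
    ext a ⟨⟨z, α⟩, hw⟩
    change f.app a (if (stdSimplex.objEquiv α).toOrderHom 0 = 1 then q.app a z else p.app a z) =
      f.app a (p.app a z)
    split_ifs
    · exact (ConcreteCategory.congr_hom (congr_app h a) z).symm
    · rfl
  haveI := hf (bdry Z).ι (MorphismProperty.monomorphisms.infer_property _)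
  have hl : (bdry Z).ι ≫ sq.lift = endsMap p q := sq.fac_left
  have key : ∀ (a : SimplexCategoryᵒᵖ) (z : Z.obj a) (α : (Δ[1] : SSet.{u}).obj a)
      (hα : α ∈ (boundary.{u} 1).obj a),
      sq.lift.app a (z, α) =
        if (stdSimplex.objEquiv α).toOrderHom 0 = 1 then q.app a z else p.app a z := by
    intro a z α hα
    exact ConcreteCategory.congr_hom (congr_app hl a) ⟨(z, α), hα⟩
  refine ⟨{ h := sq.lift, h₀ := ?_, h₁ := ?_, rel := by ext _ ⟨⟨_, ⟨⟩⟩, _⟩ }⟩
  · ext a z
    have hmem : (ι₀.app a z).2 ∈ (boundary.{u} 1).obj a := by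
      intro hs
      obtain ⟨x, hx⟩ := hs 1
      have hx' : (0 : Fin 2) = 1 := hx
      exact absurd hx' (by decide)
    have := key a z (ι₀.app a z).2 hmem
    rw [if_neg (by change ¬ ((0 : Fin 2) = 1); decide)] at this
    exact this
  · ext a z
    have hmem : (ι₁.app a z).2 ∈ (boundary.{u} 1).obj a := by
      intro hs
      obtain ⟨x, hx⟩ := hs 0
      have hx' : (1 : Fin 2) = 0 := hx
      exact absurd hx' (by decide)
    have := key a z (ι₁.app a z).2 hmem
    rw [if_pos (by rfl)] at this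
    exact this

theorem main6785 {X Y : SSet.{u}} (f : X ⟶ Y) (hf : SSet.modelCategoryQuillen.I.rlp f) :
    ∃ g : Y ⟶ X, g ≫ f = 𝟙 Y ∧ Nonempty (SSet.Homotopy (𝟙 X) (f ≫ g)) ∧
      Nonempty (SSet.Homotopy (f ≫ g) (𝟙 X)) := by
  have hf' : (MorphismProperty.monomorphisms SSet.{u}).rlp f := by
    rw [SSet.rlp_monomorphisms]; exact hf
  have sq : CommSq (Subcomplex.isInitialBot.to X) (⊥ : Y.Subcomplex).ι f (𝟙 Y) :=
    ⟨Subcomplex.isInitialBot.hom_ext _ _⟩
  haveI := hf' (⊥ : Y.Subcomplex).ι (MorphismProperty.monomorphisms.infer_property _)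
  refine ⟨sq.lift, sq.fac_right, ?_, ?_⟩
  · apply exists_homotopy_of_rlp f hf'
    rw [Category.id_comp, Category.assoc, sq.fac_right, Category.comp_id]
  · apply exists_homotopy_of_rlp f hf'
    rw [Category.id_comp, Category.assoc, sq.fac_right, Category.comp_id]

end Groth.Agent.Lib.Helper4.TrivFib
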