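import Mathlib.Tactic
import Mathlib.AlgebraicGeometry.Sites.Fpqc
import Groth.Prelude.Def_NonAbH2
import Groth.Prelude.Def_ChGrp
import Groth.Agent.Lib.Helper4.TorsorFibre

set_option autoImplicit false
universe u
open CategoryTheory MonoidalCategory CartesianMonoidalCategory MonObj AlgebraicGeometry Limits

namespace Groth.Agent.Lib.Helper4.TrivTorsor

open CovSieve QuotTower TorsorIso TorsorFibre

variable {S : Scheme.{u}}

theorem main6011 (G X : Over S) [GrpObj G] (a : AlgGrp.Action G X) :
    Nonempty (NonAbH1.EquivIso (NonAbH1.trivialAction G) a) ↔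
      (NonAbH1.IsPseudoTorsorSch a ∧ NonAbH1.HasSectionOver X (𝟙 S)) := by
  constructor
  · rintro ⟨e, he⟩
    refine ⟨?_, (η[G] ≫ e.hom).left, Over.w (η[G] ≫ e.hom)⟩
    have h0 : IsIso (lift μ[G] (snd G G)) := NonAbH1.isPseudoTorsorSch_trivialAction G
    have h1 : lift a.act (snd G X) =
        (G ◁ e.inv) ≫ lift μ[G] (snd G G) ≫ (e.hom ⊗ₘ e.hom) := by
      have he' : μ[G] ≫ e.hom = (G ◁ e.hom) ≫ a.act := he
      apply CartesianMonoidalCategory.hom_ext
      · simp only [lift_fst, Category.assoc, tensorHom_fst, lift_fst_assoc]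
        rw [he', ← MonoidalCategory.whiskerLeft_comp_assoc, e.inv_hom_id]
        simp
      · simp
    show IsIso (lift a.act (snd G X))
    rw [h1]
    infer_instance
  · rintro ⟨hps, s, hs⟩
    have hps' : IsIso (lift a.act (snd G X)) := hps
    let σ : 𝟙_ (Over S) ⟶ X := Over.homMk s hs
    let o : G ⟶ X := a.orbitMap σ
    have ho : ∀ {T : Over S} (g : T ⟶ G), g ≫ o = smul a g (toUnit T ≫ σ) := by
      intro T g
      exact AlgGrp.Action.comp_orbitMap a g σ
    have hiso : IsIso o := by
      apply isIso_of_yoneda_map_bijective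
      intro T
      constructor
      · intro g₁ g₂ h
        have h' : g₁ ≫ o = g₂ ≫ o := h
        rw [ho, ho] at h'
        exact tors_unique a hps' _ _ _ h'
      · intro x
        obtain ⟨g, hg⟩ := tors_exists a hps' x (toUnit T ≫ σ)
        exact ⟨g, (ho g).trans hg⟩
    refine ⟨⟨asIso o, ?_⟩⟩
    show μ[G] ≫ o = (G ◁ o) ≫ a.act
    apply AlgGrp.Action.hom_ext_lift₂
    intro T g h
    rw [← Category.assoc, ← Hom.mul_def, ho, lift_whiskerLeft_assoc, ho]
    unfold smul
    rw [a.lift_mul_act]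

end Groth.Agent.Lib.Helper4.TrivTorsor
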