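import Mathlib.RingTheory.MvPolynomial.Ideal
import Mathlib.RingTheory.MvPolynomial.Basic
import Mathlib.Algebra.CharP.Lemmas
import Mathlib.LinearAlgebra.Dimension.Constructions
import Mathlib.Tactic

namespace Groth.Agent.Lib.Helper4.TruncPoly
open MvPolynomial

noncomputable section

variable {k : Type*} [Field k] {r : ℕ}

/-- the monomial ideal -/
def J (n : Fin r → ℕ) : Ideal (MvPolynomial (Fin r) k) :=
  Ideal.span (Set.range fun i : Fin r => (X i : MvPolynomial (Fin r) k) ^ n i)

lemma mem_J (n : Fin r → ℕ) (g : MvPolynomial (Fin r) k) :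
    g ∈ J (k := k) n ↔ ∀ β ∈ g.support, ∃ i, n i ≤ β i := by
  have : (Set.range fun i : Fin r => (X i : MvPolynomial (Fin r) k) ^ n i)
      = (fun s => monomial s (1:k)) '' (Set.range fun i : Fin r => Finsupp.single i (n i)) := by
    rw [← Set.range_comp]
    congr 1
    funext i
    simp [X_pow_eq_monomial]
  rw [J, this, mem_ideal_span_monomial_image]
  constructor
  · intro h β hβ
    obtain ⟨_, ⟨i, rfl⟩, hi⟩ := h β hβ
    exact ⟨i, Finsupp.single_le_iff.mp hi⟩
  · intro h β hβ
    obtain ⟨i, hi⟩ := h β hβ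
    exact ⟨_, ⟨i, rfl⟩, Finsupp.single_le_iff.mpr hi⟩

/-- the monomial classes -/
def v (n : Fin r → ℕ) (β : {β : Fin r →₀ ℕ // ∀ i, β i < n i}) : MvPolynomial (Fin r) k ⧸ J (k := k) n :=
  Ideal.Quotient.mk _ (monomial β.1 1)

lemma v_linearIndependent (n : Fin r → ℕ) : LinearIndependent k (v (k := k) n) := by
  rw [linearIndependent_iff]
  intro l hl
  rw [Finsupp.linearCombination_apply, Finsupp.sum] at hl
  have h1 : (∑ β ∈ l.support, l β • v (k := k) n β)
      = Ideal.Quotient.mk (J (k := k) n) (∑ β ∈ l.support, monomial β.1 (l β)) := by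
    rw [map_sum]
    refine Finset.sum_congr rfl fun β _ => ?_
    rw [v, ← Ideal.Quotient.mkₐ_eq_mk k, ← map_smul, smul_monomial, smul_eq_mul, mul_one]
  rw [h1, Ideal.Quotient.eq_zero_iff_mem, mem_J] at hl
  ext β
  by_contra hβ
  have hcoeff : coeff β.1 (∑ γ ∈ l.support, monomial γ.1 (l γ)) = l β := by
    rw [coeff_sum]
    simp only [coeff_monomial]
    rw [Finset.sum_eq_single β]
    · simp
    · intro γ _ hγ
      rw [if_neg]
      intro h; exact hγ (Subtype.ext h)
    · intro h
      simp only [Finsupp.mem_support_iff, not_not] at h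
      simp [h]
  have : β.1 ∈ (∑ γ ∈ l.support, monomial γ.1 (l γ)).support := by
    rw [mem_support_iff, hcoeff]; exact hβ
  obtain ⟨i, hi⟩ := hl _ this
  exact absurd (β.2 i) (not_lt.mpr hi)

variable (p : ℕ) [Fact p.Prime] [CharP k p]

/-- span of the `p^t`-th powers -/
def V (n : Fin r → ℕ) (t : ℕ) : Submodule k (MvPolynomial (Fin r) k ⧸ J (k := k) n) :=
  Submodule.span k (Set.range fun x : MvPolynomial (Fin r) k ⧸ J (k := k) n => x ^ p ^ t)

lemma V_eq (n : Fin r → ℕ) (t : ℕ) : V (k := k) p n t = Submodule.span k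
    (Set.range fun α : Fin r →₀ ℕ => Ideal.Quotient.mk (J (k := k) n) (monomial (p ^ t • α) 1)) := by
  apply le_antisymm
  · rw [V, Submodule.span_le]
    rintro _ ⟨x, rfl⟩
    obtain ⟨f, rfl⟩ := Ideal.Quotient.mk_surjective x
    simp only [← map_pow]
    induction f using MvPolynomial.induction_on' with
    | monomial α c =>
      rw [monomial_pow]
      have : Ideal.Quotient.mk (J (k := k) n) (monomial (p ^ t • α) (c ^ p ^ t))
          = (c ^ p ^ t) • Ideal.Quotient.mk (J (k := k) n) (monomial (p ^ t • α) 1) := by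
        rw [← Ideal.Quotient.mkₐ_eq_mk k, ← map_smul, smul_monomial, smul_eq_mul, mul_one]
      rw [this]
      exact Submodule.smul_mem _ _ (Submodule.subset_span ⟨α, rfl⟩)
    | add f g hf hg =>
      rw [add_pow_char_pow, map_add]
      exact Submodule.add_mem _ hf hg
  · rw [Submodule.span_le]
    rintro _ ⟨α, rfl⟩
    refine Submodule.subset_span ⟨Ideal.Quotient.mk _ (monomial α 1), ?_⟩
    simp only [← map_pow, monomial_pow, one_pow]

/-- index injection -/
def idx (e : Fin r → ℕ) (t : ℕ) (a : ∀ i, Fin (p ^ (e i - t))) :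
    {β : Fin r →₀ ℕ // ∀ i, β i < p ^ e i} :=
  ⟨Finsupp.equivFunOnFinite.symm (fun i => p ^ t * (a i : ℕ)), by
    intro i
    have hp : 0 < p := (Fact.out : p.Prime).pos
    simp only [Finsupp.equivFunOnFinite_symm_apply_apply]
    by_cases h : t ≤ e i
    · have := (a i).2
      calc p ^ t * (a i : ℕ) < p ^ t * p ^ (e i - t) :=
            Nat.mul_lt_mul_of_pos_left this (pow_pos hp _)
        _ = p ^ e i := by rw [← pow_add]; congr 1; omega
    · have h0 : e i - t = 0 := by omega
      have h1 : (a i : ℕ) < p ^ (e i - t) := (a i).2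
      have h2 : p ^ (e i - t) = 1 := by rw [h0, pow_zero]
      have : (a i : ℕ) = 0 := by omega
      rw [this, mul_zero]; exact pow_pos hp _⟩

lemma idx_injective (e : Fin r → ℕ) (t : ℕ) : Function.Injective (idx p e t) := by
  intro a b hab
  have hp : 0 < p := (Fact.out : p.Prime).pos
  funext i
  have := congrArg (fun β => β.1 i) hab
  simp only [idx, Finsupp.equivFunOnFinite_symm_apply_apply] at this
  exact Fin.ext (Nat.eq_of_mul_eq_mul_left (pow_pos hp _) this)

lemma span_eq (e : Fin r → ℕ) (t : ℕ) :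
    Submodule.span k (Set.range fun α : Fin r →₀ ℕ =>
      Ideal.Quotient.mk (J (k := k) fun i => p ^ e i) (monomial (p ^ t • α) 1))
    = Submodule.span k (Set.range (v (k := k) (fun i => p ^ e i) ∘ idx p e t)) := by
  have hp : 0 < p := (Fact.out : p.Prime).pos
  apply le_antisymm
  · rw [Submodule.span_le]
    rintro _ ⟨α, rfl⟩
    by_cases h : ∀ i, p ^ t * α i < p ^ e i
    · have hα : ∀ i, α i < p ^ (e i - t) := by
        intro i
        by_cases h' : t ≤ e i
        · have h1 := h i
          have : p ^ e i = p ^ t * p ^ (e i - t) := by rw [← pow_add]; congr 1; omega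
          rw [this] at h1
          exact Nat.lt_of_mul_lt_mul_left h1
        · have h0 : e i - t = 0 := by omega
          rw [h0, pow_zero]
          have h1 := h i
          have h2 : p ^ e i ≤ p ^ t := Nat.pow_le_pow_right hp (by omega)
          by_contra h3
          have : 1 ≤ α i := by omega
          have : p ^ t ≤ p ^ t * α i := Nat.le_mul_of_pos_right _ this
          omega
      refine Submodule.subset_span ⟨fun i => ⟨α i, hα i⟩, ?_⟩
      have : (Finsupp.equivFunOnFinite.symm fun i => p ^ t * α i) = p ^ t • α := by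
        ext i; simp
      simp only [Function.comp_apply, v, idx, this]
    · push Not at h
      obtain ⟨i, hi⟩ := h
      have : Ideal.Quotient.mk (J (k := k) fun i => p ^ e i) (monomial (p ^ t • α) 1) = 0 := by
        rw [Ideal.Quotient.eq_zero_iff_mem, mem_J]
        intro β hβ
        have := support_monomial_subset hβ
        rw [Finset.mem_singleton] at this
        subst this
        exact ⟨i, by simpa using hi⟩
      beta_reduce
      rw [this]
      exact Submodule.zero_mem _
  · rw [Submodule.span_le]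
    rintro _ ⟨a, rfl⟩
    refine Submodule.subset_span ⟨Finsupp.equivFunOnFinite.symm (fun i => (a i : ℕ)), ?_⟩
    have : (Finsupp.equivFunOnFinite.symm fun i => p ^ t * (a i : ℕ))
        = p ^ t • Finsupp.equivFunOnFinite.symm (fun i => (a i : ℕ)) := by
      ext i; simp
    simp only [Function.comp_apply, v, idx, this]

lemma finrank_V (e : Fin r → ℕ) (t : ℕ) :
    Module.finrank k (V (k := k) p (fun i => p ^ e i) t) = p ^ (∑ i, (e i - t)) := by
  rw [V_eq, span_eq, finrank_span_eq_card]
  · rw [Fintype.card_pi]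
    simp only [Fintype.card_fin]
    rw [Finset.prod_pow_eq_pow_sum]
  · exact (v_linearIndependent _).comp _ (idx_injective p e t)

lemma finrank_V_congr {s : ℕ} (n : Fin r → ℕ) (n' : Fin s → ℕ)
    (φ : (MvPolynomial (Fin r) k ⧸ J (k := k) n) ≃ₐ[k] (MvPolynomial (Fin s) k ⧸ J (k := k) n'))
    (t : ℕ) :
    Module.finrank k (V (k := k) p n t) = Module.finrank k (V (k := k) p n' t) := by
  have : Submodule.map φ.toLinearEquiv.toLinearMap (V (k := k) p n t) = V (k := k) p n' t := by
    rw [V, V, Submodule.map_span]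
    congr 1
    ext y
    constructor
    · rintro ⟨_, ⟨x, rfl⟩, rfl⟩; exact ⟨φ x, by simp⟩
    · rintro ⟨y, rfl⟩; exact ⟨_, ⟨φ.symm y, rfl⟩, by simp⟩
  rw [← this]
  exact (LinearEquiv.finrank_map_eq φ.toLinearEquiv _).symm

omit [Fact (Nat.Prime p)] in
lemma card_gt (e : Fin r → ℕ) (t : ℕ) :
    (Finset.univ.filter fun i => t < e i).card + ∑ i, (e i - (t+1)) = ∑ i, (e i - t) := by
  rw [Finset.card_filter, ← Finset.sum_add_distrib]
  refine Finset.sum_congr rfl fun i _ => ?_
  split_ifs <;> omega

lemma card_eq_succ (e : Fin r → ℕ) (m : ℕ) :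
    (Finset.univ.filter fun i => e i = m + 1).card + (Finset.univ.filter fun i => m + 1 < e i).card
      = (Finset.univ.filter fun i => m < e i).card := by
  rw [Finset.card_filter, Finset.card_filter, Finset.card_filter, ← Finset.sum_add_distrib]
  refine Finset.sum_congr rfl fun i _ => ?_
  split_ifs <;> omega

lemma exists_equiv_of_card_fiber {α β γ : Type*} [Fintype α] [Fintype β] [DecidableEq γ]
    (e : α → γ) (f : β → γ)
    (h : ∀ m, Fintype.card {i // e i = m} = Fintype.card {j // f j = m}) :
    ∃ σ : α ≃ β, ∀ i, f (σ i) = e i := by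
  have g : ∀ m, {i // e i = m} ≃ {j // f j = m} := fun m => Fintype.equivOfCardEq (h m)
  refine ⟨(Equiv.sigmaFiberEquiv e).symm.trans
    ((Equiv.sigmaCongrRight g).trans (Equiv.sigmaFiberEquiv f)), ?_⟩
  intro i
  simp only [Equiv.trans_apply, Equiv.sigmaFiberEquiv_symm_apply_fst,
    Equiv.sigmaCongrRight_apply, Equiv.sigmaFiberEquiv_apply]
  exact (g (e i) ⟨i, rfl⟩).2

theorem main {s : ℕ} (e : Fin r → ℕ) (f : Fin s → ℕ) (he : ∀ i, 1 ≤ e i) (hf : ∀ j, 1 ≤ f j)
    (φ : (MvPolynomial (Fin r) k ⧸ J (k := k) fun i => p ^ e i) ≃ₐ[k]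
      (MvPolynomial (Fin s) k ⧸ J (k := k) fun j => p ^ f j)) :
    ∃ σ : Fin r ≃ Fin s, ∀ i : Fin r, f (σ i) = e i := by
  have hp : 1 < p := (Fact.out : p.Prime).one_lt
  have hE : ∀ t, ∑ i, (e i - t) = ∑ j, (f j - t) := by
    intro t
    have := finrank_V_congr p _ _ φ t
    rw [finrank_V, finrank_V] at this
    exact Nat.pow_right_injective hp this
  have hgt : ∀ t, (Finset.univ.filter fun i => t < e i).card
      = (Finset.univ.filter fun j => t < f j).card := by
    intro t
    have h1 := card_gt e t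
    have h2 := card_gt f t
    have := hE t
    have := hE (t+1)
    omega
  apply exists_equiv_of_card_fiber
  intro m
  rw [Fintype.card_subtype, Fintype.card_subtype]
  rcases m with _ | m
  · rw [Finset.filter_false_of_mem (fun i _ => by have := he i; omega),
      Finset.filter_false_of_mem (fun j _ => by have := hf j; omega)]
    rfl
  · have h1 := card_eq_succ e m
    have h2 := card_eq_succ f m
    have := hgt m
    have := hgt (m+1)
    omega

end

end Groth.Agent.Lib.Helper4.TruncPoly
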