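import Mathlib.AlgebraicGeometry.AffineScheme
import Mathlib.Tactic

set_option autoImplicit false
universe u
open CategoryTheory AlgebraicGeometry TopologicalSpace

namespace Groth.Agent.Lib.Helper4.TwoImmersions

theorem image_basicOpen {W U : Scheme.{u}} [IsAffine U] (i : W ⟶ U) [IsOpenImmersion i]
    (f1 : Γ(U, ⊤)) (hf1 : U.basicOpen f1 ≤ i.opensRange)
    (a : Γ(W, i ⁻¹ᵁ (U.basicOpen f1))) :
    ∃ f' : Γ(U, ⊤), i ''ᵁ (W.basicOpen a) = U.basicOpen f' := by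
  have hiso : IsIso (i.app (U.basicOpen f1)) := i.isIso_app _ hf1
  have hbij : Function.Bijective (i.app (U.basicOpen f1)) :=
    ConcreteCategory.bijective_of_isIso (i.app (U.basicOpen f1))
  obtain ⟨a', rfl⟩ := hbij.2 a
  obtain ⟨f', hf'⟩ := (isAffineOpen_top U).basicOpen_basicOpen_is_basicOpen f1 a'
  refine ⟨f', ?_⟩
  rw [← Scheme.preimage_basicOpen, Scheme.Hom.image_preimage_eq_opensRange_inf, hf']
  exact inf_eq_right.mpr ((U.basicOpen_le a').trans hf1)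

theorem main {U V W : Scheme.{u}} [IsAffine U]
    [IsAffine V] (i : W ⟶ U) (j : W ⟶ V) [IsOpenImmersion i] [IsOpenImmersion j] (w : W) :
    ∃ (W' : W.Opens) (f : Γ(U, ⊤)) (g : Γ(V, ⊤)), w ∈ W' ∧ i ''ᵁ W' = U.basicOpen f ∧
      j ''ᵁ W' = V.basicOpen g := by
  obtain ⟨f1, hf1, hwf1⟩ := (isAffineOpen_top U).exists_basicOpen_le
    (V := i.opensRange) ⟨i w, ⟨w, rfl⟩⟩ trivial
  obtain ⟨g1, hg1, hwg1⟩ := (isAffineOpen_top V).exists_basicOpen_le
    (V := j.opensRange) ⟨j w, ⟨w, rfl⟩⟩ trivial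
  have hW1 : IsAffineOpen (i ⁻¹ᵁ (U.basicOpen f1)) :=
    ((isAffineOpen_top U).basicOpen f1).preimage_of_isOpenImmersion i hf1
  have hW2 : IsAffineOpen (j ⁻¹ᵁ (V.basicOpen g1)) :=
    ((isAffineOpen_top V).basicOpen g1).preimage_of_isOpenImmersion j hg1
  obtain ⟨a, b, hab, hwa⟩ := exists_basicOpen_le_affine_inter hW1 hW2 w ⟨hwf1, hwg1⟩
  obtain ⟨f', hf'⟩ := image_basicOpen i f1 hf1 a
  obtain ⟨g', hg'⟩ := image_basicOpen j g1 hg1 b
  exact ⟨W.basicOpen a, f', g', hwa, hf', hab ▸ hg'⟩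

end Groth.Agent.Lib.Helper4.TwoImmersions
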