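import Mathlib.AlgebraicGeometry.Morphisms.UniversallyOpen
import Mathlib.AlgebraicGeometry.Morphisms.ClosedImmersion
import Mathlib.AlgebraicGeometry.PullbackCarrier
import Mathlib.RingTheory.Artinian.Ring
import Mathlib.Tactic

set_option autoImplicit false
universe u
open CategoryTheory AlgebraicGeometry TopologicalSpace Limits MorphismProperty

namespace Groth.Agent.Lib.Helper4.UOBase

/-- universal openness can be checked after base change along a surjective closed immersion -/
theorem universallyOpen_of_surjective_closedImmersion {Z Y Y₀ : Scheme.{u}} (f : Z ⟶ Y)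
    (i : Y₀ ⟶ Y) [IsClosedImmersion i] [Surjective i]
    (h₀ : UniversallyOpen (pullback.snd f i)) : UniversallyOpen f := by
  refine ⟨?_⟩
  intro X' Y' i₁ i₂ f' H
  -- Y'₀ = Y' ×_Y Y₀
  let p := pullback.fst i₂ i
  let q := pullback.snd i₂ i
  have hp1 : IsClosedImmersion p := inferInstance
  have hp2 : Surjective p := inferInstance
  let p' := pullback.fst f' p
  let f'₀ := pullback.snd f' p
  have hA : IsPullback p' f'₀ f' p := IsPullback.of_hasPullback f' p
  have hB : IsPullback i₁ f' f i₂ := H.flip
  have hAB : IsPullback (p' ≫ i₁) f'₀ f (p ≫ i₂) := hA.paste_horiz hB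
  have hpq : p ≫ i₂ = q ≫ i := pullback.condition
  rw [hpq] at hAB
  have hC : IsPullback (pullback.fst f i) (pullback.snd f i) f i := IsPullback.of_hasPullback f i
  have hD := IsPullback.of_right' hAB hC
  -- f'₀ is open
  have hf'₀ : UniversallyOpen f'₀ := MorphismProperty.of_isPullback hD h₀
  have hopen₀ : IsOpenMap f'₀ := f'₀.isOpenMap
  -- p is a homeomorphism onto Y'
  have hpo : IsOpenMap p := by
    have hcl : Topology.IsClosedEmbedding p := p.isClosedEmbedding
    have hsurj : Function.Surjective p := p.surjective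
    have hhomeo : IsHomeomorph p := ⟨p.continuous, by
      intro U hU
      have : p '' U = (p '' Uᶜ)ᶜ := by
        ext y
        constructor
        · rintro ⟨x, hx, rfl⟩ ⟨x', hx', hxx'⟩
          exact hx' (hcl.injective hxx' ▸ hx)
        · intro hy
          obtain ⟨x, rfl⟩ := hsurj y
          refine ⟨x, ?_, rfl⟩
          by_contra hx
          exact hy ⟨x, hx, rfl⟩
      rw [this]
      exact (hcl.isClosedMap _ hU.isClosed_compl).isOpen_compl, ⟨hcl.injective, hsurj⟩⟩
    exact hhomeo.isOpenMap
  show IsOpenMap f'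
  intro W hW
  have key : f' '' W = p '' (f'₀ '' (p' ⁻¹' W)) := by
    ext y
    constructor
    · rintro ⟨w, hw, rfl⟩
      obtain ⟨y₀, hy₀⟩ := p.surjective (f' w)
      obtain ⟨x, hx1, hx2⟩ := Scheme.Pullback.exists_preimage_pullback (f := f') (g := p) w y₀
        hy₀.symm
      exact ⟨y₀, ⟨x, by show p' x ∈ W; rw [hx1]; exact hw, hx2⟩, hy₀⟩
    · rintro ⟨_, ⟨x, hx, rfl⟩, rfl⟩
      refine ⟨p' x, hx, ?_⟩
      rw [← Scheme.Hom.comp_apply, ← Scheme.Hom.comp_apply, hA.w]
  rw [key]
  exact hpo _ (hopen₀ _ (hW.preimage p'.continuous))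

theorem universallyOpen_of_artinianLocal (A : Type u) [CommRing A] [IsArtinianRing A]
    [IsLocalRing A] {Z : Scheme.{u}} (f : Z ⟶ Spec (CommRingCat.of A)) : UniversallyOpen f := by
  let κ := IsLocalRing.ResidueField A
  let i : Spec (CommRingCat.of κ) ⟶ Spec (CommRingCat.of A) :=
    Spec.map (CommRingCat.ofHom (IsLocalRing.residue A))
  have hi : IsClosedImmersion i :=
    IsClosedImmersion.spec_of_surjective _ IsLocalRing.residue_surjective
  have hs : Surjective i := by
    constructor
    intro y
    have hy : y = IsLocalRing.closedPoint A := by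
      have hmax : y.asIdeal.IsMaximal :=
        (IsArtinianRing.isPrime_iff_isMaximal (R := A) y.asIdeal).mp y.isPrime
      exact PrimeSpectrum.ext (IsLocalRing.eq_maximalIdeal hmax)
    refine ⟨IsLocalRing.closedPoint κ, ?_⟩
    rw [hy]
    exact (IsLocalRing.comap_closedPoint (IsLocalRing.residue A))
  have h₀ : UniversallyOpen (pullback.snd f i) := inferInstance
  exact universallyOpen_of_surjective_closedImmersion f i h₀

end Groth.Agent.Lib.Helper4.UOBase
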