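import Mathlib.AlgebraicGeometry.Sites.Fpqc
import Mathlib.AlgebraicGeometry.Morphisms.UniversallyOpen
import Mathlib.AlgebraicGeometry.PullbackCarrier
import Mathlib.Tactic

set_option autoImplicit false
universe u
open CategoryTheory AlgebraicGeometry TopologicalSpace Limits MorphismProperty

namespace Groth.Agent.Lib.Helper4.UnivOpenFppf

/-- universally open can be checked after precomposing with a jointly surjective family -/
theorem universallyOpen_of_jointly_surjective {X Y : Scheme.{u}} (f : X ⟶ Y) {ι : Type*}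
    (U : ι → Scheme.{u}) (g : ∀ i, U i ⟶ X) (hsurj : ∀ x : X, ∃ i, x ∈ Set.range (g i))
    (h : ∀ i, UniversallyOpen (g i ≫ f)) : UniversallyOpen f := by
  constructor
  intro X' Y' i₁ i₂ f' hpb
  -- base change of the family
  have hopen : ∀ i, IsOpenMap (pullback.snd (g i) i₁ ≫ f') := by
    intro i
    have hsq : IsPullback (pullback.snd (g i) i₁ ≫ f') (pullback.fst (g i) i₁) i₂ (g i ≫ f) := by
      have h1 : IsPullback (pullback.snd (g i) i₁) (pullback.fst (g i) i₁) i₁ (g i) :=
        (IsPullback.of_hasPullback (g i) i₁).flip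
      exact h1.paste_horiz hpb
    exact (h i).universally_isOpenMap _ _ _ hsq
  intro O hO
  have hcover : (f' : X' → Y') '' O = ⋃ i, (pullback.snd (g i) i₁ ≫ f') '' (pullback.snd (g i) i₁ ⁻¹' O) := by
    ext y
    simp only [Set.mem_image, Set.mem_iUnion, Set.mem_preimage]
    constructor
    · rintro ⟨x', hx', rfl⟩
      obtain ⟨i, u, hu⟩ := hsurj (i₁ x')
      obtain ⟨z, hz1, hz2⟩ := Scheme.Pullback.exists_preimage_pullback u x' hu
      exact ⟨i, z, by rw [hz2]; exact hx', by rw [Scheme.Hom.comp_apply, hz2]⟩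
    · rintro ⟨i, z, hz, rfl⟩
      exact ⟨pullback.snd (g i) i₁ z, hz, by rw [Scheme.Hom.comp_apply]⟩
  rw [hcover]
  exact isOpen_iUnion fun i => hopen i _ (hO.preimage (pullback.snd (g i) i₁).continuous)

theorem main :
    MorphismProperty.IsLocalAtSource (@UniversallyOpen : MorphismProperty Scheme.{u})
      Scheme.fppfPrecoverage := by
  apply MorphismProperty.IsLocalAtSource.mk_of_iff_of_zeroHypercover
  intro X Y f 𝒰
  have hprop : ∀ i, Flat (𝒰.f i) ∧ LocallyOfFinitePresentation (𝒰.f i) := fun i =>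
    Scheme.Cover.map_prop (P := @Flat ⊓ @LocallyOfFinitePresentation) 𝒰 i
  constructor
  · intro hf i
    have := (hprop i).1
    have := (hprop i).2
    infer_instance
  · intro h
    apply universallyOpen_of_jointly_surjective f 𝒰.X 𝒰.f _ h
    intro x
    obtain ⟨i, y, hy⟩ := Scheme.Cover.exists_eq (K := Scheme.precoverage (@Flat ⊓ @LocallyOfFinitePresentation)) 𝒰 x
    exact ⟨i, y, hy⟩

end Groth.Agent.Lib.Helper4.UnivOpenFppf
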