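import Groth.Agent.Lib.Helper28.VeryAmpleImm
import Groth.Agent.Lib.Helper28.ProjSpaceBasic
set_option autoImplicit false
set_option backward.isDefEq.respectTransparency.types false
set_option linter.unusedSectionVars false
set_option linter.style.haveILetI false

universe u
open CategoryTheory CategoryTheory.Limits AlgebraicGeometry Opposite TopologicalSpace

noncomputable section
namespace Groth.Agent.Lib.Helper4.VA1
open Groth.Agent.Lib.Helper28 Groth.Agent.Lib.Helper28.QCohLoc Groth.Agent.Lib.Helper28.GenLocus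
  Groth.Agent.Lib.Helper28.PullbackInv Groth.Agent.Lib.Helper28.ProjUPUniq Groth.Agent.Lib.Helper28.ProjUPGeom
  Groth.Agent.Lib.Helper28.VeryAmpleImm

variable {X Y : Scheme.{u}}

set_option maxHeartbeats 800000 in
/-- **immersion from sections, exposing the preimages of the standard charts** -/
theorem exists_imm_of_sections [IsAffine Y] (q : X ⟶ Y) {M : X.Modules} (hM : PicF.IsInvertible M) (N : ℕ)
    (s : Fin (N + 1) → (Coh.structureModule X ⟶ M)) (I₀ : Set (Fin (N + 1)))
    (hcov : ∀ x : X, ∃ a ∈ I₀, x ∈ CohB1.genLocus M (s a))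
    (haff : ∀ a ∈ I₀, IsAffineOpen (CohB1.genLocus M (s a)))
    (hgenr : ∀ a ∈ I₀, ∀ z : Γ(X, CohB1.genLocus M (s a)),
      z ∈ Subring.closure ({c | ∃ k, res M (le_top : CohB1.genLocus M (s a) ≤ ⊤) (secOf (s k)) =
          (c • res M (le_top : CohB1.genLocus M (s a) ≤ ⊤) (secOf (s a)) : Γ(M, CohB1.genLocus M (s a)))} ∪
        Set.range (q.appLE ⊤ (CohB1.genLocus M (s a)) le_top))) :
    ∃ i : X ⟶ CohB1.ProjSpaceOver N Y, IsImmersion i ∧
      i ≫ pullback.snd (CohB1.ProjSpace.toSpec N (ULift.{u} ℤ)) (specULiftZIsTerminal.from Y) = q ∧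
      Nonempty (M ≅ (Scheme.Modules.pullback i).obj (Twist.twistOver N Y 1)) ∧
      ∀ k, ∃ D : (CohB1.ProjSpaceOver N Y).Opens, IsAffineOpen D ∧ i ⁻¹ᵁ D = CohB1.genLocus M (s k) := by
  classical
  obtain ⟨r, τ, hτ⟩ := exists_map_to_projSpace hM N s (fun x => by
    obtain ⟨a, -, ha⟩ := hcov x; exact ⟨a, ha⟩)
  obtain ⟨i, hi1, hi2⟩ : ∃ i : X ⟶ CohB1.ProjSpaceOver N Y,
      i ≫ pullback.fst (CohB1.ProjSpace.toSpec N (ULift.{u} ℤ)) (specULiftZIsTerminal.from Y) = r ∧
      i ≫ pullback.snd (CohB1.ProjSpace.toSpec N (ULift.{u} ℤ)) (specULiftZIsTerminal.from Y) = q :=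
    ⟨pullback.lift r q (specULiftZIsTerminal.hom_ext _ _), pullback.lift_fst _ _ _, pullback.lift_snd _ _ _⟩
  subst hi1
  subst hi2
  have hfstaff : @IsAffineHom (CohB1.ProjSpaceOver N Y) (Proj (CohB1.polyGrading N (ULift.{u} ℤ)))
      (pullback.fst (CohB1.ProjSpace.toSpec N (ULift.{u} ℤ)) (specULiftZIsTerminal.from Y)) :=
    MorphismProperty.pullback_fst (P := @IsAffineHom) _ _
      (inferInstance : IsAffineHom (specULiftZIsTerminal.from Y))
  refine ⟨i, ?_, rfl, ⟨?_⟩, ?_⟩
  · exact isImmersion_of_sections' (P' := CohB1.ProjSpaceOver N Y) (CohB1.polyGrading N (ULift.{u} ℤ))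
      (pullback.fst (CohB1.ProjSpace.toSpec N (ULift.{u} ℤ)) (specULiftZIsTerminal.from Y))
      (pullback.snd (CohB1.ProjSpace.toSpec N (ULift.{u} ℤ)) (specULiftZIsTerminal.from Y)) i τ
      (projSpace_cover N _) (fun k : Fin (N + 1) => (MvPolynomial.X k : MvPolynomial (Fin (N + 1)) (ULift.{u} ℤ)))
      (fun k => MvPolynomial.isHomogeneous_X _ k) I₀ s hτ hcov haff hgenr
  · exact τ.symm ≪≫ ((Scheme.Modules.pullbackComp i _).app _).symm
  · intro k
    refine ⟨pullback.fst (CohB1.ProjSpace.toSpec N (ULift.{u} ℤ)) (specULiftZIsTerminal.from Y) ⁻¹ᵁ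
      Proj.basicOpen (CohB1.polyGrading N (ULift.{u} ℤ)) (MvPolynomial.X k), ?_, ?_⟩
    · exact (Proj.isAffineOpen_basicOpen _ _ (MvPolynomial.isHomogeneous_X _ k) one_pos).preimage _
    · have h1 := preimage_basicOpen_eq_genLocus (CohB1.polyGrading N (ULift.{u} ℤ))
        (i ≫ pullback.fst (CohB1.ProjSpace.toSpec N (ULift.{u} ℤ)) (specULiftZIsTerminal.from Y)) τ
        (projSpace_cover N _) (MvPolynomial.isHomogeneous_X (ULift.{u} ℤ) k)
      refine h1.trans ?_
      congr 1
      refine Eq.trans ?_ (ofSection_secOf (s k))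
      congr 1
      exact hτ k


/-- the family of sections assembled from the local data, with a prescribed extra section -/
def famSec' {M : X.Modules} {ι : Type u} {κ : ι → ℕ} (σ : Coh.structureModule X ⟶ M)
    (s : ι → (Coh.structureModule X ⟶ M)) (sk : ∀ i, Fin (κ i) → (Coh.structureModule X ⟶ M)) :
    Option (Σ i : ι, Option (Fin (κ i))) → (Coh.structureModule X ⟶ M)
  | none => σ
  | some ⟨i, none⟩ => s i
  | some ⟨i, some j⟩ => sk i j

set_option maxHeartbeats 800000 in
/-- for `L` ample and `n` large, every section of `L^n ⊗ L'` is the pullback of a coordinate hyperplane under an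
immersion into a projective space over the affine base -/
theorem exists_imm_with_section [IsAffine Y] (q : X ⟶ Y) [LocallyOfFiniteType q]
    {L L' : X.Modules} (hL : CohB1.IsAmple L) (hL' : PicF.IsInvertible L') :
    ∃ n₀ : ℕ, ∀ n : ℕ, n₀ ≤ n → ∀ σ : Coh.structureModule X ⟶ CohB1.tensorMod (CohB1.tensorPow L n) L',
      ∃ (N : ℕ) (i : X ⟶ CohB1.ProjSpaceOver N Y), IsImmersion i ∧
        i ≫ pullback.snd (CohB1.ProjSpace.toSpec N (ULift.{u} ℤ)) (specULiftZIsTerminal.from Y) = q ∧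
        ∃ D : (CohB1.ProjSpaceOver N Y).Opens, IsAffineOpen D ∧ i ⁻¹ᵁ D = CohB1.genLocus _ σ := by
  classical
  have : CompactSpace X := hL.2.1
  have hgen : ∀ U : X.affineOpens, ∃ (k : ℕ) (b : Fin k → Γ(X, U.1)),
      ∀ z : Γ(X, U.1), z ∈ Subring.closure (Set.range b ∪ Set.range (q.appLE ⊤ U.1 le_top)) :=
    fun U => exists_generators q (isAffineOpen_top Y) U.2 le_top
  choose k b hb using hgen
  obtain ⟨ι, hι, U, hUcov, n₀, hn₀⟩ := VeryAmpleSec.exists_cover_sections hL hL' k b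
  refine ⟨n₀, fun n hn σ => ?_⟩
  have key := hn₀ n hn
  choose s sk hloc hratio using key
  have hM : PicF.IsInvertible (CohB1.tensorMod (CohB1.tensorPow L n) L') :=
    isInvertible_tensorMod (isInvertible_tensorPow hL.1 n) hL'
  obtain ⟨N, hN⟩ : ∃ N : ℕ, Fintype.card (Option (Σ i : ι, Option (Fin (k (U i))))) = N + 1 :=
    ⟨_, Fintype.card_option⟩
  let e : Option (Σ i : ι, Option (Fin (k (U i)))) ≃ Fin (N + 1) := Fintype.equivFinOfCardEq hN
  have hc1 : ∀ x : X, ∃ a ∈ {a | ∃ i, e.symm a = some ⟨i, none⟩},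
      x ∈ CohB1.genLocus _ (famSec' σ s sk (e.symm a)) := by
    intro x
    obtain ⟨i, hi⟩ := hUcov x
    refine ⟨e (some ⟨i, none⟩), ⟨i, e.symm_apply_apply _⟩, ?_⟩
    rw [e.symm_apply_apply]
    show x ∈ CohB1.genLocus _ (s i)
    rw [hloc i]
    exact hi
  have hc2 : ∀ a ∈ {a | ∃ i, e.symm a = some ⟨i, none⟩},
      IsAffineOpen (CohB1.genLocus _ (famSec' σ s sk (e.symm a))) := by
    rintro a ⟨i, hai⟩
    rw [hai]
    show IsAffineOpen (CohB1.genLocus _ (s i))
    rw [hloc i]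
    exact (U i).2
  obtain ⟨i, hi, hiq, -, hD⟩ := exists_imm_of_sections q hM N (fun a => famSec' σ s sk (e.symm a))
    {a | ∃ i, e.symm a = some ⟨i, none⟩} hc1 hc2 (by
      rintro a ⟨i, hai⟩
      refine mem_closure_of_ratios q (fun a => famSec' σ s sk (e.symm a)) a (U i).1 ?_ (b (U i)) (hb (U i)) ?_
      · show CohB1.genLocus _ (famSec' σ s sk (e.symm a)) = (U i).1
        rw [hai]
        exact hloc i
      · intro j
        refine ⟨e (some ⟨i, some j⟩), ?_⟩
        show res _ _ (secOf (famSec' σ s sk (e.symm (e (some ⟨i, some j⟩))))) =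
          (b (U i) j • res _ _ (secOf (famSec' σ s sk (e.symm a))) :
            Γ(CohB1.tensorMod (CohB1.tensorPow L n) L', (U i).1))
        rw [e.symm_apply_apply, hai]
        exact hratio i j)
  obtain ⟨D, hD1, hD2⟩ := hD (e none)
  refine ⟨N, i, hi, hiq, D, hD1, ?_⟩
  rw [hD2]
  show CohB1.genLocus _ (famSec' σ s sk (e.symm (e none))) = _
  rw [e.symm_apply_apply]
  rfl


/-- a proper immersion is a closed immersion -/
theorem isClosedImmersion_of_isImmersion_of_isProper {P : Scheme.{u}} (i : X ⟶ P) [IsImmersion i]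
    [IsProper i] : IsClosedImmersion i :=
  IsClosedImmersion.of_isPreimmersion i (i.isClosedMap.isClosed_range)

/-- **on a scheme proper over an affine base, the non-vanishing locus of a section of an ample invertible module
is affine** -/
theorem isAffineOpen_genLocus_of_isAmple [IsAffine Y] (q : X ⟶ Y) [IsProper q] {L : X.Modules}
    (hL : CohB1.IsAmple L) (σ₀ : Coh.structureModule X ⟶ L) : IsAffineOpen (CohB1.genLocus L σ₀) := by
  obtain ⟨n₀, h⟩ := exists_imm_with_section q hL hL.1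
  obtain ⟨N, i, hi, hiq, D, hD, hpre⟩ := h (n₀ + 1) (by omega) (smulSec (spow σ₀ (n₀ + 1)) σ₀)
  have h1 : CohB1.genLocus _ (smulSec (spow σ₀ (n₀ + 1)) σ₀) = CohB1.genLocus L σ₀ := by
    rw [genLocus_smulSec (isInvertible_tensorPow hL.1 (n₀ + 1)) hL.1, genLocus_spow hL.1 σ₀ (n₀ + 1) (by omega),
      inf_idem]
  rw [← h1, ← hpre]
  haveI : IsProper (CohB1.ProjSpaceOver.toBase N Y) := ProjSpaceBasic.isProper_toBase N Y
  haveI : IsProper (i ≫ CohB1.ProjSpaceOver.toBase N Y) := by
    have : i ≫ CohB1.ProjSpaceOver.toBase N Y = q := hiq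
    rw [this]; infer_instance
  haveI : IsProper i := IsProper.of_comp i (CohB1.ProjSpaceOver.toBase N Y)
  haveI := isClosedImmersion_of_isImmersion_of_isProper i
  exact hD.preimage i

end Groth.Agent.Lib.Helper4.VA1
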