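import Groth.Agent.Lib.Helper4.CM1
import Groth.Agent.Lib.Helper28.TwistGG
set_option autoImplicit false
set_option backward.isDefEq.respectTransparency.types false
set_option linter.unusedSectionVars false
set_option linter.style.haveILetI false

universe u
open CategoryTheory CategoryTheory.Limits AlgebraicGeometry Opposite TopologicalSpace TensorProduct MonoidalCategory

noncomputable section
namespace Groth.Agent.Lib.Helper4.VA2
open Groth.Agent.Lib.Helper28 Groth.Agent.Lib.Helper28.QCohLoc Groth.Agent.Lib.Helper28.GenLocus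
  Groth.Agent.Lib.Helper28.TensorGen Groth.Agent.Lib.Helper4.CM1 Groth.Agent.Lib.Helper4.GPEnd

variable {X : Scheme.{u}}

/-- the left unit isomorphism of the sectionwise tensor product -/
def unitorPreL (F : X.Modules) :
    (CohB1.tensorPre (Coh.structureModule X) F : X.PresheafOfModules) ≅ F.val :=
  (λ_ (CohB1.toPMod F) : (CohB1.tensorPre (Coh.structureModule X) F : CohB1.PMod X) ≅ (CohB1.toPMod F : CohB1.PMod X))

/-- the left unitor `O ⊗ F ≅ F` -/
def unitorL (F : X.Modules) : CohB1.tensorMod (Coh.structureModule X) F ≅ F :=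
  (CohB1.sheafifyMod X).mapIso (unitorPreL F) ≪≫
    (asIso (PresheafOfModules.sheafificationAdjunction.{u, u, u, u}
      (J := Opens.grothendieckTopology X) (𝟙 X.ringCatSheaf.obj)).counit).app F

theorem unitorPreL_hom_tmul (F : X.Modules) (U : X.Opens) (t : F.val.obj (op U))
    (r : X.ringCatSheaf.obj.obj (op U)) :
    ((unitorPreL F).hom.app (op U)).hom
        (((r : (Coh.structureModule X).val.obj (op U)) ⊗ₜ t :
          ↥((CohB1.tensorPre (Coh.structureModule X) F).obj (op U)))) = r • t := by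
  change ((λ_ (CohB1.toPMod F)).hom.app (op U)).hom _ = _
  simp [PresheafOfModules.leftUnitor_hom_app]
  rfl

theorem unitorL_tmul (F : X.Modules) (U : X.Opens) (t : F.val.obj (op U)) (r : X.ringCatSheaf.obj.obj (op U)) :
    ((unitorL F).hom.val.app (op U)).hom
        (SecTwist.tmul (Coh.structureModule X) F U (r : (Coh.structureModule X).val.obj (op U)) t) = r • t := by
  let adj := PresheafOfModules.sheafificationAdjunction.{u, u, u, u}
    (J := Opens.grothendieckTopology X) (𝟙 X.ringCatSheaf.obj)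
  let P : X.PresheafOfModules := CohB1.tensorPre (Coh.structureModule X) F
  let x : ↥((CohB1.tensorPre (Coh.structureModule X) F).obj (op U)) :=
    (r : (Coh.structureModule X).val.obj (op U)) ⊗ₜ t
  have natU : ((adj.unit.app F.val).app (op U)).hom (((unitorPreL F).hom.app (op U)).hom x) =
      ((((CohB1.sheafifyMod X).map (unitorPreL F).hom).val.app (op U)).hom
        (((adj.unit.app P).app (op U)).hom x)) :=
    congrArg (fun φ => (PresheafOfModules.Hom.app φ (op U)).hom x) (adj.unit.naturality (unitorPreL F).hom)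
  rw [unitorPreL_hom_tmul] at natU
  have triU : (((adj.counit.app F).val.app (op U)).hom
      (((adj.unit.app F.val).app (op U)).hom (r • t))) = r • t :=
    congrArg (fun φ => (PresheafOfModules.Hom.app φ (op U)).hom (r • t)) (adj.right_triangle_components F)
  change ((((CohB1.sheafifyMod X).map (unitorPreL F).hom ≫ adj.counit.app F).val.app (op U)).hom
      (((adj.unit.app P).app (op U)).hom x)) = r • t
  rw [← triU, natU]
  rfl


theorem unitorL_hom_app (F : X.Modules) (U : X.Opens) (t : Γ(F, U)) (r : Γ(X, U)) :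
    (unitorL F).hom.app U (tmulSec (Coh.structureModule X) F (show Γ(Coh.structureModule X, U) from r) t) =
      (r • t : Γ(F, U)) :=
  unitorL_tmul F U t r

theorem unitorL_inv_app (F : X.Modules) (U : X.Opens) (t : Γ(F, U)) :
    (unitorL F).inv.app U t = tmulSec (Coh.structureModule X) F (one U) t := by
  have h1 := unitorL_hom_app F U t 1
  rw [one_smul] at h1
  have h2 : (unitorL F).inv.app U ((unitorL F).hom.app U
      (tmulSec (Coh.structureModule X) F (one U) t)) = tmulSec (Coh.structureModule X) F (one U) t :=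
    congrArg (fun φ : CohB1.tensorMod (Coh.structureModule X) F ⟶ CohB1.tensorMod (Coh.structureModule X) F =>
      φ.app U (tmulSec (Coh.structureModule X) F (one U) t)) (unitorL F).hom_inv_id
  rw [← h2]
  congr 1
  exact h1.symm

/-- every section of `O ⊗ F` is of the form `1 ⊗ t` -/
theorem exists_eq_tmul_one (F : X.Modules) (U : X.Opens) (y : Γ(CohB1.tensorMod (Coh.structureModule X) F, U)) :
    y = tmulSec (Coh.structureModule X) F (one U) ((unitorL F).hom.app U y) := by
  rw [← unitorL_inv_app]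
  exact (congrArg (fun φ : CohB1.tensorMod (Coh.structureModule X) F ⟶
    CohB1.tensorMod (Coh.structureModule X) F => φ.app U y) (unitorL F).hom_inv_id).symm

section ratio

variable {L : X.Modules} (σ : Coh.structureModule X ⟶ L)

/-- the canonical generator of `L` over `X_σ` -/
abbrev gσ : Γ(L, CohB1.genLocus L σ) := res L (le_top : CohB1.genLocus L σ ≤ ⊤) (secOf σ)

theorem hgσ : IsGen L (CohB1.genLocus L σ) (gσ σ) := isGen_genLocus σ

/-- the function `t / σ^n` on `X_σ` -/
def ratio (n : ℕ) (t : Γ(CohB1.tensorPow L n, ⊤)) : Γ(X, CohB1.genLocus L σ) :=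
  (isGen_gpow (hgσ σ) n).coef le_rfl (res _ (le_top : CohB1.genLocus L σ ≤ ⊤) t)

theorem ratio_eq (n : ℕ) (t : Γ(CohB1.tensorPow L n, ⊤)) (c : Γ(X, CohB1.genLocus L σ))
    (h : res _ (le_top : CohB1.genLocus L σ ≤ ⊤) t = (c • gpow L (gσ σ) n : Γ(CohB1.tensorPow L n, _))) :
    ratio σ n t = c := by
  apply (isGen_gpow (hgσ σ) n).coef_eq
  rw [res_self, h]

theorem ratio_spec (n : ℕ) (t : Γ(CohB1.tensorPow L n, ⊤)) :
    res _ (le_top : CohB1.genLocus L σ ≤ ⊤) t =
      (ratio σ n t • gpow L (gσ σ) n : Γ(CohB1.tensorPow L n, _)) := by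
  have := (isGen_gpow (hgσ σ) n).coef_smul le_rfl (res _ (le_top : CohB1.genLocus L σ ≤ ⊤) t)
  rw [res_self] at this
  exact this.symm

theorem ratio_add (n : ℕ) (t t' : Γ(CohB1.tensorPow L n, ⊤)) :
    ratio σ n (t + t') = ratio σ n t + ratio σ n t' := by
  unfold ratio
  rw [res_add, IsGen.coef_add]

theorem ratio_zero (n : ℕ) : ratio σ n 0 = 0 := by
  apply ratio_eq
  rw [res_zero, zero_smul]

theorem ratio_smul (n : ℕ) (c : Γ(X, ⊤)) (t : Γ(CohB1.tensorPow L n, ⊤)) :
    ratio σ n (c • t : Γ(CohB1.tensorPow L n, ⊤)) = resO (le_top : CohB1.genLocus L σ ≤ ⊤) c * ratio σ n t := by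
  unfold ratio
  rw [res_smul, IsGen.coef_smul_left]

theorem ratio_tmul (n : ℕ) (p : Γ(CohB1.tensorPow L n, ⊤)) (τ : Γ(L, ⊤)) :
    ratio σ (n + 1) (tmulSec (CohB1.tensorPow L n) L p τ) =
      ratio σ n p * (hgσ σ).coef le_rfl (res L (le_top : CohB1.genLocus L σ ≤ ⊤) τ) := by
  apply ratio_eq
  have h1 := (hgσ σ).coef_smul le_rfl (res L (le_top : CohB1.genLocus L σ ≤ ⊤) τ)
  rw [res_self] at h1
  show res (CohB1.tensorMod (CohB1.tensorPow L n) L) (le_top : CohB1.genLocus L σ ≤ ⊤)
      (tmulSec (CohB1.tensorPow L n) L p τ) =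
    ((ratio σ n p * (hgσ σ).coef le_rfl (res L (le_top : CohB1.genLocus L σ ≤ ⊤) τ)) •
      tmulSec (CohB1.tensorPow L n) L (gpow L (gσ σ) n) (gσ σ) :
        Γ(CohB1.tensorMod (CohB1.tensorPow L n) L, CohB1.genLocus L σ))
  rw [tmulSec_res, ratio_spec σ n p]
  conv_lhs => rw [← h1]
  rw [tmulSec_smul_left, tmulSec_smul_right, ← mul_smul]

end ratio


section closure

variable {Y : Scheme.{u}} (q : X ⟶ Y) {L : X.Modules} (σ : Coh.structureModule X ⟶ L)

/-- the ratios `τ / σ` of global sections of `L` -/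
def S : Set Γ(X, CohB1.genLocus L σ) :=
  {c | ∃ τ : Coh.structureModule X ⟶ L,
    res L (le_top : CohB1.genLocus L σ ≤ ⊤) (secOf τ) = (c • gσ σ : Γ(L, CohB1.genLocus L σ))}

/-- the subring of `O(X_σ)` generated by the ratios and the functions from the base -/
def C : Subring Γ(X, CohB1.genLocus L σ) :=
  Subring.closure (S σ ∪ Set.range (q.appLE ⊤ (CohB1.genLocus L σ) le_top))

theorem coef_mem_S (τ : Γ(L, ⊤)) :
    (hgσ σ).coef le_rfl (res L (le_top : CohB1.genLocus L σ ≤ ⊤) τ) ∈ S σ := by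
  refine ⟨TwistGen.ofSection L τ, ?_⟩
  rw [secOf_ofSection]
  have := (hgσ σ).coef_smul le_rfl (res L (le_top : CohB1.genLocus L σ ≤ ⊤) τ)
  rw [res_self] at this
  exact this.symm

theorem resO_mem_S (c : Γ(X, ⊤)) : resO (le_top : CohB1.genLocus L σ ≤ ⊤) c ∈ S σ := by
  refine ⟨TwistGen.ofSection L (c • secOf σ : Γ(L, ⊤)), ?_⟩
  rw [secOf_ofSection, res_smul]

/-- the spanning hypothesis in degree zero is automatic -/
theorem mem_span_tmul_zero (F : X.Modules) (t : Γ(CohB1.tensorMod (Coh.structureModule X) F, ⊤)) :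
    t ∈ Submodule.span Γ(X, ⊤) (Set.range fun p : Γ(Coh.structureModule X, ⊤) × Γ(F, ⊤) =>
      tmulSec (Coh.structureModule X) F p.1 p.2) := by
  rw [exists_eq_tmul_one F ⊤ t]
  exact Submodule.subset_span ⟨(_, _), rfl⟩

/-- **ratios of sections of all powers lie in the subring generated by the ratios of degree one**, when the section
ring is generated in degree one -/
theorem ratio_mem
    (hng : ∀ n : ℕ, 1 ≤ n → ∀ t : Γ(CohB1.tensorMod (CohB1.tensorPow L n) L, ⊤),
      t ∈ Submodule.span Γ(X, ⊤) (Set.range fun p : Γ(CohB1.tensorPow L n, ⊤) × Γ(L, ⊤) =>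
        tmulSec (CohB1.tensorPow L n) L p.1 p.2)) :
    ∀ (n : ℕ) (t : Γ(CohB1.tensorPow L n, ⊤)), ratio σ n t ∈ C q σ := by
  have hng' : ∀ n : ℕ, ∀ t : Γ(CohB1.tensorMod (CohB1.tensorPow L n) L, ⊤),
      t ∈ Submodule.span Γ(X, ⊤) (Set.range fun p : Γ(CohB1.tensorPow L n, ⊤) × Γ(L, ⊤) =>
        tmulSec (CohB1.tensorPow L n) L p.1 p.2) := by
    intro n
    rcases Nat.eq_zero_or_pos n with rfl | hn
    · exact fun t => mem_span_tmul_zero L t
    · exact hng n hn
  intro n
  induction n with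
  | zero =>
    intro t
    have h : ratio σ 0 t = resO (le_top : CohB1.genLocus L σ ≤ ⊤) (show Γ(X, ⊤) from t) := by
      apply ratio_eq
      show res (Coh.structureModule X) (le_top : CohB1.genLocus L σ ≤ ⊤) t =
        (resO (le_top : CohB1.genLocus L σ ≤ ⊤) (show Γ(X, ⊤) from t) • oneSec X _ : Γ(Coh.structureModule X, _))
      have h1 : resO (le_top : CohB1.genLocus L σ ≤ ⊤) (show Γ(X, ⊤) from t) * 1 =
          resO (le_top : CohB1.genLocus L σ ≤ ⊤) (show Γ(X, ⊤) from t) := mul_one _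
      exact h1.symm
    rw [h]
    exact Subring.subset_closure (Or.inl (resO_mem_S σ _))
  | succ n ih =>
    intro t
    have ht := hng' n t
    induction ht using Submodule.span_induction with
    | mem t ht =>
      obtain ⟨⟨p, τ⟩, rfl⟩ := ht
      have h1 := ratio_tmul σ n p τ
      have h2 : ratio σ (n + 1) (tmulSec (CohB1.tensorPow L n) L p τ) =
          ratio σ n p * (hgσ σ).coef le_rfl (res L (le_top : CohB1.genLocus L σ ≤ ⊤) τ) := h1
      exact h2 ▸ (C q σ).mul_mem (ih p) (Subring.subset_closure (Or.inl (coef_mem_S σ τ)))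
    | zero => exact (ratio_zero σ (n + 1)) ▸ (C q σ).zero_mem
    | add t t' _ _ iht iht' => exact (ratio_add σ (n + 1) t t') ▸ (C q σ).add_mem iht iht'
    | smul c t _ iht =>
      exact (ratio_smul σ (n + 1) c t) ▸
        (C q σ).mul_mem (Subring.subset_closure (Or.inl (resO_mem_S σ c))) iht


/-- **every function on `X_σ` is a ratio `t / σ^K`** (quasi-compact quasi-separated `X`) -/
theorem exists_ratio [CompactSpace X] [QuasiSeparatedSpace X] (hL : PicF.IsInvertible L)
    (z : Γ(X, CohB1.genLocus L σ)) :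
    ∃ (K : ℕ) (t : Γ(CohB1.tensorPow L K, ⊤)), ratio σ K t = z := by
  haveI : (Coh.structureModule X).IsQuasicoherent := inferInstance
  obtain ⟨k₀, h⟩ := exists_extension_qcoh_ge hL σ (Coh.structureModule X)
    (show Γ(Coh.structureModule X, CohB1.genLocus L σ) from z)
  obtain ⟨t', ht'⟩ := h k₀ le_rfl
  refine ⟨k₀, (unitorL (CohB1.tensorPow L k₀)).hom.app ⊤ t', ?_⟩
  apply ratio_eq
  rw [← app_res, ht']
  exact unitorL_hom_app (CohB1.tensorPow L k₀) _ _ z

/-- **every function on `X_σ` lies in the subring generated by the degree-one ratios and the base** -/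
theorem mem_C [CompactSpace X] [QuasiSeparatedSpace X] (hL : PicF.IsInvertible L)
    (hng : ∀ n : ℕ, 1 ≤ n → ∀ t : Γ(CohB1.tensorMod (CohB1.tensorPow L n) L, ⊤),
      t ∈ Submodule.span Γ(X, ⊤) (Set.range fun p : Γ(CohB1.tensorPow L n, ⊤) × Γ(L, ⊤) =>
        tmulSec (CohB1.tensorPow L n) L p.1 p.2))
    (z : Γ(X, CohB1.genLocus L σ)) : z ∈ C q σ := by
  obtain ⟨K, t, rfl⟩ := exists_ratio σ hL z
  exact ratio_mem q σ hng K t

end closure

end Groth.Agent.Lib.Helper4.VA2
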