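import Groth.Agent.Lib.Helper4.VA1
import Groth.Agent.Lib.Helper4.VA2
set_option autoImplicit false
set_option backward.isDefEq.respectTransparency.types false
set_option linter.unusedSectionVars false
set_option linter.style.haveILetI false

universe u
open CategoryTheory CategoryTheory.Limits AlgebraicGeometry Opposite TopologicalSpace

noncomputable section
namespace Groth.Agent.Lib.Helper4.VA3
open Groth.Agent.Lib.Helper28 Groth.Agent.Lib.Helper28.QCohLoc Groth.Agent.Lib.Helper28.GenLocus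
  Groth.Agent.Lib.Helper28.TensorGen Groth.Agent.Lib.Helper4.CM1 Groth.Agent.Lib.Helper4.VA1
  Groth.Agent.Lib.Helper4.VA2 Groth.Agent.Lib.Helper28.VeryAmpleImm

variable {X Y : Scheme.{u}}

/-- **closed immersion from sections** on a scheme proper over an affine base -/
theorem exists_closedImm_of_sections [IsAffine Y] (q : X ⟶ Y) [IsProper q] {L : X.Modules}
    (hL : CohB1.IsAmple L) (N : ℕ) (s : Fin (N + 1) → (Coh.structureModule X ⟶ L)) (I₀ : Set (Fin (N + 1)))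
    (hcov : ∀ x : X, ∃ a ∈ I₀, x ∈ CohB1.genLocus L (s a))
    (hgenr : ∀ a ∈ I₀, ∀ z : Γ(X, CohB1.genLocus L (s a)),
      z ∈ Subring.closure ({c | ∃ k, res L (le_top : CohB1.genLocus L (s a) ≤ ⊤) (secOf (s k)) =
          (c • res L (le_top : CohB1.genLocus L (s a) ≤ ⊤) (secOf (s a)) : Γ(L, CohB1.genLocus L (s a)))} ∪
        Set.range (q.appLE ⊤ (CohB1.genLocus L (s a)) le_top))) :
    ∃ i : X ⟶ CohB1.ProjSpaceOver N Y, IsClosedImmersion i ∧
      i ≫ pullback.snd (CohB1.ProjSpace.toSpec N (ULift.{u} ℤ)) (specULiftZIsTerminal.from Y) = q ∧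
      Nonempty (L ≅ (Scheme.Modules.pullback i).obj (Twist.twistOver N Y 1)) := by
  obtain ⟨i, hi, hiq, hiso, -⟩ := exists_imm_of_sections q hL.1 N s I₀ hcov
    (fun a _ => isAffineOpen_genLocus_of_isAmple q hL (s a)) hgenr
  haveI : IsProper (CohB1.ProjSpaceOver.toBase N Y) := ProjSpaceBasic.isProper_toBase N Y
  haveI : IsProper (i ≫ CohB1.ProjSpaceOver.toBase N Y) := by
    have : i ≫ CohB1.ProjSpaceOver.toBase N Y = q := hiq
    rw [this]; infer_instance
  haveI : IsProper i := IsProper.of_comp i (CohB1.ProjSpaceOver.toBase N Y)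
  exact ⟨i, isClosedImmersion_of_isImmersion_of_isProper i, hiq, hiso⟩

section fin

variable (q : X ⟶ Y) {L : X.Modules} (σ : Coh.structureModule X ⟶ L)

/-- ratios with numerators in a given set of sections -/
def Sfin (𝒯 : Set (Coh.structureModule X ⟶ L)) : Set Γ(X, CohB1.genLocus L σ) :=
  {c | ∃ τ ∈ 𝒯, res L (le_top : CohB1.genLocus L σ ≤ ⊤) (secOf τ) = (c • gσ σ : Γ(L, CohB1.genLocus L σ))}

theorem Sfin_mono {𝒯 𝒯' : Set (Coh.structureModule X ⟶ L)} (h : 𝒯 ⊆ 𝒯') : Sfin σ 𝒯 ⊆ Sfin σ 𝒯' := by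
  rintro c ⟨τ, hτ, hc⟩
  exact ⟨τ, h hτ, hc⟩

/-- the subring generated by the ratios with numerators in `𝒯` and the functions from the base -/
def Cfin (𝒯 : Set (Coh.structureModule X ⟶ L)) : Subring Γ(X, CohB1.genLocus L σ) :=
  Subring.closure (Sfin σ 𝒯 ∪ Set.range (q.appLE ⊤ (CohB1.genLocus L σ) le_top))

theorem Cfin_mono {𝒯 𝒯' : Set (Coh.structureModule X ⟶ L)} (h : 𝒯 ⊆ 𝒯') : Cfin q σ 𝒯 ≤ Cfin q σ 𝒯' :=
  Subring.closure_mono (Set.union_subset_union_left _ (Sfin_mono σ h))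

open Classical in
/-- membership in `C` only involves finitely many numerators -/
theorem exists_finset_of_mem_C {z : Γ(X, CohB1.genLocus L σ)} (hz : z ∈ C q σ) :
    ∃ T : Finset (Coh.structureModule X ⟶ L), z ∈ Cfin q σ (T : Set (Coh.structureModule X ⟶ L)) := by
  unfold C at hz
  induction hz using Subring.closure_induction with
  | mem z hz =>
    rcases hz with ⟨τ, hτ⟩ | hz
    · exact ⟨{τ}, Subring.subset_closure (Or.inl ⟨τ, by simp, hτ⟩)⟩
    · exact ⟨∅, Subring.subset_closure (Or.inr hz)⟩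
  | zero => exact ⟨∅, Subring.zero_mem _⟩
  | one => exact ⟨∅, Subring.one_mem _⟩
  | add x y _ _ hx hy =>
    obtain ⟨T, hT⟩ := hx
    obtain ⟨T', hT'⟩ := hy
    exact ⟨T ∪ T', Subring.add_mem _ (Cfin_mono q σ (by simp) hT) (Cfin_mono q σ (by simp) hT')⟩
  | neg x _ hx =>
    obtain ⟨T, hT⟩ := hx
    exact ⟨T, Subring.neg_mem _ hT⟩
  | mul x y _ _ hx hy =>
    obtain ⟨T, hT⟩ := hx
    obtain ⟨T', hT'⟩ := hy
    exact ⟨T ∪ T', Subring.mul_mem _ (Cfin_mono q σ (by simp) hT) (Cfin_mono q σ (by simp) hT')⟩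

end fin


open Classical in
set_option maxHeartbeats 800000 in
/-- **an ample invertible module whose section ring is generated in degree one is very ample**: on a scheme proper over
an affine base it gives a closed immersion into a projective space over the base -/
theorem exists_closedImm_of_normGen [IsAffine Y] (q : X ⟶ Y) [IsProper q] {L : X.Modules}
    (hL : CohB1.IsAmple L) (hgg : ∀ x : X, ∃ τ : Coh.structureModule X ⟶ L, x ∈ CohB1.genLocus L τ)
    (hng : ∀ n : ℕ, 1 ≤ n → ∀ t : Γ(CohB1.tensorMod (CohB1.tensorPow L n) L, ⊤),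
      t ∈ Submodule.span Γ(X, ⊤) (Set.range fun p : Γ(CohB1.tensorPow L n, ⊤) × Γ(L, ⊤) =>
        tmulSec (CohB1.tensorPow L n) L p.1 p.2)) :
    ∃ (N : ℕ) (i : X ⟶ CohB1.ProjSpaceOver N Y), IsClosedImmersion i ∧
      i ≫ pullback.snd (CohB1.ProjSpace.toSpec N (ULift.{u} ℤ)) (specULiftZIsTerminal.from Y) = q ∧
      Nonempty (L ≅ (Scheme.Modules.pullback i).obj (Twist.twistOver N Y 1)) := by
  haveI : CompactSpace X := hL.2.1
  haveI : QuasiSeparatedSpace X := quasiSeparatedSpace_of_quasiSeparated q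
  choose τ hτ using hgg
  obtain ⟨t₀, ht₀⟩ := isCompact_univ.elim_finite_subcover (fun x : X => (CohB1.genLocus L (τ x) : Set X))
    (fun x => (CohB1.genLocus L (τ x)).isOpen) (fun x _ => Set.mem_iUnion.2 ⟨x, hτ x⟩)
  have haff : ∀ x : X, IsAffineOpen (CohB1.genLocus L (τ x)) := fun x =>
    isAffineOpen_genLocus_of_isAmple q hL (τ x)
  choose k b hb using fun x : X => exists_generators q (isAffineOpen_top Y) (haff x) le_top
  choose T hT using fun (x : X) (j : Fin (k x)) =>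
    exists_finset_of_mem_C q (τ x) (mem_C q (τ x) hL.1 hng (b x j))
  let Tall : Finset (Coh.structureModule X ⟶ L) :=
    insert 0 (t₀.image τ ∪ t₀.biUnion (fun x => Finset.univ.biUnion (fun j => T x j)))
  have hne : Tall.Nonempty := ⟨0, Finset.mem_insert_self _ _⟩
  obtain ⟨N, hN⟩ : ∃ N, Tall.card = N + 1 := ⟨Tall.card - 1, by have := hne.card_pos; omega⟩
  let e : Tall ≃ Fin (N + 1) := Tall.equivFinOfCardEq hN
  let s : Fin (N + 1) → (Coh.structureModule X ⟶ L) := fun a => (e.symm a).1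
  have hs : ∀ (σ : Coh.structureModule X ⟶ L) (hσ : σ ∈ Tall), s (e ⟨σ, hσ⟩) = σ := fun σ hσ => by
    show (e.symm (e ⟨σ, hσ⟩)).1 = σ
    rw [e.symm_apply_apply]
  have hτmem : ∀ x ∈ t₀, τ x ∈ Tall := fun x hx =>
    Finset.mem_insert_of_mem (Finset.mem_union_left _ (Finset.mem_image_of_mem τ hx))
  have key : ∀ σ : Coh.structureModule X ⟶ L, (∃ x ∈ t₀, σ = τ x) → ∀ z : Γ(X, CohB1.genLocus L σ),
      z ∈ Cfin q σ (Tall : Set (Coh.structureModule X ⟶ L)) := by
    rintro σ ⟨x, hx, rfl⟩ z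
    refine (Subring.closure_le.2 ?_) (hb x z)
    rintro c (⟨j, rfl⟩ | hc)
    · refine Cfin_mono q (τ x) ?_ (hT x j)
      intro σ' hσ'
      refine Finset.mem_coe.2 (Finset.mem_insert_of_mem (Finset.mem_union_right _ ?_))
      exact Finset.mem_biUnion.2 ⟨x, hx, Finset.mem_biUnion.2 ⟨j, Finset.mem_univ _, hσ'⟩⟩
    · exact Subring.subset_closure (Or.inr hc)
  have hcov : ∀ x' : X, ∃ a ∈ {a | ∃ x ∈ t₀, s a = τ x}, x' ∈ CohB1.genLocus L (s a) := by
    intro x'
    obtain ⟨x, hx, hxx'⟩ := Set.mem_iUnion₂.1 (ht₀ (Set.mem_univ x'))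
    refine ⟨e ⟨τ x, hτmem x hx⟩, ⟨x, hx, hs _ _⟩, ?_⟩
    rw [hs]
    exact hxx'
  have hgenr : ∀ a ∈ {a | ∃ x ∈ t₀, s a = τ x}, ∀ z : Γ(X, CohB1.genLocus L (s a)),
      z ∈ Subring.closure ({c | ∃ k, res L (le_top : CohB1.genLocus L (s a) ≤ ⊤) (secOf (s k)) =
          (c • res L (le_top : CohB1.genLocus L (s a) ≤ ⊤) (secOf (s a)) : Γ(L, CohB1.genLocus L (s a)))} ∪
        Set.range (q.appLE ⊤ (CohB1.genLocus L (s a)) le_top)) := by
    rintro a ⟨x, hx, hax⟩ z
    have h1 := key (s a) ⟨x, hx, hax⟩ z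
    refine (Subring.closure_mono ?_) h1
    rintro c (⟨σ', hσ', hc⟩ | hc)
    · exact Or.inl ⟨e ⟨σ', hσ'⟩, by rw [hs]; exact hc⟩
    · exact Or.inr hc
  obtain ⟨i, hi⟩ := exists_closedImm_of_sections q hL N s {a | ∃ x ∈ t₀, s a = τ x} hcov hgenr
  exact ⟨N, i, hi⟩

end Groth.Agent.Lib.Helper4.VA3
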