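import Groth.Agent.Lib.Helper4.VA4
set_option autoImplicit false
set_option backward.isDefEq.respectTransparency.types false
set_option linter.unusedSectionVars false
set_option linter.style.haveILetI false

universe u
open CategoryTheory CategoryTheory.Limits AlgebraicGeometry Opposite TopologicalSpace

noncomputable section
namespace Groth.Agent.Lib.Helper4.VA5
open Groth.Agent.Lib.Helper28 Groth.Agent.Lib.Helper28.QCohLoc Groth.Agent.Lib.Helper28.GenLocus
  Groth.Agent.Lib.Helper28.TensorGen Groth.Agent.Lib.Helper4.CM1 Groth.Agent.Lib.Helper4.VA1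
  Groth.Agent.Lib.Helper4.VA2 Groth.Agent.Lib.Helper4.VA3 Groth.Agent.Lib.Helper28.VeryAmpleImm

variable {X Y : Scheme.{u}}

open Classical in
set_option maxHeartbeats 800000 in
/-- **closed immersion from a pointwise family of sections whose ratios generate the functions on their loci** -/
theorem exists_closedImm_of_mem_C [IsAffine Y] (q : X ⟶ Y) [IsProper q] {M : X.Modules}
    (hM : CohB1.IsAmple M) (τ : X → (Coh.structureModule X ⟶ M)) (hτ : ∀ x, x ∈ CohB1.genLocus M (τ x))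
    (hmem : ∀ (x : X) (z : Γ(X, CohB1.genLocus M (τ x))), z ∈ C q (τ x)) :
    ∃ (N : ℕ) (i : X ⟶ CohB1.ProjSpaceOver N Y), IsClosedImmersion i ∧
      i ≫ pullback.snd (CohB1.ProjSpace.toSpec N (ULift.{u} ℤ)) (specULiftZIsTerminal.from Y) = q ∧
      Nonempty (M ≅ (Scheme.Modules.pullback i).obj (Twist.twistOver N Y 1)) := by
  haveI : CompactSpace X := hM.2.1
  obtain ⟨t₀, ht₀⟩ := isCompact_univ.elim_finite_subcover (fun x : X => (CohB1.genLocus M (τ x) : Set X))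
    (fun x => (CohB1.genLocus M (τ x)).isOpen) (fun x _ => Set.mem_iUnion.2 ⟨x, hτ x⟩)
  have haff : ∀ x : X, IsAffineOpen (CohB1.genLocus M (τ x)) := fun x =>
    isAffineOpen_genLocus_of_isAmple q hM (τ x)
  choose k b hb using fun x : X => exists_generators q (isAffineOpen_top Y) (haff x) le_top
  choose T hT using fun (x : X) (j : Fin (k x)) => exists_finset_of_mem_C q (τ x) (hmem x (b x j))
  let Tall : Finset (Coh.structureModule X ⟶ M) :=
    insert 0 (t₀.image τ ∪ t₀.biUnion (fun x => Finset.univ.biUnion (fun j => T x j)))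
  have hne : Tall.Nonempty := ⟨0, Finset.mem_insert_self _ _⟩
  obtain ⟨N, hN⟩ : ∃ N, Tall.card = N + 1 := ⟨Tall.card - 1, by have := hne.card_pos; omega⟩
  let e : Tall ≃ Fin (N + 1) := Tall.equivFinOfCardEq hN
  let s : Fin (N + 1) → (Coh.structureModule X ⟶ M) := fun a => (e.symm a).1
  have hs : ∀ (σ : Coh.structureModule X ⟶ M) (hσ : σ ∈ Tall), s (e ⟨σ, hσ⟩) = σ := fun σ hσ => by
    show (e.symm (e ⟨σ, hσ⟩)).1 = σ
    rw [e.symm_apply_apply]
  have hτmem : ∀ x ∈ t₀, τ x ∈ Tall := fun x hx =>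
    Finset.mem_insert_of_mem (Finset.mem_union_left _ (Finset.mem_image_of_mem τ hx))
  have key : ∀ σ : Coh.structureModule X ⟶ M, (∃ x ∈ t₀, σ = τ x) → ∀ z : Γ(X, CohB1.genLocus M σ),
      z ∈ Cfin q σ (Tall : Set (Coh.structureModule X ⟶ M)) := by
    rintro σ ⟨x, hx, rfl⟩ z
    refine (Subring.closure_le.2 ?_) (hb x z)
    rintro c (⟨j, rfl⟩ | hc)
    · refine Cfin_mono q (τ x) ?_ (hT x j)
      intro σ' hσ'
      refine Finset.mem_coe.2 (Finset.mem_insert_of_mem (Finset.mem_union_right _ ?_))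
      exact Finset.mem_biUnion.2 ⟨x, hx, Finset.mem_biUnion.2 ⟨j, Finset.mem_univ _, hσ'⟩⟩
    · exact Subring.subset_closure (Or.inr hc)
  have hcov : ∀ x' : X, ∃ a ∈ {a | ∃ x ∈ t₀, s a = τ x}, x' ∈ CohB1.genLocus M (s a) := by
    intro x'
    obtain ⟨x, hx, hxx'⟩ := Set.mem_iUnion₂.1 (ht₀ (Set.mem_univ x'))
    refine ⟨e ⟨τ x, hτmem x hx⟩, ⟨x, hx, hs _ _⟩, ?_⟩
    rw [hs]
    exact hxx'
  have hgenr : ∀ a ∈ {a | ∃ x ∈ t₀, s a = τ x}, ∀ z : Γ(X, CohB1.genLocus M (s a)),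
      z ∈ Subring.closure ({c | ∃ k, res M (le_top : CohB1.genLocus M (s a) ≤ ⊤) (secOf (s k)) =
          (c • res M (le_top : CohB1.genLocus M (s a) ≤ ⊤) (secOf (s a)) : Γ(M, CohB1.genLocus M (s a)))} ∪
        Set.range (q.appLE ⊤ (CohB1.genLocus M (s a)) le_top)) := by
    rintro a ⟨x, hx, hax⟩ z
    have h1 := key (s a) ⟨x, hx, hax⟩ z
    refine (Subring.closure_mono ?_) h1
    rintro c (⟨σ', hσ', hc⟩ | hc)
    · exact Or.inl ⟨e ⟨σ', hσ'⟩, by rw [hs]; exact hc⟩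
    · exact Or.inr hc
  obtain ⟨i, hi⟩ := exists_closedImm_of_sections q hM N s {a | ∃ x ∈ t₀, s a = τ x} hcov hgenr
  exact ⟨N, i, hi⟩


section veronese

variable (q : X ⟶ Y) {L : X.Modules} (σ : Coh.structureModule X ⟶ L)

/-- multiply a section of `L^n` by `σ^j` -/
def mulPow (n : ℕ) : (j : ℕ) → Γ(CohB1.tensorPow L n, ⊤) → Γ(CohB1.tensorPow L (n + j), ⊤)
  | 0, t => t
  | j + 1, t => tmulSec (CohB1.tensorPow L (n + j)) L (mulPow n j t) (secOf σ)

theorem ratio_mulPow (n : ℕ) : ∀ (j : ℕ) (t : Γ(CohB1.tensorPow L n, ⊤)),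
    ratio σ (n + j) (mulPow σ n j t) = ratio σ n t
  | 0, t => rfl
  | j + 1, t => by
    have h1 := ratio_tmul σ (n + j) (mulPow σ n j t) (secOf σ)
    have h2 : (hgσ σ).coef le_rfl (res L (le_top : CohB1.genLocus L σ ≤ ⊤) (secOf σ)) = 1 :=
      (hgσ σ).coef_self
    rw [h2, mul_one, ratio_mulPow n j t] at h1
    exact h1

theorem ratio_zero_eq (c : Γ(CohB1.tensorPow L 0, ⊤)) :
    ratio σ 0 c = resO (le_top : CohB1.genLocus L σ ≤ ⊤) (show Γ(X, ⊤) from c) := by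
  apply ratio_eq
  show res (Coh.structureModule X) (le_top : CohB1.genLocus L σ ≤ ⊤) c =
    (resO (le_top : CohB1.genLocus L σ ≤ ⊤) (show Γ(X, ⊤) from c) • oneSec X _ : Γ(Coh.structureModule X, _))
  have h1 : resO (le_top : CohB1.genLocus L σ ≤ ⊤) (show Γ(X, ⊤) from c) * 1 =
      resO (le_top : CohB1.genLocus L σ ≤ ⊤) (show Γ(X, ⊤) from c) := mul_one _
  exact h1.symm

/-- the ratios `τ' / σ^d` of global sections of `L^d` -/
def Sd (d : ℕ) : Set Γ(X, CohB1.genLocus L σ) :=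
  {c | ∃ τ' : Coh.structureModule X ⟶ CohB1.tensorPow L d,
    res (CohB1.tensorPow L d) (le_top : CohB1.genLocus L σ ≤ ⊤) (secOf τ') =
      (c • gpow L (gσ σ) d : Γ(CohB1.tensorPow L d, CohB1.genLocus L σ))}

def Cd (d : ℕ) : Subring Γ(X, CohB1.genLocus L σ) :=
  Subring.closure (Sd σ d ∪ Set.range (q.appLE ⊤ (CohB1.genLocus L σ) le_top))

theorem ratio_mem_Sd (n j : ℕ) (t : Γ(CohB1.tensorPow L n, ⊤)) : ratio σ n t ∈ Sd σ (n + j) := by
  refine ⟨TwistGen.ofSection _ (mulPow σ n j t), ?_⟩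
  rw [secOf_ofSection, ratio_spec σ (n + j), ratio_mulPow]

theorem ratio_mem_Sd' {n d : ℕ} (h : n ≤ d) (t : Γ(CohB1.tensorPow L n, ⊤)) : ratio σ n t ∈ Sd σ d := by
  obtain ⟨j, rfl⟩ : ∃ j, d = n + j := ⟨d - n, by omega⟩
  exact ratio_mem_Sd σ n j t

theorem resO_mem_Sd (d : ℕ) (c : Γ(X, ⊤)) : resO (le_top : CohB1.genLocus L σ ≤ ⊤) c ∈ Sd σ d := by
  have h := ratio_mem_Sd' σ (Nat.zero_le d) (show Γ(CohB1.tensorPow L 0, ⊤) from c)
  rw [ratio_zero_eq] at h
  exact h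

theorem coef_mem_Sd {d : ℕ} (hd : 1 ≤ d) (τ : Γ(L, ⊤)) :
    (hgσ σ).coef le_rfl (res L (le_top : CohB1.genLocus L σ ≤ ⊤) τ) ∈ Sd σ d := by
  have h1 := ratio_tmul σ 0 (show Γ(CohB1.tensorPow L 0, ⊤) from (1 : Γ(X, ⊤))) τ
  rw [ratio_zero_eq] at h1
  have h2 : resO (le_top : CohB1.genLocus L σ ≤ ⊤) (1 : Γ(X, ⊤)) = 1 := map_one _
  have h3 : ratio σ (0 + 1) (tmulSec (CohB1.tensorPow L 0) L
      (show Γ(CohB1.tensorPow L 0, ⊤) from (1 : Γ(X, ⊤))) τ) =
      (hgσ σ).coef le_rfl (res L (le_top : CohB1.genLocus L σ ≤ ⊤) τ) := by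
    refine h1.trans ?_
    show resO (le_top : CohB1.genLocus L σ ≤ ⊤) (1 : Γ(X, ⊤)) * _ = _
    rw [h2, one_mul]
  rw [← h3]
  exact ratio_mem_Sd' σ (by omega) _

/-- **ratios of sections of all powers lie in the subring generated by the ratios of degree `d`**, when the section
ring is generated in degree one from degree `d` on -/
theorem ratio_mem_Cd (d : ℕ) (hd : 1 ≤ d)
    (hng : ∀ n : ℕ, d ≤ n → ∀ t : Γ(CohB1.tensorMod (CohB1.tensorPow L n) L, ⊤),
      t ∈ Submodule.span Γ(X, ⊤) (Set.range fun p : Γ(CohB1.tensorPow L n, ⊤) × Γ(L, ⊤) =>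
        tmulSec (CohB1.tensorPow L n) L p.1 p.2)) :
    ∀ (n : ℕ) (t : Γ(CohB1.tensorPow L n, ⊤)), ratio σ n t ∈ Cd q σ d := by
  intro n
  induction n with
  | zero => exact fun t => Subring.subset_closure (Or.inl (ratio_mem_Sd' σ (Nat.zero_le d) t))
  | succ n ih =>
    intro t
    by_cases hn : n + 1 ≤ d
    · exact Subring.subset_closure (Or.inl (ratio_mem_Sd' σ hn t))
    · have ht := hng n (by omega) t
      induction ht using Submodule.span_induction with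
      | mem t ht =>
        obtain ⟨⟨p, τ⟩, rfl⟩ := ht
        have h2 : ratio σ (n + 1) (tmulSec (CohB1.tensorPow L n) L p τ) =
            ratio σ n p * (hgσ σ).coef le_rfl (res L (le_top : CohB1.genLocus L σ ≤ ⊤) τ) := ratio_tmul σ n p τ
        exact h2 ▸ (Cd q σ d).mul_mem (ih p) (Subring.subset_closure (Or.inl (coef_mem_Sd σ hd τ)))
      | zero => exact (ratio_zero σ (n + 1)) ▸ (Cd q σ d).zero_mem
      | add t t' _ _ iht iht' => exact (ratio_add σ (n + 1) t t') ▸ (Cd q σ d).add_mem iht iht'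
      | smul c t _ iht =>
        exact (ratio_smul σ (n + 1) c t) ▸
          (Cd q σ d).mul_mem (Subring.subset_closure (Or.inl (resO_mem_Sd σ d c))) iht


theorem mem_C_spow [CompactSpace X] [QuasiSeparatedSpace X] (hL : PicF.IsInvertible L) (d : ℕ) (hd : 1 ≤ d)
    (hng : ∀ n : ℕ, d ≤ n → ∀ t : Γ(CohB1.tensorMod (CohB1.tensorPow L n) L, ⊤),
      t ∈ Submodule.span Γ(X, ⊤) (Set.range fun p : Γ(CohB1.tensorPow L n, ⊤) × Γ(L, ⊤) =>
        tmulSec (CohB1.tensorPow L n) L p.1 p.2))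
    (W : X.Opens) (hW : W = CohB1.genLocus L σ) (z : Γ(X, W)) :
    z ∈ Subring.closure ({c : Γ(X, W) | ∃ τ' : Coh.structureModule X ⟶ CohB1.tensorPow L d,
        res (CohB1.tensorPow L d) (le_top : W ≤ ⊤) (secOf τ') =
          (c • res (CohB1.tensorPow L d) (le_top : W ≤ ⊤) (secOf (spow σ d)) : Γ(CohB1.tensorPow L d, W))} ∪
      Set.range (q.appLE ⊤ W le_top)) := by
  subst hW
  obtain ⟨K, t, rfl⟩ := exists_ratio σ hL z
  have h := ratio_mem_Cd q σ d hd hng K t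
  have e : res (CohB1.tensorPow L d) (le_top : CohB1.genLocus L σ ≤ ⊤) (secOf (spow σ d)) =
      gpow L (gσ σ) d := by
    rw [secOf_spow, gpow_res]
  rw [e]
  exact h

end veronese

/-- **Veronese very ampleness**: if `L` is ample and globally generated on a scheme proper over an affine base and
its section ring is generated in degree one from degree `d ≥ 1` on, then `L^d` is very ample -/
theorem exists_closedImm_veronese [IsAffine Y] (q : X ⟶ Y) [IsProper q] {L : X.Modules}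
    (hL : CohB1.IsAmple L) (hgg : ∀ x : X, ∃ τ : Coh.structureModule X ⟶ L, x ∈ CohB1.genLocus L τ)
    (d : ℕ) (hd : 1 ≤ d)
    (hng : ∀ n : ℕ, d ≤ n → ∀ t : Γ(CohB1.tensorMod (CohB1.tensorPow L n) L, ⊤),
      t ∈ Submodule.span Γ(X, ⊤) (Set.range fun p : Γ(CohB1.tensorPow L n, ⊤) × Γ(L, ⊤) =>
        tmulSec (CohB1.tensorPow L n) L p.1 p.2)) :
    ∃ (N : ℕ) (i : X ⟶ CohB1.ProjSpaceOver N Y), IsClosedImmersion i ∧
      i ≫ pullback.snd (CohB1.ProjSpace.toSpec N (ULift.{u} ℤ)) (specULiftZIsTerminal.from Y) = q ∧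
      Nonempty (CohB1.tensorPow L d ≅ (Scheme.Modules.pullback i).obj (Twist.twistOver N Y 1)) := by
  haveI : CompactSpace X := hL.2.1
  haveI : QuasiSeparatedSpace X := quasiSeparatedSpace_of_quasiSeparated q
  choose τ hτ using hgg
  refine exists_closedImm_of_mem_C q (isAmple_tensorPow hL d hd) (fun x => spow (τ x) d)
    (fun x => by rw [genLocus_spow hL.1 _ d hd]; exact hτ x) (fun x z => ?_)
  exact mem_C_spow q (τ x) hL.1 d hd hng (CohB1.genLocus _ (spow (τ x) d))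
    (genLocus_spow hL.1 (τ x) d hd) z

end Groth.Agent.Lib.Helper4.VA5
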