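import Mathlib

namespace Groth.Agent.Lib.Helper4.ValQC
open AlgebraicGeometry CategoryTheory TopologicalSpace Opposite Topology Filter IsLocalRing

universe u

lemma eq_SpecMap_fromSpec {X : Scheme.{u}} {U : X.Opens} (hU : IsAffineOpen U) {R : CommRingCat.{u}}
    (g : Spec R ⟶ X) (h : ⊤ ≤ g ⁻¹ᵁ U) :
    g = Spec.map (g.appLE U ⊤ h ≫ (Scheme.ΓSpecIso R).hom) ≫ hU.fromSpec := by
  have h1 := hU.SpecMap_appLE_fromSpec g (isAffineOpen_top (Spec R)) h
  rw [IsAffineOpen.fromSpec_top, Scheme.isoSpec_Spec_inv] at h1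
  rw [Spec.map_comp, Category.assoc, h1, ← Category.assoc, ← Spec.map_comp, Iso.inv_hom_id,
    Spec.map_id, Category.id_comp]

/-- The ultraproduct of a family of valuation subrings of a fixed field. -/
def ultraVal {K : Type*} [Field K] {ι : Type*} (𝒰 : Ultrafilter ι) (W : ι → ValuationSubring K) :
    ValuationSubring K where
  carrier := {a | ∀ᶠ i in (𝒰 : Filter ι), a ∈ W i}
  mul_mem' := fun {a b} ha hb => by
    filter_upwards [ha, hb] with i h1 h2 using (W i).mul_mem _ _ h1 h2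
  one_mem' := Eventually.of_forall fun i => (W i).one_mem
  add_mem' := fun {a b} ha hb => by
    filter_upwards [ha, hb] with i h1 h2 using (W i).add_mem _ _ h1 h2
  zero_mem' := Eventually.of_forall fun i => (W i).zero_mem
  neg_mem' := fun {a} ha => by
    filter_upwards [ha] with i h1 using (W i).neg_mem _ h1
  mem_or_inv_mem' := fun a => by
    have : ∀ᶠ i in (𝒰 : Filter ι), a ∈ W i ∨ a⁻¹ ∈ W i :=
      Eventually.of_forall fun i => (W i).mem_or_inv_mem a
    exact Ultrafilter.eventually_or.1 this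

lemma mem_ultraVal {K : Type*} [Field K] {ι : Type*} (𝒰 : Ultrafilter ι)
    (W : ι → ValuationSubring K) (a : K) :
    a ∈ ultraVal 𝒰 W ↔ ∀ᶠ i in (𝒰 : Filter ι), a ∈ W i := Iff.rfl

section
variable {X Y : Scheme.{u}} (f : X ⟶ Y)

noncomputable def phi {ξ x : X} (h : ξ ⤳ x) : X.presheaf.stalk x ⟶ X.residueField ξ :=
  X.presheaf.stalkSpecializes h ≫ X.residue ξ

noncomputable def sig (U : X.Opens) {ξ : X} (hξ : ξ ∈ U) : Γ(X, U) ⟶ X.residueField ξ :=
  X.presheaf.germ U ξ hξ ≫ X.residue ξ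

lemma phi_germ {ξ x : X} (h : ξ ⤳ x) (U : X.Opens) (hx : x ∈ U) (s : Γ(X, U)) :
    (phi h).hom ((X.presheaf.germ U x hx).hom s) = (sig U (h.mem_open U.2 hx)).hom s := by
  have := TopCat.Presheaf.germ_stalkSpecializes X.presheaf hx h
  have h2 := congrArg (fun g => (g ≫ X.residue ξ).hom s) this
  exact h2

noncomputable def nMap {ξ x : X} (h : ξ ⤳ x) (W : ValuationSubring (X.residueField ξ))
    (hW : ∀ r, (phi h).hom r ∈ W) : Spec (CommRingCat.of W) ⟶ X :=
  Spec.map (CommRingCat.ofHom ((phi h).hom.codRestrict W.toSubring hW)) ≫ X.fromSpecStalk x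

lemma alg_nMap {ξ x : X} (h : ξ ⤳ x) (W : ValuationSubring (X.residueField ξ))
    (hW : ∀ r, (phi h).hom r ∈ W) :
    Spec.map (CommRingCat.ofHom (algebraMap W (X.residueField ξ))) ≫ nMap h W hW =
      X.fromSpecResidueField ξ := by
  rw [nMap, ← Spec.map_comp_assoc]
  have : CommRingCat.ofHom ((phi h).hom.codRestrict W.toSubring hW) ≫
      CommRingCat.ofHom (algebraMap W (X.residueField ξ)) = phi h := by
    ext r; rfl
  rw [this, phi, Spec.map_comp_assoc, Scheme.SpecMap_stalkSpecializes_fromSpecStalk]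
  rfl

lemma nMap_closedPoint {ξ x : X} (h : ξ ⤳ x) (W : ValuationSubring (X.residueField ξ))
    (hW : ∀ r, (phi h).hom r ∈ W)
    (hloc : IsLocalHom ((phi h).hom.codRestrict W.toSubring hW)) :
    nMap h W hW (closedPoint W) = x := by
  rw [nMap]
  have : Spec.map (CommRingCat.ofHom ((phi h).hom.codRestrict W.toSubring hW)) (closedPoint W) =
      closedPoint (X.presheaf.stalk x) :=
    comap_closedPoint (S := W) ((phi h).hom.codRestrict W.toSubring hW)
  exact (congrArg (X.fromSpecStalk x) this).trans Scheme.fromSpecStalk_closedPoint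

noncomputable def mMap {U : X.Opens} (hU : IsAffineOpen U) {ξ : X} (hξ : ξ ∈ U)
    (W : ValuationSubring (X.residueField ξ))
    (hW : ∀ b, (sig U hξ).hom b ∈ W) : Spec (CommRingCat.of W) ⟶ X :=
  Spec.map (CommRingCat.ofHom ((sig U hξ).hom.codRestrict W.toSubring hW)) ≫ hU.fromSpec

lemma sig_fromSpec {U : X.Opens} (hU : IsAffineOpen U) {ξ : X} (hξ : ξ ∈ U) :
    Spec.map (sig U hξ) ≫ hU.fromSpec = X.fromSpecResidueField ξ := by
  rw [sig, Spec.map_comp_assoc]
  have := hU.fromSpecStalk_eq_fromSpecStalk hξ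
  rw [IsAffineOpen.fromSpecStalk] at this
  rw [this]; rfl

lemma alg_mMap {U : X.Opens} (hU : IsAffineOpen U) {ξ : X} (hξ : ξ ∈ U)
    (W : ValuationSubring (X.residueField ξ))
    (hW : ∀ b, (sig U hξ).hom b ∈ W) :
    Spec.map (CommRingCat.ofHom (algebraMap W (X.residueField ξ))) ≫ mMap hU hξ W hW =
      X.fromSpecResidueField ξ := by
  rw [mMap, ← Spec.map_comp_assoc]
  have : CommRingCat.ofHom ((sig U hξ).hom.codRestrict W.toSubring hW) ≫
      CommRingCat.ofHom (algebraMap W (X.residueField ξ)) = sig U hξ := by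
    ext r; rfl
  rw [this, sig_fromSpec]

lemma mMap_mem {U : X.Opens} (hU : IsAffineOpen U) {ξ : X} (hξ : ξ ∈ U)
    (W : ValuationSubring (X.residueField ξ))
    (hW : ∀ b, (sig U hξ).hom b ∈ W) (p : Spec (CommRingCat.of W)) :
    mMap hU hξ W hW p ∈ U := by
  rw [mMap, Scheme.Hom.comp_apply]
  have : hU.fromSpec (Spec.map (CommRingCat.ofHom ((sig U hξ).hom.codRestrict W.toSubring hW)) p) ∈
      Set.range hU.fromSpec := ⟨_, rfl⟩
  rw [hU.range_fromSpec] at this
  exact this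

lemma mMap_comp_eq_nMap_comp {V : Y.Opens} (hV : IsAffineOpen V) {U : X.Opens}
    (hU : IsAffineOpen U) (e : U ≤ f ⁻¹ᵁ V) {ξ x : X} (h : ξ ⤳ x) (hξ : ξ ∈ U) (hx : f x ∈ V)
    (W : ValuationSubring (X.residueField ξ)) (hW1 : ∀ r, (phi h).hom r ∈ W)
    (hW2 : ∀ b, (sig U hξ).hom b ∈ W) :
    mMap hU hξ W hW2 ≫ f = nMap h W hW1 ≫ f := by
  rw [mMap, nMap, Category.assoc, Category.assoc, ← hV.SpecMap_appLE_fromSpec f hU e,
    ← Scheme.SpecMap_stalkMap_fromSpecStalk, ← hV.fromSpecStalk_eq_fromSpecStalk hx,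
    IsAffineOpen.fromSpecStalk]
  simp only [← Spec.map_comp_assoc]
  congr 2
  ext a
  change (sig U hξ).hom ((f.appLE V U e).hom a) =
    (phi h).hom ((f.stalkMap x).hom ((Y.presheaf.germ V (f x) hx).hom a))
  have h1 : (f.stalkMap x).hom ((Y.presheaf.germ V (f x) hx).hom a) =
      (X.presheaf.germ (f ⁻¹ᵁ V) x hx).hom ((f.app V).hom a) :=
    Scheme.Hom.germ_stalkMap_apply f V x hx a
  rw [h1, phi_germ h (f ⁻¹ᵁ V) hx]
  have h2 : (f.appLE V U e).hom a = (X.presheaf.map (homOfLE e).op).hom ((f.app V).hom a) := by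
    rw [Scheme.Hom.appLE]; rfl
  rw [h2, sig, sig]
  have h3 := X.presheaf.germ_res (homOfLE e) ξ hξ
  have h4 := congrArg (fun g => (g ≫ X.residue ξ).hom ((f.app V).hom a)) h3
  exact h4

lemma sig_appLE {V : Y.Opens} {U : X.Opens} (e : U ≤ f ⁻¹ᵁ V) {ξ x : X} (h : ξ ⤳ x) (hξ : ξ ∈ U)
    (hx : f x ∈ V) (a : Γ(Y, V)) :
    (sig U hξ).hom ((f.appLE V U e).hom a) =
      (phi h).hom ((X.presheaf.germ (f ⁻¹ᵁ V) x hx).hom ((f.app V).hom a)) := by
  rw [phi_germ h (f ⁻¹ᵁ V) hx]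
  have h2 : (f.appLE V U e).hom a = (X.presheaf.map (homOfLE e).op).hom ((f.app V).hom a) := by
    rw [Scheme.Hom.appLE]; rfl
  rw [h2, sig, sig]
  have h3 := X.presheaf.germ_res (homOfLE e) ξ hξ
  have h4 := congrArg (fun g => (g ≫ X.residue ξ).hom ((f.app V).hom a)) h3
  exact h4

theorem isCompact_inter [LocallyOfFiniteType f]
    (hf : ValuativeCriterion f) {V : Y.Opens} (hV : IsAffineOpen V) {Z : Set X}
    (hZ : IsClosed Z) (hZi : IsIrreducible Z) :
    IsCompact (Z ∩ (f ⁻¹ᵁ V : Set X)) := by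
  obtain ⟨ξ, hξ⟩ := QuasiSober.sober hZi hZ
  by_cases hξV : ξ ∈ f ⁻¹ᵁ V
  swap
  · have : Z ∩ (f ⁻¹ᵁ V : Set X) = ∅ := by
      ext z
      simp only [Set.mem_inter_iff, Set.mem_empty_iff_false, iff_false, not_and]
      intro hz hzV
      exact hξV ((hξ.specializes hz).mem_open (f ⁻¹ᵁ V).2 hzV)
    rw [this]; exact isCompact_empty
  rw [isCompact_iff_ultrafilter_le_nhds]
  intro 𝒰 h𝒰
  have hT : Z ∩ (f ⁻¹ᵁ V : Set X) ∈ 𝒰 := le_principal_iff.1 h𝒰
  have key : ∀ x : X, ∃ A : ValuationSubring (X.residueField ξ), ∀ h : ξ ⤳ x,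
      ∃ (hA : ∀ r, (phi h).hom r ∈ A), IsLocalHom ((phi h).hom.codRestrict A.toSubring hA) := by
    intro x
    by_cases h : ξ ⤳ x
    · obtain ⟨A, hA, hloc⟩ := exists_factor_valuationRing (phi h).hom
      exact ⟨A, fun _ => ⟨hA, hloc⟩⟩
    · exact ⟨⊤, fun h' => absurd h' h⟩
  choose W hW using key
  set 𝒱 := ultraVal 𝒰 W with h𝒱
  let ρ : Γ(Y, V) ⟶ X.residueField ξ := f.app V ≫ sig (f ⁻¹ᵁ V) hξV
  have hρ : ∀ a, ρ.hom a ∈ 𝒱 := by
    intro a
    rw [h𝒱, mem_ultraVal]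
    filter_upwards [hT] with x hx
    have h := hξ.specializes hx.1
    have := (hW x h).1 ((X.presheaf.germ (f ⁻¹ᵁ V) x hx.2).hom ((f.app V).hom a))
    rw [phi_germ h (f ⁻¹ᵁ V) hx.2] at this
    exact this
  let i₂ : Spec (CommRingCat.of 𝒱) ⟶ Y :=
    Spec.map (CommRingCat.ofHom (ρ.hom.codRestrict 𝒱.toSubring hρ)) ≫ hV.fromSpec
  have w : X.fromSpecResidueField ξ ≫ f =
      Spec.map (CommRingCat.ofHom (algebraMap 𝒱 (X.residueField ξ))) ≫ i₂ := by
    have h1 : CommRingCat.ofHom (ρ.hom.codRestrict 𝒱.toSubring hρ) ≫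
        CommRingCat.ofHom (algebraMap 𝒱 (X.residueField ξ)) = ρ := by ext r; rfl
    simp only [i₂]
    rw [← Spec.map_comp_assoc, h1]
    have hst : Spec.map (Y.presheaf.germ V (f ξ) hξV) ≫ hV.fromSpec = Y.fromSpecStalk (f ξ) :=
      hV.fromSpecStalk_eq_fromSpecStalk (x := f ξ) hξV
    rw [Scheme.fromSpecResidueField, Category.assoc, ← Scheme.SpecMap_stalkMap_fromSpecStalk,
      ← hst]
    simp only [← Spec.map_comp_assoc]
    congr 2
    simp only [ρ, sig]
    exact (Category.assoc _ _ _).trans (Scheme.Hom.germ_stalkMap_assoc f V ξ hξV _)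
  let S₀ : ValuativeCommSq f :=
    { R := 𝒱
      K := X.residueField ξ
      i₁ := X.fromSpecResidueField ξ
      i₂ := i₂
      commSq := ⟨w⟩ }
  obtain ⟨l, hl₁, hl₂⟩ := (hf.existence S₀).exists_lift
  simp only [S₀] at l hl₁ hl₂
  set x₀ := l (closedPoint 𝒱) with hx₀
  have hξx₀ : ξ ⤳ x₀ := by
    have h1 : l (Spec.map (CommRingCat.ofHom (algebraMap 𝒱 (X.residueField ξ)))
        (closedPoint (X.residueField ξ))) = ξ := by
      have h2 := Scheme.fromSpecResidueField_apply ξ (closedPoint (X.residueField ξ))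
      rw [← hl₁] at h2
      exact h2
    rw [← h1]
    exact (specializes_closedPoint _).map l.continuous
  have hx₀Z : x₀ ∈ Z := hξx₀.mem_closed hZ hξ.mem
  have hx₀V : x₀ ∈ f ⁻¹ᵁ V := by
    have h3 : i₂ (closedPoint 𝒱) ∈ Set.range hV.fromSpec := ⟨_, rfl⟩
    rw [hV.range_fromSpec, ← hl₂] at h3
    exact h3
  refine ⟨x₀, ⟨hx₀Z, hx₀V⟩, ?_⟩
  rw [le_nhds_iff]
  intro s hx₀s hs
  obtain ⟨_, ⟨U, hU, rfl⟩, hx₀U, hUs⟩ := X.isBasis_affineOpens.exists_subset_of_mem_open
    (show x₀ ∈ s ∩ (f ⁻¹ᵁ V : Set X) from ⟨hx₀s, hx₀V⟩) (hs.inter (f ⁻¹ᵁ V).2)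
  have e : U ≤ f ⁻¹ᵁ V := fun y hy => (hUs hy).2
  refine mem_of_superset ?_ (fun y hy => (hUs hy).1)
  have hξU : ξ ∈ U := hξx₀.mem_open U.2 hx₀U
  have hle : ⊤ ≤ l ⁻¹ᵁ U := (Scheme.preimage_eq_top_of_closedPoint_mem l hx₀U).ge
  have hl := eq_SpecMap_fromSpec hU l hle
  set β := l.appLE U ⊤ hle ≫ (Scheme.ΓSpecIso (CommRingCat.of 𝒱)).hom with hβ
  have hβσ : β ≫ CommRingCat.ofHom (algebraMap 𝒱 (X.residueField ξ)) = sig U hξU := by
    apply Spec.map_injective
    haveI := hU.isOpenImmersion_fromSpec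
    apply (cancel_mono hU.fromSpec).1
    rw [Spec.map_comp, Category.assoc, ← hl, hl₁]
    exact (sig_fromSpec hU hξU).symm
  have hσ𝒱 : ∀ b, (sig U hξU).hom b ∈ 𝒱 := by
    intro b
    rw [← hβσ]
    exact (β.hom b).2
  have hft : (f.appLE V U e).hom.FiniteType :=
    HasRingHomProperty.appLE (P := @LocallyOfFiniteType) f inferInstance ⟨V, hV⟩ ⟨U, hU⟩ e
  letI := (f.appLE V U e).hom.toAlgebra
  obtain ⟨t, ht⟩ := hft
  have hS : ∀ᶠ x in (𝒰 : Filter X), ∀ b ∈ t, (sig U hξU).hom b ∈ W x :=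
    (Filter.eventually_all_finset t).2 fun b _ => (mem_ultraVal 𝒰 W _).1 (hσ𝒱 b)
  filter_upwards [hS, hT] with x hxS hxT
  have h := hξ.specializes hxT.1
  obtain ⟨hW1, hloc⟩ := hW x h
  have hW2 : ∀ b, (sig U hξU).hom b ∈ W x := by
    let Sub : Subalgebra Γ(Y, V) Γ(X, U) :=
      { carrier := {b | (sig U hξU).hom b ∈ W x}
        mul_mem' := fun {a b} ha hb => by
          show (sig U hξU).hom (a * b) ∈ W x
          rw [map_mul]
          exact (W x).mul_mem _ _ ha hb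
        add_mem' := fun {a b} ha hb => by
          show (sig U hξU).hom (a + b) ∈ W x
          rw [map_add]
          exact (W x).add_mem _ _ ha hb
        algebraMap_mem' := fun a => by
          show (sig U hξU).hom ((f.appLE V U e).hom a) ∈ W x
          rw [sig_appLE f e h hξU hxT.2]
          exact hW1 _ }
    have hSub : Sub = ⊤ := top_le_iff.1 (ht ▸ Algebra.adjoin_le (fun b hb => hxS b hb))
    intro b
    have : b ∈ Sub := hSub ▸ Algebra.mem_top
    exact this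
  have hmn : mMap hU hξU (W x) hW2 = nMap h (W x) hW1 := by
    let S' : ValuativeCommSq f :=
      { R := W x
        K := X.residueField ξ
        i₁ := X.fromSpecResidueField ξ
        i₂ := nMap h (W x) hW1 ≫ f
        commSq := ⟨by rw [← alg_nMap h (W x) hW1, Category.assoc]⟩ }
    have := hf.uniqueness S'
    let L1 : S'.commSq.LiftStruct :=
      ⟨mMap hU hξU (W x) hW2, alg_mMap hU hξU (W x) hW2,
        mMap_comp_eq_nMap_comp f hV hU e h hξU hxT.2 (W x) hW1 hW2⟩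
    let L2 : S'.commSq.LiftStruct := ⟨nMap h (W x) hW1, alg_nMap h (W x) hW1, rfl⟩
    exact congrArg CommSq.LiftStruct.l (Subsingleton.elim L1 L2)
  have := mMap_mem hU hξU (W x) hW2 (closedPoint (W x))
  rw [hmn, nMap_closedPoint h (W x) hW1 hloc] at this
  exact this

theorem quasiCompact_of_valuativeCriterion [LocallyOfFiniteType f]
    (hf : ValuativeCriterion f) (hX : (irreducibleComponents ↥X).Finite) : QuasiCompact f := by
  rw [quasiCompact_iff_forall_isAffineOpen]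
  intro V hV
  have : (f ⁻¹ᵁ V : Set X) = ⋃ Z ∈ irreducibleComponents X, Z ∩ (f ⁻¹ᵁ V : Set X) := by
    ext x
    simp only [Set.mem_iUnion, Set.mem_inter_iff, exists_and_right, exists_prop]
    constructor
    · intro hx
      exact ⟨⟨irreducibleComponent x, irreducibleComponent_mem_irreducibleComponents x,
        mem_irreducibleComponent⟩, hx⟩
    · exact fun h => h.2
  rw [this]
  exact hX.isCompact_biUnion fun Z hZ =>
    isCompact_inter f hf hV (isClosed_of_mem_irreducibleComponents Z hZ) hZ.1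

end

end Groth.Agent.Lib.Helper4.ValQC
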