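import Mathlib.LinearAlgebra.Vandermonde
import Mathlib.Algebra.MvPolynomial.CommRing
import Mathlib.Tactic

namespace Groth.Agent.Lib.Helper4.VdmSq

open MvPolynomial Finset Matrix

variable (n : ℕ)

/-- product of powers of variables as a monomial -/
theorem prod_X_pow (e : Fin n → ℕ) :
    ∏ i : Fin n, (X i : MvPolynomial (Fin n) ℤ) ^ (e i) =
      monomial (Finsupp.equivFunOnFinite.symm e) 1 := by
  rw [monomial_eq, C_1, one_mul, Finsupp.prod_fintype]
  · rfl
  · intro i; exact pow_zero _

/-- the double product splits as two determinants -/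
theorem prod_eq_det :
    (∏ i : Fin n, ∏ j ∈ Finset.univ.erase i, (X i - X j : MvPolynomial (Fin n) ℤ)) =
      (projVandermonde (1 : Fin n → MvPolynomial (Fin n) ℤ) X).det * (vandermonde (X : Fin n → MvPolynomial (Fin n) ℤ)).det := by
  rw [det_projVandermonde, det_vandermonde, ← Finset.prod_mul_distrib]
  have h2 : ∏ i : Fin n, ∏ j ∈ Ioi i, (X j - X i : MvPolynomial (Fin n) ℤ) =
      ∏ i : Fin n, ∏ j ∈ Iio i, (X i - X j : MvPolynomial (Fin n) ℤ) := by
    apply Finset.prod_comm'
    intro x y
    simp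
  have h1 : ∀ i : Fin n, ∏ j ∈ Finset.univ.erase i, (X i - X j : MvPolynomial (Fin n) ℤ) =
      (∏ j ∈ Ioi i, (X i - X j)) * ∏ j ∈ Iio i, (X i - X j) := by
    intro i
    rw [← Finset.prod_disjUnion (Finset.disjoint_Ioi_Iio i), Finset.Ioi_disjUnion_Iio]
    congr 1
    ext j
    simp [eq_comm]
  rw [Finset.prod_congr rfl fun i _ => h1 i, Finset.prod_mul_distrib, Finset.prod_mul_distrib, h2]
  congr 1
  refine Finset.prod_congr rfl fun i _ => Finset.prod_congr rfl fun j _ => ?_
  simp

theorem det_proj_expand :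
    (projVandermonde (1 : Fin n → MvPolynomial (Fin n) ℤ) X).det =
      ∑ σ : Equiv.Perm (Fin n), ((Equiv.Perm.sign σ : ℤ) : MvPolynomial (Fin n) ℤ) *
        monomial (Finsupp.equivFunOnFinite.symm fun i => ((σ i).rev : ℕ)) 1 := by
  rw [← det_transpose, det_apply']
  refine Finset.sum_congr rfl fun σ _ => ?_
  congr 1
  rw [← prod_X_pow]
  refine Finset.prod_congr rfl fun i _ => ?_
  rw [transpose_apply, projVandermonde_apply]
  simp

theorem det_vdm_expand :
    (vandermonde (X : Fin n → MvPolynomial (Fin n) ℤ)).det =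
      ∑ σ : Equiv.Perm (Fin n), ((Equiv.Perm.sign σ : ℤ) : MvPolynomial (Fin n) ℤ) *
        monomial (Finsupp.equivFunOnFinite.symm fun i => ((σ i) : ℕ)) 1 := by
  rw [← det_transpose, det_apply']
  refine Finset.sum_congr rfl fun σ _ => ?_
  congr 1
  rw [← prod_X_pow]
  refine Finset.prod_congr rfl fun i _ => ?_
  rw [transpose_apply, vandermonde_apply]

theorem main :
    MvPolynomial.coeff (Finsupp.equivFunOnFinite.symm (fun _ : Fin n => n - 1))
      (∏ i : Fin n, ∏ j ∈ Finset.univ.erase i, (MvPolynomial.X i - MvPolynomial.X j : MvPolynomial (Fin n) ℤ)) = (n.factorial : ℤ) := by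
  rw [prod_eq_det, det_proj_expand, det_vdm_expand, Finset.sum_mul_sum]
  simp only [coeff_sum]
  have key : ∀ σ τ : Equiv.Perm (Fin n),
      coeff (Finsupp.equivFunOnFinite.symm (fun _ : Fin n => n - 1))
        (((Equiv.Perm.sign σ : ℤ) : MvPolynomial (Fin n) ℤ) *
          monomial (Finsupp.equivFunOnFinite.symm fun i => ((σ i).rev : ℕ)) 1 *
        (((Equiv.Perm.sign τ : ℤ) : MvPolynomial (Fin n) ℤ) *
          monomial (Finsupp.equivFunOnFinite.symm fun i => ((τ i) : ℕ)) 1)) =
      if σ = τ then 1 else 0 := by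
    intro σ τ
    have e1 : ((Equiv.Perm.sign σ : ℤ) : MvPolynomial (Fin n) ℤ) *
          monomial (Finsupp.equivFunOnFinite.symm fun i => ((σ i).rev : ℕ)) 1 *
        (((Equiv.Perm.sign τ : ℤ) : MvPolynomial (Fin n) ℤ) *
          monomial (Finsupp.equivFunOnFinite.symm fun i => ((τ i) : ℕ)) 1) =
        monomial ((Finsupp.equivFunOnFinite.symm fun i => ((σ i).rev : ℕ)) +
          (Finsupp.equivFunOnFinite.symm fun i => ((τ i) : ℕ)))
          ((Equiv.Perm.sign σ : ℤ) * (Equiv.Perm.sign τ : ℤ)) := by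
      have hC : ∀ z : ℤ, ((z : ℤ) : MvPolynomial (Fin n) ℤ) = C z := fun z =>
        (eq_intCast (C : ℤ →+* MvPolynomial (Fin n) ℤ) z).symm
      rw [hC, hC, C_mul_monomial, C_mul_monomial, monomial_mul]
      simp
    rw [e1, coeff_monomial]
    by_cases h : σ = τ
    · subst h
      rw [if_pos rfl, if_pos, Int.units_coe_mul_self]
      ext i
      simp only [Finsupp.coe_add, Pi.add_apply, Finsupp.equivFunOnFinite_symm_apply_apply,
        Fin.val_rev]
      have := (σ i).2
      omega
    · rw [if_neg h, if_neg]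
      intro heq
      apply h
      ext i
      have := DFunLike.congr_fun heq i
      simp only [Finsupp.coe_add, Pi.add_apply, Finsupp.equivFunOnFinite_symm_apply_apply,
        Fin.val_rev] at this
      have h1 := (σ i).2
      have h2 := (τ i).2
      omega
  simp only [key, Finset.sum_ite_eq, Finset.mem_univ, if_true, Finset.sum_const, Finset.card_univ,
    Fintype.card_perm, Fintype.card_fin]
  simp

end Groth.Agent.Lib.Helper4.VdmSq

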