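import Mathlib

namespace Groth.Agent.Lib.Helper4.VerbalLaw
open FreeGroup
open scoped commutatorElement

variable {H : Type*} [Group H]

/-- merge two homs from finitely generated free groups -/
noncomputable def merge {a b : ℕ} (φ : FreeGroup (Fin a) →* H) (ψ : FreeGroup (Fin b) →* H) :
    FreeGroup (Fin (a + b)) →* H :=
  FreeGroup.lift (Fin.addCases (fun i => φ (of i)) (fun j => ψ (of j)))

lemma merge_left {a b : ℕ} (φ : FreeGroup (Fin a) →* H) (ψ : FreeGroup (Fin b) →* H)
    (w : FreeGroup (Fin a)) : merge φ ψ (FreeGroup.map (Fin.castAdd b) w) = φ w := by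
  have : (merge φ ψ).comp (FreeGroup.map (Fin.castAdd b)) = φ := by
    ext i
    simp [merge]
  exact DFunLike.congr_fun this w

lemma merge_right {a b : ℕ} (φ : FreeGroup (Fin a) →* H) (ψ : FreeGroup (Fin b) →* H)
    (w : FreeGroup (Fin b)) : merge φ ψ (FreeGroup.map (Fin.natAdd a) w) = ψ w := by
  have : (merge φ ψ).comp (FreeGroup.map (Fin.natAdd a)) = ψ := by
    ext i
    simp [merge]
  exact DFunLike.congr_fun this w

/-- A family of subgroups, one in each free group `FreeGroup (Fin m)`, stable under the maps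
induced by maps of generators. -/
structure Verbal where
  S : ∀ m : ℕ, Subgroup (FreeGroup (Fin m))
  map_mem : ∀ {a b : ℕ} (f : Fin a → Fin b) (w : FreeGroup (Fin a)), w ∈ S a →
    FreeGroup.map f w ∈ S b

/-- The set of values of a verbal family in a group. -/
def Verbal.values (V : Verbal) (H : Type*) [Group H] : Set H :=
  {x | ∃ (m : ℕ) (φ : FreeGroup (Fin m) →* H) (w : FreeGroup (Fin m)), w ∈ V.S m ∧ φ w = x}

/-- The values form a subgroup. -/
def Verbal.subgroup (V : Verbal) (H : Type*) [Group H] : Subgroup H where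
  carrier := V.values H
  one_mem' := ⟨0, 1, 1, (V.S 0).one_mem, rfl⟩
  mul_mem' := by
    rintro x y ⟨a, φ, w, hw, rfl⟩ ⟨b, ψ, w', hw', rfl⟩
    refine ⟨a + b, merge φ ψ, FreeGroup.map (Fin.castAdd b) w * FreeGroup.map (Fin.natAdd a) w',
      (V.S _).mul_mem (V.map_mem _ _ hw) (V.map_mem _ _ hw'), ?_⟩
    rw [_root_.map_mul, merge_left, merge_right]
  inv_mem' := by
    rintro x ⟨a, φ, w, hw, rfl⟩
    exact ⟨a, φ, w⁻¹, (V.S a).inv_mem hw, _root_.map_inv φ w⟩

lemma Verbal.mem_subgroup (V : Verbal) {x : H} :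
    x ∈ V.subgroup H ↔ ∃ (m : ℕ) (φ : FreeGroup (Fin m) →* H) (w : FreeGroup (Fin m)),
      w ∈ V.S m ∧ φ w = x := Iff.rfl

/-- the derived series verbal family -/
def derivedV (n : ℕ) : Verbal where
  S m := derivedSeries (FreeGroup (Fin m)) n
  map_mem f w hw := map_derivedSeries_le_derivedSeries (FreeGroup.map f) n ⟨w, hw, rfl⟩

/-- the lower central series verbal family -/
def lowerV (n : ℕ) : Verbal where
  S m := (⊤ : Subgroup (FreeGroup (Fin m))).lowerCentralSeries n
  map_mem f w hw := by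
    have h1 : FreeGroup.map f w ∈ ((⊤ : Subgroup (FreeGroup (Fin _))).lowerCentralSeries n).map
      (FreeGroup.map f) := ⟨w, hw, rfl⟩
    rw [Subgroup.map_lowerCentralSeries] at h1
    exact Subgroup.lowerCentralSeries_mono n le_top h1

theorem derivedSeries_le (n : ℕ) : derivedSeries H n ≤ (derivedV n).subgroup H := by
  induction n with
  | zero =>
    intro x _
    exact ⟨1, FreeGroup.lift (fun _ => x), of 0, Subgroup.mem_top _, by simp⟩
  | succ n ih =>
    rw [derivedSeries_succ, Subgroup.commutator_def, Subgroup.closure_le]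
    rintro _ ⟨g₁, hg₁, g₂, hg₂, rfl⟩
    obtain ⟨a, φ, w, hw, rfl⟩ := ih hg₁
    obtain ⟨b, ψ, w', hw', rfl⟩ := ih hg₂
    refine ⟨a + b, merge φ ψ, ⁅FreeGroup.map (Fin.castAdd b) w, FreeGroup.map (Fin.natAdd a) w'⁆,
      ?_, ?_⟩
    · show _ ∈ derivedSeries _ (n + 1)
      rw [derivedSeries_succ]
      exact Subgroup.commutator_mem_commutator ((derivedV n).map_mem _ _ hw)
        ((derivedV n).map_mem _ _ hw')
    · rw [map_commutatorElement, merge_left, merge_right]

theorem lowerCentralSeries_le (n : ℕ) :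
    (⊤ : Subgroup H).lowerCentralSeries n ≤ (lowerV n).subgroup H := by
  induction n with
  | zero =>
    intro x _
    exact ⟨1, FreeGroup.lift (fun _ => x), of 0, Subgroup.mem_top _, by simp⟩
  | succ n ih =>
    rw [Subgroup.lowerCentralSeries_succ, Subgroup.commutator_def, Subgroup.closure_le]
    rintro _ ⟨g₁, hg₁, g₂, -, rfl⟩
    obtain ⟨a, φ, w, hw, rfl⟩ := ih hg₁
    refine ⟨a + 1, merge φ (FreeGroup.lift (fun _ : Fin 1 => g₂)),
      ⁅FreeGroup.map (Fin.castAdd 1) w, FreeGroup.map (Fin.natAdd a) (of 0)⁆, ?_, ?_⟩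
    · show _ ∈ (⊤ : Subgroup _).lowerCentralSeries (n + 1)
      rw [Subgroup.lowerCentralSeries_succ]
      exact Subgroup.commutator_mem_commutator ((lowerV n).map_mem _ _ hw) (Subgroup.mem_top _)
    · rw [map_commutatorElement, merge_left, merge_right]
      simp

/-- If a group `K` satisfies all laws of `V`, i.e. every hom from a free group kills `V.S m`. -/
def Verbal.Holds (V : Verbal) (K : Type*) [Group K] : Prop :=
  ∀ (m : ℕ) (φ : FreeGroup (Fin m) →* K) (w : FreeGroup (Fin m)), w ∈ V.S m → φ w = 1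

lemma derivedV_holds_of_eq_bot {K : Type*} [Group K] {n : ℕ} (h : derivedSeries K n = ⊥) :
    (derivedV n).Holds K := by
  intro m φ w hw
  have : φ w ∈ derivedSeries K n := map_derivedSeries_le_derivedSeries φ n ⟨w, hw, rfl⟩
  rwa [h, Subgroup.mem_bot] at this

lemma lowerV_holds_of_eq_bot {K : Type*} [Group K] {n : ℕ}
    (h : (⊤ : Subgroup K).lowerCentralSeries n = ⊥) : (lowerV n).Holds K := by
  intro m φ w hw
  have h1 : φ w ∈ ((⊤ : Subgroup (FreeGroup (Fin m))).lowerCentralSeries n).map φ := ⟨w, hw, rfl⟩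
  rw [Subgroup.map_lowerCentralSeries] at h1
  have : φ w ∈ (⊤ : Subgroup K).lowerCentralSeries n :=
    Subgroup.lowerCentralSeries_mono n le_top h1
  rwa [h, Subgroup.mem_bot] at this

lemma derivedSeries_eq_bot_of_holds {n : ℕ} (h : (derivedV n).Holds H) : derivedSeries H n = ⊥ := by
  rw [eq_bot_iff]
  intro x hx
  obtain ⟨m, φ, w, hw, rfl⟩ := derivedSeries_le n hx
  exact Subgroup.mem_bot.2 (h m φ w hw)

lemma lowerCentralSeries_eq_bot_of_holds {n : ℕ} (h : (lowerV n).Holds H) :
    (⊤ : Subgroup H).lowerCentralSeries n = ⊥ := by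
  rw [eq_bot_iff]
  intro x hx
  obtain ⟨m, φ, w, hw, rfl⟩ := lowerCentralSeries_le n hx
  exact Subgroup.mem_bot.2 (h m φ w hw)

end Groth.Agent.Lib.Helper4.VerbalLaw
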