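import Groth.Agent.Lib.Helper4.Higgs5
import Groth.Agent.Lib.helper19.SmoothOmega
set_option backward.isDefEq.respectTransparency.types false
set_option autoImplicit false
set_option linter.style.haveILetI false
set_option linter.unusedSectionVars false

universe u
open CategoryTheory CategoryTheory.Limits AlgebraicGeometry Opposite TopologicalSpace

namespace Groth.Agent.Lib.Helper4.VeryStable

open Groth.Agent.Lib.Helper8.CurveTensor Groth.Agent.Lib.Helper4.GPRank Groth.Agent.Lib.Helper8.EulerK
open Groth.Agent.Lib.Helper4.HilbPoly Groth.Agent.Lib.Helper4.CurveVB Groth.Agent.Lib.Helper4.TFCurve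
open Groth.Agent.Lib.Helper4.TwistInv Groth.Agent.Lib.Helper4.Higgs

section curve

variable (k : Type u) [Field k] (X : Scheme.{u}) [X.Over (Spec (CommRingCat.of k))] [IsIntegral X]
  [IsProper (X ↘ Spec (CommRingCat.of k))] [Smooth (X ↘ Spec (CommRingCat.of k))]

/-- the sheaf of differentials of a smooth proper integral curve is a line bundle -/
theorem omega_locFree (hdim : topologicalKrullDim X = 1) :
    FlatMod.IsFinLocFreeOfRank 1 (Omega.sheaf (X ↘ Spec (CommRingCat.of k))) := fun x =>
  Groth.Agent.Lib.Helper19.SmoothOmega.exists_free_nhd k X (m := 1) (by rw [hdim]; rfl)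
    (Omega.sheaf (X ↘ Spec (CommRingCat.of k))) (OmegaSh.dOmega (X ↘ Spec (CommRingCat.of k)))
    (Groth.Agent.Lib.Helper29.OmegaUniv.isUniversal_dOmega (X ↘ Spec (CommRingCat.of k))) x

include k in
/-- **S15226** -/
theorem comp_ne_zero (hdim : topologicalKrullDim X = 1) (K : X.Modules) (hK : FlatMod.IsFinLocFreeOfRank 1 K)
    (E : X.Modules) (hE : FlatMod.IsFinLocFreeOfRank 2 E)
    (hvs : ∀ α : E ⟶ CohB1.tensorMod E K, α ≫ LimSh.tensorModMap α K = 0 → α = 0)
    (L : X.Modules) (hL : PicF.IsInvertible L)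
    (s : L ⟶ E) (hs : s ≠ 0) (t : E ⟶ CohB1.tensorMod L K) (ht : t ≠ 0) :
    s ≫ t ≠ 0 := by
  intro h0
  have hL1 := Groth.Agent.Lib.Helper6.K0Op.isFinLocFreeOfRank_one_of_isInvertible L hL
  have hKflat := Groth.Agent.Lib.Helper6.K0Op.isFlat_of_isFinLocFreeOfRank K hK
  haveI := Groth.Agent.Lib.Helper4.H0Bound.mono_of_ne_zero_of_rank_one k X hdim hL1 hE s hs
  haveI := mono_tensorModMap s K hKflat
  have hα := hvs (t ≫ LimSh.tensorModMap s K) (by
    rw [LimSh.tensorModMap_comp, Category.assoc, ← Category.assoc (LimSh.tensorModMap s K),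
      ← LimSh.tensorModMap_comp, h0, tensorModMap_zero, zero_comp, comp_zero])
  apply ht
  rw [← cancel_mono (LimSh.tensorModMap s K), hα, zero_comp]

include k in
/-- **S15225** -/
theorem not_veryStable_iff (hdim : topologicalKrullDim X = 1) (K : X.Modules)
    (hK : FlatMod.IsFinLocFreeOfRank 1 K) (E : X.Modules) (hE : FlatMod.IsFinLocFreeOfRank 2 E) :
    (¬ ∀ α : E ⟶ CohB1.tensorMod E K, α ≫ LimSh.tensorModMap α K = 0 → α = 0) ↔
      ∃ (L : X.Modules) (j : L ⟶ E), PicF.IsInvertible L ∧ Mono j ∧ PicF.IsInvertible (cokernel j) ∧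
        ∃ β : cokernel j ⟶ CohB1.tensorMod L K, β ≠ 0 := by
  haveI : IsLocallyNoetherian X := isLocallyNoetherian k X
  have hKflat := Groth.Agent.Lib.Helper6.K0Op.isFlat_of_isFinLocFreeOfRank K hK
  constructor
  · intro h
    push Not at h
    obtain ⟨α, hα2, hα0⟩ := h
    have hEK : FlatMod.IsFinLocFreeOfRank 2 (CohB1.tensorMod E K) := by
      have := isFinLocFreeOfRank_tensorMod E K hE hK
      rwa [mul_one] at this
    obtain ⟨rK, rI, hKer, hI, hr', -, -, hI0, -⟩ := ker_im k X hdim α hE hEK
    have hrI := hI0 hα0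
    have hS := Groth.Agent.Lib.Helper8.CurveVan.shortExact_kernel_image α
    haveI := mono_tensorModMap (Abelian.image.ι α) K hKflat
    have hfac : LimSh.tensorModMap α K =
        LimSh.tensorModMap (Abelian.factorThruImage α) K ≫ LimSh.tensorModMap (Abelian.image.ι α) K := by
      rw [← LimSh.tensorModMap_comp, Abelian.image.fac]
    have hm0 : Abelian.image.ι α ≫ LimSh.tensorModMap (Abelian.factorThruImage α) K = 0 := by
      rw [← cancel_mono (LimSh.tensorModMap (Abelian.image.ι α) K), Category.assoc, ← hfac, zero_comp,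
        ← cancel_epi (Abelian.factorThruImage α), ← Category.assoc, Abelian.image.fac, hα2, comp_zero]
    obtain ⟨β', hβ'⟩ := exists_lift_tensor _ hS K hKflat (Abelian.image.ι α) hm0
    dsimp only at hβ'
    haveI : Mono β' := by
      haveI : Mono (β' ≫ LimSh.tensorModMap (kernel.ι α) K) := by rw [hβ']; infer_instance
      exact mono_of_mono β' (LimSh.tensorModMap (kernel.ι α) K)
    have hKK : FlatMod.IsFinLocFreeOfRank rK (CohB1.tensorMod (kernel α) K) := by
      have := isFinLocFreeOfRank_tensorMod (kernel α) K hKer hK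
      rwa [mul_one] at this
    have hle := rank_le_of_mono β' hI hKK
    have hrK1 : rK = 1 := by omega
    have hrI1 : rI = 1 := by omega
    subst hrK1
    subst hrI1
    have e : cokernel (kernel.ι α) ≅ Abelian.image α := Abelian.coimageIsoImage α
    refine ⟨kernel α, kernel.ι α, isInvertible_of_rank_one hKer, inferInstance,
      isInvertible_of_rank_one (isFinLocFreeOfRank_of_iso e.symm hI), e.hom ≫ β', ?_⟩
    intro h0
    have hβ0 : β' = 0 := by
      rw [← cancel_epi e.hom, h0, comp_zero]
    apply hα0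
    rw [← Abelian.image.fac α, ← hβ', hβ0, zero_comp, comp_zero]
  · rintro ⟨L, j, hL, hj, hQ, β, hβ⟩
    haveI := hj
    haveI := mono_tensorModMap j K hKflat
    intro h
    have hα := h (cokernel.π j ≫ β ≫ LimSh.tensorModMap j K) (by
      rw [LimSh.tensorModMap_comp, LimSh.tensorModMap_comp, Category.assoc, Category.assoc,
        ← Category.assoc (LimSh.tensorModMap j K), ← LimSh.tensorModMap_comp, cokernel.condition,
        tensorModMap_zero, zero_comp, comp_zero, comp_zero])
    apply hβ
    rw [← cancel_mono (LimSh.tensorModMap j K), ← cancel_epi (cokernel.π j), hα, zero_comp, comp_zero]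

end curve

end Groth.Agent.Lib.Helper4.VeryStable
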