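import Mathlib.RingTheory.MvPolynomial.EulerIdentity
import Mathlib.Algebra.CharZero.Defs
import Mathlib.Tactic

namespace Groth.Agent.Lib.Helper4.WGauss
open MvPolynomial

noncomputable section

variable {k : Type*} [Field k] [CharZero k] {n : ℕ}

/-- the Gauss tuple -/
def G (a b : ℕ) (σ τ : MvPolynomial (Fin (n+1)) k) : Fin (n+1) → MvPolynomial (Fin (n+1)) k :=
  fun i => (b : k) • (τ * pderiv i σ) - (a : k) • (σ * pderiv i τ)

/-- Koszul tuple -/
def K (i j : Fin (n+1)) : Fin (n+1) → MvPolynomial (Fin (n+1)) k :=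
  fun l => (if l = j then X i else 0) - (if l = i then X j else 0)

/-- the span -/
def W (a b e : ℕ) : Submodule k (Fin (n+1) → MvPolynomial (Fin (n+1)) k) :=
  Submodule.span k {g | ∃ σ τ : MvPolynomial (Fin (n + 1)) k, σ.IsHomogeneous (a * e) ∧
    τ.IsHomogeneous (b * e) ∧
    g = fun i => (b : k) • (τ * pderiv i σ) - (a : k) • (σ * pderiv i τ)}

lemma G_diff (a b : ℕ) (i j : Fin (n+1)) (s t : MvPolynomial (Fin (n+1)) k) :
    G a b (X j * s) (X i * t) - G a b (X i * s) (X j * t)
      = ((a : k) + b) • (fun l => (s * t) * K i j l) := by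
  funext l
  simp only [G, K, Pi.sub_apply, Pi.smul_apply, pderiv_mul, pderiv_X, Pi.single_apply]
  simp only [MvPolynomial.smul_eq_C_mul, map_add]
  by_cases h1 : l = j <;> by_cases h2 : l = i
  · subst h1; subst h2; simp
  · subst h1; simp [h2, Ne.symm h2]; ring
  · subst h2; simp [h1, Ne.symm h1]; ring
  · simp [h1, h2, Ne.symm h1, Ne.symm h2]; ring

lemma mul_K_mem {a b e m m' : ℕ} (hab : 0 < a + b) (hm : m + 1 = a * e) (hm' : m' + 1 = b * e)
    (i j : Fin (n+1)) (s t : MvPolynomial (Fin (n+1)) k)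
    (hs : s.IsHomogeneous m) (ht : t.IsHomogeneous m') :
    (fun l => (s * t) * K i j l) ∈ W (n := n) (k := k) a b e := by
  have h := G_diff a b i j s t
  have hne : ((a:k) + b) ≠ 0 := by exact_mod_cast hab.ne'
  have : (fun l => (s * t) * K i j l)
      = ((a:k)+b)⁻¹ • (G a b (X j * s) (X i * t) - G a b (X i * s) (X j * t)) := by
    rw [h, smul_smul, inv_mul_cancel₀ hne, one_smul]
  rw [this]
  have hX : ∀ (l : Fin (n+1)) (q : MvPolynomial (Fin (n+1)) k) (r : ℕ), q.IsHomogeneous r →
      (X l * q).IsHomogeneous (r + 1) := by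
    intro l q r hq
    have := (isHomogeneous_X k l).mul hq
    exact (add_comm 1 r) ▸ this
  refine Submodule.smul_mem _ _ (Submodule.sub_mem _ ?_ ?_)
  · exact Submodule.subset_span ⟨X j * s, X i * t, hm ▸ hX _ _ _ hs, hm' ▸ hX _ _ _ ht, rfl⟩
  · exact Submodule.subset_span ⟨X i * s, X j * t, hm ▸ hX _ _ _ hs, hm' ▸ hX _ _ _ ht, rfl⟩

lemma mem_span_mul (m m' : ℕ) (h : MvPolynomial (Fin (n+1)) k) (hh : h.IsHomogeneous (m + m')) :
    h ∈ Submodule.span k {q | ∃ s t : MvPolynomial (Fin (n+1)) k,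
      s.IsHomogeneous m ∧ t.IsHomogeneous m' ∧ q = s * t} := by
  induction m generalizing h with
  | zero =>
    exact Submodule.subset_span ⟨1, h, isHomogeneous_one _ _, by simpa using hh, (one_mul h).symm⟩
  | succ m ih =>
    have hE := hh.sum_X_mul_pderiv
    have hne : ((m + 1 + m' : ℕ) : k) ≠ 0 := by
      have : m + 1 + m' ≠ 0 := by omega
      exact_mod_cast this
    have : h = ((m+1+m' : ℕ) : k)⁻¹ • ∑ i, X i * pderiv i h := by
      rw [hE, ← Nat.cast_smul_eq_nsmul k, smul_smul, inv_mul_cancel₀ hne, one_smul]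
    rw [this]
    refine Submodule.smul_mem _ _ (Submodule.sum_mem _ fun i _ => ?_)
    have hd : (pderiv i h).IsHomogeneous (m + m') := by
      have := hh.pderiv (i := i)
      convert this using 1
      omega
    have h3 := ih _ hd
    refine Submodule.span_induction (p := fun q _ => X i * q ∈ Submodule.span k {q | ∃ s t : MvPolynomial (Fin (n+1)) k,
      s.IsHomogeneous (m+1) ∧ t.IsHomogeneous m' ∧ q = s * t}) ?_ ?_ ?_ ?_ h3
    · rintro q ⟨s, t, hs, ht, rfl⟩
      refine Submodule.subset_span ⟨X i * s, t, ?_, ht, (mul_assoc _ _ _).symm⟩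
      have := (isHomogeneous_X k i).mul hs
      exact (add_comm 1 m) ▸ this
    · simp
    · intro x y _ _ hx hy
      rw [mul_add]; exact Submodule.add_mem _ hx hy
    · intro c x _ hx
      rw [mul_smul_comm]; exact Submodule.smul_mem _ _ hx

lemma hom_mul_K_mem {a b e m m' : ℕ} (hab : 0 < a + b) (hm : m + 1 = a * e) (hm' : m' + 1 = b * e)
    (i j : Fin (n+1)) (h : MvPolynomial (Fin (n+1)) k)
    (hh : h.IsHomogeneous (m + m')) :
    (fun l => h * K i j l) ∈ W (n := n) (k := k) a b e := by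
  have h3 := mem_span_mul m m' h hh
  refine Submodule.span_induction (p := fun q _ => (fun l => q * K i j l) ∈ W (n := n) (k := k) a b e)
    ?_ ?_ ?_ ?_ h3
  · rintro q ⟨s, t, hs, ht, rfl⟩
    exact mul_K_mem hab hm hm' i j s t hs ht
  · simp only [zero_mul]; exact Submodule.zero_mem _
  · intro x y _ _ hx hy
    have : (fun l => (x + y) * K i j l) = (fun l => x * K i j l) + (fun l => y * K i j l) := by
      funext l; simp [add_mul]
    rw [this]; exact Submodule.add_mem _ hx hy
  · intro c x _ hx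
    have : (fun l => (c • x) * K i j l) = c • (fun l => x * K i j l) := by
      funext l; simp [smul_mul_assoc]
    rw [this]; exact Submodule.smul_mem _ _ hx

theorem main (e a b : ℕ) (he : 0 < e) (ha : 0 < a) (hb : 0 < b)
    (f : Fin (n + 1) → MvPolynomial (Fin (n + 1)) k)
    (hf : ∀ i, (f i).IsHomogeneous ((a + b) * e - 1))
    (hEuler : ∑ i, X i * f i = 0) : f ∈ W (n := n) (k := k) a b e := by
  obtain ⟨m, hm⟩ : ∃ m, m + 1 = a * e := ⟨a*e - 1, by have := Nat.mul_pos ha he; omega⟩
  obtain ⟨m', hm'⟩ : ∃ m', m' + 1 = b * e := ⟨b*e - 1, by have := Nat.mul_pos hb he; omega⟩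
  have hd : (a + b) * e - 1 = m + m' + 1 := by rw [add_mul]; omega
  rw [hd] at hf
  have h1 : ∀ l, ∑ i, X i * pderiv i (f l) = ((m + m' + 1 : ℕ) : MvPolynomial (Fin (n + 1)) k) * f l := by
    intro l
    rw [(hf l).sum_X_mul_pderiv, nsmul_eq_mul]
  have h2 : ∀ l, ∑ i, X i * pderiv l (f i) = - f l := by
    intro l
    have := congrArg (pderiv l) hEuler
    simp only [map_sum, pderiv_mul, pderiv_X, Pi.single_apply, map_zero, Finset.sum_add_distrib,
      ite_mul, one_mul, zero_mul, Finset.sum_ite_eq', Finset.mem_univ, if_true] at this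
    linear_combination this
  have key : ((2 * (m + m' + 2) : ℕ) : k) • f
      = ∑ i, ∑ j, fun l => (pderiv i (f j) - pderiv j (f i)) * K i j l := by
    funext l
    simp only [Pi.smul_apply, Finset.sum_apply, K, mul_sub, mul_ite, mul_zero,
      Finset.sum_sub_distrib, Finset.sum_ite_eq, Finset.mem_univ, if_true]
    rw [Finset.sum_comm (f := fun i j => if l = i then ((pderiv i) (f j) - (pderiv j) (f i)) * X j else 0)]
    simp only [Finset.sum_ite_eq, Finset.mem_univ, if_true, sub_mul, Finset.sum_sub_distrib]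
    rw [MvPolynomial.smul_eq_C_mul, map_natCast]
    have h1' := h1 l
    have h2' := h2 l
    simp only [mul_comm (X _)] at h1' h2'
    rw [h1', h2']
    push_cast
    ring
  have hne : ((2 * (m + m' + 2) : ℕ) : k) ≠ 0 := by
    have : 2 * (m + m' + 2) ≠ 0 := by omega
    exact_mod_cast this
  have : f = ((2 * (m + m' + 2) : ℕ) : k)⁻¹ •
      ∑ i, ∑ j, fun l => (pderiv i (f j) - pderiv j (f i)) * K i j l := by
    rw [← key, smul_smul, inv_mul_cancel₀ hne, one_smul]
  rw [this]
  refine Submodule.smul_mem _ _ (Submodule.sum_mem _ fun i _ => Submodule.sum_mem _ fun j _ => ?_)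
  apply hom_mul_K_mem (by omega) hm hm'
  exact ((hf j).pderiv).sub ((hf i).pderiv)

end

end Groth.Agent.Lib.Helper4.WGauss
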