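import Mathlib.Algebra.MonoidAlgebra.Basic
import Mathlib.Algebra.Group.Subgroup.Finite
import Mathlib.Tactic

namespace Groth.Agent.Lib.Helper4.WildLefFix

open MonoidAlgebra

theorem main
    {G₁ : Type*} {G₂ : Type*} {Γ : Type*} [Group G₁] [Group G₂] [Group Γ]
    (f : G₁ →* G₂) (ρ : G₂ →* Γ) [Finite ρ.range] (A : Type*) [CommRing A] [Nontrivial A]
    (h : {x : MonoidAlgebra A ρ.range | ∀ g : G₁, MonoidAlgebra.of A ρ.range (ρ.rangeRestrict (f g)) * x = x} =
      {x : MonoidAlgebra A ρ.range | ∀ g : G₂, MonoidAlgebra.of A ρ.range (ρ.rangeRestrict g) * x = x}) :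
    (ρ.comp f).range = ρ.range := by
  classical
  let H' : Subgroup ρ.range := (ρ.rangeRestrict.comp f).range
  let x : MonoidAlgebra A ρ.range :=
    .ofCoeff (Finsupp.equivFunOnFinite.symm (fun q => if q ∈ H' then (1:A) else 0))
  have hxc : ∀ q, x.coeff q = if q ∈ H' then (1:A) else 0 := fun q => rfl
  have hx : x ∈ {x : MonoidAlgebra A ρ.range | ∀ g : G₁,
      MonoidAlgebra.of A ρ.range (ρ.rangeRestrict (f g)) * x = x} := by
    intro g
    apply MonoidAlgebra.coeff_injective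
    ext q
    rw [of_apply, coeff_single_mul_apply, one_mul, hxc, hxc]
    have hg : ρ.rangeRestrict (f g) ∈ H' := ⟨g, rfl⟩
    have : (ρ.rangeRestrict (f g))⁻¹ * q ∈ H' ↔ q ∈ H' :=
      H'.mul_mem_cancel_left (H'.inv_mem hg)
    simp only [this]
  rw [h] at hx
  apply le_antisymm
  · rintro γ ⟨g₁, rfl⟩
    exact ⟨f g₁, rfl⟩
  · rintro γ ⟨g₂, rfl⟩
    have h1 := congrArg (fun y => y.coeff (ρ.rangeRestrict g₂)) (hx g₂)
    simp only [of_apply, coeff_single_mul_apply, one_mul, inv_mul_cancel, hxc] at h1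
    rw [if_pos H'.one_mem] at h1
    by_cases hm : ρ.rangeRestrict g₂ ∈ H'
    · obtain ⟨g₁, hg₁⟩ := hm
      refine ⟨g₁, ?_⟩
      have := congrArg Subtype.val hg₁
      simpa using this
    · rw [if_neg hm] at h1
      exact absurd h1 one_ne_zero

end Groth.Agent.Lib.Helper4.WildLefFix
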