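import Mathlib
import Groth.Agent.Lib.Helper4.VerbalLaw
import Groth.Agent.Lib.Helper4.PtsExt
import Groth.Agent.Lib.Helper4.SmoothRed
import Groth.Agent.Lib.Helper4.GrpFieldSep

namespace Groth.Agent.Lib.Helper4.WordMap
open CategoryTheory MonoidalCategory CartesianMonoidalCategory MonObj AlgebraicGeometry
open Groth.Agent.Lib.Helper4.VerbalLaw Groth.Agent.Lib.Helper4.PtsExt

section General
universe v w
variable {C : Type w} [Category.{v} C] [CartesianMonoidalCategory C] (G : C) [GrpObj G]

/-- the `m`-fold power of `G` -/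
noncomputable def pw : ℕ → C
  | 0 => 𝟙_ C
  | m + 1 => G ⊗ pw m

/-- projections -/
noncomputable def proj : (m : ℕ) → Fin m → (pw G m ⟶ G)
  | 0, i => Fin.elim0 i
  | m + 1, i => Fin.cons (α := fun _ => (G ⊗ pw G m ⟶ G)) (fst G (pw G m))
      (fun j => snd G (pw G m) ≫ proj m j) i

/-- tupling -/
noncomputable def tuple {T : C} : (m : ℕ) → (Fin m → (T ⟶ G)) → (T ⟶ pw G m)
  | 0, _ => toUnit T
  | m + 1, x => lift (x 0) (tuple m (fun j => x j.succ))

lemma tuple_proj {T : C} : ∀ (m : ℕ) (x : Fin m → (T ⟶ G)) (i : Fin m),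
    tuple G m x ≫ proj G m i = x i
  | 0, _, i => Fin.elim0 i
  | m + 1, x, i => by
    refine Fin.cases ?_ (fun j => ?_) i
    · simp only [tuple, proj, Fin.cons_zero]
      exact lift_fst _ _
    · simp only [tuple, proj, Fin.cons_succ]
      exact (lift_snd_assoc _ _ _).trans (tuple_proj m _ j)

/-- precomposition as a group hom -/
def precomp {T T' : C} (u : T ⟶ T') : (T' ⟶ G) →* (T ⟶ G) where
  toFun x := u ≫ x
  map_one' := MonObj.comp_one u
  map_mul' x y := MonObj.comp_mul u x y

lemma lift_eq_precomp {T : C} (m : ℕ) (x : Fin m → (T ⟶ G)) :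
    FreeGroup.lift x = (precomp G (tuple G m x)).comp (FreeGroup.lift (proj G m)) := by
  ext i
  simp [precomp, tuple_proj]

/-- If the universal word map is trivial then the law holds in every `Hom(T, G)`. -/
lemma eval_eq_one_of_universal {T : C} (m : ℕ) (w : FreeGroup (Fin m))
    (hw : FreeGroup.lift (proj G m) w = 1) (φ : FreeGroup (Fin m) →* (T ⟶ G)) : φ w = 1 := by
  have h1 : φ = FreeGroup.lift (fun i => φ (FreeGroup.of i)) := by
    ext i; simp
  rw [h1, lift_eq_precomp, MonoidHom.comp_apply, hw, map_one]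

end General

section Field
universe u
variable (k Ω : Type u) [Field k] [Field Ω] [Algebra k Ω] [IsAlgClosed Ω]
variable (G : Over (Spec (CommRingCat.of k))) [GrpObj G] [Smooth G.hom]

instance smooth_pw : ∀ m : ℕ, Smooth (pw G m).hom
  | 0 => by
    show Smooth (𝟙_ (Over (Spec (CommRingCat.of k)))).hom
    rw [Over.tensorUnit_hom]
    haveI : IsOpenImmersion (𝟙 (Spec (CommRingCat.of k))) := inferInstance
    infer_instance
  | m + 1 => by
    show Smooth (G ⊗ pw G m).hom
    rw [Over.tensorObj_hom]
    haveI := smooth_pw m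
    infer_instance

theorem holds_of_holds_points (V : Verbal) (h : V.Holds (SpΩ k Ω ⟶ G))
    (T : Over (Spec (CommRingCat.of k))) : V.Holds (T ⟶ G) := by
  intro m φ w hw
  refine eval_eq_one_of_universal G m w ?_ φ
  haveI : IsReduced (pw G m).left := SmoothRed.isReduced_of_smooth_to_field (pw G m).hom
  haveI : IsSeparated G.hom := GrpFieldSep.isSeparated_of_field k G
  haveI : LocallyOfFiniteType (pw G m).hom := inferInstance
  refine eq_of_eq_on_points (Ω := Ω) (pw G m) G _ _ fun p => ?_
  rw [MonObj.comp_one]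
  have h2 := h m ((precomp G p).comp (FreeGroup.lift (proj G m))) w hw
  exact h2

end Field

end Groth.Agent.Lib.Helper4.WordMap
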