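import Mathlib.Combinatorics.Young.YoungDiagram
import Mathlib.Tactic

namespace Groth.Agent.Lib.Helper4.YoungEuler

theorem card_shift (μ : YoungDiagram) (a b : ℕ) :
    (μ.cells.filter (fun c => (c.1 + a, c.2 + b) ∈ μ)).card =
      (μ.cells.filter (fun c => a ≤ c.1 ∧ b ≤ c.2)).card := by
  refine Finset.card_bij (fun c _ => (c.1 + a, c.2 + b)) ?_ ?_ ?_
  · intro c hc
    rw [Finset.mem_filter] at hc ⊢
    exact ⟨hc.2, Nat.le_add_left _ _, Nat.le_add_left _ _⟩
  · intro c _ c' _ h
    simp only [Prod.mk.injEq, add_left_inj] at h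
    exact Prod.ext h.1 h.2
  · intro c hc
    rw [Finset.mem_filter] at hc
    refine ⟨(c.1 - a, c.2 - b), ?_, ?_⟩
    · rw [Finset.mem_filter]
      have h1 : (c.1 - a + a, c.2 - b + b) = c := by
        ext <;> simp [Nat.sub_add_cancel hc.2.1, Nat.sub_add_cancel hc.2.2]
      refine ⟨?_, ?_⟩
      · exact μ.up_left_mem (Nat.sub_le _ _) (Nat.sub_le _ _) ((YoungDiagram.mem_cells _).1 hc.1)
      · rw [h1]; exact (YoungDiagram.mem_cells _).1 hc.1
    · ext <;> simp [Nat.sub_add_cancel hc.2.1, Nat.sub_add_cancel hc.2.2]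

theorem main (μ : YoungDiagram) (hμ : μ ≠ ⊥) :
    μ.cells.card + (μ.cells.filter (fun c => (c.1 + 1, c.2 + 1) ∈ μ)).card =
      (μ.cells.filter (fun c => (c.1 + 1, c.2) ∈ μ)).card +
        (μ.cells.filter (fun c => (c.1, c.2 + 1) ∈ μ)).card + 1 := by
  classical
  have hD := card_shift μ 1 1
  have hA := card_shift μ 1 0
  have hB := card_shift μ 0 1
  simp only [add_zero, zero_le, true_and, and_true] at hA hB
  rw [hD, hA, hB]
  set P := μ.cells with hP
  have h1 : (P.filter (fun c => 1 ≤ c.1)).card + (P.filter (fun c => c.1 = 0)).card = P.card := by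
    rw [← Finset.card_filter_add_card_filter_not (s := P) (fun c : ℕ × ℕ => 1 ≤ c.1)]
    congr 2
    ext c; simp [Nat.lt_one_iff]
  have h2 : (P.filter (fun c => 1 ≤ c.2)).card + (P.filter (fun c => c.2 = 0)).card = P.card := by
    rw [← Finset.card_filter_add_card_filter_not (s := P) (fun c : ℕ × ℕ => 1 ≤ c.2)]
    congr 2
    ext c; simp [Nat.lt_one_iff]
  have h3 : (P.filter (fun c => 1 ≤ c.1 ∧ 1 ≤ c.2)).card +
      (P.filter (fun c => c.1 = 0 ∨ c.2 = 0)).card = P.card := by
    rw [← Finset.card_filter_add_card_filter_not (s := P) (fun c : ℕ × ℕ => 1 ≤ c.1 ∧ 1 ≤ c.2)]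
    congr 2
    ext c
    simp only [Finset.mem_filter, not_and_or, not_le, Nat.lt_one_iff]
  have h4 : (P.filter (fun c => c.1 = 0 ∨ c.2 = 0)).card +
      (P.filter (fun c => c.1 = 0 ∧ c.2 = 0)).card =
      (P.filter (fun c => c.1 = 0)).card + (P.filter (fun c => c.2 = 0)).card := by
    rw [Finset.filter_or, Finset.filter_and]
    exact Finset.card_union_add_card_inter _ _
  have h5 : (P.filter (fun c => c.1 = 0 ∧ c.2 = 0)).card = 1 := by
    have h00 : ((0, 0) : ℕ × ℕ) ∈ μ := by
      have : μ.cells.Nonempty := by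
        rw [Finset.nonempty_iff_ne_empty]
        intro h
        apply hμ
        ext c
        simp [← YoungDiagram.mem_cells, h]
      obtain ⟨c, hc⟩ := this
      exact μ.up_left_mem (Nat.zero_le _) (Nat.zero_le _) ((YoungDiagram.mem_cells _).1 hc)
    rw [Finset.card_eq_one]
    refine ⟨(0, 0), ?_⟩
    ext c
    simp only [Finset.mem_filter, Finset.mem_singleton]
    constructor
    · rintro ⟨_, h1, h2⟩
      exact Prod.ext h1 h2
    · rintro rfl
      exact ⟨(YoungDiagram.mem_cells _).2 h00, rfl, rfl⟩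
  omega

end Groth.Agent.Lib.Helper4.YoungEuler
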